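import Mathlib

/-!
Sparse integer matrices as tries of columns, for kernel computations on Chevalley bases.
-/

set_option autoImplicit false

namespace CfsgLib.Chev

/-- `List.all` by the primitive recursor (fast in the kernel). -/
noncomputable def allR {α : Type} (f : α → Bool) (l : List α) : Bool :=
  List.rec true (fun a _ ih => f a && ih) l

/-- `List.any` by the primitive recursor (fast in the kernel). -/
noncomputable def anyR {α : Type} (f : α → Bool) (l : List α) : Bool :=
  List.rec false (fun a _ ih => f a || ih) l

/-- `List.append` by the primitive recursor (fast in the kernel). -/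
noncomputable def appR {α : Type} (u v : List α) : List α :=
  List.rec v (fun a _ ih => a :: ih) u

/-- `List.map` by the primitive recursor (fast in the kernel). -/
noncomputable def mapR {α β : Type} (f : α → β) (l : List α) : List β :=
  List.rec [] (fun a _ ih => f a :: ih) l

/-- `[0, …, n - 1]` by the primitive recursor. -/
noncomputable def upto (n : ℕ) : List ℕ :=
  Nat.rec (motive := fun _ => ℕ → List ℕ) (fun _ => []) (fun _ ih k => k :: ih (k + 1)) n 0

lemma allR_eq {α : Type} (f : α → Bool) (l : List α) : allR f l = l.all f := by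
  induction l with
  | nil => rfl
  | cons a l ih => rw [List.all_cons, ← ih]; rfl

lemma allR_true {α : Type} {f : α → Bool} {l : List α} (h : allR f l = true) {a : α} (ha : a ∈ l) :
    f a = true := List.all_eq_true.1 (allR_eq f l ▸ h) a ha

lemma anyR_eq {α : Type} (f : α → Bool) (l : List α) : anyR f l = l.any f := by
  induction l with
  | nil => rfl
  | cons a l ih => rw [List.any_cons, ← ih]; rfl

lemma appR_eq {α : Type} (u v : List α) : appR u v = u ++ v := by
  induction u with
  | nil => rfl
  | cons a u ih => rw [List.cons_append, ← ih]; rfl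

lemma mapR_eq {α β : Type} (f : α → β) (l : List α) : mapR f l = l.map f := by
  induction l with
  | nil => rfl
  | cons a l ih => rw [List.map_cons, ← ih]; rfl

lemma mem_upto {n k : ℕ} (h : k < n) : k ∈ upto n := by
  have key : ∀ n m, m ≤ k → k < m + n → k ∈
      (Nat.rec (motive := fun _ => ℕ → List ℕ) (fun _ => []) (fun _ ih j => j :: ih (j + 1)) n m) := by
    intro n
    induction n with
    | zero => intro m h1 h2; omega
    | succ n ih =>
      intro m h1 h2
      rcases Nat.eq_or_lt_of_le h1 with rfl | h3
      · exact List.mem_cons_self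
      · exact List.mem_cons_of_mem _ (ih (m + 1) h3 (by omega))
  exact key n 0 (Nat.zero_le _) (by omega)

lemma allR_upto {n : ℕ} {f : ℕ → Bool} (h : allR f (upto n) = true) {k : ℕ} (hk : k < n) :
    f k = true := allR_true h (mem_upto hk)

/-! ### Sparse vectors -/

/-- A sparse vector: the sum of its terms. -/
abbrev SVec := List (ℕ × ℤ)

/-- The coefficient of a sparse vector. -/
noncomputable def coef (v : SVec) (i : ℕ) : ℤ :=
  List.rec 0 (fun p _ ih => bif Nat.beq p.1 i then p.2 + ih else ih) v

/-- Scalar multiplication. -/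
noncomputable def vsmul (c : ℤ) (v : SVec) : SVec :=
  List.rec [] (fun p _ ih => (p.1, c * p.2) :: ih) v

/-- Matrix times vector. -/
noncomputable def sapp (M : ℕ → SVec) (v : SVec) : SVec :=
  List.rec [] (fun p _ ih => appR (vsmul p.2 (M p.1)) ih) v

/-- `u - v = 0` as sparse vectors. -/
noncomputable def vEq (u v : SVec) : Bool :=
  allR (fun p => Int.beq' (coef (appR u (vsmul (-1) v)) p.1) 0) (appR u (vsmul (-1) v))

lemma coef_nil (i : ℕ) : coef [] i = 0 := rfl

lemma coef_cons (p : ℕ × ℤ) (v : SVec) (i : ℕ) :
    coef (p :: v) i = (if p.1 = i then p.2 else 0) + coef v i := by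
  show (bif Nat.beq p.1 i then p.2 + coef v i else coef v i) = _
  by_cases h : p.1 = i
  · simp [h]
  · have : Nat.beq p.1 i = false := by rw [← Bool.not_eq_true, Nat.beq_eq]; exact h
    simp [this, h]

lemma coef_append (u v : SVec) (i : ℕ) : coef (u ++ v) i = coef u i + coef v i := by
  induction u with
  | nil => simp [coef_nil]
  | cons p u ih => rw [List.cons_append, coef_cons, coef_cons, ih, add_assoc]

lemma coef_vsmul (c : ℤ) (v : SVec) (i : ℕ) : coef (vsmul c v) i = c * coef v i := by
  induction v with
  | nil => simp [vsmul, coef_nil]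
  | cons p v ih =>
    show coef ((p.1, c * p.2) :: vsmul c v) i = _
    rw [coef_cons, coef_cons, ih, mul_add]
    split_ifs <;> simp

lemma coef_sapp (M : ℕ → SVec) (v : SVec) (i : ℕ) :
    coef (sapp M v) i = (v.map fun p => p.2 * coef (M p.1) i).sum := by
  induction v with
  | nil => rfl
  | cons p v ih =>
    show coef (appR (vsmul p.2 (M p.1)) (sapp M v)) i = _
    rw [appR_eq, coef_append, coef_vsmul, ih, List.map_cons, List.sum_cons]

lemma coef_eq_zero_of_not_mem (v : SVec) (i : ℕ) (h : ∀ p ∈ v, p.1 ≠ i) : coef v i = 0 := by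
  induction v with
  | nil => rfl
  | cons p v ih =>
    rw [coef_cons, if_neg (h p (by simp)), ih fun q hq => h q (List.mem_cons_of_mem _ hq), zero_add]

lemma vEq_sound {u v : SVec} (h : vEq u v = true) (i : ℕ) : coef u i = coef v i := by
  have key : coef (u ++ vsmul (-1) v) i = 0 := by
    by_cases hm : ∃ p ∈ u ++ vsmul (-1) v, p.1 = i
    · obtain ⟨p, hp, rfl⟩ := hm
      have := allR_true h (by rw [appR_eq]; exact hp)
      rw [appR_eq] at this
      simpa [Int.beq'_eq] using this
    · push Not at hm
      exact coef_eq_zero_of_not_mem _ _ hm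
  rw [coef_append, coef_vsmul] at key
  linarith

variable {ι : Type*} [Fintype ι] [DecidableEq ι]

/-- The sum over indices of `w (e k)` weighted by a sparse vector. -/
lemma sum_coef_mul (e : ι → ℕ) (he : Function.Injective e) (v : SVec)
    (hv : ∀ p ∈ v, p.1 ∈ Set.range e) (w : ℕ → ℤ) :
    ∑ k, coef v (e k) * w (e k) = (v.map fun p => p.2 * w p.1).sum := by
  induction v with
  | nil => simp [coef_nil]
  | cons p v ih =>
    obtain ⟨k₀, hk₀⟩ := hv p (by simp)
    simp only [coef_cons, add_mul, Finset.sum_add_distrib, List.map_cons, List.sum_cons]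
    rw [ih fun q hq => hv q (List.mem_cons_of_mem _ hq)]
    congr 1
    rw [Finset.sum_eq_single k₀]
    · rw [if_pos hk₀.symm, hk₀]
    · intro b _ hb
      rw [if_neg (fun h => hb (he (hk₀.trans h).symm)), zero_mul]
    · simp

/-- The dense matrix of a sparse matrix, along an index embedding. -/
noncomputable def smat (e : ι → ℕ) (M : ℕ → SVec) : Matrix ι ι ℤ :=
  Matrix.of fun i j => coef (M (e j)) (e i)

lemma smat_mul_apply (e : ι → ℕ) (he : Function.Injective e) (A B : ℕ → SVec) (i j : ι)
    (hB : ∀ p ∈ B (e j), p.1 ∈ Set.range e) :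
    (smat e A * smat e B) i j = coef (sapp A (B (e j))) (e i) := by
  rw [coef_sapp, ← sum_coef_mul e he _ hB (fun x => coef (A x) (e i)), Matrix.mul_apply]
  exact Finset.sum_congr rfl fun k _ => by simp only [smat, Matrix.of_apply]; ring

end CfsgLib.Chev
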