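import Mathlib
import Cfsg.Prelude.Def_ChevStructure
import Cfsg.Agent.Lib.Chev.Sparse

/-!
The coefficient matrices of a root element `x_r(t)` read off a Chevalley datum.
-/

set_option autoImplicit false

namespace CfsgLib.Chev

open Cfsg.Lie

variable (D : ChevalleyDatum)

/-- Coordinates as natural numbers. -/
def ix : D.Idx → ℕ := Sum.elim (fun j => j.val) (fun u => D.rank + u.val)

lemma ix_inl (j : Fin D.rank) : ix D (Sum.inl j) = j.val := rfl

lemma ix_inr (u : Fin D.nroots) : ix D (Sum.inr u) = D.rank + u.val := rfl

lemma ix_injective : Function.Injective (ix D) := by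
  rintro (a | a) (b | b) h <;> simp only [ix_inl, ix_inr] at h
  · exact congrArg Sum.inl (Fin.ext h)
  · omega
  · omega
  · exact congrArg Sum.inr (Fin.ext (by omega))

lemma mem_range_ix {m : ℕ} (h : m < D.rank + D.nroots) : m ∈ Set.range (ix D) := by
  by_cases h1 : m < D.rank
  · exact ⟨Sum.inl ⟨m, h1⟩, rfl⟩
  · exact ⟨Sum.inr ⟨m - D.rank, by omega⟩, by rw [ix_inr]; simp only; omega⟩

/-- The `k`-th term of a chain entry, as a vector. -/
def chainTerm (k : ℕ) (e : ℕ × Array (ℕ × ℤ)) : SVec :=
  match e.2.toList[k - 1]? with
  | none => []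
  | some q => [(D.rank + q.1, q.2)]

/-- The non-zero columns of the coefficient of `t ^ k` in `x_r(t)`. -/
def rootCols (r k : ℕ) : List (ℕ × SVec) :=
  (bif Nat.beq k 1 then
      ((List.range D.rank).map fun i => (i, [(D.rank + r, - D.cartan i r)])) ++
        [(D.rank + D.neg r,
          (List.range D.rank).map fun j => (j, (D.coroot.getD r #[]).getD j 0))]
    else bif Nat.beq k 2 then [(D.rank + D.neg r, [(D.rank + r, (-1 : ℤ))])]
    else []) ++
  (D.chain.getD r #[]).toList.map fun e => (D.rank + e.1, chainTerm D k e)

/-- The columns of the coefficient matrix. -/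
noncomputable def rcol (r k j : ℕ) : SVec :=
  (((rootCols D r k).find? fun p => p.1 == j).map Prod.snd).getD []

/-- The coefficient of `t ^ k` in `x_r(t)` as an integer matrix. -/
noncomputable def rmat (r k : ℕ) : Matrix D.Idx D.Idx ℤ := smat (ix D) (rcol D r k)

/-- Shape conditions on the row `r` of a datum. -/
noncomputable def rowShapeOK (r : ℕ) : Bool :=
  Nat.blt (D.neg r) D.nroots && !Nat.beq (D.neg r) r &&
    Nat.ble (D.rank + D.nroots) 1000 &&
    decide (((D.chain.getD r #[]).toList.map Prod.fst).Nodup) &&
    (D.chain.getD r #[]).toList.all fun e =>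
      Nat.blt e.1 D.nroots && !Nat.beq e.1 r && !Nat.beq e.1 (D.neg r) &&
        Nat.ble e.2.toList.length 3 && e.2.toList.all fun q => Nat.blt q.1 D.nroots

/-- Shape conditions on a datum. -/
noncomputable def shapeOK : Bool := (List.range D.nroots).all (rowShapeOK D)

variable {D}

lemma rowShapeOK_of (h : shapeOK D = true) {r : ℕ} (hr : r < D.nroots) :
    D.neg r < D.nroots ∧ D.neg r ≠ r ∧ D.rank + D.nroots ≤ 1000 ∧
      ((D.chain.getD r #[]).toList.map Prod.fst).Nodup ∧
      ∀ e ∈ (D.chain.getD r #[]).toList, e.1 < D.nroots ∧ e.1 ≠ r ∧ e.1 ≠ D.neg r ∧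
        e.2.toList.length ≤ 3 ∧ ∀ q ∈ e.2.toList, q.1 < D.nroots := by
  have := List.all_eq_true.1 h r (List.mem_range.2 hr)
  simp only [rowShapeOK, Bool.and_eq_true, Bool.not_eq_true', List.all_eq_true, Nat.blt,
    Nat.ble_eq, ← Bool.not_eq_true, Nat.beq_eq, decide_eq_true_eq] at this
  refine ⟨by omega, this.1.1.1.2, this.1.1.2, this.1.2, fun e he => ?_⟩
  have := this.2 e he
  exact ⟨by omega, this.1.1.1.2, this.1.1.2, this.1.2, fun q hq => by have := this.2 q hq; omega⟩

lemma fst_lt_of_mem_rootCols (h : shapeOK D = true) {r : ℕ} (hr : r < D.nroots) {k : ℕ}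
    {p : ℕ × SVec} (hp : p ∈ rootCols D r k) :
    p.1 < D.rank + D.nroots ∧ ∀ q ∈ p.2, q.1 < D.rank + D.nroots := by
  obtain ⟨hneg, -, -, -, hch⟩ := rowShapeOK_of h hr
  have hchain : ∀ e ∈ (D.chain.getD r #[]).toList, D.rank + e.1 < D.rank + D.nroots ∧
      ∀ q ∈ chainTerm D k e, q.1 < D.rank + D.nroots := by
    intro e he
    obtain ⟨h1, -, -, -, h5⟩ := hch e he
    refine ⟨by omega, fun q hq => ?_⟩
    rw [chainTerm] at hq
    split at hq
    · simp at hq
    · next x hx =>
      have := h5 x (List.mem_of_getElem? hx)
      obtain rfl := List.mem_singleton.1 hq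
      simp only
      omega
  rw [rootCols, List.mem_append] at hp
  rcases hp with hp | hp
  · cases hk : Nat.beq k 1
    · cases hk2 : Nat.beq k 2
      · simp [hk, hk2] at hp
      · simp [hk, hk2] at hp
        subst hp
        refine ⟨by omega, fun q hq => ?_⟩
        obtain rfl := List.mem_singleton.1 hq
        simp only
        omega
    · simp [hk] at hp
      rcases hp with ⟨i, hi, rfl⟩ | rfl
      · refine ⟨by simp only; omega, fun q hq => ?_⟩
        obtain rfl := List.mem_singleton.1 hq
        simp only
        omega
      · refine ⟨by simp only; omega, fun q hq => ?_⟩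
        simp only [List.mem_map, List.mem_range] at hq
        obtain ⟨j, hj, rfl⟩ := hq
        simp only
        omega
  · obtain ⟨e, he, rfl⟩ := List.mem_map.1 hp
    exact hchain e he

lemma rcol_lt (h : shapeOK D = true) {r : ℕ} (hr : r < D.nroots) (k j : ℕ) :
    ∀ q ∈ rcol D r k j, q.1 ∈ Set.range (ix D) := by
  intro q hq
  rw [rcol] at hq
  cases hf : (rootCols D r k).find? fun p => p.1 == j with
  | none => simp [hf] at hq
  | some p =>
    simp [hf] at hq
    exact mem_range_ix D ((fst_lt_of_mem_rootCols h hr (List.mem_of_find?_eq_some hf)).2 q hq)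

lemma find_map_shift (L : List (ℕ × Array (ℕ × ℤ))) (k s : ℕ) :
    ((L.map fun e => (D.rank + e.1, chainTerm D k e)).find? fun p => p.1 == D.rank + s) =
      (L.find? fun e => e.1 == s).map fun e => (D.rank + e.1, chainTerm D k e) := by
  induction L with
  | nil => rfl
  | cons e L ih =>
    simp only [List.map_cons, List.find?_cons, ih]
    by_cases he : e.1 = s
    · simp [he]
    · have h1 : (e.1 == s) = false := by simp [he]
      have h2 : (D.rank + e.1 == D.rank + s) = false := by simp [he]
      simp [h1, h2]

lemma find_map_shift_none (L : List (ℕ × Array (ℕ × ℤ))) (k j : ℕ) (hj : j < D.rank) :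
    ((L.map fun e => (D.rank + e.1, chainTerm D k e)).find? fun p => p.1 == j) = none := by
  rw [List.find?_eq_none]
  intro p hp
  obtain ⟨e, -, rfl⟩ := List.mem_map.1 hp
  simp only [beq_iff_eq]
  omega

/-- Evaluation of a chain at `u`. -/
lemma chainCoeff_eq (h : shapeOK D = true) {r : ℕ} (hr : r < D.nroots) (s : ℕ) {F : Type*}
    [Field F] (t : F) (u : ℕ) :
    ((D.chainCoeff r s u).map fun km => ((km.2 : ℤ) : F) * t ^ km.1).sum =
      match (D.chain.getD r #[]).toList.find? fun e => e.1 == s with
      | none => 0
      | some e => (coef (chainTerm D 1 e) (D.rank + u) : F) * t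
          + (coef (chainTerm D 2 e) (D.rank + u) : F) * t ^ 2
          + (coef (chainTerm D 3 e) (D.rank + u) : F) * t ^ 3 := by
  obtain ⟨-, -, -, hnd, hch⟩ := rowShapeOK_of h hr
  set L := (D.chain.getD r #[]).toList with hL
  have hfil : L.filter (fun e => decide (e.1 = s)) =
      (L.find? fun e => e.1 == s).toList := by
    clear hch hL
    clear_value L
    induction L with
    | nil => rfl
    | cons e L ih =>
      simp only [List.map_cons, List.nodup_cons] at hnd
      by_cases he : e.1 = s
      · subst he
        rw [List.filter_cons_of_pos (by simp), List.find?_cons_of_pos (by simp)]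
        have : L.filter (fun x => decide (x.1 = e.1)) = [] := by
          rw [List.filter_eq_nil_iff]
          intro x hx
          rw [decide_eq_true_eq]
          intro hxe
          exact hnd.1 (List.mem_map.2 ⟨x, hx, hxe⟩)
        rw [this]
        rfl
      · rw [List.filter_cons_of_neg (by simp [he]), List.find?_cons_of_neg (by simp [he]),
          ih hnd.2]
  rw [ChevalleyDatum.chainCoeff, ← hL, hfil]
  cases hf : L.find? fun e => e.1 == s with
  | none => simp
  | some e =>
    obtain ⟨-, -, -, hlen, -⟩ := hch e (List.mem_of_find?_eq_some hf)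
    simp only [Option.toList_some, List.flatMap_cons, List.flatMap_nil, List.append_nil]
    rcases he : e.2.toList with _ | ⟨a, _ | ⟨b, _ | ⟨c, _ | ⟨d, l'⟩⟩⟩⟩
    · simp [chainTerm, he, coef_nil]
    · by_cases ha : a.1 = u <;> simp [chainTerm, he, coef_cons, coef_nil, ha]
    · by_cases ha : a.1 = u <;> by_cases hb : b.1 = u <;>
        simp [chainTerm, he, coef_cons, coef_nil, ha, hb]
    · by_cases ha : a.1 = u <;> by_cases hb : b.1 = u <;> by_cases hc : c.1 = u <;>
        simp [chainTerm, he, coef_cons, coef_nil, ha, hb, hc] <;> ring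
    · rw [he] at hlen
      simp only [List.length_cons] at hlen
      omega

lemma find_range_map (f : ℕ → SVec) {n j : ℕ} (hj : j < n) :
    ((List.range n).map fun i => (i, f i)).find? (fun p => p.1 == j) = some (j, f j) := by
  induction n with
  | zero => omega
  | succ m ih =>
    rw [List.range_succ, List.map_append, List.find?_append]
    rcases Nat.lt_or_ge j m with hlt | hge
    · rw [ih hlt]; rfl
    · obtain rfl : j = m := by omega
      have : ((List.range j).map fun i => (i, f i)).find? (fun p => p.1 == j) = none := by
        rw [List.find?_eq_none]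
        intro p hp
        obtain ⟨i, hi, rfl⟩ := List.mem_map.1 hp
        have := List.mem_range.1 hi
        simp only [beq_iff_eq]
        omega
      rw [this]
      simp

/-- The column of a fundamental coroot. -/
lemma rcol_coroot (h : shapeOK D = true) {r : ℕ} (hr : r < D.nroots) {k : ℕ} (hk : k ∈ [1, 2, 3])
    {j : ℕ} (hj : j < D.rank) :
    rcol D r k j = if k = 1 then [(D.rank + r, - D.cartan j r)] else [] := by
  have hnone : (D.rank + D.neg r == j) = false := by simp; omega
  rw [rcol]
  simp only [List.mem_cons, List.not_mem_nil, or_false] at hk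
  rcases hk with rfl | rfl | rfl <;>
    simp [rootCols, List.find?_append, find_map_shift_none _ _ _ hj, hnone, find_range_map _ hj,
      show Nat.beq 2 1 = false from rfl, show Nat.beq 3 1 = false from rfl, show Nat.beq 3 2 = false from rfl]

/-- The column of a root. -/
lemma rcol_root (h : shapeOK D = true) {r : ℕ} (hr : r < D.nroots) {k : ℕ} (hk : k ∈ [1, 2, 3])
    (s : ℕ) :
    rcol D r k (D.rank + s) =
      if s = D.neg r then
        (if k = 1 then (List.range D.rank).map fun j => (j, (D.coroot.getD r #[]).getD j 0)
         else if k = 2 then [(D.rank + r, (-1 : ℤ))] else [])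
      else
        match (D.chain.getD r #[]).toList.find? fun e => e.1 == s with
        | none => []
        | some e => chainTerm D k e := by
  obtain ⟨-, -, -, -, hch⟩ := rowShapeOK_of h hr
  rw [rcol]
  have hnone : ((List.range D.rank).map fun i => (i, [(D.rank + r, -D.cartan i r)])).find?
      (fun p => p.1 == D.rank + s) = none := by
    rw [List.find?_eq_none]
    intro p hp
    obtain ⟨i, hi, rfl⟩ := List.mem_map.1 hp
    have := List.mem_range.1 hi
    simp only [beq_iff_eq]
    omega
  simp only [List.mem_cons, List.not_mem_nil, or_false] at hk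
  by_cases hs : s = D.neg r
  · have hch0 : (D.chain.getD r #[]).toList.find? (fun e => e.1 == s) = none := by
      rw [List.find?_eq_none]
      intro e he
      simp only [beq_iff_eq, hs]
      exact (hch e he).2.2.1
    subst hs
    rw [if_pos rfl, rootCols, List.find?_append, find_map_shift, hch0]
    rcases hk with rfl | rfl | rfl <;> simp [List.find?_append, hnone,
      show Nat.beq 2 1 = false from rfl, show Nat.beq 3 1 = false from rfl, show Nat.beq 3 2 = false from rfl]
  · have h2 : (D.rank + D.neg r == D.rank + s) = false := by simp; omega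
    rw [if_neg hs, rootCols, List.find?_append, find_map_shift]
    cases hf : (D.chain.getD r #[]).toList.find? fun e => e.1 == s with
    | none => rcases hk with rfl | rfl | rfl <;> simp [List.find?_append, hnone, h2,
        show Nat.beq 2 1 = false from rfl, show Nat.beq 3 1 = false from rfl, show Nat.beq 3 2 = false from rfl]
    | some e => rcases hk with rfl | rfl | rfl <;> simp [List.find?_append, hnone, h2,
        show Nat.beq 2 1 = false from rfl, show Nat.beq 3 1 = false from rfl, show Nat.beq 3 2 = false from rfl]

lemma coef_range_map (f : ℕ → ℤ) (n m : ℕ) :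
    coef ((List.range n).map fun j => (j, f j)) m = if m < n then f m else 0 := by
  induction n with
  | zero => simp [coef_nil]
  | succ n ih =>
    rw [List.range_succ, List.map_append, coef_append, ih, List.map_singleton, coef_cons,
      coef_nil]
    by_cases h1 : m < n
    · rw [if_pos h1, if_neg (by omega), if_pos (by omega)]; ring
    · by_cases h2 : n = m
      · subst h2; rw [if_neg h1, if_pos rfl, if_pos (by omega)]; ring
      · rw [if_neg h1, if_neg h2, if_neg (by omega)]; ring

lemma coef_chainTerm_lt (k : ℕ) (e : ℕ × Array (ℕ × ℤ)) {m : ℕ} (hm : m < D.rank) :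
    coef (chainTerm D k e) m = 0 := by
  refine coef_eq_zero_of_not_mem _ _ fun q hq => ?_
  rw [chainTerm] at hq
  split at hq
  · simp at hq
  · obtain rfl := List.mem_singleton.1 hq
    simp only
    omega

lemma one_apply_cast {ι : Type*} [DecidableEq ι] {R : Type*} [NonAssocRing R] (i j : ι) :
    (1 : Matrix ι ι R) i j = if i = j then 1 else 0 := Matrix.one_apply

/-- `x_r(t) = 1 + t A₁ + t² A₂ + t³ A₃`. -/
theorem x_eq (h : shapeOK D = true) {r : ℕ} (hr : r < D.nroots) {F : Type*} [Field F] (t : F) :
    D.x F r t = 1 + t • (rmat D r 1).map (Int.cast : ℤ → F)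
      + t ^ 2 • (rmat D r 2).map (Int.cast : ℤ → F) + t ^ 3 • (rmat D r 3).map (Int.cast : ℤ → F) := by
  obtain ⟨hneg, hne, -, -, hch⟩ := rowShapeOK_of h hr
  rw [ChevalleyDatum.x, dif_pos hr]
  ext i j
  simp only [Matrix.add_apply, Matrix.smul_apply, Matrix.map_apply, rmat, smat, Matrix.of_apply,
    smul_eq_mul, ChevalleyDatum.xMat, one_apply_cast]
  rcases j with j | s
  · simp only [ix_inl, rcol_coroot h hr (k := 1) (by simp) j.2,
      rcol_coroot h hr (k := 2) (by simp) j.2, rcol_coroot h hr (k := 3) (by simp) j.2]
    rcases i with i | u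
    · simp only [ix_inl, Sum.inl.injEq, coef_cons, coef_nil, if_true, if_neg (show ¬ (2 = 1) by omega),
        if_neg (show ¬ (3 = 1) by omega), if_neg (show ¬ (D.rank + r = i.val) by omega)]
      simp
    · simp only [ix_inr, if_true, if_neg (show ¬ (2 = 1) by omega),
        if_neg (show ¬ (3 = 1) by omega), coef_cons, coef_nil, reduceCtorEq, if_false]
      by_cases hu : u = ⟨r, hr⟩
      · subst hu
        simp [ChevalleyDatum.cartan]
        ring
      · have : ¬ (r = u.val) := fun hc => hu (Fin.ext hc.symm)
        simp [hu, this]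
  · simp only [ix_inr, rcol_root h hr (k := 1) (by simp), rcol_root h hr (k := 2) (by simp),
      rcol_root h hr (k := 3) (by simp), if_true, if_neg (show ¬ (2 = 1) by omega),
      if_neg (show ¬ (3 = 1) by omega), if_neg (show ¬ (3 = 2) by omega)]
    by_cases hsn : s.val = D.neg r
    · have hsr : s ≠ ⟨r, hr⟩ := fun hc => hne (by rw [← hsn, hc])
      have hsn' : s.val = D.negIdx.getD r 0 := hsn
      simp only [if_pos hsn, if_pos hsn', if_neg hsr]
      rcases i with i | u
      · simp [ix_inl, coef_range_map, coef_cons, coef_nil, show ¬ (D.rank + r = i.val) by omega]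
        ring
      · simp only [ix_inr, Sum.inr.injEq, coef_range_map, coef_cons, coef_nil,
          if_neg (show ¬ (D.rank + u.val < D.rank) by omega)]
        by_cases hu : u = s
        · subst hu
          have : ¬ (r = u.val) := fun hc => hne (by rw [← hsn, hc])
          simp [this]
        · by_cases hur : u = ⟨r, hr⟩
          · subst hur
            simp [hu]
          · have : ¬ (r = u.val) := fun hc => hur (Fin.ext hc.symm)
            simp [hu, hur, this]
    · have hsn' : ¬ (s.val = D.negIdx.getD r 0) := hsn
      simp only [if_neg hsn, if_neg hsn']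
      by_cases hsr : s = ⟨r, hr⟩
      · have hch0 : (D.chain.getD r #[]).toList.find? (fun e => e.1 == s.val) = none := by
          rw [List.find?_eq_none]
          intro e he
          simp only [beq_iff_eq, hsr]
          exact (hch e he).2.1
        rw [if_pos hsr, hch0]
        subst hsr
        rcases i with i | u <;> simp [coef_nil]
      · rw [if_neg hsr]
        rcases i with i | u
        · simp only [ix_inl, reduceCtorEq, if_false]
          cases hf : (D.chain.getD r #[]).toList.find? fun e => e.1 == s.val with
          | none => simp [coef_nil]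
          | some e => simp [coef_chainTerm_lt _ _ i.2]
        · simp only [ix_inr, Sum.inr.injEq]
          rw [chainCoeff_eq h hr]
          cases hf : (D.chain.getD r #[]).toList.find? fun e => e.1 == s.val with
          | none => simp [coef_nil]
          | some e =>
            simp only
            ring

end CfsgLib.Chev
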