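import Mathlib
import Cfsg.Agent.Lib.Chev.RootMat

/-!
Kernel-fast access to the tables of a Chevalley datum: arrays are packed into natural numbers.
-/

set_option autoImplicit false

namespace CfsgLib.Chev

open Cfsg.Lie

/-- `List.getD` by the primitive recursor. -/
noncomputable def nth {α : Type} (d : α) (l : List α) : ℕ → α :=
  List.rec (fun _ => d) (fun a _ ih k => bif Nat.beq k 0 then a else ih (k - 1)) l

lemma nth_eq {α : Type} (d : α) (l : List α) : ∀ k, nth d l k = l.getD k d := by
  induction l with
  | nil => intro k; simp [nth]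
  | cons a l ih =>
    intro k
    show (bif Nat.beq k 0 then a else nth d l (k - 1)) = _
    cases k with
    | zero => simp
    | succ k => simp [Nat.beq, ih]

lemma nth_toList {α : Type} (d : α) (a : Array α) (k : ℕ) : nth d a.toList k = a.getD k d := by
  rw [nth_eq]
  simp [List.getD_eq_getElem?_getD]

/-- The `j`-th digit of width `w`. -/
noncomputable def slot (w P j : ℕ) : ℕ := (P >>> (w * j)) % 2 ^ w

/-- Biased code of an integer. -/
noncomputable def zcode (z : ℤ) : ℕ := (z + 32768).toNat

/-- Inverse of `zcode`. -/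
noncomputable def zdec (n : ℕ) : ℤ := Int.ofNat n - 32768

/-- The code of an integer is faithful. -/
noncomputable def zOK (z : ℤ) : Bool := decide (-32768 ≤ z ∧ z < 32768)

/-- Pack a list of integers. -/
noncomputable def packList (l : List ℤ) : ℕ :=
  List.rec 0 (fun a _ ih => (zcode a % 65536) ||| (ih <<< 16)) l

lemma zdec_zcode {z : ℤ} (h : zOK z = true) : zdec (zcode z % 65536) = z := by
  simp only [zOK, decide_eq_true_eq] at h
  rw [Nat.mod_eq_of_lt (by simp [zcode]; omega), zdec, zcode, Int.ofNat_eq_natCast]
  omega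

lemma slot_packList : ∀ (l : List ℤ) (k : ℕ),
    slot 16 (packList l) k = (l.map fun a => zcode a % 65536).getD k 0 := by
  intro l
  induction l with
  | nil => intro k; simp [packList, slot]
  | cons a l ih =>
    intro k
    show slot 16 ((zcode a % 65536) ||| (packList l <<< 16)) k = _
    have ha : zcode a % 65536 < 2 ^ 16 := Nat.mod_lt _ (by norm_num)
    rw [slot, Nat.shiftRight_or_distrib]
    cases k with
    | zero =>
      simp only [Nat.mul_zero, Nat.shiftRight_zero, List.map_cons, List.getD_cons_zero]
      rw [Nat.or_mod_two_pow, Nat.shiftLeft_eq, Nat.mul_mod_left, Nat.or_zero, Nat.mod_eq_of_lt ha]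
    | succ k =>
      rw [List.map_cons, List.getD_cons_succ, ← ih]
      have h1 : (zcode a % 65536) >>> (16 * (k + 1)) = 0 := by
        rw [Nat.shiftRight_eq_div_pow]
        exact Nat.div_eq_of_lt (lt_of_lt_of_le ha (Nat.pow_le_pow_right (by norm_num) (by omega)))
      rw [h1, Nat.zero_or, slot]
      congr 1
      rw [show 16 * (k + 1) = 16 + 16 * k by ring, Nat.shiftRight_add, Nat.shiftLeft_shiftRight]

variable (D : ChevalleyDatum)

/-- A row of the Cartan table, packed. -/
noncomputable def cartanPack (i : ℕ) : ℕ := packList (nth #[] D.cartanSR.toList i).toList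

/-- The Cartan integer `A(p_i, s)`. -/
noncomputable def fcartan (i s : ℕ) : ℤ := zdec (slot 16 (cartanPack D i) s)

/-- The coroot coefficient. -/
noncomputable def fcoroot (r j : ℕ) : ℤ := nth 0 (nth #[] D.coroot.toList r).toList j

/-- The opposite root. -/
noncomputable def fneg (r : ℕ) : ℕ := D.nroots - 1 - r

/-- The code of a chain term. -/
noncomputable def termCode (k : ℕ) (e : ℕ × Array (ℕ × ℤ)) : ℕ :=
  List.rec 0 (fun q _ _ => (q.1 + 1) * 16 + ((q.2 + 8).toNat % 16))
    (bif Nat.beq k 1 then e.2.toList
      else bif Nat.beq k 2 then e.2.toList.tail else e.2.toList.tail.tail)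

/-- The chain row of `r`, packed by key. -/
noncomputable def chainPack (r k : ℕ) : ℕ :=
  List.rec 0 (fun e _ ih => ((termCode k e % 65536) <<< (16 * e.1)) ||| ih)
    (nth #[] D.chain.toList r).toList

/-- Decode a chain term. -/
noncomputable def termDec (c : ℕ) : SVec :=
  bif Nat.beq c 0 then [] else [(D.rank + (c / 16 - 1), Int.ofNat (c % 16) - 8)]

/-- The columns, computed quickly. -/
noncomputable def fcol (r k j : ℕ) : SVec :=
  bif Nat.blt j D.rank then
    (bif Nat.beq k 1 then [(D.rank + r, - fcartan D j r)] else [])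
  else bif Nat.beq (j - D.rank) (fneg D r) then
    (bif Nat.beq k 1 then mapR (fun i => (i, fcoroot D r i)) (upto D.rank)
     else bif Nat.beq k 2 then [(D.rank + r, (-1 : ℤ))] else [])
  else termDec D (slot 16 (chainPack D r k) (j - D.rank))

/-- The tables can be packed. -/
noncomputable def packOK : Bool :=
  allR (fun i => let row := (nth #[] D.cartanSR.toList i).toList
    Nat.ble D.nroots row.length && allR zOK row) (upto D.rank) &&
  allR (fun r => Nat.beq (nth 0 D.negIdx.toList r) (fneg D r) &&
    allR (fun e : ℕ × Array (ℕ × ℤ) =>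
      allR (fun q : ℕ × ℤ => Nat.blt q.1 4000 && decide (-8 ≤ q.2 ∧ q.2 < 8)) e.2.toList)
      (nth #[] D.chain.toList r).toList) (upto D.nroots)

variable {D}

lemma cartan_eq (h : packOK D = true) {i s : ℕ} (hi : i < D.rank) (hs : s < D.nroots) :
    D.cartan i s = fcartan D i s := by
  rw [packOK, Bool.and_eq_true] at h
  have h' := allR_upto h.1 hi
  simp only [Bool.and_eq_true, Nat.ble_eq] at h'
  have hlen : s < (nth #[] D.cartanSR.toList i).toList.length := by omega
  rw [fcartan, cartanPack, slot_packList, ChevalleyDatum.cartan, ← nth_toList, ← nth_toList, nth_eq 0,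
    List.getD_eq_getElem _ 0 hlen,
    List.getD_eq_getElem _ 0 (by rw [List.length_map]; exact hlen), List.getElem_map]
  exact (zdec_zcode (allR_true h'.2 (List.getElem_mem hlen))).symm

lemma coroot_eq (r j : ℕ) : (D.coroot.getD r #[]).getD j 0 = fcoroot D r j := by
  rw [fcoroot, nth_toList, nth_toList]

lemma neg_eq (h : packOK D = true) {r : ℕ} (hr : r < D.nroots) : D.neg r = fneg D r := by
  rw [packOK, Bool.and_eq_true] at h
  have h' := allR_upto h.2 hr
  simp only [Bool.and_eq_true, Nat.beq_eq] at h'
  rw [ChevalleyDatum.neg, ← nth_toList, h'.1]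

lemma slot_pack_sparse {α : Type} (key : α → ℕ) (c : α → ℕ) : ∀ (L : List α),
    (L.map key).Nodup → (∀ e ∈ L, c e < 2 ^ 16) → ∀ s,
    slot 16 (List.rec 0 (fun e _ ih => (c e <<< (16 * key e)) ||| ih) L) s =
      match L.find? fun e => key e == s with
      | none => 0
      | some e => c e := by
  intro L
  induction L with
  | nil => intro _ _ s; simp [slot]
  | cons e L ih =>
    intro hnd hc s
    simp only [List.map_cons, List.nodup_cons] at hnd
    have hlt := hc e (by simp)
    show slot 16 ((c e <<< (16 * key e)) |||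
      (List.rec 0 (fun e _ ih => (c e <<< (16 * key e)) ||| ih) L)) s = _
    have ihs := ih hnd.2 (fun x hx => hc x (List.mem_cons_of_mem _ hx)) s
    simp only [slot] at ihs ⊢
    rw [Nat.shiftRight_or_distrib, Nat.or_mod_two_pow, ihs]
    by_cases hs : key e = s
    · subst hs
      have hnone : L.find? (fun x => key x == key e) = none := by
        rw [List.find?_eq_none]
        intro x hx
        simp only [beq_iff_eq]
        exact fun hxe => hnd.1 (List.mem_map.2 ⟨x, hx, hxe⟩)
      rw [hnone, List.find?_cons_of_pos (by simp), Nat.shiftLeft_shiftRight, Nat.mod_eq_of_lt hlt,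
        Nat.or_zero]
    · rw [List.find?_cons_of_neg (by simp [hs])]
      have hz : ((c e <<< (16 * key e)) >>> (16 * s)) % 2 ^ 16 = 0 := by
        rw [Nat.shiftLeft_eq, Nat.shiftRight_eq_div_pow]
        rcases Nat.lt_or_ge (key e) s with hlt' | hge
        · have : c e * 2 ^ (16 * key e) < 2 ^ (16 * s) := by
            calc c e * 2 ^ (16 * key e) < 2 ^ 16 * 2 ^ (16 * key e) :=
                  Nat.mul_lt_mul_of_pos_right hlt (by positivity)
              _ ≤ 2 ^ (16 * s) := by
                  rw [← pow_add]; exact Nat.pow_le_pow_right (by norm_num) (by omega)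
          rw [Nat.div_eq_of_lt this]
          simp
        · rw [show 16 * key e = 16 * (key e - s - 1) + 16 + 16 * s by omega, pow_add, pow_add,
            ← mul_assoc, Nat.mul_div_cancel _ (by positivity), ← mul_assoc, Nat.mul_mod_left]
      rw [hz, Nat.zero_or]

lemma chainTerm_eq (h : packOK D = true) {r : ℕ} (hr : r < D.nroots) {k : ℕ} (hk : k ∈ [1, 2, 3])
    {e : ℕ × Array (ℕ × ℤ)} (he : e ∈ (D.chain.getD r #[]).toList) :
    termDec D (termCode k e % 65536) = chainTerm D k e := by
  rw [packOK, Bool.and_eq_true] at h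
  have h' := allR_upto h.2 hr
  rw [Bool.and_eq_true, nth_toList #[] D.chain] at h'
  have hq : ∀ q ∈ e.2.toList, q.1 < 4000 ∧ (-8 ≤ q.2 ∧ q.2 < 8) := by
    intro q hq
    have := allR_true (allR_true h'.2 he) hq
    simpa [Nat.blt, Nat.ble_eq, Nat.succ_le_iff] using this
  have key : ∀ (l : List (ℕ × ℤ)), (∀ q ∈ l, q ∈ e.2.toList) →
      termDec D ((List.rec 0 (fun q _ _ => (q.1 + 1) * 16 + ((q.2 + 8).toNat % 16)) l) % 65536) =
        (match l.head? with | none => [] | some q => [(D.rank + q.1, q.2)]) := by
    intro l hl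
    cases l with
    | nil => rfl
    | cons q l =>
      obtain ⟨h1, h2, h3⟩ := hq q (hl q (by simp))
      have hlt : (q.1 + 1) * 16 + ((q.2 + 8).toNat % 16) < 65536 := by omega
      simp only [List.head?_cons]
      rw [Nat.mod_eq_of_lt hlt, termDec,
        show Nat.beq ((q.1 + 1) * 16 + ((q.2 + 8).toNat % 16)) 0 = false by
          rw [← Bool.not_eq_true, Nat.beq_eq]; omega, cond_false]
      rw [show ((q.1 + 1) * 16 + ((q.2 + 8).toNat % 16)) / 16 - 1 = q.1 by omega,
        show (Int.ofNat (((q.1 + 1) * 16 + ((q.2 + 8).toNat % 16)) % 16) : ℤ) - 8 = q.2 by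
          rw [Int.ofNat_eq_natCast]; omega]
  simp only [List.mem_cons, List.not_mem_nil, or_false] at hk
  rw [chainTerm, termCode]
  rcases hk with rfl | rfl | rfl
  · rw [show Nat.beq 1 1 = true from rfl, cond_true, key _ (fun q hq => hq)]
    rcases e.2.toList with _ | ⟨a, l⟩ <;> simp
  · rw [show Nat.beq 2 1 = false from rfl, show Nat.beq 2 2 = true from rfl, cond_false, cond_true,
      key _ (fun q hq => List.mem_of_mem_tail hq)]
    rcases e.2.toList with _ | ⟨a, _ | ⟨b, l⟩⟩ <;> simp
  · rw [show Nat.beq 3 1 = false from rfl, show Nat.beq 3 2 = false from rfl, cond_false, cond_false,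
      key _ (fun q hq => List.mem_of_mem_tail (List.mem_of_mem_tail hq))]
    rcases e.2.toList with _ | ⟨a, _ | ⟨b, _ | ⟨c, l⟩⟩⟩ <;> simp

/-- `fcol` computes the columns. -/
lemma rcol_eq_fcol (hs : shapeOK D = true) (h : packOK D = true) {r : ℕ} (hr : r < D.nroots)
    {k : ℕ} (hk : k ∈ [1, 2, 3]) (j : ℕ) :
    rcol D r k j = fcol D r k j := by
  rw [fcol]
  by_cases hj : j < D.rank
  · rw [show Nat.blt j D.rank = true by simpa [Nat.blt, Nat.ble_eq] using hj, cond_true,
      rcol_coroot hs hr hk hj, cartan_eq h hj hr]
    simp only [List.mem_cons, List.not_mem_nil, or_false] at hk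
    rcases hk with rfl | rfl | rfl <;> rfl
  · rw [show Nat.blt j D.rank = false by
        rw [← Bool.not_eq_true]; simpa [Nat.blt, Nat.ble_eq] using hj, cond_false]
    obtain ⟨s, rfl⟩ : ∃ s, j = D.rank + s := ⟨j - D.rank, by omega⟩
    rw [rcol_root hs hr hk, neg_eq h hr, Nat.add_sub_cancel_left]
    by_cases hsn : s = fneg D r
    · subst hsn
      rw [if_pos rfl, show Nat.beq (fneg D r) (fneg D r) = true by rw [Nat.beq_eq], cond_true]
      have hup : upto D.rank = List.range D.rank := by
        have key : ∀ n m, (Nat.rec (motive := fun _ => ℕ → List ℕ) (fun _ => [])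
            (fun _ ih j => j :: ih (j + 1)) n m) = List.range' m n := by
          intro n
          induction n with
          | zero => intro m; rfl
          | succ n ih => intro m; show m :: _ = _; rw [ih]; rfl
        rw [List.range_eq_range']
        exact key _ _
      simp only [List.mem_cons, List.not_mem_nil, or_false] at hk
      rcases hk with rfl | rfl | rfl
      · simp only [if_true, show Nat.beq 1 1 = true from rfl, cond_true, mapR_eq, hup]
        exact List.map_congr_left fun a _ => by rw [coroot_eq]
      · rfl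
      · rfl
    · rw [if_neg hsn, show Nat.beq s (fneg D r) = false by
        rw [← Bool.not_eq_true, Nat.beq_eq]; exact hsn, cond_false]
      obtain ⟨-, -, -, hnd, -⟩ := rowShapeOK_of hs hr
      rw [chainPack, nth_toList, slot_pack_sparse Prod.fst (fun e => termCode k e % 65536) _ hnd
        fun e _ => Nat.mod_lt _ (by norm_num)]
      cases hf : (D.chain.getD r #[]).toList.find? fun e => e.1 == s with
      | none => rfl
      | some e => exact (chainTerm_eq h hr hk (List.mem_of_find?_eq_some hf)).symm

end CfsgLib.Chev
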