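import Mathlib
import Cfsg.Agent.Lib.Chev.Pack

/-!
Boolean checks on a Chevalley datum that imply that its table describes a Lie algebra.
-/

set_option autoImplicit false

namespace CfsgLib.Chev

open Cfsg.Lie

/-- Auxiliary tables: root coordinates, decompositions of positive roots, and generation of the
module from the highest root vector. -/
structure LieData where
  /-- coordinates of the roots on the fundamental roots -/
  co : List (List ℤ)
  /-- indices of the fundamental roots -/
  simples : List ℕ
  /-- `(y, i, z)` with `y = p_i + z` for every positive non-fundamental root `y` -/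
  dec : List (ℕ × ℕ × ℕ)
  /-- `(b, i, a)`: basis vector `b` is obtained from `a` by `ad e_{-p_i}` -/
  gen : List (ℕ × ℕ × ℕ)

variable (D : ChevalleyDatum) (dat : LieData)

/-- Number of positive roots. -/
def half : ℕ := D.nroots / 2

/-- Number of coordinates. -/
def dimL : ℕ := D.rank + D.nroots

/-- The fundamental root `p_i`. -/
noncomputable def fsimple (i : ℕ) : ℕ := nth 0 dat.simples i

/-- Height of a root. -/
noncomputable def rootHt (u : ℕ) : ℤ := List.rec 0 (fun a _ ih => a + ih) (nth [] dat.co u)

/-- A column of `ad` of a basis vector. -/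
noncomputable def basisCol (m j : ℕ) : SVec :=
  bif Nat.blt m D.rank then
    (bif Nat.blt j D.rank then [] else [(j, fcartan D m (j - D.rank))])
  else fcol D (m - D.rank) 1 j

/-- A column of `ad` of a vector. -/
noncomputable def adCol (w : SVec) (j : ℕ) : SVec :=
  List.rec [] (fun p _ ih => appR (vsmul p.2 (basisCol D p.1 j)) ih) w

/-- A column of a commutator. -/
noncomputable def commCol (A B : ℕ → SVec) (j : ℕ) : SVec :=
  appR (sapp A (B j)) (vsmul (-1) (sapp B (A j)))

/-- The basis permutation induced by `r ↦ -r`. -/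
noncomputable def negIndex (m : ℕ) : ℕ :=
  bif Nat.blt m D.rank then m else D.rank + fneg D (m - D.rank)

/-- Weight coordinate of a basis vector. -/
noncomputable def fweight (m i : ℕ) : ℤ :=
  bif Nat.blt m D.rank then 0 else fcartan D i (m - D.rank)

/-- Orientation of the roots. -/
noncomputable def halfOK : Bool :=
  Nat.beq D.nroots (2 * half D) && Nat.blt 0 (half D) &&
  allR (fun r => decide (D.IsPosRoot r) == Nat.ble (half D) r &&
    decide (D.IsNegRoot r) == Nat.blt r (half D) &&
    (Nat.blt r (half D) || decide (1 ≤ rootHt dat r))) (upto D.nroots) &&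
  allR (fun i => Nat.beq (nth 0 D.simpleIdx.toList i) (fsimple dat i) &&
    Nat.ble (half D) (fsimple dat i) && Nat.blt (fsimple dat i) D.nroots &&
      decide (rootHt dat (fsimple dat i) = 1)) (upto D.rank)

/-- The symmetry `r ↦ -r`. -/
noncomputable def thetaRow (u : ℕ) : Bool :=
  allR (fun j => vEq (mapR (fun p : ℕ × ℤ => (negIndex D p.1, p.2)) (fcol D u 1 (negIndex D j)))
      (vsmul (-1) (fcol D (fneg D u) 1 j))) (upto (dimL D))

/-- `theta` on coroots. -/
noncomputable def thetaCartan : Bool :=
  allR (fun i => allR (fun u => Int.beq' (fcartan D i (fneg D u)) (- fcartan D i u))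
    (upto D.nroots)) (upto D.rank)

/-- Root vectors have the correct weight. -/
noncomputable def weightRow (u : ℕ) : Bool :=
  allR (fun j => allR (fun p : ℕ × ℤ => Int.beq' p.2 0 ||
      allR (fun i => Int.beq' (fweight D p.1 i) (fweight D j i + fcartan D i u)) (upto D.rank))
    (fcol D u 1 j)) (upto (dimL D))

/-- Supports of the columns of the generators. -/
noncomputable def supportOK : Bool :=
  allR (fun i => allR (fun y' =>
    allR (fun p : ℕ × ℤ =>
      Int.beq' p.2 0 || (Nat.blt p.1 D.rank && decide (rootHt dat (half D + y') = 1)) ||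
        (Nat.ble (D.rank + half D) p.1 &&
          decide (rootHt dat (p.1 - D.rank) + 1 = rootHt dat (half D + y'))))
      (fcol D (fneg D (fsimple dat i)) 1 (D.rank + (half D + y'))) &&
    allR (fun p : ℕ × ℤ =>
      Int.beq' p.2 0 || (Nat.ble (D.rank + half D) p.1 &&
          decide (rootHt dat (p.1 - D.rank) = rootHt dat (half D + y') + 1)))
      (fcol D (fsimple dat i) 1 (D.rank + (half D + y'))))
    (upto (half D))) (upto D.rank)

/-- A decomposition `y = p_i + z`. -/
noncomputable def decStep (t : ℕ × ℕ × ℕ) : Bool :=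
  Nat.blt t.2.1 D.rank && Nat.ble (half D) t.2.2 && Nat.blt t.2.2 D.nroots && Nat.blt t.1 D.nroots &&
    Nat.ble (half D) t.1 &&
    !Int.beq' (coef (fcol D (fsimple dat t.2.1) 1 (D.rank + t.2.2)) (D.rank + t.1)) 0 &&
    vEq (fcol D (fsimple dat t.2.1) 1 (D.rank + t.2.2))
      [(D.rank + t.1, coef (fcol D (fsimple dat t.2.1) 1 (D.rank + t.2.2)) (D.rank + t.1))] &&
    decide (rootHt dat t.2.2 + 1 = rootHt dat t.1) &&
    allR (fun j => vEq (commCol (fcol D (fsimple dat t.2.1) 1) (fcol D t.2.2 1) j)
        (vsmul (coef (fcol D (fsimple dat t.2.1) 1 (D.rank + t.2.2)) (D.rank + t.1))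
          (fcol D t.1 1 j)))
      (upto (dimL D))

/-- Every positive root is fundamental or decomposed. -/
noncomputable def decCover : Bool :=
  allR (fun y' => anyR (fun i => Nat.beq (fsimple dat i) (half D + y')) (upto D.rank) ||
      anyR (fun t : ℕ × ℕ × ℕ => Nat.beq t.1 (half D + y')) dat.dec) (upto (half D))

/-- `[ad e_{-q}, ad e_p] = ad [e_{-q}, e_p]`. -/
noncomputable def baseOK : Bool :=
  allR (fun q => allR (fun p =>
    allR (fun e : ℕ × ℤ => Int.beq' e.2 0 || Nat.blt e.1 D.rank)
      (fcol D (fneg D (fsimple dat q)) 1 (D.rank + fsimple dat p)) &&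
    allR (fun j => vEq (commCol (fcol D (fneg D (fsimple dat q)) 1) (fcol D (fsimple dat p) 1) j)
        (adCol D (fcol D (fneg D (fsimple dat q)) 1 (D.rank + fsimple dat p)) j))
      (upto (dimL D))) (upto D.rank)) (upto D.rank)

/-- The highest root vector is killed by positive root vectors. -/
noncomputable def topOK : Bool :=
  allR (fun u' => vEq (fcol D (half D + u') 1 (D.rank + (D.nroots - 1))) []) (upto (half D))

/-- One step of generation from the highest root vector. -/
noncomputable def genStep (t : ℕ × ℕ × ℕ) (seen : List ℕ) : Bool :=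
  Nat.blt t.2.1 D.rank && Nat.blt t.1 (dimL D) && Nat.blt t.2.2 (dimL D) &&
    anyR (fun x => Nat.beq x t.2.2) seen &&
    !Int.beq' (coef (fcol D (fneg D (fsimple dat t.2.1)) 1 t.2.2) t.1) 0 &&
    vEq (fcol D (fneg D (fsimple dat t.2.1)) 1 t.2.2)
      [(t.1, coef (fcol D (fneg D (fsimple dat t.2.1)) 1 t.2.2) t.1)]

/-- Generation from the highest root vector. -/
noncomputable def genOK (l : List (ℕ × ℕ × ℕ)) : List ℕ → Bool :=
  List.rec (fun seen => allR (fun m => anyR (fun x => Nat.beq x m) seen) (upto (dimL D)))
    (fun t _ ih seen => genStep D dat t seen && ih (t.1 :: seen)) l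

/-- `A_1 A_k = (k + 1) A_{k+1}`. -/
noncomputable def powRow (u : ℕ) : Bool :=
  allR (fun j =>
    vEq (sapp (fcol D u 1) (fcol D u 1 j)) (vsmul 2 (fcol D u 2 j)) &&
    vEq (sapp (fcol D u 1) (fcol D u 2 j)) (vsmul 3 (fcol D u 3 j)) &&
    vEq (sapp (fcol D u 1) (fcol D u 3 j)) []) (upto (dimL D))

/-- All checks. -/
structure LieChecks : Prop where
  shape : shapeOK D = true
  pack : packOK D = true
  orient : halfOK D dat = true
  theta : allR (thetaRow D) (upto D.nroots) = true
  thetaH : thetaCartan D = true
  weight : allR (weightRow D) (upto D.nroots) = true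
  support : supportOK D dat = true
  decs : allR (decStep D dat) dat.dec = true
  cover : decCover D dat = true
  base : baseOK D dat = true
  top : topOK D = true
  gen : genOK D dat dat.gen [D.rank + (D.nroots - 1)] = true
  pows : allR (powRow D) (upto D.nroots) = true

end CfsgLib.Chev
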