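import Mathlib
import Cfsg.Agent.Lib.Chev.LieCheck

/-!
Boolean checks for the commutator formula, and a fast reading of the chain tables.
-/

set_option autoImplicit false

namespace CfsgLib.Chev

open Cfsg.Lie

variable (D : ChevalleyDatum)

/-- Fast `chainRoot`. -/
noncomputable def fchainRoot (r s i : ℕ) : Option ℕ :=
  bif Nat.beq s (fneg D r) then none
  else List.rec none (fun p _ _ => some (p.1 - D.rank)) (fcol D r i (D.rank + s))

/-- Fast `chainM`. -/
noncomputable def fchainM (r s i : ℕ) : ℤ :=
  bif Nat.beq s (fneg D r) then 0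
  else List.rec 0 (fun p _ _ => p.2) (fcol D r i (D.rank + s))

/-- The candidates of `commTerms`, quickly. -/
noncomputable def fcands (r s : ℕ) : List (Option ℕ × ℤ × ℕ × ℕ) :=
  [ (fchainRoot D r s 1, fchainM D r s 1, 1, 1),
    (fchainRoot D r s 2, fchainM D r s 2, 2, 1),
    (fchainRoot D s r 2, fchainM D s r 2, 1, 2),
    (fchainRoot D r s 3, fchainM D r s 3, 3, 1),
    (fchainRoot D s r 3, - fchainM D s r 3, 1, 3),
    ((fchainRoot D r s 3).bind fun k => fchainRoot D k s 1,
      ((fchainRoot D r s 1).map fun k => fchainM D k r 2 / 3).getD 0, 3, 2),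
    ((fchainRoot D s r 3).bind fun k => fchainRoot D k r 1,
      ((fchainRoot D r s 1).map fun k => -2 * fchainM D k s 2 / 3).getD 0, 2, 3) ]

/-- `commTerms`, quickly. -/
noncomputable def fterms (r s : ℕ) : List (ℕ × ℤ × ℕ × ℕ) :=
  List.rec [] (fun c _ ih => Option.rec ih (fun k => (k, c.2) :: ih) c.1) (fcands D r s)

/-- Sparse vectors over polynomials in two variables: `(coordinate, degree, degree, coefficient)`. -/
abbrev Sym := List (ℕ × ℕ × ℕ × ℤ)

/-- Shift and scale a column. -/
noncomputable def symTerm (v : SVec) (i j : ℕ) (c : ℤ) : Sym :=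
  List.rec [] (fun q _ ih => (q.1, i, j, c * q.2) :: ih) v

/-- Apply `x_r(c t^a u^b)`. -/
noncomputable def symX (r : ℕ) (c : ℤ) (a b : ℕ) (v : Sym) : Sym :=
  appR v (List.rec [] (fun p _ ih =>
    appR (symTerm (fcol D r 1 p.1) (p.2.1 + a) (p.2.2.1 + b) (c * p.2.2.2))
      (appR (symTerm (fcol D r 2 p.1) (p.2.1 + (a + a)) (p.2.2.1 + (b + b)) (c * c * p.2.2.2))
        (appR (symTerm (fcol D r 3 p.1) (p.2.1 + (a + a + a)) (p.2.2.1 + (b + b + b))
          (c * c * c * p.2.2.2)) ih))) v)

/-- `(-1)^i`. -/
noncomputable def negOnePow (i : ℕ) : ℤ := Nat.rec 1 (fun _ ih => -ih) i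

/-- Apply the word of the formula. -/
noncomputable def symWord (l : List (ℕ × ℤ × ℕ × ℕ)) (v : Sym) : Sym :=
  List.rec v (fun c _ ih => symX D c.1 (c.2.1 * negOnePow c.2.2.1) c.2.2.1 c.2.2.2 ih) l

/-- The key of a term. -/
noncomputable def symCode (v : Sym) : SVec :=
  List.rec [] (fun p _ ih => (p.1 + dimL D * (p.2.1 + 32 * p.2.2.1), p.2.2.2) :: ih) v

/-- The keys are faithful. -/
noncomputable def symBdd (v : Sym) : Bool :=
  allR (fun p : ℕ × ℕ × ℕ × ℤ => Nat.blt p.1 (dimL D) && Nat.blt p.2.1 32) v

/-- One column of the formula. -/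
noncomputable def symCol (r s m : ℕ) (l : List (ℕ × ℤ × ℕ × ℕ)) : Bool :=
  let a := symX D s 1 0 1 (symX D r 1 1 0 [(m, 0, 0, 1)])
  let b := symX D r 1 1 0 (symX D s 1 0 1 (symWord D l [(m, 0, 0, 1)]))
  symBdd D a && symBdd D b && vEq (symCode D a) (symCode D b)

/-- The formula for a pair, by the shape of the chains. -/
noncomputable def genPair (a3 : Bool) (r s : ℕ) (l : List (ℕ × ℤ × ℕ × ℕ)) : Bool :=
  List.rec (vEq (fcol D s 1 (D.rank + r)) [])
    (fun c l' _ => a3 && List.rec true (fun _ _ _ => false) l' &&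
      Nat.beq c.2.2.1 1 && Nat.beq c.2.2.2 1 &&
      vEq (fcol D s 1 (D.rank + r)) [(D.rank + c.1, - c.2.1)] &&
      vEq (fcol D s 2 (D.rank + r)) [] && vEq (fcol D s 3 (D.rank + r)) [] &&
      vEq (fcol D r 1 (D.rank + c.1)) [] && vEq (fcol D s 1 (D.rank + c.1)) []) l

/-- Columns generating the algebra: the highest root and the opposites of the fundamental roots. -/
noncomputable def genCols : List ℕ :=
  (D.rank + (D.nroots - 1)) ::
    mapR (fun g => D.rank + fneg D (nth 0 D.simpleIdx.toList g)) (upto D.rank)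

/-- The formula for a pair. -/
noncomputable def commPair (a3 : Bool) (r s : ℕ) : Bool :=
  Nat.beq s r || Nat.beq s (fneg D r) || genPair D a3 r s (fterms D r s) ||
    allR (fun m => symCol D r s m (fterms D r s)) (genCols D)

/-- The chain coefficients do not vanish. -/
noncomputable def nzOK : Bool :=
  allR (fun r => allR (fun s => Nat.beq s (fneg D r) ||
    allR (fun k => allR (fun p : ℕ × ℤ => !Int.beq' p.2 0) (fcol D r k (D.rank + s))) [1, 2, 3])
    (upto D.nroots)) (upto D.nroots)

/-- All third divided powers vanish. -/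
noncomputable def allA3 : Bool :=
  allR (fun r => allR (fun j => List.rec true (fun _ _ _ => false) (fcol D r 3 j))
    (upto (dimL D))) (upto D.nroots)

/-- All checks for the commutator formula. -/
noncomputable def commOK (a3 : Bool) : Bool :=
  (!a3 || allA3 D) && nzOK D && allR (fun r => allR (commPair D a3 r) (upto D.nroots)) (upto D.nroots)

/-- A block of `m` rows of the check. -/
noncomputable def commBlock (a3 : Bool) (m c : ℕ) : Bool :=
  allR (fun i => Nat.ble D.nroots (c * m + i) || allR (commPair D a3 (c * m + i)) (upto D.nroots))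
    (upto m)

lemma commOK_intro {a3 : Bool} {m k : ℕ} (h3 : a3 = true → allA3 D = true) (hn : nzOK D = true)
    (hk : Nat.ble D.nroots (k * m) = true) (hb : ∀ c < k, commBlock D a3 m c = true) :
    commOK D a3 = true := by
  rw [commOK, hn, Bool.and_true, Bool.and_eq_true]
  refine ⟨?_, ?_⟩
  · cases a3
    · rfl
    · simpa using h3 rfl
  · rw [allR_eq, List.all_eq_true]
    intro r hr
    have hr' : r < D.nroots := mem_upto_lt hr
    rw [Nat.ble_eq] at hk
    rcases Nat.eq_zero_or_pos m with rfl | hm
    · simp at hk; omega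
    · have hc : r / m < k := by rw [Nat.div_lt_iff_lt_mul hm]; omega
      have h := allR_upto (hb _ hc) (Nat.mod_lt r hm)
      rw [Nat.mul_comm, Nat.div_add_mod, Bool.or_eq_true, Nat.ble_eq] at h
      exact h.resolve_left (by omega)
where
  mem_upto_lt {r n : ℕ} (h : r ∈ upto n) : r < n := by
    have key : ∀ k m, r ∈ (Nat.rec (motive := fun _ => ℕ → List ℕ) (fun _ => [])
        (fun _ ih j => j :: ih (j + 1)) k m) → r < m + k := by
      intro k
      induction k with
      | zero => intro m hm; simp at hm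
      | succ k ih =>
        intro m hm
        rcases List.mem_cons.1 hm with rfl | hm'
        · omega
        · have := ih _ hm'; omega
    simpa using key _ _ h

end CfsgLib.Chev
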