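import Cfsg.Prelude.Def_ChevE6
import Cfsg.Agent.Lib.Chev.CommCheck

/-!
The kernel check of the commutator formula for type E6.
-/

set_option autoImplicit false
set_option maxRecDepth 100000

namespace CfsgLib.Chev

open Cfsg.Lie

theorem commE6_nz : nzOK chevE6 = true := by decide +kernel

theorem commE6_a3 : allA3 chevE6 = true := by decide +kernel

theorem commE6_block0 : commBlock chevE6 true 72 0 = true := by decide +kernel

theorem commE6 : commOK chevE6 true = true := by
  refine commOK_intro chevE6 (m := 72) (k := 1) (fun _ => commE6_a3) commE6_nz (by decide +kernel) ?_
  intro c hc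
  interval_cases c
  · exact commE6_block0

end CfsgLib.Chev
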