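import Cfsg.Prelude.Def_ChevE7
import Cfsg.Agent.Lib.Chev.CommCheck

/-!
The kernel check of the commutator formula for type E7.
-/

set_option autoImplicit false
set_option maxRecDepth 100000

namespace CfsgLib.Chev

open Cfsg.Lie

theorem commE7_nz : nzOK chevE7 = true := by decide +kernel

theorem commE7_a3 : allA3 chevE7 = true := by decide +kernel

theorem commE7_block0 : commBlock chevE7 true 63 0 = true := by decide +kernel

theorem commE7_block1 : commBlock chevE7 true 63 1 = true := by decide +kernel

theorem commE7 : commOK chevE7 true = true := by
  refine commOK_intro chevE7 (m := 63) (k := 2) (fun _ => commE7_a3) commE7_nz (by decide +kernel) ?_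
  intro c hc
  interval_cases c
  · exact commE7_block0
  · exact commE7_block1

end CfsgLib.Chev
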