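import Cfsg.Prelude.Def_ChevE8
import Cfsg.Agent.Lib.Chev.CommCheck

/-!
The kernel check of the commutator formula for type E8.
-/

set_option autoImplicit false
set_option maxRecDepth 100000

namespace CfsgLib.Chev

open Cfsg.Lie

theorem commE8_nz : nzOK chevE8 = true := by decide +kernel

theorem commE8_a3 : allA3 chevE8 = true := by decide +kernel

theorem commE8_block0 : commBlock chevE8 true 60 0 = true := by decide +kernel

theorem commE8_block1 : commBlock chevE8 true 60 1 = true := by decide +kernel

theorem commE8_block2 : commBlock chevE8 true 60 2 = true := by decide +kernel

theorem commE8_block3 : commBlock chevE8 true 60 3 = true := by decide +kernel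

theorem commE8 : commOK chevE8 true = true := by
  refine commOK_intro chevE8 (m := 60) (k := 4) (fun _ => commE8_a3) commE8_nz (by decide +kernel) ?_
  intro c hc
  interval_cases c
  · exact commE8_block0
  · exact commE8_block1
  · exact commE8_block2
  · exact commE8_block3

end CfsgLib.Chev
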