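import Cfsg.Prelude.Def_ChevF4
import Cfsg.Agent.Lib.Chev.CommCheck

/-!
The kernel check of the commutator formula for type F4.
-/

set_option autoImplicit false
set_option maxRecDepth 100000

namespace CfsgLib.Chev

open Cfsg.Lie

theorem commF4_nz : nzOK chevF4 = true := by decide +kernel

theorem commF4_a3 : allA3 chevF4 = true := by decide +kernel

theorem commF4_block0 : commBlock chevF4 true 24 0 = true := by decide +kernel

theorem commF4_block1 : commBlock chevF4 true 24 1 = true := by decide +kernel

theorem commF4 : commOK chevF4 true = true := by
  refine commOK_intro chevF4 (m := 24) (k := 2) (fun _ => commF4_a3) commF4_nz (by decide +kernel) ?_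
  intro c hc
  interval_cases c
  · exact commF4_block0
  · exact commF4_block1

end CfsgLib.Chev
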