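import Mathlib
import Cfsg.Agent.Lib.Chev.LieCheck

/-!
From the table checks to the Lie algebra: `ad` is a homomorphism of brackets.
-/

set_option autoImplicit false

namespace CfsgLib.Chev

open Cfsg.Lie Matrix

variable (D : ChevalleyDatum)

/-- The matrix of `ad h_i`. -/
def hmat (i : Fin D.rank) : Matrix D.Idx D.Idx ℤ :=
  diagonal (Sum.elim (fun _ => 0) fun u => D.cartan i u)

/-- The matrix of `ad` of a basis vector. -/
noncomputable def bmat : D.Idx → Matrix D.Idx D.Idx ℤ :=
  Sum.elim (hmat D) fun u => rmat D u 1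

/-- The matrix of `ad v`. -/
noncomputable def adV (v : D.Idx → ℤ) : Matrix D.Idx D.Idx ℤ := ∑ k, v k • bmat D k

/-- The permutation of the basis induced by `r ↦ -r`. -/
def sigma : D.Idx ≃ D.Idx := Equiv.sumCongr (Equiv.refl _) Fin.revPerm

/-- `[X, ad e_k] = ad (X e_k)`. -/
def DerOn (X : Matrix D.Idx D.Idx ℤ) (k : D.Idx) : Prop :=
  X * bmat D k - bmat D k * X = adV D fun i => X i k

variable {D} {dat : LieData}

lemma adV_single (k : D.Idx) (c : ℤ) : adV D (Pi.single k c) = c • bmat D k := by
  rw [adV, Finset.sum_eq_single k]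
  · simp
  · intro b _ hb; simp [hb]
  · simp

lemma adV_smul (c : ℤ) (v : D.Idx → ℤ) : adV D (c • v) = c • adV D v := by
  simp [adV, Finset.smul_sum, mul_smul]

lemma adV_add (v w : D.Idx → ℤ) : adV D (v + w) = adV D v + adV D w := by
  simp [adV, add_smul, Finset.sum_add_distrib]

lemma adV_neg (v : D.Idx → ℤ) : adV D (-v) = -adV D v := by
  simp [adV, neg_smul, Finset.sum_neg_distrib]

lemma adV_apply (v : D.Idx → ℤ) (i j : D.Idx) : adV D v i j = ∑ k, v k * bmat D k i j := by
  simp only [adV, Matrix.sum_apply, Matrix.smul_apply, smul_eq_mul]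

lemma bracket_adV {X : Matrix D.Idx D.Idx ℤ} {v : D.Idx → ℤ}
    (h : ∀ k, v k ≠ 0 → DerOn D X k) :
    X * adV D v - adV D v * X = adV D (X *ᵥ v) := by
  have e : adV D (X *ᵥ v) = ∑ k, v k • adV D fun i => X i k := by
    ext i j
    simp only [adV_apply, Matrix.sum_apply, Matrix.smul_apply, smul_eq_mul, Matrix.mulVec,
      dotProduct, Finset.mul_sum, Finset.sum_mul]
    rw [Finset.sum_comm]
    exact Finset.sum_congr rfl fun a _ => Finset.sum_congr rfl fun b _ => by ring
  rw [e, adV, Finset.mul_sum, Finset.sum_mul, ← Finset.sum_sub_distrib]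
  refine Finset.sum_congr rfl fun k _ => ?_
  by_cases hk : v k = 0
  · simp [hk]
  · rw [Matrix.mul_smul, Matrix.smul_mul, ← smul_sub, h k hk]

lemma derOn_neg {X : Matrix D.Idx D.Idx ℤ} {k : D.Idx} (h : DerOn D X k) : DerOn D (-X) k := by
  unfold DerOn at h ⊢
  rw [show (fun i => (-X) i k) = -(fun i => X i k) from rfl, adV_neg, ← h]
  simp only [neg_mul, mul_neg]
  abel

lemma exists_of_coef_ne {v : SVec} {m : ℕ} (h : coef v m ≠ 0) : ∃ p ∈ v, p.1 = m ∧ p.2 ≠ 0 := by
  induction v with
  | nil => simp [coef_nil] at h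
  | cons p v ih =>
    rw [coef_cons] at h
    by_cases hp : p.1 = m ∧ p.2 ≠ 0
    · exact ⟨p, by simp, hp⟩
    · have : coef v m ≠ 0 := by
        intro hv
        rw [hv] at h
        by_cases h1 : p.1 = m
        · simp [h1] at h hp; exact h hp
        · simp [h1] at h
      obtain ⟨q, hq, hq'⟩ := ih this
      exact ⟨q, List.mem_cons_of_mem _ hq, hq'⟩

lemma coef_map_key {f : ℕ → ℕ} {N : ℕ} (hf : ∀ a < N, f (f a) = a) (hr : ∀ a < N, f a < N)
    (v : SVec) (hv : ∀ p ∈ v, p.1 < N) {m : ℕ} (hm : m < N) :
    coef (v.map fun p => (f p.1, p.2)) m = coef v (f m) := by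
  induction v with
  | nil => rfl
  | cons p v ih =>
    rw [List.map_cons, coef_cons, coef_cons, ih fun q hq => hv q (List.mem_cons_of_mem _ hq)]
    have hp := hv p (by simp)
    simp only
    by_cases h1 : p.1 = f m
    · rw [if_pos h1, if_pos (by rw [h1, hf m hm])]
    · rw [if_neg h1, if_neg fun h2 => h1 (by rw [← h2, hf _ hp])]

namespace LieChecks

variable (h : LieChecks D dat)
include h

lemma rmat_apply {u : ℕ} (hu : u < D.nroots) {k : ℕ} (hk : k ∈ [1, 2, 3]) (i j : D.Idx) :
    rmat D u k i j = coef (fcol D u k (ix D j)) (ix D i) := by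
  rw [rmat, smat, Matrix.of_apply, rcol_eq_fcol h.shape h.pack hu hk]

lemma fcol_range {u : ℕ} (hu : u < D.nroots) {k : ℕ} (hk : k ∈ [1, 2, 3]) (j : ℕ) :
    ∀ p ∈ fcol D u k j, p.1 ∈ Set.range (ix D) := by
  rw [← rcol_eq_fcol h.shape h.pack hu hk]
  exact rcol_lt h.shape hu k j

lemma fcol_lt {u : ℕ} (hu : u < D.nroots) {k : ℕ} (hk : k ∈ [1, 2, 3]) (j : ℕ) :
    ∀ p ∈ fcol D u k j, p.1 < dimL D := by
  intro p hp
  obtain ⟨x, hx⟩ := h.fcol_range hu hk j p hp
  rw [← hx]
  rcases x with a | a <;> simp only [ix_inl, ix_inr, dimL] <;> omega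

lemma bmat_apply (k i j : D.Idx) :
    bmat D k i j = coef (basisCol D (ix D k) (ix D j)) (ix D i) := by
  rcases k with a | u
  · show hmat D a i j = _
    rw [ix_inl, basisCol, show Nat.blt a.val D.rank = true by simp [Nat.blt, Nat.ble_eq], cond_true,
      hmat, Matrix.diagonal_apply]
    rcases j with b | v
    · rw [ix_inl, show Nat.blt b.val D.rank = true by simp [Nat.blt, Nat.ble_eq], cond_true,
        coef_nil]
      by_cases hij : i = Sum.inl b <;> simp [hij]
    · rw [ix_inr, show Nat.blt (D.rank + v.val) D.rank = false by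
        rw [← Bool.not_eq_true]; simp [Nat.blt, Nat.ble_eq], cond_false, coef_cons, coef_nil,
        Nat.add_sub_cancel_left, ← cartan_eq h.pack a.2 v.2]
      by_cases hij : i = Sum.inr v
      · simp [hij, ix_inr]
      · rw [if_neg hij, if_neg fun hc => hij (ix_injective D (by rw [← hc, ix_inr])), add_zero]
  · show rmat D u 1 i j = _
    rw [ix_inr, basisCol, show Nat.blt (D.rank + u.val) D.rank = false by
      rw [← Bool.not_eq_true]; simp [Nat.blt, Nat.ble_eq], cond_false, Nat.add_sub_cancel_left,
      h.rmat_apply u.2 (by simp)]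

lemma adV_coef (w : SVec) (hw : ∀ p ∈ w, p.1 ∈ Set.range (ix D)) (i j : D.Idx) :
    adV D (fun k => coef w (ix D k)) i j = coef (adCol D w (ix D j)) (ix D i) := by
  rw [adV_apply]
  simp only [h.bmat_apply]
  rw [sum_coef_mul (ix D) (ix_injective D) w hw
    fun m => coef (basisCol D m (ix D j)) (ix D i)]
  induction w with
  | nil => rfl
  | cons p w ih =>
    show _ = coef (appR (vsmul p.2 (basisCol D p.1 (ix D j))) (adCol D w (ix D j))) (ix D i)
    rw [appR_eq, coef_append, coef_vsmul, List.map_cons, List.sum_cons,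
      ih fun q hq => hw q (List.mem_cons_of_mem _ hq)]

lemma comm_apply {u v : ℕ} (hu : u < D.nroots) (hv : v < D.nroots) (i j : D.Idx) :
    (rmat D u 1 * rmat D v 1 - rmat D v 1 * rmat D u 1) i j =
      coef (commCol (fcol D u 1) (fcol D v 1) (ix D j)) (ix D i) := by
  have e : ∀ {a b : ℕ}, a < D.nroots → b < D.nroots → (rmat D a 1 * rmat D b 1) i j =
      coef (sapp (fcol D a 1) (fcol D b 1 (ix D j))) (ix D i) := by
    intro a b ha hb
    have hA : rmat D a 1 = smat (ix D) (fcol D a 1) := by
      ext x y; rw [h.rmat_apply ha (by simp)]; rfl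
    have hB : rmat D b 1 = smat (ix D) (fcol D b 1) := by
      ext x y; rw [h.rmat_apply hb (by simp)]; rfl
    rw [hA, hB, smat_mul_apply (ix D) (ix_injective D)]
    exact h.fcol_range hb (by simp) _
  rw [Matrix.sub_apply, e hu hv, e hv hu, commCol, appR_eq, coef_append, coef_vsmul]
  ring

/-! ### Orientation -/

lemma nroots_eq : D.nroots = 2 * half D ∧ 0 < half D := by
  have := h.orient
  simp only [halfOK, Bool.and_eq_true, Nat.beq_eq, Nat.blt, Nat.ble_eq] at this
  exact ⟨this.1.1.1, by omega⟩

lemma neg_eq_rev {u : ℕ} (hu : u < D.nroots) : D.neg u = D.nroots - 1 - u :=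
  CfsgLib.Chev.neg_eq h.pack hu

lemma root_class {u : ℕ} (hu : u < D.nroots) :
    (D.IsPosRoot u ↔ half D ≤ u) ∧ (D.IsNegRoot u ↔ u < half D) ∧
      (half D ≤ u → 1 ≤ rootHt dat u) := by
  have := h.orient
  rw [halfOK, Bool.and_eq_true, Bool.and_eq_true] at this
  have := allR_upto this.1.2 hu
  simp only [Bool.and_eq_true, Bool.or_eq_true, beq_iff_eq, Nat.blt] at this
  obtain ⟨⟨h1, h2⟩, h3⟩ := this
  refine ⟨?_, ?_, ?_⟩
  · rw [← decide_eq_true_iff (p := D.IsPosRoot u), h1, Nat.ble_eq]
  · rw [← decide_eq_true_iff (p := D.IsNegRoot u), h2, Nat.ble_eq]; exact Nat.succ_le_iff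
  · intro hh
    rcases h3 with h3 | h3
    · rw [Nat.ble_eq] at h3; omega
    · simpa using h3

lemma simple_facts {i : ℕ} (hi : i < D.rank) :
    D.simple i = fsimple dat i ∧ half D ≤ D.simple i ∧ D.simple i < D.nroots ∧
      rootHt dat (D.simple i) = 1 := by
  have := h.orient
  rw [halfOK, Bool.and_eq_true] at this
  have := allR_upto this.2 hi
  simp only [Bool.and_eq_true, Nat.beq_eq, Nat.blt, Nat.ble_eq, decide_eq_true_eq] at this
  have e : D.simple i = fsimple dat i := by
    rw [ChevalleyDatum.simple, ← nth_toList, this.1.1.1]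
  rw [e]
  exact ⟨rfl, this.1.1.2, by omega, this.2⟩

omit h in
lemma sigma_inr (u : Fin D.nroots) : sigma D (Sum.inr u) = Sum.inr u.rev := rfl

omit h in
lemma sigma_inl (a : Fin D.rank) : sigma D (Sum.inl a) = Sum.inl a := rfl

omit h in
lemma sigma_sigma (k : D.Idx) : sigma D (sigma D k) = k := by
  rcases k with a | u <;> simp [sigma_inr, sigma_inl]

omit h in
lemma ix_sigma (k : D.Idx) : ix D (sigma D k) = negIndex D (ix D k) := by
  rcases k with a | u
  · simp [sigma_inl, negIndex, ix_inl, show Nat.blt a.val D.rank = true by simp [Nat.blt, Nat.ble_eq]]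
  · rw [sigma_inr, ix_inr, ix_inr, negIndex, show Nat.blt (D.rank + u.val) D.rank = false by
      rw [← Bool.not_eq_true]; simp [Nat.blt, Nat.ble_eq], cond_false, fneg, Fin.val_rev,
      Nat.add_sub_cancel_left]
    omega

lemma rmat_theta (u : Fin D.nroots) :
    (rmat D u 1).submatrix (sigma D) (sigma D) = - rmat D u.rev 1 := by
  ext i j
  have hrev : fneg D u.val = u.rev.val := by rw [fneg, Fin.val_rev]; omega
  have hdim : ∀ k : D.Idx, ix D k < dimL D := by
    intro k; rcases k with a | a <;> simp only [ix_inl, ix_inr, dimL] <;> omega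
  have hv := vEq_sound (allR_upto (allR_upto h.theta u.2) (hdim j)) (ix D i)
  rw [coef_vsmul, hrev, mapR_eq] at hv
  have hinv : ∀ a < dimL D, negIndex D (negIndex D a) = a ∧ negIndex D a < dimL D := by
    intro a ha
    obtain ⟨k, rfl⟩ := mem_range_ix D (show a < D.rank + D.nroots from ha)
    rw [← ix_sigma, ← ix_sigma, sigma_sigma]
    exact ⟨rfl, hdim _⟩
  rw [coef_map_key (fun a ha => (hinv a ha).1) (fun a ha => (hinv a ha).2) _
    (h.fcol_lt u.2 (by simp) _) (hdim i)] at hv
  rw [Matrix.submatrix_apply, Matrix.neg_apply, h.rmat_apply u.2 (by simp),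
    h.rmat_apply u.rev.2 (by simp), ix_sigma, ix_sigma, hv]
  ring

lemma hmat_theta (a : Fin D.rank) : (hmat D a).submatrix (sigma D) (sigma D) = - hmat D a := by
  ext i j
  rw [hmat, Matrix.submatrix_apply, Matrix.neg_apply, Matrix.diagonal_apply, Matrix.diagonal_apply]
  by_cases hij : i = j
  · subst hij
    rw [if_pos rfl, if_pos rfl]
    rcases i with b | u
    · simp [sigma_inl]
    · rw [sigma_inr, Sum.elim_inr, Sum.elim_inr]
      have := allR_upto (allR_upto h.thetaH a.2) u.2
      rw [Int.beq'_eq, ← cartan_eq h.pack a.2 u.2, ← cartan_eq h.pack a.2 (by rw [fneg]; omega)] at this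
      rw [← this]
      congr 1
      rw [fneg, Fin.val_rev]
      omega
  · rw [if_neg hij, if_neg fun hc => hij ((sigma D).injective hc), neg_zero]

lemma bmat_theta (k : D.Idx) :
    (bmat D k).submatrix (sigma D) (sigma D) = - bmat D (sigma D k) := by
  rcases k with a | u
  · exact h.hmat_theta a
  · exact h.rmat_theta u

lemma adV_theta (v : D.Idx → ℤ) :
    (adV D v).submatrix (sigma D) (sigma D) = - adV D fun k => v (sigma D k) := by
  ext i j
  rw [Matrix.submatrix_apply, Matrix.neg_apply, adV_apply, adV_apply, ← Finset.sum_neg_distrib]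
  refine Finset.sum_bij' (fun k _ => sigma D k) (fun k _ => sigma D k) (by simp) (by simp)
    (fun k _ => sigma_sigma k) (fun k _ => sigma_sigma k) fun k _ => ?_
  have := congrFun (congrFun (h.bmat_theta k) i) j
  rw [Matrix.submatrix_apply, Matrix.neg_apply] at this
  rw [this, sigma_sigma]
  ring

lemma derOn_theta {X : Matrix D.Idx D.Idx ℤ} {k : D.Idx} (hd : DerOn D X k) :
    DerOn D (X.submatrix (sigma D) (sigma D)) (sigma D k) := by
  have e := congrArg (fun M : Matrix D.Idx D.Idx ℤ => M.submatrix (sigma D) (sigma D)) hd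
  simp only [Matrix.submatrix_sub, ← Matrix.submatrix_mul_equiv X (bmat D k) _ (sigma D),
    ← Matrix.submatrix_mul_equiv (bmat D k) X _ (sigma D), h.bmat_theta, h.adV_theta,
    Pi.sub_apply, mul_neg, neg_mul] at e
  unfold DerOn
  simp only [Matrix.submatrix_apply, sigma_sigma]
  rw [← neg_inj, ← e]
  abel

/-! ### Weights -/

lemma weight_eq {u : Fin D.nroots} {i j : D.Idx} (hne : rmat D u 1 i j ≠ 0) (a : Fin D.rank) :
    Sum.elim (fun _ : Fin D.rank => (0 : ℤ)) (fun v : Fin D.nroots => D.cartan a v) i =
      Sum.elim (fun _ : Fin D.rank => (0 : ℤ)) (fun v : Fin D.nroots => D.cartan a v) j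
        + D.cartan a u := by
  rw [h.rmat_apply u.2 (by simp)] at hne
  obtain ⟨p, hp, hp1, hp2⟩ := exists_of_coef_ne hne
  have hj : ix D j < dimL D := by rcases j with b | b <;> simp only [ix_inl, ix_inr, dimL] <;> omega
  have := allR_true (allR_upto (allR_upto h.weight u.2) hj) hp
  rw [Bool.or_eq_true, Int.beq'_eq] at this
  have := allR_upto (this.resolve_left hp2) a.2
  rw [Int.beq'_eq, hp1, ← cartan_eq h.pack a.2 u.2] at this
  have e : ∀ k : D.Idx, fweight D (ix D k) a.val =
      Sum.elim (fun _ : Fin D.rank => (0 : ℤ)) (fun v : Fin D.nroots => D.cartan a v) k := by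
    intro k
    rcases k with b | v
    · simp [fweight, ix_inl, show Nat.blt b.val D.rank = true by simp [Nat.blt, Nat.ble_eq]]
    · rw [fweight, ix_inr, show Nat.blt (D.rank + v.val) D.rank = false by
        rw [← Bool.not_eq_true]; simp [Nat.blt, Nat.ble_eq], cond_false, Nat.add_sub_cancel_left,
        Sum.elim_inr, cartan_eq h.pack a.2 v.2]
  rwa [e, e] at this

lemma hmat_comm (a : Fin D.rank) (u : Fin D.nroots) :
    hmat D a * rmat D u 1 - rmat D u 1 * hmat D a = D.cartan a u • rmat D u 1 := by
  ext i j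
  rw [Matrix.sub_apply, hmat, Matrix.diagonal_mul, Matrix.mul_diagonal, Matrix.smul_apply,
    smul_eq_mul]
  by_cases hz : rmat D u 1 i j = 0
  · simp [hz]
  · rw [h.weight_eq hz a]; ring

lemma rmat_coroot_col (u : Fin D.nroots) (a : Fin D.rank) :
    (fun i => rmat D u 1 i (Sum.inl a)) = Pi.single (Sum.inr u) (- D.cartan a u) := by
  funext i
  rw [rmat, smat, Matrix.of_apply, ix_inl, rcol_coroot h.shape u.2 (by simp) a.2]
  simp only [if_true, coef_cons, coef_nil, add_zero]
  by_cases hi : i = Sum.inr u
  · simp [hi, ix_inr]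
  · rw [Pi.single_eq_of_ne hi, if_neg fun hc => hi (ix_injective D (by rw [← hc, ix_inr]))]

lemma derOn_inl (u : Fin D.nroots) (a : Fin D.rank) : DerOn D (rmat D u 1) (Sum.inl a) := by
  rw [DerOn, h.rmat_coroot_col, adV_single]
  show rmat D u 1 * hmat D a - hmat D a * rmat D u 1 = _
  rw [neg_smul, ← neg_sub, h.hmat_comm]
  rfl

/-! ### Columns of the generators -/

lemma support_neg {q : Fin D.rank} {y : Fin D.nroots} (hy : half D ≤ y.val) {k : D.Idx}
    (hne : rmat D (D.neg (D.simple q)) 1 k (Sum.inr y) ≠ 0) :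
    (∃ a, k = Sum.inl a ∧ rootHt dat y.val = 1) ∨
      ∃ v : Fin D.nroots, k = Sum.inr v ∧ half D ≤ v.val ∧ rootHt dat v.val + 1 = rootHt dat y.val := by
  obtain ⟨hs, -, hlt, -⟩ := h.simple_facts q.2
  have hn : D.neg (D.simple q) < D.nroots := (rowShapeOK_of h.shape hlt).1
  rw [h.rmat_apply hn (by simp), neg_eq h.pack hlt, hs] at hne
  obtain ⟨p, hp, hp1, hp2⟩ := exists_of_coef_ne hne
  have hy' := allR_upto (allR_upto h.support q.2) (show y.val - half D < half D by
    have := h.nroots_eq.1; omega)
  rw [Bool.and_eq_true, show half D + (y.val - half D) = y.val by omega] at hy'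
  rw [ix_inr] at hp
  have := allR_true hy'.1 hp
  simp only [Bool.or_eq_true, Bool.and_eq_true, Int.beq'_eq, Nat.blt, Nat.ble_eq,
    decide_eq_true_eq, hp1] at this
  rcases k with b | v
  · left
    rcases this with (h0 | h1) | h2
    · exact absurd h0 hp2
    · exact ⟨b, rfl, h1.2⟩
    · exfalso; rw [ix_inl] at h2; omega
  · right
    rw [ix_inr, Nat.add_sub_cancel_left] at this
    rcases this with (h0 | h1) | h2
    · exact absurd h0 hp2
    · exfalso; omega
    · exact ⟨v, rfl, by omega, h2.2⟩

lemma support_pos {g : Fin D.rank} {y : Fin D.nroots} (hy : half D ≤ y.val) {k : D.Idx}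
    (hne : rmat D (D.simple g) 1 k (Sum.inr y) ≠ 0) :
    ∃ v : Fin D.nroots, k = Sum.inr v ∧ half D ≤ v.val ∧ rootHt dat v.val = rootHt dat y.val + 1 := by
  obtain ⟨hs, -, hlt, -⟩ := h.simple_facts g.2
  rw [h.rmat_apply hlt (by simp), hs] at hne
  obtain ⟨p, hp, hp1, hp2⟩ := exists_of_coef_ne hne
  have hy' := allR_upto (allR_upto h.support g.2) (show y.val - half D < half D by
    have := h.nroots_eq.1; omega)
  rw [Bool.and_eq_true, show half D + (y.val - half D) = y.val by omega] at hy'
  rw [ix_inr] at hp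
  have := allR_true hy'.2 hp
  simp only [Bool.or_eq_true, Bool.and_eq_true, Int.beq'_eq, Nat.ble_eq, decide_eq_true_eq,
    hp1] at this
  rcases k with b | v
  · exfalso
    rcases this with h0 | h2
    · exact hp2 h0
    · rw [ix_inl] at h2; omega
  · rw [ix_inr, Nat.add_sub_cancel_left] at this
    rcases this with h0 | h2
    · exact absurd h0 hp2
    · exact ⟨v, rfl, by omega, h2.2⟩

lemma top_col {v : Fin D.nroots} (hv : half D ≤ v.val) (i t : D.Idx)
    (ht : ix D t = D.rank + (D.nroots - 1)) : rmat D v 1 i t = 0 := by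
  rw [h.rmat_apply v.2 (by simp), ht]
  have := allR_upto h.top (show v.val - half D < half D by have := h.nroots_eq.1; omega)
  rw [show half D + (v.val - half D) = v.val by omega] at this
  rw [vEq_sound this, coef_nil]

lemma centralizer_zero {Z : Matrix D.Idx D.Idx ℤ} {t : D.Idx}
    (ht : ix D t = D.rank + (D.nroots - 1)) (hZ : ∀ i, Z i t = 0)
    (hc : ∀ q : Fin D.rank,
      rmat D (D.neg (D.simple q)) 1 * Z = Z * rmat D (D.neg (D.simple q)) 1) : Z = 0 := by
  have key : ∀ (l : List (ℕ × ℕ × ℕ)) (seen : List ℕ), genOK D dat l seen = true →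
      (∀ k : D.Idx, ix D k ∈ seen → ∀ i, Z i k = 0) → ∀ k i, Z i k = 0 := by
    intro l
    induction l with
    | nil =>
      intro seen hg hs k i
      have hk : ix D k < dimL D := by
        rcases k with b | b <;> simp only [ix_inl, ix_inr, dimL] <;> omega
      have := allR_upto (show allR _ (upto (dimL D)) = true from hg) hk
      rw [anyR_eq, List.any_eq_true] at this
      obtain ⟨x, hx, hxe⟩ := this
      rw [Nat.beq_eq] at hxe
      exact hs k (hxe ▸ hx) i
    | cons st l ih =>
      intro seen hg hs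
      have hg' : (genStep D dat st seen && genOK D dat l (st.1 :: seen)) = true := hg
      rw [Bool.and_eq_true] at hg'
      refine ih _ hg'.2 ?_
      have hst := hg'.1
      simp only [genStep, Bool.and_eq_true, Nat.blt, Nat.ble_eq, anyR_eq, List.any_eq_true,
        Bool.not_eq_true', Nat.beq_eq] at hst
      obtain ⟨⟨⟨⟨⟨hq, hb⟩, ha⟩, x, hx, rfl⟩, hne⟩, hcol⟩ := hst
      set q : Fin D.rank := ⟨st.2.1, by omega⟩
      obtain ⟨b, hb'⟩ := mem_range_ix D (show st.1 < D.rank + D.nroots by simp only [dimL] at hb; omega)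
      obtain ⟨a, ha'⟩ := mem_range_ix D (show st.2.2 < D.rank + D.nroots by simp only [dimL] at ha; omega)
      set c := coef (fcol D (fneg D (fsimple dat st.2.1)) 1 st.2.2) st.1
      have hc0 : c ≠ 0 := fun h0 => by rw [h0] at hne; exact absurd hne (by decide)
      obtain ⟨hsq, -, hlt, -⟩ := h.simple_facts q.2
      have hn : D.neg (D.simple q) < D.nroots := (rowShapeOK_of h.shape hlt).1
      have hcolX : ∀ i, rmat D (D.neg (D.simple q)) 1 i a = if i = b then c else 0 := by
        intro i
        rw [h.rmat_apply hn (by simp), ha', neg_eq h.pack hlt, hsq, vEq_sound hcol, coef_cons,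
          coef_nil, add_zero]
        by_cases hi : i = b
        · simp [hi, hb', c, q]
        · rw [if_neg hi, if_neg fun hc' => hi (ix_injective D (by rw [← hc', hb']))]
      intro k hk i
      rcases List.mem_cons.1 hk with hk' | hk'
      · have e := congrFun (congrFun (hc q) i) a
        simp only [Matrix.mul_apply, hcolX, mul_ite, mul_zero, Finset.sum_ite_eq',
          Finset.mem_univ, if_true] at e
        have hz : ∀ j, Z j a = 0 := hs a (ha'.symm ▸ hx)
        simp only [hz, mul_zero, Finset.sum_const_zero] at e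
        obtain rfl : k = b := ix_injective D (hk'.trans hb'.symm)
        exact (mul_eq_zero.1 e.symm).resolve_right hc0
      · exact hs k hk' i
  ext i k
  refine key _ _ h.gen (fun k hk i => ?_) k i
  rw [List.mem_singleton] at hk
  rw [ix_injective D (hk.trans ht.symm)]
  exact hZ i

lemma baseDer (q g : Fin D.rank) {yg : Fin D.nroots} (hy : yg.val = D.simple g) :
    DerOn D (rmat D (D.neg (D.simple q)) 1) (Sum.inr yg) ∧
      ∀ k, rmat D (D.neg (D.simple q)) 1 k (Sum.inr yg) ≠ 0 → ∃ a, k = Sum.inl a := by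
  obtain ⟨hs, -, hlt, -⟩ := h.simple_facts q.2
  obtain ⟨hsg, -, hltg, -⟩ := h.simple_facts g.2
  have hn : D.neg (D.simple q) < D.nroots := (rowShapeOK_of h.shape hlt).1
  have hfn : fneg D (fsimple dat q) = D.neg (D.simple q) := by rw [← hs, neg_eq h.pack hlt]
  have hbase := allR_upto (allR_upto h.base q.2) g.2
  rw [Bool.and_eq_true, hfn, ← hsg] at hbase
  set X := rmat D (D.neg (D.simple q)) 1
  have hcol : (fun i => X i (Sum.inr yg)) =
      fun k => coef (fcol D (D.neg (D.simple q)) 1 (D.rank + D.simple g)) (ix D k) := by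
    funext i
    simp only [X]
    rw [h.rmat_apply hn (by simp), ix_inr, hy]
  refine ⟨?_, ?_⟩
  · rw [DerOn, hcol]
    ext i j
    rw [h.adV_coef _ (h.fcol_range hn (by simp) _)]
    show (X * rmat D yg 1 - rmat D yg 1 * X) i j = _
    rw [h.comm_apply hn yg.2]
    have hj : ix D j < dimL D := by
      rcases j with b | b <;> simp only [ix_inl, ix_inr, dimL] <;> omega
    rw [hy]
    exact vEq_sound (allR_upto hbase.2 hj) _
  · intro k hk
    have : X k (Sum.inr yg) = coef (fcol D (D.neg (D.simple q)) 1 (D.rank + D.simple g)) (ix D k) :=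
      congrFun hcol k
    rw [this] at hk
    obtain ⟨p, hp, hp1, hp2⟩ := exists_of_coef_ne hk
    have := allR_true hbase.1 hp
    simp only [Bool.or_eq_true, Int.beq'_eq, Nat.blt, Nat.ble_eq, hp1] at this
    rcases k with a | v
    · exact ⟨a, rfl⟩
    · exfalso
      rcases this with h0 | h1
      · exact hp2 h0
      · rw [ix_inr] at h1; omega

lemma derOn_adV_coroot {w : D.Idx → ℤ} (hw : ∀ v : Fin D.nroots, w (Sum.inr v) = 0)
    (z : Fin D.nroots) : DerOn D (adV D w) (Sum.inr z) := by
  have e : adV D w = ∑ a, w (Sum.inl a) • hmat D a := by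
    rw [adV, Fintype.sum_sum_type]
    simp [hw, bmat]
  have hcol : (fun i => adV D w i (Sum.inr z)) =
      Pi.single (Sum.inr z) (∑ a, w (Sum.inl a) * D.cartan a z) := by
    funext i
    rw [e, Matrix.sum_apply]
    by_cases hi : i = Sum.inr z
    · subst hi
      simp [hmat]
    · simp [hmat, Matrix.diagonal_apply_ne _ hi, Pi.single_eq_of_ne hi]
  rw [DerOn, hcol, adV_single, e, Finset.sum_mul, Finset.mul_sum, ← Finset.sum_sub_distrib,
    Finset.sum_smul]
  refine Finset.sum_congr rfl fun a _ => ?_
  show w (Sum.inl a) • hmat D a * rmat D z 1 - rmat D z 1 * w (Sum.inl a) • hmat D a = _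
  rw [Matrix.smul_mul, Matrix.mul_smul, ← smul_sub, h.hmat_comm, smul_smul]
  rfl

omit h in
lemma col_mul {A B : Matrix D.Idx D.Idx ℤ} (k : D.Idx) :
    (A *ᵥ fun i => B i k) = fun i => (A * B) i k := rfl

/-- The induction on heights. -/
lemma heights (m : ℕ) :
    (∀ y : Fin D.nroots, half D ≤ y.val → rootHt dat y.val ≤ (m : ℤ) + 1 →
      ∀ q : Fin D.rank, DerOn D (rmat D (D.neg (D.simple q)) 1) (Sum.inr y)) ∧
    (∀ y : Fin D.nroots, half D ≤ y.val → rootHt dat y.val ≤ (m : ℤ) →
      ∀ g : Fin D.rank, DerOn D (rmat D (D.simple g) 1) (Sum.inr y)) := by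
  have hcover : ∀ y : Fin D.nroots, half D ≤ y.val →
      (∃ g : Fin D.rank, y.val = D.simple g) ∨ ∃ t ∈ dat.dec, t.1 = y.val := by
    intro y hy
    have := allR_upto h.cover (show y.val - half D < half D by have := h.nroots_eq.1; omega)
    rw [show half D + (y.val - half D) = y.val by omega, Bool.or_eq_true, anyR_eq, anyR_eq,
      List.any_eq_true, List.any_eq_true] at this
    rcases this with ⟨i, hi, he⟩ | ⟨t, ht, he⟩
    · rw [Nat.beq_eq] at he
      have hi' : i < D.rank := by
        have key : ∀ n m, i ∈ (Nat.rec (motive := fun _ => ℕ → List ℕ) (fun _ => [])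
            (fun _ ih j => j :: ih (j + 1)) n m) → i < m + n := by
          intro n
          induction n with
          | zero => intro m hm; simp at hm
          | succ n ih =>
            intro m hm
            rcases List.mem_cons.1 hm with rfl | hm'
            · omega
            · have := ih _ hm'; omega
        simpa using key _ _ hi
      exact Or.inl ⟨⟨i, hi'⟩, by rw [(h.simple_facts hi').1]; exact he.symm⟩
    · exact Or.inr ⟨t, ht, Nat.beq_eq.mp he⟩
  induction m with
  | zero =>
    refine ⟨fun y hy hht q => ?_, fun y hy hht => ?_⟩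
    · rcases hcover y hy with ⟨g, hg⟩ | ⟨t, ht, he⟩
      · exact (h.baseDer q g hg).1
      · exfalso
        have hd := allR_true h.decs ht
        simp only [decStep, Bool.and_eq_true, Nat.blt, Nat.ble_eq, decide_eq_true_eq] at hd
        have h2 := hd.1.2
        have h3 := (h.root_class (u := t.2.2) (by omega)).2.2 (by omega)
        rw [he] at h2
        omega
    · exfalso
      have := (h.root_class y.2).2.2 hy
      omega
  | succ m ih =>
    have hM : ∀ y : Fin D.nroots, half D ≤ y.val → rootHt dat y.val ≤ (m : ℤ) + 2 →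
        ∀ q : Fin D.rank, DerOn D (rmat D (D.neg (D.simple q)) 1) (Sum.inr y) := by
      intro y hy hht q
      rcases hcover y hy with ⟨g, hg⟩ | ⟨t, ht, he⟩
      · exact (h.baseDer q g hg).1
      have hd := allR_true h.decs ht
      simp only [decStep, Bool.and_eq_true, Nat.blt, Nat.ble_eq, decide_eq_true_eq,
        Bool.not_eq_true', he] at hd
      obtain ⟨⟨⟨⟨⟨⟨⟨⟨hg, hz1⟩, hz2⟩, -⟩, -⟩, hne⟩, hcol⟩, hht'⟩, hcomm⟩ := hd
      set g : Fin D.rank := ⟨t.2.1, by omega⟩
      set z : Fin D.nroots := ⟨t.2.2, by omega⟩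
      obtain ⟨hsg, hgh, hltg, -⟩ := h.simple_facts g.2
      set p : Fin D.nroots := ⟨D.simple g, hltg⟩
      set c := coef (fcol D (fsimple dat t.2.1) 1 (D.rank + t.2.2)) (D.rank + y.val)
      have hc0 : c ≠ 0 := fun h0 => by rw [h0] at hne; exact absurd hne (by decide)
      have hp : (p : ℕ) = fsimple dat t.2.1 := hsg
      have hApz : (fun i => rmat D p 1 i (Sum.inr z)) = Pi.single (Sum.inr y) c := by
        funext i
        rw [h.rmat_apply p.2 (by simp), ix_inr, hp, vEq_sound hcol, coef_cons, coef_nil, add_zero]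
        by_cases hi : i = Sum.inr y
        · simp [hi, ix_inr, c]
        · rw [Pi.single_eq_of_ne hi,
            if_neg fun hc' => hi (ix_injective D (by rw [← hc', ix_inr]))]
      have hcA : c • rmat D y 1 = rmat D p 1 * rmat D z 1 - rmat D z 1 * rmat D p 1 := by
        ext i j
        have hj : ix D j < dimL D := by
          rcases j with b | b <;> simp only [ix_inl, ix_inr, dimL] <;> omega
        rw [h.comm_apply p.2 z.2, Matrix.smul_apply, smul_eq_mul, h.rmat_apply y.2 (by simp), hp,
          vEq_sound (allR_upto hcomm hj), coef_vsmul]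
      set X := rmat D (D.neg (D.simple q)) 1
      set W := X * rmat D p 1 - rmat D p 1 * X
      have hW : W = adV D fun i => X i (Sum.inr p) := (h.baseDer q g (yg := p) rfl).1
      have hWz : W * rmat D z 1 - rmat D z 1 * W = adV D fun i => W i (Sum.inr z) := by
        rw [hW]
        refine h.derOn_adV_coroot (fun v => ?_) z
        by_contra hne'
        obtain ⟨a, ha⟩ := (h.baseDer q g (yg := p) rfl).2 _ hne'
        simp at ha
      have hXz : X * rmat D z 1 - rmat D z 1 * X = adV D fun i => X i (Sum.inr z) :=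
        ih.1 z hz1 (by show rootHt dat t.2.2 ≤ _; omega) q
      have hPv : rmat D p 1 * adV D (fun i => X i (Sum.inr z)) -
          adV D (fun i => X i (Sum.inr z)) * rmat D p 1 =
            adV D (rmat D p 1 *ᵥ fun i => X i (Sum.inr z)) := by
        refine bracket_adV fun k hk => ?_
        rcases h.support_neg (y := z) hz1 hk with ⟨a, rfl, -⟩ | ⟨v, rfl, hv1, hv2⟩
        · exact h.derOn_inl p a
        · exact ih.2 v hv1 (by simp only [z] at hv2; omega) g
      have main : c • (X * rmat D y 1 - rmat D y 1 * X) = c • adV D fun i => X i (Sum.inr y) := by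
        have e1 : c • (X * rmat D y 1 - rmat D y 1 * X) =
            (W * rmat D z 1 - rmat D z 1 * W) +
              (rmat D p 1 * (X * rmat D z 1 - rmat D z 1 * X) -
                (X * rmat D z 1 - rmat D z 1 * X) * rmat D p 1) := by
          rw [smul_sub, ← Matrix.mul_smul, ← Matrix.smul_mul, hcA]
          simp only [W]
          noncomm_ring
        rw [e1, hXz, hPv, hWz, ← adV_add, ← adV_smul]
        congr 1
        funext i
        have e2 : (X *ᵥ fun i => rmat D p 1 i (Sum.inr z)) i = (c • fun i => X i (Sum.inr y)) i := by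
          rw [hApz, Matrix.mulVec_single]
          simp [mul_comm]
        rw [← e2]
        simp only [Pi.add_apply, col_mul, W, Matrix.sub_apply]
        ring
      exact smul_right_injective _ hc0 main
    refine ⟨fun y hy hht q => hM y hy (by push_cast at hht; omega) q, fun y hy hht g => ?_⟩
    rcases lt_or_ge (rootHt dat y.val) ((m : ℤ) + 1) with hlt | hge
    · exact ih.2 y hy (by omega) g
    obtain ⟨hsg, hgh, hltg, -⟩ := h.simple_facts g.2
    set p : Fin D.nroots := ⟨D.simple g, hltg⟩
    set Ag := rmat D p 1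
    set Ay := rmat D y 1
    set v : D.Idx → ℤ := fun i => Ag i (Sum.inr y)
    obtain ⟨t, ht⟩ := mem_range_ix D (show D.rank + (D.nroots - 1) < D.rank + D.nroots by
      have := h.nroots_eq; omega)
    have hsv : ∀ k, v k ≠ 0 → ∃ x : Fin D.nroots,
        k = Sum.inr x ∧ half D ≤ x.val ∧ rootHt dat x.val = rootHt dat y.val + 1 :=
      fun k hk => h.support_pos hy hk
    have hZ : Ag * Ay - Ay * Ag - adV D v = 0 := by
      refine h.centralizer_zero ht (fun i => ?_) fun q => ?_
      · have hv : adV D v i t = 0 := by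
          rw [adV_apply]
          refine Finset.sum_eq_zero fun k _ => ?_
          by_cases hk : v k = 0
          · rw [hk, zero_mul]
          · obtain ⟨x, rfl, hx, -⟩ := hsv k hk
            rw [show bmat D (Sum.inr x) i t = rmat D x 1 i t from rfl, h.top_col hx i t ht,
              mul_zero]
        simp [Matrix.sub_apply, Matrix.mul_apply, Ag, Ay, h.top_col (v := p) hgh _ t ht,
          h.top_col hy _ t ht, hv]
      · set X := rmat D (D.neg (D.simple q)) 1
        set W := X * Ag - Ag * X
        have hW : W = adV D fun i => X i (Sum.inr p) := (h.baseDer q g (yg := p) rfl).1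
        have hWy : W * Ay - Ay * W = adV D fun i => W i (Sum.inr y) := by
          rw [hW]
          refine h.derOn_adV_coroot (fun x => ?_) y
          by_contra hne'
          obtain ⟨a, ha⟩ := (h.baseDer q g (yg := p) rfl).2 _ hne'
          simp at ha
        have hXy : X * Ay - Ay * X = adV D fun i => X i (Sum.inr y) :=
          hM y hy (by push_cast at hht; omega) q
        have hgv : Ag * adV D (fun i => X i (Sum.inr y)) -
            adV D (fun i => X i (Sum.inr y)) * Ag = adV D (Ag *ᵥ fun i => X i (Sum.inr y)) := by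
          refine bracket_adV fun k hk => ?_
          rcases h.support_neg (y := y) hy hk with ⟨a, rfl, -⟩ | ⟨x, rfl, hx1, hx2⟩
          · exact h.derOn_inl p a
          · exact ih.2 x hx1 (by push_cast at hht; omega) g
        have hXv : X * adV D v - adV D v * X = adV D (X *ᵥ v) := by
          refine bracket_adV fun k hk => ?_
          obtain ⟨x, rfl, hx1, hx2⟩ := hsv k hk
          exact hM x hx1 (by push_cast at hht; omega) q
        have e1 : X * (Ag * Ay - Ay * Ag) - (Ag * Ay - Ay * Ag) * X = adV D (X *ᵥ v) := by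
          have e : X * (Ag * Ay - Ay * Ag) - (Ag * Ay - Ay * Ag) * X =
              (W * Ay - Ay * W) + (Ag * (X * Ay - Ay * X) - (X * Ay - Ay * X) * Ag) := by
            simp only [W]; noncomm_ring
          rw [e, hWy, hXy, hgv, ← adV_add]
          congr 1
          funext i
          simp only [Pi.add_apply, v, col_mul, W, Matrix.sub_apply]
          ring
        rw [← sub_eq_zero]
        calc X * (Ag * Ay - Ay * Ag - adV D v) - (Ag * Ay - Ay * Ag - adV D v) * X
            = (X * (Ag * Ay - Ay * Ag) - (Ag * Ay - Ay * Ag) * X) -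
                (X * adV D v - adV D v * X) := by noncomm_ring
          _ = 0 := by rw [e1, hXv, sub_self]
    exact sub_eq_zero.1 hZ

lemma gen_derOn (g : Fin D.rank) (k : D.Idx) :
    DerOn D (rmat D (D.simple g) 1) k ∧ DerOn D (rmat D (D.neg (D.simple g)) 1) k := by
  obtain ⟨hsg, hgh, hltg, -⟩ := h.simple_facts g.2
  set p : Fin D.nroots := ⟨D.simple g, hltg⟩
  have hnp : p.rev.val = D.neg (D.simple g) := by
    rw [neg_eq h.pack hltg, fneg, Fin.val_rev]; simp only [p]; omega
  have pos : ∀ y : Fin D.nroots, half D ≤ y.val →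
      DerOn D (rmat D p 1) (Sum.inr y) ∧ DerOn D (rmat D p.rev 1) (Sum.inr y) := by
    intro y hy
    have := h.heights ((rootHt dat y.val).toNat)
    exact ⟨this.2 y hy (by omega) g, hnp.symm ▸ this.1 y hy (by omega) g⟩
  have theta : ∀ (u : Fin D.nroots) (k : D.Idx), DerOn D (rmat D u 1) k →
      DerOn D (rmat D u.rev 1) (sigma D k) := by
    intro u k hd
    have := derOn_neg (h.derOn_theta hd)
    rwa [h.rmat_theta, neg_neg] at this
  have : DerOn D (rmat D p 1) k ∧ DerOn D (rmat D p.rev 1) k := by
    rcases k with a | y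
    · exact ⟨h.derOn_inl p a, h.derOn_inl p.rev a⟩
    · by_cases hy : half D ≤ y.val
      · exact pos y hy
      · have hr : half D ≤ y.rev.val := by
          have := h.nroots_eq.1
          rw [Fin.val_rev]; omega
        obtain ⟨h1, h2⟩ := pos _ hr
        have t1 := theta _ _ h1
        have t2 := theta _ _ h2
        simp only [sigma_inr, Fin.rev_rev] at t1 t2
        exact ⟨t2, t1⟩
  exact ⟨this.1, hnp ▸ this.2⟩

/-- Every `ad v` is a derivation. -/
lemma isDer_bmat (k l : D.Idx) : DerOn D (bmat D k) l := by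
  have lin : ∀ (X : Matrix D.Idx D.Idx ℤ), (∀ m, DerOn D X m) → ∀ v,
      X * adV D v - adV D v * X = adV D (X *ᵥ v) := fun X hX v => bracket_adV fun m _ => hX m
  have brk : ∀ X Y : Matrix D.Idx D.Idx ℤ, (∀ m, DerOn D X m) → (∀ m, DerOn D Y m) →
      ∀ m, DerOn D (X * Y - Y * X) m := by
    intro X Y hX hY m
    have e : (X * Y - Y * X) * bmat D m - bmat D m * (X * Y - Y * X) =
        (X * (Y * bmat D m - bmat D m * Y) - (Y * bmat D m - bmat D m * Y) * X) -
          (Y * (X * bmat D m - bmat D m * X) - (X * bmat D m - bmat D m * X) * Y) := by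
      noncomm_ring
    rw [DerOn, e, hY m, hX m, lin X hX, lin Y hY, sub_eq_add_neg, ← adV_neg, ← adV_add]
    congr 1
  have canc : ∀ (c : ℤ) (X : Matrix D.Idx D.Idx ℤ), c ≠ 0 → (∀ m, DerOn D (c • X) m) →
      ∀ m, DerOn D X m := by
    intro c X hc hX m
    have := hX m
    rw [DerOn, Matrix.smul_mul, Matrix.mul_smul, ← smul_sub,
      show (fun i => (c • X) i m) = c • (fun i => X i m) from rfl, adV_smul] at this
    exact smul_right_injective _ hc this
  -- positive roots
  have hpos : ∀ (n : ℕ) (y : Fin D.nroots), half D ≤ y.val → rootHt dat y.val ≤ n →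
      ∀ m, DerOn D (rmat D y 1) m := by
    intro n
    induction n with
    | zero => intro y hy hht; have := (h.root_class y.2).2.2 hy; omega
    | succ n ih =>
      intro y hy hht
      have := allR_upto h.cover (show y.val - half D < half D by have := h.nroots_eq.1; omega)
      rw [show half D + (y.val - half D) = y.val by omega, Bool.or_eq_true, anyR_eq, anyR_eq,
        List.any_eq_true, List.any_eq_true] at this
      rcases this with ⟨i, hi, he⟩ | ⟨t, ht, he⟩
      · rw [Nat.beq_eq] at he
        have hi' : i < D.rank := by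
          have key : ∀ n m, i ∈ (Nat.rec (motive := fun _ => ℕ → List ℕ) (fun _ => [])
              (fun _ ih j => j :: ih (j + 1)) n m) → i < m + n := by
            intro n
            induction n with
            | zero => intro m hm; simp at hm
            | succ n ih =>
              intro m hm
              rcases List.mem_cons.1 hm with rfl | hm'
              · omega
              · have := ih _ hm'; omega
          simpa using key _ _ hi
        intro m
        rw [← he, ← (h.simple_facts hi').1]
        exact (h.gen_derOn ⟨i, hi'⟩ m).1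
      · rw [Nat.beq_eq] at he
        have hd := allR_true h.decs ht
        simp only [decStep, Bool.and_eq_true, Nat.blt, Nat.ble_eq, decide_eq_true_eq,
          Bool.not_eq_true', he] at hd
        obtain ⟨⟨⟨⟨⟨⟨⟨⟨hg, hz1⟩, hz2⟩, -⟩, -⟩, hne⟩, -⟩, hht'⟩, hcomm⟩ := hd
        set z : Fin D.nroots := ⟨t.2.2, by omega⟩
        obtain ⟨hsg, hgh, hltg, -⟩ := h.simple_facts (show t.2.1 < D.rank by omega)
        set c := coef (fcol D (fsimple dat t.2.1) 1 (D.rank + t.2.2)) (D.rank + y.val)
        have hc0 : c ≠ 0 := fun h0 => by rw [h0] at hne; exact absurd hne (by decide)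
        refine canc c _ hc0 ?_
        have : c • rmat D y 1 =
            rmat D (D.simple t.2.1) 1 * rmat D z 1 - rmat D z 1 * rmat D (D.simple t.2.1) 1 := by
          ext i j
          have hj : ix D j < dimL D := by
            rcases j with b | b <;> simp only [ix_inl, ix_inr, dimL] <;> omega
          rw [h.comm_apply hltg z.2, Matrix.smul_apply, smul_eq_mul, h.rmat_apply y.2 (by simp),
            hsg, vEq_sound (allR_upto hcomm hj), coef_vsmul]
        rw [this]
        exact brk _ _ (fun m => (h.gen_derOn ⟨t.2.1, by omega⟩ m).1)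
          (ih z hz1 (by show rootHt dat t.2.2 ≤ _; omega))
  rcases k with a | u
  · -- coroots act diagonally with additive weights
    rcases l with b | v
    · show hmat D a * hmat D b - hmat D b * hmat D a = _
      have hzero : (fun i => bmat D (Sum.inl a) i (Sum.inl b)) = 0 := by
        funext i
        show hmat D a i (Sum.inl b) = 0
        rw [hmat, Matrix.diagonal_apply]
        by_cases hi : i = Sum.inl b <;> simp [hi]
      rw [hzero, hmat, hmat, Matrix.diagonal_mul_diagonal, Matrix.diagonal_mul_diagonal]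
      simp [adV, mul_comm]
    · show hmat D a * rmat D v 1 - rmat D v 1 * hmat D a = _
      have hcol : (fun i => bmat D (Sum.inl a) i (Sum.inr v)) =
          Pi.single (Sum.inr v) (D.cartan a v) := by
        funext i
        show hmat D a i (Sum.inr v) = _
        by_cases hi : i = Sum.inr v
        · simp [hi, hmat]
        · simp [hmat, Matrix.diagonal_apply_ne _ hi, Pi.single_eq_of_ne hi]
      rw [hcol, adV_single, h.hmat_comm]
      rfl
  · show DerOn D (rmat D u 1) l
    by_cases hu : half D ≤ u.val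
    · exact hpos _ u hu (Int.self_le_toNat _) l
    · have hr : half D ≤ u.rev.val := by
        have := h.nroots_eq.1
        rw [Fin.val_rev]; omega
      have := derOn_neg (h.derOn_theta (hpos _ _ hr (Int.self_le_toNat _) (sigma D l)))
      rwa [h.rmat_theta, neg_neg, Fin.rev_rev, sigma_sigma] at this

/-- `ad` respects brackets. -/
theorem adV_bracket (v w : D.Idx → ℤ) :
    adV D v * adV D w - adV D w * adV D v = adV D (adV D v *ᵥ w) := by
  refine bracket_adV fun k _ => ?_
  rw [DerOn]
  have e : adV D v * bmat D k - bmat D k * adV D v =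
      ∑ a, v a • (bmat D a * bmat D k - bmat D k * bmat D a) := by
    simp only [adV, Finset.sum_mul, Finset.mul_sum, ← Finset.sum_sub_distrib, Matrix.smul_mul,
      Matrix.mul_smul, smul_sub]
  rw [e, show (∑ a, v a • (bmat D a * bmat D k - bmat D k * bmat D a)) =
    ∑ a, v a • adV D (fun i => bmat D a i k) from
    Finset.sum_congr rfl fun a _ => congrArg _ (h.isDer_bmat a k)]
  ext i j
  simp only [Matrix.sum_apply, Matrix.smul_apply, adV_apply, smul_eq_mul, Finset.mul_sum,
    Finset.sum_mul]
  rw [Finset.sum_comm]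
  exact Finset.sum_congr rfl fun a _ => Finset.sum_congr rfl fun b _ => by ring

end LieChecks

end CfsgLib.Chev
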