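import Mathlib
import Cfsg.Agent.Lib.Chev.LieHom

/-!
Root elements over a commutative ring: additivity and the automorphism property.
-/

set_option autoImplicit false

namespace CfsgLib.Chev

open Cfsg.Lie Matrix

/-- The coefficients of `(1 + A + A₂ + A₃) B (1 - A + A₂ - A₃)`, by degree. -/
def expCoef {S : Type*} [Ring S] (A A2 A3 B : S) : ℕ → S
  | 0 => B
  | 1 => A * B - B * A
  | 2 => A2 * B - A * B * A + B * A2
  | 3 => A3 * B - A2 * B * A + A * B * A2 - B * A3
  | 4 => A2 * B * A2 - A3 * B * A - A * B * A3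
  | 5 => A3 * B * A2 - A2 * B * A3
  | 6 => -(A3 * B * A3)
  | _ => 0

lemma expCoef_step {S : Type*} [Ring S] {A A2 A3 B : S} (h11 : A * A = A2 + A2)
    (h12 : A * A2 = A3 + A3 + A3) (h13 : A * A3 = 0) (h21 : A2 * A = A3 + A3 + A3)
    (h31 : A3 * A = 0) : ∀ n, n < 7 →
    A * expCoef A A2 A3 B n - expCoef A A2 A3 B n * A = (n + 1) • expCoef A A2 A3 B (n + 1) := by
  have r11 : ∀ x : S, A * (A * x) = (A2 + A2) * x := fun x => by rw [← mul_assoc, h11]
  have r12 : ∀ x : S, A * (A2 * x) = (A3 + A3 + A3) * x := fun x => by rw [← mul_assoc, h12]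
  have r13 : ∀ x : S, A * (A3 * x) = 0 := fun x => by rw [← mul_assoc, h13, zero_mul]
  intro n hn
  match n, hn with
  | 0, _ => simp [expCoef]
  | 1, _ =>
    simp only [expCoef, mul_sub, sub_mul, mul_assoc, r11, h11, add_mul, mul_add, succ_nsmul,
      zero_nsmul]
    abel
  | 2, _ =>
    simp only [expCoef, mul_sub, sub_mul, mul_assoc, r11, r12, h11, h21, h12, add_mul, mul_add,
      succ_nsmul, zero_nsmul]
    abel
  | 3, _ =>
    simp only [expCoef, mul_sub, sub_mul, mul_assoc, r11, r12, r13, h11, h12, h21, h31, add_mul,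
      mul_add, succ_nsmul, zero_nsmul, mul_zero]
    abel
  | 4, _ =>
    simp only [expCoef, mul_sub, sub_mul, mul_assoc, r11, r12, r13, h11, h12, h21, h31, add_mul,
      mul_add, succ_nsmul, zero_nsmul, mul_zero, mul_neg]
    abel
  | 5, _ =>
    simp only [expCoef, mul_sub, sub_mul, mul_assoc, r11, r12, r13, h11, h12, h21, h31, add_mul,
      mul_add, succ_nsmul, zero_nsmul, mul_zero, mul_neg]
    abel
  | 6, _ =>
    simp only [expCoef, mul_neg, neg_mul, mul_assoc, r13, h31, mul_zero, neg_zero, sub_zero,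
      succ_nsmul, zero_nsmul]
    simp

variable (D : ChevalleyDatum) (R : Type*) [CommRing R]

/-- The coefficient matrices over `R`. -/
noncomputable def amat (u k : ℕ) : Matrix D.Idx D.Idx R := (rmat D u k).map (Int.cast : ℤ → R)

/-- The root element `x_u(t)` over `R`. -/
noncomputable def xr (u : ℕ) (t : R) : Matrix D.Idx D.Idx R :=
  1 + t • amat D R u 1 + t ^ 2 • amat D R u 2 + t ^ 3 • amat D R u 3

/-- The matrix of `ad v` over `R`. -/
noncomputable def adR (v : D.Idx → R) : Matrix D.Idx D.Idx R :=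
  ∑ k, v k • (bmat D k).map (Int.cast : ℤ → R)

/-- The monoid of matrices respecting the bracket. -/
def IsAut (g : Matrix D.Idx D.Idx R) : Prop := ∀ v, g * adR D R v = adR D R (g *ᵥ v) * g

variable {D R}

lemma xr_map {S : Type*} [CommRing S] (f : R →+* S) (u : ℕ) (t : R) :
    (xr D R u t).map f = xr D S u (f t) := by
  ext i j
  by_cases hij : i = j <;>
    simp [xr, amat, hij, map_add, map_mul, map_pow, map_intCast]

lemma map_intMat_mul (A B : Matrix D.Idx D.Idx ℤ) :
    A.map (Int.cast : ℤ → R) * B.map (Int.cast : ℤ → R) = (A * B).map (Int.cast : ℤ → R) :=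
  (Matrix.map_mul (f := Int.castRingHom R)).symm

lemma map_intMat_add (A B : Matrix D.Idx D.Idx ℤ) :
    (A + B).map (Int.cast : ℤ → R) = A.map (Int.cast : ℤ → R) + B.map (Int.cast : ℤ → R) := by
  ext i j; simp

lemma map_intMat_zero : (0 : Matrix D.Idx D.Idx ℤ).map (Int.cast : ℤ → R) = 0 := by
  ext i j; simp

namespace LieChecks

variable {dat : LieData} (h : LieChecks D dat)
include h

/-- Products of coefficient matrices over the integers. -/
lemma rmat_mul {u : ℕ} (hu : u < D.nroots) :
    rmat D u 1 * rmat D u 1 = rmat D u 2 + rmat D u 2 ∧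
    rmat D u 1 * rmat D u 2 = rmat D u 3 + rmat D u 3 + rmat D u 3 ∧
    rmat D u 1 * rmat D u 3 = 0 ∧
    rmat D u 2 * rmat D u 1 = rmat D u 3 + rmat D u 3 + rmat D u 3 ∧
    rmat D u 3 * rmat D u 1 = 0 ∧
    rmat D u 2 * rmat D u 2 = 0 ∧ rmat D u 2 * rmat D u 3 = 0 ∧ rmat D u 3 * rmat D u 2 = 0 ∧
    rmat D u 3 * rmat D u 3 = 0 := by
  have hr := allR_upto h.pows hu
  have e : ∀ k ∈ [1, 2, 3], ∀ i j : D.Idx, (rmat D u 1 * rmat D u k) i j =
      coef (sapp (fcol D u 1) (fcol D u k (ix D j))) (ix D i) := by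
    intro k hk i j
    have hA : rmat D u 1 = smat (ix D) (fcol D u 1) := by
      ext x y; rw [h.rmat_apply hu (by simp)]; rfl
    have hB : rmat D u k = smat (ix D) (fcol D u k) := by
      ext x y; rw [h.rmat_apply hu hk]; rfl
    rw [hA, hB, smat_mul_apply (ix D) (ix_injective D)]
    exact h.fcol_range hu hk _
  have hdim : ∀ j : D.Idx, ix D j < dimL D := by
    intro j; rcases j with b | b <;> simp only [ix_inl, ix_inr, dimL] <;> omega
  have h11 : rmat D u 1 * rmat D u 1 = rmat D u 2 + rmat D u 2 := by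
    ext i j
    have := allR_upto hr (hdim j)
    simp only [Bool.and_eq_true] at this
    rw [e 1 (by simp), vEq_sound this.1.1, coef_vsmul, Matrix.add_apply, h.rmat_apply hu (by simp)]
    ring
  have h12 : rmat D u 1 * rmat D u 2 = rmat D u 3 + rmat D u 3 + rmat D u 3 := by
    ext i j
    have := allR_upto hr (hdim j)
    simp only [Bool.and_eq_true] at this
    rw [e 2 (by simp), vEq_sound this.1.2, coef_vsmul, Matrix.add_apply, Matrix.add_apply,
      h.rmat_apply hu (by simp)]
    ring
  have h13 : rmat D u 1 * rmat D u 3 = 0 := by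
    ext i j
    have := allR_upto hr (hdim j)
    simp only [Bool.and_eq_true] at this
    rw [e 3 (by simp), vEq_sound this.2, coef_nil]
    rfl
  set A := rmat D u 1
  set A2 := rmat D u 2
  set A3 := rmat D u 3
  have two : ∀ X Y : Matrix D.Idx D.Idx ℤ, X + X = Y + Y → X = Y := fun X Y hXY => by
    ext i j; have := congrFun (congrFun hXY i) j; simp only [Matrix.add_apply] at this; omega
  have three : ∀ X Y : Matrix D.Idx D.Idx ℤ, X + X + X = Y + Y + Y → X = Y := fun X Y hXY => by
    ext i j; have := congrFun (congrFun hXY i) j; simp only [Matrix.add_apply] at this; omega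
  have h21 : A2 * A = A3 + A3 + A3 := two _ _ (by
    rw [← add_mul, ← h11, mul_assoc, h11, mul_add, h12])
  have h31 : A3 * A = 0 := three _ _ (by
    rw [← add_mul, ← add_mul, ← h12, mul_assoc, h21, mul_add, mul_add, h13]; try simp)
  have h22 : A2 * A2 = 0 := two _ _ (by
    rw [← add_mul, ← h11, mul_assoc, h12, mul_add, mul_add, h13]; simp)
  have h23 : A2 * A3 = 0 := two _ _ (by
    rw [← add_mul, ← h11, mul_assoc, h13, mul_zero, add_zero])
  have h32 : A3 * A2 = 0 := three _ _ (by
    rw [← add_mul, ← add_mul, ← h12, mul_assoc, h22, mul_zero]; simp)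
  have h33 : A3 * A3 = 0 := three _ _ (by
    rw [← add_mul, ← add_mul, ← h12, mul_assoc, h23, mul_zero]; simp)
  exact ⟨h11, h12, h13, h21, h31, h22, h23, h32, h33⟩

omit h in
lemma adR_single (k : D.Idx) : adR D R (Pi.single k 1) = (bmat D k).map (Int.cast : ℤ → R) := by
  rw [adR, Finset.sum_eq_single k]
  · simp
  · intro b _ hb; simp [hb]
  · simp

omit h in
lemma adR_intCast (v : D.Idx → ℤ) :
    adR D R (fun k => (v k : R)) = (adV D v).map (Int.cast : ℤ → R) := by
  ext i j
  simp [adR, Matrix.map_apply, adV_apply, Matrix.sum_apply, Matrix.smul_apply, Int.cast_sum]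

/-- Additivity. -/
theorem xr_mul {u : ℕ} (hu : u < D.nroots) (s t : R) :
    xr D R u s * xr D R u t = xr D R u (s + t) := by
  obtain ⟨h11, h12, h13, h21, h31, h22, h23, h32, h33⟩ := h.rmat_mul hu
  have m : ∀ (a b : ℕ) (M : Matrix D.Idx D.Idx ℤ), rmat D u a * rmat D u b = M →
      amat D R u a * amat D R u b = M.map (Int.cast : ℤ → R) := by
    intro a b M hM; rw [amat, amat, map_intMat_mul, hM]
  simp only [xr, mul_add, add_mul, one_mul, mul_one, Matrix.smul_mul, Matrix.mul_smul, smul_smul,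
    m _ _ _ h11, m _ _ _ h12, m _ _ _ h13, m _ _ _ h21, m _ _ _ h31, m _ _ _ h22, m _ _ _ h23,
    m _ _ _ h32, m _ _ _ h33, map_intMat_add, map_intMat_zero, smul_zero, add_zero]
  simp only [amat]
  module

omit h in
lemma xr_zero (u : ℕ) : xr D R u (0 : R) = 1 := by simp [xr]

lemma xr_inv {u : ℕ} (hu : u < D.nroots) (t : R) :
    xr D R u t * xr D R u (-t) = 1 := by
  rw [h.xr_mul hu, add_neg_cancel, xr_zero]

lemma expCoef_adV {u : ℕ} (hu : u < D.nroots) (v : D.Idx → ℤ) :
    ∀ n ≤ 7, expCoef (rmat D u 1) (rmat D u 2) (rmat D u 3) (adV D v) n =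
      if n = 0 then adV D v else if n ≤ 3 then adV D (rmat D u n *ᵥ v) else 0 := by
  obtain ⟨h11, h12, h13, h21, h31, -⟩ := h.rmat_mul hu
  have step := expCoef_step (B := adV D v) h11 h12 h13 h21 h31
  have br : ∀ w, rmat D u 1 * adV D w - adV D w * rmat D u 1 = adV D (rmat D u 1 *ᵥ w) := fun w =>
    bracket_adV fun k _ => h.isDer_bmat (Sum.inr ⟨u, hu⟩) k
  have canc : ∀ (n : ℕ) (X Y : Matrix D.Idx D.Idx ℤ), (n + 1) • X = (n + 1) • Y → X = Y :=
    fun n X Y hXY => by
      rw [← natCast_zsmul, ← natCast_zsmul] at hXY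
      exact smul_right_injective _ (by omega : ((n + 1 : ℕ) : ℤ) ≠ 0) hXY
  intro n hn
  induction n with
  | zero => rfl
  | succ n ih =>
    apply canc n
    rw [← step n (by omega), ih (by omega), if_neg (Nat.succ_ne_zero n)]
    match n, hn with
    | 0, _ =>
      rw [if_pos rfl, br]
      simp
    | 1, _ =>
      simp only [Nat.reduceAdd, if_neg (show ¬ (1 = 0) by omega), if_pos (show 1 ≤ 3 by omega),
        if_pos (show 2 ≤ 3 by omega)]
      rw [br, Matrix.mulVec_mulVec, h11, Matrix.add_mulVec, adV_add, two_nsmul]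
    | 2, _ =>
      simp only [Nat.reduceAdd, if_neg (show ¬ (2 = 0) by omega), if_pos (show 2 ≤ 3 by omega),
        if_pos (show 3 ≤ 3 by omega)]
      rw [br, Matrix.mulVec_mulVec, h12, Matrix.add_mulVec, Matrix.add_mulVec, adV_add, adV_add,
        succ_nsmul, two_nsmul]
    | 3, _ =>
      simp only [Nat.reduceAdd, if_neg (show ¬ (3 = 0) by omega), if_pos (show 3 ≤ 3 by omega),
        if_neg (show ¬ (4 ≤ 3) by omega), smul_zero]
      rw [br, Matrix.mulVec_mulVec, h13, Matrix.zero_mulVec]
      simp [adV]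
    | m + 4, _ =>
      rw [if_neg (by omega), if_neg (by omega), if_neg (by omega)]
      simp

/-- Root elements respect the bracket. -/
theorem xr_isAut {u : ℕ} (hu : u < D.nroots) (t : R) : IsAut D R (xr D R u t) := by
  have key : ∀ k : D.Idx, xr D R u t * (bmat D k).map (Int.cast : ℤ → R) * xr D R u (-t) =
      adR D R (xr D R u t *ᵥ Pi.single k 1) := by
    intro k
    have hB : bmat D k = adV D (Pi.single k 1) := by rw [adV_single, one_smul]
    have C := fun n hn => congrArg (fun M : Matrix D.Idx D.Idx ℤ => M.map (Int.cast : ℤ → R))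
      (h.expCoef_adV hu (Pi.single k (1 : ℤ)) n hn)
    have c1 := C 1 (by omega)
    have c2 := C 2 (by omega)
    have c3 := C 3 (by omega)
    have c4 := C 4 (by omega)
    have c5 := C 5 (by omega)
    have c6 := C 6 (by omega)
    simp only [expCoef, ← hB, if_neg, OfNat.ofNat_ne_zero, one_ne_zero, not_false_eq_true,
      Nat.one_le_ofNat, Nat.reduceLeDiff, le_refl, if_true, if_false, if_pos,
      ← adR_intCast] at c1 c2 c3 c4 c5 c6
    have hmn : ∀ (n : ℕ), (fun i => ((rmat D u n *ᵥ Pi.single k (1 : ℤ)) i : R)) =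
        amat D R u n *ᵥ Pi.single k 1 := by
      intro n; funext i; simp [amat]
    have hsub : ∀ (X Y : Matrix D.Idx D.Idx ℤ), (X - Y).map (Int.cast : ℤ → R) =
        X.map (Int.cast : ℤ → R) - Y.map (Int.cast : ℤ → R) := by
      intro X Y; ext i j; simp
    have hneg : ∀ (X : Matrix D.Idx D.Idx ℤ), (-X).map (Int.cast : ℤ → R) =
        -X.map (Int.cast : ℤ → R) := by
      intro X; ext i j; simp
    simp only [hmn, hsub, hneg, map_intMat_add, map_intMat_zero, ← map_intMat_mul] at c1 c2 c3 c4 c5 c6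
    set B := (bmat D k).map (Int.cast : ℤ → R)
    have hrhs : adR D R (xr D R u t *ᵥ Pi.single k 1) = B + t • adR D R (amat D R u 1 *ᵥ Pi.single k 1)
        + t ^ 2 • adR D R (amat D R u 2 *ᵥ Pi.single k 1)
        + t ^ 3 • adR D R (amat D R u 3 *ᵥ Pi.single k 1) := by
      show _ = (bmat D k).map (Int.cast : ℤ → R) + _ + _ + _
      rw [← adR_single (R := R) k]
      simp only [adR, xr, Matrix.add_mulVec, Matrix.one_mulVec, Matrix.smul_mulVec,
        Pi.add_apply, Pi.smul_apply, smul_eq_mul, add_smul, Finset.sum_add_distrib, Finset.smul_sum,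
        smul_smul]
    rw [hrhs, ← c1, ← c2, ← c3]
    have expand : xr D R u t * B * xr D R u (-t) =
        B + t • (amat D R u 1 * B - B * amat D R u 1)
        + t ^ 2 • (amat D R u 2 * B - amat D R u 1 * B * amat D R u 1 + B * amat D R u 2)
        + t ^ 3 • (amat D R u 3 * B - amat D R u 2 * B * amat D R u 1
            + amat D R u 1 * B * amat D R u 2 - B * amat D R u 3)
        + t ^ 4 • (amat D R u 2 * B * amat D R u 2 - amat D R u 3 * B * amat D R u 1
            - amat D R u 1 * B * amat D R u 3)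
        + t ^ 5 • (amat D R u 3 * B * amat D R u 2 - amat D R u 2 * B * amat D R u 3)
        + t ^ 6 • (-(amat D R u 3 * B * amat D R u 3)) := by
      simp only [xr, mul_add, add_mul, one_mul, mul_one, Matrix.smul_mul, Matrix.mul_smul, smul_smul]
      module
    rw [expand]
    simp only [amat] at c4 c5 c6 ⊢
    rw [c4, c5, c6, smul_zero, smul_zero, smul_zero, add_zero, add_zero, add_zero]
  intro v
  have e : xr D R u t * adR D R v * xr D R u (-t) = adR D R (xr D R u t *ᵥ v) := by
    conv_lhs => rw [adR, Finset.mul_sum, Finset.sum_mul]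
    simp only [Matrix.mul_smul, Matrix.smul_mul, key]
    ext i j
    simp only [adR, Matrix.sum_apply, Matrix.smul_apply, smul_eq_mul, Matrix.map_apply,
      Finset.mul_sum, Matrix.mulVec_single_one, Matrix.col_apply]
    rw [Finset.sum_comm]
    refine Finset.sum_congr rfl fun a _ => ?_
    simp only [Matrix.mulVec, dotProduct, Finset.sum_mul]
    exact Finset.sum_congr rfl fun b _ => by ring
  rw [← e]
  have := h.xr_inv hu (-t)
  rw [neg_neg] at this
  rw [mul_assoc, this, mul_one]

end LieChecks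

end CfsgLib.Chev
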