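import Mathlib
import Cfsg.Agent.Lib.Chev.LieCheck

/-!
Boolean checks for the root system and the fundamental reflections of a Chevalley datum.
-/

set_option autoImplicit false

namespace CfsgLib.Chev

open Cfsg.Lie

/-- Auxiliary tables for the root system. -/
structure StructData where
  /-- the reflections, as permutations of the root indices -/
  refl : List (List ℕ)
  /-- `(y, i, x)`: the root `y` is the reflection of `x` in `p_i` -/
  orb : List (ℕ × ℕ × ℕ)

variable (D : ChevalleyDatum) (dat : LieData) (sd : StructData)

/-- The coordinates of a root on the fundamental roots. -/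
noncomputable def rootCo (u j : ℕ) : ℤ := nth 0 (nth [] dat.co u) j

/-- The reflection of a root. -/
noncomputable def refl (i s : ℕ) : ℕ := nth 0 (nth [] sd.refl i) s

/-- The coordinate of a basis vector. -/
noncomputable def basisCo (m j : ℕ) : ℤ := bif Nat.blt m D.rank then 0 else rootCo dat (m - D.rank) j

/-- Kronecker delta. -/
noncomputable def fdelta (i j : ℕ) : ℤ := bif Nat.beq i j then 1 else 0

/-- Root vectors have the correct coordinates. -/
noncomputable def coordRow (u : ℕ) : Bool :=
  allR (fun m => allR (fun p : ℕ × ℤ => Int.beq' p.2 0 ||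
      allR (fun j => Int.beq' (basisCo D dat p.1 j) (basisCo D dat m j + rootCo dat u j))
        (upto D.rank))
    (fcol D u 1 m)) (upto (dimL D))

/-- The sum `Σ_{j < n} f j`. -/
noncomputable def sumUpto (n : ℕ) (f : ℕ → ℤ) : ℤ := List.rec 0 (fun j _ ih => f j + ih) (upto n)

/-- Strict lexicographic comparison. -/
noncomputable def lexLt (a : List ℤ) : List ℤ → Bool :=
  List.rec (fun _ => false)
    (fun x _ ih b => List.rec false
      (fun y b' _ => decide (x < y) || (Int.beq' x y && ih b')) b) a

/-- Linearity of the Cartan integers and shape of the coordinates. -/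
noncomputable def coLinear : Bool :=
  allR (fun u =>
    Nat.beq (nth [] dat.co u).length D.rank &&
    allR (fun i => Int.beq' (fcartan D i u)
      (sumUpto D.rank fun j => rootCo dat u j * fcartan D i (fsimple dat j))) (upto D.rank) &&
    allR (fun j => Int.beq' (rootCo dat (fneg D u) j) (- rootCo dat u j)) (upto D.rank) &&
    (Nat.beq (u + 1) D.nroots || lexLt (nth [] dat.co u) (nth [] dat.co (u + 1))) &&
    (Nat.blt u (half D) || allR (fun j => decide (0 ≤ rootCo dat u j)) (upto D.rank)))
    (upto D.nroots) &&
  allR (fun i => Int.beq' (fcartan D i (fsimple dat i)) 2 &&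
    allR (fun j => Int.beq' (rootCo dat (fsimple dat i) j) (fdelta i j) &&
      Int.beq' (fcoroot D (fsimple dat i) j) (fdelta i j)) (upto D.rank)) (upto D.rank)

/-- The pairing with the coroot of `r`. -/
noncomputable def fpair (r u : ℕ) : ℤ := sumUpto D.rank fun i => fcoroot D r i * fcartan D i u

/-- The reflection table. -/
noncomputable def reflRow (i s : ℕ) : Bool :=
  Nat.beq (D.reflectRoot i s) (refl sd i s) && Nat.blt (refl sd i s) D.nroots &&
    Nat.beq (refl sd i (refl sd i s)) s &&
    Nat.beq (refl sd i (fneg D s)) (fneg D (refl sd i s)) &&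
    allR (fun j => Int.beq' (rootCo dat (refl sd i s) j)
      (rootCo dat s j - fdelta i j * fcartan D i s)) (upto D.rank) &&
    allR (fun j => Int.beq' (fcoroot D (refl sd i s) j)
      (fcoroot D s j - fdelta i j * fpair D s (fsimple dat i))) (upto D.rank) &&
    (Nat.blt s (half D) || Nat.beq s (fsimple dat i) || Nat.ble (half D) (refl sd i s))

/-- All reflection rows. -/
noncomputable def reflOK : Bool :=
  allR (fun i => allR (reflRow D dat sd i) (upto D.nroots)) (upto D.rank)

/-- Apply `x_r(c)`, `c = ±1`, to a vector. -/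
noncomputable def applyX (r : ℕ) (c : ℤ) (v : SVec) : SVec :=
  appR v (appR (vsmul c (sapp (fcol D r 1) v))
    (appR (sapp (fcol D r 2) v) (vsmul c (sapp (fcol D r 3) v))))

/-- The column of `n_{p_i} = x_p(1) x_{-p}(-1) x_p(1)`. -/
noncomputable def nCol (i m : ℕ) : SVec :=
  applyX D (fsimple dat i) 1 (applyX D (fneg D (fsimple dat i)) (-1) (applyX D (fsimple dat i) 1 [(m, 1)]))

/-- The sign of `n_{p_i}` at a root. -/
noncomputable def etaOf (i s : ℕ) : ℤ := coef (nCol D dat i (D.rank + s)) (D.rank + refl sd i s)

/-- The parity of an integer as a sign. -/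
noncomputable def signOf (z : ℤ) : ℤ := bif Nat.beq (z.natAbs % 2) 0 then 1 else -1

/-- The matrix of `n_{p_i}`. -/
noncomputable def nRow (i : ℕ) : Bool :=
  Int.beq' (etaOf D dat sd i (fsimple dat i)) (-1) &&
  allR (fun j => vEq (nCol D dat i j) [(j, 1), (i, - fcartan D j (fsimple dat i))]) (upto D.rank) &&
  allR (fun s =>
    (Int.beq' (etaOf D dat sd i s) 1 || Int.beq' (etaOf D dat sd i s) (-1)) &&
    Int.beq' (etaOf D dat sd i (fneg D s)) (etaOf D dat sd i s) &&
    Int.beq' (etaOf D dat sd i s * etaOf D dat sd i (refl sd i s)) (signOf (fcartan D i s)) &&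
    vEq (nCol D dat i (D.rank + s)) [(D.rank + refl sd i s, etaOf D dat sd i s)]) (upto D.nroots)

/-- Every root is obtained from a fundamental root by fundamental reflections. -/
noncomputable def orbOK (l : List (ℕ × ℕ × ℕ)) : List ℕ → Bool :=
  List.rec (fun seen => allR (fun m => anyR (fun x => Nat.beq x m) seen) (upto D.nroots))
    (fun t _ ih seen => Nat.blt t.2.1 D.rank && Nat.blt t.2.2 D.nroots &&
      Nat.beq (refl sd t.2.1 t.2.2) t.1 &&
      anyR (fun x => Nat.beq x t.2.2) seen && ih (t.1 :: seen)) l

/-- All checks on the root system. -/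
structure StructChecks : Prop where
  coord : allR (coordRow D dat) (upto D.nroots) = true
  linear : coLinear D dat = true
  reflT : reflOK D dat sd = true
  nmat : allR (nRow D dat sd) (upto D.rank) = true
  orbit : orbOK D sd sd.orb (mapR (fsimple dat) (upto D.rank)) = true

end CfsgLib.Chev
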