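import Mathlib
import Cfsg.Agent.Lib.Chev.Exp
import Cfsg.Agent.Lib.Chev.StructCheck

/-!
Gradings, the torus, the monomial elements `n_r(t)` and the diagonal elements `h_r(t)`.
-/

set_option autoImplicit false

namespace CfsgLib.Chev

open Cfsg.Lie Matrix

variable {D : ChevalleyDatum} {R : Type*} [CommRing R]

/-- The diagonal matrix `diag (t ^ w)`. -/
def tor (w : D.Idx → ℤ) (t : Rˣ) : Matrix D.Idx D.Idx R := diagonal fun i => ((t ^ w i : Rˣ) : R)

/-- Non-zero entries of `M` join weight `w j` to weight `w' i`. -/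
def Relates (w' w : D.Idx → ℤ) (M : Matrix D.Idx D.Idx ℤ) : Prop :=
  ∀ i j, M i j ≠ 0 → w' i = w j

lemma tor_mul (w : D.Idx → ℤ) (s t : Rˣ) : tor w s * tor w t = tor w (s * t) := by
  rw [tor, tor, tor, diagonal_mul_diagonal]
  congr 1
  funext i
  rw [mul_zpow, Units.val_mul]

lemma tor_mul_weights (w w' : D.Idx → ℤ) (t : Rˣ) : tor w t * tor w' t = tor (w + w') t := by
  rw [tor, tor, tor, diagonal_mul_diagonal]
  congr 1
  funext i
  rw [Pi.add_apply, _root_.zpow_add, Units.val_mul]

lemma tor_zero (t : Rˣ) : tor (D := D) 0 t = (1 : Matrix D.Idx D.Idx R) := by simp [tor]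

lemma tor_one (w : D.Idx → ℤ) : tor w (1 : Rˣ) = (1 : Matrix D.Idx D.Idx R) := by simp [tor]

lemma tor_inv (w : D.Idx → ℤ) (t : Rˣ) : tor w t * tor w t⁻¹ = 1 := by
  rw [tor_mul, mul_inv_cancel, tor_one]

lemma Relates.mul_tor {w' w : D.Idx → ℤ} {M : Matrix D.Idx D.Idx ℤ} (h : Relates w' w M)
    (t : Rˣ) : M.map (Int.cast : ℤ → R) * tor w t = tor w' t * M.map (Int.cast : ℤ → R) := by
  ext i j
  rw [tor, tor, mul_diagonal, diagonal_mul, Matrix.map_apply]
  by_cases hz : M i j = 0
  · simp [hz]
  · rw [h i j hz, mul_comm]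

lemma Relates.shift {w : D.Idx → ℤ} {d : ℤ} {M : Matrix D.Idx D.Idx ℤ}
    (h : Relates w (fun j => w j + d) M) (t : Rˣ) :
    tor w t * M.map (Int.cast : ℤ → R) = ((t ^ d : Rˣ) : R) • (M.map (Int.cast : ℤ → R) * tor w t) := by
  rw [← h.mul_tor]
  ext i j
  rw [tor, tor, mul_diagonal, Matrix.smul_apply, mul_diagonal, smul_eq_mul, _root_.zpow_add, Units.val_mul]
  ring

lemma Relates.mul {w₂ w₁ w₀ : D.Idx → ℤ} {M N : Matrix D.Idx D.Idx ℤ} (hM : Relates w₂ w₁ M)
    (hN : Relates w₁ w₀ N) : Relates w₂ w₀ (M * N) := by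
  intro i j hne
  rw [Matrix.mul_apply] at hne
  obtain ⟨k, -, hk⟩ := Finset.exists_ne_zero_of_sum_ne_zero hne
  rw [hM i k fun h => hk (by simp [h]), hN k j fun h => hk (by simp [h])]

lemma Relates.of_smul {w' w : D.Idx → ℤ} {M : Matrix D.Idx D.Idx ℤ} {c : ℤ} (hc : c ≠ 0)
    (h : Relates w' w (c • M)) : Relates w' w M :=
  fun i j hne => h i j (by simp [Matrix.smul_apply, hc, hne])

lemma isAut_one : IsAut D R (1 : Matrix D.Idx D.Idx R) := fun v => by simp

lemma IsAut.mul {g g' : Matrix D.Idx D.Idx R} (hg : IsAut D R g) (hg' : IsAut D R g') :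
    IsAut D R (g * g') := fun v => by
  rw [mul_assoc, hg', ← mul_assoc, hg, mul_assoc, Matrix.mulVec_mulVec]

/-- The word `n_u(t) = x_u(t) x_{-u}(-t⁻¹) x_u(t)` over a commutative ring. -/
noncomputable def nR (u : ℕ) (t : Rˣ) : Matrix D.Idx D.Idx R :=
  xr D R u t * xr D R (D.neg u) (-(t⁻¹ : Rˣ) : R) * xr D R u t

/-- The integer matrix of `n_{p_i}`. -/
noncomputable def nZ (i : ℕ) : Matrix D.Idx D.Idx ℤ := nR (D.simple i) 1

/-- The weight given by the pairing with the coroot of `r`. -/
noncomputable def wPair (D : ChevalleyDatum) (r : ℕ) : D.Idx → ℤ :=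
  Sum.elim 0 fun u => fpair D r u

/-- The weight given by the `j`-th coordinate. -/
noncomputable def wCo (D : ChevalleyDatum) (dat : LieData) (j : ℕ) : D.Idx → ℤ :=
  Sum.elim 0 fun u => rootCo dat u j

lemma nR_map {S : Type*} [CommRing S] (f : R →+* S) (u : ℕ) (t : Rˣ) :
    (nR (D := D) u t).map f = nR (D := D) u (Units.map f.toMonoidHom t) := by
  simp only [nR, Matrix.map_mul, xr_map, map_neg]
  rfl

lemma sumUpto_eq (n : ℕ) (f : ℕ → ℤ) : sumUpto n f = ∑ j ∈ Finset.range n, f j := by
  have hup : upto n = List.range n := by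
    have key : ∀ n m, (Nat.rec (motive := fun _ => ℕ → List ℕ) (fun _ => [])
        (fun _ ih j => j :: ih (j + 1)) n m) = List.range' m n := by
      intro n
      induction n with
      | zero => intro m; rfl
      | succ n ih => intro m; show m :: _ = _; rw [ih]; rfl
    rw [List.range_eq_range']
    exact key _ _
  have key : ∀ l : List ℕ, (List.rec 0 (fun j _ ih => f j + ih) l : ℤ) = (l.map f).sum := by
    intro l
    induction l with
    | nil => rfl
    | cons a l ih => rw [List.map_cons, List.sum_cons, ← ih]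
  rw [sumUpto, key, hup]
  rfl

lemma fdelta_eq (i j : ℕ) : fdelta i j = if i = j then 1 else 0 := by
  rw [fdelta]
  by_cases h : i = j
  · subst h; simp
  · rw [if_neg h, show Nat.beq i j = false by rw [← Bool.not_eq_true, Nat.beq_eq]; exact h]; rfl

namespace StructChecks

variable {dat : LieData} {sd : StructData} (h : LieChecks D dat) (hs : StructChecks D dat sd)
include h hs

omit h in
lemma co_lin {u : ℕ} (hu : u < D.nroots) :
    (∀ i < D.rank, fcartan D i u = ∑ j ∈ Finset.range D.rank, rootCo dat u j * fcartan D i (fsimple dat j))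
      ∧ (∀ j < D.rank, rootCo dat (fneg D u) j = - rootCo dat u j)
      ∧ (half D ≤ u → ∀ j < D.rank, 0 ≤ rootCo dat u j) := by
  have := hs.linear
  rw [coLinear, Bool.and_eq_true] at this
  have := allR_upto this.1 hu
  simp only [Bool.and_eq_true, Bool.or_eq_true, Nat.blt, Nat.ble_eq] at this
  obtain ⟨⟨⟨⟨-, h2⟩, h3⟩, -⟩, h5⟩ := this
  refine ⟨fun i hi => ?_, fun j hj => ?_, fun hh j hj => ?_⟩
  · have := allR_upto h2 hi
    rwa [Int.beq'_eq, sumUpto_eq] at this
  · simpa [Int.beq'_eq] using allR_upto h3 hj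
  · rcases h5 with h5 | h5
    · omega
    · simpa using allR_upto h5 hj

omit h in
lemma simple_lin {i : ℕ} (hi : i < D.rank) :
    fcartan D i (fsimple dat i) = 2 ∧ ∀ j < D.rank, rootCo dat (fsimple dat i) j = fdelta i j ∧
      fcoroot D (fsimple dat i) j = fdelta i j := by
  have := hs.linear
  rw [coLinear, Bool.and_eq_true] at this
  have := allR_upto this.2 hi
  rw [Bool.and_eq_true, Int.beq'_eq] at this
  refine ⟨this.1, fun j hj => ?_⟩
  simpa [Bool.and_eq_true, Int.beq'_eq] using allR_upto this.2 hj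

lemma refl_facts {i s : ℕ} (hi : i < D.rank) (hu : s < D.nroots) :
    D.reflectRoot i s = refl sd i s ∧ refl sd i s < D.nroots ∧ refl sd i (refl sd i s) = s ∧
    refl sd i (D.neg s) = D.neg (refl sd i s) ∧
    (∀ j < D.rank, rootCo dat (refl sd i s) j = rootCo dat s j - fdelta i j * fcartan D i s) ∧
    (∀ j < D.rank,
      fcoroot D (refl sd i s) j = fcoroot D s j - fdelta i j * fpair D s (fsimple dat i)) ∧
    (half D ≤ s → s ≠ D.simple i → half D ≤ refl sd i s) := by
  have := allR_upto (allR_upto hs.reflT hi) hu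
  simp only [reflRow, Bool.and_eq_true, Bool.or_eq_true, Nat.beq_eq, Nat.blt, Nat.ble_eq] at this
  obtain ⟨⟨⟨⟨⟨⟨h1, h2⟩, h3⟩, h4⟩, h5⟩, h6⟩, h7⟩ := this
  refine ⟨h1, by omega, h3, ?_, fun j hj => ?_, fun j hj => ?_, fun hh hne => ?_⟩
  · rw [neg_eq h.pack hu, neg_eq h.pack (by omega), h4]
  · simpa [Int.beq'_eq] using allR_upto h5 hj
  · simpa [Int.beq'_eq] using allR_upto h6 hj
  · rw [(h.simple_facts hi).1] at hne
    rcases h7 with (h7 | h7) | h7
    · omega
    · exact absurd h7 hne
    · exact h7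

/-! ### Gradings -/

lemma graded_one {u : ℕ} (hu : u < D.nroots) {j : ℕ} (hj : j < D.rank) :
    Relates (wCo D dat j) (fun k => wCo D dat j k + rootCo dat u j) (rmat D u 1) := by
  intro a b hne
  rw [h.rmat_apply hu (by simp)] at hne
  obtain ⟨p, hp, hp1, hp2⟩ := exists_of_coef_ne hne
  have hb : ix D b < dimL D := by rcases b with c | c <;> simp only [ix_inl, ix_inr, dimL] <;> omega
  have := allR_true (allR_upto (allR_upto hs.coord hu) hb) hp
  rw [Bool.or_eq_true, Int.beq'_eq] at this
  have := allR_upto (this.resolve_left hp2) hj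
  rw [Int.beq'_eq, hp1] at this
  have e : ∀ k : D.Idx, basisCo D dat (ix D k) j = wCo D dat j k := by
    intro k
    rcases k with c | v
    · simp [basisCo, wCo, ix_inl, show Nat.blt c.val D.rank = true by simp [Nat.blt, Nat.ble_eq]]
    · rw [basisCo, ix_inr, show Nat.blt (D.rank + v.val) D.rank = false by
        rw [← Bool.not_eq_true]; simp [Nat.blt, Nat.ble_eq], cond_false, Nat.add_sub_cancel_left]
      rfl
  rwa [e, e] at this

omit hs in
lemma graded_all {u : ℕ} (hu : u < D.nroots) {w : D.Idx → ℤ} {d : ℤ}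
    (h1 : Relates w (fun k => w k + d) (rmat D u 1)) :
    Relates w (fun k => w k + 2 * d) (rmat D u 2) ∧ Relates w (fun k => w k + 3 * d) (rmat D u 3) := by
  obtain ⟨h11, h12, -⟩ := h.rmat_mul hu
  have up : ∀ (e : ℤ) (M : Matrix D.Idx D.Idx ℤ), Relates w (fun k => w k + e) M →
      Relates w (fun k => w k + (d + e)) (rmat D u 1 * M) := by
    intro e M hM a b hne
    rw [Matrix.mul_apply] at hne
    obtain ⟨k, -, hk⟩ := Finset.exists_ne_zero_of_sum_ne_zero hne
    have e1 := h1 a k fun h0 => hk (by simp [h0])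
    have e2 := hM k b fun h0 => hk (by simp [h0])
    simp only at e1 e2 ⊢
    rw [e1, e2]
    ring
  have h2 : Relates w (fun k => w k + 2 * d) (rmat D u 2) := by
    apply Relates.of_smul (c := 2) two_ne_zero
    have := up d _ h1
    rw [h11, ← two_smul ℤ] at this
    simpa [two_mul] using this
  refine ⟨h2, Relates.of_smul (c := 3) three_ne_zero ?_⟩
  have := up (2 * d) _ h2
  rw [h12, show rmat D u 3 + rmat D u 3 + rmat D u 3 = (3 : ℤ) • rmat D u 3 by module] at this
  rwa [show d + 2 * d = 3 * d by ring] at this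

omit hs in
lemma tor_xr_of_graded {u : ℕ} (hu : u < D.nroots) {w : D.Idx → ℤ} {d : ℤ}
    (h1 : Relates w (fun k => w k + d) (rmat D u 1)) (t : Rˣ) (s : R) :
    tor w t * xr D R u s = xr D R u (((t ^ d : Rˣ) : R) * s) * tor w t := by
  obtain ⟨h2, h3⟩ := graded_all h hu h1
  simp only [xr, mul_add, add_mul, mul_one, one_mul, Matrix.mul_smul, Matrix.smul_mul, amat,
    h1.shift, h2.shift, h3.shift, smul_smul]
  have e2 : ((t ^ (2 * d) : Rˣ) : R) = ((t ^ d : Rˣ) : R) ^ 2 := by
    rw [← Units.val_pow_eq_pow_val, ← zpow_natCast, ← _root_.zpow_mul, mul_comm d]; rfl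
  have e3 : ((t ^ (3 * d) : Rˣ) : R) = ((t ^ d : Rˣ) : R) ^ 3 := by
    rw [← Units.val_pow_eq_pow_val, ← zpow_natCast, ← _root_.zpow_mul, mul_comm d]; rfl
  rw [e2, e3]
  congr 1
  · congr 1
    · congr 1; congr 1; ring
    · congr 1; ring
  · congr 1; ring

lemma torCo_xr {u : ℕ} (hu : u < D.nroots) {j : ℕ} (hj : j < D.rank) (t : Rˣ) (s : R) :
    tor (wCo D dat j) t * xr D R u s =
      xr D R u (((t ^ rootCo dat u j : Rˣ) : R) * s) * tor (wCo D dat j) t :=
  tor_xr_of_graded h hu (graded_one h hs hu hj) t s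

omit hs in
lemma torPair_xr {u : ℕ} (hu : u < D.nroots) (r : ℕ) (t : Rˣ) (s : R) :
    tor (wPair D r) t * xr D R u s =
      xr D R u (((t ^ fpair D r u : Rˣ) : R) * s) * tor (wPair D r) t := by
  refine tor_xr_of_graded h hu ?_ t s
  intro a b hne
  have e : ∀ k : D.Idx, wPair D r k = ∑ i ∈ (Finset.univ : Finset (Fin D.rank)),
      fcoroot D r i * Sum.elim (fun _ => (0 : ℤ)) (fun v : Fin D.nroots => D.cartan i v) k := by
    intro k
    rcases k with c | v
    · simp [wPair]
    · simp only [wPair, Sum.elim_inr, fpair, sumUpto_eq, Finset.sum_range]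
      exact Finset.sum_congr rfl fun i _ => by rw [cartan_eq h.pack i.2 v.2]
  have e' : fpair D r u = ∑ i ∈ (Finset.univ : Finset (Fin D.rank)), fcoroot D r i * D.cartan i u := by
    simp only [fpair, sumUpto_eq, Finset.sum_range]
    exact Finset.sum_congr rfl fun i _ => by rw [cartan_eq h.pack i.2 hu]
  show wPair D r a = wPair D r b + fpair D r u
  rw [e a, e b, e', ← Finset.sum_add_distrib]
  refine Finset.sum_congr rfl fun i _ => ?_
  rw [h.weight_eq (u := ⟨u, hu⟩) hne i]
  ring

omit hs in
lemma nR_inv {u : ℕ} (hu : u < D.nroots) (t : Rˣ) : nR (D := D) u t * nR (D := D) u (-t) = 1 := by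
  have hn : D.neg u < D.nroots := (rowShapeOK_of h.shape hu).1
  simp only [nR, inv_neg, Units.val_neg, neg_neg]
  set a := xr D R u (t : R)
  set a' := xr D R u (-(t : R))
  set b := xr D R (D.neg u) (-((t⁻¹ : Rˣ) : R))
  set b' := xr D R (D.neg u) ((t⁻¹ : Rˣ) : R)
  have h1 : a * a' = 1 := h.xr_inv hu _
  have h2 : b * b' = 1 := by
    have := h.xr_inv hn (-((t⁻¹ : Rˣ) : R))
    rwa [neg_neg] at this
  calc a * b * a * (a' * b' * a') = a * b * (a * a') * b' * a' := by simp only [mul_assoc]
    _ = a * (b * b') * a' := by rw [h1]; simp only [mul_one, mul_assoc]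
    _ = 1 := by rw [h2, mul_one, h1]

omit hs in
lemma nR_isAut {u : ℕ} (hu : u < D.nroots) (t : Rˣ) : IsAut D R (nR u t) :=
  ((h.xr_isAut hu _).mul (h.xr_isAut (rowShapeOK_of h.shape hu).1 _)).mul (h.xr_isAut hu _)

lemma nZ_col {i : ℕ} (hi : i < D.rank) (a b : D.Idx) :
    nZ (D := D) i a b = coef (nCol D dat i (ix D b)) (ix D a) := by
  obtain ⟨hsi, -, hlt, -⟩ := h.simple_facts hi
  have hn : D.neg (D.simple i) < D.nroots := (rowShapeOK_of h.shape hlt).1
  have app : ∀ (r : ℕ) (c : ℤ) (v : SVec), r < D.nroots → c * c = 1 →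
      (∀ p ∈ v, p.1 ∈ Set.range (ix D)) →
      (∀ p ∈ applyX D r c v, p.1 ∈ Set.range (ix D)) ∧
      (xr D ℤ r c *ᵥ fun k => coef v (ix D k)) = fun k => coef (applyX D r c v) (ix D k) := by
    intro r c v hr hc hv
    have hsap : ∀ k ∈ [1, 2, 3], (∀ p ∈ sapp (fcol D r k) v, p.1 ∈ Set.range (ix D)) ∧
        ∀ x, (amat D ℤ r k *ᵥ fun k => coef v (ix D k)) x = coef (sapp (fcol D r k) v) (ix D x) := by
      intro k hk
      refine ⟨?_, fun x => ?_⟩
      · intro p hp
        induction v with
        | nil => simp [sapp] at hp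
        | cons q v ih =>
          have hp' : p ∈ appR (vsmul q.2 (fcol D r k q.1)) (sapp (fcol D r k) v) := hp
          rw [appR_eq, List.mem_append] at hp'
          rcases hp' with hp' | hp'
          · have : ∀ (l : SVec), p ∈ vsmul q.2 l → ∃ e ∈ l, e.1 = p.1 := by
              intro l
              induction l with
              | nil => intro h0; simp [vsmul] at h0
              | cons e l ihl =>
                intro h0
                rcases List.mem_cons.1 (show p ∈ (e.1, q.2 * e.2) :: vsmul q.2 l from h0) with rfl | h1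
                · exact ⟨e, by simp, rfl⟩
                · obtain ⟨e', he', he''⟩ := ihl h1
                  exact ⟨e', List.mem_cons_of_mem _ he', he''⟩
            obtain ⟨e, he, he'⟩ := this _ hp'
            exact he' ▸ h.fcol_range hr hk _ e he
          · exact ih (fun e he => hv e (List.mem_cons_of_mem _ he)) hp'
      · simp only [Matrix.mulVec, dotProduct, amat, Matrix.map_apply, h.rmat_apply hr hk,
          Int.cast_id]
        rw [coef_sapp, ← sum_coef_mul (ix D) (ix_injective D) v hv
          (fun m => coef (fcol D r k m) (ix D x))]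
        exact Finset.sum_congr rfl fun y _ => by ring
    obtain ⟨s1, e1⟩ := hsap 1 (by simp)
    obtain ⟨s2, e2⟩ := hsap 2 (by simp)
    obtain ⟨s3, e3⟩ := hsap 3 (by simp)
    refine ⟨?_, funext fun x => ?_⟩
    · intro p hp
      have hmem : ∀ (l : SVec), (∀ q ∈ l, q.1 ∈ Set.range (ix D)) →
          ∀ q ∈ vsmul c l, q.1 ∈ Set.range (ix D) := by
        intro l
        induction l with
        | nil => intro _ q h0; simp [vsmul] at h0
        | cons e l ihl =>
          intro hl q h0
          rcases List.mem_cons.1 (show q ∈ (e.1, c * e.2) :: vsmul c l from h0) with rfl | h1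
          · exact hl e (by simp)
          · exact ihl (fun q' hq' => hl q' (List.mem_cons_of_mem _ hq')) q h1
      simp only [applyX, appR_eq, List.mem_append] at hp
      rcases hp with hp | hp | hp | hp
      · exact hv p hp
      · exact hmem _ s1 p hp
      · exact s2 p hp
      · exact hmem _ s3 p hp
    · simp only [xr, Matrix.add_mulVec, Matrix.one_mulVec, Matrix.smul_mulVec, Pi.add_apply,
        Pi.smul_apply, smul_eq_mul, e1, e2, e3, applyX, appR_eq, coef_append, coef_vsmul]
      rw [show c ^ 2 = 1 by rw [pow_two, hc], show c ^ 3 = c by rw [pow_succ, pow_two, hc, one_mul]]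
      ring
  have hb : ∀ p ∈ ([(ix D b, 1)] : SVec), p.1 ∈ Set.range (ix D) := by
    intro p hp
    obtain rfl := List.mem_singleton.1 hp
    exact ⟨b, rfl⟩
  obtain ⟨r1, a1⟩ := app _ 1 _ (hsi ▸ hlt : fsimple dat i < D.nroots) (by norm_num) hb
  have hfn : fneg D (fsimple dat i) = D.neg (D.simple i) := by rw [← hsi, neg_eq h.pack hlt]
  obtain ⟨r2, a2⟩ := app _ (-1) _ (hfn ▸ hn : fneg D (fsimple dat i) < D.nroots) (by norm_num) r1
  obtain ⟨-, a3⟩ := app _ 1 _ (hsi ▸ hlt : fsimple dat i < D.nroots) (by norm_num) r2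
  have hsingle : (fun k => coef [(ix D b, (1 : ℤ))] (ix D k)) = Pi.single b 1 := by
    funext k
    by_cases hk : k = b
    · simp [hk, coef_cons, coef_nil]
    · rw [Pi.single_eq_of_ne hk, coef_cons, coef_nil,
        if_neg fun hc => hk (ix_injective D hc.symm), add_zero]
  rw [hsingle] at a1
  have : nZ (D := D) i *ᵥ Pi.single b 1 = fun k => coef (nCol D dat i (ix D b)) (ix D k) := by
    simp only [nZ, nR, inv_one, Units.val_one, ← Matrix.mulVec_mulVec]
    rw [hsi, ← hfn] at *
    rw [a1, a2, a3]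
    rfl
  have := congrFun this a
  rwa [Matrix.mulVec_single_one] at this

/-- The sign `η_{i,s}`. -/
lemma eta_facts {i s : ℕ} (hi : i < D.rank) (hu : s < D.nroots) :
    (etaOf D dat sd i s = 1 ∨ etaOf D dat sd i s = -1) ∧
    etaOf D dat sd i (D.neg s) = etaOf D dat sd i s ∧
    etaOf D dat sd i s * etaOf D dat sd i (refl sd i s) = signOf (fcartan D i s) ∧
    etaOf D dat sd i (D.simple i) = -1 := by
  have := allR_upto hs.nmat hi
  rw [nRow, Bool.and_eq_true, Bool.and_eq_true, Int.beq'_eq] at this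
  have h' := allR_upto this.2 hu
  simp only [Bool.and_eq_true, Bool.or_eq_true, Int.beq'_eq] at h'
  rw [neg_eq h.pack hu, (h.simple_facts hi).1]
  exact ⟨h'.1.1.1, h'.1.1.2, h'.1.2, this.1.1⟩

lemma nZ_root {i : ℕ} (hi : i < D.rank) (a : D.Idx) (s : Fin D.nroots) :
    nZ (D := D) i a (Sum.inr s) =
      if ix D a = D.rank + refl sd i s then etaOf D dat sd i s else 0 := by
  have := allR_upto hs.nmat hi
  rw [nRow, Bool.and_eq_true] at this
  have h' := allR_upto this.2 s.2
  simp only [Bool.and_eq_true] at h'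
  rw [nZ_col h hs hi, ix_inr, vEq_sound h'.2, coef_cons, coef_nil, add_zero]
  by_cases ha : ix D a = D.rank + refl sd i s
  · rw [if_pos ha, if_pos ha.symm]
  · rw [if_neg ha, if_neg fun hc => ha hc.symm]

lemma nZ_coroot {i : ℕ} (hi : i < D.rank) (a : D.Idx) (j : Fin D.rank) :
    nZ (D := D) i a (Sum.inl j) =
      (if ix D a = j.val then 1 else 0) - (if ix D a = i then D.cartan j (D.simple i) else 0) := by
  have := allR_upto hs.nmat hi
  rw [nRow, Bool.and_eq_true, Bool.and_eq_true] at this
  have h' := allR_upto this.1.2 j.2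
  obtain ⟨hsi, -, hlt, -⟩ := h.simple_facts hi
  rw [nZ_col h hs hi, ix_inl, vEq_sound h', coef_cons, coef_cons, coef_nil, add_zero,
    cartan_eq h.pack j.2 hlt, hsi]
  by_cases h1 : ix D a = j.val <;> by_cases h2 : ix D a = i
  · rw [if_pos h1, if_pos h2, if_pos h1.symm, if_pos h2.symm]; ring
  · rw [if_pos h1, if_neg h2, if_pos h1.symm, if_neg (Ne.symm h2)]; ring
  · rw [if_neg h1, if_pos h2, if_neg (Ne.symm h1), if_pos h2.symm]; ring
  · rw [if_neg h1, if_neg h2, if_neg (Ne.symm h1), if_neg (Ne.symm h2)]; ring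

lemma nZ_relates {i : ℕ} (hi : i < D.rank) (f : ℕ → ℤ) :
    Relates (Sum.elim 0 fun u : Fin D.nroots => f (refl sd i u))
      (Sum.elim 0 fun u : Fin D.nroots => f u) (nZ (D := D) i) := by
  intro a b hne
  rcases b with j | s
  · rw [nZ_coroot h hs hi] at hne
    rcases a with c | v
    · rfl
    · exfalso; apply hne; rw [ix_inr]
      rw [if_neg (by omega), if_neg (by omega)]; rfl
  · rw [nZ_root h hs hi] at hne
    split at hne
    · next heq =>
      rcases a with c | v
      · exfalso; rw [ix_inl] at heq; omega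
      · rw [ix_inr, Nat.add_left_cancel_iff] at heq
        rw [Sum.elim_inr, Sum.elim_inr, heq, (refl_facts h hs hi s.2).2.2.1]
    · exact absurd rfl hne

/-- `n_i A_{s,k} = η^k A_{w s,k} n_i` over the integers. -/
lemma nZ_conj {i s : ℕ} (hi : i < D.rank) (hu : s < D.nroots) {k : ℕ} (hk : k ∈ [1, 2, 3]) :
    nZ (D := D) i * rmat D s k = (etaOf D dat sd i s) ^ k • (rmat D (refl sd i s) k * nZ (D := D) i) := by
  obtain ⟨-, hlt', -⟩ := refl_facts h hs hi hu
  have hlt : D.simple i < D.nroots := (h.simple_facts hi).2.2.1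
  have one : nZ (D := D) i * rmat D s 1 =
      etaOf D dat sd i s • (rmat D (refl sd i s) 1 * nZ (D := D) i) := by
    have hA : IsAut D ℤ (nZ (D := D) i) := nR_isAut h hlt 1
    have e : ∀ (u : Fin D.nroots), adR D ℤ (Pi.single (Sum.inr u) 1) = rmat D u 1 := by
      intro u
      rw [LieChecks.adR_single]
      ext a b
      rfl
    have hcol : nZ (D := D) i *ᵥ Pi.single (Sum.inr ⟨s, hu⟩) 1 =
        etaOf D dat sd i s • Pi.single (Sum.inr (⟨refl sd i s, hlt'⟩ : Fin D.nroots)) (1 : ℤ) := by
      funext a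
      rw [Matrix.mulVec_single_one, Matrix.col_apply, nZ_root h hs hi, Pi.smul_apply]
      by_cases ha : a = Sum.inr ⟨refl sd i s, hlt'⟩
      · simp [ha, ix_inr]
      · rw [Pi.single_eq_of_ne ha, smul_zero,
          if_neg fun hc => ha (ix_injective D (by rw [hc, ix_inr]))]
    have hsm : ∀ (c : ℤ) (v : D.Idx → ℤ), adR D ℤ (c • v) = c • adR D ℤ v := by
      intro c v; simp [adR, Finset.smul_sum, mul_smul]
    have := hA (Pi.single (Sum.inr ⟨s, hu⟩) 1)
    rw [hcol, hsm, e, e, Matrix.smul_mul] at this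
    exact this
  obtain ⟨a11, a12, -⟩ := h.rmat_mul hu
  obtain ⟨b11, b12, -⟩ := h.rmat_mul hlt'
  set N := nZ (D := D) i
  set η := etaOf D dat sd i s
  have two : N * rmat D s 2 = η ^ 2 • (rmat D (refl sd i s) 2 * N) := by
    apply smul_right_injective _ (two_ne_zero (α := ℤ))
    show (2 : ℤ) • (N * rmat D s 2) = (2 : ℤ) • (η ^ 2 • (rmat D (refl sd i s) 2 * N))
    rw [two_smul, two_smul, ← mul_add, ← a11, ← mul_assoc, one, Matrix.smul_mul, mul_assoc, one,
      Matrix.mul_smul, ← mul_assoc, b11, add_mul, smul_smul, smul_add, ← pow_two]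
  simp only [List.mem_cons, List.not_mem_nil, or_false] at hk
  rcases hk with rfl | rfl | rfl
  · rw [pow_one, one]
  · exact two
  · apply smul_right_injective _ (three_ne_zero (α := ℤ))
    show (3 : ℤ) • (N * rmat D s 3) = (3 : ℤ) • (η ^ 3 • (rmat D (refl sd i s) 3 * N))
    rw [show (3 : ℤ) • (N * rmat D s 3) = N * (rmat D s 3 + rmat D s 3 + rmat D s 3) by
        rw [mul_add, mul_add]; module,
      ← a12, ← mul_assoc, one, Matrix.smul_mul, mul_assoc, two, Matrix.mul_smul, ← mul_assoc, b12,
      add_mul, add_mul]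
    module

variable (R) in
/-- `n_i x_s(t) = x_{w s}(η t) n_i`. -/
theorem nR_conj {i s : ℕ} (hi : i < D.rank) (hu : s < D.nroots) (t : R) :
    nR (D := D) (D.simple i) (1 : Rˣ) * xr D R s t =
      xr D R (refl sd i s) ((etaOf D dat sd i s : R) * t) * nR (D := D) (D.simple i) 1 := by
  have hmap : (nZ (D := D) i).map (Int.cast : ℤ → R) = nR (D := D) (D.simple i) 1 := by
    have := nR_map (D := D) (Int.castRingHom R) (D.simple i) 1
    rwa [map_one] at this
  have c : ∀ k ∈ [1, 2, 3], nR (D := D) (D.simple i) (1 : Rˣ) * amat D R s k =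
      (etaOf D dat sd i s : R) ^ k • (amat D R (refl sd i s) k * nR (D := D) (D.simple i) 1) := by
    intro k hk
    rw [← hmap, amat, amat, map_intMat_mul, map_intMat_mul, nZ_conj h hs hi hu hk]
    ext a b
    simp only [Matrix.map_apply, Matrix.smul_apply, smul_eq_mul, Int.cast_mul, Int.cast_pow]
  simp only [xr, mul_add, add_mul, mul_one, one_mul, Matrix.mul_smul, Matrix.smul_mul,
    c 1 (by simp), c 2 (by simp), c 3 (by simp), smul_smul, pow_one]
  congr 1
  · congr 1
    · congr 1; congr 1; ring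
    · congr 1; ring
  · congr 1; ring

lemma fpair_simple {i : ℕ} (hi : i < D.rank) {u : ℕ} (_hu : u < D.nroots) :
    fpair D (D.simple i) u = fcartan D i u := by
  rw [fpair, sumUpto_eq, (h.simple_facts hi).1, Finset.sum_eq_single i]
  · rw [((simple_lin hs hi).2 i hi).2, fdelta_eq, if_pos rfl, one_mul]
  · intro j hj hne
    rw [((simple_lin hs hi).2 j (Finset.mem_range.1 hj)).2, fdelta_eq, if_neg (Ne.symm hne), zero_mul]
  · intro hc; simp at hc; omega

lemma fpair_refl {i r u : ℕ} (hi : i < D.rank) (hr : r < D.nroots) (hu : u < D.nroots) :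
    fpair D (refl sd i r) u = fpair D r (refl sd i u) := by
  obtain ⟨-, hu', -, -, hco, -, -⟩ := refl_facts h hs hi hu
  obtain ⟨-, -, -, -, -, hcr, -⟩ := refl_facts h hs hi hr
  rw [fpair, fpair, sumUpto_eq, sumUpto_eq]
  have e1 : ∀ k ∈ Finset.range D.rank, fcartan D k (refl sd i u) =
      fcartan D k u - fcartan D i u * fcartan D k (fsimple dat i) := by
    intro k hk
    rw [(co_lin hs hu').1 k (Finset.mem_range.1 hk), (co_lin hs hu).1 k (Finset.mem_range.1 hk)]
    have : ∀ j ∈ Finset.range D.rank, rootCo dat (refl sd i u) j * fcartan D k (fsimple dat j) =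
        rootCo dat u j * fcartan D k (fsimple dat j) -
          if i = j then fcartan D i u * fcartan D k (fsimple dat j) else 0 := by
      intro j hj
      rw [hco j (Finset.mem_range.1 hj), fdelta_eq]
      split <;> ring
    rw [Finset.sum_congr rfl this, Finset.sum_sub_distrib, Finset.sum_ite_eq,
      if_pos (Finset.mem_range.2 hi)]
  have e2 : ∀ k ∈ Finset.range D.rank, fcoroot D (refl sd i r) k * fcartan D k u =
      fcoroot D r k * fcartan D k u - if i = k then fpair D r (fsimple dat i) * fcartan D k u else 0 := by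
    intro k hk
    rw [hcr k (Finset.mem_range.1 hk), fdelta_eq]
    split <;> ring
  rw [Finset.sum_congr rfl e2, Finset.sum_sub_distrib, Finset.sum_ite_eq,
    if_pos (Finset.mem_range.2 hi),
    Finset.sum_congr rfl (fun k hk => show fcoroot D r k * fcartan D k (refl sd i u) =
      fcoroot D r k * fcartan D k u - fcartan D i u * (fcoroot D r k * fcartan D k (fsimple dat i))
      from by rw [e1 k hk]; ring),
    Finset.sum_sub_distrib, fpair, sumUpto_eq, Finset.sum_mul]
  congr 1
  rw [← Finset.mul_sum, mul_comm, Finset.sum_mul]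

/-- `h_r(t) = n_r(t) n_r(-1)` is diagonal. -/
theorem hR_diag {r : ℕ} (hr : r < D.nroots) (t : Rˣ) :
    nR (D := D) r t * nR (D := D) r (-1) = tor (wPair D r) t := by
  have key : ∀ (l : List (ℕ × ℕ × ℕ)) (seen : List ℕ), orbOK D sd l seen = true →
      (∀ x ∈ seen, x < D.nroots → ∀ t : Rˣ, nR (D := D) x t * nR (D := D) x (-1) = tor (wPair D x) t) →
      ∀ x < D.nroots, ∀ t : Rˣ, nR (D := D) x t * nR (D := D) x (-1) = tor (wPair D x) t := by
    intro l
    induction l with
    | nil =>
      intro seen ho hgood x hx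
      have := allR_upto (show allR _ (upto D.nroots) = true from ho) hx
      rw [anyR_eq, List.any_eq_true] at this
      obtain ⟨y, hy, hye⟩ := this
      rw [Nat.beq_eq] at hye
      exact hgood x (hye ▸ hy) hx
    | cons st l ih =>
      intro seen ho hgood
      have ho' : (Nat.blt st.2.1 D.rank && Nat.blt st.2.2 D.nroots &&
          Nat.beq (refl sd st.2.1 st.2.2) st.1 && anyR (fun x => Nat.beq x st.2.2) seen &&
          orbOK D sd l (st.1 :: seen)) = true := ho
      simp only [Bool.and_eq_true, Nat.blt, Nat.ble_eq, Nat.beq_eq, anyR_eq, List.any_eq_true] at ho'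
      obtain ⟨⟨⟨⟨hi, hxr⟩, he⟩, y, hy, rfl⟩, hrest⟩ := ho'
      refine ih _ hrest ?_
      intro z hz hzr
      rcases List.mem_cons.1 hz with rfl | hz'
      swap
      · exact hgood z hz' hzr
      set i := st.2.1
      set x := st.2.2
      have hi' : i < D.rank := by omega
      have hx' : x < D.nroots := by omega
      obtain ⟨-, hyr, hinv, hnegr, -⟩ := refl_facts h hs hi' hx'
      obtain ⟨heta, hetan, -, -⟩ := eta_facts h hs hi' hx'
      have hnx : D.neg x < D.nroots := (rowShapeOK_of h.shape hx').1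
      set N := nR (D := D) (D.simple i) (1 : Rˣ)
      obtain ⟨e, he', hee⟩ : ∃ e : Rˣ, (e : R) = (etaOf D dat sd i x : R) ∧ e * e = 1 := by
        rcases heta with h1 | h1
        · exact ⟨1, by simp [h1], one_mul 1⟩
        · exact ⟨-1, by simp [h1], by simp⟩
      have hconj : ∀ u : Rˣ, N * nR (D := D) x u = nR (D := D) st.1 (e * u) * N := by
        intro u
        have c1 : ∀ v : R, N * xr D R x v = xr D R st.1 ((e : R) * v) * N := fun v => by
          rw [← he, he']; exact nR_conj R h hs hi' hx' v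
        have c2 : ∀ v : R, N * xr D R (D.neg x) v = xr D R (D.neg st.1) ((e : R) * v) * N := fun v => by
          rw [← he, ← hnegr, he', ← hetan]; exact nR_conj R h hs hi' hnx v
        simp only [nR, ← mul_assoc, c1]
        rw [mul_assoc _ N (xr D R (D.neg x) _), c2, ← mul_assoc,
          mul_assoc _ N (xr D R x _), c1, ← mul_assoc]
        have : (e : R) * -((u⁻¹ : Rˣ) : R) = -(((e * u)⁻¹ : Rˣ) : R) := by
          rw [_root_.mul_inv_rev, show e⁻¹ = e from inv_eq_of_mul_eq_one_left hee, Units.val_mul]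
          ring
        rw [this, Units.val_mul]
      have hN : N * nR (D := D) (D.simple i) (-1 : Rˣ) = 1 := nR_inv h (h.simple_facts hi').2.2.1 1
      have hE : ∀ u : Rˣ, nR (D := D) st.1 (e * u) * nR (D := D) st.1 (e * (-1)) = tor (wPair D st.1) u := by
        intro u
        have h1 := hgood x hy hx' u
        have h2 : nR (D := D) st.1 (e * u) * nR (D := D) st.1 (e * (-1)) * N =
            N * tor (wPair D x) u := by
          rw [← h1, ← mul_assoc, hconj, mul_assoc _ N, hconj, ← mul_assoc]
        have hw : Relates (wPair D st.1) (wPair D x) (nZ (D := D) i) := by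
          have e0 : wPair D st.1 = Sum.elim (0 : Fin D.rank → ℤ) fun v : Fin D.nroots => fpair D x (refl sd i v) := by
            funext a
            rcases a with c | v
            · simp [wPair]
            · simp only [wPair, Sum.elim_inr, ← he, fpair_refl h hs hi' hx' v.2]
          rw [e0]
          exact nZ_relates h hs hi' _
        have h3 := hw.mul_tor (R := R) u
        have hmap : (nZ (D := D) i).map (Int.cast : ℤ → R) = N := by
          have := nR_map (D := D) (Int.castRingHom R) (D.simple i) 1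
          rwa [map_one] at this
        rw [hmap] at h3
        rw [h3] at h2
        have := congrArg (· * nR (D := D) (D.simple i) (-1 : Rˣ)) h2
        simpa only [mul_assoc, hN, mul_one] using this
      intro u
      rcases heta with h1 | h1
      · have : e = 1 := Units.ext (by rw [he', h1]; simp)
        simpa [this] using hE u
      · have : e = -1 := Units.ext (by rw [he', h1]; simp)
        subst this
        have hA := hE (-u)
        have hB := hE (-1)
        rw [show (-1 : Rˣ) * -u = u by simp, show (-1 : Rˣ) * -1 = 1 by simp] at hA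
        rw [show (-1 : Rˣ) * -1 = 1 by simp] at hB
        have hinv1 : nR (D := D) st.1 (1 : Rˣ) * nR (D := D) st.1 (-1) = 1 :=
          nR_inv h (he ▸ hyr) 1
        -- `n(1) n(1) = T(-1)`, so `n(-1) = n(1) T(-1)`
        have hinv2 : nR (D := D) st.1 (-1 : Rˣ) * nR (D := D) st.1 (1) = 1 := by
          have := nR_inv h (he ▸ hyr) (-1 : Rˣ)
          rwa [neg_neg] at this
        have e2 : nR (D := D) st.1 (-1 : Rˣ) = nR (D := D) st.1 1 * tor (wPair D st.1) (-1 : Rˣ) := by
          have hTT : tor (wPair D st.1) (-1 : Rˣ) * tor (wPair D st.1) (-1) =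
              (1 : Matrix D.Idx D.Idx R) := by
            rw [tor_mul, show (-1 : Rˣ) * -1 = 1 by simp, tor_one]
          calc nR (D := D) st.1 (-1 : Rˣ)
              = nR (D := D) st.1 (-1 : Rˣ) * (tor (wPair D st.1) (-1) * tor (wPair D st.1) (-1)) := by
                rw [hTT, mul_one]
            _ = nR (D := D) st.1 (-1 : Rˣ) * nR (D := D) st.1 1 * nR (D := D) st.1 1 *
                tor (wPair D st.1) (-1) := by rw [← hB]; simp only [mul_assoc]
            _ = _ := by rw [hinv2, one_mul]
        conv_lhs => rw [e2, ← mul_assoc, hA, tor_mul, show -u * -1 = u by simp]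
  refine key _ _ hs.orbit ?_ r hr t
  intro x hx hxr u
  rw [mapR_eq, List.mem_map] at hx
  obtain ⟨i, hi0, rfl⟩ := hx
  have hi : i < D.rank := by
    have key : ∀ n m, i ∈ (Nat.rec (motive := fun _ => ℕ → List ℕ) (fun _ => [])
        (fun _ ih j => j :: ih (j + 1)) n m) → i < m + n := by
      intro n
      induction n with
      | zero => intro m hm; simp at hm
      | succ n ih =>
        intro m hm
        rcases List.mem_cons.1 hm with rfl | hm'
        · omega
        · have := ih _ hm'; omega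
    simpa using key _ _ hi0
  obtain ⟨hsi, -, hlt, -⟩ := h.simple_facts hi
  rw [← hsi]
  set p := D.simple i
  have hn : D.neg p < D.nroots := (rowShapeOK_of h.shape hlt).1
  have hc1 : rootCo dat p i = 1 := by
    rw [hsi, ((simple_lin hs hi).2 i hi).1, fdelta_eq, if_pos rfl]
  have hc2 : rootCo dat (D.neg p) i = -1 := by
    rw [neg_eq h.pack hlt, (co_lin hs hlt).2.1 i hi, hc1]
  set T := tor (wCo D dat i) u
  have hT : nR (D := D) p u * T = T * nR (D := D) p 1 := by
    simp only [nR, inv_one, Units.val_one, ← mul_assoc]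
    conv_rhs => rw [torCo_xr h hs hlt hi, hc1, zpow_one, mul_one, mul_assoc _ T _,
      torCo_xr h hs hn hi, hc2, ← mul_assoc, mul_assoc _ T _, torCo_xr h hs hlt hi, hc1, zpow_one,
      mul_one, ← mul_assoc, _root_.zpow_neg_one, mul_neg, mul_one]
  have hrel := (nZ_relates h hs hi fun v => rootCo dat v i).mul_tor (R := R) u⁻¹
  have hmap : (nZ (D := D) i).map (Int.cast : ℤ → R) = nR (D := D) p 1 := by
    have := nR_map (D := D) (Int.castRingHom R) p 1
    rwa [map_one] at this
  rw [hmap] at hrel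
  have hsplit : nR (D := D) p u =
      T * tor (Sum.elim 0 fun v : Fin D.nroots => rootCo dat (refl sd i v) i) u⁻¹ *
        nR (D := D) p (1 : Rˣ) := by
    rw [mul_assoc, ← hrel, ← mul_assoc, ← hT, mul_assoc]
    have : T * tor (Sum.elim 0 fun v : Fin D.nroots => rootCo dat v i) u⁻¹ = 1 := tor_inv _ u
    rw [this, mul_one]
  rw [hsplit, mul_assoc, nR_inv h hlt 1, mul_one]
  simp only [T, tor, diagonal_mul_diagonal]
  congr 1
  funext a
  rw [← Units.val_mul, _root_.inv_zpow', ← _root_.zpow_add]
  congr 2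
  rcases a with c | v
  · rfl
  · simp only [wCo, wPair, Sum.elim_inr, p]
    rw [(refl_facts h hs hi v.2).2.2.2.2.1 i hi, fdelta_eq, if_pos rfl, fpair_simple h hs hi v.2]
    ring

end StructChecks

end CfsgLib.Chev
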