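import Mathlib
import Cfsg.Agent.Lib.Chev.Torus

/-!
From the checked tables to the matrices `D.x`, `D.nMat`, `D.hMat` over a field.
-/

set_option autoImplicit false

namespace CfsgLib.Chev

open Cfsg.Lie Matrix

variable (D : ChevalleyDatum)

/-- The lexicographic weight of a root, linear in the coordinates. -/
noncomputable def lexWt (dat : LieData) (u : ℕ) : ℤ :=
  sumUpto D.rank fun j => rootCo dat u j * Int.ofNat (Nat.pow 16 (D.rank - 1 - j))

/-- The roots are listed by increasing weight. -/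
noncomputable def orderOK (dat : LieData) : Bool :=
  allR (fun u => Nat.beq (u + 1) D.nroots || decide (lexWt D dat u < lexWt D dat (u + 1)))
    (upto D.nroots)

lemma upto_eq (n : ℕ) : upto n = List.range n := by
  have key : ∀ n m, (Nat.rec (motive := fun _ => ℕ → List ℕ) (fun _ => [])
      (fun _ ih j => j :: ih (j + 1)) n m) = List.range' m n := by
    intro n
    induction n with
    | zero => intro m; rfl
    | succ n ih => intro m; show m :: _ = _; rw [ih]; rfl
  rw [List.range_eq_range']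
  exact key _ _

/-- The datum passes all checks of the library. -/
structure Good : Prop where
  /-- the tables -/
  data : ∃ (dat : LieData) (sd : StructData),
    LieChecks D dat ∧ StructChecks D dat sd ∧ orderOK D dat = true

/-- The integer pairing `⟨u, r^∨⟩`. -/
def pair (r u : ℕ) : ℤ :=
  ∑ i ∈ Finset.range D.rank, (D.coroot.getD r #[]).getD i 0 * D.cartan i u

/-- The coefficient of the coroot of `r` at the `j`-th fundamental coroot. -/
def corootCo (r j : ℕ) : ℤ := (D.coroot.getD r #[]).getD j 0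

variable {D}

namespace Good

variable (g : Good D)
include g

/-- The tables of a good datum. -/
noncomputable def dat : LieData := g.data.choose

/-- The reflection tables of a good datum. -/
noncomputable def sd : StructData := g.data.choose_spec.choose

lemma lie : LieChecks D g.dat := g.data.choose_spec.choose_spec.1

lemma struc : StructChecks D g.dat g.sd := g.data.choose_spec.choose_spec.2.1

lemma order : orderOK D g.dat = true := g.data.choose_spec.choose_spec.2.2

/-! ### Roots -/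

lemma nroots_eq : D.nroots = 2 * half D ∧ 0 < half D := g.lie.nroots_eq

lemma neg_rev {r : ℕ} (hr : r < D.nroots) : D.neg r = D.nroots - 1 - r := g.lie.neg_eq_rev hr

lemma neg_lt {r : ℕ} (hr : r < D.nroots) : D.neg r < D.nroots :=
  (rowShapeOK_of g.lie.shape hr).1

lemma neg_ne {r : ℕ} (hr : r < D.nroots) : D.neg r ≠ r := (rowShapeOK_of g.lie.shape hr).2.1

lemma neg_neg {r : ℕ} (hr : r < D.nroots) : D.neg (D.neg r) = r := by
  rw [g.neg_rev (g.neg_lt hr), g.neg_rev hr]; omega

lemma isPosRoot_iff (r : ℕ) : D.IsPosRoot r ↔ half D ≤ r ∧ r < D.nroots :=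
  ⟨fun h => ⟨(g.lie.root_class h.1).1.1 h, h.1⟩, fun h => (g.lie.root_class h.2).1.2 h.1⟩

lemma isNegRoot_iff (r : ℕ) : D.IsNegRoot r ↔ r < half D := by
  constructor
  · exact fun h => (g.lie.root_class h.1).2.1.1 h
  · intro h
    have := g.nroots_eq
    exact (g.lie.root_class (by omega)).2.1.2 h

lemma neg_neg_iff {r : ℕ} (hr : r < D.nroots) : D.neg r < half D ↔ half D ≤ r := by
  have := g.nroots_eq
  rw [g.neg_rev hr]; omega

lemma simple_lt {i : ℕ} (hi : i < D.rank) : D.simple i < D.nroots := (g.lie.simple_facts hi).2.2.1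

lemma simple_pos {i : ℕ} (hi : i < D.rank) : half D ≤ D.simple i := (g.lie.simple_facts hi).2.1

/-- The coordinates of a root on the fundamental roots. -/
noncomputable def co (u j : ℕ) : ℤ := rootCo g.dat u j

lemma co_simple {i j : ℕ} (hi : i < D.rank) (hj : j < D.rank) :
    g.co (D.simple i) j = if i = j then 1 else 0 := by
  rw [co, (g.lie.simple_facts hi).1, ((g.struc.simple_lin hi).2 j hj).1, fdelta_eq]

lemma corootCo_simple {i j : ℕ} (hi : i < D.rank) (hj : j < D.rank) :
    corootCo D (D.simple i) j = if i = j then 1 else 0 := by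
  rw [corootCo, coroot_eq, (g.lie.simple_facts hi).1, ((g.struc.simple_lin hi).2 j hj).2, fdelta_eq]

lemma simple_injective {i j : ℕ} (hi : i < D.rank) (hj : j < D.rank)
    (h : D.simple i = D.simple j) : i = j := by
  by_contra hne
  have h1 := g.co_simple hi hi
  rw [if_pos rfl, h, g.co_simple hj hi, if_neg (Ne.symm hne)] at h1
  exact zero_ne_one h1

lemma cartan_simple {i : ℕ} (hi : i < D.rank) : D.cartan i (D.simple i) = 2 := by
  rw [cartan_eq g.lie.pack hi (g.simple_lt hi), (g.lie.simple_facts hi).1]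
  exact (g.struc.simple_lin hi).1

lemma cartan_eq_sum {u : ℕ} (hu : u < D.nroots) {i : ℕ} (hi : i < D.rank) :
    D.cartan i u = ∑ j ∈ Finset.range D.rank, g.co u j * D.cartan i (D.simple j) := by
  rw [cartan_eq g.lie.pack hi hu, (g.struc.co_lin hu).1 i hi]
  refine Finset.sum_congr rfl fun j hj => ?_
  have hj' := Finset.mem_range.1 hj
  rw [cartan_eq g.lie.pack hi (g.simple_lt hj'), (g.lie.simple_facts hj').1]
  rfl

lemma co_neg {u : ℕ} (hu : u < D.nroots) {j : ℕ} (hj : j < D.rank) :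
    g.co (D.neg u) j = - g.co u j := by
  rw [co, neg_eq g.lie.pack hu, (g.struc.co_lin hu).2.1 j hj]
  rfl

lemma co_nonneg {u : ℕ} (hu : u < D.nroots) (hp : half D ≤ u) {j : ℕ} (hj : j < D.rank) :
    0 ≤ g.co u j := (g.struc.co_lin hu).2.2 hp j hj

lemma fpair_eq (r : ℕ) {u : ℕ} (hu : u < D.nroots) : fpair D r u = pair D r u := by
  rw [fpair, sumUpto_eq, pair]
  exact Finset.sum_congr rfl fun i hi => by
    rw [coroot_eq, cartan_eq g.lie.pack (Finset.mem_range.1 hi) hu]

lemma pair_simple {i u : ℕ} (hi : i < D.rank) (hu : u < D.nroots) :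
    pair D (D.simple i) u = D.cartan i u := by
  rw [← g.fpair_eq _ hu, StructChecks.fpair_simple g.lie g.struc hi hu, cartan_eq g.lie.pack hi hu]

lemma refl_lt {i s : ℕ} (hi : i < D.rank) (hs : s < D.nroots) : D.reflectRoot i s < D.nroots := by
  obtain ⟨h1, h2, -⟩ := StructChecks.refl_facts g.lie g.struc hi hs
  rwa [h1]

lemma refl_refl {i s : ℕ} (hi : i < D.rank) (hs : s < D.nroots) :
    D.reflectRoot i (D.reflectRoot i s) = s := by
  obtain ⟨h1, h2, h3, -⟩ := StructChecks.refl_facts g.lie g.struc hi hs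
  rw [(StructChecks.refl_facts g.lie g.struc hi (g.refl_lt hi hs)).1, h1, h3]

lemma refl_neg {i s : ℕ} (hi : i < D.rank) (hs : s < D.nroots) :
    D.reflectRoot i (D.neg s) = D.neg (D.reflectRoot i s) := by
  obtain ⟨h1, -, -, h4, -⟩ := StructChecks.refl_facts g.lie g.struc hi hs
  rw [(StructChecks.refl_facts g.lie g.struc hi (g.neg_lt hs)).1, h4, h1]

lemma refl_simple (i : ℕ) : D.reflectRoot i (D.simple i) = D.neg (D.simple i) := by
  simp [ChevalleyDatum.reflectRoot]

lemma refl_pos {i s : ℕ} (hi : i < D.rank) (hs : s < D.nroots) (hp : half D ≤ s)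
    (hne : s ≠ D.simple i) : half D ≤ D.reflectRoot i s := by
  obtain ⟨h1, -, -, -, -, -, h7⟩ := StructChecks.refl_facts g.lie g.struc hi hs
  rw [h1]; exact h7 hp hne

lemma co_refl {i s : ℕ} (hi : i < D.rank) (hs : s < D.nroots) {j : ℕ} (hj : j < D.rank) :
    g.co (D.reflectRoot i s) j = g.co s j - if i = j then D.cartan i s else 0 := by
  obtain ⟨h1, -, -, -, h5, -⟩ := StructChecks.refl_facts g.lie g.struc hi hs
  rw [co, h1, h5 j hj, fdelta_eq, ← cartan_eq g.lie.pack hi hs]
  split <;> simp [co]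

lemma corootCo_refl {i s : ℕ} (hi : i < D.rank) (hs : s < D.nroots) {j : ℕ} (hj : j < D.rank) :
    corootCo D (D.reflectRoot i s) j =
      corootCo D s j - if i = j then pair D s (D.simple i) else 0 := by
  obtain ⟨h1, -, -, -, -, h6, -⟩ := StructChecks.refl_facts g.lie g.struc hi hs
  rw [corootCo, coroot_eq, h1, h6 j hj, fdelta_eq, ← g.fpair_eq _ (g.simple_lt hi),
    (g.lie.simple_facts hi).1, corootCo, coroot_eq]
  split <;> simp

/-- The weight ordering the roots. -/
noncomputable def wt (u : ℕ) : ℤ := lexWt D g.dat u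

lemma wt_eq (u : ℕ) :
    g.wt u = ∑ j ∈ Finset.range D.rank, g.co u j * ((16 ^ (D.rank - 1 - j) : ℕ) : ℤ) := by
  rw [wt, lexWt, sumUpto_eq]
  rfl

lemma wt_neg {u : ℕ} (hu : u < D.nroots) : g.wt (D.neg u) = - g.wt u := by
  rw [g.wt_eq, g.wt_eq, ← Finset.sum_neg_distrib]
  exact Finset.sum_congr rfl fun j hj => by rw [g.co_neg hu (Finset.mem_range.1 hj), neg_mul]

lemma wt_lt {u v : ℕ} (huv : u < v) (hv : v < D.nroots) : g.wt u < g.wt v := by
  induction v with
  | zero => omega
  | succ v ih =>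
    have := allR_upto g.order (k := v) (by omega)
    simp only [Bool.or_eq_true, Nat.beq_eq, decide_eq_true_eq] at this
    rcases this with h | h
    · omega
    · rcases Nat.lt_succ_iff_lt_or_eq.1 huv with h' | rfl
      · exact (ih h' (by omega)).trans h
      · exact h

lemma wt_inj {u v : ℕ} (hu : u < D.nroots) (hv : v < D.nroots) (h : g.wt u = g.wt v) : u = v := by
  rcases lt_trichotomy u v with h' | h' | h'
  · exact absurd h (g.wt_lt h' hv).ne
  · exact h'
  · exact absurd h (g.wt_lt h' hu).ne'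

lemma lt_of_wt_lt {u v : ℕ} (hu : u < D.nroots) (h : g.wt u < g.wt v) : u < v := by
  rcases lt_trichotomy u v with h' | rfl | h'
  · exact h'
  · exact absurd h (lt_irrefl _)
  · exact absurd (g.wt_lt h' hu) (not_lt.2 h.le)

lemma wt_pos {u : ℕ} (hp : half D ≤ u) (hu : u < D.nroots) : 0 < g.wt u := by
  have h := g.wt_lt (u := D.neg u) (v := u) (by have := (g.neg_neg_iff hu).2 hp; omega) hu
  rw [g.wt_neg hu] at h
  omega

lemma wt_pos_iff {u : ℕ} (hu : u < D.nroots) : 0 < g.wt u ↔ half D ≤ u := by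
  refine ⟨fun h => ?_, fun h => g.wt_pos h hu⟩
  by_contra hn
  have h' := g.wt_pos (u := D.neg u) (by
    have := g.nroots_eq
    rw [g.neg_rev hu]; omega) (g.neg_lt hu)
  rw [g.wt_neg hu] at h'
  omega

/-- Induction on roots: fundamental roots and reflections. -/
theorem root_induction {P : ℕ → Prop} (hsimp : ∀ i < D.rank, P (D.simple i))
    (hrefl : ∀ i < D.rank, ∀ s < D.nroots, P s → P (D.reflectRoot i s))
    {r : ℕ} (hr : r < D.nroots) : P r := by
  have key : ∀ (l : List (ℕ × ℕ × ℕ)) (seen : List ℕ), orbOK D g.sd l seen = true →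
      (∀ x ∈ seen, x < D.nroots → P x) → ∀ x < D.nroots, P x := by
    intro l
    induction l with
    | nil =>
      intro seen ho hgood x hx
      have := allR_upto (show allR _ (upto D.nroots) = true from ho) hx
      rw [anyR_eq, List.any_eq_true] at this
      obtain ⟨y, hy, hye⟩ := this
      rw [Nat.beq_eq] at hye
      exact hgood x (hye ▸ hy) hx
    | cons st l ih =>
      intro seen ho hgood
      have ho' : (Nat.blt st.2.1 D.rank && Nat.blt st.2.2 D.nroots &&
          Nat.beq (refl g.sd st.2.1 st.2.2) st.1 && anyR (fun x => Nat.beq x st.2.2) seen &&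
          orbOK D g.sd l (st.1 :: seen)) = true := ho
      simp only [Bool.and_eq_true, Nat.blt, Nat.ble_eq, Nat.beq_eq, anyR_eq, List.any_eq_true] at ho'
      obtain ⟨⟨⟨⟨hi, hxr⟩, he⟩, y, hy, rfl⟩, hrest⟩ := ho'
      refine ih _ hrest fun z hz hzr => ?_
      rcases List.mem_cons.1 hz with rfl | hz'
      · rw [← he, ← (StructChecks.refl_facts g.lie g.struc (by omega) (by omega)).1]
        exact hrefl _ (by omega) _ (by omega) (hgood _ hy (by omega))
      · exact hgood z hz' hzr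
  refine key _ _ g.struc.orbit ?_ r hr
  intro x hx hxr
  rw [mapR_eq, List.mem_map] at hx
  obtain ⟨i, hi0, rfl⟩ := hx
  have hi : i < D.rank := by
    rw [upto_eq] at hi0
    exact List.mem_range.1 hi0
  rw [← (g.lie.simple_facts hi).1]
  exact hsimp i hi

/-! ### Matrices over a field -/

variable {F : Type*} [Field F]

lemma x_eq_xr {r : ℕ} (hr : r < D.nroots) (t : F) : D.x F r t = xr D F r t :=
  x_eq g.lie.shape hr t

omit g in
lemma x_out {r : ℕ} (hr : ¬ r < D.nroots) (t : F) : D.x F r t = 1 := by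
  rw [ChevalleyDatum.x, dif_neg hr]

lemma x_add (r : ℕ) (s t : F) : D.x F r s * D.x F r t = D.x F r (s + t) := by
  by_cases hr : r < D.nroots
  · rw [g.x_eq_xr hr, g.x_eq_xr hr, g.x_eq_xr hr, g.lie.xr_mul hr]
  · simp [x_out hr]

lemma x_zero (r : ℕ) : D.x F r (0 : F) = 1 := by
  by_cases hr : r < D.nroots
  · rw [g.x_eq_xr hr, LieChecks.xr_zero]
  · rw [x_out hr]

/-- The root element as an invertible matrix. -/
noncomputable def xG (r : ℕ) (t : F) : GL D.Idx F :=
  ⟨D.x F r t, D.x F r (-t), by rw [g.x_add, add_neg_cancel, g.x_zero],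
    by rw [g.x_add, neg_add_cancel, g.x_zero]⟩

lemma coe_xG (r : ℕ) (t : F) : (g.xG r t : Matrix D.Idx D.Idx F) = D.x F r t := rfl

lemma xG_add (r : ℕ) (s t : F) : g.xG r s * g.xG r t = g.xG r (s + t) :=
  Units.ext (g.x_add r s t)

lemma xG_zero (r : ℕ) : g.xG r (0 : F) = 1 := Units.ext (g.x_zero r)

lemma xG_inv (r : ℕ) (t : F) : (g.xG r t)⁻¹ = g.xG r (-t) := Units.ext rfl

lemma eq_xG {u : GL D.Idx F} {r : ℕ} {t : F} (h : (u : Matrix D.Idx D.Idx F) = D.x F r t) :
    u = g.xG r t := Units.ext h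

lemma xG_mem_rootSubgroup (r : ℕ) (t : F) : g.xG r t ∈ D.rootSubgroup F r :=
  Subgroup.subset_closure ⟨t, rfl⟩

lemma mem_rootSubgroup {r : ℕ} {u : GL D.Idx F} :
    u ∈ D.rootSubgroup F r ↔ ∃ t : F, u = g.xG r t := by
  refine ⟨fun h => ?_, fun ⟨t, ht⟩ => ht ▸ g.xG_mem_rootSubgroup r t⟩
  induction h using Subgroup.closure_induction with
  | mem x hx => obtain ⟨t, ht⟩ := hx; exact ⟨t, g.eq_xG ht⟩
  | one => exact ⟨0, (g.xG_zero r).symm⟩
  | mul x y _ _ hx hy =>
    obtain ⟨s, rfl⟩ := hx; obtain ⟨t, rfl⟩ := hy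
    exact ⟨s + t, g.xG_add r s t⟩
  | inv x _ hx => obtain ⟨t, rfl⟩ := hx; exact ⟨-t, g.xG_inv r t⟩

lemma xG_mem_group {r : ℕ} (hr : r < D.nroots) (t : F) : g.xG r t ∈ D.group F :=
  Subgroup.subset_closure ⟨⟨r, hr⟩, t, by rw [coe_xG, ChevalleyDatum.x, dif_pos hr]⟩

lemma xG_mem_posUnipotent {r : ℕ} (hr : D.IsPosRoot r) (t : F) : g.xG r t ∈ D.posUnipotent F :=
  Subgroup.subset_closure ⟨r, t, hr, rfl⟩

lemma xG_mem_negUnipotent {r : ℕ} (hr : D.IsNegRoot r) (t : F) : g.xG r t ∈ D.negUnipotent F :=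
  Subgroup.subset_closure ⟨r, t, hr, rfl⟩

lemma nMat_eq {r : ℕ} (hr : r < D.nroots) (t : Fˣ) :
    D.nMat F r (t : F) = nR (D := D) r t := by
  simp only [ChevalleyDatum.nMat, ChevalleyDatum.wordMat, ChevalleyDatum.nWord, List.map_cons,
    List.map_nil, List.prod_cons, List.prod_nil, mul_one, g.x_eq_xr hr, g.x_eq_xr (g.neg_lt hr),
    nR, Units.val_inv_eq_inv_val, mul_assoc]

lemma nMat_one {r : ℕ} (hr : r < D.nroots) : D.nMat F r (1 : F) = nR (D := D) r 1 := by
  simpa using g.nMat_eq hr (1 : Fˣ)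

omit g in
lemma hMat_mul (r : ℕ) (t : F) : D.hMat F r t = D.nMat F r t * D.nMat F r (-1) := by
  simp [ChevalleyDatum.hMat, ChevalleyDatum.nMat, ChevalleyDatum.wordMat, ChevalleyDatum.hWord]

lemma wPair_eq (r : ℕ) : wPair D r = Sum.elim (0 : Fin D.rank → ℤ) fun u : Fin D.nroots => pair D r u := by
  funext a
  rcases a with c | u
  · simp [wPair]
  · simp [wPair, g.fpair_eq r u.2]

lemma hMat_eq {r : ℕ} (hr : r < D.nroots) (t : Fˣ) :
    D.hMat F r (t : F) = tor (wPair D r) t := by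
  rw [hMat_mul, g.nMat_eq hr, show (-1 : F) = ((-1 : Fˣ) : F) by simp, g.nMat_eq hr,
    StructChecks.hR_diag g.lie g.struc hr]

/-- The diagonal matrix `diag (t ^ w)` as an invertible matrix. -/
noncomputable def torG (_g : Good D) (w : D.Idx → ℤ) : Fˣ →* GL D.Idx F where
  toFun t := ⟨tor w t, tor w t⁻¹, tor_inv w t, by rw [tor_mul, inv_mul_cancel, tor_one]⟩
  map_one' := Units.ext (tor_one w)
  map_mul' s t := Units.ext (tor_mul w s t).symm

/-- `h_r(t)` as an invertible matrix. -/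
noncomputable def hG (r : ℕ) : Fˣ →* GL D.Idx F := g.torG (wPair D r)

lemma coe_hG {r : ℕ} (hr : r < D.nroots) (t : Fˣ) :
    (g.hG r t : Matrix D.Idx D.Idx F) = D.hMat F r (t : F) := (g.hMat_eq hr t).symm

lemma hG_mem {r : ℕ} (hr : r < D.nroots) (t : Fˣ) : g.hG r t ∈ D.diagonalSubgroup F :=
  Subgroup.subset_closure ⟨r, t, hr, t.ne_zero, g.coe_hG hr t⟩

/-- `n_r(t)` as an invertible matrix. -/
noncomputable def nG (r : ℕ) (t : Fˣ) : GL D.Idx F :=
  g.xG r (t : F) * g.xG (D.neg r) (-((t⁻¹ : Fˣ) : F)) * g.xG r (t : F)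

lemma coe_nG (r : ℕ) (t : Fˣ) : (g.nG r t : Matrix D.Idx D.Idx F) = D.nMat F r (t : F) := by
  simp [nG, coe_xG, ChevalleyDatum.nMat, ChevalleyDatum.wordMat, ChevalleyDatum.nWord, mul_assoc]

lemma hG_eq {r : ℕ} (hr : r < D.nroots) (t : Fˣ) : g.hG r t = g.nG r t * g.nG r (-1) :=
  Units.ext (by rw [g.coe_hG hr, hMat_mul, Units.val_mul, coe_nG, coe_nG]; simp)

lemma nG_inv {r : ℕ} (hr : r < D.nroots) (t : Fˣ) : (g.nG r t)⁻¹ = g.nG r (-t) := by
  simp only [nG, _root_.mul_inv_rev, xG_inv, _root_.neg_neg, inv_neg, Units.val_neg, mul_assoc]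

lemma nG_mem {r : ℕ} (hr : r < D.nroots) : g.nG r (1 : Fˣ) ∈ D.monomialSubgroup F :=
  Subgroup.mem_sup_right (Subgroup.subset_closure ⟨r, hr, by simp [coe_nG]⟩)

/-! ### Conjugation formulae -/

/-- The sign in `n_i x_s(t) = x_{w s}(η t) n_i`. -/
noncomputable def eta (i s : ℕ) : ℤ := etaOf D g.dat g.sd i s

lemma eta_sign {i s : ℕ} (hi : i < D.rank) (hs : s < D.nroots) :
    g.eta i s = 1 ∨ g.eta i s = -1 := (StructChecks.eta_facts g.lie g.struc hi hs).1

lemma n_conj_x {i s : ℕ} (hi : i < D.rank) (hs : s < D.nroots) (t : F) :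
    D.nMat F (D.simple i) 1 * D.x F s t =
      D.x F (D.reflectRoot i s) ((g.eta i s : F) * t) * D.nMat F (D.simple i) 1 := by
  rw [g.nMat_one (g.simple_lt hi), g.x_eq_xr hs, g.x_eq_xr (g.refl_lt hi hs),
    StructChecks.nR_conj F g.lie g.struc hi hs t,
    (StructChecks.refl_facts g.lie g.struc hi hs).1]
  rfl

lemma nG_conj_xG {i s : ℕ} (hi : i < D.rank) (hs : s < D.nroots) (t : F) :
    g.nG (D.simple i) 1 * g.xG s t * (g.nG (D.simple i) 1)⁻¹ =
      g.xG (D.reflectRoot i s) ((g.eta i s : F) * t) := by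
  rw [mul_inv_eq_iff_eq_mul]
  refine Units.ext ?_
  simpa [coe_nG, coe_xG] using g.n_conj_x hi hs t

lemma tor_conj_x {s : ℕ} (hs : s < D.nroots) (r : ℕ) (c : Fˣ) (t : F) :
    tor (wPair D r) c * D.x F s t =
      D.x F s (((c ^ pair D r s : Fˣ) : F) * t) * tor (wPair D r) c := by
  rw [g.x_eq_xr hs, g.x_eq_xr hs, StructChecks.torPair_xr g.lie hs r c t, g.fpair_eq r hs]

lemma hG_conj_xG {r s : ℕ} (hs : s < D.nroots) (c : Fˣ) (t : F) :
    g.hG r c * g.xG s t * (g.hG r c)⁻¹ = g.xG s (((c ^ pair D r s : Fˣ) : F) * t) := by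
  rw [mul_inv_eq_iff_eq_mul]
  exact Units.ext (g.tor_conj_x hs r c t)

lemma n_conj_tor {i r : ℕ} (hi : i < D.rank) (hr : r < D.nroots) (c : Fˣ) :
    D.nMat F (D.simple i) 1 * tor (wPair D r) c =
      tor (wPair D (D.reflectRoot i r)) c * D.nMat F (D.simple i) 1 := by
  have e0 : wPair D (D.reflectRoot i r) =
      Sum.elim (0 : Fin D.rank → ℤ) fun v : Fin D.nroots => fpair D r (refl g.sd i v) := by
    funext a
    rcases a with c | v
    · simp [wPair]
    · simp only [wPair, Sum.elim_inr, (StructChecks.refl_facts g.lie g.struc hi hr).1,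
        StructChecks.fpair_refl g.lie g.struc hi hr v.2]
  have hw : Relates (wPair D (D.reflectRoot i r)) (wPair D r) (nZ (D := D) i) := by
    rw [e0]; exact StructChecks.nZ_relates g.lie g.struc hi _
  have hmap : (nZ (D := D) i).map (Int.cast : ℤ → F) = nR (D := D) (D.simple i) 1 := by
    have := nR_map (D := D) (Int.castRingHom F) (D.simple i) 1
    rwa [map_one] at this
  rw [g.nMat_one (g.simple_lt hi), ← hmap, hw.mul_tor]

lemma nG_conj_hG {i r : ℕ} (hi : i < D.rank) (hr : r < D.nroots) (c : Fˣ) :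
    g.nG (D.simple i) 1 * g.hG r c * (g.nG (D.simple i) 1)⁻¹ = g.hG (D.reflectRoot i r) c := by
  rw [mul_inv_eq_iff_eq_mul]
  refine Units.ext ?_
  rw [Units.val_mul, Units.val_mul, g.coe_nG]
  exact_mod_cast g.n_conj_tor hi hr c

lemma x_eq_one_iff {r : ℕ} (hr : r < D.nroots) (t : F) : D.x F r t = 1 ↔ t = 0 := by
  refine ⟨fun h => ?_, fun h => by rw [h, g.x_zero]⟩
  suffices H : ∀ t : F, g.xG r t = 1 → t = 0 from H t (Units.ext h)
  refine g.root_induction (P := fun r => ∀ t : F, g.xG r t = 1 → t = 0) ?_ ?_ hr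
  · intro i hi t ht
    have hp := g.simple_lt hi
    have he := congrArg (fun M : GL D.Idx F => (M : Matrix D.Idx D.Idx F) (Sum.inl ⟨i, hi⟩)
      (Sum.inr ⟨D.neg (D.simple i), g.neg_lt hp⟩)) ht
    have hne : (⟨D.neg (D.simple i), g.neg_lt hp⟩ : Fin D.nroots) ≠ ⟨D.simple i, hp⟩ :=
      fun hc => g.neg_ne hp (Fin.ext_iff.1 hc)
    simp only [coe_xG, ChevalleyDatum.x, dif_pos hp, ChevalleyDatum.xMat, Matrix.of_apply,
      Units.val_one, if_neg hne] at he
    rw [if_pos (show D.neg (D.simple i) = D.negIdx.getD (D.simple i) 0 from rfl),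
      Matrix.one_apply_ne (by simp)] at he
    rw [show ((D.coroot.getD (D.simple i) #[]).getD i 0 : ℤ) = 1 by
      simpa [corootCo] using g.corootCo_simple hi hi] at he
    simpa using he
  · intro i hi s hs ih t ht
    apply ih
    have hσ := g.refl_lt hi hs
    have := g.nG_conj_xG hi hσ t
    rw [g.refl_refl hi hs, ht, mul_one, mul_inv_cancel] at this
    have h0 := ih _ this.symm
    rcases g.eta_sign hi hσ with h1 | h1 <;> rw [h1] at h0 <;> simp at h0 <;> subst h0 <;>
      exact g.xG_zero s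

end Good

end CfsgLib.Chev
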