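import Mathlib
import Cfsg.Agent.Lib.Chev.Bridge
import Cfsg.Agent.Lib.Chev.CommCheck

/-!
Chevalley's commutator formula.
-/

set_option autoImplicit false

namespace CfsgLib.Chev

open Cfsg.Lie Matrix

variable {D : ChevalleyDatum}

/-- The tables pass the checks of the commutator formula. -/
def HasComm (D : ChevalleyDatum) : Prop := ∃ a3 : Bool, commOK D a3 = true

namespace Good

variable (g : Good D)
include g

lemma fcol_chain {r : ℕ} (hr : r < D.nroots) {k : ℕ} (hk : k ∈ [1, 2, 3]) {s : ℕ}
    (hs : s ≠ fneg D r) :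
    fcol D r k (D.rank + s) =
      (((D.chainEntry r s)[k - 1]?).map fun q => (D.rank + q.1, q.2)).toList := by
  rw [← rcol_eq_fcol g.lie.shape g.lie.pack hr hk, rcol_root g.lie.shape hr hk,
    if_neg (by rwa [neg_eq g.lie.pack hr]), ChevalleyDatum.chainEntry]
  have : (fun e : ℕ × Array (ℕ × ℤ) => e.1 == s) = fun e => decide (e.1 = s) := rfl
  rw [this]
  cases hf : (D.chain.getD r #[]).toList.find? fun e => decide (e.1 = s) with
  | none => rfl
  | some e =>
    simp only [chainTerm]
    cases e.2.toList[k - 1]? <;> rfl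

lemma chainEntry_neg {r : ℕ} (hr : r < D.nroots) : D.chainEntry r (fneg D r) = [] := by
  have : (D.chain.getD r #[]).toList.find? (fun e => decide (e.1 = fneg D r)) = none := by
    rw [List.find?_eq_none]
    intro e he
    rw [decide_eq_true_eq, ← neg_eq g.lie.pack hr]
    exact ((rowShapeOK_of g.lie.shape hr).2.2.2.2 e he).2.2.1
  rw [ChevalleyDatum.chainEntry, this]

lemma fchain_eq {r : ℕ} (hr : r < D.nroots) {i : ℕ} (hi : i ∈ [1, 2, 3]) (s : ℕ) :
    fchainRoot D r s i = D.chainRoot r s i ∧ fchainM D r s i = D.chainM r s i := by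
  rw [fchainRoot, fchainM, ChevalleyDatum.chainRoot, ChevalleyDatum.chainM]
  by_cases hs : s = fneg D r
  · subst hs
    rw [g.chainEntry_neg hr, show Nat.beq (fneg D r) (fneg D r) = true by rw [Nat.beq_eq]]
    simp
  · rw [show Nat.beq s (fneg D r) = false by rw [← Bool.not_eq_true, Nat.beq_eq]; exact hs,
      g.fcol_chain hr hi hs]
    cases (D.chainEntry r s)[i - 1]? <;> simp

lemma chainRoot_lt {r : ℕ} (hr : r < D.nroots) {s i k : ℕ} (h : D.chainRoot r s i = some k) :
    k < D.nroots := by
  rw [ChevalleyDatum.chainRoot, ChevalleyDatum.chainEntry] at h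
  cases hf : (D.chain.getD r #[]).toList.find? (fun e => decide (e.1 = s)) with
  | none => rw [hf] at h; simp at h
  | some e =>
    rw [hf] at h
    simp only [Option.map_eq_some_iff] at h
    obtain ⟨q, hq, rfl⟩ := h
    exact ((rowShapeOK_of g.lie.shape hr).2.2.2.2 e (List.mem_of_find?_eq_some hf)).2.2.2.2 q
      (List.mem_of_getElem? hq)

lemma fterms_eq {r s : ℕ} (hr : r < D.nroots) (hs : s < D.nroots) :
    fterms D r s = D.commTerms r s := by
  have e1 : ∀ i ∈ [1, 2, 3], fchainRoot D r s i = D.chainRoot r s i ∧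
      fchainM D r s i = D.chainM r s i := fun i hi => g.fchain_eq hr hi s
  have e2 : ∀ i ∈ [1, 2, 3], fchainRoot D s r i = D.chainRoot s r i ∧
      fchainM D s r i = D.chainM s r i := fun i hi => g.fchain_eq hs hi r
  have hb : ∀ (a b c : ℕ), a < D.nroots →
      (D.chainRoot a b 3).bind (fun k => fchainRoot D k c 1) =
        (D.chainRoot a b 3).bind (fun k => D.chainRoot k c 1) := by
    intro a b c ha
    cases h : D.chainRoot a b 3 with
    | none => rfl
    | some k => exact (g.fchain_eq (g.chainRoot_lt ha h) (by simp) c).1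
  have hm : ∀ (c : ℕ) (G : ℤ → ℤ),
      (D.chainRoot r s 1).map (fun k => G (fchainM D k c 2)) =
        (D.chainRoot r s 1).map (fun k => G (D.chainM k c 2)) := by
    intro c G
    cases h : D.chainRoot r s 1 with
    | none => rfl
    | some k => simp [(g.fchain_eq (g.chainRoot_lt hr h) (i := 2) (by simp) c).2]
  have hc : fcands D r s = [ (D.chainRoot r s 1, D.chainM r s 1, 1, 1),
      (D.chainRoot r s 2, D.chainM r s 2, 2, 1),
      (D.chainRoot s r 2, D.chainM s r 2, 1, 2),
      (D.chainRoot r s 3, D.chainM r s 3, 3, 1),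
      (D.chainRoot s r 3, - D.chainM s r 3, 1, 3),
      ((D.chainRoot r s 3).bind fun k => D.chainRoot k s 1,
        ((D.chainRoot r s 1).map fun k => D.chainM k r 2 / 3).getD 0, 3, 2),
      ((D.chainRoot s r 3).bind fun k => D.chainRoot k r 1,
        ((D.chainRoot r s 1).map fun k => -2 * D.chainM k s 2 / 3).getD 0, 2, 3) ] := by
    rw [fcands, (e1 1 (by simp)).1, (e1 1 (by simp)).2, (e1 2 (by simp)).1, (e1 2 (by simp)).2,
      (e1 3 (by simp)).1, (e1 3 (by simp)).2, (e2 2 (by simp)).1, (e2 2 (by simp)).2,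
      (e2 3 (by simp)).1, (e2 3 (by simp)).2, hb r s s hr, hb s r r hs,
      hm r (fun z => z / 3), hm s (fun z => -2 * z / 3)]
  rw [fterms, ChevalleyDatum.commTerms, hc]
  have key : ∀ l : List (Option ℕ × ℤ × ℕ × ℕ),
      (List.rec [] (fun c _ ih => Option.rec ih (fun k => (k, c.2) :: ih) c.1) l :
          List (ℕ × ℤ × ℕ × ℕ)) = l.filterMap fun c => c.1.map fun k => (k, c.2) := by
    intro l
    induction l with
    | nil => rfl
    | cons c l ih =>
      obtain ⟨o, rest⟩ := c
      rw [List.filterMap_cons]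
      cases o <;> simp [ih]
  exact key [(D.chainRoot r s 1, D.chainM r s 1, 1, 1), (D.chainRoot r s 2, D.chainM r s 2, 2, 1),
      (D.chainRoot s r 2, D.chainM s r 2, 1, 2), (D.chainRoot r s 3, D.chainM r s 3, 3, 1),
      (D.chainRoot s r 3, - D.chainM s r 3, 1, 3),
      ((D.chainRoot r s 3).bind fun k => D.chainRoot k s 1,
        ((D.chainRoot r s 1).map fun k => D.chainM k r 2 / 3).getD 0, 3, 2),
      ((D.chainRoot s r 3).bind fun k => D.chainRoot k r 1,
        ((D.chainRoot r s 1).map fun k => -2 * D.chainM k s 2 / 3).getD 0, 2, 3)]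

omit g in
lemma map_eq_of_coef_eq {R : Type*} [CommRing R] (φ : ℕ → R) (a b : SVec)
    (h : ∀ i, coef a i = coef b i) :
    (a.map fun p => (p.2 : R) * φ p.1).sum = (b.map fun p => (p.2 : R) * φ p.1).sum := by
  have key : ∀ (S : Finset ℕ) (w : SVec), (∀ p ∈ w, p.1 ∈ S) →
      (w.map fun p => (p.2 : R) * φ p.1).sum = ∑ i ∈ S, (coef w i : R) * φ i := by
    intro S w hw
    induction w with
    | nil => simp [coef_nil]
    | cons p w ih =>
      rw [List.map_cons, List.sum_cons, ih fun q hq => hw q (List.mem_cons_of_mem _ hq)]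
      have e : ∀ i, (coef (p :: w) i : R) * φ i =
          (if p.1 = i then (p.2 : R) * φ i else 0) + (coef w i : R) * φ i := by
        intro i
        rw [coef_cons, Int.cast_add, add_mul]
        by_cases hpi : p.1 = i <;> simp [hpi]
      simp only [e]
      rw [Finset.sum_add_distrib, Finset.sum_ite_eq, if_pos (hw p (by simp))]
  have ha : ∀ p ∈ a, p.1 ∈ ((a ++ b).map Prod.fst).toFinset := fun p hp =>
    List.mem_toFinset.2 (List.mem_map.2 ⟨p, List.mem_append_left _ hp, rfl⟩)
  have hb : ∀ p ∈ b, p.1 ∈ ((a ++ b).map Prod.fst).toFinset := fun p hp =>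
    List.mem_toFinset.2 (List.mem_map.2 ⟨p, List.mem_append_right _ hp, rfl⟩)
  rw [key _ a ha, key _ b hb]
  simp only [h]

end Good

/-! ### Symbolic vectors -/

section Sym

variable {R : Type*} [CommRing R] (t u : R)

/-- The value of a symbolic vector. -/
noncomputable def symVal (D : ChevalleyDatum) (v : Sym) : D.Idx → R :=
  fun x => (v.map fun p => if p.1 = ix D x then (p.2.2.2 : R) * t ^ p.2.1 * u ^ p.2.2.1 else 0).sum

/-- All coordinates are in range. -/
def SymOK (D : ChevalleyDatum) (v : Sym) : Prop := ∀ p ∈ v, p.1 ∈ Set.range (ix D)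

lemma symVal_append (v w : Sym) :
    symVal t u D (v ++ w) = symVal t u D v + symVal t u D w := by
  funext x; simp [symVal]

lemma symVal_single (y : D.Idx) (i j : ℕ) (c : ℤ) :
    symVal t u D [(ix D y, i, j, c)] = ((c : R) * t ^ i * u ^ j) • Pi.single y 1 := by
  funext x
  by_cases h : x = y
  · subst h; simp [symVal]
  · have hne : ¬ ix D y = ix D x := fun hc => h (ix_injective D hc).symm
    simp [symVal, h, hne]

lemma symTerm_eq (v : SVec) (i j : ℕ) (c : ℤ) :
    symTerm v i j c = v.map fun q => (q.1, i, j, c * q.2) := by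
  induction v with
  | nil => rfl
  | cons q v ih => show (q.1, i, j, c * q.2) :: symTerm v i j c = _; rw [ih]; rfl

lemma symVal_term (v : SVec) (i j : ℕ) (c : ℤ) :
    symVal t u D (symTerm v i j c) =
      ((c : R) * t ^ i * u ^ j) • fun x => (coef v (ix D x) : R) := by
  funext x
  rw [symTerm_eq]
  induction v with
  | nil => simp [symVal, coef_nil]
  | cons q v ih =>
    simp only [symVal, List.map_cons, List.sum_cons, Pi.smul_apply, smul_eq_mul] at ih ⊢
    rw [ih, coef_cons]
    by_cases h : q.1 = ix D x <;> simp [h]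
    ring

lemma symX_spec {dat : LieData} (hl : LieChecks D dat) {r : ℕ} (hr : r < D.nroots) (c : ℤ)
    (a b : ℕ) (v : Sym) (hv : SymOK D v) :
    SymOK D (symX D r c a b v) ∧
      symVal t u D (symX D r c a b v) =
        xr D R r ((c : R) * t ^ a * u ^ b) *ᵥ symVal t u D v := by
  set G : Sym → Sym := fun v => List.rec [] (fun p _ ih =>
    appR (symTerm (fcol D r 1 p.1) (p.2.1 + a) (p.2.2.1 + b) (c * p.2.2.2))
      (appR (symTerm (fcol D r 2 p.1) (p.2.1 + (a + a)) (p.2.2.1 + (b + b)) (c * c * p.2.2.2))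
        (appR (symTerm (fcol D r 3 p.1) (p.2.1 + (a + a + a)) (p.2.2.1 + (b + b + b))
          (c * c * c * p.2.2.2)) ih))) v with hG
  have hX : symX D r c a b v = v ++ G v := by rw [symX, appR_eq]
  rw [hX]
  have main : ∀ w, SymOK D w → SymOK D (G w) ∧ symVal t u D w + symVal t u D (G w) =
      xr D R r ((c : R) * t ^ a * u ^ b) *ᵥ symVal t u D w := by
    intro w
    induction w with
    | nil =>
      intro _
      refine ⟨by simp [hG, SymOK], ?_⟩
      have hz : symVal t u D ([] : Sym) = 0 := by funext x; simp [symVal]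
      show symVal t u D ([] : Sym) + symVal t u D ([] : Sym) = _
      rw [hz, Matrix.mulVec_zero, add_zero]
    | cons p w ih =>
      intro hw
      obtain ⟨ih1, ih2⟩ := ih fun q hq => hw q (List.mem_cons_of_mem _ hq)
      obtain ⟨y, hy⟩ := hw p (by simp)
      have hcons : G (p :: w) =
          symTerm (fcol D r 1 p.1) (p.2.1 + a) (p.2.2.1 + b) (c * p.2.2.2) ++
          (symTerm (fcol D r 2 p.1) (p.2.1 + (a + a)) (p.2.2.1 + (b + b)) (c * c * p.2.2.2) ++
          (symTerm (fcol D r 3 p.1) (p.2.1 + (a + a + a)) (p.2.2.1 + (b + b + b))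
            (c * c * c * p.2.2.2) ++ G w)) := by
        show appR _ (appR _ (appR _ (G w))) = _
        simp only [appR_eq]
      refine ⟨?_, ?_⟩
      · intro q hq
        rw [hcons] at hq
        simp only [List.mem_append, symTerm_eq, List.mem_map] at hq
        rcases hq with ⟨e, he, rfl⟩ | ⟨e, he, rfl⟩ | ⟨e, he, rfl⟩ | hq
        · exact hl.fcol_range hr (by simp) _ e he
        · exact hl.fcol_range hr (by simp) _ e he
        · exact hl.fcol_range hr (by simp) _ e he
        · exact ih1 q hq
      · have hp : p = (ix D y, p.2.1, p.2.2.1, p.2.2.2) := by rw [hy]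
        rw [hcons, show p :: w = [p] ++ w from rfl, symVal_append, symVal_append, symVal_append,
          symVal_append, Matrix.mulVec_add, ← ih2]
        have colk : ∀ k ∈ [1, 2, 3], (amat D R r k *ᵥ Pi.single y (1 : R)) =
            fun x => (coef (fcol D r k p.1) (ix D x) : R) := by
          intro k hk
          funext x
          rw [Matrix.mulVec_single_one, Matrix.col_apply, amat, Matrix.map_apply,
            hl.rmat_apply hr hk, hy]
        rw [hp, symVal_single, Matrix.mulVec_smul, xr]
        simp only [Matrix.add_mulVec, Matrix.one_mulVec, Matrix.smul_mulVec,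
          colk 1 (by simp), colk 2 (by simp), colk 3 (by simp), symVal_term, hy, Int.cast_mul]
        funext x
        simp only [Pi.add_apply, Pi.smul_apply, smul_eq_mul]
        ring
  obtain ⟨m1, m2⟩ := main v hv
  refine ⟨fun q hq => ?_, by rw [symVal_append]; exact m2⟩
  rcases List.mem_append.1 hq with h | h
  · exact hv q h
  · exact m1 q h

lemma negOnePow_eq (i : ℕ) : (negOnePow i : R) = (-1) ^ i := by
  induction i with
  | zero => simp [negOnePow]
  | succ i ih =>
    show ((-negOnePow i : ℤ) : R) = _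
    rw [Int.cast_neg, ih, pow_succ]; ring

lemma symWord_spec {dat : LieData} (hl : LieChecks D dat) (l : List (ℕ × ℤ × ℕ × ℕ))
    (hlt : ∀ c ∈ l, c.1 < D.nroots) (v : Sym) (hv : SymOK D v) :
    SymOK D (symWord D l v) ∧ symVal t u D (symWord D l v) =
      (l.map fun c => xr D R c.1 ((c.2.1 : R) * (-t) ^ c.2.2.1 * u ^ c.2.2.2)).prod *ᵥ
        symVal t u D v := by
  induction l with
  | nil => exact ⟨hv, by simp [symWord]⟩
  | cons c l ih =>
    obtain ⟨i1, i2⟩ := ih fun e he => hlt e (List.mem_cons_of_mem _ he)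
    obtain ⟨h1, h2⟩ := symX_spec (R := R) t u hl (hlt c (by simp)) (c.2.1 * negOnePow c.2.2.1)
      c.2.2.1 c.2.2.2 (symWord D l v) i1
    refine ⟨h1, ?_⟩
    show symVal t u D (symX D c.1 _ _ _ (symWord D l v)) = _
    rw [h2, i2, List.map_cons, List.prod_cons, Matrix.mulVec_mulVec, Int.cast_mul, negOnePow_eq,
      show (c.2.1 : R) * (-1) ^ c.2.2.1 * t ^ c.2.2.1 = (c.2.1 : R) * (-t) ^ c.2.2.1 by
        rw [mul_assoc, ← mul_pow]; norm_num]

lemma symVal_code (v : Sym) (hb : symBdd D v = true) (x : D.Idx) :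
    symVal t u D v x = ((symCode D v).map fun p => (p.2 : R) *
      (if p.1 % dimL D = ix D x then
        t ^ (p.1 / dimL D % 32) * u ^ (p.1 / dimL D / 32) else 0)).sum := by
  induction v with
  | nil => simp [symVal, symCode]
  | cons p v ih =>
    have hb' : ((Nat.blt p.1 (dimL D) && Nat.blt p.2.1 32) && symBdd D v) = true := hb
    simp only [Bool.and_eq_true, Nat.blt, Nat.ble_eq] at hb'
    obtain ⟨⟨hm, hi⟩, hrest⟩ := hb'
    show _ = (((p.1 + dimL D * (p.2.1 + 32 * p.2.2.1), p.2.2.2) :: symCode D v).map _).sum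
    rw [List.map_cons, List.sum_cons, ← ih hrest]
    have hdim : 0 < dimL D := by omega
    have h1 : (p.1 + dimL D * (p.2.1 + 32 * p.2.2.1)) % dimL D = p.1 := by
      rw [Nat.add_mul_mod_self_left, Nat.mod_eq_of_lt (by omega)]
    have h2 : (p.1 + dimL D * (p.2.1 + 32 * p.2.2.1)) / dimL D = p.2.1 + 32 * p.2.2.1 := by
      rw [Nat.add_mul_div_left _ _ hdim, Nat.div_eq_of_lt (by omega), zero_add]
    rw [h1, h2, show (p.2.1 + 32 * p.2.2.1) % 32 = p.2.1 by omega,
      show (p.2.1 + 32 * p.2.2.1) / 32 = p.2.2.1 by omega]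
    simp only [symVal, List.map_cons, List.sum_cons]
    by_cases h : p.1 = ix D x <;> simp [h]
    ring

lemma symVal_eq_of_check (v w : Sym) (hv : symBdd D v = true) (hw : symBdd D w = true)
    (h : vEq (symCode D v) (symCode D w) = true) : symVal t u D v = symVal t u D w := by
  funext x
  rw [symVal_code t u v hv, symVal_code t u w hw]
  exact Good.map_eq_of_coef_eq (R := R)
    (fun k => if k % dimL D = ix D x then t ^ (k / dimL D % 32) * u ^ (k / dimL D / 32) else 0)
    _ _ (vEq_sound h)

end Sym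

/-! ### Commuting divided powers -/

lemma cancel_natCast {R : Type*} [CommRing R] [IsDomain R] [CharZero R] {ι : Type*} {n : ℕ}
    (hn : n ≠ 0) {X Y : Matrix ι ι R} (h : (n : R) • X = (n : R) • Y) : X = Y := by
  ext i j
  have := congrFun (congrFun h i) j
  simp only [Matrix.smul_apply, smul_eq_mul] at this
  exact mul_left_cancel₀ (Nat.cast_ne_zero.2 hn) this

namespace Good

variable (g : Good D)
include g

variable {R : Type*} [CommRing R]

lemma rmat_commute {r s : ℕ} (hr : r < D.nroots) (hs : s < D.nroots)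
    (h : ∀ i, coef (fcol D s 1 (D.rank + r)) i = 0) : Commute (rmat D s 1) (rmat D r 1) := by
  have h1 := g.lie.adV_bracket (Pi.single (Sum.inr ⟨s, hs⟩) 1) (Pi.single (Sum.inr ⟨r, hr⟩) 1)
  rw [adV_single, adV_single, one_smul, one_smul] at h1
  have hz : bmat D (Sum.inr (⟨s, hs⟩ : Fin D.nroots)) *ᵥ
      Pi.single (Sum.inr (⟨r, hr⟩ : Fin D.nroots)) (1 : ℤ) = 0 := by
    funext x
    rw [Matrix.mulVec_single_one, Matrix.col_apply, Pi.zero_apply]
    show rmat D s 1 x _ = 0
    rw [g.lie.rmat_apply hs (by simp), ix_inr, h]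
  rw [hz] at h1
  have h0 : adV D (0 : D.Idx → ℤ) = 0 := by simp [adV]
  rw [h0] at h1
  exact sub_eq_zero.1 h1

lemma rmat_commute_all {r s : ℕ} (hr : r < D.nroots) (hs : s < D.nroots)
    (h : Commute (rmat D s 1) (rmat D r 1)) (i j : ℕ) (hi : i ∈ [1, 2, 3]) (hj : j ∈ [1, 2, 3]) :
    Commute (rmat D s i) (rmat D r j) := by
  have step : ∀ {q : ℕ}, q < D.nroots → ∀ {X : Matrix D.Idx D.Idx ℤ}, Commute X (rmat D q 1) →
      ∀ j ∈ [1, 2, 3], Commute X (rmat D q j) := by
    intro q hq X hX
    obtain ⟨h11, h12, -⟩ := g.lie.rmat_mul hq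
    have two : Commute X (rmat D q 2) := by
      apply smul_right_injective _ (two_ne_zero (α := ℤ))
      show (2 : ℤ) • (X * rmat D q 2) = (2 : ℤ) • (rmat D q 2 * X)
      rw [two_smul, two_smul, ← mul_add, ← add_mul, ← h11]
      exact hX.mul_right hX
    intro j hj
    simp only [List.mem_cons, List.not_mem_nil, or_false] at hj
    rcases hj with rfl | rfl | rfl
    · exact hX
    · exact two
    · apply smul_right_injective _ (three_ne_zero (α := ℤ))
      show (3 : ℤ) • (X * rmat D q 3) = (3 : ℤ) • (rmat D q 3 * X)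
      rw [show (3 : ℤ) • (X * rmat D q 3) = X * (rmat D q 3 + rmat D q 3 + rmat D q 3) by
          rw [mul_add, mul_add]; module,
        show (3 : ℤ) • (rmat D q 3 * X) = (rmat D q 3 + rmat D q 3 + rmat D q 3) * X by
          rw [add_mul, add_mul]; module, ← h12]
      exact hX.mul_right two
  exact (step hs ((step hr h j hj).symm) i hi).symm

lemma amat_commute {r s : ℕ} (hr : r < D.nroots) (hs : s < D.nroots)
    (h : Commute (rmat D s 1) (rmat D r 1)) {i j : ℕ} (hi : i ∈ [1, 2, 3]) (hj : j ∈ [1, 2, 3]) :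
    Commute (amat D R s i) (amat D R r j) := by
  rw [Commute, SemiconjBy, amat, amat, map_intMat_mul, map_intMat_mul,
    (g.rmat_commute_all hr hs h i j hi hj).eq]

lemma xr_commute {r s : ℕ} (hr : r < D.nroots) (hs : s < D.nroots)
    (h : Commute (rmat D s 1) (rmat D r 1)) (t u : R) :
    Commute (xr D R s u) (xr D R r t) := by
  have c : ∀ i ∈ [1, 2, 3], Commute (xr D R s u) (amat D R r i) := fun i hi => by
    have a : ∀ j ∈ [1, 2, 3], ∀ c : R, Commute (c • amat D R s j) (amat D R r i) :=
      fun j hj c => (g.amat_commute hr hs h hj hi).smul_left c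
    exact (((Commute.one_left _).add_left (a 1 (by simp) u)).add_left (a 2 (by simp) _)).add_left
      (a 3 (by simp) _)
  exact (((Commute.one_right _).add_right ((c 1 (by simp)).smul_right t)).add_right
    ((c 2 (by simp)).smul_right _)).add_right ((c 3 (by simp)).smul_right _)

/-- The formula with one term. -/
lemma comm_one [IsDomain R] [CharZero R] {r s k : ℕ} (hr : r < D.nroots) (hs : s < D.nroots)
    (hk : k < D.nroots) {M : ℤ}
    (h1 : ∀ i, coef (fcol D s 1 (D.rank + r)) i = coef [(D.rank + k, M)] i)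
    (h2 : ∀ i, coef (fcol D s 2 (D.rank + r)) i = 0)
    (h3 : ∀ i, coef (fcol D s 3 (D.rank + r)) i = 0)
    (hrk : Commute (rmat D r 1) (rmat D k 1))
    (hsk : Commute (rmat D s 1) (rmat D k 1))
    (hA : rmat D r 3 = 0) (hK : rmat D k 3 = 0) (t u : R) :
    xr D R s u * xr D R r t = xr D R r t * xr D R s u * xr D R k (t * ((M : R) * u)) := by
  set G := xr D R s u
  set c : R := (M : R) * u with hc
  have hG : G *ᵥ Pi.single (Sum.inr (⟨r, hr⟩ : Fin D.nroots)) (1 : R) =
      Pi.single (Sum.inr (⟨r, hr⟩ : Fin D.nroots)) (1 : R) +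
        c • Pi.single (Sum.inr (⟨k, hk⟩ : Fin D.nroots)) (1 : R) := by
    have colk : ∀ j ∈ [1, 2, 3],
        amat D R s j *ᵥ Pi.single (Sum.inr (⟨r, hr⟩ : Fin D.nroots)) (1 : R) =
          fun x => (coef (fcol D s j (D.rank + r)) (ix D x) : R) := by
      intro j hj
      funext x
      rw [Matrix.mulVec_single_one, Matrix.col_apply, amat, Matrix.map_apply,
        g.lie.rmat_apply hs hj, ix_inr]
    simp only [G, xr, Matrix.add_mulVec, Matrix.one_mulVec, Matrix.smul_mulVec,
      colk 1 (by simp), colk 2 (by simp), colk 3 (by simp), h1, h2, h3]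
    funext x
    simp only [Pi.add_apply, Pi.smul_apply, smul_eq_mul, Int.cast_zero, mul_zero, add_zero,
      coef_cons, coef_nil]
    by_cases hx : x = Sum.inr (⟨k, hk⟩ : Fin D.nroots)
    · subst hx; simp [ix_inr, hc]; ring
    · rw [if_neg fun he => hx (ix_injective D (by rw [ix_inr]; exact he.symm))]
      simp [hx]
  set A := amat D R r 1 with hAdef
  set K := amat D R k 1 with hKdef
  set A2 := amat D R r 2 with hA2def
  set K2 := amat D R k 2 with hK2def
  have had : ∀ v : Fin D.nroots, adR D R (Pi.single (Sum.inr v) 1) = amat D R v 1 := by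
    intro v
    rw [LieChecks.adR_single]
    rfl
  have hlin : ∀ (v w : D.Idx → R) (e : R), adR D R (v + e • w) = adR D R v + e • adR D R w := by
    intro v w e
    simp [adR, add_smul, Finset.sum_add_distrib, Finset.smul_sum, mul_smul]
  have hgA : G * A = (A + c • K) * G := by
    have := g.lie.xr_isAut hs u (Pi.single (Sum.inr ⟨r, hr⟩) 1)
    rwa [hG, hlin, had, had] at this
  have sq : ∀ {q : ℕ}, q < D.nroots → amat D R q 1 * amat D R q 1 = (2 : R) • amat D R q 2 := by
    intro q hq
    rw [amat, amat, map_intMat_mul, (g.lie.rmat_mul hq).1, map_intMat_add, two_smul]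
  have cube : ∀ {q : ℕ}, q < D.nroots → rmat D q 3 = 0 →
      amat D R q 1 * amat D R q 2 = 0 := by
    intro q hq h0
    rw [amat, amat, map_intMat_mul, (g.lie.rmat_mul hq).2.1, h0, add_zero, add_zero, map_intMat_zero]
  have hAK : Commute A K := g.amat_commute hk hr hrk (by simp) (by simp)
  have hA2K : Commute A2 K := g.amat_commute hk hr hrk (by simp) (by simp)
  have hAK2 : Commute A K2 := g.amat_commute hk hr hrk (by simp) (by simp)
  set E2 := A2 + c • (A * K) + (c * c) • K2 with hE2
  have hsq : (A + c • K) * (A + c • K) = (2 : R) • E2 := by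
    simp only [add_mul, mul_add, Matrix.smul_mul, Matrix.mul_smul, hAK.eq.symm, hE2, A, K,
      sq hr, sq hk, smul_smul]
    module
  have hgA2 : G * A2 = E2 * G := by
    refine cancel_natCast (n := 2) two_ne_zero ?_
    rw [Nat.cast_two, ← Matrix.mul_smul, ← sq hr, ← mul_assoc, hgA, mul_assoc, hgA, ← mul_assoc,
      hsq, Matrix.smul_mul]
  have hinv : G * xr D R s (-u) = 1 := g.lie.xr_inv hs u
  have hT3 : c • (A2 * K) + (c * c) • (A * K2) = 0 := by
    refine cancel_natCast (n := 6) (by norm_num) ?_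
    have e0 : (A + c • K) * ((2 : R) • E2) * G = 0 := by
      rw [← hsq, mul_assoc, mul_assoc, ← hgA, ← mul_assoc (A + c • K) G, ← hgA, mul_assoc,
        ← mul_assoc (A + c • K), ← hgA, mul_assoc, sq hr, Matrix.mul_smul, cube hr hA]
      simp
    have e1 : (A + c • K) * ((2 : R) • E2) = 0 := by
      have := congrArg (· * xr D R s (-u)) e0
      simpa [mul_assoc, hinv] using this
    have p1 : A * (A * K) = (2 : R) • (A2 * K) := by rw [← mul_assoc, sq hr, Matrix.smul_mul]
    have p2 : K * (A * K) = (2 : R) • (A * K2) := by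
      rw [← mul_assoc, ← hAK.eq, mul_assoc, sq hk, Matrix.mul_smul]
    rw [smul_zero, ← e1]
    simp only [hE2, add_mul, mul_add, smul_add, Matrix.smul_mul, Matrix.mul_smul, smul_smul]
    rw [show A * A2 = 0 from cube hr hA, show K * K2 = 0 from cube hk hK, ← hA2K.eq, p1, p2]
    push_cast
    module
  have hT4 : (c * c) • (A2 * K2) = 0 := by
    refine cancel_natCast (n := 4) (by norm_num) ?_
    have e1 : (A + c • K) * (c • (A2 * K) + (c * c) • (A * K2)) = 0 := by rw [hT3, mul_zero]
    have p1 : A * (A2 * K) = 0 := by rw [← mul_assoc, show A * A2 = 0 from cube hr hA, zero_mul]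
    have p2 : A * (A * K2) = (2 : R) • (A2 * K2) := by rw [← mul_assoc, sq hr, Matrix.smul_mul]
    have p3 : K * (A2 * K) = (2 : R) • (A2 * K2) := by
      rw [← mul_assoc, ← hA2K.eq, mul_assoc, sq hk, Matrix.mul_smul]
    have p4 : K * (A * K2) = 0 := by
      rw [← mul_assoc, ← hAK.eq, mul_assoc, show K * K2 = 0 from cube hk hK, mul_zero]
    rw [smul_zero, ← e1]
    simp only [add_mul, mul_add, Matrix.smul_mul, Matrix.mul_smul, smul_smul, p1, p2, p3, p4]
    push_cast
    module
  have z : ∀ {q : ℕ}, rmat D q 3 = 0 → amat D R q 3 = 0 := fun h0 => by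
    rw [amat, h0, map_intMat_zero]
  have main : G * xr D R r t = xr D R r t * xr D R k (t * c) * G := by
    have e : xr D R r t * xr D R k (t * c) =
        1 + t • (A + c • K) + t ^ 2 • E2 +
          t ^ 3 • (c • (A2 * K) + (c * c) • (A * K2)) + t ^ 4 • ((c * c) • (A2 * K2)) := by
      simp only [xr, z hA, z hK, smul_zero, add_zero, hE2, mul_add, add_mul, one_mul, mul_one,
        Matrix.smul_mul, Matrix.mul_smul, smul_smul, smul_add, A, K, A2, K2]
      module
    rw [e, hT3, hT4, smul_zero, smul_zero, add_zero, add_zero]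
    simp only [xr, z hA, smul_zero, add_zero, mul_add, mul_one, Matrix.mul_smul]
    rw [show G * amat D R r 1 = (A + c • K) * G from hgA,
      show G * amat D R r 2 = E2 * G from hgA2]
    simp only [add_mul, one_mul, Matrix.smul_mul]
  rw [main, mul_assoc, ← (g.xr_commute hk hs hsk (t * c) u).eq, ← mul_assoc]

omit g in
lemma nz_check (hn : nzOK D = true) {r s k : ℕ} (hr : r < D.nroots) (hs : s < D.nroots)
    (hk : k ∈ [1, 2, 3]) (hne : s ≠ fneg D r) {p : ℕ × ℤ} (hp : p ∈ fcol D r k (D.rank + s)) :
    p.2 ≠ 0 := by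
  have := allR_upto (allR_upto hn hr) hs
  rw [Bool.or_eq_true, Nat.beq_eq] at this
  rcases this with h | h
  · exact absurd h hne
  · have := allR_true (allR_true h hk) hp
    simpa [Int.beq'_eq] using this

/-- The terms of the formula are roots. -/
lemma fterms_lt {r s : ℕ} (hr : r < D.nroots) (hs : s < D.nroots) :
    ∀ c ∈ fterms D r s, c.1 < D.nroots := by
  intro c hc
  rw [g.fterms_eq hr hs, ChevalleyDatum.commTerms, List.mem_filterMap] at hc
  obtain ⟨a, ha, hac⟩ := hc
  rw [Option.map_eq_some_iff] at hac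
  obtain ⟨k, hk, rfl⟩ := hac
  simp only [List.mem_cons, List.not_mem_nil, or_false] at ha
  have nested : ∀ {x y z w : ℕ}, x < D.nroots →
      (D.chainRoot x y 3).bind (fun k => D.chainRoot k z 1) = some w → w < D.nroots := by
    intro x y z w hx h
    rw [Option.bind_eq_some_iff] at h
    obtain ⟨m, hm1, hm2⟩ := h
    exact g.chainRoot_lt (g.chainRoot_lt hx hm1) hm2
  rcases ha with rfl | rfl | rfl | rfl | rfl | rfl | rfl
  · exact g.chainRoot_lt hr hk
  · exact g.chainRoot_lt hr hk
  · exact g.chainRoot_lt hs hk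
  · exact g.chainRoot_lt hr hk
  · exact g.chainRoot_lt hs hk
  · exact nested hr hk
  · exact nested hs hk

/-- Automorphisms agreeing on generators are equal. -/
theorem aut_ext [IsDomain R] [CharZero R] {A B : Matrix D.Idx D.Idx R} (hA : IsAut D R A)
    (hB : IsAut D R B)
    (h : ∀ y : D.Idx, ix D y ∈ genCols D → A *ᵥ Pi.single y 1 = B *ᵥ Pi.single y 1) : A = B := by
  refine Matrix.ext_of_mulVec_single fun z => ?_
  have hd : ∀ z : D.Idx, ix D z < dimL D := by
    rintro (a | b)
    · have := a.2; simp only [ix_inl, dimL]; omega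
    · have := b.2; simp only [ix_inr, dimL]; omega
  have key : ∀ (l : List (ℕ × ℕ × ℕ)) (seen : List ℕ), genOK D g.dat l seen = true →
      (∀ x : D.Idx, ix D x ∈ seen → A *ᵥ Pi.single x 1 = B *ᵥ Pi.single x 1) →
      ∀ x : D.Idx, A *ᵥ Pi.single x 1 = B *ᵥ Pi.single x 1 := by
    intro l
    induction l with
    | nil =>
      intro seen ho hgood x
      have := allR_upto (show allR _ (upto (dimL D)) = true from ho) (hd x)
      rw [anyR_eq, List.any_eq_true] at this
      obtain ⟨y, hy, hye⟩ := this
      rw [Nat.beq_eq] at hye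
      exact hgood x (hye ▸ hy)
    | cons st l ih =>
      intro seen ho hgood
      have ho' : (genStep D g.dat st seen && genOK D g.dat l (st.1 :: seen)) = true := ho
      simp only [genStep, Bool.and_eq_true, Nat.blt, Nat.ble_eq, anyR_eq, List.any_eq_true,
        Nat.beq_eq, Bool.not_eq_true'] at ho'
      obtain ⟨⟨⟨⟨⟨⟨hi, -⟩, hz22⟩, w, hw, hwe⟩, hne⟩, hcol⟩, hrest⟩ := ho'
      refine ih _ hrest fun x hx => ?_
      rcases List.mem_cons.1 hx with hx | hx
      swap
      · exact hgood x hx
      have hw' : st.2.2 ∈ seen := hwe ▸ hw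
      obtain ⟨hsi, -, hlt, -⟩ := g.lie.simple_facts (i := st.2.1) (by omega)
      have hp : fneg D (fsimple g.dat st.2.1) < D.nroots := by rw [fneg]; omega
      have hz : st.2.2 < dimL D := by omega
      obtain ⟨z, hz'⟩ := mem_range_ix D (m := st.2.2) hz
      set c := coef (fcol D (fneg D (fsimple g.dat st.2.1)) 1 st.2.2) st.1 with hc
      have hc0 : c ≠ 0 := by
        intro h0
        rw [h0] at hne
        simp at hne
      set P : D.Idx := Sum.inr (⟨fneg D (fsimple g.dat st.2.1), hp⟩ : Fin D.nroots) with hP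
      have hadP : adR D R (Pi.single P 1) = amat D R (fneg D (fsimple g.dat st.2.1)) 1 := by
        rw [LieChecks.adR_single]; rfl
      have hcolR : amat D R (fneg D (fsimple g.dat st.2.1)) 1 *ᵥ Pi.single z (1 : R) =
          (c : R) • Pi.single x 1 := by
        funext a
        rw [Matrix.mulVec_single_one, Matrix.col_apply, amat, Matrix.map_apply,
          g.lie.rmat_apply hp (by simp), hz', vEq_sound hcol, coef_cons, coef_nil, add_zero]
        by_cases ha : a = x
        · subst ha; simp [hx, hc]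
        · rw [if_neg fun he => ha (ix_injective D (he.symm.trans hx.symm))]
          simp [ha]
      have hgen : ix D P ∈ genCols D := by
        refine List.mem_cons_of_mem _ ?_
        rw [mapR_eq, List.mem_map]
        refine ⟨st.2.1, mem_upto (by omega), ?_⟩
        rw [nth_toList, hP, ix_inr]
        show D.rank + fneg D (D.simple st.2.1) = D.rank + fneg D (fsimple g.dat st.2.1)
        rw [hsi]
      have act : ∀ M : Matrix D.Idx D.Idx R, IsAut D R M →
          (c : R) • (M *ᵥ Pi.single x 1) =
            adR D R (M *ᵥ Pi.single P 1) *ᵥ (M *ᵥ Pi.single z 1) := by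
        intro M hM
        rw [← Matrix.mulVec_smul, ← hcolR, ← hadP, Matrix.mulVec_mulVec, hM,
          ← Matrix.mulVec_mulVec]
      have h1 := act A hA
      rw [h P hgen, hgood z (hz'.symm ▸ hw'), ← act B hB] at h1
      funext a
      have := congrFun h1 a
      simp only [Pi.smul_apply, smul_eq_mul] at this
      exact mul_left_cancel₀ (Int.cast_ne_zero.2 hc0) this
  refine key _ _ g.lie.gen ?_ z
  intro x hx
  rw [List.mem_singleton] at hx
  exact h x (by rw [hx]; exact List.mem_cons_self)

/-- The formula over a commutative ring. -/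
theorem comm_ring (hc : HasComm D) [IsDomain R] [CharZero R] {r s : ℕ} (hr : r < D.nroots)
    (hs : s < D.nroots) (hrs : s ≠ r) (hneg : s ≠ D.neg r) (t u : R) :
    xr D R s u * xr D R r t = xr D R r t * xr D R s u *
      ((fterms D r s).map fun c =>
        xr D R c.1 ((c.2.1 : R) * (-t) ^ c.2.2.1 * u ^ c.2.2.2)).prod := by
  obtain ⟨a3, hok⟩ := hc
  simp only [commOK, Bool.and_eq_true] at hok
  obtain ⟨⟨ha3, -⟩, hpairs⟩ := hok
  have hp := allR_upto (allR_upto hpairs hr) hs
  rw [commPair, show Nat.beq s r = false by rw [← Bool.not_eq_true, Nat.beq_eq]; exact hrs,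
    show Nat.beq s (fneg D r) = false by
      rw [← Bool.not_eq_true, Nat.beq_eq, ← neg_eq g.lie.pack hr]; exact hneg,
    Bool.false_or, Bool.false_or, Bool.or_eq_true] at hp
  have hlt := g.fterms_lt hr hs
  rcases hp with hp | hp
  · cases hl : fterms D r s with
    | nil =>
      rw [hl] at hp
      simp only [genPair] at hp
      rw [List.map_nil, List.prod_nil, mul_one]
      exact (g.xr_commute hr hs (g.rmat_commute hr hs fun i => by
        rw [vEq_sound hp i, coef_nil]) t u).eq
    | cons c l =>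
      rw [hl] at hp hlt
      simp only [genPair, Bool.and_eq_true, Nat.beq_eq] at hp
      obtain ⟨⟨⟨⟨⟨⟨⟨⟨h0, hl'⟩, hi⟩, hj⟩, q1⟩, q2⟩, q3⟩, q4⟩, q5⟩ := hp
      cases l with
      | cons => simp at hl'
      | nil =>
        subst h0
        simp only [Bool.not_true, Bool.false_or] at ha3
        have hz : ∀ {q : ℕ}, q < D.nroots → rmat D q 3 = 0 := by
          intro q hq
          ext i j
          rw [g.lie.rmat_apply hq (by simp), Matrix.zero_apply]
          have hb : ix D j < dimL D := by
            rcases j with a | b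
            · have := a.2; simp only [ix_inl, dimL]; omega
            · have := b.2; simp only [ix_inr, dimL]; omega
          have := allR_upto (allR_upto ha3 hq) hb
          cases hcol : fcol D q 3 (ix D j) with
          | nil => rw [coef_nil]
          | cons => rw [hcol] at this; simp at this
        have hk := hlt c (by simp)
        have := g.comm_one hr hs hk (M := -c.2.1) (vEq_sound q1)
          (fun i => by rw [vEq_sound q2 i, coef_nil]) (fun i => by rw [vEq_sound q3 i, coef_nil])
          (g.rmat_commute hk hr fun i => by rw [vEq_sound q4 i, coef_nil])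
          (g.rmat_commute hk hs fun i => by rw [vEq_sound q5 i, coef_nil]) (hz hr) (hz hk) t u
        rw [this, List.map_singleton, List.prod_singleton, hi, hj, pow_one, pow_one]
        congr 2
        push_cast
        ring
  · have hw : ∀ l : List (ℕ × ℤ × ℕ × ℕ), (∀ c ∈ l, c.1 < D.nroots) →
        IsAut D R (l.map fun c =>
          xr D R c.1 ((c.2.1 : R) * (-t) ^ c.2.2.1 * u ^ c.2.2.2)).prod := by
      intro l hl
      induction l with
      | nil => exact isAut_one
      | cons c l ih =>
        rw [List.map_cons, List.prod_cons]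
        exact (g.lie.xr_isAut (hl c (by simp)) _).mul
          (ih fun e he => hl e (List.mem_cons_of_mem _ he))
    refine g.aut_ext ((g.lie.xr_isAut hs u).mul (g.lie.xr_isAut hr t))
      (((g.lie.xr_isAut hr t).mul (g.lie.xr_isAut hs u)).mul (hw _ hlt)) fun y hb => ?_
    have hcol := allR_true hp hb
    simp only [symCol, Bool.and_eq_true] at hcol
    obtain ⟨⟨ba, bb⟩, hv⟩ := hcol
    have h0 : SymOK D [(ix D y, 0, 0, (1 : ℤ))] := fun q hq => by
      rw [List.mem_singleton.1 hq]; exact ⟨y, rfl⟩
    have e0 : symVal t u D [(ix D y, 0, 0, (1 : ℤ))] = Pi.single y 1 := by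
      rw [symVal_single]; simp
    have hmain := symVal_eq_of_check t u _ _ ba bb hv
    obtain ⟨a1, a2⟩ := symX_spec t u g.lie hr (1 : ℤ) 1 0 _ h0
    obtain ⟨-, a3⟩ := symX_spec t u g.lie hs (1 : ℤ) 0 1 _ a1
    obtain ⟨b1, b2⟩ := symWord_spec t u g.lie (fterms D r s) hlt _ h0
    obtain ⟨b3, b4⟩ := symX_spec t u g.lie hs (1 : ℤ) 0 1 _ b1
    obtain ⟨-, b5⟩ := symX_spec t u g.lie hr (1 : ℤ) 1 0 _ b3
    rw [a3, a2, b5, b4, b2, e0] at hmain
    simp only [Matrix.mulVec_mulVec, ← mul_assoc] at hmain ⊢
    simpa only [Int.cast_one, one_mul, pow_one, pow_zero, mul_one] using hmain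

/-- Chevalley's commutator formula. -/
theorem comm_formula (hc : HasComm D) {F : Type*} [Field F] {r s : ℕ} (hr : r < D.nroots)
    (hs : s < D.nroots) (hrs : s ≠ r) (hneg : s ≠ D.neg r) (t u : F) :
    D.x F s u * D.x F r t = D.x F r t * D.x F s u * D.wordMat F (D.commWord F r s t u) := by
  have h := g.comm_ring hc hr hs hrs hneg (MvPolynomial.X (R := ℤ) (0 : Fin 2)) (MvPolynomial.X 1)
  let f : MvPolynomial (Fin 2) ℤ →+* F := MvPolynomial.eval₂Hom (Int.castRingHom F) ![t, u]
  have h' := congrArg f.mapMatrix h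
  simp only [map_mul, map_list_prod, List.map_map, RingHom.mapMatrix_apply, xr_map] at h'
  have f0 : f (MvPolynomial.X 0) = t := by simp [f]
  have f1 : f (MvPolynomial.X 1) = u := by simp [f]
  rw [f0, f1, ← g.x_eq_xr hs, ← g.x_eq_xr hr] at h'
  rw [h', ChevalleyDatum.wordMat, ChevalleyDatum.commWord, ← g.fterms_eq hr hs, List.map_map]
  congr 1
  congr 1
  refine List.map_congr_left fun c hc' => ?_
  simp only [Function.comp_apply, RingHom.mapMatrix_apply, xr_map, map_mul, map_pow, map_neg,
    map_intCast, f0, f1]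
  exact (g.x_eq_xr (g.fterms_lt hr hs c hc') _).symm

end Good

end CfsgLib.Chev
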