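import Cfsg.Prelude.Def_ChevG2
import Cfsg.Prelude.Def_ChevB2
import Cfsg.Prelude.Def_ChevD4
import Cfsg.Agent.Lib.Chev.CommCheck

/-!
The kernel check of the commutator formula for types G2, B2, D4.
-/

set_option autoImplicit false
set_option maxRecDepth 100000

namespace CfsgLib.Chev

open Cfsg.Lie

theorem commG2 : commOK chevG2 false = true := by decide +kernel

theorem commB2 : commOK chevB2 true = true := by decide +kernel

theorem commD4 : commOK chevD4 true = true := by decide +kernel

end CfsgLib.Chev
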