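import Cfsg.Agent.Lib.Chev.Good
import Cfsg.Agent.Lib.Chev.CommFormula
import Cfsg.Agent.Lib.Chev.CommSmall
import Cfsg.Agent.Lib.Chev.CommF4
import Cfsg.Agent.Lib.Chev.CommE6
import Cfsg.Agent.Lib.Chev.CommE7
import Cfsg.Agent.Lib.Chev.CommE8

/-!
The commutator formula for G2, B2, D4, F4, E6, E7, E8.
-/

set_option autoImplicit false

namespace CfsgLib.Chev

open Cfsg.Lie

theorem hasComm_of_mem {D : ChevalleyDatum}
    (hD : D ∈ [chevG2, chevB2, chevD4, chevF4, chevE6, chevE7, chevE8]) : HasComm D := by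
  simp only [List.mem_cons, List.not_mem_nil, or_false] at hD
  rcases hD with rfl | rfl | rfl | rfl | rfl | rfl | rfl
  exacts [⟨_, commG2⟩, ⟨_, commB2⟩, ⟨_, commD4⟩, ⟨_, commF4⟩, ⟨_, commE6⟩, ⟨_, commE7⟩, ⟨_, commE8⟩]

end CfsgLib.Chev
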