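import Mathlib
import Cfsg.Prelude.Def_LieExceptional

/-!
Elementary theory of abstract (B,N)-pairs: Bruhat decomposition, length, cell multiplication,
exchange condition.
-/

set_option autoImplicit false

namespace CfsgLib.Chev.BN

open Cfsg

variable {G : Type*} [Group G] (P : BNPair G)

/-- The double coset `B n B`. -/
def cell (n : G) : Set G := DoubleCoset.doubleCoset n (P.B : Set G) P.B

lemma mem_cell {g n : G} : g ∈ cell P n ↔ ∃ x ∈ P.B, ∃ y ∈ P.B, g = x * n * y :=
  DoubleCoset.mem_doubleCoset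

lemma self_mem_cell (n : G) : n ∈ cell P n := DoubleCoset.mem_doubleCoset_self _ _ _

lemma cell_eq_of_mem {g n : G} (h : g ∈ cell P n) : cell P g = cell P n :=
  DoubleCoset.doubleCoset_eq_of_mem h

lemma mul_mem_cell {g n b c : G} (hb : b ∈ P.B) (hc : c ∈ P.B) (h : g ∈ cell P n) :
    b * g * c ∈ cell P n := by
  obtain ⟨x, hx, y, hy, rfl⟩ := (mem_cell P).1 h
  exact (mem_cell P).2 ⟨b * x, P.B.mul_mem hb hx, y * c, P.B.mul_mem hy hc, by group⟩

lemma cell_congr {n n' : G} (h : n⁻¹ * n' ∈ P.B) : cell P n = cell P n' := by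
  refine (cell_eq_of_mem P ((mem_cell P).2 ⟨1, P.B.one_mem, _, h, ?_⟩)).symm
  group

lemma cell_mul_right {n b : G} (hb : b ∈ P.B) : cell P (n * b) = cell P n :=
  (cell_congr P (by simpa using hb)).symm

lemma cell_mul_left {n b : G} (hb : b ∈ P.B) : cell P (b * n) = cell P n :=
  cell_eq_of_mem P ((mem_cell P).2 ⟨b, hb, 1, P.B.one_mem, by simp⟩)

lemma mem_cell_one {g : G} : g ∈ cell P 1 ↔ g ∈ P.B := by
  constructor
  · intro h
    obtain ⟨x, hx, y, hy, rfl⟩ := (mem_cell P).1 h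
    simpa using P.B.mul_mem hx hy
  · intro h
    exact (mem_cell P).2 ⟨g, h, 1, P.B.one_mem, by simp⟩

lemma inv_mem_cell {g n : G} (h : g ∈ cell P n) : g⁻¹ ∈ cell P n⁻¹ := by
  obtain ⟨x, hx, y, hy, rfl⟩ := (mem_cell P).1 h
  exact (mem_cell P).2 ⟨y⁻¹, P.B.inv_mem hy, x⁻¹, P.B.inv_mem hx, by group⟩

lemma conj_mem' {n b : G} (hn : n ∈ P.N) (hb : b ∈ P.B) (hbN : b ∈ P.N) : n⁻¹ * b * n ∈ P.B := by
  have h := P.conj_mem n⁻¹ (P.N.inv_mem hn) b ⟨hb, hbN⟩
  rwa [inv_inv] at h

lemma s_mem {s : G} (hs : s ∈ P.S) : s ∈ P.N := P.subset hs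

lemma inv_s_eq (s : G) : s⁻¹ = s * (s * s)⁻¹ := by group

lemma s_not_mem_B {s : G} (hs : s ∈ P.S) : s ∉ P.B := by
  intro h
  apply P.conj_ne s hs
  ext g
  constructor
  · rintro ⟨b, hb, rfl⟩
    exact P.B.mul_mem (P.B.mul_mem h hb) h
  · intro hg
    exact ⟨s⁻¹ * g * s⁻¹, P.B.mul_mem (P.B.mul_mem (P.B.inv_mem h) hg) (P.B.inv_mem h), by group⟩

lemma cell_s_inv {s : G} (hs : s ∈ P.S) : cell P s⁻¹ = cell P s := by
  rw [inv_s_eq, cell_mul_right P (P.B.inv_mem (P.sq_mem s hs))]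

/-- `(B s B)(B n B) ⊆ B s n B ∪ B n B`. -/
lemma cell_mul_cell {s n x y : G} (hs : s ∈ P.S) (hn : n ∈ P.N) (hx : x ∈ cell P s)
    (hy : y ∈ cell P n) : x * y ∈ cell P (s * n) ∨ x * y ∈ cell P n := by
  obtain ⟨b₁, h₁, b₂, h₂, rfl⟩ := (mem_cell P).1 hx
  obtain ⟨b₃, h₃, b₄, h₄, rfl⟩ := (mem_cell P).1 hy
  have e : b₁ * s * b₂ * (b₃ * n * b₄) = b₁ * (s * (b₂ * b₃) * n) * b₄ := by group
  rw [e]
  rcases P.mul_mem_union s hs n hn _ (P.B.mul_mem h₂ h₃) with h | h
  · exact Or.inl (mul_mem_cell P h₁ h₄ h)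
  · exact Or.inr (mul_mem_cell P h₁ h₄ h)

/-- `(B n B)(B s B) ⊆ B n s B ∪ B n B`. -/
lemma cell_mul_cell_right {s n x y : G} (hs : s ∈ P.S) (hn : n ∈ P.N) (hx : x ∈ cell P n)
    (hy : y ∈ cell P s) : x * y ∈ cell P (n * s) ∨ x * y ∈ cell P n := by
  have hy' : y⁻¹ ∈ cell P s := cell_s_inv P hs ▸ inv_mem_cell P hy
  rcases cell_mul_cell P hs (P.N.inv_mem hn) hy' (inv_mem_cell P hx) with h | h
  · left
    have h' := inv_mem_cell P h
    rwa [mul_inv_rev, mul_inv_rev, inv_inv, inv_inv, inv_inv, inv_s_eq,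
      ← mul_assoc, cell_mul_right P (P.B.inv_mem (P.sq_mem s hs))] at h'
  · right
    simpa using inv_mem_cell P h

/-! ### Words and length -/

/-- `n` is congruent modulo `B` to a product of elements of `J`. -/
def IsWord (J : Set G) (l : List G) (n : G) : Prop := (∀ x ∈ l, x ∈ J) ∧ l.prod⁻¹ * n ∈ P.B

lemma isWord_nil {J : Set G} {n : G} : IsWord P J [] n ↔ n ∈ P.B := by simp [IsWord]

lemma prod_mem_N {J : Set G} (hJ : J ⊆ P.S) {l : List G} (hl : ∀ x ∈ l, x ∈ J) : l.prod ∈ P.N :=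
  P.N.list_prod_mem fun x hx => P.subset (hJ (hl x hx))

lemma isWord_mul {J : Set G} (hJ : J ⊆ P.S) {l₁ l₂ : List G} {a b : G} (ha : IsWord P J l₁ a)
    (haN : a ∈ P.N) (hb : IsWord P J l₂ b) :
    IsWord P J (l₁ ++ l₂) (a * b) := by
  refine ⟨fun x hx => (List.mem_append.1 hx).elim (ha.1 x) (hb.1 x), ?_⟩
  rw [List.prod_append, show (l₁.prod * l₂.prod)⁻¹ * (a * b)
      = l₂.prod⁻¹ * (l₁.prod⁻¹ * a) * l₂.prod * (l₂.prod⁻¹ * b) by group]
  exact P.B.mul_mem (conj_mem' P (prod_mem_N P hJ hb.1) ha.2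
    (P.N.mul_mem (P.N.inv_mem (prod_mem_N P hJ ha.1)) haN)) hb.2

lemma isWord_singleton {J : Set G} {s : G} (hs : s ∈ J) : IsWord P J [s] s := by
  simpa [IsWord] using And.intro hs P.B.one_mem

lemma exists_isWord_of_mem_closure {J : Set G} (hJ : J ⊆ P.S) {n : G}
    (hn : n ∈ Subgroup.closure J ⊔ (P.B ⊓ P.N)) : ∃ l, IsWord P J l n := by
  rw [← Subgroup.closure_eq (P.B ⊓ P.N), ← Subgroup.closure_union] at hn
  have hle : ∀ x ∈ J ∪ ((P.B ⊓ P.N : Subgroup G) : Set G), x ∈ P.N := by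
    rintro x (hx | hx)
    · exact P.subset (hJ hx)
    · exact hx.2
  induction hn using Subgroup.closure_induction_left with
  | one => exact ⟨[], by simp [isWord_nil]⟩
  | mul_left x hx y hy ih =>
    obtain ⟨l, hl⟩ := ih
    rcases hx with hx' | hx'
    · exact ⟨[x] ++ l, isWord_mul P hJ (isWord_singleton P hx') (P.subset (hJ hx')) hl⟩
    · exact ⟨[] ++ l, isWord_mul P hJ ((isWord_nil P).2 hx'.1) hx'.2 hl⟩
  | inv_mul_cancel x hx y hy ih =>
    obtain ⟨l, hl⟩ := ih
    rcases hx with hx' | hx'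
    · refine ⟨[x] ++ [] ++ l, isWord_mul P hJ ?_ (P.N.inv_mem (P.subset (hJ hx'))) hl⟩
      rw [inv_s_eq]
      exact isWord_mul P hJ (isWord_singleton P hx') (P.subset (hJ hx'))
        ((isWord_nil P).2 (P.B.inv_mem (P.sq_mem x (hJ hx'))))
    · exact ⟨[] ++ l, isWord_mul P hJ ((isWord_nil P).2 (P.B.inv_mem hx'.1)) (P.N.inv_mem hx'.2) hl⟩

lemma exists_isWord {n : G} (hn : n ∈ P.N) : ∃ l, IsWord P P.S l n :=
  exists_isWord_of_mem_closure P subset_rfl (by rwa [P.closure_sup])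

/-- The length of the image of `n` in the Weyl group. -/
noncomputable def len (n : G) : ℕ := sInf {k | ∃ l, IsWord P P.S l n ∧ l.length = k}

lemma len_le {n : G} {l : List G} (h : IsWord P P.S l n) : len P n ≤ l.length :=
  Nat.sInf_le ⟨l, h, rfl⟩

lemma exists_reduced {n : G} (hn : n ∈ P.N) : ∃ l, IsWord P P.S l n ∧ l.length = len P n := by
  obtain ⟨l, hl⟩ := exists_isWord P hn
  exact Nat.sInf_mem (s := {k | ∃ l, IsWord P P.S l n ∧ l.length = k}) ⟨_, l, hl, rfl⟩

lemma len_eq_zero {n : G} (hn : n ∈ P.N) : len P n = 0 ↔ n ∈ P.B := by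
  constructor
  · intro h
    obtain ⟨l, hl, hlen⟩ := exists_reduced P hn
    rw [h, List.length_eq_zero_iff] at hlen
    subst hlen
    exact (isWord_nil P).1 hl
  · intro h
    simpa using len_le P ((isWord_nil P (J := P.S)).2 h)

lemma len_mul_le {a b : G} (ha : a ∈ P.N) (hb : b ∈ P.N) : len P (a * b) ≤ len P a + len P b := by
  obtain ⟨l₁, h₁, e₁⟩ := exists_reduced P ha
  obtain ⟨l₂, h₂, e₂⟩ := exists_reduced P hb
  have h := len_le P (isWord_mul P subset_rfl h₁ ha h₂)
  rw [List.length_append, e₁, e₂] at h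
  exact h

lemma len_s_le {s : G} (hs : s ∈ P.S) : len P s ≤ 1 := by
  simpa using len_le P (isWord_singleton P hs)

lemma len_congr {n n' : G} (hn : n ∈ P.N) (hn' : n' ∈ P.N) (h : n⁻¹ * n' ∈ P.B) :
    len P n = len P n' := by
  have hN := P.N.mul_mem (P.N.inv_mem hn) hn'
  have h1 := len_mul_le P hn hN
  have h2 := len_mul_le P hn' (P.N.inv_mem hN)
  rw [mul_inv_cancel_left, (len_eq_zero P hN).2 h, add_zero] at h1
  rw [(len_eq_zero P (P.N.inv_mem hN)).2 (P.B.inv_mem h), add_zero, mul_inv_rev, inv_inv,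
    mul_inv_cancel_left] at h2
  omega

lemma len_inv_s {s : G} (hs : s ∈ P.S) : len P s⁻¹ ≤ 1 := by
  rw [inv_s_eq]
  have h := P.N.inv_mem (P.N.mul_mem (s_mem P hs) (s_mem P hs))
  have h1 := len_mul_le P (s_mem P hs) h
  rw [(len_eq_zero P h).2 (P.B.inv_mem (P.sq_mem s hs))] at h1
  exact h1.trans (by simpa using len_s_le P hs)

lemma exists_left_descent {n : G} (hn : n ∈ P.N) {k : ℕ} (h : len P n = k + 1) :
    ∃ s ∈ P.S, len P (s⁻¹ * n) = k := by
  obtain ⟨l, hl, hlen⟩ := exists_reduced P hn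
  match l, hlen with
  | [], hlen => simp [h] at hlen
  | s :: l, hlen =>
    have hs : s ∈ P.S := hl.1 s (by simp)
    have hw : IsWord P P.S l (s⁻¹ * n) :=
      ⟨fun x hx => hl.1 x (List.mem_cons_of_mem _ hx), by
        simpa [mul_assoc, List.prod_cons] using hl.2⟩
    have h1 := len_le P hw
    have h2 := len_mul_le P (s_mem P hs) (P.N.mul_mem (P.N.inv_mem (s_mem P hs)) hn)
    have h3 := len_s_le P hs
    rw [mul_inv_cancel_left] at h2
    simp only [List.length_cons] at hlen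
    exact ⟨s, hs, by omega⟩

lemma len_inv_le {n : G} (hn : n ∈ P.N) : len P n⁻¹ ≤ len P n := by
  induction hk : len P n generalizing n with
  | zero => rw [(len_eq_zero P (P.N.inv_mem hn)).2 (P.B.inv_mem ((len_eq_zero P hn).1 hk))]
  | succ k ih =>
    obtain ⟨s, hs, he⟩ := exists_left_descent P hn hk
    have hm := P.N.mul_mem (P.N.inv_mem (s_mem P hs)) hn
    have h1 := len_mul_le P (P.N.inv_mem hm) (P.N.inv_mem (s_mem P hs))
    have h2 := len_inv_s P hs
    have h3 := ih hm he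
    rw [show (s⁻¹ * n)⁻¹ * s⁻¹ = n⁻¹ by group] at h1
    omega

lemma len_inv {n : G} (hn : n ∈ P.N) : len P n⁻¹ = len P n :=
  le_antisymm (len_inv_le P hn) (by simpa using len_inv_le P (P.N.inv_mem hn))

lemma exists_right_descent {n : G} (hn : n ∈ P.N) {k : ℕ} (h : len P n = k + 1) :
    ∃ s ∈ P.S, len P (n * s) = k := by
  obtain ⟨s, hs, he⟩ := exists_left_descent P (P.N.inv_mem hn) (by rw [len_inv P hn, h])
  refine ⟨s, hs, ?_⟩
  rw [← len_inv P (P.N.mul_mem hn (s_mem P hs)), mul_inv_rev]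
  exact he

/-! ### Bruhat decomposition -/

lemma exists_mem_cell (g : G) : ∃ n ∈ P.N, g ∈ cell P n := by
  have hg : g ∈ Subgroup.closure ((P.B : Set G) ∪ P.N) := by
    rw [Subgroup.closure_union, Subgroup.closure_eq, Subgroup.closure_eq, P.sup_eq_top]; trivial
  have key : ∀ m ∈ P.N, ∀ y, (∃ n ∈ P.N, y ∈ cell P n) → ∃ n ∈ P.N, m * y ∈ cell P n := by
    intro m hm
    induction hk : len P m generalizing m with
    | zero =>
      rintro y ⟨n, hn, hy⟩
      exact ⟨n, hn, by simpa using mul_mem_cell P ((len_eq_zero P hm).1 hk) P.B.one_mem hy⟩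
    | succ k ih =>
      intro y hy
      obtain ⟨s, hs, he⟩ := exists_left_descent P hm hk
      obtain ⟨n, hn, hy'⟩ := ih _ (P.N.mul_mem (P.N.inv_mem (s_mem P hs)) hm) he y hy
      have e : m * y = s * (s⁻¹ * m * y) := by group
      rw [e]
      rcases cell_mul_cell P hs hn (self_mem_cell P s) hy' with h | h
      · exact ⟨_, P.N.mul_mem (s_mem P hs) hn, h⟩
      · exact ⟨n, hn, h⟩
  induction hg using Subgroup.closure_induction_left with
  | one => exact ⟨1, P.N.one_mem, self_mem_cell P 1⟩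
  | mul_left x hx y hy ih =>
    rcases hx with hx' | hx'
    · obtain ⟨n, hn, h⟩ := ih
      exact ⟨n, hn, by simpa using mul_mem_cell P hx' P.B.one_mem h⟩
    · exact key x hx' y ih
  | inv_mul_cancel x hx y hy ih =>
    rcases hx with hx' | hx'
    · obtain ⟨n, hn, h⟩ := ih
      exact ⟨n, hn, by simpa using mul_mem_cell P (P.B.inv_mem hx') P.B.one_mem h⟩
    · exact key x⁻¹ (P.N.inv_mem hx') y ih

/-- Uniqueness in the Bruhat decomposition. -/
lemma cell_inj {n n' : G} (hn : n ∈ P.N) (hn' : n' ∈ P.N) (h : cell P n = cell P n') :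
    n⁻¹ * n' ∈ P.B := by
  wlog hle : len P n ≤ len P n' generalizing n n'
  · have := P.B.inv_mem (this hn' hn h.symm (le_of_not_ge hle))
    simpa using this
  induction hk : len P n generalizing n n' with
  | zero =>
    have hB := (len_eq_zero P hn).1 hk
    have h1 : n' ∈ cell P n := h ▸ self_mem_cell P n'
    rw [← one_mul n, cell_mul_right P hB, mem_cell_one] at h1
    exact P.B.mul_mem (P.B.inv_mem hB) h1
  | succ k ih =>
    obtain ⟨s, hs, he⟩ := exists_left_descent P hn hk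
    have hsN := s_mem P hs
    have hm := P.N.mul_mem (P.N.inv_mem hsN) hn
    have hsc : s⁻¹ ∈ cell P s := by rw [← cell_s_inv P hs]; exact self_mem_cell P s⁻¹
    have hn2 : n ∈ cell P n' := h ▸ self_mem_cell P n
    rcases cell_mul_cell P hs hn' hsc hn2 with h' | h'
    · have := ih hm (P.N.mul_mem hsN hn') (cell_eq_of_mem P h') (by
        have h1 := len_mul_le P (P.N.inv_mem hsN) (P.N.mul_mem hsN hn')
        have h2 := len_inv_s P hs
        rw [inv_mul_cancel_left] at h1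
        omega) he
      have h3 : (s * s)⁻¹ ∈ P.B := P.B.inv_mem (P.sq_mem s hs)
      have h4 : n⁻¹ * s * s * n' ∈ P.B := by simpa [mul_assoc] using this
      have h5 : n'⁻¹ * (s * s)⁻¹ * n' ∈ P.B :=
        conj_mem' P hn' h3 (P.N.inv_mem (P.N.mul_mem hsN hsN))
      have h6 := P.B.mul_mem h4 h5
      simpa [mul_assoc] using h6
    · have h1 := ih hm hn' (cell_eq_of_mem P h') (by omega) he
      have h2 := len_congr P hm hn' h1
      omega

lemma cell_eq_iff {n n' : G} (hn : n ∈ P.N) (hn' : n' ∈ P.N) :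
    cell P n = cell P n' ↔ n⁻¹ * n' ∈ P.B :=
  ⟨cell_inj P hn hn', cell_congr P⟩

lemma equiv_of_mem_cells {g n n' : G} (hn : n ∈ P.N) (hn' : n' ∈ P.N) (h : g ∈ cell P n)
    (h' : g ∈ cell P n') : n⁻¹ * n' ∈ P.B :=
  cell_inj P hn hn' ((cell_eq_of_mem P h).symm.trans (cell_eq_of_mem P h'))

/-- If `ℓ(s n) ≥ ℓ(n)` then `(B s B)(B n B) = B s n B`. -/
lemma cell_mul_of_len_le {s n x y : G} (hs : s ∈ P.S) (hn : n ∈ P.N)
    (hle : len P n ≤ len P (s * n)) (hx : x ∈ cell P s) (hy : y ∈ cell P n) :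
    x * y ∈ cell P (s * n) := by
  induction hk : len P n generalizing n x y with
  | zero =>
    have hB := (len_eq_zero P hn).1 hk
    rw [← one_mul n, cell_mul_right P hB, mem_cell_one] at hy
    rw [cell_mul_right P hB]
    simpa using mul_mem_cell P P.B.one_mem hy hx
  | succ k ih =>
    refine (cell_mul_cell P hs hn hx hy).elim id fun hbad => absurd hbad ?_
    intro hbad
    obtain ⟨r, hr, he⟩ := exists_right_descent P hn hk
    have hsN := s_mem P hs
    have hrN := s_mem P hr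
    have hm := P.N.mul_mem hn hrN
    have hle' : len P (n * r) ≤ len P (s * (n * r)) := by
      have h1 := len_mul_le P (P.N.mul_mem hsN hm) (P.N.inv_mem hrN)
      have h2 := len_inv_s P hr
      rw [show s * (n * r) * r⁻¹ = s * n by group] at h1
      omega
    obtain ⟨b₁, h₁, b₂, h₂, hye⟩ := (mem_cell P).1 hy
    have hy2 : b₁ * (n * r) ∈ cell P (n * r) := by
      simpa using mul_mem_cell P h₁ P.B.one_mem (self_mem_cell P (n * r))
    have hgood := ih hm hle' hx hy2 he
    have hbad2 : x * (b₁ * n) ∈ cell P n := by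
      have := mul_mem_cell P P.B.one_mem (P.B.inv_mem h₂) hbad
      rw [hye] at this
      simpa [mul_assoc] using this
    have e : x * (b₁ * (n * r)) = x * (b₁ * n) * r := by group
    rw [e] at hgood
    have hcases := cell_mul_cell_right P hr hn hbad2 (self_mem_cell P r)
    rcases hcases with h' | h'
    · have h1 := equiv_of_mem_cells P hm (P.N.mul_mem hsN hm) h' hgood
      apply s_not_mem_B P hs
      have h1N : (n * r)⁻¹ * (s * (n * r)) ∈ P.N :=
        P.N.mul_mem (P.N.inv_mem hm) (P.N.mul_mem hsN hm)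
      have := P.conj_mem _ hm _ ⟨h1, h1N⟩
      simpa [mul_assoc] using this
    · have h1 := equiv_of_mem_cells P hn (P.N.mul_mem hsN hm) h' hgood
      have h1N : n⁻¹ * (s * (n * r)) ∈ P.N :=
        P.N.mul_mem (P.N.inv_mem hn) (P.N.mul_mem hsN hm)
      have h2 := conj_mem' P (P.N.inv_mem hrN) h1 h1N
      have h3 := len_congr P hm (P.N.mul_mem hsN hn) (by
        have e2 : (n * r)⁻¹ * (s * n)
            = (r * r)⁻¹ * (r⁻¹⁻¹ * (n⁻¹ * (s * (n * r))) * r⁻¹) := by group
        rw [e2]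
        exact P.B.mul_mem (P.B.inv_mem (P.sq_mem r hr)) h2)
      omega

lemma exists_s_mul_s_mem_cell {s : G} (hs : s ∈ P.S) : ∃ b ∈ P.B, s * b * s ∈ cell P s := by
  by_contra hcon
  push Not at hcon
  have key : ∀ b ∈ P.B, s * b * s ∈ P.B := by
    intro b hb
    have hx : s * b ∈ cell P s := by
      simpa using mul_mem_cell P P.B.one_mem hb (self_mem_cell P s)
    rcases cell_mul_cell P hs (s_mem P hs) hx (self_mem_cell P s) with h | h
    · rwa [← one_mul (s * s), cell_mul_right P (P.sq_mem s hs), mem_cell_one] at h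
    · exact absurd h (hcon b hb)
  apply P.conj_ne s hs
  ext g
  refine ⟨fun ⟨b, hb, h⟩ => h ▸ key b hb, fun hg => ?_⟩
  refine ⟨(s * s)⁻¹ * (s * g * s) * (s * s)⁻¹, ?_, by group⟩
  exact P.B.mul_mem (P.B.mul_mem (P.B.inv_mem (P.sq_mem s hs)) (key g hg))
    (P.B.inv_mem (P.sq_mem s hs))

lemma len_mul_s_inv {s n : G} (hs : s ∈ P.S) (hn : n ∈ P.N) :
    len P (s⁻¹ * n) = len P (s * n) := by
  have hsN := s_mem P hs
  apply len_congr P (P.N.mul_mem (P.N.inv_mem hsN) hn) (P.N.mul_mem hsN hn)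
  have := conj_mem' P hn (P.sq_mem s hs) (P.N.mul_mem hsN hsN)
  simpa [mul_assoc] using this

lemma exists_mem_cell_of_len_le {s n : G} (hs : s ∈ P.S) (hn : n ∈ P.N)
    (hle : len P (s * n) ≤ len P n) : ∃ b ∈ P.B, s * b * n ∈ cell P n := by
  obtain ⟨b, hb, hmem⟩ := exists_s_mul_s_mem_cell P hs
  have hsN := s_mem P hs
  have hm := P.N.mul_mem (P.N.inv_mem hsN) hn
  refine ⟨b, hb, ?_⟩
  have hle' : len P (s⁻¹ * n) ≤ len P (s * (s⁻¹ * n)) := by
    rw [mul_inv_cancel_left, len_mul_s_inv P hs hn]; exact hle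
  have h := cell_mul_of_len_le P hs hm hle' hmem (self_mem_cell P (s⁻¹ * n))
  simpa [mul_assoc] using h

lemma len_s_mul_ne {s n : G} (hs : s ∈ P.S) (hn : n ∈ P.N) : len P (s * n) ≠ len P n := by
  intro he
  obtain ⟨b, hb, hmem⟩ := exists_mem_cell_of_len_le P hs hn he.le
  have hx : s * b ∈ cell P s := by
    simpa using mul_mem_cell P P.B.one_mem hb (self_mem_cell P s)
  have hsn := P.N.mul_mem (s_mem P hs) hn
  have h2 := cell_mul_of_len_le P hs hn he.ge hx (self_mem_cell P n)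
  have h1 := equiv_of_mem_cells P hn hsn hmem h2
  apply s_not_mem_B P hs
  have := P.conj_mem _ hn _ ⟨h1, P.N.mul_mem (P.N.inv_mem hn) hsn⟩
  simpa [mul_assoc] using this

/-- The exchange condition. -/
lemma exchange {l : List G} (hl : ∀ x ∈ l, x ∈ P.S) (hred : len P l.prod = l.length) {s : G}
    (hs : s ∈ P.S) (hlt : len P (s * l.prod) < l.length) :
    ∃ i < l.length, (s * (l.take i).prod)⁻¹ * (l.take (i + 1)).prod ∈ P.B := by
  induction l using List.reverseRecOn with
  | nil => simp at hlt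
  | append_singleton p r ih =>
    have hp : ∀ x ∈ p, x ∈ P.S := fun x hx => hl x (List.mem_append_left _ hx)
    have hr : r ∈ P.S := hl r (by simp)
    have hpN : p.prod ∈ P.N := prod_mem_N P subset_rfl hp
    have hrN := s_mem P hr
    have hsN := s_mem P hs
    rw [List.prod_append, List.prod_singleton, List.length_append, List.length_singleton] at hred hlt
    have hp1 : len P p.prod ≤ p.length := len_le P ⟨hp, by simp⟩
    have hp2 := len_mul_le P hpN hrN
    have hr1 := len_s_le P hr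
    by_cases hlt' : len P (s * p.prod) < p.length
    · obtain ⟨i, hi, hB⟩ := ih hp (by omega) hlt'
      refine ⟨i, by simp; omega, ?_⟩
      rwa [List.take_append_of_le_length (by omega), List.take_append_of_le_length (by omega)]
    · refine ⟨p.length, by simp, ?_⟩
      rw [List.take_left, List.take_of_length_le (by simp), List.prod_append, List.prod_singleton]
      set n := p.prod * r with hn_def
      have hnN : n ∈ P.N := P.N.mul_mem hpN hrN
      obtain ⟨b, hb, hmem⟩ := exists_mem_cell_of_len_le P hs hnN (by omega)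
      have hx : s * b ∈ cell P s := by
        simpa using mul_mem_cell P P.B.one_mem hb (self_mem_cell P s)
      have hsp := cell_mul_of_len_le P hs hpN (by omega) hx (self_mem_cell P p.prod)
      have e : s * b * n = s * b * p.prod * r := by rw [hn_def]; group
      rw [e] at hmem
      rcases cell_mul_cell_right P hr (P.N.mul_mem hsN hpN) hsp (self_mem_cell P r) with h | h
      · exfalso
        have h1 := equiv_of_mem_cells P hnN (P.N.mul_mem (P.N.mul_mem hsN hpN) hrN) hmem h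
        apply s_not_mem_B P hs
        have h1N : n⁻¹ * (s * p.prod * r) ∈ P.N :=
          P.N.mul_mem (P.N.inv_mem hnN) (P.N.mul_mem (P.N.mul_mem hsN hpN) hrN)
        have := P.conj_mem _ hnN _ ⟨h1, h1N⟩
        simpa [hn_def, mul_assoc] using this
      · exact equiv_of_mem_cells P (P.N.mul_mem hsN hpN) hnN h hmem

end CfsgLib.Chev.BN
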