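import Mathlib
import Cfsg.Agent.Lib.Chev.BNBasic

/-!
Standard parabolic subgroups of a (B,N)-pair and Tits' simplicity criterion.
-/

set_option autoImplicit false

namespace CfsgLib.Chev.BN

open Cfsg

variable {G : Type*} [Group G] (P : BNPair G)

lemma len_s_eq_one {s : G} (hs : s ∈ P.S) : len P s = 1 := by
  have h1 := len_s_le P hs
  have h2 : len P s ≠ 0 := fun h => s_not_mem_B P hs ((len_eq_zero P (s_mem P hs)).1 h)
  omega

/-- A word over `J` may be shortened to a reduced word over `J`. -/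
lemma exists_reduced_subword {J : Set G} (hJ : J ⊆ P.S) {l : List G} {n : G}
    (hl : IsWord P J l n) (hn : n ∈ P.N) : ∃ l', IsWord P J l' n ∧ l'.length = len P n := by
  induction l generalizing n with
  | nil => exact ⟨[], hl, by rw [List.length_nil, (len_eq_zero P hn).2 ((isWord_nil P).1 hl)]⟩
  | cons s l ih =>
    have hsJ : s ∈ J := hl.1 s (by simp)
    have hs := hJ hsJ
    have hsN := s_mem P hs
    have hm := P.N.mul_mem (P.N.inv_mem hsN) hn
    have hw : IsWord P J l (s⁻¹ * n) :=
      ⟨fun x hx => hl.1 x (List.mem_cons_of_mem _ hx), by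
        simpa [mul_assoc, List.prod_cons] using hl.2⟩
    obtain ⟨l', hl', he⟩ := ih hw hm
    have hl'N : l'.prod ∈ P.N := prod_mem_N P hJ hl'.1
    have hlen' : len P l'.prod = l'.length := by rw [he]; exact len_congr P hl'N hm hl'.2
    have hcong : (s * l'.prod)⁻¹ * n ∈ P.B := by simpa [mul_assoc] using hl'.2
    have hw' : IsWord P J (s :: l') n := ⟨by
      intro x hx
      rcases List.mem_cons.1 hx with rfl | h
      · exact hsJ
      · exact hl'.1 x h, by simpa [List.prod_cons] using hcong⟩
    have hlenn : len P n = len P (s * l'.prod) :=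
      (len_congr P (P.N.mul_mem hsN hl'N) hn hcong).symm
    rcases lt_or_ge l'.length (len P n) with h | h
    · have h' := len_le P (⟨fun x hx => hJ (hw'.1 x hx), hw'.2⟩ : IsWord P P.S (s :: l') n)
      simp only [List.length_cons] at h'
      exact ⟨s :: l', hw', by simp; omega⟩
    · have hne := len_s_mul_ne P hs hl'N
      obtain ⟨i, hi, hB⟩ := exchange P (fun x hx => hJ (hl'.1 x hx)) hlen' hs (by omega)
      have hiw : IsWord P J (l'.eraseIdx i) (s * l'.prod) := by
        refine ⟨fun x hx => hl'.1 x (List.mem_of_mem_eraseIdx hx), ?_⟩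
        have hsp : l'.prod = (l'.take (i + 1)).prod * (l'.drop (i + 1)).prod := by
          rw [← List.prod_append, List.take_append_drop]
        rw [List.eraseIdx_eq_take_drop_succ, List.prod_append, hsp]
        have hti : (l'.take i).prod ∈ P.N := prod_mem_N P hJ fun x hx => hl'.1 x (List.mem_of_mem_take hx)
        have hti1 : (l'.take (i+1)).prod ∈ P.N := prod_mem_N P hJ fun x hx => hl'.1 x (List.mem_of_mem_take hx)
        have htd : (l'.drop (i+1)).prod ∈ P.N := prod_mem_N P hJ fun x hx => hl'.1 x (List.mem_of_mem_drop hx)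
        -- `take i⁻¹ * s * take (i+1) = take i⁻¹ * (s s) * take i * ((s take i)⁻¹ take (i+1))`
        have e : ((l'.take i).prod * (l'.drop (i + 1)).prod)⁻¹ *
              (s * ((l'.take (i + 1)).prod * (l'.drop (i + 1)).prod))
            = (l'.drop (i + 1)).prod⁻¹ * ((l'.take i).prod⁻¹ * (s * s) * (l'.take i).prod *
              ((s * (l'.take i).prod)⁻¹ * (l'.take (i + 1)).prod)) * (l'.drop (i + 1)).prod := by group
        rw [e]
        refine conj_mem' P htd (P.B.mul_mem (conj_mem' P hti (P.sq_mem s hs) (P.N.mul_mem hsN hsN)) hB) ?_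
        exact P.N.mul_mem (P.N.mul_mem (P.N.mul_mem (P.N.inv_mem hti) (P.N.mul_mem hsN hsN)) hti)
          (P.N.mul_mem (P.N.inv_mem (P.N.mul_mem hsN hti)) hti1)
      have hiw' : IsWord P J (l'.eraseIdx i) n := ⟨hiw.1, by
        have := P.B.mul_mem hiw.2 hcong
        simpa [mul_assoc] using this⟩
      refine ⟨l'.eraseIdx i, hiw', ?_⟩
      have h1 : (l'.eraseIdx i).length = l'.length - 1 := List.length_eraseIdx_of_lt hi
      have h3 := len_le P (⟨fun x hx => hJ (hiw'.1 x hx), hiw'.2⟩ : IsWord P P.S (l'.eraseIdx i) n)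
      have h4 := len_mul_le P (P.N.inv_mem hsN) (P.N.mul_mem hsN hl'N)
      have h5 := len_inv_s P hs
      rw [inv_mul_cancel_left, hlen'] at h4
      omega

lemma B_le_parabolic (J : Set G) : P.B ≤ P.parabolic J := le_sup_left

lemma mem_parabolic_of_mem {J : Set G} {s : G} (hs : s ∈ J) : s ∈ P.parabolic J :=
  Subgroup.mem_sup_right (Subgroup.subset_closure hs)

lemma parabolic_le {J : Set G} {H : Subgroup G} (hB : P.B ≤ H) (hJ : J ⊆ H) :
    P.parabolic J ≤ H :=
  sup_le hB ((Subgroup.closure_le _).2 hJ)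

lemma parabolic_mono {J K : Set G} (h : J ⊆ K) : P.parabolic J ≤ P.parabolic K :=
  sup_le_sup_left (Subgroup.closure_mono h) _

lemma parabolic_top : P.parabolic P.S = ⊤ := by
  refine top_unique ?_
  rw [← P.sup_eq_top]
  refine sup_le le_sup_left ?_
  rw [← P.closure_sup]
  exact sup_le le_sup_right (inf_le_left.trans le_sup_left)

lemma cell_subset {H : Subgroup G} (hB : P.B ≤ H) {n g : G} (hn : n ∈ H) (hg : g ∈ cell P n) :
    g ∈ H := by
  obtain ⟨x, hx, y, hy, rfl⟩ := (mem_cell P).1 hg
  exact H.mul_mem (H.mul_mem (hB hx) hn) (hB hy)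

/-- `P_J = B W_J B`. -/
lemma mem_parabolic {J : Set G} (hJ : J ⊆ P.S) {g : G} :
    g ∈ P.parabolic J ↔ ∃ l : List G, (∀ x ∈ l, x ∈ J) ∧ g ∈ cell P l.prod := by
  constructor
  · intro hg
    rw [BNPair.parabolic, ← Subgroup.closure_eq P.B, ← Subgroup.closure_union] at hg
    have hcons : ∀ x ∈ J, ∀ (l : List G) (y : G), (∀ z ∈ l, z ∈ J) → y ∈ cell P l.prod →
        ∃ l' : List G, (∀ z ∈ l', z ∈ J) ∧ x * y ∈ cell P l'.prod := by
      intro x hx l y hl hy
      rcases cell_mul_cell P (hJ hx) (prod_mem_N P hJ hl) (self_mem_cell P x) hy with h | h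
      · refine ⟨x :: l, ?_, by rwa [List.prod_cons]⟩
        intro z hz
        rcases List.mem_cons.1 hz with rfl | h'
        · exact hx
        · exact hl z h'
      · exact ⟨l, hl, h⟩
    induction hg using Subgroup.closure_induction_left with
    | one => exact ⟨[], by simp, by simpa using self_mem_cell P 1⟩
    | mul_left x hx y hy ih =>
      obtain ⟨l, hl, h⟩ := ih
      rcases hx with hx' | hx'
      · exact ⟨l, hl, by simpa using mul_mem_cell P hx' P.B.one_mem h⟩
      · exact hcons x hx' l y hl h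
    | inv_mul_cancel x hx y hy ih =>
      obtain ⟨l, hl, h⟩ := ih
      rcases hx with hx' | hx'
      · exact ⟨l, hl, by simpa using mul_mem_cell P (P.B.inv_mem hx') P.B.one_mem h⟩
      · obtain ⟨l', hl', h'⟩ := hcons x hx' l ((x * x)⁻¹ * y) hl (by
          simpa using mul_mem_cell P (P.B.inv_mem (P.sq_mem x (hJ hx'))) P.B.one_mem h)
        refine ⟨l', hl', ?_⟩
        rwa [show x⁻¹ * y = x * ((x * x)⁻¹ * y) by group]
  · rintro ⟨l, hl, hg⟩
    exact cell_subset P (B_le_parabolic P J)
      ((P.parabolic J).list_prod_mem fun x hx => mem_parabolic_of_mem P (hl x hx)) hg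

/-- `s ∈ P_J ↔ s ∈ J`. -/
lemma mem_parabolic_iff_mem {J : Set G} (hJ : J ⊆ P.S) {s : G} (hs : s ∈ P.S) :
    s ∈ P.parabolic J ↔ s ∈ J := by
  refine ⟨fun h => ?_, mem_parabolic_of_mem P⟩
  obtain ⟨l, hl, hc⟩ := (mem_parabolic P hJ).1 h
  have hlN := prod_mem_N P hJ hl
  have h1 := cell_inj P hlN (s_mem P hs) (cell_eq_of_mem P hc).symm
  obtain ⟨l', hl', he⟩ := exists_reduced_subword P hJ ⟨hl, h1⟩ (s_mem P hs)
  rw [len_s_eq_one P hs, List.length_eq_one_iff] at he
  obtain ⟨j, rfl⟩ := he
  have hj : j ∈ J := hl'.1 j (by simp)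
  have hjs : j⁻¹ * s ∈ P.B := by simpa using hl'.2
  exact P.inj j (hJ hj) s hs hjs ▸ hj

/-- If `ℓ(s n) < ℓ(n)` then `s` lies in every subgroup containing `B` and `n B n⁻¹`. -/
lemma descent_mem {H : Subgroup G} (hB : P.B ≤ H) {s n : G} (hs : s ∈ P.S) (hn : n ∈ P.N)
    (hlt : len P (s * n) < len P n) (hH : ∀ b ∈ P.B, n * b * n⁻¹ ∈ H) : s ∈ H := by
  obtain ⟨b, hb, hmem⟩ := exists_mem_cell_of_len_le P hs hn hlt.le
  obtain ⟨x, hx, y, hy, he⟩ := (mem_cell P).1 hmem
  have h : s = x * (n * y * n⁻¹) * b⁻¹ := by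
    rw [show x * (n * y * n⁻¹) * b⁻¹ = x * n * y * n⁻¹ * b⁻¹ by group, ← he]
    group
  rw [h]
  exact H.mul_mem (H.mul_mem (hB hx) (hH y hy)) (hB (P.B.inv_mem hb))

/-- If `H ⊇ B, n B n⁻¹` then all letters of a reduced word of `n` lie in `H`. -/
lemma letters_mem {H : Subgroup G} (hB : P.B ≤ H) {n : G} (hn : n ∈ P.N)
    (hH : ∀ b ∈ P.B, n * b * n⁻¹ ∈ H) {l : List G} (hl : IsWord P P.S l n)
    (hred : l.length = len P n) : ∀ x ∈ l, x ∈ H := by
  induction l generalizing n with
  | nil => simp
  | cons s l ih =>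
    have hs : s ∈ P.S := hl.1 s (by simp)
    have hsN := s_mem P hs
    have hm := P.N.mul_mem (P.N.inv_mem hsN) hn
    have hw : IsWord P P.S l (s⁻¹ * n) :=
      ⟨fun x hx => hl.1 x (List.mem_cons_of_mem _ hx), by
        simpa [mul_assoc, List.prod_cons] using hl.2⟩
    have h1 := len_le P hw
    have h2 := len_mul_le P hsN hm
    rw [mul_inv_cancel_left, len_s_eq_one P hs] at h2
    simp only [List.length_cons] at hred
    have hsH : s ∈ H := descent_mem P hB hs hn (by rw [← len_mul_s_inv P hs hn]; omega) hH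
    intro x hx
    rcases List.mem_cons.1 hx with rfl | h
    · exact hsH
    · refine ih hm ?_ hw (by omega) x h
      intro b hb
      rw [show s⁻¹ * n * b * (s⁻¹ * n)⁻¹ = s⁻¹ * (n * b * n⁻¹) * s by group]
      exact H.mul_mem (H.mul_mem (H.inv_mem hsH) (hH b hb)) hsH

lemma mem_of_conj_le {H : Subgroup G} (hB : P.B ≤ H) {n : G} (hn : n ∈ P.N)
    (hH : ∀ b ∈ P.B, n * b * n⁻¹ ∈ H) : n ∈ H ∧ n ∈ P.parabolic (P.S ∩ H) := by
  obtain ⟨l, hl, hred⟩ := exists_reduced P hn
  have hmem := letters_mem P hB hn hH hl hred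
  have key : n ∈ P.parabolic (P.S ∩ (H : Set G)) := by
    have e : n = l.prod * (l.prod⁻¹ * n) := by group
    rw [e]
    exact (P.parabolic _).mul_mem
      ((P.parabolic _).list_prod_mem fun x hx => mem_parabolic_of_mem P ⟨hl.1 x hx, hmem x hx⟩)
      (B_le_parabolic P _ hl.2)
  exact ⟨parabolic_le P hB Set.inter_subset_right key, key⟩

/-- Every overgroup of `B` is parabolic. -/
lemma eq_parabolic {M : Subgroup G} (hB : P.B ≤ M) : M = P.parabolic (P.S ∩ M) := by
  refine le_antisymm (fun g hg => ?_) (parabolic_le P hB Set.inter_subset_right)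
  obtain ⟨n, hn, hgn⟩ := exists_mem_cell P g
  have hnM : n ∈ M := by
    obtain ⟨x, hx, y, hy, rfl⟩ := (mem_cell P).1 hgn
    have := M.mul_mem (M.mul_mem (M.inv_mem (hB hx)) hg) (M.inv_mem (hB hy))
    simpa [mul_assoc] using this
  have := (mem_of_conj_le P hB hn fun b hb =>
    M.mul_mem (M.mul_mem hnM (hB hb)) (M.inv_mem hnM)).2
  exact cell_subset P (B_le_parabolic P _) this hgn

lemma parabolic_inj {J K : Set G} (hJ : J ⊆ P.S) (hK : K ⊆ P.S)
    (h : P.parabolic J = P.parabolic K) : J = K := by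
  ext s
  constructor
  · intro hs
    exact (mem_parabolic_iff_mem P hK (hJ hs)).1 (h ▸ mem_parabolic_of_mem P hs)
  · intro hs
    exact (mem_parabolic_iff_mem P hJ (hK hs)).1 (h.symm ▸ mem_parabolic_of_mem P hs)

lemma parabolic_inf {J K : Set G} (hJ : J ⊆ P.S) (hK : K ⊆ P.S) :
    P.parabolic J ⊓ P.parabolic K = P.parabolic (J ∩ K) := by
  refine le_antisymm ?_ (le_inf (parabolic_mono P Set.inter_subset_left)
    (parabolic_mono P Set.inter_subset_right))
  rw [eq_parabolic P (le_inf (B_le_parabolic P J) (B_le_parabolic P K))]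
  apply parabolic_mono
  rintro s ⟨hs, h1, h2⟩
  exact ⟨(mem_parabolic_iff_mem P hJ hs).1 h1, (mem_parabolic_iff_mem P hK hs).1 h2⟩

/-- A conjugate of an overgroup of `B` which contains `B` is itself. -/
lemma mem_of_conj_overgroup {M M' : Subgroup G} (hB : P.B ≤ M) (hB' : P.B ≤ M') {g : G}
    (h : ∀ x, x ∈ M ↔ g * x * g⁻¹ ∈ M') : g ∈ M' ∧ M = M' := by
  obtain ⟨n, hn, hgn⟩ := exists_mem_cell P g
  obtain ⟨b₁, h₁, b₂, h₂, rfl⟩ := (mem_cell P).1 hgn
  have hH : ∀ b ∈ P.B, n * b * n⁻¹ ∈ M' := by
    intro b hb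
    have h' := (h (b₂⁻¹ * b * b₂)).1 (hB (P.B.mul_mem (P.B.mul_mem (P.B.inv_mem h₂) hb) h₂))
    have h'' := M'.mul_mem (M'.mul_mem (M'.inv_mem (hB' h₁)) h') (hB' h₁)
    simpa [mul_assoc] using h''
  have hg : b₁ * n * b₂ ∈ M' :=
    M'.mul_mem (M'.mul_mem (hB' h₁) (mem_of_conj_le P hB' hn hH).1) (hB' h₂)
  refine ⟨hg, ?_⟩
  ext x
  rw [h x]
  constructor
  · intro hx
    have := M'.mul_mem (M'.mul_mem (M'.inv_mem hg) hx) hg
    simpa [mul_assoc] using this
  · intro hx
    exact M'.mul_mem (M'.mul_mem hg hx) (M'.inv_mem hg)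

lemma normalizer_eq_self {M : Subgroup G} (hB : P.B ≤ M) :
    Subgroup.normalizer (M : Set G) = M := by
  refine le_antisymm (fun g hg => ?_) Subgroup.le_normalizer
  exact (mem_of_conj_overgroup P hB hB fun x => (Subgroup.mem_normalizer_iff.1 hg x)).1

/-- Tits' simplicity criterion, relative form: under irreducibility, a normal subgroup not in `B`
together with `B` generates `G`. -/
lemma normal_sup_eq_top (hirr : P.Irreducible) (N : Subgroup G) [N.Normal] (hN : ¬ N ≤ P.B) :
    N ⊔ P.B = ⊤ := by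
  set J := P.S ∩ ((N ⊔ P.B : Subgroup G) : Set G) with hJdef
  have hM := eq_parabolic P (le_sup_right : P.B ≤ N ⊔ P.B)
  have hJne : J.Nonempty := by
    by_contra h
    apply hN
    have h2 : N ⊔ P.B = P.B := by
      rw [hM, ← hJdef, Set.not_nonempty_iff_eq_empty.1 h, BNPair.parabolic]
      simp
    exact h2 ▸ le_sup_left
  rcases Set.eq_empty_or_nonempty (P.S \ J) with hall | hne
  · rw [hM, ← hJdef]
    have : J = P.S := subset_antisymm Set.inter_subset_left (by
      intro s hs
      by_contra hc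
      exact (Set.eq_empty_iff_forall_notMem.1 hall s) ⟨hs, hc⟩)
    rw [this, parabolic_top]
  · exfalso
    obtain ⟨j, hj, s, hsd, hnc⟩ := hirr J Set.inter_subset_left hJne hne
    apply hnc
    have hjS : j ∈ P.S := hj.1
    have hs : s ∈ P.S := hsd.1
    have hsJ : s ∉ N ⊔ P.B := fun h => hsd.2 ⟨hs, h⟩
    have hjN := s_mem P hjS
    have hsN := s_mem P hs
    -- some element of `N` lies in `B j B`
    obtain ⟨x, hx, hxc⟩ : ∃ x ∈ N, x ∈ cell P j := by
      obtain ⟨a, ha, b, hb, he⟩ := Subgroup.mem_sup_of_normal_left.1 hj.2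
      refine ⟨a, ha, ?_⟩
      have := mul_mem_cell P P.B.one_mem (P.B.inv_mem hb) (self_mem_cell P j)
      rw [one_mul] at this
      rwa [show j * b⁻¹ = a by rw [← he]; group] at this
    have hxs : s * x * s⁻¹ ∈ N := Subgroup.Normal.conj_mem ‹N.Normal› x hx s
    have hxsM : s * x * s⁻¹ ∈ N ⊔ P.B := Subgroup.mem_sup_left hxs
    have hsinv : s⁻¹ ∈ cell P s := by rw [← cell_s_inv P hs]; exact self_mem_cell P s⁻¹
    have hcellM : ∀ m, s * x * s⁻¹ ∈ cell P m → m ∈ N ⊔ P.B := by
      intro m hm
      obtain ⟨u, hu, v, hv, he⟩ := (mem_cell P).1 hm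
      have := (N ⊔ P.B).mul_mem ((N ⊔ P.B).mul_mem (Subgroup.mem_sup_right (P.B.inv_mem hu)) hxsM)
        (Subgroup.mem_sup_right (P.B.inv_mem hv))
      rw [he] at this
      simpa [mul_assoc] using this
    have hjle : len P j ≤ len P (s * j) := by
      rw [len_s_eq_one P hjS]
      by_contra hlt
      push Not at hlt
      have h0 : s * j ∈ P.B := (len_eq_zero P (P.N.mul_mem hsN hjN)).1 (by omega)
      apply hsJ
      have := (N ⊔ P.B).mul_mem (Subgroup.mem_sup_right h0 : s * j ∈ N ⊔ P.B) ((N ⊔ P.B).inv_mem hj.2)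
      simpa using this
    have hsx : s * x ∈ cell P (s * j) := cell_mul_of_len_le P hs hjN hjle (self_mem_cell P s) hxc
    rcases cell_mul_cell_right P hs (P.N.mul_mem hsN hjN) hsx hsinv with h | h
    · -- `s j s` lies in `P_J`
      have hm := hcellM _ h
      have hw : s * j * s ∈ P.N := P.N.mul_mem (P.N.mul_mem hsN hjN) hsN
      obtain ⟨l, hl, hlen⟩ := exists_reduced P hw
      have hlet := letters_mem P (le_sup_right : P.B ≤ N ⊔ P.B) hw
        (fun b hb => (N ⊔ P.B).mul_mem ((N ⊔ P.B).mul_mem hm (Subgroup.mem_sup_right hb))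
          ((N ⊔ P.B).inv_mem hm)) hl hlen
      have hsl : IsWord P P.S [s, j, s] (s * j * s) := by
        refine ⟨?_, by simp [mul_assoc]⟩
        intro z hz
        simp only [List.mem_cons, List.not_mem_nil, or_false] at hz
        rcases hz with rfl | rfl | rfl <;> assumption
      have h3 := len_le P hsl
      simp only [List.length_cons, List.length_nil] at h3
      have h3' : len P (s * j * s) ≠ 3 := by
        intro h'
        exact hsJ (letters_mem P (le_sup_right : P.B ≤ N ⊔ P.B) hw
          (fun b hb => (N ⊔ P.B).mul_mem ((N ⊔ P.B).mul_mem hm (Subgroup.mem_sup_right hb))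
            ((N ⊔ P.B).inv_mem hm)) hsl (by simp [h']) s (by simp))
      have hsjs1 : len P (s * j * s) ≤ 1 := by
        have ha : len P (s * j) ≠ len P j := len_s_mul_ne P hs hjN
        have hb : len P (s * j) ≤ 2 := by
          have := len_mul_le P hsN hjN
          have := len_s_le P hs
          have := len_s_le P hjS
          omega
        have hb' : len P (s * j) = 2 := by have := len_s_eq_one P hjS; omega
        have hc := len_s_mul_ne P (s := s) hs (P.N.inv_mem (P.N.mul_mem hsN hjN))
        rw [len_inv P (P.N.mul_mem hsN hjN), ← len_mul_s_inv P hs (P.N.inv_mem (P.N.mul_mem hsN hjN)),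
          ← mul_inv_rev, len_inv P hw] at hc
        omega
      rw [← hlen] at hsjs1
      match l, hl, hlet, hsjs1 with
      | [], hl, _, _ =>
        exfalso
        apply s_not_mem_B P hjS
        have h0 : s * j * s ∈ P.B := (isWord_nil P).1 hl
        have h2 := conj_mem' P hsN h0 hw
        have e : j = s⁻¹ * (s * j * s) * s * (s * s)⁻¹ := by group
        rw [e]
        exact P.B.mul_mem h2 (P.B.inv_mem (P.sq_mem s hs))
      | [r], hl, hlet, _ =>
        have hrS : r ∈ P.S := hl.1 r (by simp)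
        have hr1 : r⁻¹ * (s * j * s) ∈ P.B := by simpa using hl.2
        have hw2 : IsWord P P.S [r, s] (s * j) := by
          refine ⟨?_, ?_⟩
          · intro z hz
            simp only [List.mem_cons, List.not_mem_nil, or_false] at hz
            rcases hz with rfl | rfl <;> assumption
          · have h1 := conj_mem' P hsN hr1 (P.N.mul_mem (P.N.inv_mem (s_mem P hrS)) hw)
            have e : [r, s].prod⁻¹ * (s * j) = s⁻¹ * (r⁻¹ * (s * j * s)) * s * (s * s)⁻¹ := by
              simp; group
            rw [e]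
            exact P.B.mul_mem h1 (P.B.inv_mem (P.sq_mem s hs))
        have hred2 : len P (r * s) = 2 := by
          have h1 : len P (r * s) = len P (s * j) :=
            len_congr P (P.N.mul_mem (s_mem P hrS) hsN) (P.N.mul_mem hsN hjN) (by simpa using hw2.2)
          have := len_s_mul_ne P hs hjN
          have := len_mul_le P hsN hjN
          have := len_s_le P hs
          have := len_s_eq_one P hjS
          omega
        have hlt : len P (s * [r, s].prod) < 2 := by
          have hN1 : s * (s * j) ∈ P.N := P.N.mul_mem hsN (P.N.mul_mem hsN hjN)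
          have h1 : len P (s * (r * s)) = len P (s * (s * j)) :=
            len_congr P (P.N.mul_mem hsN (P.N.mul_mem (s_mem P hrS) hsN)) hN1
              (by simpa [mul_assoc] using hw2.2)
          have h2 : len P (s * (s * j)) = len P j := by
            refine (len_congr P hjN hN1 ?_).symm
            simpa [mul_assoc] using conj_mem' P hjN (P.sq_mem s hs) (P.N.mul_mem hsN hsN)
          have := len_s_eq_one P hjS
          simp only [List.prod_cons, List.prod_nil, mul_one]
          omega
        obtain ⟨i, hi, hB⟩ := exchange P hw2.1 (by simpa using hred2) hs hlt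
        simp only [List.length_cons, List.length_nil] at hi
        match i, hi, hB with
        | 0, _, hB =>
          exfalso
          have : s = r := P.inj s hs r hrS (by simpa using hB)
          exact hsJ (this ▸ hlet r (by simp))
        | 1, _, hB =>
          simp only [List.take_succ_cons, List.take_zero, List.prod_cons, List.prod_nil, mul_one] at hB
          -- `s r ≡ r s ≡ s j`, so `r = j` and `j, s` commute modulo `B`
          have h4 : (r * s)⁻¹ * (s * j) ∈ P.B := by simpa using hw2.2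
          have h5 := P.B.mul_mem hB h4
          have h6 : r⁻¹ * j ∈ P.B := by simpa [mul_assoc] using h5
          have h7 : r = j := P.inj r hrS j hjS h6
          subst h7
          have hN5 : (r * s)⁻¹ * (s * r) ∈ P.N :=
            P.N.mul_mem (P.N.inv_mem (P.N.mul_mem hjN hsN)) (P.N.mul_mem hsN hjN)
          have := P.B.inv_mem (P.conj_mem (r * s) (P.N.mul_mem hjN hsN) _ ⟨h4, hN5⟩)
          simpa [mul_assoc] using this
        | i + 2, hi, _ => omega
      | _ :: _ :: _, _, _, h => simp at h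
    · -- `s j` lies in `P_J`, so `s` does
      apply absurd _ hsJ
      have := hcellM _ h
      have h2 := (N ⊔ P.B).mul_mem this ((N ⊔ P.B).inv_mem hj.2)
      simpa using h2

/-- Tits' simplicity criterion. -/
theorem isSimpleGroup [Nontrivial G] (hirr : P.Irreducible) (hsolv : Group.IsSolvable P.B)
    (hperf : commutator G = ⊤) (hcore : P.B.normalCore = ⊥) : IsSimpleGroup G := by
  refine ⟨fun N hN => ?_⟩
  by_cases h : N ≤ P.B
  · exact Or.inl (le_bot_iff.1 (hcore ▸ Subgroup.normal_le_normalCore.2 h))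
  · right
    have htop := normal_sup_eq_top P hirr N h
    have hsurj : Function.Surjective ((QuotientGroup.mk' N).comp P.B.subtype) := by
      intro q
      obtain ⟨g, rfl⟩ := QuotientGroup.mk'_surjective N q
      obtain ⟨a, ha, b, hb, rfl⟩ := Subgroup.mem_sup_of_normal_left.1 (htop ▸ Subgroup.mem_top g)
      refine ⟨⟨b, hb⟩, ?_⟩
      simp [QuotientGroup.mk'_apply, (QuotientGroup.eq_one_iff a).2 ha]
    have := hsolv
    have hs : Group.IsSolvable (G ⧸ N) := Group.isSolvable_of_surjective hsurj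
    obtain ⟨k, hk⟩ := hs.solvable
    have hcomm : commutator (G ⧸ N) = ⊤ := by
      rw [commutator_def] at hperf ⊢
      rw [← Subgroup.map_top_of_surjective (QuotientGroup.mk' N) (QuotientGroup.mk'_surjective N),
        ← Subgroup.map_commutator, hperf]
    have hder : ∀ m, derivedSeries (G ⧸ N) m = ⊤ := by
      intro m
      induction m with
      | zero => exact derivedSeries_zero _
      | succ m ih => rw [derivedSeries_succ, ih, ← commutator_def, hcomm]
    rw [hder k] at hk
    refine Subgroup.eq_top_iff' N |>.2 fun g => ?_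
    have := Subgroup.eq_bot_iff_forall _ |>.1 hk (QuotientGroup.mk' N g) trivial
    exact (QuotientGroup.eq_one_iff g).1 this

end CfsgLib.Chev.BN
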