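import Mathlib
import Cfsg.Agent.Lib.Chev.Bridge

/-!
The diagonal subgroup `H`, the monomial subgroup `N` and the generation statements.
-/

set_option autoImplicit false

namespace CfsgLib.Chev

open Cfsg.Lie Matrix

variable {D : ChevalleyDatum}

/-- The exponent of the `i`-th torus coordinate at a basis vector. -/
def torExp (D : ChevalleyDatum) (i : ℕ) : D.Idx → ℤ :=
  Sum.elim (0 : Fin D.rank → ℤ) fun u : Fin D.nroots => D.cartan i u

/-- The torus `c ↦ diag (∏ i, c i ^ A_{i,u})`. -/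
noncomputable def torHom (D : ChevalleyDatum) (F : Type*) [Field F] :
    (Fin D.rank → Fˣ) →* GL D.Idx F :=
  (Units.map (Matrix.diagonalRingHom D.Idx F : (D.Idx → F) →* Matrix D.Idx D.Idx F)).comp
    ((MulEquiv.piUnits (M := fun _ : D.Idx => F)).symm.toMonoidHom.comp
      { toFun := fun c a => ∏ i : Fin D.rank, c i ^ torExp D i a
        map_one' := by funext a; simp
        map_mul' := fun c d => by funext a; simp [mul_zpow, Finset.prod_mul_distrib] })

lemma torHom_apply {F : Type*} [Field F] (c : Fin D.rank → Fˣ) :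
    (torHom D F c : Matrix D.Idx D.Idx F) =
      Matrix.diagonal fun a => ((∏ i : Fin D.rank, c i ^ torExp D i a : Fˣ) : F) := rfl

namespace Good

variable (g : Good D)
include g
variable {F : Type*} [Field F]

lemma torHom_pow_coroot {r : ℕ} (hr : r < D.nroots) (t : Fˣ) :
    torHom D F (fun i => t ^ corootCo D r i) = g.hG r t := by
  refine Units.ext ?_
  rw [torHom_apply, g.coe_hG hr, g.hMat_eq hr, tor, g.wPair_eq]
  congr 1
  funext a
  congr 1
  show (∏ i : Fin D.rank, (t ^ corootCo D r i) ^ torExp D i a : Fˣ) = t ^ _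
  simp only [← _root_.zpow_mul]
  rcases a with c | u
  · simp [torExp]
  · simp only [torExp, Sum.elim_inr, pair, Finset.sum_range, corootCo]
    exact (map_prod_zpow t _)
  where
  map_prod_zpow (t : Fˣ) (f : Fin D.rank → ℤ) : ∏ i, t ^ f i = t ^ ∑ i, f i := by
    induction (Finset.univ : Finset (Fin D.rank)) using Finset.induction with
    | empty => simp
    | insert a s ha ih => rw [Finset.prod_insert ha, Finset.sum_insert ha, _root_.zpow_add, ih]

lemma torHom_single (i : Fin D.rank) (c : Fˣ) :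
    torHom D F (Pi.mulSingle i c) = g.hG (D.simple i) c := by
  rw [← g.torHom_pow_coroot (g.simple_lt i.2)]
  congr 1
  funext j
  rw [g.corootCo_simple i.2 j.2]
  by_cases h : j = i
  · subst h; simp
  · rw [Pi.mulSingle_eq_of_ne h, if_neg fun hc => h (Fin.ext hc.symm), zpow_zero]

/-- `H` is the image of the torus. -/
theorem diagonal_eq_range : D.diagonalSubgroup F = (torHom D F).range := by
  refine le_antisymm ((Subgroup.closure_le _).2 ?_) ?_
  · rintro x ⟨r, t, hr, ht, hx⟩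
    refine ⟨fun i => Units.mk0 t ht ^ corootCo D r i, ?_⟩
    rw [g.torHom_pow_coroot hr]
    exact Units.ext (by rw [g.coe_hG hr, hx]; rfl)
  · rintro x ⟨c, rfl⟩
    rw [← Finset.univ_prod_mulSingle c]
    refine Subgroup.mem_comap.1 (Subgroup.prod_mem ((D.diagonalSubgroup F).comap (torHom D F))
      fun i _ => ?_)
    rw [Subgroup.mem_comap, g.torHom_single]
    exact g.hG_mem (g.simple_lt i.2) _

lemma torHom_mem (c : Fin D.rank → Fˣ) : torHom D F c ∈ D.diagonalSubgroup F := by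
  rw [g.diagonal_eq_range]; exact ⟨c, rfl⟩

lemma diagonal_comm {x y : GL D.Idx F} (hx : x ∈ D.diagonalSubgroup F)
    (hy : y ∈ D.diagonalSubgroup F) : x * y = y * x := by
  rw [g.diagonal_eq_range] at hx hy
  obtain ⟨c, rfl⟩ := hx
  obtain ⟨d, rfl⟩ := hy
  rw [← map_mul, ← map_mul, mul_comm]

lemma diagonal_offdiag {x : GL D.Idx F} (hx : x ∈ D.diagonalSubgroup F) {a b : D.Idx}
    (hab : a ≠ b) : (x : Matrix D.Idx D.Idx F) a b = 0 := by
  rw [g.diagonal_eq_range] at hx
  obtain ⟨c, rfl⟩ := hx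
  rw [torHom_apply, Matrix.diagonal_apply_ne _ hab]

/-- The value of a torus element at a root. -/
lemma torHom_conj_xG (c : Fin D.rank → Fˣ) {s : ℕ} (hs : s < D.nroots) (t : F) :
    torHom D F c * g.xG s t * (torHom D F c)⁻¹ =
      g.xG s (((∏ i : Fin D.rank, c i ^ D.cartan i s : Fˣ) : F) * t) := by
  suffices H : ∀ (S : Finset (Fin D.rank)) (t : F),
      torHom D F (∏ i ∈ S, Pi.mulSingle i (c i)) * g.xG s t *
        (torHom D F (∏ i ∈ S, Pi.mulSingle i (c i)))⁻¹ =
      g.xG s (((∏ i ∈ S, c i ^ D.cartan i s : Fˣ) : F) * t) by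
    have := H Finset.univ t
    rwa [Finset.univ_prod_mulSingle] at this
  intro S
  induction S using Finset.induction with
  | empty => intro t; simp
  | insert a S ha ih =>
    intro t
    rw [Finset.prod_insert ha, Finset.prod_insert ha, map_mul, _root_.mul_inv_rev,
      Units.val_mul, mul_assoc ((c a ^ D.cartan a s : Fˣ) : F)]
    calc _ = torHom D F (Pi.mulSingle a (c a)) *
          (torHom D F (∏ i ∈ S, Pi.mulSingle i (c i)) * g.xG s t *
            (torHom D F (∏ i ∈ S, Pi.mulSingle i (c i)))⁻¹) *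
          (torHom D F (Pi.mulSingle a (c a)))⁻¹ := by simp only [mul_assoc]
      _ = _ := by
        rw [ih, g.torHom_single, g.hG_conj_xG hs, g.pair_simple a.2 hs]

lemma diagonal_conj_xG {h : GL D.Idx F} (hh : h ∈ D.diagonalSubgroup F) {s : ℕ}
    (hs : s < D.nroots) (t : F) : ∃ c : Fˣ, h * g.xG s t * h⁻¹ = g.xG s ((c : F) * t) := by
  rw [g.diagonal_eq_range] at hh
  obtain ⟨c, rfl⟩ := hh
  exact ⟨_, g.torHom_conj_xG c hs t⟩

lemma hG_eq_one (r : ℕ) : g.hG r (1 : Fˣ) = 1 := map_one _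

lemma nG_inv_one {r : ℕ} (hr : r < D.nroots) :
    (g.nG r (1 : Fˣ))⁻¹ = g.nG r (-1) := g.nG_inv hr 1

lemma nG_eq_hG_mul {r : ℕ} (hr : r < D.nroots) (t : Fˣ) :
    g.nG r t = g.hG r t * g.nG r 1 := by
  rw [g.hG_eq hr, mul_assoc, ← g.nG_inv_one hr, inv_mul_cancel, mul_one]

/-- Conjugation of `n_r` by `n_i`. -/
lemma nG_conj_nG {i r : ℕ} (hi : i < D.rank) (hr : r < D.nroots) :
    ∃ e : Fˣ, ∀ u : Fˣ, g.nG (D.simple i) 1 * g.nG r u * (g.nG (D.simple i) 1)⁻¹ =
      g.nG (D.reflectRoot i r) (e * u) := by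
  obtain ⟨e, he, hee⟩ : ∃ e : Fˣ, (e : F) = (g.eta i r : F) ∧ e * e = 1 := by
    rcases g.eta_sign hi hr with h | h
    · exact ⟨1, by simp [h], one_mul 1⟩
    · exact ⟨-1, by simp [h], by simp⟩
  refine ⟨e, fun u => ?_⟩
  have hen : g.eta i (D.neg r) = g.eta i r :=
    (StructChecks.eta_facts g.lie g.struc hi hr).2.1
  have h1 := g.nG_conj_xG hi hr (u : F)
  have h2 := g.nG_conj_xG hi (g.neg_lt hr) (-((u⁻¹ : Fˣ) : F))
  rw [g.refl_neg hi hr, hen] at h2
  rw [show g.nG r u = g.xG r (u : F) * g.xG (D.neg r) (-((u⁻¹ : Fˣ) : F)) * g.xG r (u : F) from rfl]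
  rw [show g.nG (D.simple i) 1 * (g.xG r (u : F) * g.xG (D.neg r) (-((u⁻¹ : Fˣ) : F)) * g.xG r (u : F)) *
      (g.nG (D.simple i) 1)⁻¹ = (g.nG (D.simple i) 1 * g.xG r (u : F) * (g.nG (D.simple i) 1)⁻¹) *
      (g.nG (D.simple i) 1 * g.xG (D.neg r) (-((u⁻¹ : Fˣ) : F)) * (g.nG (D.simple i) 1)⁻¹) *
      (g.nG (D.simple i) 1 * g.xG r (u : F) * (g.nG (D.simple i) 1)⁻¹) by group, h1, h2, nG,
    Units.val_mul, _root_.mul_inv_rev, inv_eq_of_mul_eq_one_left hee, Units.val_mul, he]
  simp [mul_comm]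

/-- The group generated by `H` and the `n_i`. -/
theorem monomial_eq :
    D.monomialSubgroup F = D.diagonalSubgroup F ⊔
      Subgroup.closure {x | ∃ i < D.rank, x = g.nG (D.simple i) 1} := by
  refine le_antisymm (sup_le le_sup_left ((Subgroup.closure_le _).2 ?_))
    (sup_le le_sup_left ((Subgroup.closure_le _).2 ?_))
  · rintro x ⟨r, hr, hx⟩
    rw [show x = g.nG r 1 from Units.ext (by rw [coe_nG, hx]; simp)]
    refine g.root_induction (P := fun r => g.nG r (1 : Fˣ) ∈ _) ?_ ?_ hr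
    · exact fun i hi => Subgroup.mem_sup_right (Subgroup.subset_closure ⟨i, hi, rfl⟩)
    · intro i hi s hs ih
      obtain ⟨e, he⟩ := g.nG_conj_nG (F := F) hi hs
      have hmem : g.nG (D.simple i) 1 ∈ D.diagonalSubgroup F ⊔
          Subgroup.closure {x | ∃ i < D.rank, x = g.nG (D.simple i) 1} :=
        Subgroup.mem_sup_right (Subgroup.subset_closure ⟨i, hi, rfl⟩)
      have h1 := he 1
      rw [mul_one, g.nG_eq_hG_mul (g.refl_lt hi hs)] at h1
      rw [SetLike.mem_coe, eq_inv_mul_iff_mul_eq.2 h1.symm]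
      exact mul_mem (inv_mem (Subgroup.mem_sup_left (g.hG_mem (g.refl_lt hi hs) e)))
        (mul_mem (mul_mem hmem ih) (inv_mem hmem))
  · rintro x ⟨i, hi, rfl⟩
    exact g.nG_mem (g.simple_lt hi)

lemma monomial_induction {P : GL D.Idx F → Prop} (hH : ∀ h ∈ D.diagonalSubgroup F, P h)
    (hn : ∀ i < D.rank, P (g.nG (D.simple i) 1)) (hn' : ∀ i < D.rank, P (g.nG (D.simple i) 1)⁻¹)
    (hmul : ∀ x y, x ∈ D.monomialSubgroup F → y ∈ D.monomialSubgroup F → P x → P y → P (x * y))
    {x : GL D.Idx F} (hx : x ∈ D.monomialSubgroup F) : P x := by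
  have hN := g.monomial_eq (F := F)
  rw [hN, ← Subgroup.closure_eq (D.diagonalSubgroup F), ← Subgroup.closure_union] at hx
  rw [← Subgroup.closure_eq (D.diagonalSubgroup F), ← Subgroup.closure_union] at hN
  induction hx using Subgroup.closure_induction'' with
  | mem y hy =>
    rcases hy with hy | ⟨i, hi, rfl⟩
    · exact hH y hy
    · exact hn i hi
  | inv_mem y hy =>
    rcases hy with hy | ⟨i, hi, rfl⟩
    · exact hH _ (inv_mem hy)
    · exact hn' i hi
  | one => exact hH 1 (one_mem _)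
  | mul y z hy hz py pz => exact hmul y z (hN ▸ hy) (hN ▸ hz) py pz

/-- `H` is normalised by `N`. -/
theorem monomial_le_normalizer :
    D.monomialSubgroup F ≤ Subgroup.normalizer (D.diagonalSubgroup F : Set (GL D.Idx F)) := by
  rw [g.monomial_eq]
  refine sup_le Subgroup.le_normalizer ((Subgroup.closure_le _).2 ?_)
  rintro x ⟨i, hi, rfl⟩
  have step : ∀ h ∈ D.diagonalSubgroup F,
      g.nG (D.simple i) 1 * h * (g.nG (D.simple i) 1)⁻¹ ∈ D.diagonalSubgroup F := by
    intro h hh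
    have hle : D.diagonalSubgroup F ≤
        (D.diagonalSubgroup F).comap (MulAut.conj (g.nG (D.simple i) 1)).toMonoidHom := by
      refine (Subgroup.closure_le _).2 ?_
      rintro y ⟨r, t, hr, ht, hy⟩
      obtain rfl : y = g.hG r (Units.mk0 t ht) := Units.ext (by rw [g.coe_hG hr, hy]; rfl)
      show g.nG (D.simple i) 1 * g.hG r _ * (g.nG (D.simple i) 1)⁻¹ ∈ D.diagonalSubgroup F
      rw [g.nG_conj_hG hi hr]
      exact g.hG_mem (g.refl_lt hi hr) _
    exact hle hh
  rw [SetLike.mem_coe, Subgroup.mem_normalizer_iff]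
  refine fun h => ⟨fun hh => step h hh, fun hh => ?_⟩
  have hp := g.simple_lt hi
  have h2 := step _ hh
  -- `n_i * n_i` lies in `H`
  have hs : g.nG (D.simple i) (1 : Fˣ) * g.nG (D.simple i) 1 ∈ D.diagonalSubgroup F := by
    have : g.nG (D.simple i) (1 : Fˣ) * g.nG (D.simple i) 1 = (g.hG (D.simple i) (-1))⁻¹ := by
      rw [g.hG_eq hp, ← g.nG_inv_one hp, _root_.mul_inv_rev, inv_inv]
    rw [this]; exact inv_mem (g.hG_mem hp _)
  have h3 : g.nG (D.simple i) 1 * g.nG (D.simple i) 1 * h *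
      (g.nG (D.simple i) 1 * g.nG (D.simple i) 1)⁻¹ ∈ D.diagonalSubgroup F := by
    simpa only [_root_.mul_inv_rev, mul_assoc] using h2
  simpa [mul_assoc] using mul_mem (mul_mem (inv_mem hs) h3) hs

lemma diagonal_le_group : D.diagonalSubgroup F ≤ D.group F := by
  refine (Subgroup.closure_le _).2 ?_
  rintro x ⟨r, t, hr, ht, hx⟩
  rw [show x = g.hG r (Units.mk0 t ht) from Units.ext (by rw [g.coe_hG hr, hx]; rfl), SetLike.mem_coe,
    g.hG_eq hr]
  simp only [nG]
  exact mul_mem (mul_mem (mul_mem (g.xG_mem_group hr _) (g.xG_mem_group (g.neg_lt hr) _))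
    (g.xG_mem_group hr _)) (mul_mem (mul_mem (g.xG_mem_group hr _)
    (g.xG_mem_group (g.neg_lt hr) _)) (g.xG_mem_group hr _))

lemma monomial_le_group : D.monomialSubgroup F ≤ D.group F := by
  refine sup_le g.diagonal_le_group ((Subgroup.closure_le _).2 ?_)
  rintro x ⟨r, hr, hx⟩
  rw [show x = g.nG r 1 from Units.ext (by rw [coe_nG, hx]; simp), SetLike.mem_coe, nG]
  exact mul_mem (mul_mem (g.xG_mem_group hr _) (g.xG_mem_group (g.neg_lt hr) _))
    (g.xG_mem_group hr _)

lemma posUnipotent_le_group : D.posUnipotent F ≤ D.group F := by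
  refine (Subgroup.closure_le _).2 ?_
  rintro x ⟨r, t, hr, hx⟩
  rw [g.eq_xG hx]
  exact g.xG_mem_group hr.1 t

lemma negUnipotent_le_group : D.negUnipotent F ≤ D.group F := by
  refine (Subgroup.closure_le _).2 ?_
  rintro x ⟨r, t, hr, hx⟩
  rw [g.eq_xG hx]
  exact g.xG_mem_group hr.1 t

lemma group_le {K : Subgroup (GL D.Idx F)}
    (h : ∀ r < D.nroots, ∀ t : F, g.xG r t ∈ K) : D.group F ≤ K := by
  refine (Subgroup.closure_le _).2 ?_
  rintro x ⟨r, t, hx⟩
  rw [g.eq_xG (u := x) (r := r) (t := t) (by rw [ChevalleyDatum.x, dif_pos r.2, hx])]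
  exact h r r.2 t

theorem posUnipotent_sup_neg : D.posUnipotent F ⊔ D.negUnipotent F = D.group F := by
  refine le_antisymm (sup_le g.posUnipotent_le_group g.negUnipotent_le_group) (g.group_le ?_)
  intro r hr t
  by_cases hp : half D ≤ r
  · exact Subgroup.mem_sup_left (g.xG_mem_posUnipotent ((g.isPosRoot_iff r).2 ⟨hp, hr⟩) t)
  · exact Subgroup.mem_sup_right (g.xG_mem_negUnipotent ((g.isNegRoot_iff r).2 (by omega)) t)

theorem borel_sup_monomial :
    D.borelSubgroup F ⊔ D.monomialSubgroup F = D.group F := by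
  refine le_antisymm (sup_le (sup_le g.posUnipotent_le_group g.diagonal_le_group) g.monomial_le_group)
    (g.group_le fun r hr => ?_)
  refine g.root_induction (P := fun r => ∀ t : F,
    g.xG r t ∈ D.borelSubgroup F ⊔ D.monomialSubgroup F) ?_ ?_ hr
  · exact fun i hi t => Subgroup.mem_sup_left (Subgroup.mem_sup_left
      (g.xG_mem_posUnipotent ((g.isPosRoot_iff _).2 ⟨g.simple_pos hi, g.simple_lt hi⟩) t))
  · intro i hi s hs ih t
    have hn : g.nG (D.simple i) (1 : Fˣ) ∈ D.borelSubgroup F ⊔ D.monomialSubgroup F :=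
      Subgroup.mem_sup_right (g.nG_mem (g.simple_lt hi))
    have h := mul_mem (mul_mem hn (ih ((g.eta i s : F) * t))) (inv_mem hn)
    rw [g.nG_conj_xG hi hs] at h
    rcases g.eta_sign hi hs with he | he <;> rw [he] at h <;> simpa using h

end Good

end CfsgLib.Chev
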