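import Mathlib
import Cfsg.Agent.Lib.Chev.CommFormula
import Cfsg.Agent.Lib.Chev.TorusH

/-!
The unipotent subgroups: closed sets of roots, the filtration by the root order, normal forms.
-/

set_option autoImplicit false

namespace CfsgLib.Chev

open Cfsg.Lie Matrix

variable {D : ChevalleyDatum} {F : Type*} [Field F]

/-- The subgroup generated by the root subgroups of a set of roots. -/
def rootGen (D : ChevalleyDatum) (F : Type*) [Field F] (S : Set ℕ) : Subgroup (GL D.Idx F) :=
  Subgroup.closure {x | ∃ (r : ℕ) (t : F), r ∈ S ∧ r < D.nroots ∧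
    (x : Matrix D.Idx D.Idx F) = D.x F r t}

/-- Off-diagonal entries raise the weight by more than `c`; the diagonal is `1`. -/
def Above (W : D.Idx → ℤ) (c : ℤ) (M : Matrix D.Idx D.Idx F) : Prop :=
  ∀ a b, (a = b → M a b = 1) ∧ (a ≠ b → M a b ≠ 0 → c < W a - W b)

lemma Above.mono {W : D.Idx → ℤ} {c c' : ℤ} (h : c' ≤ c) {M : Matrix D.Idx D.Idx F}
    (hM : Above W c M) : Above W c' M :=
  fun a b => ⟨(hM a b).1, fun hab hne => h.trans_lt ((hM a b).2 hab hne)⟩

lemma above_one (W : D.Idx → ℤ) (c : ℤ) : Above W c (1 : Matrix D.Idx D.Idx F) :=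
  fun a b => ⟨fun h => by rw [h, Matrix.one_apply_eq],
    fun h hne => absurd (Matrix.one_apply_ne h) hne⟩

lemma Above.mul {W : D.Idx → ℤ} {c : ℤ} (hc : 0 ≤ c) {M N : Matrix D.Idx D.Idx F}
    (hM : Above W c M) (hN : Above W c N) : Above W c (M * N) := by
  intro a b
  refine ⟨?_, ?_⟩
  · rintro rfl
    rw [Matrix.mul_apply, Finset.sum_eq_single a]
    · rw [(hM a a).1 rfl, (hN a a).1 rfl, one_mul]
    · intro k _ hk
      by_contra h
      have h1 := (hM a k).2 (Ne.symm hk) (left_ne_zero_of_mul h)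
      have h2 := (hN k a).2 hk (right_ne_zero_of_mul h)
      omega
    · simp
  · intro hab hne
    rw [Matrix.mul_apply] at hne
    obtain ⟨k, -, hk⟩ := Finset.exists_ne_zero_of_sum_ne_zero hne
    by_cases hak : a = k
    · subst hak; exact (hN a b).2 hab (right_ne_zero_of_mul hk)
    · have h1 := (hM a k).2 hak (left_ne_zero_of_mul hk)
      by_cases hkb : k = b
      · subst hkb; exact h1
      · have h2 := (hN k b).2 hkb (right_ne_zero_of_mul hk)
        omega

/-- A matrix strictly raising a weight, minus one, is nilpotent. -/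
lemma Above.sub_one_pow {W : D.Idx → ℤ} {M : Matrix D.Idx D.Idx F} (hM : Above W 0 M) :
    (M - 1) ^ (D.rank + D.nroots) = 0 := by
  classical
  let ρ : D.Idx → ℕ := fun a => (Finset.univ.filter fun b => W b < W a).card
  have hρ : ∀ a b, W b < W a → ρ b < ρ a := fun a b h =>
    Finset.card_lt_card ⟨fun x hx => by simp only [Finset.mem_filter] at hx ⊢; exact ⟨hx.1, hx.2.trans h⟩,
      fun hsub => absurd (hsub (show b ∈ Finset.univ.filter fun x => W x < W a by simp [h])) (by simp)⟩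
  have hk : ∀ (k : ℕ) (a b : D.Idx), ((M - 1) ^ k) a b ≠ 0 → ρ b + k ≤ ρ a := by
    intro k
    induction k with
    | zero =>
      intro a b h
      rw [pow_zero] at h
      by_cases hab : a = b
      · subst hab; omega
      · exact absurd (Matrix.one_apply_ne hab) h
    | succ k ih =>
      intro a b h
      rw [pow_succ, Matrix.mul_apply] at h
      obtain ⟨m, -, hm⟩ := Finset.exists_ne_zero_of_sum_ne_zero h
      have h1 := ih a m (left_ne_zero_of_mul hm)
      have h2 := right_ne_zero_of_mul hm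
      have hmb : m ≠ b := fun hc => h2 (by rw [hc, Matrix.sub_apply, Matrix.one_apply_eq, (hM b b).1 rfl, sub_self])
      rw [Matrix.sub_apply, Matrix.one_apply_ne hmb, sub_zero] at h2
      have := hρ m b (by have := (hM m b).2 hmb h2; omega)
      omega
  ext a b
  by_contra h
  have := hk _ a b h
  have h2 : ρ a < D.rank + D.nroots := by
    have : (Finset.univ.filter fun b => W b < W a).card < (Finset.univ : Finset D.Idx).card :=
      Finset.card_lt_card (Finset.filter_ssubset.2 ⟨a, Finset.mem_univ _, lt_irrefl _⟩)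
    simpa [ρ] using this
  omega

namespace Good

variable (g : Good D)
include g

lemma mem_rootGen {S : Set ℕ} {r : ℕ} (hr : r < D.nroots) (hS : r ∈ S) (t : F) :
    g.xG r t ∈ rootGen D F S := Subgroup.subset_closure ⟨r, t, hS, hr, rfl⟩

lemma rootGen_le {S : Set ℕ} {K : Subgroup (GL D.Idx F)}
    (h : ∀ r ∈ S, r < D.nroots → ∀ t : F, g.xG r t ∈ K) : rootGen D F S ≤ K := by
  refine (Subgroup.closure_le _).2 ?_
  rintro x ⟨r, t, hS, hr, hx⟩
  rw [g.eq_xG hx]
  exact h r hS hr t

lemma rootGen_mono {S T : Set ℕ} (h : ∀ r ∈ S, r < D.nroots → r ∈ T) :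
    rootGen D F S ≤ rootGen D F T :=
  g.rootGen_le fun r hS hr t => g.mem_rootGen hr (h r hS hr) t

theorem posUnipotent_eq : D.posUnipotent F = rootGen D F (Set.Ici (half D)) := by
  refine le_antisymm ((Subgroup.closure_le _).2 ?_) (g.rootGen_le fun r hS hr t =>
    g.xG_mem_posUnipotent ((g.isPosRoot_iff r).2 ⟨hS, hr⟩) t)
  rintro x ⟨r, t, hr, hx⟩
  rw [g.eq_xG hx]
  exact g.mem_rootGen hr.1 ((g.isPosRoot_iff r).1 hr).1 t

theorem negUnipotent_eq : D.negUnipotent F = rootGen D F (Set.Iio (half D)) := by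
  refine le_antisymm ((Subgroup.closure_le _).2 ?_) (g.rootGen_le fun r hS hr t =>
    g.xG_mem_negUnipotent ((g.isNegRoot_iff r).2 hS) t)
  rintro x ⟨r, t, hr, hx⟩
  rw [g.eq_xG hx]
  exact g.mem_rootGen hr.1 ((g.isNegRoot_iff r).1 hr) t

/-! ### Coordinates of the terms of the commutator formula -/

omit g in
lemma rmat_grade {w : D.Idx → ℤ} {d : ℤ} {r : ℕ} {dat : LieData} (h : LieChecks D dat)
    (hr : r < D.nroots) (h1 : Relates w (fun k => w k + d) (rmat D r 1)) {k : ℕ}
    (hk : k ∈ [1, 2, 3]) : Relates w (fun j => w j + (k : ℤ) * d) (rmat D r k) := by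
  obtain ⟨h2, h3⟩ := StructChecks.graded_all h hr h1
  simp only [List.mem_cons, List.not_mem_nil, or_false] at hk
  rcases hk with rfl | rfl | rfl
  · simpa using h1
  · exact_mod_cast h2
  · exact_mod_cast h3

lemma chainRoot_co (hc : HasComm D) {r s i k : ℕ} (hr : r < D.nroots) (hs : s < D.nroots)
    (hi : i ∈ [1, 2, 3]) (h : D.chainRoot r s i = some k) {j : ℕ} (hj : j < D.rank) :
    g.co k j = (i : ℤ) * g.co r j + g.co s j := by
  obtain ⟨a3, hok⟩ := hc
  simp only [commOK, Bool.and_eq_true] at hok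
  have hne : s ≠ fneg D r := by
    rintro rfl
    rw [ChevalleyDatum.chainRoot, g.chainEntry_neg hr] at h
    simp at h
  have hk := g.chainRoot_lt hr h
  rw [ChevalleyDatum.chainRoot, Option.map_eq_some_iff] at h
  obtain ⟨q, hq, rfl⟩ := h
  have hcol := g.fcol_chain hr hi hne
  rw [hq] at hcol
  simp only [Option.map_some, Option.toList_some] at hcol
  have hq2 : q.2 ≠ 0 := nz_check hok.1.2 hr hs hi hne (p := (D.rank + q.1, q.2)) (by rw [hcol]; simp)
  have hg := rmat_grade g.lie hr (StructChecks.graded_one g.lie g.struc hr hj) hi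
    (Sum.inr ⟨q.1, hk⟩) (Sum.inr ⟨s, hs⟩) (by
      rw [g.lie.rmat_apply hr hi, ix_inr, ix_inr, hcol, coef_cons, coef_nil]
      simpa using hq2)
  simp only [wCo, Sum.elim_inr] at hg
  show rootCo g.dat q.1 j = (i : ℤ) * rootCo g.dat r j + rootCo g.dat s j
  rw [hg]; ring

lemma commTerms_co (hc : HasComm D) {r s : ℕ} (hr : r < D.nroots) (hs : s < D.nroots) :
    ∀ c ∈ D.commTerms r s, c.1 < D.nroots ∧ 1 ≤ c.2.2.1 ∧ 1 ≤ c.2.2.2 ∧
      ∀ j < D.rank, g.co c.1 j = (c.2.2.1 : ℤ) * g.co r j + (c.2.2.2 : ℤ) * g.co s j := by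
  intro c hmem
  refine ⟨g.fterms_lt hr hs c (by rw [g.fterms_eq hr hs]; exact hmem), ?_⟩
  rw [ChevalleyDatum.commTerms, List.mem_filterMap] at hmem
  obtain ⟨a, ha, hac⟩ := hmem
  rw [Option.map_eq_some_iff] at hac
  obtain ⟨k, hk, rfl⟩ := hac
  simp only [List.mem_cons, List.not_mem_nil, or_false] at ha
  rcases ha with rfl | rfl | rfl | rfl | rfl | rfl | rfl <;> refine ⟨by simp, by simp, fun j hj => ?_⟩
  · rw [g.chainRoot_co hc hr hs (by simp) hk hj]; ring
  · rw [g.chainRoot_co hc hr hs (by simp) hk hj]; ring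
  · rw [g.chainRoot_co hc hs hr (by simp) hk hj]; ring
  · rw [g.chainRoot_co hc hr hs (by simp) hk hj]; ring
  · rw [g.chainRoot_co hc hs hr (by simp) hk hj]; ring
  · obtain ⟨m, hm1, hm2⟩ := Option.bind_eq_some_iff.1 hk
    rw [g.chainRoot_co hc (g.chainRoot_lt hr hm1) hs (by simp) hm2 hj,
      g.chainRoot_co hc hr hs (by simp) hm1 hj]
    push_cast; ring
  · obtain ⟨m, hm1, hm2⟩ := Option.bind_eq_some_iff.1 hk
    rw [g.chainRoot_co hc (g.chainRoot_lt hs hm1) hr (by simp) hm2 hj,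
      g.chainRoot_co hc hs hr (by simp) hm1 hj]
    push_cast; ring

lemma wt_lin {k r s : ℕ} {a b : ℤ}
    (h : ∀ j < D.rank, g.co k j = a * g.co r j + b * g.co s j) :
    g.wt k = a * g.wt r + b * g.wt s := by
  simp only [wt_eq, Finset.mul_sum, ← Finset.sum_add_distrib]
  exact Finset.sum_congr rfl fun j hj => by rw [h j (Finset.mem_range.1 hj)]; ring

/-- The commutator formula as a conjugation. -/
theorem xG_conj (hc : HasComm D) {r s : ℕ} (hr : r < D.nroots) (hs : s < D.nroots) (hrs : r ≠ s)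
    (hneg : r ≠ D.neg s) (t u : F) :
    g.xG s u * g.xG r t * (g.xG s u)⁻¹ =
      g.xG r t * ((D.commTerms s r).map fun c =>
        g.xG c.1 ((c.2.1 : F) * u ^ c.2.2.1 * t ^ c.2.2.2)).prod := by
  have h := g.comm_formula hc hs hr hrs hneg (-u) t
  have hprod : ((((D.commTerms s r).map fun c =>
      g.xG c.1 ((c.2.1 : F) * u ^ c.2.2.1 * t ^ c.2.2.2)).prod : GL D.Idx F) :
      Matrix D.Idx D.Idx F) = D.wordMat F (D.commWord F s r (-u) t) := by
    rw [show ∀ l : List (GL D.Idx F), ((l.prod : GL D.Idx F) : Matrix D.Idx D.Idx F) =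
      (l.map fun x : GL D.Idx F => (x : Matrix D.Idx D.Idx F)).prod from fun l =>
      map_list_prod (Units.coeHom (Matrix D.Idx D.Idx F)) l]
    simp [ChevalleyDatum.wordMat, ChevalleyDatum.commWord, List.map_map, Function.comp_def, coe_xG]
  rw [mul_inv_eq_iff_eq_mul]
  have h' : g.xG r t * g.xG s (-u) = g.xG s (-u) * g.xG r t *
      ((D.commTerms s r).map fun c => g.xG c.1 ((c.2.1 : F) * u ^ c.2.2.1 * t ^ c.2.2.2)).prod := by
    refine Units.ext ?_
    rw [Units.val_mul, Units.val_mul, Units.val_mul, hprod]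
    exact h
  rw [← g.xG_inv] at h'
  have := congrArg (fun z => g.xG s u * z * g.xG s u) h'
  simpa [mul_assoc] using this

lemma conj_mem (hc : HasComm D) {S : Set ℕ} {r s : ℕ} (hr : r < D.nroots) (hs : s < D.nroots)
    (hrS : r ∈ S) (hrs : r ≠ s) (hneg : r ≠ D.neg s)
    (hS : ∀ (k : ℕ) (i j : ℕ), k < D.nroots → 1 ≤ i → 1 ≤ j →
      (∀ m < D.rank, g.co k m = (i : ℤ) * g.co s m + (j : ℤ) * g.co r m) → k ∈ S) (t u : F) :
    g.xG s u * g.xG r t * (g.xG s u)⁻¹ ∈ rootGen D F S := by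
  rw [g.xG_conj hc hr hs hrs hneg]
  refine mul_mem (g.mem_rootGen hr hrS t) (Subgroup.list_prod_mem _ fun x hx => ?_)
  obtain ⟨c, hc', rfl⟩ := List.mem_map.1 hx
  obtain ⟨h1, h2, h3, h4⟩ := g.commTerms_co hc hs hr c hc'
  exact g.mem_rootGen h1 (hS c.1 _ _ h1 h2 h3 h4) _

lemma le_normalizer_of_conj {S : Set ℕ} {s : ℕ}
    (h : ∀ r ∈ S, r < D.nroots → ∀ t u : F, g.xG s u * g.xG r t * (g.xG s u)⁻¹ ∈ rootGen D F S) :
    D.rootSubgroup F s ≤ Subgroup.normalizer (rootGen D F S : Set (GL D.Idx F)) := by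
  intro x hx
  obtain ⟨u, rfl⟩ := g.mem_rootSubgroup.1 hx
  have key : ∀ u : F, rootGen D F S ≤
      (rootGen D F S).comap (MulAut.conj (g.xG s u)).toMonoidHom := fun u =>
    g.rootGen_le fun r hS hr t => h r hS hr t u
  rw [Subgroup.mem_normalizer_iff]
  refine fun y => ⟨fun hy => key u hy, fun hy => ?_⟩
  have h1 : g.xG s (-u) * (g.xG s u * y * (g.xG s u)⁻¹) * (g.xG s (-u))⁻¹ ∈ rootGen D F S :=
    key (-u) hy
  rw [← g.xG_inv] at h1
  simpa [mul_assoc] using h1

lemma Ici_conj (hc : HasComm D) {m r s : ℕ} (hm : half D ≤ m) (hr : r < D.nroots)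
    (hs : s < D.nroots) (hrm : m ≤ r) (hsp : half D ≤ s) (t u : F) :
    g.xG s u * g.xG r t * (g.xG s u)⁻¹ ∈ rootGen D F (Set.Ici m) := by
  by_cases hrs : r = s
  · subst hrs
    rw [show g.xG r u * g.xG r t * (g.xG r u)⁻¹ = g.xG r t by
      rw [g.xG_inv, g.xG_add, g.xG_add, show u + t + -u = t by ring]]
    exact g.mem_rootGen hr hrm t
  have hneg : r ≠ D.neg s := by
    have := (g.neg_neg_iff hs).2 hsp; omega
  refine g.conj_mem hc hr hs hrm hrs hneg (fun k i j hk hi hj hco => ?_) t u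
  have h1 := g.wt_lin hco
  have hws := g.wt_pos hsp hs
  have hwr := g.wt_pos (hm.trans hrm) hr
  have : g.wt r < g.wt k := by
    rw [h1]
    nlinarith [show (1 : ℤ) ≤ i from by exact_mod_cast hi, show (1 : ℤ) ≤ j from by exact_mod_cast hj]
  exact le_trans hrm (g.lt_of_wt_lt hr this).le

theorem pos_le_normalizer (hc : HasComm D) {m : ℕ} (hm : half D ≤ m) :
    D.posUnipotent F ≤ Subgroup.normalizer (rootGen D F (Set.Ici m) : Set (GL D.Idx F)) := by
  rw [g.posUnipotent_eq]
  exact g.rootGen_le fun s hS hs u =>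
    g.le_normalizer_of_conj (fun r hrm hr t v => g.Ici_conj hc hm hr hs hrm hS t v)
      (g.xG_mem_rootSubgroup s u)

lemma Ici_step (hc : HasComm D) {m : ℕ} (hm : half D ≤ m) (hm' : m < D.nroots) {x : GL D.Idx F}
    (hx : x ∈ rootGen D F (Set.Ici m)) :
    ∃ (a : F) (y : GL D.Idx F), y ∈ rootGen D F (Set.Ici (m + 1)) ∧ x = g.xG m a * y := by
  have hle : D.rootSubgroup F m ≤
      Subgroup.normalizer (rootGen D F (Set.Ici (m + 1)) : Set (GL D.Idx F)) := by
    refine le_trans ?_ (g.pos_le_normalizer hc (by omega))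
    intro y hy
    obtain ⟨t, rfl⟩ := g.mem_rootSubgroup.1 hy
    exact g.xG_mem_posUnipotent ((g.isPosRoot_iff m).2 ⟨hm, hm'⟩) t
  have : rootGen D F (Set.Ici m) ≤ D.rootSubgroup F m ⊔ rootGen D F (Set.Ici (m + 1)) :=
    g.rootGen_le fun r hS hr t => by
      rcases eq_or_lt_of_le (show m ≤ r from hS) with rfl | hlt
      · exact Subgroup.mem_sup_left (g.xG_mem_rootSubgroup _ t)
      · exact Subgroup.mem_sup_right (g.mem_rootGen hr hlt t)
  have hx' := SetLike.mem_coe.2 (this hx)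
  rw [Subgroup.coe_mul_of_left_le_normalizer_right _ _ hle] at hx'
  obtain ⟨z, hz, y, hy, rfl⟩ := Set.mem_mul.1 hx'
  obtain ⟨a, rfl⟩ := g.mem_rootSubgroup.1 hz
  exact ⟨a, y, hy, rfl⟩

lemma Ici_empty {m : ℕ} (hm : D.nroots ≤ m) : rootGen D F (Set.Ici m) = ⊥ :=
  le_bot_iff.1 (g.rootGen_le fun r hS hr t => absurd (lt_of_lt_of_le hr (hm.trans hS)) (lt_irrefl _))

/-- The ordered product over the roots of index at least `m`. -/
noncomputable def xProd (t : ℕ → F) (m : ℕ) : GL D.Idx F :=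
  ((List.range' m (D.nroots - m)).map fun r => g.xG r (t r)).prod

lemma xProd_succ (t : ℕ → F) {m : ℕ} (hm : m < D.nroots) :
    g.xProd t m = g.xG m (t m) * g.xProd t (m + 1) := by
  rw [xProd, xProd, show D.nroots - m = (D.nroots - (m + 1)) + 1 by omega, List.range'_succ,
    List.map_cons, List.prod_cons]

lemma xProd_mem (t : ℕ → F) (m : ℕ) : g.xProd t m ∈ rootGen D F (Set.Ici m) := by
  refine Subgroup.list_prod_mem _ fun x hx => ?_
  obtain ⟨r, hr, rfl⟩ := List.mem_map.1 hx
  rw [List.mem_range'_1] at hr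
  exact g.mem_rootGen (by omega) hr.1 _

theorem exists_xProd (hc : HasComm D) {m : ℕ} (hm : half D ≤ m) {x : GL D.Idx F}
    (hx : x ∈ rootGen D F (Set.Ici m)) : ∃ t : ℕ → F, x = g.xProd t m := by
  induction' hk : D.nroots - m with k ih generalizing m x
  · refine ⟨fun _ => 0, ?_⟩
    rw [g.Ici_empty (by omega), Subgroup.mem_bot] at hx
    simp [hx, xProd, hk]
  · obtain ⟨a, y, hy, rfl⟩ := g.Ici_step hc hm (by omega) hx
    obtain ⟨t, rfl⟩ := ih (m := m + 1) (by omega) hy (by omega)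
    refine ⟨Function.update t m a, ?_⟩
    rw [g.xProd_succ _ (show m < D.nroots by omega), Function.update_self]
    congr 1
    simp only [xProd]
    refine congrArg List.prod (List.map_congr_left fun r hr => ?_)
    rw [List.mem_range'_1] at hr
    rw [Function.update_of_ne (by omega)]

/-! ### Triangularity -/

/-- The weight of a basis vector. -/
noncomputable def bwt : D.Idx → ℤ := Sum.elim (0 : Fin D.rank → ℤ) fun u => g.wt u

lemma bwt_graded {r : ℕ} (hr : r < D.nroots) :
    Relates g.bwt (fun k => g.bwt k + g.wt r) (rmat D r 1) := by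
  intro a b hne
  have e : ∀ x : D.Idx, g.bwt x =
      ∑ j ∈ Finset.range D.rank, wCo D g.dat j x * ((16 ^ (D.rank - 1 - j) : ℕ) : ℤ) := by
    rintro (c | v)
    · simp [bwt, wCo]
    · simp [bwt, wt_eq, wCo, co]
  show g.bwt a = g.bwt b + g.wt r
  rw [e a, e b, g.wt_eq, ← Finset.sum_add_distrib]
  refine Finset.sum_congr rfl fun j hj => ?_
  have := StructChecks.graded_one g.lie g.struc hr (Finset.mem_range.1 hj) a b hne
  simp only at this
  rw [this, co]; ring

/-- Entries of a root element sit at multiples of the weight of the root. -/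
lemma x_entry {r : ℕ} (hr : r < D.nroots) (t : F) (a b : D.Idx) :
    (a = b → g.wt r ≠ 0 → D.x F r t a b = 1) ∧
    (a ≠ b → D.x F r t a b ≠ 0 → ∃ k : ℕ, 1 ≤ k ∧ g.bwt a - g.bwt b = (k : ℤ) * g.wt r) := by
  have hz : ∀ k ∈ [1, 2, 3], rmat D r k a b ≠ 0 → g.bwt a - g.bwt b = (k : ℤ) * g.wt r := by
    intro k hk hne
    have h := rmat_grade g.lie hr (g.bwt_graded hr) hk a b hne
    simp only at h
    omega
  rw [g.x_eq_xr hr]
  simp only [xr, amat, Matrix.add_apply, Matrix.smul_apply, Matrix.map_apply, smul_eq_mul]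
  refine ⟨?_, fun hab hne => ?_⟩
  · rintro rfl hw
    have h0 : ∀ k ∈ [1, 2, 3], rmat D r k a a = 0 := by
      intro k hk
      by_contra h
      have h' := hz k hk h
      rw [sub_self] at h'
      rcases mul_eq_zero.1 h'.symm with h'' | h''
      · simp only [List.mem_cons, List.not_mem_nil, or_false] at hk
        rcases hk with rfl | rfl | rfl <;> simp at h''
      · exact hw h''
    simp [h0 1 (by simp), h0 2 (by simp), h0 3 (by simp)]
  · by_contra hno
    push Not at hno
    have h0 : ∀ k ∈ [1, 2, 3], rmat D r k a b = 0 := by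
      intro k hk
      by_contra h
      refine hno k ?_ (hz k hk h)
      simp only [List.mem_cons, List.not_mem_nil, or_false] at hk
      omega
    simp [Matrix.one_apply_ne hab, h0 1 (by simp), h0 2 (by simp), h0 3 (by simp)] at hne

lemma Ici_above {m : ℕ} (hm : half D ≤ m) {c : ℤ} (hc : 0 ≤ c)
    (hlt : ∀ r, m ≤ r → r < D.nroots → c < g.wt r) {x : GL D.Idx F}
    (hx : x ∈ rootGen D F (Set.Ici m)) : Above g.bwt c (x : Matrix D.Idx D.Idx F) := by
  have gen : ∀ (r : ℕ) (t : F), m ≤ r → r < D.nroots → Above g.bwt c (D.x F r t) := by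
    intro r t hr hr' a b
    obtain ⟨h1, h2⟩ := g.x_entry hr' t a b
    refine ⟨fun h => h1 h (g.wt_pos (hm.trans hr) hr').ne', fun hab hne => ?_⟩
    obtain ⟨k, hk, e⟩ := h2 hab hne
    rw [e]
    nlinarith [hlt r hr hr', g.wt_pos (hm.trans hr) hr', show (1 : ℤ) ≤ k from by exact_mod_cast hk]
  induction hx using Subgroup.closure_induction'' with
  | mem y hy => obtain ⟨r, t, hS, hr, hy⟩ := hy; rw [hy]; exact gen r t hS hr
  | inv_mem y hy =>
    obtain ⟨r, t, hS, hr, hy⟩ := hy
    rw [g.eq_xG hy, g.xG_inv, coe_xG]; exact gen r (-t) hS hr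
  | one => exact above_one _ _
  | mul y z _ _ py pz => rw [Units.val_mul]; exact py.mul hc pz

lemma posUnipotent_above {x : GL D.Idx F} (hx : x ∈ D.posUnipotent F) :
    Above g.bwt 0 (x : Matrix D.Idx D.Idx F) := by
  rw [g.posUnipotent_eq] at hx
  exact g.Ici_above le_rfl le_rfl (fun r h1 h2 => g.wt_pos h1 h2) hx

lemma negUnipotent_above {x : GL D.Idx F} (hx : x ∈ D.negUnipotent F) :
    Above (fun a => - g.bwt a) 0 (x : Matrix D.Idx D.Idx F) := by
  rw [g.negUnipotent_eq] at hx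
  have gen : ∀ (r : ℕ) (t : F), r < half D → r < D.nroots →
      Above (fun a => - g.bwt a) 0 (D.x F r t) := by
    intro r t hh hr a b
    have hw : g.wt r < 0 := by
      have h := g.wt_pos (u := D.neg r)
        (by have := g.nroots_eq; rw [g.neg_rev hr]; omega) (g.neg_lt hr)
      rw [g.wt_neg hr] at h; omega
    obtain ⟨h1, h2⟩ := g.x_entry hr t a b
    refine ⟨fun h => h1 h hw.ne, fun hab hne => ?_⟩
    obtain ⟨k, hk, e⟩ := h2 hab hne
    nlinarith [show (1 : ℤ) ≤ k from by exact_mod_cast hk]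
  induction hx using Subgroup.closure_induction'' with
  | mem y hy => obtain ⟨r, t, hS, hr, hy⟩ := hy; rw [hy]; exact gen r t hS hr
  | inv_mem y hy =>
    obtain ⟨r, t, hS, hr, hy⟩ := hy
    rw [g.eq_xG hy, g.xG_inv, coe_xG]; exact gen r (-t) hS hr
  | one => exact above_one _ _
  | mul y z _ _ py pz => rw [Units.val_mul]; exact py.mul le_rfl pz

/-! ### Uniqueness -/

lemma coroot_unimodular {r : ℕ} (hr : r < D.nroots) :
    ∃ v : ℕ → ℤ, ∑ j ∈ Finset.range D.rank, v j * corootCo D r j = 1 := by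
  refine g.root_induction
    (P := fun r => ∃ v : ℕ → ℤ, ∑ j ∈ Finset.range D.rank, v j * corootCo D r j = 1) ?_ ?_ hr
  · intro i hi
    refine ⟨fun j => if i = j then 1 else 0, ?_⟩
    rw [Finset.sum_eq_single i]
    · simp [g.corootCo_simple hi hi]
    · intro j _ hj; simp [Ne.symm hj]
    · simp [hi]
  · intro i hi s hs ⟨v, hv⟩
    refine ⟨fun j => v j - v i * D.cartan j (D.simple i), ?_⟩
    set P := pair D s (D.simple i) with hPdef
    have hP : P = ∑ j ∈ Finset.range D.rank, corootCo D s j * D.cartan j (D.simple i) := rfl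
    have e : ∀ j ∈ Finset.range D.rank,
        (v j - v i * D.cartan j (D.simple i)) * corootCo D (D.reflectRoot i s) j =
          v j * corootCo D s j - v i * (corootCo D s j * D.cartan j (D.simple i)) -
            if i = j then (v i - v i * D.cartan i (D.simple i)) * P else 0 := by
      intro j hj
      rw [g.corootCo_refl hi hs (Finset.mem_range.1 hj)]
      by_cases hij : i = j
      · subst hij; simp only [if_pos]; ring
      · simp only [if_neg hij]; ring
    rw [Finset.sum_congr rfl e, Finset.sum_sub_distrib, Finset.sum_sub_distrib, hv, ← Finset.mul_sum,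
      ← hP, Finset.sum_ite_eq, if_pos (Finset.mem_range.2 hi), g.cartan_simple hi]
    ring

lemma x_coroot_entry {m : ℕ} (hm : m < D.nroots) (a : F) (j : Fin D.rank) :
    D.x F m a (Sum.inl j) (Sum.inr ⟨D.neg m, g.neg_lt hm⟩) = (corootCo D m j : F) * a := by
  have hne : (⟨D.neg m, g.neg_lt hm⟩ : Fin D.nroots) ≠ ⟨m, hm⟩ :=
    fun h => g.neg_ne hm (Fin.ext_iff.1 h)
  simp only [ChevalleyDatum.x, dif_pos hm, ChevalleyDatum.xMat, Matrix.of_apply, if_neg hne]
  rw [if_pos (show D.neg m = D.negIdx.getD m 0 from rfl)]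
  rfl

lemma Ici_coeff {m : ℕ} (hm : half D ≤ m) (hm' : m < D.nroots) (a : F) {y : GL D.Idx F}
    (hy : y ∈ rootGen D F (Set.Ici (m + 1))) (j : Fin D.rank) :
    ((g.xG m a * y : GL D.Idx F) : Matrix D.Idx D.Idx F) (Sum.inl j)
      (Sum.inr ⟨D.neg m, g.neg_lt hm'⟩) = (corootCo D m j : F) * a := by
  have hy' := g.Ici_above (m := m + 1) (c := g.wt m) (by omega) (g.wt_pos hm hm').le
    (fun r h1 h2 => g.wt_lt (by omega) h2) hy
  set e1 : D.Idx := Sum.inl j
  set e2 : D.Idx := Sum.inr ⟨D.neg m, g.neg_lt hm'⟩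
  have hw : g.bwt e1 - g.bwt e2 = g.wt m := by
    simp [e1, e2, bwt, g.wt_neg hm']
  rw [Units.val_mul, Matrix.mul_apply, Finset.sum_eq_single e2]
  · rw [(hy' e2 e2).1 rfl, mul_one, coe_xG]
    exact g.x_coroot_entry hm' a j
  · intro k _ hk
    by_contra h
    have h2 := (hy' k e2).2 hk (right_ne_zero_of_mul h)
    by_cases hk1 : e1 = k
    · subst hk1; omega
    · obtain ⟨n, hn, e⟩ := (g.x_entry hm' a e1 k).2 hk1 (left_ne_zero_of_mul h)
      have hp := g.wt_pos hm hm'
      nlinarith [show (1 : ℤ) ≤ n from by exact_mod_cast hn]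
  · simp

theorem Ici_unique {m : ℕ} (hm : half D ≤ m) (hm' : m < D.nroots) {a b : F}
    {y z : GL D.Idx F} (hy : y ∈ rootGen D F (Set.Ici (m + 1)))
    (hz : z ∈ rootGen D F (Set.Ici (m + 1))) (h : g.xG m a * y = g.xG m b * z) : a = b ∧ y = z := by
  have hab : a = b := by
    obtain ⟨v, hv⟩ := g.coroot_unimodular hm'
    have key : ∀ (c : F) (w : GL D.Idx F), w ∈ rootGen D F (Set.Ici (m + 1)) →
        ∑ j : Fin D.rank, (v j : F) * ((g.xG m c * w : GL D.Idx F) : Matrix D.Idx D.Idx F)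
          (Sum.inl j) (Sum.inr ⟨D.neg m, g.neg_lt hm'⟩) = c := by
      intro c w hw
      simp only [g.Ici_coeff hm hm' c hw, ← mul_assoc, ← Finset.sum_mul]
      rw [Fin.sum_univ_eq_sum_range (fun j => (v j : F) * (corootCo D m j : F))]
      have hv' : ∑ j ∈ Finset.range D.rank, (v j : F) * (corootCo D m j : F) = 1 := by
        have := congrArg (Int.cast : ℤ → F) hv
        simpa using this
      rw [hv', one_mul]
    rw [← key a y hy, h, key b z hz]
  subst hab
  exact ⟨rfl, mul_left_cancel h⟩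

theorem xProd_inj {m : ℕ} (hm : half D ≤ m) {s t : ℕ → F} (h : g.xProd s m = g.xProd t m)
    {r : ℕ} (hr : m ≤ r) (hr' : r < D.nroots) : s r = t r := by
  induction' hk : r - m with k ih generalizing m
  · obtain rfl : r = m := by omega
    rw [g.xProd_succ s hr', g.xProd_succ t hr'] at h
    exact (g.Ici_unique hm hr' (g.xProd_mem _ _) (g.xProd_mem _ _) h).1
  · have hm' : m < D.nroots := by omega
    rw [g.xProd_succ s hm', g.xProd_succ t hm'] at h
    exact ih (by omega) (g.Ici_unique hm hm' (g.xProd_mem _ _) (g.xProd_mem _ _) h).2 (by omega)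
      (by omega)

end Good

end CfsgLib.Chev
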