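import Mathlib
import Cfsg.Agent.Lib.Chev.Unipotent

/-!
The subgroups `U`, `V`, `B = UH` and their intersections.
-/

set_option autoImplicit false

namespace CfsgLib.Chev

open Cfsg.Lie Matrix
open scoped commutatorElement

variable {D : ChevalleyDatum} {F : Type*} [Field F]

namespace Good

variable (g : Good D)
include g

lemma diagonal_le_normalizer_rootGen (S : Set ℕ) :
    D.diagonalSubgroup F ≤ Subgroup.normalizer (rootGen D F S : Set (GL D.Idx F)) := by
  have key : ∀ h ∈ D.diagonalSubgroup F, ∀ y ∈ rootGen D F S, h * y * h⁻¹ ∈ rootGen D F S := by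
    intro h hh
    have : rootGen D F S ≤ (rootGen D F S).comap (MulAut.conj h).toMonoidHom :=
      g.rootGen_le fun r hS hr t => by
        show h * g.xG r t * h⁻¹ ∈ rootGen D F S
        obtain ⟨c, hc⟩ := g.diagonal_conj_xG hh hr t
        rw [hc]; exact g.mem_rootGen hr hS _
    exact fun y hy => this hy
  intro h hh
  rw [Subgroup.mem_normalizer_iff]
  refine fun y => ⟨key h hh y, fun hy => ?_⟩
  simpa [mul_assoc] using key h⁻¹ (inv_mem hh) _ hy

theorem diagonal_le_normalizer_pos :
    D.diagonalSubgroup F ≤ Subgroup.normalizer (D.posUnipotent F : Set (GL D.Idx F)) := by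
  rw [g.posUnipotent_eq]; exact g.diagonal_le_normalizer_rootGen _

theorem diagonal_le_normalizer_neg :
    D.diagonalSubgroup F ≤ Subgroup.normalizer (D.negUnipotent F : Set (GL D.Idx F)) := by
  rw [g.negUnipotent_eq]; exact g.diagonal_le_normalizer_rootGen _

lemma above_diag_eq_one {W : D.Idx → ℤ} {c : ℤ} {x : GL D.Idx F}
    (hA : Above W c (x : Matrix D.Idx D.Idx F)) (hx : x ∈ D.diagonalSubgroup F) : x = 1 := by
  refine Units.ext (Matrix.ext fun a b => ?_)
  by_cases hab : a = b
  · rw [(hA a b).1 hab, hab, Units.val_one, Matrix.one_apply_eq]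
  · rw [g.diagonal_offdiag hx hab, Units.val_one, Matrix.one_apply_ne hab]

theorem pos_inf_diagonal : D.posUnipotent F ⊓ D.diagonalSubgroup F = ⊥ :=
  le_bot_iff.1 fun _ hx => Subgroup.mem_bot.2
    (g.above_diag_eq_one (g.posUnipotent_above hx.1) hx.2)

theorem mem_borel {x : GL D.Idx F} :
    x ∈ D.borelSubgroup F ↔
      ∃ u ∈ D.posUnipotent F, ∃ h ∈ D.diagonalSubgroup F, u * h = x := by
  have h := Subgroup.coe_mul_of_right_le_normalizer_left (D.posUnipotent F) (D.diagonalSubgroup F)
    g.diagonal_le_normalizer_pos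
  rw [← SetLike.mem_coe, ChevalleyDatum.borelSubgroup, h, Set.mem_mul]
  rfl

theorem mem_negBorel {x : GL D.Idx F} :
    x ∈ D.negUnipotent F ⊔ D.diagonalSubgroup F ↔
      ∃ v ∈ D.negUnipotent F, ∃ h ∈ D.diagonalSubgroup F, v * h = x := by
  have h := Subgroup.coe_mul_of_right_le_normalizer_left (D.negUnipotent F) (D.diagonalSubgroup F)
    g.diagonal_le_normalizer_neg
  rw [← SetLike.mem_coe, h, Set.mem_mul]
  rfl

/-- Upper times diagonal equals lower times diagonal only trivially. -/
lemma eq_one_of_upper_eq_lower {u v h h' : GL D.Idx F} (hu : u ∈ D.posUnipotent F)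
    (hv : v ∈ D.negUnipotent F) (hh : h ∈ D.diagonalSubgroup F)
    (hh' : h' ∈ D.diagonalSubgroup F) (he : u * h = v * h') : u = 1 ∧ v = 1 := by
  have hk : v⁻¹ * u = h' * h⁻¹ := by
    rw [eq_mul_inv_iff_mul_eq, mul_assoc, he, inv_mul_cancel_left]
  have hu' := g.posUnipotent_above hu
  have hv' := g.negUnipotent_above hv
  have he' : ∀ a b : D.Idx,
      ((v * (h' * h⁻¹) : GL D.Idx F) : Matrix D.Idx D.Idx F) a b = (u : Matrix D.Idx D.Idx F) a b :=
    fun a b => by rw [← hk, mul_inv_cancel_left]
  have hd : ∀ a b : D.Idx, a ≠ b → (u : Matrix D.Idx D.Idx F) a b = 0 := by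
    intro a b hab
    by_contra hne
    have h1 := (hu' a b).2 hab hne
    rw [← he' a b, Units.val_mul, Matrix.mul_apply, Finset.sum_eq_single b] at hne
    · have h2 := (hv' a b).2 hab (left_ne_zero_of_mul hne)
      simp only at h2
      omega
    · intro k _ hkb
      rw [g.diagonal_offdiag (mul_mem hh' (inv_mem hh)) hkb, mul_zero]
    · simp
  have hu1 : u = 1 := by
    refine Units.ext (Matrix.ext fun a b => ?_)
    by_cases hab : a = b
    · rw [(hu' a b).1 hab, hab, Units.val_one, Matrix.one_apply_eq]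
    · rw [hd a b hab, Units.val_one, Matrix.one_apply_ne hab]
  refine ⟨hu1, g.above_diag_eq_one hv' ?_⟩
  rw [hu1, one_mul] at he
  rw [eq_mul_inv_of_mul_eq he.symm]
  exact mul_mem hh (inv_mem hh')

theorem borel_inf_neg : D.borelSubgroup F ⊓ D.negUnipotent F = ⊥ := by
  refine le_bot_iff.1 fun x hx => Subgroup.mem_bot.2 ?_
  obtain ⟨u, hu, h, hh, rfl⟩ := g.mem_borel.1 hx.1
  exact (g.eq_one_of_upper_eq_lower hu hx.2 hh (one_mem _) (mul_one _).symm).2

theorem borel_inf_negBorel :
    D.borelSubgroup F ⊓ (D.negUnipotent F ⊔ D.diagonalSubgroup F) = D.diagonalSubgroup F := by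
  refine le_antisymm (fun x hx => ?_) (le_inf le_sup_right le_sup_right)
  obtain ⟨u, hu, h, hh, rfl⟩ := g.mem_borel.1 hx.1
  obtain ⟨v, hv, h', hh', he⟩ := g.mem_negBorel.1 hx.2
  rw [(g.eq_one_of_upper_eq_lower hu hv hh hh' he.symm).1, one_mul]
  exact hh

/-! ### Nilpotency and solvability -/

theorem posUnipotent_isNilpotent (hc : HasComm D) : Group.IsNilpotent ↥(D.posUnipotent F) := by
  rw [Subgroup.nilpotent_iff_finite_descending_central_series]
  let H : ℕ → Subgroup ↥(D.posUnipotent F) := fun n =>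
    (rootGen D F (Set.Ici (half D + n))).subgroupOf (D.posUnipotent F)
  refine ⟨D.nroots, H, ⟨?_, ?_⟩, ?_⟩
  · exact Subgroup.subgroupOf_eq_top.2 (by rw [Nat.add_zero, g.posUnipotent_eq])
  · intro x n hx y
    set m := half D + n with hm
    have hn : ∀ z ∈ D.posUnipotent F, z ∈
        Subgroup.normalizer (rootGen D F (Set.Ici (m + 1)) : Set (GL D.Idx F)) :=
      fun z hz => g.pos_le_normalizer hc (by omega) hz
    set K := rootGen D F (Set.Ici (m + 1)) with hK
    show ((⁅x, y⁆ : ↥(D.posUnipotent F)) : GL D.Idx F) ∈ rootGen D F (Set.Ici (half D + (n + 1)))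
    rw [show half D + (n + 1) = m + 1 by omega, ← hK]
    have hUm : rootGen D F (Set.Ici m) ≤ D.posUnipotent F := by
      rw [g.posUnipotent_eq]; exact g.rootGen_mono fun r hr _ => show half D ≤ r by
        simp only [Set.mem_Ici] at hr; omega
    have conjK : ∀ z ∈ D.posUnipotent F, ∀ w ∈ K, z * w * z⁻¹ ∈ K := fun z hz w hw =>
      (Subgroup.mem_normalizer_iff.1 (hn z hz) w).1 hw
    have gen : ∀ r s : ℕ, m ≤ r → r < D.nroots → half D ≤ s → s < D.nroots → ∀ t u : F,
        g.xG r t * g.xG s u * (g.xG r t)⁻¹ * (g.xG s u)⁻¹ ∈ K := by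
      intro r s hr hr' hs hs' t u
      by_cases hrs : r = s
      · subst hrs
        rw [g.xG_add, g.xG_inv, g.xG_inv, g.xG_add, g.xG_add,
          show t + u + -t + -u = 0 by ring, g.xG_zero]
        exact one_mem _
      have hneg : r ≠ D.neg s := by
        have := (g.neg_neg_iff hs').2 hs; omega
      have h := g.xG_conj hc hr' hs' hrs hneg (-t) u
      rw [← g.xG_inv] at h
      rw [show g.xG r t * g.xG s u * (g.xG r t)⁻¹ * (g.xG s u)⁻¹ =
        g.xG r t * (g.xG s u * (g.xG r t)⁻¹ * (g.xG s u)⁻¹) by group, h, mul_inv_cancel_left]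
      refine Subgroup.list_prod_mem _ fun z hz => ?_
      obtain ⟨c, hc', rfl⟩ := List.mem_map.1 hz
      obtain ⟨h1, h2, h3, h4⟩ := g.commTerms_co hc hs' hr' c hc'
      refine g.mem_rootGen h1 ?_ _
      have hw := g.wt_lin h4
      have hws := g.wt_pos hs hs'
      have hwr := g.wt_pos (le_trans (by omega : half D ≤ m) hr) hr'
      have : g.wt r < g.wt c.1 := by
        rw [hw]
        nlinarith [show (1 : ℤ) ≤ c.2.2.1 from by exact_mod_cast h2,
          show (1 : ℤ) ≤ c.2.2.2 from by exact_mod_cast h3]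
      have := g.lt_of_wt_lt hr' this
      show m + 1 ≤ c.1
      omega
    have step1 : ∀ r : ℕ, m ≤ r → r < D.nroots → ∀ (t : F), ∀ z ∈ D.posUnipotent F,
        g.xG r t * z * (g.xG r t)⁻¹ * z⁻¹ ∈ K := by
      intro r hr hr' t z hz
      have hxr : g.xG r t ∈ D.posUnipotent F := hUm (g.mem_rootGen hr' hr t)
      rw [g.posUnipotent_eq] at hz
      induction hz using Subgroup.closure_induction with
      | mem z hz =>
        obtain ⟨s, u, hs, hs', hz⟩ := hz
        rw [g.eq_xG hz]; exact gen r s hr hr' hs hs' t u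
      | one => simp
      | mul a b ha hb pa pb =>
        have ha' : a ∈ D.posUnipotent F := (g.posUnipotent_eq (F := F)) ▸ ha
        have := mul_mem pa (conjK a ha' _ pb)
        convert this using 1
        group
      | inv a ha pa =>
        have ha' : a ∈ D.posUnipotent F := (g.posUnipotent_eq (F := F)) ▸ ha
        have := conjK a⁻¹ (inv_mem ha') _ (inv_mem pa)
        convert this using 1
        group
    obtain ⟨x, hxU⟩ := x
    obtain ⟨y, hyU⟩ := y
    have hx' : x ∈ rootGen D F (Set.Ici m) := hx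
    show x * y * x⁻¹ * y⁻¹ ∈ K
    clear hx hxU
    induction hx' using Subgroup.closure_induction generalizing y with
    | mem z hz =>
      obtain ⟨r, t, hr, hr', hz⟩ := hz
      rw [g.eq_xG hz]; exact step1 r hr hr' t y hyU
    | one => simp
    | mul a b ha hb pa pb =>
      have := mul_mem (conjK a (hUm ha) _ (pb y hyU)) (pa y hyU)
      convert this using 1
      group
    | inv a ha pa =>
      have := conjK a⁻¹ (inv_mem (hUm ha)) _ (inv_mem (pa y hyU))
      convert this using 1
      group
  · show (rootGen D F (Set.Ici (half D + D.nroots))).subgroupOf _ = ⊥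
    rw [g.Ici_empty (by omega), Subgroup.bot_subgroupOf]

theorem borel_isSolvable (hc : HasComm D) : Group.IsSolvable ↥(D.borelSubgroup F) := by
  have hU : D.posUnipotent F ≤ D.borelSubgroup F := le_sup_left
  have hnorm : ((D.posUnipotent F).subgroupOf (D.borelSubgroup F)).Normal :=
    Subgroup.normal_subgroupOf_iff_le_normalizer hU |>.2
      (sup_le Subgroup.le_normalizer g.diagonal_le_normalizer_pos)
  have hnil := g.posUnipotent_isNilpotent (F := F) hc
  have hsol : Group.IsSolvable ↥(D.posUnipotent F) := inferInstance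
  set B := D.borelSubgroup F
  set N := (D.posUnipotent F).subgroupOf B
  have hcomm : ∀ a b : ↥B ⧸ N, a * b = b * a := by
    have rep : ∀ a : ↥B ⧸ N, ∃ h : ↥B, (h : GL D.Idx F) ∈ D.diagonalSubgroup F ∧ QuotientGroup.mk h = a := by
      intro a
      induction a using QuotientGroup.induction_on with
      | _ x =>
        obtain ⟨u, hu, h, hh, he⟩ := g.mem_borel.1 x.2
        refine ⟨⟨h, Subgroup.mem_sup_right hh⟩, hh, QuotientGroup.eq.2 ?_⟩
        rw [Subgroup.mem_subgroupOf]
        show h⁻¹ * (x : GL D.Idx F) ∈ D.posUnipotent F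
        rw [← he]
        have := (Subgroup.mem_normalizer_iff.1 (g.diagonal_le_normalizer_pos (inv_mem hh)) u).1 hu
        simpa [mul_assoc] using this
    intro a b
    obtain ⟨h, hh, rfl⟩ := rep a
    obtain ⟨k, hk, rfl⟩ := rep b
    rw [← QuotientGroup.mk_mul, ← QuotientGroup.mk_mul]
    congr 1
    exact Subtype.ext (g.diagonal_comm hh hk)
  let _ : CommGroup (↥B ⧸ N) := { (inferInstance : Group (↥B ⧸ N)) with mul_comm := hcomm }
  have hN : Group.IsSolvable ↥N :=
    Group.isSolvable_of_isSolvable_injective (f := (Subgroup.subgroupOfEquivOfLe hU).toMonoidHom)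
      (Subgroup.subgroupOfEquivOfLe hU).injective
  exact Group.isSolvable_of_ker_le_range N.subtype (QuotientGroup.mk' N)
    (by rw [QuotientGroup.ker_mk', Subgroup.range_subtype])

/-! ### The subgroup `U_p` -/

lemma exists_other {i r : ℕ} (hi : i < D.rank) (hr : r < D.nroots) (hp : half D ≤ r)
    (hne : r ≠ D.simple i) : ∃ q < D.rank, q ≠ i ∧ 0 < g.co r q := by
  by_contra hno
  push Not at hno
  have hz : ∀ q < D.rank, q ≠ i → g.co r q = 0 := fun q hq hqi =>
    le_antisymm (hno q hq hqi) (g.co_nonneg hr hp hq)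
  have h1 := g.co_refl hi hr hi
  have h2 : D.cartan i r = 2 * g.co r i := by
    rw [g.cartan_eq_sum hr hi, Finset.sum_eq_single i]
    · rw [g.cartan_simple hi]; ring
    · intro j hj hji; rw [hz j (Finset.mem_range.1 hj) hji]; ring
    · simp [hi]
  rw [if_pos rfl, h2] at h1
  have h3 := g.co_nonneg (g.refl_lt hi hr) (g.refl_pos hi hr hp hne) hi
  have h4 := g.co_nonneg hr hp hi
  have h5 := g.wt_pos hp hr
  rw [g.wt_eq, Finset.sum_eq_zero fun j hj => ?_] at h5
  · exact lt_irrefl _ h5
  · by_cases hji : j = i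
    · subst hji; rw [show g.co r j = 0 by omega, zero_mul]
    · rw [hz j (Finset.mem_range.1 hj) hji, zero_mul]

lemma pos_of_co_pos {k q : ℕ} (hk : k < D.nroots) (hq : q < D.rank) (h : 0 < g.co k q) :
    half D ≤ k := by
  by_contra hn
  have := g.co_nonneg (g.neg_lt hk) (by
    have := g.nroots_eq; rw [g.neg_rev hk]; omega) hq
  rw [g.co_neg hk hq] at this
  omega

/-- The positive roots other than `p_i`. -/
def posExcept (_g : Good D) (i : ℕ) : Set ℕ := {s | half D ≤ s ∧ s ≠ D.simple i}

lemma posExcept_conj (hc : HasComm D) {i r s : ℕ} (hi : i < D.rank) (hr : r < D.nroots)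
    (hrS : r ∈ g.posExcept i) (hs : s = D.simple i ∨ s = D.neg (D.simple i)) (t u : F) :
    g.xG s u * g.xG r t * (g.xG s u)⁻¹ ∈ rootGen D F (g.posExcept i) := by
  obtain ⟨hrp, hrne⟩ := hrS
  have hp := g.simple_lt hi
  have hs' : s < D.nroots := by rcases hs with rfl | rfl; exacts [hp, g.neg_lt hp]
  have hrn : r ≠ D.neg (D.simple i) := by
    have := (g.neg_neg_iff hp).2 (g.simple_pos hi); omega
  obtain ⟨q, hq, hqi, hqp⟩ := g.exists_other hi hr hrp hrne
  have hcs : g.co s q = 0 := by
    rcases hs with rfl | rfl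
    · rw [g.co_simple hi hq, if_neg (Ne.symm hqi)]
    · rw [g.co_neg hp hq, g.co_simple hi hq, if_neg (Ne.symm hqi), neg_zero]
  refine g.conj_mem hc hr hs' (show r ∈ g.posExcept i from ⟨hrp, hrne⟩) ?_ ?_ (fun k a b hk ha hb hco => ?_) t u
  · rcases hs with rfl | rfl
    exacts [hrne, hrn]
  · rcases hs with rfl | rfl
    · exact hrn
    · rw [g.neg_neg hp]; exact hrne
  · have hkq : 0 < g.co k q := by
      rw [hco q hq, hcs, mul_zero, zero_add]
      exact mul_pos (by exact_mod_cast hb) hqp
    refine ⟨g.pos_of_co_pos hk hq hkq, ?_⟩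
    rintro rfl
    rw [g.co_simple hi hq, if_neg (Ne.symm hqi)] at hkq
    exact lt_irrefl _ hkq

theorem simple_le_normalizer_posExcept (hc : HasComm D) {i : ℕ} (hi : i < D.rank) :
    D.rootSubgroup F (D.simple i) ⊔ D.rootSubgroup F (D.neg (D.simple i)) ≤
      Subgroup.normalizer (rootGen D F (g.posExcept i) : Set (GL D.Idx F)) :=
  sup_le (g.le_normalizer_of_conj fun _r hS hr t u => g.posExcept_conj hc hi hr hS (Or.inl rfl) t u)
    (g.le_normalizer_of_conj fun _r hS hr t u => g.posExcept_conj hc hi hr hS (Or.inr rfl) t u)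

theorem posExcept_sup {i : ℕ} (hi : i < D.rank) :
    rootGen D F (g.posExcept i) ⊔ D.rootSubgroup F (D.simple i) = D.posUnipotent F := by
  rw [g.posUnipotent_eq]
  refine le_antisymm (sup_le (g.rootGen_mono fun r hr _ => hr.1) ?_) (g.rootGen_le ?_)
  · intro x hx
    obtain ⟨t, rfl⟩ := g.mem_rootSubgroup.1 hx
    exact g.mem_rootGen (g.simple_lt hi) (g.simple_pos hi) t
  · intro r hS hr t
    by_cases h : r = D.simple i
    · subst h; exact Subgroup.mem_sup_right (g.xG_mem_rootSubgroup _ t)
    · exact Subgroup.mem_sup_left (g.mem_rootGen hr (show r ∈ g.posExcept i from ⟨hS, h⟩) t)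

lemma posExcept_set (i : ℕ) :
    {x : GL D.Idx F | ∃ (s : ℕ) (t : F), D.IsPosRoot s ∧ s ≠ D.simple i ∧
      (x : Matrix D.Idx D.Idx F) = D.x F s t} =
    {x : GL D.Idx F | ∃ (r : ℕ) (t : F), r ∈ g.posExcept i ∧ r < D.nroots ∧
      (x : Matrix D.Idx D.Idx F) = D.x F r t} := by
  ext x
  constructor
  · rintro ⟨s, t, hs, hne, hx⟩
    exact ⟨s, t, ⟨((g.isPosRoot_iff s).1 hs).1, hne⟩, hs.1, hx⟩
  · rintro ⟨s, t, ⟨h1, h2⟩, hs, hx⟩
    exact ⟨s, t, (g.isPosRoot_iff s).2 ⟨h1, hs⟩, h2, hx⟩

/-! ### Ordered products -/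

lemma posRoots_eq : D.posRoots = List.range' (half D) (D.nroots - half D) := by
  have e : ∀ r ∈ List.range D.nroots, decide (D.IsPosRoot r) = decide (half D ≤ r) := fun r hr => by
    simp [g.isPosRoot_iff, List.mem_range.1 hr]
  have hh : half D ≤ D.nroots := by have := g.nroots_eq; omega
  rw [ChevalleyDatum.posRoots, List.filter_congr e, List.range_eq_range',
    show D.nroots = half D + (D.nroots - half D) by omega, ← List.range'_append_1, List.filter_append]
  have h1 : (List.range' 0 (half D)).filter (fun r => decide (half D ≤ r)) = [] := by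
    rw [List.filter_eq_nil_iff]
    intro r hr; rw [List.mem_range'_1] at hr; simp; omega
  have h2 : (List.range' (0 + half D) (D.nroots - half D)).filter (fun r => decide (half D ≤ r)) =
      List.range' (half D) (D.nroots - half D) := by
    rw [Nat.zero_add, List.filter_eq_self]
    intro r hr; rw [List.mem_range'_1] at hr; simp; omega
  rw [h1, h2, List.nil_append, Nat.add_sub_cancel_left]

lemma coe_xProd_pos (t : ℕ → F) :
    (g.xProd t (half D) : Matrix D.Idx D.Idx F) = D.wordMat F (D.posRoots.map fun r => (r, t r)) := by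
  rw [g.posRoots_eq, ChevalleyDatum.wordMat, xProd, List.map_map]
  rw [show ∀ l : List (GL D.Idx F), ((l.prod : GL D.Idx F) : Matrix D.Idx D.Idx F) =
    (l.map fun x : GL D.Idx F => (x : Matrix D.Idx D.Idx F)).prod from fun l =>
    map_list_prod (Units.coeHom (Matrix D.Idx D.Idx F)) l, List.map_map]
  rfl

theorem card_posUnipotent (hc : HasComm D) [Fintype F] :
    Nat.card (D.posUnipotent F) = Fintype.card F ^ (D.nroots / 2) := by
  classical
  have hnr := g.nroots_eq
  let ext : (Fin (half D) → F) → ℕ → F := fun f r =>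
    if h : half D ≤ r ∧ r < D.nroots then f ⟨r - half D, by omega⟩ else 0
  have hmem : ∀ f, g.xProd (ext f) (half D) ∈ D.posUnipotent F := fun f => by
    rw [g.posUnipotent_eq]; exact g.xProd_mem _ _
  let e : (Fin (half D) → F) → ↥(D.posUnipotent F) := fun f => ⟨_, hmem f⟩
  have he : Function.Bijective e := by
    constructor
    · intro f f' hff
      funext a
      have := g.xProd_inj le_rfl (congrArg Subtype.val hff) (r := half D + a.val) (by omega)
        (by have := a.2; omega)
      simpa [ext, show half D + a.val < D.nroots by have := a.2; omega] using this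
    · rintro ⟨x, hx⟩
      have hx' : x ∈ rootGen D F (Set.Ici (half D)) := (g.posUnipotent_eq (F := F)) ▸ hx
      obtain ⟨t, rfl⟩ := g.exists_xProd hc le_rfl hx'
      refine ⟨fun a => t (half D + a.val), Subtype.ext ?_⟩
      show g.xProd _ _ = g.xProd t _
      unfold xProd
      refine congrArg List.prod (List.map_congr_left fun r hr => ?_)
      rw [List.mem_range'_1] at hr
      have h1 : half D ≤ r ∧ r < D.nroots := by omega
      simp only [ext, dif_pos h1]
      rw [show half D + (r - half D) = r by omega]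
  rw [← Nat.card_congr (Equiv.ofBijective e he), Nat.card_eq_fintype_card, Fintype.card_fun,
    Fintype.card_fin]
  rfl

end Good

end CfsgLib.Chev
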