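import Mathlib

/-!
A group generated by involutions satisfying the exchange condition is a Coxeter group
(Matsumoto's argument).
-/

set_option autoImplicit false

namespace CfsgLib.Chev

variable {W B : Type*} [Group W] (s : B → W)

/-- The product of a word. -/
def wordVal (l : List B) : W := (l.map s).prod

/-- A word of minimal length for the element that it represents. -/
def IsRed (l : List B) : Prop := ∀ l', wordVal s l' = wordVal s l → l.length ≤ l'.length

/-- Generating involutions with the exchange condition. -/
structure ExchangeData : Prop where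
  sq : ∀ i, s i * s i = 1
  ne_one : ∀ i, s i ≠ 1
  inj : Function.Injective s
  gen : Subgroup.closure (Set.range s) = ⊤
  exchange : ∀ (i : B) (l : List B), IsRed s l → ¬ IsRed s (i :: l) →
    ∃ j < l.length, s i * wordVal s (l.take j) = wordVal s (l.take (j + 1))

variable {s}

lemma wordVal_cons (i : B) (l : List B) : wordVal s (i :: l) = s i * wordVal s l := by
  simp [wordVal]

lemma wordVal_append (l l' : List B) : wordVal s (l ++ l') = wordVal s l * wordVal s l' := by
  simp [wordVal]

lemma wordVal_nil : wordVal s ([] : List B) = 1 := by simp [wordVal]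

lemma IsRed.infix {a b c : List B} (h : IsRed s (a ++ b ++ c)) : IsRed s b := by
  intro l' hl'
  have := h (a ++ l' ++ c) (by simp [wordVal_append, hl'])
  simp only [List.length_append] at this
  omega

lemma IsRed.tail {i : B} {l : List B} (h : IsRed s (i :: l)) : IsRed s l :=
  IsRed.infix (a := [i]) (c := []) (by simpa using h)

lemma IsRed.take {l : List B} (h : IsRed s l) (n : ℕ) : IsRed s (l.take n) :=
  IsRed.infix (a := []) (b := l.take n) (c := l.drop n) (by simpa using h)

lemma IsRed.of_eq {l l' : List B} (h : IsRed s l) (he : wordVal s l' = wordVal s l)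
    (hlen : l'.length = l.length) : IsRed s l' := fun m hm => hlen ▸ h m (hm.trans he)

lemma exists_isRed (l : List B) :
    ∃ l', IsRed s l' ∧ wordVal s l' = wordVal s l ∧ l'.length ≤ l.length := by
  classical
  have hex : ∃ n, ∃ l', wordVal s l' = wordVal s l ∧ l'.length = n := ⟨_, l, rfl, rfl⟩
  obtain ⟨l', h1, h2⟩ := Nat.find_spec hex
  refine ⟨l', fun m hm => ?_, h1, ?_⟩
  · rw [h2]; exact Nat.find_min' hex ⟨m, hm.trans h1, rfl⟩
  · rw [h2]; exact Nat.find_min' hex ⟨l, rfl, rfl⟩

namespace ExchangeData

variable (h : ExchangeData s)
include h

lemma exists_word (w : W) : ∃ l, wordVal s l = w := by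
  have hw : w ∈ Subgroup.closure (Set.range s) := by rw [h.gen]; trivial
  induction hw using Subgroup.closure_induction_left with
  | one => exact ⟨[], wordVal_nil⟩
  | mul_left x hx y hy ih =>
    obtain ⟨i, rfl⟩ := hx
    obtain ⟨l, rfl⟩ := ih
    exact ⟨i :: l, wordVal_cons i l⟩
  | inv_mul_cancel x hx y hy ih =>
    obtain ⟨i, rfl⟩ := hx
    obtain ⟨l, rfl⟩ := ih
    exact ⟨i :: l, by rw [wordVal_cons, inv_eq_of_mul_eq_one_right (h.sq i)]⟩

lemma exists_m_matrix : ∃ M : CoxeterMatrix B, ∀ i j, M i j = orderOf (s i * s j) := by
  refine ⟨⟨Matrix.of fun i j => orderOf (s i * s j), ?_, ?_, ?_⟩, fun i j => rfl⟩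
  · apply Matrix.IsSymm.ext
    intro i j
    show orderOf (s j * s i) = orderOf (s i * s j)
    have e : s j * s i = (s i * s j)⁻¹ := by
      rw [mul_inv_rev, inv_eq_of_mul_eq_one_right (h.sq i), inv_eq_of_mul_eq_one_right (h.sq j)]
    rw [e, orderOf_inv]
  · intro i
    simp [h.sq i]
  · intro i j hij
    simp only [Matrix.of_apply, ne_eq, orderOf_eq_one_iff]
    intro h1
    apply hij
    apply h.inj
    rw [eq_inv_of_mul_eq_one_left h1, inv_eq_of_mul_eq_one_right (h.sq j)]

end ExchangeData

variable {M : CoxeterMatrix B}

/-- The word `i j i j …` of length `n`, read from the left. -/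
def altFront (i j : B) : ℕ → List B
  | 0 => []
  | n + 1 => i :: altFront j i n

lemma length_altFront (i j : B) (n : ℕ) : (altFront i j n).length = n := by
  induction n generalizing i j with
  | zero => rfl
  | succ n ih => simp [altFront, ih]

lemma take_altFront (i j : B) (n k : ℕ) :
    (altFront i j n).take k = altFront i j (min k n) := by
  induction n generalizing i j k with
  | zero => simp [altFront]
  | succ n ih =>
    cases k with
    | zero => simp [altFront]
    | succ k => simp [altFront, ih, Nat.add_min_add_right]

/-- In a group with `(a b)^m = 1`, `a² = b² = 1`, the two alternating words of length `m` agree. -/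
lemma alt_braid {H : Type*} [Group H] (f : B → H) (i j : B) (hi : f i * f i = 1)
    (hj : f j * f j = 1) (m : ℕ) :
    (f i * f j) ^ m = 1 ↔ wordVal f (altFront i j m) = wordVal f (altFront j i m) := by
  have key : ∀ (m : ℕ) (i j : B), f i * f i = 1 → f j * f j = 1 →
      wordVal f (altFront i j m) * (wordVal f (altFront j i m))⁻¹ = (f i * f j) ^ m := by
    intro m
    induction m with
    | zero => intro i j _ _; simp [altFront, wordVal]
    | succ m ih =>
      intro i j hi hj
      have h1 := ih j i hj hi
      simp only [altFront, wordVal_cons, mul_inv_rev]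
      rw [show f i * wordVal f (altFront j i m) * ((wordVal f (altFront i j m))⁻¹ * (f j)⁻¹)
          = f i * (wordVal f (altFront j i m) * (wordVal f (altFront i j m))⁻¹) * (f j)⁻¹ by group,
        h1, inv_eq_of_mul_eq_one_right hj]
      clear h1 ih
      induction m with
      | zero => simp
      | succ m ih2 =>
        rw [pow_succ' (f j * f i) m, pow_succ' (f i * f j) (m+1), ← ih2]
        simp only [mul_assoc]
  rw [← mul_inv_eq_one (a := wordVal f (altFront i j m)), key m i j hi hj]

namespace ExchangeData

variable (h : ExchangeData s)
include h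

lemma eq_altFront_of_braid (i j : B) {k : ℕ} (hred : IsRed s (altFront i j k))
    (he : wordVal s (altFront i j k) = wordVal s (altFront j i k))
    (hM : ∀ i j, M i j = orderOf (s i * s j)) :
    wordVal M.simple (altFront i j k) = wordVal M.simple (altFront j i k) := by
  have hsimp : ∀ a, M.simple a * M.simple a = 1 := fun a => by
    simpa [CoxeterMatrix.toCoxeterSystem_simple] using M.toCoxeterSystem.simple_mul_simple_self a
  have hdvd : M i j ∣ k := by
    rw [hM]
    exact orderOf_dvd_of_pow_eq_one ((alt_braid s i j (h.sq i) (h.sq j) k).2 he)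
  refine (alt_braid _ i j (hsimp i) (hsimp j) k).1 ?_
  obtain ⟨c, rfl⟩ := hdvd
  have hp : (M.simple i * M.simple j) ^ M i j = 1 := by
    simpa [CoxeterMatrix.toCoxeterSystem_simple] using M.toCoxeterSystem.simple_mul_simple_pow i j
  rw [pow_mul, hp, one_pow]

/-- Matsumoto: equal reduced words are equal in the Coxeter group. -/
lemma red_eq (hM : ∀ i j, M i j = orderOf (s i * s j)) {a b : List B} (ha : IsRed s a)
    (hb : IsRed s b) (he : wordVal s a = wordVal s b) :
    wordVal M.simple a = wordVal M.simple b := by
  induction hk : a.length using Nat.strong_induction_on generalizing a b with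
  | _ k IH =>
  subst hk
  have hlenab : a.length = b.length := le_antisymm (ha b he.symm) (hb a he)
  -- reduction step
  have step : ∀ (t : B) (tl x : List B), IsRed s x → IsRed s (t :: tl) → x.length = a.length →
      wordVal s x = wordVal s (t :: tl) →
      wordVal M.simple x = wordVal M.simple (t :: tl) ∨
        (IsRed s (t :: x.dropLast) ∧ wordVal s (t :: x.dropLast) = wordVal s x ∧
          wordVal M.simple (t :: x.dropLast) = wordVal M.simple (t :: tl)) := by
    intro t tl x hx ht hlx hxe
    have hlt : (t :: tl).length = x.length :=
      le_antisymm (ht x hxe) (hx _ hxe.symm)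
    simp only [List.length_cons] at hlt
    have hnr : ¬ IsRed s (t :: x) := by
      intro hr
      have := hr tl (by rw [wordVal_cons, hxe, wordVal_cons, ← mul_assoc, h.sq, one_mul])
      simp only [List.length_cons] at this
      omega
    obtain ⟨j, hj, hje⟩ := h.exchange t x hx hnr
    have hxsplit : x = x.take (j + 1) ++ x.drop (j + 1) := (List.take_append_drop _ _).symm
    -- the word `y = take j ++ drop (j+1)` with `t :: y` equal to `x`
    have hy : wordVal s (t :: (x.take j ++ x.drop (j + 1))) = wordVal s x := by
      rw [wordVal_cons, wordVal_append, ← mul_assoc, hje, ← wordVal_append, ← hxsplit]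
    have hylen : (t :: (x.take j ++ x.drop (j + 1))).length = x.length := by
      simp; omega
    have hyred : IsRed s (t :: (x.take j ++ x.drop (j + 1))) := hx.of_eq hy hylen
    have htl : wordVal M.simple (x.take j ++ x.drop (j + 1)) = wordVal M.simple tl := by
      refine IH _ ?_ hyred.tail ht.tail ?_ rfl
      · simp; omega
      · exact mul_left_cancel (a := s t) (by rw [← wordVal_cons, hy, hxe, wordVal_cons])
    rcases Nat.lt_or_ge (j + 1) x.length with hlt' | hge
    · left
      have h1 : wordVal M.simple (t :: x.take j) = wordVal M.simple (x.take (j + 1)) := by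
        refine IH (j + 1) (by omega) ?_ (hx.take _) ?_ (by simp; omega)
        · refine (hx.take (j + 1)).of_eq (by rw [wordVal_cons]; exact hje) (by simp; omega)
        · rw [wordVal_cons]; exact hje
      conv_lhs => rw [hxsplit]
      rw [wordVal_append, ← h1, wordVal_cons, wordVal_cons, mul_assoc, ← wordVal_append, htl]
    · right
      have hdrop : x.drop (j + 1) = [] := List.drop_eq_nil_of_le hge
      have hdl : x.dropLast = x.take j ++ x.drop (j + 1) := by
        rw [hdrop, List.append_nil, List.dropLast_eq_take, show x.length - 1 = j by omega]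
      rw [hdl]
      exact ⟨hyred, hy, by rw [wordVal_cons, htl, wordVal_cons]⟩
  match a, b, hlenab with
  | [], [], _ => rfl
  | [], _ :: _, hl => simp at hl
  | _ :: _, [], hl => simp at hl
  | i :: a', j :: b', hl =>
    rcases step j b' (i :: a') ha hb rfl he with h1 | ⟨r1, v1, e1⟩
    · exact h1
    rw [← e1]
    -- descend towards the alternating words
    set L := (i :: a').length with hL
    have main : ∀ n k, k + n = L → 1 ≤ k → ∀ (p q : B) (u v : List B),
        IsRed s u → IsRed s v → u.length = L → v.length = L →
        wordVal s u = wordVal s v →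
        u.take k = altFront p q k →
        v.take (min (k + 1) L) = altFront q p (min (k + 1) L) →
        wordVal M.simple u = wordVal M.simple v := by
      intro n
      induction n with
      | zero =>
        intro k hk _ p q u v hu hv hlu hlv huv hpu hqv
        obtain rfl : k = L := by omega
        rw [List.take_of_length_le hlu.le] at hpu
        rw [Nat.min_eq_right (Nat.le_succ _), List.take_of_length_le hlv.le] at hqv
        subst hpu hqv
        exact h.eq_altFront_of_braid p q hu huv hM
      | succ n ihn =>
        intro k hk hk1 p q u v hu hv hlu hlv huv hpu hqv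
        cases u with
        | nil => simp [L] at hlu
        | cons u0 u' =>
          obtain ⟨k', rfl⟩ : ∃ k', k = k' + 1 := ⟨k - 1, by omega⟩
          simp only [List.take_succ_cons, altFront, List.cons.injEq] at hpu
          obtain ⟨rfl, -⟩ := hpu
          rcases step u0 u' v hv hu hlv huv.symm with h1 | ⟨r, vv, ee⟩
          · exact h1.symm
          · rw [← ee]
            have hlen2 : (u0 :: v.dropLast).length = L := by
              simp only [List.length_cons, List.length_dropLast, hlv]
              omega
            rw [Nat.min_eq_left (by omega)] at hqv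
            refine (ihn (k' + 1 + 1) (by omega) (by omega) q u0 v (u0 :: v.dropLast) hv r hlv hlen2
              vv.symm hqv ?_).symm
            -- the new word starts with a longer alternating word
            obtain ⟨c, hc, hc'⟩ : ∃ c, min (k' + 1 + 1 + 1) L = c + 1 ∧ c ≤ k' + 1 + 1 ∧ c < L :=
              ⟨min (k' + 1 + 1 + 1) L - 1, by omega, by omega, by omega⟩
            rw [hc, List.take_succ_cons, altFront, List.dropLast_eq_take, List.take_take,
              Nat.min_eq_left (by omega)]
            have := congrArg (List.take c) hqv
            rw [List.take_take, Nat.min_eq_left hc'.1, take_altFront, Nat.min_eq_left hc'.1] at this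
            rw [this]
    refine main (L - 1) 1 (by simp [hL]; omega) le_rfl i j (i :: a') (j :: (i :: a').dropLast)
      ha r1 rfl (by simp [hL]) v1.symm (by simp [altFront]) ?_
    rcases a' with _ | ⟨a0, a''⟩
    · simp [hL, altFront]
    · simp [hL, altFront, List.dropLast]

/-- A group with exchange data is a Coxeter group. -/
lemma exists_coxeterSystem : ∃ (M : CoxeterMatrix B) (cs : CoxeterSystem M W),
    (∀ i j, M i j = orderOf (s i * s j)) ∧ ∀ i, cs.simple i = s i := by
  obtain ⟨M, hM⟩ := h.exists_m_matrix
  have hlift : M.IsLiftable s := fun i j => by rw [hM]; exact pow_orderOf_eq_one _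
  set π : M.Group →* W := M.toCoxeterSystem.lift ⟨s, hlift⟩ with hπ
  have hπs : ∀ i, π (M.simple i) = s i := fun i => by
    rw [hπ, ← CoxeterMatrix.toCoxeterSystem_simple, CoxeterSystem.lift_apply_simple]
  have hπw : ∀ l, π (wordVal M.simple l) = wordVal s l := by
    intro l
    induction l with
    | nil => simp [wordVal_nil]
    | cons i l ih => simp [wordVal_cons, hπs, ih]
  have hsimp : ∀ a, M.simple a * M.simple a = 1 := fun a => by
    simpa [CoxeterMatrix.toCoxeterSystem_simple] using M.toCoxeterSystem.simple_mul_simple_self a
  -- every word equals a reduced word in the Coxeter group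
  have key : ∀ l, ∃ l', IsRed s l' ∧ wordVal M.simple l' = wordVal M.simple l := by
    intro l
    induction l with
    | nil => exact ⟨[], fun _ _ => Nat.zero_le _, rfl⟩
    | cons i l ih =>
      obtain ⟨l', hr, he⟩ := ih
      by_cases hri : IsRed s (i :: l')
      · exact ⟨i :: l', hri, by rw [wordVal_cons, wordVal_cons, he]⟩
      · obtain ⟨j, hj, hje⟩ := h.exchange i l' hr hri
        have hr2 : IsRed s (l'.take j ++ l'.drop (j + 1)) := by
          intro m hm
          have h2 : wordVal s (i :: m) = wordVal s l' := by
            rw [wordVal_cons, hm, wordVal_append, ← mul_assoc, hje, ← wordVal_append,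
              List.take_append_drop]
          have := hr (i :: m) h2
          simp only [List.length_cons, List.length_append, List.length_take, List.length_drop] at this ⊢
          omega
        refine ⟨_, hr2, ?_⟩
        have heq : wordVal M.simple (i :: l'.take j) = wordVal M.simple (l'.take (j + 1)) := by
          refine h.red_eq hM ?_ (hr.take _) ?_
          · exact (hr.take (j + 1)).of_eq (by rw [wordVal_cons]; exact hje) (by simp; omega)
          · rw [wordVal_cons]; exact hje
        rw [wordVal_cons i l, ← he]
        conv_rhs => rw [← List.take_append_drop (j + 1) l', wordVal_append, ← heq, wordVal_cons,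
          ← mul_assoc, ← mul_assoc, hsimp, one_mul]
        rw [wordVal_append]
  have hinj : Function.Injective π := by
    refine (injective_iff_map_eq_one π).2 fun x hx => ?_
    obtain ⟨l, hl⟩ : ∃ l, wordVal M.simple l = x := by
      obtain ⟨l, hl⟩ := M.toCoxeterSystem.wordProd_surjective x
      exact ⟨l, by simpa [CoxeterSystem.wordProd, wordVal, CoxeterMatrix.toCoxeterSystem_simple] using hl⟩
    subst hl
    obtain ⟨l', hr, he⟩ := key l
    rw [← he] at hx ⊢
    rw [hπw] at hx
    have := hr [] (by rw [hx, wordVal_nil])
    simp only [List.length_nil, Nat.le_zero, List.length_eq_zero_iff] at this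
    simp [this, wordVal_nil]
  have hsurj : Function.Surjective π := fun w => by
    obtain ⟨l, rfl⟩ := h.exists_word w
    exact ⟨_, hπw l⟩
  refine ⟨M, M.toCoxeterSystem.map (MulEquiv.ofBijective π ⟨hinj, hsurj⟩), hM, fun i => ?_⟩
  rw [CoxeterSystem.map_simple, CoxeterMatrix.toCoxeterSystem_simple]
  exact hπs i

end ExchangeData

end CfsgLib.Chev
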