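import Mathlib
import Cfsg.Agent.Lib.Chev.Bridge
import Cfsg.Agent.Lib.Chev.CoxeterExchange

/-!
The Weyl group as a group of permutations of the roots, with the exchange condition.
-/

set_option autoImplicit false

namespace CfsgLib.Chev

open Cfsg.Lie

variable {D : ChevalleyDatum}

/-- The number of positive roots sent to negative roots. -/
def ninv (D : ChevalleyDatum) (w : Equiv.Perm (Fin D.nroots)) : ℕ :=
  (Finset.univ.filter fun a : Fin D.nroots => half D ≤ a.val ∧ (w a).val < half D).card

namespace Good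

variable (g : Good D)
include g

/-- The `i`-th fundamental root as an element of `Fin`. -/
def sroot (i : Fin D.rank) : Fin D.nroots := ⟨D.simple i, g.simple_lt i.2⟩

/-- The opposite root as an element of `Fin`. -/
def nroot (a : Fin D.nroots) : Fin D.nroots := ⟨D.neg a, g.neg_lt a.2⟩

lemma nroot_nroot (a : Fin D.nroots) : g.nroot (g.nroot a) = a := Fin.ext (g.neg_neg a.2)

lemma nroot_pos_iff (a : Fin D.nroots) : half D ≤ (g.nroot a).val ↔ a.val < half D := by
  have := g.nroots_eq
  simp only [nroot, g.neg_rev a.2]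
  omega

/-- The fundamental reflection as a permutation of the roots. -/
def rperm (i : Fin D.rank) : Equiv.Perm (Fin D.nroots) where
  toFun s := ⟨D.reflectRoot i s, g.refl_lt i.2 s.2⟩
  invFun s := ⟨D.reflectRoot i s, g.refl_lt i.2 s.2⟩
  left_inv s := Fin.ext (g.refl_refl i.2 s.2)
  right_inv s := Fin.ext (g.refl_refl i.2 s.2)

lemma rperm_val (i : Fin D.rank) (s : Fin D.nroots) :
    (g.rperm i s).val = D.reflectRoot i s := rfl

lemma rperm_rperm (i : Fin D.rank) (s : Fin D.nroots) : g.rperm i (g.rperm i s) = s :=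
  Fin.ext (g.refl_refl i.2 s.2)

lemma rperm_mul_self (i : Fin D.rank) : g.rperm i * g.rperm i = 1 :=
  Equiv.ext (g.rperm_rperm i)

lemma rperm_inv (i : Fin D.rank) : (g.rperm i)⁻¹ = g.rperm i :=
  inv_eq_of_mul_eq_one_left (g.rperm_mul_self i)

lemma rperm_sroot (i : Fin D.rank) : g.rperm i (g.sroot i) = g.nroot (g.sroot i) :=
  Fin.ext (g.refl_simple i)

lemma rperm_nroot (i : Fin D.rank) (a : Fin D.nroots) :
    g.rperm i (g.nroot a) = g.nroot (g.rperm i a) := Fin.ext (g.refl_neg i.2 a.2)

lemma rperm_pos (i : Fin D.rank) {a : Fin D.nroots} (ha : half D ≤ a.val) (hne : a ≠ g.sroot i) :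
    half D ≤ (g.rperm i a).val :=
  g.refl_pos i.2 a.2 ha fun h => hne (Fin.ext h)

lemma rperm_neg (i : Fin D.rank) {a : Fin D.nroots} (ha : a.val < half D)
    (hne : a ≠ g.nroot (g.sroot i)) : (g.rperm i a).val < half D := by
  have h := g.rperm_pos i ((g.nroot_pos_iff a).2 ha) fun h => hne (by rw [← h, g.nroot_nroot])
  rw [g.rperm_nroot, g.nroot_pos_iff] at h
  exact h

lemma sroot_pos (i : Fin D.rank) : half D ≤ (g.sroot i).val := g.simple_pos i.2

lemma nroot_sroot_neg (i : Fin D.rank) : (g.nroot (g.sroot i)).val < half D := by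
  rw [← g.nroot_pos_iff, g.nroot_nroot]; exact g.sroot_pos i

lemma sroot_injective : Function.Injective g.sroot := fun i j h =>
  Fin.ext (g.simple_injective i.2 j.2 (congrArg Fin.val h))

/-- The Weyl group. -/
def weyl : Subgroup (Equiv.Perm (Fin D.nroots)) := Subgroup.closure (Set.range g.rperm)

/-- The fundamental reflections in the Weyl group. -/
def wS (i : Fin D.rank) : ↥g.weyl := ⟨g.rperm i, Subgroup.subset_closure ⟨i, rfl⟩⟩

/-- The permutation of a word. -/
def wperm (l : List (Fin D.rank)) : Equiv.Perm (Fin D.nroots) := (l.map g.rperm).prod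

lemma wperm_nil : g.wperm [] = 1 := rfl

lemma wperm_cons (i : Fin D.rank) (l : List (Fin D.rank)) :
    g.wperm (i :: l) = g.rperm i * g.wperm l := by simp [wperm]

lemma wperm_append (l m : List (Fin D.rank)) : g.wperm (l ++ m) = g.wperm l * g.wperm m := by
  simp [wperm]

lemma coe_wordVal (l : List (Fin D.rank)) :
    ((wordVal g.wS l : ↥g.weyl) : Equiv.Perm (Fin D.nroots)) = g.wperm l := by
  induction l with
  | nil => simp [wordVal_nil, wperm]
  | cons i l ih => rw [wordVal_cons, Subgroup.coe_mul, ih, wperm_cons]; rfl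

lemma wperm_mem (l : List (Fin D.rank)) : g.wperm l ∈ g.weyl :=
  g.coe_wordVal l ▸ (wordVal g.wS l).2

lemma exists_wperm {w : Equiv.Perm (Fin D.nroots)} (hw : w ∈ g.weyl) : ∃ l, g.wperm l = w := by
  induction hw using Subgroup.closure_induction_left with
  | one => exact ⟨[], rfl⟩
  | mul_left x hx y _ ih =>
    obtain ⟨i, rfl⟩ := hx
    obtain ⟨l, rfl⟩ := ih
    exact ⟨i :: l, g.wperm_cons i l⟩
  | inv_mul_cancel x hx y _ ih =>
    obtain ⟨i, rfl⟩ := hx
    obtain ⟨l, rfl⟩ := ih
    exact ⟨i :: l, by rw [g.wperm_cons, g.rperm_inv]⟩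

lemma wperm_reverse (l : List (Fin D.rank)) : g.wperm l.reverse = (g.wperm l)⁻¹ := by
  induction l with
  | nil => simp [wperm]
  | cons i l ih =>
    rw [List.reverse_cons, wperm_append, ih, wperm_cons, wperm_cons, wperm_nil, mul_one,
      _root_.mul_inv_rev, g.rperm_inv]

lemma wperm_nroot (l : List (Fin D.rank)) (a : Fin D.nroots) :
    g.wperm l (g.nroot a) = g.nroot (g.wperm l a) := by
  induction l with
  | nil => rfl
  | cons i l ih => rw [wperm_cons, Equiv.Perm.mul_apply, ih, g.rperm_nroot]; rfl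

/-! ### Linearity and reflections in arbitrary roots -/

lemma co_ext {a b : Fin D.nroots} (h : ∀ j < D.rank, g.co a j = g.co b j) : a = b := by
  refine Fin.ext (g.wt_inj a.2 b.2 ?_)
  rw [g.wt_eq, g.wt_eq]
  exact Finset.sum_congr rfl fun j hj => by rw [h j (Finset.mem_range.1 hj)]

lemma co_wperm (l : List (Fin D.rank)) (a : Fin D.nroots) {j : ℕ} (hj : j < D.rank) :
    g.co (g.wperm l a) j =
      ∑ q : Fin D.rank, g.co a q * g.co (g.wperm l (g.sroot q)) j := by
  induction l generalizing j with
  | nil =>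
    rw [wperm_nil, Finset.sum_eq_single (⟨j, hj⟩ : Fin D.rank)]
    · simp [sroot, g.co_simple hj hj]
    · intro q _ hq
      have : (q : ℕ) ≠ j := fun h => hq (Fin.ext h)
      simp [sroot, g.co_simple q.2 hj, this]
    · simp
  | cons i l ih =>
    have hlin : ∀ (b : Fin D.nroots), g.co (g.rperm i b) j =
        g.co b j - if (i : ℕ) = j then D.cartan i b else 0 := fun b => g.co_refl i.2 b.2 hj
    simp only [wperm_cons, Equiv.Perm.mul_apply, hlin]
    rw [ih hj]
    simp only [mul_sub, Finset.sum_sub_distrib]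
    congr 1
    by_cases hij : (i : ℕ) = j
    · simp only [if_pos hij]
      rw [g.cartan_eq_sum (g.wperm l a).2 i.2]
      calc ∑ k ∈ Finset.range D.rank, g.co (g.wperm l a) k * D.cartan i (D.simple k)
          = ∑ k ∈ Finset.range D.rank, ∑ q : Fin D.rank,
              g.co a q * (g.co (g.wperm l (g.sroot q)) k * D.cartan i (D.simple k)) := by
            refine Finset.sum_congr rfl fun k hk => ?_
            rw [ih (Finset.mem_range.1 hk), Finset.sum_mul]
            exact Finset.sum_congr rfl fun q _ => by ring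
        _ = _ := by
            rw [Finset.sum_comm]
            refine Finset.sum_congr rfl fun q _ => ?_
            rw [g.cartan_eq_sum (g.wperm l (g.sroot q)).2 i.2, Finset.mul_sum]
    · simp [hij]

lemma wt_wperm (l : List (Fin D.rank)) (a : Fin D.nroots) :
    g.wt (g.wperm l a) = ∑ q : Fin D.rank, g.co a q * g.wt (g.wperm l (g.sroot q)) := by
  simp only [g.wt_eq, Finset.mul_sum]
  rw [Finset.sum_comm]
  refine Finset.sum_congr rfl fun j hj => ?_
  rw [g.co_wperm l a (Finset.mem_range.1 hj), Finset.sum_mul]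
  exact Finset.sum_congr rfl fun q _ => by ring

/-- `σ` is the reflection in the root `r`. -/
def IsReflIn (r : Fin D.nroots) (σ : Equiv.Perm (Fin D.nroots)) : Prop :=
  ∀ s : Fin D.nroots, ∀ j < D.rank, g.co (σ s) j = g.co s j - pair D r s * g.co r j

lemma isReflIn_unique {r : Fin D.nroots} {σ τ : Equiv.Perm (Fin D.nroots)}
    (h : g.IsReflIn r σ) (h' : g.IsReflIn r τ) : σ = τ :=
  Equiv.ext fun s => g.co_ext fun j hj => by rw [h s j hj, h' s j hj]

lemma isReflIn_rperm (i : Fin D.rank) : g.IsReflIn (g.sroot i) (g.rperm i) := by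
  intro s j hj
  rw [g.rperm_val, g.co_refl i.2 s.2 hj]
  simp only [sroot]
  rw [g.pair_simple i.2 s.2, g.co_simple i.2 hj]
  split <;> ring

lemma pair_refl {i r u : ℕ} (hi : i < D.rank) (hr : r < D.nroots) (hu : u < D.nroots) :
    pair D (D.reflectRoot i r) u = pair D r (D.reflectRoot i u) := by
  rw [← g.fpair_eq _ hu, ← g.fpair_eq _ (g.refl_lt hi hu),
    (StructChecks.refl_facts g.lie g.struc hi hr).1, (StructChecks.refl_facts g.lie g.struc hi hu).1,
    StructChecks.fpair_refl g.lie g.struc hi hr hu]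

lemma isReflIn_conj (k : Fin D.rank) {r : Fin D.nroots} {σ : Equiv.Perm (Fin D.nroots)}
    (h : g.IsReflIn r σ) : g.IsReflIn (g.rperm k r) (g.rperm k * σ * g.rperm k) := by
  intro s j hj
  set u := g.rperm k s with hu
  have hs : s = g.rperm k u := (g.rperm_rperm k s).symm
  have e : ∀ b : Fin D.nroots, g.co (g.rperm k b) j =
      g.co b j - if (k : ℕ) = j then D.cartan k b else 0 := fun b => g.co_refl k.2 b.2 hj
  have hA : D.cartan k (σ u) = D.cartan k u - pair D r u * D.cartan k r := by
    rw [g.cartan_eq_sum (σ u).2 k.2, g.cartan_eq_sum u.2 k.2, g.cartan_eq_sum r.2 k.2,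
      Finset.mul_sum, ← Finset.sum_sub_distrib]
    exact Finset.sum_congr rfl fun m hm => by rw [h u m (Finset.mem_range.1 hm)]; ring
  have hP : pair D (g.rperm k r) s = pair D r u := g.pair_refl k.2 r.2 s.2
  rw [Equiv.Perm.mul_apply, Equiv.Perm.mul_apply, e, ← hu, h u j hj, hA, hP]
  conv_rhs => rw [hs, e u, e r]
  split_ifs <;> ring

/-- If `w` maps `p_q` to `p_i`, it conjugates the reflections. -/
lemma wperm_conj {l : List (Fin D.rank)} {q i : Fin D.rank}
    (h : g.wperm l (g.sroot q) = g.sroot i) :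
    g.wperm l * g.rperm q = g.rperm i * g.wperm l := by
  have key : ∀ m : List (Fin D.rank),
      g.IsReflIn (g.wperm m (g.sroot q)) (g.wperm m * g.rperm q * (g.wperm m)⁻¹) := by
    intro m
    induction m with
    | nil => simpa [wperm_nil] using g.isReflIn_rperm q
    | cons k m ih =>
      have := g.isReflIn_conj k ih
      rw [wperm_cons, _root_.mul_inv_rev, g.rperm_inv, Equiv.Perm.mul_apply]
      simpa only [mul_assoc] using this
  have h1 := key l
  rw [h] at h1
  rw [← g.isReflIn_unique h1 (g.isReflIn_rperm i), inv_mul_cancel_right]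

/-! ### Inversions and the exchange condition -/

lemma ninv_one : ninv D 1 = 0 := by
  rw [ninv, Finset.card_eq_zero, Finset.filter_eq_empty_iff]
  intro a _ h
  simp only [Equiv.Perm.coe_one, id_eq] at h
  omega

lemma ninv_rperm_mul (i : Fin D.rank) (w : Equiv.Perm (Fin D.nroots))
    (hw : ∀ a, w (g.nroot a) = g.nroot (w a)) :
    ninv D (g.rperm i * w) ≤ ninv D w + 1 ∧
      (half D ≤ (w.symm (g.sroot i)).val → ninv D (g.rperm i * w) = ninv D w + 1) := by
  classical
  set b := w.symm (g.sroot i) with hb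
  set T := Finset.univ.filter fun a : Fin D.nroots => half D ≤ a.val ∧ (w a).val < half D
  set T' := Finset.univ.filter fun a : Fin D.nroots =>
    half D ≤ a.val ∧ ((g.rperm i * w) a).val < half D
  have hT : ∀ a, a ∈ T ↔ half D ≤ a.val ∧ (w a).val < half D := fun a => by
    simp [T]
  have hT' : ∀ a, a ∈ T' ↔ half D ≤ a.val ∧ (g.rperm i (w a)).val < half D := fun a =>
    Finset.mem_filter.trans (and_iff_right (Finset.mem_univ a))
  have hsub : T' ⊆ insert b T := by
    intro a ha
    rw [hT'] at ha
    rw [Finset.mem_insert, hT]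
    by_cases h : (w a).val < half D
    · exact Or.inr ⟨ha.1, h⟩
    · by_cases hs : w a = g.sroot i
      · exact Or.inl (by rw [hb, ← hs, Equiv.symm_apply_apply])
      · have := g.rperm_pos i (by omega) hs; omega
  refine ⟨(Finset.card_le_card hsub).trans (Finset.card_insert_le _ _), fun hpos => ?_⟩
  have heq : T' = insert b T := by
    refine Finset.Subset.antisymm hsub fun a ha => ?_
    rw [Finset.mem_insert, hT] at ha
    rw [hT']
    rcases ha with rfl | ⟨h1, h2⟩
    · refine ⟨hpos, ?_⟩
      rw [hb, Equiv.apply_symm_apply, g.rperm_sroot]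
      exact g.nroot_sroot_neg i
    · refine ⟨h1, g.rperm_neg i h2 fun h => ?_⟩
      have : w (g.nroot b) = g.nroot (g.sroot i) := by rw [hw, hb, Equiv.apply_symm_apply]
      rw [← this] at h
      rw [w.injective h, g.nroot_pos_iff] at h1
      omega
  have hnot : b ∉ T := by
    rw [hT, hb, Equiv.apply_symm_apply]
    have := g.sroot_pos i; omega
  show T'.card = T.card + 1
  rw [heq, Finset.card_insert_of_notMem hnot]

lemma ninv_le_length (l : List (Fin D.rank)) : ninv D (g.wperm l) ≤ l.length := by
  induction l with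
  | nil => rw [wperm_nil, g.ninv_one]; rfl
  | cons i l ih =>
    rw [wperm_cons, List.length_cons]
    exact (g.ninv_rperm_mul i _ (g.wperm_nroot l)).1.trans (by omega)

/-- The exchange step with its root. -/
lemma exists_exchange {i : Fin D.rank} {l : List (Fin D.rank)}
    (hneg : ((g.wperm l).symm (g.sroot i)).val < half D) :
    ∃ j, ∃ hj : j < l.length, g.wperm (l.take j) (g.sroot l[j]) = g.sroot i ∧
      g.rperm i * g.wperm (l.take j) = g.wperm (l.take (j + 1)) := by
  classical
  let a : ℕ → Fin D.nroots := fun j => (g.wperm (l.take j)).symm (g.sroot i)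
  have hex : ∃ j, (a j).val < half D := ⟨l.length, by simpa [a] using hneg⟩
  set j := Nat.find hex with hj
  have hpos : 0 < j := by
    rcases Nat.eq_zero_or_pos j with h0 | h0
    · have := Nat.find_spec hex
      rw [← hj, h0] at this
      simp only [a, List.take_zero, wperm_nil, Equiv.Perm.one_def, Equiv.refl_symm,
        Equiv.refl_apply] at this
      have := g.sroot_pos i; omega
    · exact h0
  obtain ⟨k, hk⟩ : ∃ k, j = k + 1 := ⟨j - 1, by omega⟩
  have hlt : k < l.length := by
    by_contra hc
    have : (a k).val < half D := by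
      simpa [a, List.take_of_length_le (Nat.not_lt.1 hc)] using hneg
    exact Nat.find_min hex (m := k) (by omega) this
  have hak : ¬ (a k).val < half D := Nat.find_min hex (by omega)
  have hsucc : g.wperm (l.take (k + 1)) = g.wperm (l.take k) * g.rperm l[k] := by
    rw [List.take_succ_eq_append_getElem hlt, wperm_append, wperm_cons, wperm_nil, mul_one]
  have hak1 : a (k + 1) = g.rperm l[k] (a k) := by
    show (g.wperm (l.take (k + 1))).symm (g.sroot i) =
      g.rperm l[k] ((g.wperm (l.take k)).symm (g.sroot i))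
    rw [Equiv.symm_apply_eq, hsucc, Equiv.Perm.mul_apply, g.rperm_rperm, Equiv.apply_symm_apply]
  have heq : a k = g.sroot l[k] := by
    by_contra hne
    have h1 := g.rperm_pos l[k] (by omega) hne
    have h2 := Nat.find_spec hex
    rw [← hj, hk, hak1] at h2
    omega
  have hroot : g.wperm (l.take k) (g.sroot l[k]) = g.sroot i := by
    rw [← heq]; exact Equiv.apply_symm_apply _ _
  exact ⟨k, hlt, hroot, by rw [hsucc, g.wperm_conj hroot]⟩

lemma wperm_eraseIdx {i : Fin D.rank} {l : List (Fin D.rank)} {j : ℕ} (hj : j < l.length)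
    (h : g.rperm i * g.wperm (l.take j) = g.wperm (l.take (j + 1))) :
    g.rperm i * g.wperm l = g.wperm (l.take j ++ l.drop (j + 1)) := by
  conv_lhs => rw [← List.take_append_drop (j + 1) l, wperm_append, ← h]
  rw [wperm_append, ← mul_assoc, ← mul_assoc, g.rperm_mul_self, one_mul]

lemma isRed_iff_ninv {l : List (Fin D.rank)} :
    IsRed g.wS l ↔ ninv D (g.wperm l) = l.length := by
  constructor
  · intro h
    induction l with
    | nil => rw [wperm_nil, g.ninv_one]; rfl
    | cons i l ih =>
      have hl := ih h.tail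
      by_cases hpos : half D ≤ ((g.wperm l).symm (g.sroot i)).val
      · rw [wperm_cons, (g.ninv_rperm_mul i _ (g.wperm_nroot l)).2 hpos, hl]; rfl
      · obtain ⟨j, hj, -, he⟩ := g.exists_exchange (i := i) (l := l) (by omega)
        have h1 := h (l.take j ++ l.drop (j + 1)) (by
          apply Subtype.ext
          rw [g.coe_wordVal, g.coe_wordVal, wperm_cons, g.wperm_eraseIdx hj he])
        simp only [List.length_append, List.length_take, List.length_drop, List.length_cons] at h1
        omega
  · intro h l' hl'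
    have h2 := g.ninv_le_length l'
    rw [← g.coe_wordVal, hl', g.coe_wordVal, h] at h2
    exact h2

theorem exchangeData : ExchangeData g.wS := by
  refine ⟨fun i => Subtype.ext (g.rperm_mul_self i), fun i h => ?_, fun i j h => ?_, ?_,
    fun i l hred hnred => ?_⟩
  · have h1 : g.rperm i = 1 := congrArg Subtype.val h
    have h2 := g.rperm_sroot i
    rw [h1, Equiv.Perm.one_apply] at h2
    have := g.nroot_sroot_neg i; have := g.sroot_pos i
    rw [← h2] at *; omega
  · have h1 : g.rperm i = g.rperm j := congrArg Subtype.val h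
    by_contra hne
    have h2 := g.rperm_pos j (g.sroot_pos i) fun hc => hne (g.sroot_injective hc)
    rw [← h1, g.rperm_sroot] at h2
    have := g.nroot_sroot_neg i; omega
  · refine eq_top_iff.2 fun w _ => ?_
    obtain ⟨l, hl⟩ := g.exists_wperm w.2
    rw [show w = wordVal g.wS l from Subtype.ext (by rw [g.coe_wordVal, hl])]
    exact Subgroup.list_prod_mem _ fun x hx => by
      obtain ⟨i, _, rfl⟩ := List.mem_map.1 hx
      exact Subgroup.subset_closure ⟨i, rfl⟩
  · have hneg : ((g.wperm l).symm (g.sroot i)).val < half D := by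
      by_contra hc
      apply hnred
      rw [g.isRed_iff_ninv, wperm_cons, (g.ninv_rperm_mul i _ (g.wperm_nroot l)).2 (by omega),
        g.isRed_iff_ninv.1 hred]
      rfl
    obtain ⟨j, hj, -, he⟩ := g.exists_exchange hneg
    exact ⟨j, hj, Subtype.ext (by rw [Subgroup.coe_mul, g.coe_wordVal, g.coe_wordVal]; exact he)⟩

lemma eq_one_of_pos {w : Equiv.Perm (Fin D.nroots)} (hw : w ∈ g.weyl)
    (h : ∀ a : Fin D.nroots, half D ≤ a.val → half D ≤ (w a).val) : w = 1 := by
  obtain ⟨l, rfl⟩ := g.exists_wperm hw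
  obtain ⟨l', hr, he, -⟩ := exists_isRed (s := g.wS) l
  have h0 : ninv D (g.wperm l) = 0 := by
    rw [ninv, Finset.card_eq_zero, Finset.filter_eq_empty_iff]
    intro a _ ha
    have := h a ha.1; omega
  have e : g.wperm l = g.wperm l' := by rw [← g.coe_wordVal, ← he, g.coe_wordVal]
  have h1 := g.isRed_iff_ninv.1 hr
  rw [← e, h0] at h1
  rw [e, List.length_eq_zero_iff.1 h1.symm, wperm_nil]

/-- There is an element negating every positive root. -/
lemma exists_longest :
    ∃ l : List (Fin D.rank),
      ∀ a : Fin D.nroots, half D ≤ a.val → (g.wperm l a).val < half D := by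
  classical
  have hb : ∀ w : Equiv.Perm (Fin D.nroots), ninv D w ≤ D.nroots := fun w =>
    (Finset.card_le_univ _).trans_eq (Fintype.card_fin _)
  let P : ℕ → Prop := fun n => ∃ l, ninv D (g.wperm l) = n
  have hP0 : P 0 := ⟨[], by rw [wperm_nil, g.ninv_one]⟩
  obtain ⟨l, hl⟩ := Nat.findGreatest_spec (P := P) (Nat.zero_le D.nroots) hP0
  have hmax : ∀ m, ninv D (g.wperm m) ≤ ninv D (g.wperm l) := fun m => by
    rw [hl]; exact Nat.le_findGreatest (hb _) ⟨m, rfl⟩
  refine ⟨l.reverse, fun a ha => ?_⟩
  rw [g.wperm_reverse]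
  have hsimp : ∀ q : Fin D.rank, ((g.wperm l)⁻¹ (g.sroot q)).val < half D := by
    intro q
    by_contra hc
    have h1 := (g.ninv_rperm_mul q _ (g.wperm_nroot l)).2 (Nat.not_lt.1 hc)
    have h2 := hmax (q :: l)
    rw [wperm_cons] at h2
    omega
  have hwt : g.wt ((g.wperm l)⁻¹ a) ≤ 0 := by
    rw [← g.wperm_reverse, g.wt_wperm]
    refine Finset.sum_nonpos fun q _ => ?_
    have h1 := hsimp q
    rw [← g.wperm_reverse] at h1
    have h2 : ¬ 0 < g.wt (g.wperm l.reverse (g.sroot q)) := by
      rw [g.wt_pos_iff (Fin.isLt _)]; omega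
    exact mul_nonpos_of_nonneg_of_nonpos (g.co_nonneg a.2 ha q.2) (not_lt.1 h2)
  by_contra hc
  have := g.wt_pos (Nat.not_lt.1 hc) ((g.wperm l)⁻¹ a).2
  omega

end Good

end CfsgLib.Chev
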