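import Mathlib
import Cfsg.Agent.Lib.Chev.Borel
import Cfsg.Agent.Lib.Chev.Weyl

/-!
The monomial subgroup `N` acts on the roots; `N / H` is the Weyl group.
-/

set_option autoImplicit false

namespace CfsgLib.Chev

open Cfsg.Lie Matrix

variable {D : ChevalleyDatum} {F : Type*} [Field F]

namespace Good

variable (g : Good D)
include g

lemma eq_of_xG_eq {a b : ℕ} (ha : a < D.nroots) (hb : b < D.nroots) (hab : a ≠ b) {t u : F}
    (h : g.xG a t = g.xG b u) : t = 0 := by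
  obtain ⟨v, hv⟩ := g.coroot_unimodular ha
  have hne : (⟨D.neg a, g.neg_lt ha⟩ : Fin D.nroots).val ≠ D.negIdx.getD b 0 := by
    show D.neg a ≠ D.neg b
    intro hc; apply hab
    rw [← g.neg_neg ha, hc, g.neg_neg hb]
  have key : ∀ j : Fin D.rank, (corootCo D a j : F) * t = 0 := by
    intro j
    rw [← g.x_coroot_entry ha t j, ← g.coe_xG a t, h, g.coe_xG]
    simp only [ChevalleyDatum.x, dif_pos hb, ChevalleyDatum.xMat, Matrix.of_apply]
    by_cases hsr : (⟨D.neg a, g.neg_lt ha⟩ : Fin D.nroots) = ⟨b, hb⟩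
    · simp [hsr]
    · rw [if_neg hsr, if_neg hne]
  have : ((∑ j ∈ Finset.range D.rank, v j * corootCo D a j : ℤ) : F) * t = 0 := by
    push_cast
    rw [Finset.sum_mul]
    exact Finset.sum_eq_zero fun j hj => by
      rw [mul_assoc, key ⟨j, Finset.mem_range.1 hj⟩, mul_zero]
  rw [hv] at this
  simpa using this

/-- `x` permutes the root subgroups by `π`. -/
def Acts (x : GL D.Idx F) (π : Equiv.Perm (Fin D.nroots)) : Prop :=
  ∀ s : Fin D.nroots, ∃ c : Fˣ, ∀ t : F, x * g.xG s t * x⁻¹ = g.xG (π s) ((c : F) * t)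

lemma acts_unique {x : GL D.Idx F} {π π' : Equiv.Perm (Fin D.nroots)} (h : g.Acts x π)
    (h' : g.Acts x π') : π = π' := by
  refine Equiv.ext fun s => ?_
  obtain ⟨c, hc⟩ := h s
  obtain ⟨c', hc'⟩ := h' s
  by_contra hne
  exact c.ne_zero (by
    simpa using g.eq_of_xG_eq (π s).2 (π' s).2 (fun e => hne (Fin.ext e)) ((hc 1).symm.trans (hc' 1)))

lemma acts_mul {x y : GL D.Idx F} {π σ : Equiv.Perm (Fin D.nroots)} (hx : g.Acts x π)
    (hy : g.Acts y σ) : g.Acts (x * y) (π * σ) := by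
  intro s
  obtain ⟨c, hc⟩ := hy s
  obtain ⟨d, hd⟩ := hx (σ s)
  refine ⟨d * c, fun t => ?_⟩
  rw [show x * y * g.xG s t * (x * y)⁻¹ = x * (y * g.xG s t * y⁻¹) * x⁻¹ by group, hc, hd,
    Units.val_mul, mul_assoc]
  rfl

lemma acts_inv {x : GL D.Idx F} {π : Equiv.Perm (Fin D.nroots)} (hx : g.Acts x π) :
    g.Acts x⁻¹ π⁻¹ := by
  intro s
  obtain ⟨c, hc⟩ := hx (π⁻¹ s)
  refine ⟨c⁻¹, fun t => ?_⟩
  have h := hc (((c⁻¹ : Fˣ) : F) * t)
  rw [show π (π⁻¹ s) = s from π.apply_symm_apply s, ← mul_assoc, ← Units.val_mul, mul_inv_cancel, Units.val_one,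
    one_mul] at h
  rw [← h, inv_inv]
  group

lemma acts_one : g.Acts (1 : GL D.Idx F) 1 := fun s => ⟨1, fun t => by simp⟩

lemma acts_diagonal {h : GL D.Idx F} (hh : h ∈ D.diagonalSubgroup F) : g.Acts h 1 := by
  rw [g.diagonal_eq_range] at hh
  obtain ⟨c, rfl⟩ := hh
  exact fun s => ⟨_, fun t => g.torHom_conj_xG c s.2 t⟩

/-- The element `n_i`. -/
noncomputable def nI (i : Fin D.rank) : GL D.Idx F := g.nG (D.simple i) 1

lemma nI_mem (i : Fin D.rank) : g.nI i ∈ D.monomialSubgroup F := g.nG_mem (g.simple_lt i.2)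

lemma acts_nI (i : Fin D.rank) : g.Acts (g.nI i : GL D.Idx F) (g.rperm i) := by
  intro s
  have key : ∀ t : F, g.nI i * g.xG s t * (g.nI i)⁻¹ =
      g.xG (g.rperm i s) ((g.eta i s : F) * t) := fun t => g.nG_conj_xG i.2 s.2 t
  rcases g.eta_sign i.2 s.2 with h | h
  · exact ⟨1, fun t => by rw [key, h]; simp⟩
  · exact ⟨-1, fun t => by rw [key, h]; simp⟩

lemma exists_acts {x : GL D.Idx F} (hx : x ∈ D.monomialSubgroup F) :
    ∃ π ∈ g.weyl, g.Acts x π :=
  g.monomial_induction (P := fun x => ∃ π ∈ g.weyl, g.Acts x π)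
    (fun _ hh => ⟨1, one_mem _, g.acts_diagonal hh⟩)
    (fun i hi => ⟨g.rperm ⟨i, hi⟩, (g.wS ⟨i, hi⟩).2, g.acts_nI ⟨i, hi⟩⟩)
    (fun i hi => ⟨(g.rperm ⟨i, hi⟩)⁻¹, inv_mem (g.wS ⟨i, hi⟩).2, g.acts_inv (g.acts_nI ⟨i, hi⟩)⟩)
    (fun _ _ _ _ ⟨π, hπ, h⟩ ⟨σ, hσ, h'⟩ => ⟨π * σ, mul_mem hπ hσ, g.acts_mul h h'⟩) hx

/-- The action of `N` on the roots. -/
noncomputable def rootAct : ↥(D.monomialSubgroup F) →* ↥g.weyl where
  toFun x := ⟨(g.exists_acts x.2).choose, (g.exists_acts x.2).choose_spec.1⟩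
  map_one' := Subtype.ext (g.acts_unique
    (g.exists_acts (one_mem (D.monomialSubgroup F))).choose_spec.2 g.acts_one)
  map_mul' x y := Subtype.ext (g.acts_unique (g.exists_acts (x * y).2).choose_spec.2
    (g.acts_mul (g.exists_acts x.2).choose_spec.2 (g.exists_acts y.2).choose_spec.2))

lemma acts_rootAct (x : ↥(D.monomialSubgroup F)) :
    g.Acts (x : GL D.Idx F) (g.rootAct x).1 := (g.exists_acts x.2).choose_spec.2

lemma rootAct_eq {x : ↥(D.monomialSubgroup F)} {π : Equiv.Perm (Fin D.nroots)}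
    (h : g.Acts (x : GL D.Idx F) π) : (g.rootAct x).1 = π := g.acts_unique (g.acts_rootAct x) h

/-- The element of a word. -/
noncomputable def wordN (l : List (Fin D.rank)) : GL D.Idx F := (l.map fun i => g.nI i).prod

lemma wordN_cons (i : Fin D.rank) (l : List (Fin D.rank)) :
    g.wordN (F := F) (i :: l) = g.nI i * g.wordN l := by simp [wordN]

lemma wordN_append (l m : List (Fin D.rank)) :
    g.wordN (F := F) (l ++ m) = g.wordN l * g.wordN m := by simp [wordN]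

lemma wordN_nil : g.wordN (F := F) [] = 1 := rfl

lemma wordN_mem (l : List (Fin D.rank)) : g.wordN (F := F) l ∈ D.monomialSubgroup F := by
  induction l with
  | nil => exact one_mem _
  | cons i l ih => rw [wordN_cons]; exact mul_mem (g.nI_mem i) ih

lemma acts_wordN (l : List (Fin D.rank)) : g.Acts (g.wordN l : GL D.Idx F) (g.wperm l) := by
  induction l with
  | nil => exact g.acts_one
  | cons i l ih => rw [wordN_cons, wperm_cons]; exact g.acts_mul (g.acts_nI i) ih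

lemma diag_conj {x h : GL D.Idx F} (hx : x ∈ D.monomialSubgroup F)
    (hh : h ∈ D.diagonalSubgroup F) : x * h * x⁻¹ ∈ D.diagonalSubgroup F :=
  (Subgroup.mem_normalizer_iff.1 (g.monomial_le_normalizer hx) h).1 hh

lemma nI_sq (i : Fin D.rank) : (g.nI i : GL D.Idx F) * g.nI i ∈ D.diagonalSubgroup F := by
  have hp := g.simple_lt i.2
  have h : g.nI (F := F) i * g.nI i = (g.hG (D.simple i) (-1))⁻¹ := by
    rw [g.hG_eq hp, ← g.nG_inv_one hp, _root_.mul_inv_rev, inv_inv]; rfl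
  rw [h]; exact inv_mem (g.hG_mem hp _)

lemma wordN_conj_nG (l : List (Fin D.rank)) (s : Fin D.nroots) :
    ∃ e : Fˣ, ∀ u : Fˣ, g.wordN l * g.nG s u * (g.wordN l)⁻¹ = g.nG (g.wperm l s) (e * u) := by
  induction l with
  | nil => exact ⟨1, fun u => by simp [wordN_nil, wperm_nil]⟩
  | cons i l ih =>
    obtain ⟨e, he⟩ := ih
    obtain ⟨d, hd⟩ := g.nG_conj_nG (F := F) i.2 (g.wperm l s).2
    refine ⟨d * e, fun u => ?_⟩
    rw [wordN_cons, show g.nI i * g.wordN l * g.nG s u * (g.nI i * g.wordN l)⁻¹ =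
      g.nI i * (g.wordN l * g.nG s u * (g.wordN l)⁻¹) * (g.nI i)⁻¹ by group, he, nI, hd,
      mul_assoc, g.wperm_cons]
    rfl

/-- A word of the identity gives an element of `H`. -/
theorem wordN_mem_diagonal {l : List (Fin D.rank)} (h : g.wperm l = 1) :
    g.wordN (F := F) l ∈ D.diagonalSubgroup F := by
  induction' hn : l.length using Nat.strong_induction_on with n ih generalizing l
  rcases l with _ | ⟨a, l0⟩
  · exact one_mem _
  have hnred : ¬ IsRed g.wS (a :: l0) := fun hr => by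
    have := g.isRed_iff_ninv.1 hr
    rw [h, g.ninv_one] at this
    simp at this
  obtain ⟨p, i, m, hspl, hm, him⟩ : ∃ p i m, a :: l0 = p ++ i :: m ∧ IsRed g.wS m ∧
      ¬ IsRed g.wS (i :: m) := by
    clear hn h ih
    revert hnred
    generalize a :: l0 = w
    intro hw
    induction w with
    | nil => exact absurd (fun _ _ => Nat.zero_le _) hw
    | cons b w ihw =>
      by_cases hwr : IsRed g.wS w
      · exact ⟨[], b, w, rfl, hwr, hw⟩
      · obtain ⟨p, i, m, e, h1, h2⟩ := ihw hwr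
        exact ⟨b :: p, i, m, by rw [e]; rfl, h1, h2⟩
  have hneg : ((g.wperm m).symm (g.sroot i)).val < half D := by
    by_contra hc
    apply him
    rw [g.isRed_iff_ninv, wperm_cons, (g.ninv_rperm_mul i _ (g.wperm_nroot m)).2 (by omega),
      g.isRed_iff_ninv.1 hm]
    rfl
  obtain ⟨j, hj, hroot, he⟩ := g.exists_exchange hneg
  obtain ⟨e, hee⟩ := g.wordN_conj_nG (F := F) (m.take j) (g.sroot m[j])
  have h1 := hee 1
  rw [hroot, mul_one, show g.nG (g.sroot m[j]) (1 : Fˣ) = g.nI m[j] from rfl,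
    show g.nG (g.sroot i) e = g.hG (D.simple i) e * g.nI i from g.nG_eq_hG_mul (g.simple_lt i.2) e]
    at h1
  set T := g.wordN (F := F) (m.take j)
  set R := g.wordN (F := F) (m.drop (j + 1))
  have hm' : g.wordN (F := F) m = g.hG (D.simple i) e * g.nI i * T * R := by
    conv_lhs => rw [← List.take_append_drop (j + 1) m, List.take_succ_eq_append_getElem hj]
    rw [wordN_append, wordN_append, wordN_cons, wordN_nil, mul_one, ← h1, inv_mul_cancel_right]
  have hd : g.nI (F := F) i * g.hG (D.simple i) e * g.nI i ∈ D.diagonalSubgroup F := by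
    rw [show g.nI (F := F) i * g.hG (D.simple i) e * g.nI i =
      g.nI i * g.hG (D.simple i) e * (g.nI i)⁻¹ * (g.nI i * g.nI i) by group]
    exact mul_mem (g.diag_conj (g.nI_mem i) (g.hG_mem (g.simple_lt i.2) e)) (g.nI_sq i)
  set l' := p ++ (m.take j ++ m.drop (j + 1)) with hl'
  have hl'1 : g.wperm l' = 1 := by
    rw [← h, hspl, hl', g.wperm_append p, g.wperm_append p, wperm_cons,
      g.wperm_eraseIdx hj he]
  have hlen : l'.length < n := by
    rw [← hn, hspl, hl']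
    simp only [List.length_append, List.length_cons, List.length_take, List.length_drop]
    omega
  have hrec := ih l'.length hlen hl'1 rfl
  have hid : g.wordN (F := F) (p ++ i :: m) =
      (g.wordN p * (g.nI i * g.hG (D.simple i) e * g.nI i) * (g.wordN p)⁻¹) * g.wordN l' := by
    rw [wordN_append, wordN_cons, hm', hl', wordN_append, wordN_append]
    simp only [mul_assoc, inv_mul_cancel_left, T, R]
  rw [hspl, hid]
  exact mul_mem (g.diag_conj (g.wordN_mem p) hd) hrec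

lemma exists_wordN {x : GL D.Idx F} (hx : x ∈ D.monomialSubgroup F) :
    ∃ l, (g.wordN l)⁻¹ * x ∈ D.diagonalSubgroup F := by
  refine g.monomial_induction
    (P := fun x => ∃ l, (g.wordN l)⁻¹ * x ∈ D.diagonalSubgroup F) ?_ ?_ ?_ ?_ hx
  · exact fun h hh => ⟨[], by simpa [wordN_nil] using hh⟩
  · exact fun i hi => ⟨[⟨i, hi⟩], by simp [wordN, nI]⟩
  · intro i hi
    refine ⟨[⟨i, hi⟩], ?_⟩
    rw [show g.wordN (F := F) [⟨i, hi⟩] = g.nG (D.simple i) 1 by simp [wordN, nI],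
      ← _root_.mul_inv_rev]
    exact inv_mem (g.nI_sq ⟨i, hi⟩)
  · rintro x y hxN hyN ⟨l, hl⟩ ⟨m, hm⟩
    refine ⟨l ++ m, ?_⟩
    rw [wordN_append, show (g.wordN l * g.wordN m)⁻¹ * (x * y) =
      (g.wordN m)⁻¹ * ((g.wordN l)⁻¹ * x) * ((g.wordN m)⁻¹)⁻¹ * ((g.wordN m)⁻¹ * y) by group]
    exact mul_mem (g.diag_conj (inv_mem (g.wordN_mem m)) hl) hm

theorem rootAct_ker :
    (g.rootAct (F := F)).ker = (D.diagonalSubgroup F).subgroupOf (D.monomialSubgroup F) := by
  ext x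
  rw [MonoidHom.mem_ker, Subgroup.mem_subgroupOf]
  constructor
  · intro hx
    obtain ⟨l, hl⟩ := g.exists_wordN x.2
    have h1 : g.wperm l = 1 := by
      have ha := g.acts_mul (g.acts_wordN l) (g.acts_diagonal hl)
      rw [mul_inv_cancel_left, mul_one] at ha
      rw [← g.rootAct_eq ha, hx]; rfl
    have h2 := mul_mem (g.wordN_mem_diagonal h1) hl
    rwa [mul_inv_cancel_left] at h2
  · exact fun hx => Subtype.ext (g.rootAct_eq (g.acts_diagonal hx))

theorem rootAct_surjective : Function.Surjective (g.rootAct (F := F)) := by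
  intro w
  obtain ⟨l, hl⟩ := g.exists_wperm w.2
  refine ⟨⟨g.wordN l, g.wordN_mem (F := F) l⟩, Subtype.ext ?_⟩
  exact (g.rootAct_eq (x := ⟨g.wordN (F := F) l, g.wordN_mem (F := F) l⟩) (g.acts_wordN l)).trans hl

lemma posUnipotent_conj_eq_pos {x : GL D.Idx F} (hx : x ∈ D.borelSubgroup F)
    {π : Equiv.Perm (Fin D.nroots)} (ha : g.Acts x π) {s : Fin D.nroots} (hs : half D ≤ s.val) :
    half D ≤ (π s).val := by
  by_contra hc
  obtain ⟨c, hc'⟩ := ha s
  have hnorm : D.borelSubgroup F ≤ Subgroup.normalizer (D.posUnipotent F : Set (GL D.Idx F)) :=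
    sup_le Subgroup.le_normalizer g.diagonal_le_normalizer_pos
  have h1 := (Subgroup.mem_normalizer_iff.1 (hnorm hx) (g.xG s 1)).1
    (g.xG_mem_posUnipotent ((g.isPosRoot_iff _).2 ⟨hs, s.2⟩) 1)
  rw [hc'] at h1
  have h2 : g.xG (π s) ((c : F) * 1) ∈ D.borelSubgroup F ⊓ D.negUnipotent F :=
    ⟨Subgroup.mem_sup_left h1, g.xG_mem_negUnipotent ((g.isNegRoot_iff _).2 (by omega)) _⟩
  rw [g.borel_inf_neg, Subgroup.mem_bot] at h2
  have h3 := (g.x_eq_one_iff (π s).2 _).1 (congrArg Units.val h2)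
  simp at h3

theorem borel_inf_monomial :
    D.borelSubgroup F ⊓ D.monomialSubgroup F = D.diagonalSubgroup F := by
  refine le_antisymm (fun x hx => ?_) (le_inf le_sup_right le_sup_left)
  have h1 : g.rootAct ⟨x, hx.2⟩ = 1 := Subtype.ext (g.eq_one_of_pos (g.rootAct ⟨x, hx.2⟩).2
    fun a ha => g.posUnipotent_conj_eq_pos hx.1 (g.acts_rootAct ⟨x, hx.2⟩) ha)
  have h2 : (⟨x, hx.2⟩ : ↥(D.monomialSubgroup F)) ∈ (g.rootAct (F := F)).ker := h1
  rw [g.rootAct_ker] at h2
  exact h2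

theorem pos_inf_monomial : D.posUnipotent F ⊓ D.monomialSubgroup F = ⊥ := by
  refine le_bot_iff.1 fun x hx => ?_
  have h : x ∈ D.borelSubgroup F ⊓ D.monomialSubgroup F := ⟨Subgroup.mem_sup_left hx.1, hx.2⟩
  rw [g.borel_inf_monomial] at h
  rw [← g.pos_inf_diagonal]
  exact ⟨hx.1, h⟩

lemma conj_rootGen {x : GL D.Idx F} {π : Equiv.Perm (Fin D.nroots)} (ha : g.Acts x π) {S T : Set ℕ}
    (h : ∀ s : Fin D.nroots, s.val ∈ S → (π s).val ∈ T) :
    (rootGen D F S).map (MulAut.conj x).toMonoidHom ≤ rootGen D F T := by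
  rw [Subgroup.map_le_iff_le_comap]
  refine g.rootGen_le fun r hS hr t => ?_
  obtain ⟨c, hc⟩ := ha ⟨r, hr⟩
  show x * g.xG r t * x⁻¹ ∈ rootGen D F T
  rw [hc]
  exact g.mem_rootGen (π ⟨r, hr⟩).2 (h ⟨r, hr⟩ hS) _

/-- A representative of the longest element maps `U` to `V`. -/
theorem exists_map_pos_eq_neg :
    ∃ n ∈ D.monomialSubgroup F,
      (D.posUnipotent F).map (MulAut.conj n).toMonoidHom = D.negUnipotent F := by
  obtain ⟨l, hl⟩ := g.exists_longest
  refine ⟨g.wordN l, g.wordN_mem l, ?_⟩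
  rw [g.posUnipotent_eq, g.negUnipotent_eq]
  have ha := g.acts_wordN (F := F) l
  refine le_antisymm (g.conj_rootGen ha fun s hs => hl s hs) ?_
  refine g.rootGen_le fun r hS hr t => ?_
  obtain ⟨c, hc⟩ := ha ((g.wperm l).symm ⟨r, hr⟩)
  rw [Equiv.apply_symm_apply] at hc
  have hp : half D ≤ ((g.wperm l).symm ⟨r, hr⟩).val := by
    by_contra hn
    have h1 := hl _ ((g.nroot_pos_iff ((g.wperm l).symm ⟨r, hr⟩)).2 (by omega))
    rw [g.wperm_nroot, Equiv.apply_symm_apply] at h1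
    have h2 := (g.nroot_pos_iff ⟨r, hr⟩).2 hS
    omega
  refine ⟨g.xG _ (((c⁻¹ : Fˣ) : F) * t), g.mem_rootGen (Fin.isLt _) hp _, ?_⟩
  show g.wordN l * g.xG _ _ * (g.wordN l)⁻¹ = g.xG r t
  rw [hc, ← mul_assoc, ← Units.val_mul, mul_inv_cancel, Units.val_one, one_mul]

end Good

end CfsgLib.Chev
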