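import Mathlib
import Cfsg.Prelude.Def_LieExceptional
import Cfsg.Agent.Lib.Chev.Monomial
import Cfsg.Agent.Lib.Chev.BNParabolic

/-!
The (B, N)-pair of a Chevalley group.
-/

set_option autoImplicit false

namespace CfsgLib.Chev

open Cfsg.Lie Matrix

variable {D : ChevalleyDatum} {F : Type*} [Field F]

namespace Good

variable (g : Good D)
include g

lemma nI_conj_posExcept (i : Fin D.rank) :
    (rootGen D F (g.posExcept i)).map (MulAut.conj (g.nI i : GL D.Idx F)).toMonoidHom ≤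
      rootGen D F (g.posExcept i) := by
  refine g.conj_rootGen (g.acts_nI i) fun s hs => ?_
  obtain ⟨h1, h2⟩ := hs
  have hne : s ≠ g.sroot i := fun h => h2 (congrArg Fin.val h)
  refine ⟨g.rperm_pos i h1 hne, fun h => ?_⟩
  have h3 : g.rperm i s = g.sroot i := Fin.ext h
  have h4 := congrArg (g.rperm i) h3
  rw [g.rperm_rperm, g.rperm_sroot] at h4
  have := g.nroot_sroot_neg i
  subst h4
  omega

lemma posExcept_le_pos (i : ℕ) : rootGen D F (g.posExcept i) ≤ D.posUnipotent F := by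
  rw [g.posUnipotent_eq]; exact g.rootGen_mono fun r hr _ => hr.1

/-- `B = U_p X_p H`. -/
lemma borel_decomp (hc : HasComm D) {i : Fin D.rank} {b : GL D.Idx F}
    (hb : b ∈ D.borelSubgroup F) :
    ∃ u ∈ rootGen D F (g.posExcept i), ∃ t : F, ∃ h ∈ D.diagonalSubgroup F,
      b = u * g.xG (D.simple i) t * h := by
  obtain ⟨v, hv, h, hh, rfl⟩ := g.mem_borel.1 hb
  have hle : D.rootSubgroup F (D.simple i) ≤
      Subgroup.normalizer (rootGen D F (g.posExcept i) : Set (GL D.Idx F)) :=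
    le_sup_left.trans (g.simple_le_normalizer_posExcept hc i.2)
  have hv' := SetLike.mem_coe.2 ((g.posExcept_sup (F := F) i.2).symm ▸ hv :
    v ∈ rootGen D F (g.posExcept i) ⊔ D.rootSubgroup F (D.simple i))
  rw [Subgroup.coe_mul_of_right_le_normalizer_left _ _ hle] at hv'
  obtain ⟨u, hu, y, hy, rfl⟩ := Set.mem_mul.1 hv'
  obtain ⟨t, rfl⟩ := g.mem_rootSubgroup.1 hy
  exact ⟨u, hu, t, h, hh, rfl⟩

lemma xG_neg_eq {p : ℕ} (hp : p < D.nroots) (t : Fˣ) :
    g.xG (D.neg p) (-((t⁻¹ : Fˣ) : F)) = g.xG p (-(t : F)) * g.nG p t * g.xG p (-(t : F)) := by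
  have e1 : g.xG p (-(t : F)) * g.xG p (t : F) = 1 := by
    rw [g.xG_add, neg_add_cancel, g.xG_zero]
  have e2 : g.xG p (t : F) * g.xG p (-(t : F)) = 1 := by
    rw [g.xG_add, add_neg_cancel, g.xG_zero]
  rw [nG]
  simp only [← mul_assoc, e1, one_mul]
  rw [mul_assoc, e2, mul_one]

/-- `x_p(t) n ∈ B n B` if `w⁻¹ p > 0`. -/
lemma xG_mul_of_pos {i : Fin D.rank} {n : GL D.Idx F} {π : Equiv.Perm (Fin D.nroots)}
    (hn : g.Acts n π) (hpos : half D ≤ (π⁻¹ (g.sroot i)).val) (t : F) :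
    ∃ y ∈ D.borelSubgroup F, g.xG (D.simple i) t * n = n * y := by
  obtain ⟨c, hc⟩ := (g.acts_inv hn) (g.sroot i)
  refine ⟨g.xG (π⁻¹ (g.sroot i)) ((c : F) * t),
    Subgroup.mem_sup_left (g.xG_mem_posUnipotent ((g.isPosRoot_iff _).2 ⟨hpos, Fin.isLt _⟩) _), ?_⟩
  rw [← hc t, inv_inv, show n * (n⁻¹ * g.xG (g.sroot i) t * n) = g.xG (g.sroot i) t * n by group]
  rfl

/-- The double coset condition, in the general linear group. -/
theorem nI_mul_mul (hc : HasComm D) (i : Fin D.rank) {b n : GL D.Idx F}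
    (hb : b ∈ D.borelSubgroup F) (hn : n ∈ D.monomialSubgroup F) :
    (∃ x ∈ D.borelSubgroup F, ∃ y ∈ D.borelSubgroup F, g.nI i * b * n = x * (g.nI i * n) * y) ∨
      (∃ x ∈ D.borelSubgroup F, ∃ y ∈ D.borelSubgroup F, g.nI i * b * n = x * n * y) := by
  obtain ⟨u, hu, t, h, hh, rfl⟩ := g.borel_decomp hc (i := i) hb
  have hu1 : g.nI i * u * (g.nI i)⁻¹ ∈ D.borelSubgroup F :=
    Subgroup.mem_sup_left (g.posExcept_le_pos i
      (g.nI_conj_posExcept i (Subgroup.mem_map_of_mem _ hu)))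
  set s := g.nI (F := F) i with hs
  have hsN : s ∈ D.monomialSubgroup F := g.nI_mem i
  set n₁ := h * n with hn₁
  have hn1N : n₁ ∈ D.monomialSubgroup F := mul_mem (Subgroup.mem_sup_left hh) hn
  have hnH : n⁻¹ * h * n ∈ D.borelSubgroup F := by
    have h0 := g.diag_conj (inv_mem hn) hh
    rw [inv_inv] at h0
    exact Subgroup.mem_sup_right h0
  obtain ⟨π, -, hπ⟩ := g.exists_acts hn1N
  have ha : g.Acts (s⁻¹ * n₁) (g.rperm i * π) := by
    have h0 := g.acts_mul (g.acts_inv (g.acts_nI i)) hπ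
    rwa [g.rperm_inv] at h0
  by_cases hpos : half D ≤ (π⁻¹ (g.sroot i)).val
  · left
    obtain ⟨y, hy, he⟩ := g.xG_mul_of_pos hπ hpos t
    refine ⟨s * u * s⁻¹, hu1, n⁻¹ * h * n * y, mul_mem hnH hy, ?_⟩
    calc s * (u * g.xG (D.simple i) t * h) * n
        = s * u * s⁻¹ * (s * (g.xG (D.simple i) t * n₁)) := by rw [hn₁]; group
      _ = s * u * s⁻¹ * (s * (n₁ * y)) := by rw [he]
      _ = s * u * s⁻¹ * (s * n) * (n⁻¹ * h * n * y) := by rw [hn₁]; group
  · have hpos' : half D ≤ ((g.rperm i * π)⁻¹ (g.sroot i)).val := by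
      rw [_root_.mul_inv_rev, g.rperm_inv, Equiv.Perm.mul_apply, g.rperm_sroot]
      obtain ⟨w, hw, hw'⟩ := g.exists_acts hn1N
      obtain rfl := g.acts_unique hπ hw'
      obtain ⟨l, hl⟩ := g.exists_wperm (inv_mem hw)
      rw [← hl, g.wperm_nroot, g.nroot_pos_iff, hl]
      omega
    by_cases ht : t = 0
    · left
      subst ht
      refine ⟨s * u * s⁻¹, hu1, n⁻¹ * h * n, hnH, ?_⟩
      rw [g.xG_zero]
      group
    · right
      have hp := g.simple_lt i.2
      set c : F := (g.eta i (D.simple i) : F) * t with hcdef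
      have hc0 : c ≠ 0 := by
        rcases g.eta_sign i.2 hp with he | he <;> simp [hcdef, he, ht]
      set v : Fˣ := -(Units.mk0 c hc0)⁻¹ with hv
      have hcv : (-((v⁻¹ : Fˣ) : F)) = c := by simp [hv, inv_neg]
      have hconj : s * g.xG (D.simple i) t * s⁻¹ = g.xG (D.neg (D.simple i)) c := by
        rw [hs, nI, g.nG_conj_xG i.2 hp, g.refl_simple]
      rw [← hcv, g.xG_neg_eq hp, g.nG_eq_hG_mul hp] at hconj
      have hX : ∀ z : F, g.xG (D.simple i) z ∈ D.borelSubgroup F := fun z =>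
        Subgroup.mem_sup_left (g.xG_mem_posUnipotent ((g.isPosRoot_iff _).2 ⟨g.simple_pos i.2, hp⟩) z)
      -- move `x_p` across `s⁻¹ * (s * s) * n₁`
      set k := s * s with hk
      have hkH : k ∈ D.diagonalSubgroup F := g.nI_sq i
      obtain ⟨d, hd⟩ := (g.acts_diagonal (inv_mem hkH)) (g.sroot i)
      rw [Equiv.Perm.one_apply] at hd
      have hd' : g.xG (D.simple i) (-(v : F)) * k =
          k * g.xG (D.simple i) ((d : F) * -(v : F)) := by
        rw [show g.xG (D.simple i) ((d : F) * -(v : F)) = k⁻¹ * g.xG (D.simple i) (-(v : F)) * k⁻¹⁻¹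
          from (hd _).symm]
        group
      obtain ⟨y, hy, he⟩ := g.xG_mul_of_pos ha hpos' ((d : F) * -(v : F))
      have hskH : s * k * s⁻¹ ∈ D.diagonalSubgroup F := g.diag_conj hsN hkH
      refine ⟨s * u * s⁻¹ * (g.xG (D.simple i) (-(v : F)) * g.hG (D.simple i) v * (s * k * s⁻¹)),
        mul_mem hu1 (mul_mem (mul_mem (hX _) (Subgroup.mem_sup_right (g.hG_mem hp v)))
          (Subgroup.mem_sup_right hskH)), n⁻¹ * h * n * y, mul_mem hnH hy, ?_⟩
      have hx : g.xG (D.simple i) t = s⁻¹ * (g.xG (D.simple i) (-(v : F)) *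
          (g.hG (D.simple i) v * s) * g.xG (D.simple i) (-(v : F))) * s := by
        rw [show s = g.nG (D.simple i) 1 from rfl] at hconj ⊢
        rw [← hconj]; group
      calc s * (u * g.xG (D.simple i) t * h) * n
          = s * u * s⁻¹ * (g.xG (D.simple i) (-(v : F)) * g.hG (D.simple i) v * s *
              (g.xG (D.simple i) (-(v : F)) * k) * (s⁻¹ * n₁)) := by
            rw [hx, hn₁, hk]; group
        _ = s * u * s⁻¹ * (g.xG (D.simple i) (-(v : F)) * g.hG (D.simple i) v * s * k *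
              (g.xG (D.simple i) ((d : F) * -(v : F)) * (s⁻¹ * n₁))) := by
            rw [hd']; simp only [mul_assoc]
        _ = _ := by rw [he, hn₁]; group

lemma nI_conj_x_not_mem (i : Fin D.rank) :
    g.nI i * g.xG (D.simple i) (1 : F) * g.nI i ∉ D.borelSubgroup F := by
  intro h
  have hp := g.simple_lt i.2
  have h2 : g.nI i * g.xG (D.simple i) (1 : F) * (g.nI i)⁻¹ ∈ D.borelSubgroup F := by
    have := mul_mem h (inv_mem (Subgroup.mem_sup_right (g.nI_sq i) :
      g.nI (F := F) i * g.nI i ∈ D.borelSubgroup F))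
    simpa [mul_assoc] using this
  have h3 := g.nG_conj_xG (F := F) i.2 hp 1
  rw [← show g.nI (F := F) i = g.nG (D.simple i) 1 from rfl, g.refl_simple] at h3
  rw [h3] at h2
  have h4 : g.xG (D.neg (D.simple i)) ((g.eta i (D.simple i) : F) * 1) ∈
      D.borelSubgroup F ⊓ D.negUnipotent F :=
    ⟨h2, g.xG_mem_negUnipotent ((g.isNegRoot_iff _).2 (g.nroot_sroot_neg i)) _⟩
  rw [g.borel_inf_neg, Subgroup.mem_bot] at h4
  have h5 := (g.x_eq_one_iff (g.neg_lt hp) _).1 (congrArg Units.val h4)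
  rcases g.eta_sign i.2 hp with he | he <;> simp [he] at h5

lemma borel_le_group : D.borelSubgroup F ≤ D.group F :=
  sup_le g.posUnipotent_le_group g.diagonal_le_group

/-- The distinguished generators. -/
def bnS (_g : Good D) (F : Type*) [Field F] : Set ↥(D.group F) :=
  {n | ∃ i < D.rank, ((n : GL D.Idx F) : Matrix D.Idx D.Idx F) = D.nMat F (D.simple i) 1}

lemma mem_bnS {n : ↥(D.group F)} :
    n ∈ g.bnS F ↔ ∃ i : Fin D.rank, (n : GL D.Idx F) = g.nI i := by
  constructor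
  · rintro ⟨i, hi, h⟩
    exact ⟨⟨i, hi⟩, Units.ext (by rw [h, nI, g.coe_nG]; simp)⟩
  · rintro ⟨i, h⟩
    exact ⟨i, i.2, by rw [h, nI, g.coe_nG]; simp⟩

lemma mem_doubleCoset_sub {n z : ↥(D.group F)} :
    z ∈ DoubleCoset.doubleCoset n ((D.borelSubgroup F).subgroupOf (D.group F) : Set ↥(D.group F))
        ((D.borelSubgroup F).subgroupOf (D.group F)) ↔
      ∃ x ∈ D.borelSubgroup F, ∃ y ∈ D.borelSubgroup F, (z : GL D.Idx F) = x * n * y := by
  rw [DoubleCoset.mem_doubleCoset]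
  constructor
  · rintro ⟨x, hx, y, hy, rfl⟩
    exact ⟨x, hx, y, hy, rfl⟩
  · rintro ⟨x, hx, y, hy, he⟩
    exact ⟨⟨x, g.borel_le_group hx⟩, hx, ⟨y, g.borel_le_group hy⟩, hy, Subtype.ext he⟩

/-- The (B, N)-pair of the Chevalley group. -/
noncomputable def bnPair (hc : HasComm D) : Cfsg.BNPair ↥(D.group F) where
  B := (D.borelSubgroup F).subgroupOf (D.group F)
  N := (D.monomialSubgroup F).subgroupOf (D.group F)
  S := g.bnS F
  sup_eq_top := by
    rw [← Subgroup.subgroupOf_sup g.borel_le_group g.monomial_le_group, g.borel_sup_monomial,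
      Subgroup.subgroupOf_self]
  conj_mem n hn t ht := by
    have h : (t : GL D.Idx F) ∈ D.borelSubgroup F ⊓ D.monomialSubgroup F := ⟨ht.1, ht.2⟩
    rw [g.borel_inf_monomial] at h
    exact Subgroup.mem_subgroupOf.2 (Subgroup.mem_sup_right (g.diag_conj hn h))
  subset s hs := by
    obtain ⟨i, hi⟩ := g.mem_bnS.1 hs
    exact Subgroup.mem_subgroupOf.2 (hi ▸ g.nI_mem i)
  sq_mem s hs := by
    obtain ⟨i, hi⟩ := g.mem_bnS.1 hs
    rw [Subgroup.mem_subgroupOf, Subgroup.coe_mul, hi]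
    exact Subgroup.mem_sup_right (g.nI_sq i)
  inj s hs s' hs' h := by
    obtain ⟨i, hi⟩ := g.mem_bnS.1 hs
    obtain ⟨j, hj⟩ := g.mem_bnS.1 hs'
    rw [Subgroup.mem_subgroupOf, Subgroup.coe_mul, Subgroup.coe_inv, hi, hj] at h
    have h' : (g.nI (F := F) i)⁻¹ * g.nI j ∈ D.borelSubgroup F ⊓ D.monomialSubgroup F :=
      Subgroup.mem_inf.2 ⟨h, (D.monomialSubgroup F).mul_mem
        ((D.monomialSubgroup F).inv_mem (g.nI_mem i)) (g.nI_mem j)⟩
    rw [g.borel_inf_monomial] at h'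
    have he := g.acts_unique (g.acts_mul (g.acts_inv (g.acts_nI i)) (g.acts_nI j))
      (g.acts_diagonal h')
    have hij : g.wS i = g.wS j := Subtype.ext (inv_mul_eq_one.1 he)
    exact Subtype.ext (by rw [hi, hj, g.exchangeData.inj hij])
  closure_sup := by
    have hle : Subgroup.closure (g.bnS F) ≤ (D.monomialSubgroup F).subgroupOf (D.group F) :=
      (Subgroup.closure_le _).2 fun s hs => by
        obtain ⟨i, hi⟩ := g.mem_bnS.1 hs
        exact Subgroup.mem_subgroupOf.2 (hi ▸ g.nI_mem i)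
    refine le_antisymm (sup_le hle inf_le_right) fun x hx => ?_
    obtain ⟨l, hl⟩ := g.exists_wordN (Subgroup.mem_subgroupOf.1 hx)
    let y : ↥(D.group F) := ⟨g.wordN l, g.monomial_le_group (g.wordN_mem l)⟩
    have hy : y ∈ Subgroup.closure (g.bnS F) := by
      suffices H : ∀ l : List (Fin D.rank), ∀ h : g.wordN (F := F) l ∈ D.group F,
          (⟨g.wordN l, h⟩ : ↥(D.group F)) ∈ Subgroup.closure (g.bnS F) from H l _
      intro l
      induction l with
      | nil => exact fun h => one_mem _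
      | cons i l ih =>
        intro h
        have hi : g.nI (F := F) i ∈ D.group F := g.monomial_le_group (g.nI_mem i)
        have : (⟨g.wordN (i :: l), h⟩ : ↥(D.group F)) =
            ⟨g.nI i, hi⟩ * ⟨g.wordN l, g.monomial_le_group (g.wordN_mem l)⟩ :=
          Subtype.ext (g.wordN_cons i l)
        rw [this]
        exact mul_mem (Subgroup.subset_closure (g.mem_bnS.2 ⟨i, rfl⟩)) (ih _)
    have hh : y⁻¹ * x ∈ (D.borelSubgroup F).subgroupOf (D.group F) ⊓
        (D.monomialSubgroup F).subgroupOf (D.group F) :=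
      ⟨Subgroup.mem_subgroupOf.2 (Subgroup.mem_sup_right hl),
        Subgroup.mem_subgroupOf.2 (Subgroup.mem_sup_left hl)⟩
    rw [show x = y * (y⁻¹ * x) by group]
    exact mul_mem (Subgroup.mem_sup_left hy) (Subgroup.mem_sup_right hh)
  mul_mem_union s hs n hn b hb := by
    obtain ⟨i, hi⟩ := g.mem_bnS.1 hs
    rcases g.nI_mul_mul hc i (Subgroup.mem_subgroupOf.1 hb) (Subgroup.mem_subgroupOf.1 hn) with
      ⟨x, hx, y, hy, he⟩ | ⟨x, hx, y, hy, he⟩
    · refine Or.inl (g.mem_doubleCoset_sub.2 ⟨x, hx, y, hy, ?_⟩)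
      simpa [hi] using he
    · refine Or.inr (g.mem_doubleCoset_sub.2 ⟨x, hx, y, hy, ?_⟩)
      simpa [hi] using he
  conj_ne s hs he := by
    obtain ⟨i, hi⟩ := g.mem_bnS.1 hs
    let z : ↥(D.group F) := ⟨g.xG (D.simple i) 1, g.xG_mem_group (g.simple_lt i.2) 1⟩
    have hz : z ∈ (D.borelSubgroup F).subgroupOf (D.group F) :=
      Subgroup.mem_subgroupOf.2 (Subgroup.mem_sup_left (g.xG_mem_posUnipotent
        ((g.isPosRoot_iff _).2 ⟨g.simple_pos i.2, g.simple_lt i.2⟩) 1))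
    have h2 : s * z * s ∈ ((D.borelSubgroup F).subgroupOf (D.group F) : Set ↥(D.group F)) :=
      he ▸ ⟨z, hz, rfl⟩
    rw [SetLike.mem_coe, Subgroup.mem_subgroupOf, Subgroup.coe_mul, Subgroup.coe_mul, hi] at h2
    exact g.nI_conj_x_not_mem i h2

end Good

end CfsgLib.Chev
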