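import Mathlib
import Cfsg.Agent.Lib.Chev.BNChev
import Cfsg.Agent.Lib.Chev.BNBasic

/-!
The canonical form `b n u` of the elements of a Chevalley group.
-/

set_option autoImplicit false

namespace CfsgLib.Chev

open Cfsg.Lie Matrix

variable {D : ChevalleyDatum} {F : Type*} [Field F]

/-- The positive roots sent to negative roots. -/
def minusSet (π : Equiv.Perm (Fin D.nroots)) : Set ℕ :=
  {r | ∃ h : r < D.nroots, half D ≤ r ∧ (π ⟨r, h⟩).val < half D}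

/-- The positive roots sent to positive roots. -/
def plusSet (π : Equiv.Perm (Fin D.nroots)) : Set ℕ :=
  {r | ∃ h : r < D.nroots, half D ≤ r ∧ half D ≤ (π ⟨r, h⟩).val}

namespace Good

variable (g : Good D)
include g

lemma Ici_split (hc : HasComm D) (S : Set ℕ) (m : ℕ) (hm : half D ≤ m) :
    ∀ x ∈ rootGen D F (Set.Ici m), ∃ a ∈ rootGen D F (Set.Ici m ∩ S),
      ∃ b ∈ rootGen D F (Set.Ici m \ S), x = a * b := by
  induction' hk : D.nroots - m with k ih generalizing m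
  · intro x hx
    rw [g.Ici_empty (by omega), Subgroup.mem_bot] at hx
    exact ⟨1, one_mem _, 1, one_mem _, by rw [hx, one_mul]⟩
  · intro x hx
    have hmn : m < D.nroots := by omega
    obtain ⟨t, y, hy, rfl⟩ := g.Ici_step hc hm hmn hx
    obtain ⟨a, ha, b, hb, rfl⟩ := ih (m + 1) (by omega) (by omega) y hy
    have mono1 : rootGen D F (Set.Ici (m + 1) ∩ S) ≤ rootGen D F (Set.Ici m ∩ S) :=
      g.rootGen_mono fun r hr _ => ⟨Nat.le_of_succ_le hr.1, hr.2⟩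
    have mono2 : rootGen D F (Set.Ici (m + 1) \ S) ≤ rootGen D F (Set.Ici m \ S) :=
      g.rootGen_mono fun r hr _ => ⟨Nat.le_of_succ_le hr.1, hr.2⟩
    by_cases hS : m ∈ S
    · exact ⟨g.xG m t * a, mul_mem (g.mem_rootGen hmn (show m ∈ Set.Ici m ∩ S from ⟨le_refl m, hS⟩) t) (mono1 ha), b, mono2 hb,
        (mul_assoc _ _ _).symm⟩
    · have hnorm := g.pos_le_normalizer (F := F) hc (m := m + 1) (by omega)
        (g.xG_mem_posUnipotent ((g.isPosRoot_iff m).2 ⟨hm, hmn⟩) t)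
      have hsub : rootGen D F (Set.Ici (m + 1) ∩ S) ≤ rootGen D F (Set.Ici (m + 1)) :=
        g.rootGen_mono fun r hr _ => hr.1
      obtain ⟨a', ha', b', hb', he⟩ := ih (m + 1) (by omega) (by omega) _
        ((Subgroup.mem_normalizer_iff.1 hnorm a).1 (hsub ha))
      refine ⟨a', mono1 ha', b' * g.xG m t * b,
        mul_mem (mul_mem (mono2 hb') (g.mem_rootGen hmn (show m ∈ Set.Ici m \ S from ⟨le_refl m, hS⟩) t)) (mono2 hb), ?_⟩
      calc g.xG m t * (a * b) = g.xG m t * a * (g.xG m t)⁻¹ * g.xG m t * b := by group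
        _ = a' * b' * g.xG m t * b := by rw [he]
        _ = a' * (b' * g.xG m t * b) := by simp only [mul_assoc]

lemma pos_split (hc : HasComm D) (π : Equiv.Perm (Fin D.nroots)) {x : GL D.Idx F}
    (hx : x ∈ D.posUnipotent F) :
    ∃ a ∈ rootGen D F (plusSet π), ∃ b ∈ rootGen D F (minusSet π), x = a * b := by
  rw [g.posUnipotent_eq] at hx
  obtain ⟨a, ha, b, hb, he⟩ := g.Ici_split hc (plusSet π) (half D) le_rfl x hx
  exact ⟨a, g.rootGen_mono (fun r hr _ => hr.2) ha, b, g.rootGen_mono (T := minusSet π) (fun r hr hr' =>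
    ⟨hr', hr.1, Nat.not_le.1 fun h => hr.2 ⟨hr', hr.1, h⟩⟩) hb, he⟩

lemma conj_plus_le {n : GL D.Idx F} {π : Equiv.Perm (Fin D.nroots)} (hn : g.Acts n π)
    {a : GL D.Idx F} (ha : a ∈ rootGen D F (plusSet π)) : n * a * n⁻¹ ∈ D.posUnipotent F := by
  rw [g.posUnipotent_eq]
  exact g.conj_rootGen hn (S := plusSet π) (T := Set.Ici (half D))
    (fun s hs => by obtain ⟨_, _, h⟩ := hs; exact h) (Subgroup.mem_map_of_mem _ ha)

lemma conj_minus_le {n : GL D.Idx F} {π : Equiv.Perm (Fin D.nroots)} (hn : g.Acts n π)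
    {a : GL D.Idx F} (ha : a ∈ rootGen D F (minusSet π)) : n * a * n⁻¹ ∈ D.negUnipotent F := by
  rw [g.negUnipotent_eq]
  exact g.conj_rootGen hn (S := minusSet π) (T := Set.Iio (half D))
    (fun s hs => by obtain ⟨_, _, h⟩ := hs; exact h) (Subgroup.mem_map_of_mem _ ha)

lemma minus_le_pos (π : Equiv.Perm (Fin D.nroots)) :
    rootGen D F (minusSet π) ≤ D.posUnipotent F := by
  rw [g.posUnipotent_eq]
  exact g.rootGen_mono fun r hr _ => by obtain ⟨_, h, _⟩ := hr; exact h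

/-- The group of the statement. -/
lemma minus_set_eq {n : GL D.Idx F} {π : Equiv.Perm (Fin D.nroots)} (hn : g.Acts n π) :
    {x : GL D.Idx F | ∃ (r : ℕ) (t : F), D.IsPosRoot r ∧
      (D.rootSubgroup F r).map (MulAut.conj n).toMonoidHom ≤ D.negUnipotent F ∧
        (x : Matrix D.Idx D.Idx F) = D.x F r t} =
    {x : GL D.Idx F | ∃ (r : ℕ) (t : F), r ∈ minusSet π ∧ r < D.nroots ∧
      (x : Matrix D.Idx D.Idx F) = D.x F r t} := by
  ext x
  constructor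
  · rintro ⟨r, t, hr, hle, hx⟩
    refine ⟨r, t, ⟨hr.1, ((g.isPosRoot_iff r).1 hr).1, ?_⟩, hr.1, hx⟩
    by_contra hc
    obtain ⟨c, hc'⟩ := hn ⟨r, hr.1⟩
    have h1 : n * g.xG r (1 : F) * n⁻¹ ∈ D.negUnipotent F :=
      hle (Subgroup.mem_map_of_mem _ (g.xG_mem_rootSubgroup r 1))
    rw [show n * g.xG r (1 : F) * n⁻¹ = g.xG (π ⟨r, hr.1⟩) ((c : F) * 1) from hc' 1] at h1
    have h2 : g.xG (π ⟨r, hr.1⟩) ((c : F) * 1) ∈ D.borelSubgroup F ⊓ D.negUnipotent F :=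
      Subgroup.mem_inf.2 ⟨Subgroup.mem_sup_left
        (g.xG_mem_posUnipotent ((g.isPosRoot_iff _).2 ⟨Nat.not_lt.1 hc, Fin.isLt _⟩) _), h1⟩
    rw [g.borel_inf_neg, Subgroup.mem_bot] at h2
    have h3 := (g.x_eq_one_iff (π ⟨r, hr.1⟩).2 _).1 (congrArg Units.val h2)
    simp at h3
  · rintro ⟨r, t, ⟨hr, hp, hneg⟩, -, hx⟩
    refine ⟨r, t, (g.isPosRoot_iff r).2 ⟨hp, hr⟩, ?_, hx⟩
    rintro z ⟨y, hy, rfl⟩
    obtain ⟨u, rfl⟩ := g.mem_rootSubgroup.1 hy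
    exact g.conj_minus_le hn (g.mem_rootGen hr (show r ∈ minusSet π from ⟨hr, hp, hneg⟩) u)

/-- Existence of the canonical form. -/
theorem exists_canonical (hc : HasComm D) {x : GL D.Idx F} (hx : x ∈ D.group F) :
    ∃ b ∈ D.borelSubgroup F, ∃ n ∈ D.monomialSubgroup F, ∃ π ∈ g.weyl, g.Acts n π ∧
      ∃ u ∈ rootGen D F (minusSet π), x = b * n * u := by
  obtain ⟨n, hn, hcell⟩ := BN.exists_mem_cell (g.bnPair hc) (⟨x, hx⟩ : ↥(D.group F))
  obtain ⟨b₁, hb₁, b₂, hb₂, he⟩ := g.mem_doubleCoset_sub.1 hcell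
  replace he : x = b₁ * (n : GL D.Idx F) * b₂ := he
  have hn' : (n : GL D.Idx F) ∈ D.monomialSubgroup F := hn
  obtain ⟨π, hπw, hπ⟩ := g.exists_acts hn'
  obtain ⟨v, hv, h, hh, hvh⟩ := g.mem_borel.1 hb₂
  have hv' : h⁻¹ * v * h ∈ D.posUnipotent F := by
    have := (Subgroup.mem_normalizer_iff.1 (g.diagonal_le_normalizer_pos (inv_mem hh)) v).1 hv
    rwa [inv_inv] at this
  obtain ⟨a, ha, u, hu, hau⟩ := g.pos_split hc π hv'
  refine ⟨b₁ * ((n : GL D.Idx F) * h * (n : GL D.Idx F)⁻¹) * ((n : GL D.Idx F) * a * (n : GL D.Idx F)⁻¹),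
    mul_mem (mul_mem hb₁ (Subgroup.mem_sup_right (g.diag_conj hn' hh)))
      (Subgroup.mem_sup_left (g.conj_plus_le hπ ha)), n, hn', π, hπw, hπ, u, hu, ?_⟩
  have e : v * h = h * (a * u) := by rw [← hau]; group
  rw [he, ← hvh, e]
  group

/-- Uniqueness of the `N`-part. -/
theorem canonical_coset (hc : HasComm D) {b b' n n' u u' : GL D.Idx F}
    (hb : b ∈ D.borelSubgroup F) (hb' : b' ∈ D.borelSubgroup F)
    (hn : n ∈ D.monomialSubgroup F) (hn' : n' ∈ D.monomialSubgroup F)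
    (hu : u ∈ D.borelSubgroup F) (hu' : u' ∈ D.borelSubgroup F)
    (he : b * n * u = b' * n' * u') : n⁻¹ * n' ∈ D.diagonalSubgroup F := by
  let P := g.bnPair (F := F) hc
  let nn : ↥(D.group F) := ⟨n, g.monomial_le_group hn⟩
  let nn' : ↥(D.group F) := ⟨n', g.monomial_le_group hn'⟩
  let z : ↥(D.group F) := ⟨b * n * u,
    mul_mem (mul_mem (g.borel_le_group hb) nn.2) (g.borel_le_group hu)⟩
  have hz : z ∈ BN.cell P nn := g.mem_doubleCoset_sub.2 ⟨b, hb, u, hu, rfl⟩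
  have hz' : z ∈ BN.cell P nn' := g.mem_doubleCoset_sub.2 ⟨b', hb', u', hu', he⟩
  have h1 : nn⁻¹ * nn' ∈ P.B := BN.equiv_of_mem_cells P (n := nn) (n' := nn') hn hn' hz hz'
  rw [← g.borel_inf_monomial]
  exact Subgroup.mem_inf.2 ⟨h1, mul_mem (inv_mem hn) hn'⟩

/-- Uniqueness of `b` and `u` for a fixed representative. -/
theorem canonical_unique {b b' n u u' : GL D.Idx F} {π : Equiv.Perm (Fin D.nroots)}
    (hb : b ∈ D.borelSubgroup F) (hb' : b' ∈ D.borelSubgroup F) (hn : g.Acts n π)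
    (hu : u ∈ rootGen D F (minusSet π)) (hu' : u' ∈ rootGen D F (minusSet π))
    (he : b * n * u = b' * n * u') : b = b' ∧ u = u' := by
  have h1 := g.conj_minus_le hn (mul_mem hu' (inv_mem hu))
  have e : b'⁻¹ * b = n * (u' * u⁻¹) * n⁻¹ := by
    have e2 : b'⁻¹ * b = b'⁻¹ * (b * n * u) * u⁻¹ * n⁻¹ := by group
    rw [e2, he]
    group
  have h2 : b'⁻¹ * b ∈ D.borelSubgroup F ⊓ D.negUnipotent F :=
    Subgroup.mem_inf.2 ⟨mul_mem (inv_mem hb') hb, e ▸ h1⟩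
  rw [g.borel_inf_neg, Subgroup.mem_bot] at h2
  obtain rfl := (inv_mul_eq_one.1 h2).symm
  exact ⟨rfl, mul_left_cancel he⟩

/-- Two elements of `H` conjugate in the group are conjugate in `N`. -/
theorem diagonal_fusion (hc : HasComm D) {h₁ h₂ x : GL D.Idx F}
    (h1 : h₁ ∈ D.diagonalSubgroup F) (h2 : h₂ ∈ D.diagonalSubgroup F) (hx : x ∈ D.group F)
    (he : x * h₁ * x⁻¹ = h₂) : ∃ n ∈ D.monomialSubgroup F, n * h₁ * n⁻¹ = h₂ := by
  obtain ⟨b, hb, n, hn, π, -, hπ, u, hu, rfl⟩ := g.exists_canonical hc hx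
  refine ⟨n, hn, ?_⟩
  obtain ⟨v, hv, h, hh, rfl⟩ := g.mem_borel.1 hb
  have hu1 : h₁⁻¹ * u * h₁ ∈ rootGen D F (minusSet π) := by
    have := (Subgroup.mem_normalizer_iff.1
      (g.diagonal_le_normalizer_rootGen (minusSet π) (inv_mem h1)) u).1 hu
    rwa [inv_inv] at this
  have hk : n * h₁ * n⁻¹ ∈ D.diagonalSubgroup F := g.diag_conj hn h1
  have hv2 : h₂ * v * h₂⁻¹ ∈ D.posUnipotent F :=
    (Subgroup.mem_normalizer_iff.1 (g.diagonal_le_normalizer_pos h2) v).1 hv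
  have e : (v * (h * (n * h₁ * n⁻¹))) * n * (h₁⁻¹ * u * h₁) =
      (h₂ * v * h₂⁻¹ * (h₂ * h)) * n * u := by
    have e2 : v * h * n * u * h₁ = h₂ * (v * h * n * u) := mul_inv_eq_iff_eq_mul.1 he
    calc (v * (h * (n * h₁ * n⁻¹))) * n * (h₁⁻¹ * u * h₁) = v * h * n * u * h₁ := by group
      _ = h₂ * (v * h * n * u) := e2
      _ = _ := by group
  obtain ⟨e3, -⟩ := g.canonical_unique
    (g.mem_borel.2 ⟨v, hv, _, mul_mem hh hk, rfl⟩) (g.mem_borel.2 ⟨_, hv2, _, mul_mem h2 hh, rfl⟩)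
    hπ hu1 hu e
  have h3 : v⁻¹ * (h₂ * v * h₂⁻¹) ∈ D.posUnipotent F ⊓ D.diagonalSubgroup F := by
    refine Subgroup.mem_inf.2 ⟨mul_mem (inv_mem hv) hv2, ?_⟩
    have : v⁻¹ * (h₂ * v * h₂⁻¹) = h * (n * h₁ * n⁻¹) * (h₂ * h)⁻¹ := by
      rw [eq_mul_inv_iff_mul_eq, mul_assoc v⁻¹, inv_mul_eq_iff_eq_mul]
      exact e3.symm
    rw [this]
    exact mul_mem (mul_mem hh hk) (inv_mem (mul_mem h2 hh))
  rw [g.pos_inf_diagonal, Subgroup.mem_bot, inv_mul_eq_one] at h3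
  rw [← h3] at e3
  have e4 : h * (n * h₁ * n⁻¹) = h₂ * h := mul_left_cancel e3
  rw [g.diagonal_comm h2 hh] at e4
  exact mul_left_cancel e4

end Good

end CfsgLib.Chev
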