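import Mathlib
import Cfsg.Agent.Lib.Chev.Weyl

/-!
Parabolic subgroups of the Weyl group, stabilisers of dominant roots, and the factorisation of
the inversion polynomial along orbits.
-/

set_option autoImplicit false

namespace CfsgLib.Chev

open Cfsg.Lie

variable {D : ChevalleyDatum}

/-- The coordinates of a root do not depend on the tables. -/
lemma Good.co_eq (g : Good D) {dat : LieData} {sd : StructData} (hl : LieChecks D dat)
    (hs : StructChecks D dat sd) {u : ℕ} (hu : u < D.nroots) {j : ℕ} (hj : j < D.rank) :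
    rootCo dat u j = g.co u j := by
  refine g.root_induction (P := fun u => ∀ j < D.rank, rootCo dat u j = g.co u j) ?_ ?_ hu j hj
  · intro i hi j hj
    rw [g.co_simple hi hj, (hl.simple_facts hi).1, ((hs.simple_lin hi).2 j hj).1, fdelta_eq]
  · intro i hi s hs' ih j hj
    obtain ⟨h1, -, -, -, h5, -⟩ := StructChecks.refl_facts hl hs hi hs'
    rw [g.co_refl hi hs' hj, h1, h5 j hj, fdelta_eq, ← cartan_eq hl.pack hi hs', ih j hj]
    split <;> ring

namespace Good

variable (g : Good D)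
include g

lemma corootCo_neg {u : ℕ} (hu : u < D.nroots) {j : ℕ} (hj : j < D.rank) :
    corootCo D (D.neg u) j = - corootCo D u j := by
  refine g.root_induction (P := fun u => ∀ j < D.rank, corootCo D (D.neg u) j = - corootCo D u j)
    ?_ ?_ hu j hj
  · intro i hi j hj
    rw [← g.refl_simple, g.corootCo_refl hi (g.simple_lt hi) hj, g.corootCo_simple hi hj,
      g.pair_simple hi (g.simple_lt hi), g.cartan_simple hi]
    split <;> ring
  · intro i hi s hs ih j hj
    rw [← g.refl_neg hi hs, g.corootCo_refl hi (g.neg_lt hs) hj, g.corootCo_refl hi hs hj, ih j hj]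
    have : pair D (D.neg s) (D.simple i) = - pair D s (D.simple i) := by
      rw [pair, pair, ← Finset.sum_neg_distrib]
      refine Finset.sum_congr rfl fun k hk => ?_
      have := ih k (Finset.mem_range.1 hk)
      simp only [corootCo] at this
      rw [this, neg_mul]
    rw [this]
    split <;> ring

lemma pair_nroot (a : Fin D.nroots) (u : ℕ) : pair D (g.nroot a) u = - pair D a u := by
  rw [pair, pair, ← Finset.sum_neg_distrib]
  refine Finset.sum_congr rfl fun k hk => ?_
  have := g.corootCo_neg a.2 (Finset.mem_range.1 hk)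
  simp only [corootCo] at this
  simp only [nroot]
  rw [this, neg_mul]

lemma pair_wperm (l : List (Fin D.rank)) (a u : Fin D.nroots) :
    pair D (g.wperm l a) (g.wperm l u) = pair D a u := by
  induction l with
  | nil => rfl
  | cons i l ih =>
    rw [wperm_cons, Equiv.Perm.mul_apply, Equiv.Perm.mul_apply, g.rperm_val, g.rperm_val,
      g.pair_refl i.2 (Fin.isLt _) (g.refl_lt i.2 (Fin.isLt _)), g.refl_refl i.2 (Fin.isLt _)]
    exact ih

/-- The parabolic subgroup of the Weyl group. -/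
def wJ (J : Set ℕ) : Subgroup (Equiv.Perm (Fin D.nroots)) :=
  Subgroup.closure {σ | ∃ i : Fin D.rank, (i : ℕ) ∈ J ∧ σ = g.rperm i}

/-- The root is supported in `J`. -/
def SuppIn (J : Set ℕ) (a : Fin D.nroots) : Prop := ∀ q < D.rank, q ∉ J → g.co a q = 0

lemma exists_wperm_J {J : Set ℕ} {w : Equiv.Perm (Fin D.nroots)} (hw : w ∈ g.wJ J) :
    ∃ l : List (Fin D.rank), (∀ i ∈ l, (i : ℕ) ∈ J) ∧ g.wperm l = w := by
  induction hw using Subgroup.closure_induction_left with
  | one => exact ⟨[], by simp, rfl⟩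
  | mul_left x hx y _ ih =>
    obtain ⟨i, hi, rfl⟩ := hx
    obtain ⟨l, hl, rfl⟩ := ih
    exact ⟨i :: l, by simpa [hi] using hl, g.wperm_cons i l⟩
  | inv_mul_cancel x hx y _ ih =>
    obtain ⟨i, hi, rfl⟩ := hx
    obtain ⟨l, hl, rfl⟩ := ih
    exact ⟨i :: l, by simpa [hi] using hl, by rw [g.wperm_cons, g.rperm_inv]⟩

lemma wperm_mem_wJ {J : Set ℕ} {l : List (Fin D.rank)} (hl : ∀ i ∈ l, (i : ℕ) ∈ J) :
    g.wperm l ∈ g.wJ J :=
  Subgroup.list_prod_mem _ fun x hx => by
    obtain ⟨i, hi, rfl⟩ := List.mem_map.1 hx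
    exact Subgroup.subset_closure ⟨i, hl i hi, rfl⟩

lemma co_outside {J : Set ℕ} {l : List (Fin D.rank)} (hl : ∀ i ∈ l, (i : ℕ) ∈ J)
    (a : Fin D.nroots) {q : ℕ} (hq : q < D.rank) (hqJ : q ∉ J) :
    g.co (g.wperm l a) q = g.co a q := by
  induction l with
  | nil => rfl
  | cons i l ih =>
    have hiq : ¬ (i : ℕ) = q := fun h => hqJ (h ▸ hl i (by simp))
    rw [wperm_cons, Equiv.Perm.mul_apply, g.rperm_val, g.co_refl i.2 (Fin.isLt _) hq, if_neg hiq,
      sub_zero]
    exact ih fun k hk => hl k (List.mem_cons_of_mem _ hk)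

lemma suppIn_wJ {J : Set ℕ} {w : Equiv.Perm (Fin D.nroots)} (hw : w ∈ g.wJ J) (a : Fin D.nroots) :
    g.SuppIn J (w a) ↔ g.SuppIn J a := by
  obtain ⟨l, hl, rfl⟩ := g.exists_wperm_J hw
  exact forall₂_congr fun q hq => imp_congr_right fun hqJ => by rw [g.co_outside hl a hq hqJ]

lemma co_pos_imp_pos {k q : ℕ} (hk : k < D.nroots) (hq : q < D.rank) (h : 0 < g.co k q) :
    half D ≤ k := by
  by_contra hn
  have := g.co_nonneg (g.neg_lt hk) (by
    have := g.nroots_eq; rw [g.neg_rev hk]; omega) hq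
  rw [g.co_neg hk hq] at this
  omega

lemma pos_of_not_supp {J : Set ℕ} {w : Equiv.Perm (Fin D.nroots)} (hw : w ∈ g.wJ J)
    {a : Fin D.nroots} (ha : half D ≤ a.val) (hs : ¬ g.SuppIn J a) : half D ≤ (w a).val := by
  obtain ⟨l, hl, rfl⟩ := g.exists_wperm_J hw
  simp only [SuppIn, not_forall] at hs
  obtain ⟨q, hq, hqJ, hne⟩ := hs
  have h : g.co (g.wperm l a) q = g.co a q := g.co_outside hl a hq hqJ
  have h2 := g.co_nonneg a.2 ha hq
  exact g.co_pos_imp_pos (g.wperm l a).2 hq (by omega)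

/-- Positive roots supported on `J'` stay positive if the fundamental ones do. -/
lemma pos_of_simples {J : Set ℕ} (l : List (Fin D.rank))
    (h : ∀ q : Fin D.rank, (q : ℕ) ∈ J → half D ≤ (g.wperm l (g.sroot q)).val)
    {a : Fin D.nroots} (ha : half D ≤ a.val) (hs : g.SuppIn J a) :
    half D ≤ (g.wperm l a).val := by
  by_contra hc
  have h0 : ¬ 0 < g.wt (g.wperm l a) := by rw [g.wt_pos_iff (Fin.isLt _)]; omega
  apply h0
  have hex : ∃ q : Fin D.rank, 0 < g.co a q := by
    by_contra hno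
    push Not at hno
    have h5 := g.wt_pos ha a.2
    rw [g.wt_eq, Finset.sum_eq_zero fun j hj => ?_] at h5
    · exact lt_irrefl _ h5
    · have hj' := Finset.mem_range.1 hj
      rw [le_antisymm (hno ⟨j, hj'⟩) (g.co_nonneg a.2 ha hj'), zero_mul]
  rw [g.wt_wperm]
  obtain ⟨q, hq⟩ := hex
  have term : ∀ i : Fin D.rank, 0 ≤ g.co a i * g.wt (g.wperm l (g.sroot i)) := fun i => by
    by_cases hi : (i : ℕ) ∈ J
    · exact mul_nonneg (g.co_nonneg a.2 ha i.2) (g.wt_pos (h i hi) (Fin.isLt _)).le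
    · rw [hs i i.2 hi, zero_mul]
  refine lt_of_lt_of_le ?_ (Finset.single_le_sum (fun i _ => term i) (Finset.mem_univ q))
  by_cases hqJ : (q : ℕ) ∈ J
  · exact mul_pos hq (g.wt_pos (h q hqJ) (Fin.isLt _))
  · rw [hs q q.2 hqJ] at hq; exact absurd hq (lt_irrefl _)

lemma suppIn_sroot {J : Set ℕ} (i : Fin D.rank) (hi : (i : ℕ) ∈ J) : g.SuppIn J (g.sroot i) := by
  intro q hq hqJ
  show g.co (D.simple i) q = 0
  rw [g.co_simple i.2 hq, if_neg fun h : (i : ℕ) = q => hqJ (by rw [← h]; exact hi)]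

lemma suppIn_nroot {J : Set ℕ} {a : Fin D.nroots} (h : g.SuppIn J a) : g.SuppIn J (g.nroot a) := by
  intro q hq hqJ
  show g.co (D.neg a) q = 0
  rw [g.co_neg a.2 hq, h q hq hqJ, neg_zero]

/-- Multiplying by a descent on the right drops the number of inversions by one. -/
lemma ninv_mul_rperm {w : Equiv.Perm (Fin D.nroots)} (hw : ∀ a, w (g.nroot a) = g.nroot (w a))
    {q : Fin D.rank} (h : (w (g.sroot q)).val < half D) :
    ninv D (w * g.rperm q) + 1 = ninv D w := by
  classical
  set T := Finset.univ.filter fun a : Fin D.nroots => half D ≤ a.val ∧ (w a).val < half D with hT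
  have hq : g.sroot q ∈ T := by simp [hT, g.sroot_pos, h]
  have e : ninv D (w * g.rperm q) = (T.erase (g.sroot q)).card := by
    refine Finset.card_bij (fun a _ => g.rperm q a) ?_ ?_ ?_
    · intro a ha
      have ha' := (Finset.mem_filter.1 ha).2
      have hne : a ≠ g.sroot q := by
        rintro rfl
        have h2 := ha'.2
        rw [Equiv.Perm.mul_apply, g.rperm_sroot, hw] at h2
        have := (g.nroot_pos_iff (w (g.sroot q))).2 h
        omega
      refine Finset.mem_erase.2 ⟨fun hc => ?_, by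
        simp only [hT, Finset.mem_filter, Finset.mem_univ, true_and]
        exact ⟨g.rperm_pos q ha'.1 hne, ha'.2⟩⟩
      have := congrArg (g.rperm q) hc
      rw [g.rperm_rperm, g.rperm_sroot] at this
      have h3 := g.nroot_sroot_neg q
      rw [← this] at h3
      omega
    · intro a _ b _ hab
      exact (g.rperm q).injective hab
    · intro b hb
      obtain ⟨hne, hb'⟩ := Finset.mem_erase.1 hb
      simp only [hT, Finset.mem_filter, Finset.mem_univ, true_and] at hb'
      refine ⟨g.rperm q b, Finset.mem_filter.2 ⟨Finset.mem_univ _, g.rperm_pos q hb'.1 hne, ?_⟩,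
        g.rperm_rperm q b⟩
      rw [Equiv.Perm.mul_apply, g.rperm_rperm]; exact hb'.2
  rw [e, Finset.card_erase_of_mem hq]
  have hpos := Finset.card_pos.2 ⟨_, hq⟩
  show T.card - 1 + 1 = T.card
  omega

/-! ### One step of the chain -/

/-- `v` is a dominant root for `J`, with stabiliser type `J'`. -/
structure IsStep (J J' : Set ℕ) (v : Fin D.nroots) : Prop where
  le : J' ⊆ J
  fix : ∀ j : Fin D.rank, (j : ℕ) ∈ J → ((j : ℕ) ∈ J' ↔ D.cartan j v = 0)
  dom : ∀ a : Fin D.nroots, half D ≤ a.val → g.SuppIn J a → 0 ≤ pair D a v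
  zero : ∀ a : Fin D.nroots, half D ≤ a.val → g.SuppIn J a → (pair D a v = 0 ↔ g.SuppIn J' a)

/-- The degree of a point of the orbit. -/
noncomputable def degJ (J : Set ℕ) (x : Fin D.nroots) : ℕ :=
  Nat.card {b : Fin D.nroots // half D ≤ b.val ∧ g.SuppIn J b ∧ pair D b x < 0}

variable {J J' : Set ℕ} {v : Fin D.nroots}

lemma rperm_fix (hst : g.IsStep J J' v) {j : Fin D.rank} (hj : (j : ℕ) ∈ J') :
    g.rperm j v = v := by
  refine g.co_ext fun q hq => ?_
  rw [g.rperm_val, g.co_refl j.2 v.2 hq, (hst.fix j (hst.le hj)).1 hj]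
  simp

lemma wJ_mono (h : J' ⊆ J) : g.wJ J' ≤ g.wJ J := by
  refine Subgroup.closure_mono ?_
  rintro σ ⟨i, hi, rfl⟩
  exact ⟨i, h hi, rfl⟩

lemma fix_of_mem (hst : g.IsStep J J' v) {u : Equiv.Perm (Fin D.nroots)} (hu : u ∈ g.wJ J') :
    u v = v := by
  induction hu using Subgroup.closure_induction with
  | mem x hx => obtain ⟨i, hi, rfl⟩ := hx; exact g.rperm_fix hst hi
  | one => rfl
  | mul x y _ _ hx hy => rw [Equiv.Perm.mul_apply, hy, hx]
  | inv x _ hx => rw [Equiv.Perm.inv_eq_iff_eq]; exact hx.symm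

lemma mem_of_fix (hst : g.IsStep J J' v) {u : Equiv.Perm (Fin D.nroots)} (hu : u ∈ g.wJ J)
    (hfix : u v = v) : u ∈ g.wJ J' := by
  obtain ⟨l, hl, rfl⟩ := g.exists_wperm_J hu
  induction' hn : l.length using Nat.strong_induction_on with n ih generalizing l
  by_cases hex : ∃ q : Fin D.rank, (q : ℕ) ∈ J ∧ ((g.wperm l).symm (g.sroot q)).val < half D
  · obtain ⟨q, hqJ, hneg⟩ := hex
    have hsupp : g.SuppIn J (g.nroot ((g.wperm l).symm (g.sroot q))) := by
      refine g.suppIn_nroot ((g.suppIn_wJ (g.wperm_mem_wJ hl) _).1 ?_)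
      rw [Equiv.apply_symm_apply]
      exact g.suppIn_sroot q hqJ
    have h1 := hst.dom _ ((g.nroot_pos_iff _).2 hneg) hsupp
    rw [g.pair_nroot] at h1
    have h2 := g.pair_wperm l ((g.wperm l).symm (g.sroot q)) v
    rw [Equiv.apply_symm_apply, hfix] at h2
    have h3 := hst.dom _ (g.sroot_pos q) (g.suppIn_sroot q hqJ)
    have h4 : pair D (g.sroot q) v = 0 := by omega
    have hq' : (q : ℕ) ∈ J' := by
      rw [hst.fix q hqJ]
      rw [show (g.sroot q : ℕ) = D.simple q from rfl, g.pair_simple q.2 v.2] at h4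
      exact h4
    obtain ⟨j, hj, -, he⟩ := g.exists_exchange hneg
    set l' := l.take j ++ l.drop (j + 1) with hl'
    have he' : g.rperm q * g.wperm l = g.wperm l' := g.wperm_eraseIdx hj he
    have hl'J : ∀ i ∈ l', (i : ℕ) ∈ J := fun i hi => by
      rcases List.mem_append.1 hi with h | h
      · exact hl i (List.mem_of_mem_take h)
      · exact hl i (List.mem_of_mem_drop h)
    have hfix' : g.wperm l' v = v := by
      rw [← he', Equiv.Perm.mul_apply, hfix, g.rperm_fix hst hq']
    have hlen : l'.length < n := by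
      rw [← hn, hl']; simp only [List.length_append, List.length_take, List.length_drop]; omega
    have := ih l'.length hlen l' hl'J (g.wperm_mem_wJ hl'J) hfix' rfl
    have e : g.wperm l = g.rperm q * g.wperm l' := by
      rw [← he', ← mul_assoc, g.rperm_mul_self, one_mul]
    rw [e]
    exact mul_mem (Subgroup.subset_closure ⟨q, hq', rfl⟩) this
  · push Not at hex
    have h1 : g.wperm l.reverse = 1 := by
      refine g.eq_one_of_pos (g.wperm_mem _) fun a ha => ?_
      by_cases hs : g.SuppIn J a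
      · refine g.pos_of_simples l.reverse (fun q hq => ?_) ha hs
        rw [g.wperm_reverse]
        exact hex q hq
      · exact g.pos_of_not_supp (g.wperm_mem_wJ fun i hi => hl i (List.mem_reverse.1 hi)) ha hs
    rw [g.wperm_reverse, inv_eq_one] at h1
    rw [h1]; exact one_mem _

lemma wJ_nroot {w : Equiv.Perm (Fin D.nroots)} (hw : w ∈ g.wJ J) (a : Fin D.nroots) :
    w (g.nroot a) = g.nroot (w a) := by
  obtain ⟨l, -, rfl⟩ := g.exists_wperm_J hw
  exact g.wperm_nroot l a

/-- The inversions of a minimal representative times an element of the stabiliser. -/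
lemma ninv_rep_mul (hst : g.IsStep J J' v) {w u : Equiv.Perm (Fin D.nroots)} (hw : w ∈ g.wJ J)
    (hmin : ∀ q : Fin D.rank, (q : ℕ) ∈ J' → half D ≤ (w (g.sroot q)).val) (hu : u ∈ g.wJ J') :
    ninv D (w * u) = g.degJ J (w v) + ninv D u := by
  classical
  have hwu : w * u ∈ g.wJ J := mul_mem hw (g.wJ_mono hst.le hu)
  have hfix : (w * u) v = w v := by rw [Equiv.Perm.mul_apply, g.fix_of_mem hst hu]
  have hpair : ∀ a : Fin D.nroots, pair D ((w * u) a) (w v) = pair D a v := by
    intro a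
    obtain ⟨l, -, hl⟩ := g.exists_wperm_J hwu
    rw [← hl, ← hfix, ← hl, g.pair_wperm]
  set S := Finset.univ.filter fun a : Fin D.nroots => half D ≤ a.val ∧ ((w * u) a).val < half D
  have hS : ∀ a, a ∈ S ↔ half D ≤ a.val ∧ ((w * u) a).val < half D := fun a =>
    Finset.mem_filter.trans (and_iff_right (Finset.mem_univ a))
  have hsuppS : ∀ a ∈ S, g.SuppIn J a := fun a ha => by
    by_contra hc
    have := g.pos_of_not_supp hwu ((hS a).1 ha).1 hc
    have := ((hS a).1 ha).2
    omega
  have key : S.card = (S.filter fun a : Fin D.nroots => pair D a v ≠ 0).card +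
      (S.filter fun a : Fin D.nroots => ¬ pair D a v ≠ 0).card := (Finset.card_filter_add_card_filter_not _).symm
  have h1 : (S.filter fun a : Fin D.nroots => pair D a v ≠ 0).card = g.degJ J (w v) := by
    rw [degJ, Nat.card_eq_fintype_card, Fintype.card_subtype]
    refine Finset.card_bij (fun a _ => g.nroot ((w * u) a)) ?_ ?_ ?_
    · intro a ha
      obtain ⟨haS, hne⟩ := Finset.mem_filter.1 ha
      obtain ⟨h3, h4⟩ := (hS a).1 haS
      simp only [Finset.mem_filter, Finset.mem_univ, true_and]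
      refine ⟨(g.nroot_pos_iff _).2 h4,
        g.suppIn_nroot ((g.suppIn_wJ hwu a).2 (hsuppS a haS)), ?_⟩
      rw [g.pair_nroot, hpair]
      have := hst.dom a h3 (hsuppS a haS)
      omega
    · intro a _ b _ hab
      have := congrArg g.nroot hab
      rw [g.nroot_nroot, g.nroot_nroot] at this
      exact (w * u).injective this
    · intro b hb
      simp only [Finset.mem_filter, Finset.mem_univ, true_and] at hb
      obtain ⟨hb1, hb2, hb3⟩ := hb
      set a := (w * u).symm (g.nroot b) with ha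
      have hwa : (w * u) a = g.nroot b := Equiv.apply_symm_apply _ _
      have hp : 0 < pair D a v := by rw [← hpair a, hwa, g.pair_nroot]; omega
      have hsa : g.SuppIn J a := (g.suppIn_wJ hwu a).1 (by rw [hwa]; exact g.suppIn_nroot hb2)
      have hapos : half D ≤ a.val := by
        by_contra hc
        have := hst.dom (g.nroot a) ((g.nroot_pos_iff a).2 (by omega)) (g.suppIn_nroot hsa)
        rw [g.pair_nroot] at this
        omega
      refine ⟨a, Finset.mem_filter.2 ⟨(hS a).2 ⟨hapos, ?_⟩, by omega⟩, by rw [hwa, g.nroot_nroot]⟩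
      rw [hwa]
      have := (g.nroot_pos_iff (g.nroot b)).1 (by rw [g.nroot_nroot]; exact hb1)
      exact this
  have h2 : (S.filter fun a : Fin D.nroots => ¬ pair D a v ≠ 0).card = ninv D u := by
    rw [ninv]
    congr 1
    ext a
    simp only [Finset.mem_filter, hS, Finset.mem_univ, true_and, not_not]
    obtain ⟨l, -, hl⟩ := g.exists_wperm_J hw
    have hsign : ∀ b : Fin D.nroots, g.SuppIn J' b →
        ((w b).val < half D ↔ b.val < half D) := by
      intro b hb
      have hpos : ∀ c : Fin D.nroots, half D ≤ c.val → g.SuppIn J' c → half D ≤ (w c).val :=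
        fun c hc hs => by rw [← hl] at hmin ⊢; exact g.pos_of_simples l hmin hc hs
      constructor
      · intro h; by_contra hc
        have := hpos b (by omega) hb; omega
      · intro h
        have := hpos (g.nroot b) ((g.nroot_pos_iff b).2 h) (g.suppIn_nroot hb)
        rw [g.wJ_nroot hw, g.nroot_pos_iff] at this
        exact this
    constructor
    · rintro ⟨⟨h3, h4⟩, h5⟩
      have hs : g.SuppIn J' a := (hst.zero a h3 (hsuppS a ((hS a).2 ⟨h3, h4⟩))).1 h5
      exact ⟨h3, (hsign (u a) ((g.suppIn_wJ hu a).2 hs)).1 h4⟩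
    · rintro ⟨h3, h4⟩
      have hs : g.SuppIn J' a := by
        by_contra hc
        have := g.pos_of_not_supp hu h3 hc; omega
      have hsJ : g.SuppIn J a := fun q hq hqJ => hs q hq fun h => hqJ (hst.le h)
      exact ⟨⟨h3, (hsign (u a) ((g.suppIn_wJ hu a).2 hs)).2 h4⟩, (hst.zero a h3 hsJ).2 hs⟩
  show S.card = _
  rw [key, h1, h2]

lemma degJ_base (hst : g.IsStep J J' v) : g.degJ J v = 0 := by
  classical
  rw [degJ, Nat.card_eq_zero]
  exact Or.inl ⟨fun ⟨b, hb, hs, hlt⟩ => absurd (hst.dom b hb hs) (not_le.2 hlt)⟩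

lemma degJ_rperm {j : Fin D.rank} (hj : (j : ℕ) ∈ J) (y : Fin D.nroots)
    (hy : 0 < D.cartan j y) : g.degJ J (g.rperm j y) = g.degJ J y + 1 := by
  classical
  simp only [degJ, Nat.card_eq_fintype_card, Fintype.card_subtype]
  set T := Finset.univ.filter fun b : Fin D.nroots =>
    half D ≤ b.val ∧ g.SuppIn J b ∧ pair D b y < 0
  set T' := Finset.univ.filter fun b : Fin D.nroots =>
    half D ≤ b.val ∧ g.SuppIn J b ∧ pair D b (g.rperm j y) < 0
  have hT : ∀ b, b ∈ T ↔ half D ≤ b.val ∧ g.SuppIn J b ∧ pair D b y < 0 := fun b =>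
    Finset.mem_filter.trans (and_iff_right (Finset.mem_univ b))
  have hT' : ∀ b, b ∈ T' ↔ half D ≤ b.val ∧ g.SuppIn J b ∧ pair D b (g.rperm j y) < 0 := fun b =>
    Finset.mem_filter.trans (and_iff_right (Finset.mem_univ b))
  have hp : ∀ b : Fin D.nroots, pair D b (g.rperm j y) = pair D (g.rperm j b) y := fun b => by
    rw [g.rperm_val, g.rperm_val, g.pair_refl j.2 b.2 y.2]
  have hmem : g.sroot j ∈ T' := by
    rw [hT']
    refine ⟨g.sroot_pos j, g.suppIn_sroot j hj, ?_⟩
    rw [hp, g.rperm_sroot, g.pair_nroot, show (g.sroot j : ℕ) = D.simple j from rfl,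
      g.pair_simple j.2 y.2]
    omega
  have hnot : g.sroot j ∉ T := fun h => by
    have h1 := ((hT _).1 h).2.2
    rw [show (g.sroot j : ℕ) = D.simple j from rfl, g.pair_simple j.2 y.2] at h1
    omega
  have hsj : g.rperm j ∈ g.wJ J := Subgroup.subset_closure ⟨j, hj, rfl⟩
  have e : (T'.erase (g.sroot j)).card = T.card := by
    refine Finset.card_bij (fun b _ => g.rperm j b) ?_ (fun a _ b _ h => (g.rperm j).injective h) ?_
    · intro b hb
      obtain ⟨hne, hb'⟩ := Finset.mem_erase.1 hb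
      obtain ⟨h1, h2, h3⟩ := (hT' b).1 hb'
      rw [hT]
      exact ⟨g.rperm_pos j h1 hne, (g.suppIn_wJ hsj b).2 h2, by rwa [← hp]⟩
    · intro b hb
      have hne : b ≠ g.sroot j := fun hc => hnot (hc ▸ hb)
      obtain ⟨h1, h2, h3⟩ := (hT b).1 hb
      refine ⟨g.rperm j b, Finset.mem_erase.2 ⟨fun hc => ?_, ?_⟩, g.rperm_rperm j b⟩
      · have := congrArg (g.rperm j) hc
        rw [g.rperm_rperm, g.rperm_sroot] at this
        have := g.nroot_sroot_neg j
        subst b
        omega
      · rw [hT']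
        exact ⟨g.rperm_pos j h1 hne, (g.suppIn_wJ hsj b).2 h2, by rwa [hp, g.rperm_rperm]⟩
  rw [← e, Finset.card_erase_add_one hmem]

open Classical in
/-- The inversion polynomial of a parabolic subgroup, evaluated at `q`. -/
noncomputable def weylSum (J : Set ℕ) (q : ℕ) : ℕ :=
  ∑ w ∈ Finset.univ.filter (fun w => w ∈ g.wJ J), q ^ ninv D w

lemma weylSum_empty (q : ℕ) : g.weylSum (∅ : Set ℕ) q = 1 := by
  classical
  have : g.wJ (∅ : Set ℕ) = ⊥ := by
    rw [wJ, Subgroup.closure_eq_bot_iff]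
    rintro σ ⟨i, hi, rfl⟩; exact absurd hi (Set.notMem_empty _)
  rw [weylSum, Finset.sum_eq_single (1 : Equiv.Perm (Fin D.nroots))]
  · simp [g.ninv_one]
  · intro w hw hne
    simp only [Finset.mem_filter, this, Subgroup.mem_bot] at hw
    exact absurd hw.2 hne
  · simp [one_mem]

lemma card_wJ (J : Set ℕ) : Nat.card (g.wJ J) = g.weylSum J 1 := by
  classical
  simp [weylSum, Nat.card_eq_fintype_card, Fintype.card_subtype]

open Classical in
/-- Factorisation over an orbit. -/
theorem weylSum_step (hst : g.IsStep J J' v) {O : Finset (Fin D.nroots)}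
    (hO : ∀ x, x ∈ O ↔ ∃ w ∈ g.wJ J, w v = x) (q : ℕ) :
    g.weylSum J q = (∑ x ∈ O, q ^ g.degJ J x) * g.weylSum J' q := by
  set A := Finset.univ.filter (fun w => w ∈ g.wJ J) with hA
  have hmapsto : ∀ w ∈ A, w v ∈ O := fun w hw => (hO _).2 ⟨w, (Finset.mem_filter.1 hw).2, rfl⟩
  rw [weylSum, ← hA, ← Finset.sum_fiberwise_of_maps_to hmapsto, Finset.sum_mul]
  refine Finset.sum_congr rfl fun x hx => ?_
  obtain ⟨w1, hw1, hw1x⟩ := (hO x).1 hx
  set Fb := A.filter fun w => w v = x with hF
  obtain ⟨w0, hw0, hmin⟩ :=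
    Finset.exists_min_image Fb (ninv D) ⟨w1, by simp [hF, hA, hw1, hw1x]⟩
  simp only [hF, hA, Finset.mem_filter, Finset.mem_univ, true_and] at hw0
  have hrep : ∀ k : Fin D.rank, (k : ℕ) ∈ J' → half D ≤ (w0 (g.sroot k)).val := by
    intro k hk
    by_contra hc
    have h1 := g.ninv_mul_rperm (g.wJ_nroot hw0.1) (q := k) (Nat.not_le.1 hc)
    have h2 := hmin (w0 * g.rperm k) (by
      simp only [hF, hA, Finset.mem_filter, Finset.mem_univ, true_and]
      refine ⟨mul_mem hw0.1 (Subgroup.subset_closure ⟨k, hst.le hk, rfl⟩), ?_⟩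
      rw [Equiv.Perm.mul_apply, g.rperm_fix hst hk, hw0.2])
    omega
  rw [weylSum, Finset.mul_sum]
  refine Finset.sum_bij' (fun w _ => w0⁻¹ * w) (fun u _ => w0 * u) ?_ ?_ ?_ ?_ ?_
  · intro w hw
    simp only [hF, hA, Finset.mem_filter, Finset.mem_univ, true_and] at hw ⊢
    refine g.mem_of_fix hst (mul_mem (inv_mem hw0.1) hw.1) ?_
    rw [Equiv.Perm.mul_apply, hw.2, Equiv.Perm.inv_eq_iff_eq, hw0.2]
  · intro u hu
    simp only [hF, hA, Finset.mem_filter, Finset.mem_univ, true_and] at hu ⊢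
    exact ⟨mul_mem hw0.1 (g.wJ_mono hst.le hu),
      by rw [Equiv.Perm.mul_apply, g.fix_of_mem hst hu, hw0.2]⟩
  · intro w _; simp
  · intro u _; simp
  · intro w hw
    simp only [hF, hA, Finset.mem_filter, Finset.mem_univ, true_and] at hw
    have hu : w0⁻¹ * w ∈ g.wJ J' := g.mem_of_fix hst (mul_mem (inv_mem hw0.1) hw.1) (by
      rw [Equiv.Perm.mul_apply, hw.2, Equiv.Perm.inv_eq_iff_eq, hw0.2])
    have h := g.ninv_rep_mul hst hw0.1 hrep hu
    rw [mul_inv_cancel_left, hw0.2] at h
    rw [h, pow_add]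

lemma weyl_eq_wJ : g.weyl = g.wJ {i | i < D.rank} := by
  rw [weyl, wJ]
  congr 1
  ext σ
  constructor
  · rintro ⟨i, rfl⟩; exact ⟨i, i.2, rfl⟩
  · rintro ⟨i, -, rfl⟩; exact ⟨i, rfl⟩

end Good

end CfsgLib.Chev
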