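import Mathlib
import Cfsg.Agent.Lib.Chev.Bruhat
import Cfsg.Agent.Lib.Chev.WeylJ

/-!
The order of a finite Chevalley group as a sum over the Weyl group.
-/

set_option autoImplicit false
set_option maxHeartbeats 200000

namespace CfsgLib.Chev

open Cfsg.Lie Matrix

variable {D : ChevalleyDatum} {F : Type*} [Field F]

namespace Good

variable (g : Good D)
include g

/-- `U_w⁻` meets the filtration in its own root subgroups. -/
lemma minus_inf_Ici (hc : HasComm D) (π : Equiv.Perm (Fin D.nroots)) {n : GL D.Idx F}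
    (hn : g.Acts n π) {m : ℕ} (hm : half D ≤ m) {y : GL D.Idx F}
    (hy : y ∈ rootGen D F (Set.Ici m)) (hy' : y ∈ rootGen D F (minusSet π)) :
    y ∈ rootGen D F (Set.Ici m ∩ minusSet π) := by
  obtain ⟨a, ha, b, hb, rfl⟩ := g.Ici_split hc (minusSet π) m hm y hy
  have hb1 : b ∈ rootGen D F (plusSet π) := by
    exact g.rootGen_mono (T := plusSet π) (fun r hr hr' =>
      ⟨hr', hm.trans hr.1, Nat.not_lt.1 fun h => hr.2 ⟨hr', hm.trans hr.1, h⟩⟩) hb
  have hb2 : b ∈ rootGen D F (minusSet π) := by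
    have := mul_mem (inv_mem (g.rootGen_mono (T := minusSet π) (fun r hr _ => hr.2) ha)) hy'
    rwa [inv_mul_cancel_left] at this
  have hb3 : n * b * n⁻¹ ∈ D.borelSubgroup F ⊓ D.negUnipotent F :=
    Subgroup.mem_inf.2 ⟨Subgroup.mem_sup_left (g.conj_plus_le hn hb1), g.conj_minus_le hn hb2⟩
  rw [g.borel_inf_neg, Subgroup.mem_bot, conj_eq_one_iff] at hb3
  rw [hb3, mul_one]
  exact ha

lemma card_minus_Ici [Fintype F] (hc : HasComm D) (π : Equiv.Perm (Fin D.nroots))
    {n : GL D.Idx F} (hn : g.Acts n π) :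
    ∀ k m, D.nroots - m = k → half D ≤ m → Nat.card (rootGen D F (Set.Ici m ∩ minusSet π)) =
      Fintype.card F ^ Nat.card {r : Fin D.nroots // m ≤ r.val ∧ (π r).val < half D} := by
  intro k
  induction k with
  | zero =>
    intro m hk _
    have h1 : rootGen D F (Set.Ici m ∩ minusSet π) = ⊥ := by
      refine le_bot_iff.1 ((g.rootGen_mono fun r hr _ => hr.1).trans ?_)
      rw [g.Ici_empty (by omega)]
    have h2 : IsEmpty {r : Fin D.nroots // m ≤ r.val ∧ (π r).val < half D} :=
      ⟨fun ⟨r, hr, _⟩ => by have := r.2; omega⟩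
    rw [h1, Subgroup.card_bot, Nat.card_of_isEmpty, pow_zero]
  | succ k ih =>
    intro m hk hm
    have hmn : m < D.nroots := by omega
    have hIH := ih (m + 1) (by omega) (by omega)
    have hsub : rootGen D F (Set.Ici (m + 1) ∩ minusSet π) ≤ rootGen D F (Set.Ici m ∩ minusSet π) :=
      g.rootGen_mono fun r hr _ => ⟨Nat.le_of_succ_le hr.1, hr.2⟩
    by_cases hS : (π ⟨m, hmn⟩).val < half D
    · have hmS : m ∈ Set.Ici m ∩ minusSet π := ⟨le_refl m, hmn, hm, hS⟩
      let e : F × ↥(rootGen D F (Set.Ici (m + 1) ∩ minusSet π)) →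
          ↥(rootGen D F (Set.Ici m ∩ minusSet π)) := fun p =>
        ⟨g.xG m p.1 * p.2, mul_mem (g.mem_rootGen hmn hmS _) (hsub p.2.2)⟩
      have hle : rootGen D F (Set.Ici (m + 1) ∩ minusSet π) ≤ rootGen D F (Set.Ici (m + 1)) :=
        g.rootGen_mono fun r hr _ => hr.1
      have hbij : Function.Bijective e := by
        refine ⟨fun p q h => ?_, fun x => ?_⟩
        · obtain ⟨h1, h2⟩ := g.Ici_unique hm hmn (hle p.2.2) (hle q.2.2) (congrArg Subtype.val h)
          exact Prod.ext h1 (Subtype.ext h2)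
        · obtain ⟨a, y, hy, he⟩ := g.Ici_step hc hm hmn
            (g.rootGen_mono (T := Set.Ici m) (fun r hr _ => hr.1) x.2)
          have hy' : y ∈ rootGen D F (minusSet π) := by
            have := mul_mem (inv_mem (g.mem_rootGen hmn (S := minusSet π) hmS.2 a))
              (g.rootGen_mono (T := minusSet π) (fun r hr _ => hr.2) x.2)
            rwa [he, inv_mul_cancel_left] at this
          exact ⟨(a, ⟨y, g.minus_inf_Ici hc π hn (by omega) hy hy'⟩), Subtype.ext he.symm⟩
      rw [← Nat.card_eq_of_bijective e hbij, Nat.card_prod, hIH, Nat.card_eq_fintype_card,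
        ← pow_succ']
      congr 1
      classical
      rw [Nat.card_eq_fintype_card, Nat.card_eq_fintype_card, Fintype.card_subtype,
        Fintype.card_subtype, ← Finset.card_insert_of_notMem (a := (⟨m, hmn⟩ : Fin D.nroots))
          (by simp)]
      congr 1
      ext r
      simp only [Finset.mem_insert, Finset.mem_filter, Finset.mem_univ, true_and, Fin.ext_iff]
      constructor
      · rintro (h | ⟨h1, h2⟩)
        · obtain rfl : r = ⟨m, hmn⟩ := Fin.ext h
          exact ⟨le_refl m, hS⟩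
        · exact ⟨by omega, h2⟩
      · rintro ⟨h1, h2⟩
        by_cases hr : r.val = m
        · exact Or.inl hr
        · exact Or.inr ⟨by omega, h2⟩
    · have h1 : rootGen D F (Set.Ici m ∩ minusSet π) = rootGen D F (Set.Ici (m + 1) ∩ minusSet π) := by
        refine le_antisymm (g.rootGen_mono fun r hr hr' => ⟨?_, hr.2⟩) hsub
        obtain ⟨hr1, _, _, hr3⟩ := hr
        rcases Nat.lt_or_ge m r with h | h
        · exact h
        · obtain rfl : r = m := le_antisymm h hr1
          exact absurd hr3 hS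
      rw [h1, hIH]
      congr 1
      refine Nat.card_congr (Equiv.subtypeEquivRight fun r => ⟨fun h => ⟨by omega, h.2⟩, fun h => ⟨?_, h.2⟩⟩)
      rcases Nat.lt_or_ge m r with hh | hh
      · exact hh
      · obtain rfl : r = ⟨m, hmn⟩ := Fin.ext (le_antisymm hh h.1)
        exact absurd h.2 hS

/-- `|U_w⁻| = q ^ ℓ(w)`. -/
theorem card_minus [Fintype F] (hc : HasComm D) (π : Equiv.Perm (Fin D.nroots))
    {n : GL D.Idx F} (hn : g.Acts n π) :
    Nat.card (rootGen D F (minusSet π)) = Fintype.card F ^ ninv D π := by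
  have h1 : rootGen D F (minusSet π) = rootGen D F (Set.Ici (half D) ∩ minusSet π) := by
    congr 1
    exact (Set.inter_eq_right.2 fun r hr => by obtain ⟨_, h, _⟩ := hr; exact h).symm
  rw [h1, g.card_minus_Ici hc π hn _ (half D) rfl le_rfl, ninv]
  congr 1
  classical
  simp [Nat.card_eq_fintype_card, Fintype.card_subtype]

lemma card_borel [Fintype F] (hc : HasComm D) :
    Nat.card (D.borelSubgroup F) =
      Fintype.card F ^ (D.nroots / 2) * Nat.card (D.diagonalSubgroup F) := by
  let e : ↥(D.posUnipotent F) × ↥(D.diagonalSubgroup F) → ↥(D.borelSubgroup F) := fun p =>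
    ⟨p.1 * p.2, mul_mem (Subgroup.mem_sup_left p.1.2) (Subgroup.mem_sup_right p.2.2)⟩
  have hbij : Function.Bijective e := by
    refine ⟨fun p q h => ?_, fun x => ?_⟩
    · have h' : (p.1 : GL D.Idx F) * p.2 = q.1 * q.2 := congrArg Subtype.val h
      have h1 : (q.1 : GL D.Idx F)⁻¹ * p.1 ∈ D.posUnipotent F ⊓ D.diagonalSubgroup F := by
        refine Subgroup.mem_inf.2 ⟨mul_mem (inv_mem q.1.2) p.1.2, ?_⟩
        rw [show (q.1 : GL D.Idx F)⁻¹ * p.1 = q.2 * (p.2 : GL D.Idx F)⁻¹ by
          rw [eq_mul_inv_iff_mul_eq, mul_assoc, h', inv_mul_cancel_left]]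
        exact mul_mem q.2.2 (inv_mem p.2.2)
      rw [g.pos_inf_diagonal, Subgroup.mem_bot, inv_mul_eq_one] at h1
      rw [← h1] at h'
      exact Prod.ext (Subtype.ext h1.symm) (Subtype.ext (mul_left_cancel h'))
    · obtain ⟨u, hu, h, hh, he⟩ := g.mem_borel.1 x.2
      exact ⟨(⟨u, hu⟩, ⟨h, hh⟩), Subtype.ext he⟩
  rw [← Nat.card_eq_of_bijective e hbij, Nat.card_prod, g.card_posUnipotent hc]

/-- `|G| = |B| Σ_w q ^ ℓ(w)`. -/
theorem card_group [Fintype F] (hc : HasComm D) :
    Nat.card (D.group F) = Nat.card (D.borelSubgroup F) *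
      g.weylSum {i | i < D.rank} (Fintype.card F) := by
  classical
  choose word hword using fun w : ↥g.weyl => g.exists_wperm w.2
  have hn : ∀ w : ↥g.weyl, g.Acts (g.wordN (word w) : GL D.Idx F) w.1 := fun w => by
    have := g.acts_wordN (F := F) (word w)
    rwa [hword w] at this
  let e : ↥(D.borelSubgroup F) × (Σ w : ↥g.weyl, ↥(rootGen D F (minusSet w.1))) → ↥(D.group F) :=
    fun p => ⟨(p.1 : GL D.Idx F) * g.wordN (word p.2.1) * (p.2.2 : GL D.Idx F),
      mul_mem (mul_mem (g.borel_le_group p.1.2) (g.monomial_le_group (g.wordN_mem _)))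
        (g.posUnipotent_le_group (g.minus_le_pos _ p.2.2.2))⟩
  have hbij : Function.Bijective e := by
    refine ⟨?_, fun x => ?_⟩
    · rintro ⟨b, w, u⟩ ⟨b', w', u'⟩ h
      have h' : (b : GL D.Idx F) * g.wordN (word w) * (u : GL D.Idx F) =
          (b' : GL D.Idx F) * g.wordN (word w') * (u' : GL D.Idx F) :=
        congrArg Subtype.val h
      have h1 := g.canonical_coset hc b.2 b'.2 (g.wordN_mem _) (g.wordN_mem _)
        (Subgroup.mem_sup_left (g.minus_le_pos _ u.2)) (Subgroup.mem_sup_left (g.minus_le_pos _ u'.2)) h'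
      have h2 := g.acts_unique (g.acts_mul (g.acts_inv (hn w)) (hn w')) (g.acts_diagonal h1)
      obtain rfl : w = w' := Subtype.ext (inv_mul_eq_one.1 h2)
      obtain ⟨e1, e2⟩ := g.canonical_unique b.2 b'.2 (hn w) u.2 u'.2 h'
      rw [Subtype.ext e1, Subtype.ext e2]
    · obtain ⟨b, hb, n, hnm, π, hπw, hπ, u, hu, he⟩ := g.exists_canonical hc x.2
      let w : ↥g.weyl := ⟨π, hπw⟩
      have hd : n * (g.wordN (F := F) (word w))⁻¹ ∈ D.diagonalSubgroup F := by
        have hm : n * (g.wordN (F := F) (word w))⁻¹ ∈ D.monomialSubgroup F :=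
          mul_mem hnm (inv_mem (g.wordN_mem _))
        let z : ↥(D.monomialSubgroup F) := ⟨n * (g.wordN (F := F) (word w))⁻¹, hm⟩
        have ha : g.Acts (z : GL D.Idx F) (π * π⁻¹) := g.acts_mul hπ (g.acts_inv (hn w))
        rw [mul_inv_cancel] at ha
        have : z ∈ (g.rootAct (F := F)).ker := by
          rw [MonoidHom.mem_ker]
          exact Subtype.ext (g.rootAct_eq ha)
        rw [g.rootAct_ker, Subgroup.mem_subgroupOf] at this
        exact this
      refine ⟨(⟨b * (n * (g.wordN (F := F) (word w))⁻¹),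
        mul_mem hb (Subgroup.mem_sup_right hd)⟩, ⟨w, ⟨u, hu⟩⟩), Subtype.ext ?_⟩
      show b * (n * (g.wordN (F := F) (word w))⁻¹) * g.wordN (word w) * u = (x : GL D.Idx F)
      rw [he]; group
  rw [← Nat.card_eq_of_bijective e hbij, Nat.card_prod, Nat.card_sigma]
  congr 1
  rw [weylSum, ← g.weyl_eq_wJ]
  simp_rw [fun w : ↥g.weyl => g.card_minus hc w.1 (hn w)]
  exact (Finset.sum_subtype (Finset.univ.filter fun w => w ∈ g.weyl) (fun w => by simp)
    (fun w => Fintype.card F ^ ninv D w)).symm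

end Good

end CfsgLib.Chev
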