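import Cfsg.Prelude.Def_LieRecognition
import Cfsg.Agent.Lib.Invol.Basic

/-!
# An involution normalising a subgroup of odd order: `X = C_X(t) · K`, where `K` is the set of
elements of `X` inverted by `t`.
-/

namespace CfsgLib.Chev.InvBy

open CfsgLib.Invol

variable {M : Type*} [Group M] [Finite M] {t : M} {X : Subgroup M}

theorem sq_inj (hodd : Odd (Nat.card X)) {x y : M} (hx : x ∈ X) (hy : y ∈ X)
    (h : x * x = y * y) : x = y := by
  obtain ⟨n, hn⟩ := hodd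
  have key : ∀ z ∈ X, (z * z) ^ (n + 1) = z := by
    intro z hz
    have h1 : z ^ Nat.card X = 1 := by
      have := pow_card_eq_one' (x := (⟨z, hz⟩ : X))
      exact congrArg Subtype.val this
    rw [← pow_two, ← pow_mul, show 2 * (n + 1) = 2 * n + 1 + 1 by ring, ← hn, pow_succ, h1,
      one_mul]
  rw [← key x hx, h, key y hy]

theorem exists_sqrt (hodd : Odd (Nat.card X)) {w : M}
    (hw : w ∈ Cfsg.invertedBy X t) : ∃ z ∈ Cfsg.invertedBy X t, z * z = w := by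
  obtain ⟨n, hn⟩ := hodd
  refine ⟨w ^ (n + 1), ⟨pow_mem hw.1 _, ?_⟩, ?_⟩
  · rw [← conj_pow, hw.2, inv_pow]
  · have h1 : w ^ Nat.card X = 1 := congrArg Subtype.val
      (pow_card_eq_one' (x := (⟨w, hw.1⟩ : X)))
    rw [← pow_add, show n + 1 + (n + 1) = 2 * n + 1 + 1 by ring, ← hn, pow_succ, h1, one_mul]

theorem mem_cent_iff {c : M} :
    c ∈ X ⊓ Subgroup.centralizer {t} ↔ c ∈ X ∧ t * c * t⁻¹ = c := by
  rw [Subgroup.mem_inf, Subgroup.mem_centralizer_singleton_iff, mul_inv_eq_iff_eq_mul]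
  exact and_congr_right fun _ => ⟨fun h => h.symm, fun h => h.symm⟩

theorem exists_decomp (ht : t * t = 1) (hodd : Odd (Nat.card X))
    (hnorm : ∀ x ∈ X, t * x * t⁻¹ ∈ X) {x : M} (hx : x ∈ X) :
    ∃ c ∈ X ⊓ Subgroup.centralizer {t}, ∃ z ∈ Cfsg.invertedBy X t, x = c * z := by
  have hti : t⁻¹ = t := inv_eq_of_mul_eq_one_right ht
  have htt : ∀ y : M, t * (t * y) = y := fun y => by rw [← mul_assoc, ht, one_mul]
  have hw : (t * x * t⁻¹)⁻¹ * x ∈ Cfsg.invertedBy X t := by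
    refine ⟨mul_mem (inv_mem (hnorm x hx)) hx, ?_⟩
    simp only [hti, mul_inv_rev, inv_inv, mul_assoc, htt]
  obtain ⟨z, hz, hzz⟩ := exists_sqrt hodd hw
  refine ⟨x * z⁻¹, mem_cent_iff.2 ⟨mul_mem hx (inv_mem hz.1), ?_⟩, z, hz, by group⟩
  calc t * (x * z⁻¹) * t⁻¹ = (t * x * t⁻¹) * (t * z * t⁻¹)⁻¹ := by group
    _ = (t * x * t⁻¹) * z := by rw [hz.2, inv_inv]
    _ = (t * x * t⁻¹) * (z * z) * z⁻¹ := by group
    _ = x * z⁻¹ := by rw [hzz]; group

theorem decomp_unique (hodd : Odd (Nat.card X)) {c c' z z' : M}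
    (hc : c ∈ X ⊓ Subgroup.centralizer {t}) (hz : z ∈ Cfsg.invertedBy X t)
    (hc' : c' ∈ X ⊓ Subgroup.centralizer {t}) (hz' : z' ∈ Cfsg.invertedBy X t)
    (h : c * z = c' * z') : c = c' ∧ z = z' := by
  have e : ∀ (c z : M), c ∈ X ⊓ Subgroup.centralizer {t} → z ∈ Cfsg.invertedBy X t →
      z * z = (t * (c * z) * t⁻¹)⁻¹ * (c * z) := by
    intro c z hc hz
    have : t * (c * z) * t⁻¹ = c * z⁻¹ := by
      rw [show t * (c * z) * t⁻¹ = (t * c * t⁻¹) * (t * z * t⁻¹) by group,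
        (mem_cent_iff.1 hc).2, hz.2]
    rw [this]
    group
  have hzz : z = z' := sq_inj hodd hz.1 hz'.1 (by rw [e c z hc hz, e c' z' hc' hz', h])
  subst hzz
  exact ⟨mul_right_cancel h, rfl⟩

theorem conj_closure (ht : t * t = 1) (hodd : Odd (Nat.card X))
    (hnorm : ∀ x ∈ X, t * x * t⁻¹ ∈ X) {x : M} (hx : x ∈ X) {y : M}
    (hy : y ∈ Subgroup.closure (Cfsg.invertedBy X t)) :
    x * y * x⁻¹ ∈ Subgroup.closure (Cfsg.invertedBy X t) := by
  obtain ⟨c, hc, z, hz, rfl⟩ := exists_decomp ht hodd hnorm hx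
  have hzy : z * y * z⁻¹ ∈ Subgroup.closure (Cfsg.invertedBy X t) :=
    mul_mem (mul_mem (Subgroup.subset_closure hz) hy) (inv_mem (Subgroup.subset_closure hz))
  rw [show c * z * y * (c * z)⁻¹ = c * (z * y * z⁻¹) * c⁻¹ by group]
  generalize z * y * z⁻¹ = w at hzy
  obtain ⟨hcX, hct⟩ := mem_cent_iff.1 hc
  induction hzy using Subgroup.closure_induction with
  | mem k hk =>
    refine Subgroup.subset_closure ⟨mul_mem (mul_mem hcX hk.1) (inv_mem hcX), ?_⟩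
    rw [show t * (c * k * c⁻¹) * t⁻¹ = (t * c * t⁻¹) * (t * k * t⁻¹) * (t * c * t⁻¹)⁻¹ by group,
      hct, hk.2, conj_inv]
  | one => simp
  | mul p q _ _ hp hq =>
    rw [show c * (p * q) * c⁻¹ = (c * p * c⁻¹) * (c * q * c⁻¹) by group]
    exact mul_mem hp hq
  | inv p _ hp =>
    rw [← conj_inv]
    exact inv_mem hp

end CfsgLib.Chev.InvBy
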