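import Mathlib
import Cfsg.Agent.Lib.Chev.TorusH

/-!
The order of the diagonal subgroup from a Smith form of the Cartan matrix.
-/

set_option autoImplicit false
set_option maxHeartbeats 200000

namespace CfsgLib.Chev

open Cfsg.Lie Matrix

section Pow

variable {G : Type*} [CommGroup G] {ι : Type*} [Fintype ι]

/-- The monomial map of an integer matrix. -/
def powMap (M : Matrix ι ι ℤ) : (ι → G) →* (ι → G) where
  toFun c j := ∏ i, c i ^ M i j
  map_one' := by funext j; simp
  map_mul' c d := by funext j; simp [mul_zpow, Finset.prod_mul_distrib]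

lemma powMap_apply (M : Matrix ι ι ℤ) (c : ι → G) (j : ι) : powMap M c j = ∏ i, c i ^ M i j := rfl

lemma powMap_mul (M N : Matrix ι ι ℤ) :
    (powMap (M * N) : (ι → G) →* _) = (powMap N).comp (powMap M) := by
  ext c j
  simp only [MonoidHom.comp_apply, powMap_apply, Matrix.mul_apply]
  rw [Finset.prod_congr rfl fun i _ => zpow_sum' (c i) fun k => M i k * N k j, Finset.prod_comm]
  refine Finset.prod_congr rfl fun k _ => ?_
  simp only [_root_.zpow_mul]
  exact Finset.prod_zpow _ _ _
  where
  zpow_sum' (x : G) (f : ι → ℤ) : x ^ ∑ k, f k = ∏ k, x ^ f k := by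
    induction (Finset.univ : Finset ι) using Finset.cons_induction with
    | empty => simp
    | cons a s ha ih => rw [Finset.sum_cons, Finset.prod_cons, _root_.zpow_add, ih]

lemma powMap_one [DecidableEq ι] (c : ι → G) : powMap (1 : Matrix ι ι ℤ) c = c := by
  funext j
  rw [powMap_apply, Finset.prod_eq_single j (fun i _ h => by simp [Matrix.one_apply_ne h])
    (by simp), Matrix.one_apply_eq, zpow_one]

/-- The kernel of a monomial map, from a Smith form. -/
theorem card_ker_powMap [DecidableEq ι] [Finite G] [IsCyclic G] {A P P' Q Q' : Matrix ι ι ℤ}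
    {d : ι → ℕ} (hA : A = P' * Matrix.diagonal (fun i => (d i : ℤ)) * Q') (hP : P * P' = 1)
    (hQ : Q' * Q = 1) :
    Nat.card (powMap (G := G) A).ker = ∏ i, (Nat.card G).gcd (d i) := by
  have hdiag : ∀ c : ι → G, powMap (Matrix.diagonal fun i => (d i : ℤ)) c =
      fun i => c i ^ d i := by
    intro c; funext j
    rw [powMap_apply, Finset.prod_eq_single j (fun i _ h => by simp [Matrix.diagonal_apply_ne _ h])
      (by simp), Matrix.diagonal_apply_eq, zpow_natCast]
  have hinv : ∀ (M N : Matrix ι ι ℤ), M * N = 1 → ∀ c : ι → G, powMap N (powMap M c) = c :=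
    fun M N h c => by rw [← MonoidHom.comp_apply, ← powMap_mul, h, powMap_one]
  have hQinj : Function.Injective (powMap (G := G) Q') :=
    Function.LeftInverse.injective (g := powMap Q) (hinv Q' Q hQ)
  have hmem : ∀ c : ι → G, c ∈ (powMap (G := G) A).ker ↔ ∀ i, powMap P' c i ^ d i = 1 := by
    intro c
    rw [MonoidHom.mem_ker, hA, powMap_mul, powMap_mul, MonoidHom.comp_apply, MonoidHom.comp_apply,
      ← map_one (powMap (G := G) Q'), hQinj.eq_iff, hdiag, funext_iff]
    rfl
  let e : ↥(powMap (G := G) A).ker ≃ ((i : ι) → ↥(powMonoidHom (d i) : G →* G).ker) :=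
    { toFun := fun c i => ⟨powMap P' c.1 i, MonoidHom.mem_ker.2 ((hmem _).1 c.2 i)⟩
      invFun := fun x => ⟨powMap P (fun i => (x i : G)), (hmem _).2 fun i => by
        rw [hinv P P' hP]; exact MonoidHom.mem_ker.1 (x i).2⟩
      left_inv := fun c => Subtype.ext (hinv P' P (mul_eq_one_comm.1 hP) c.1)
      right_inv := fun x => funext fun i => Subtype.ext (congrFun (hinv P P' hP _) i) }
  rw [Nat.card_congr e, Nat.card_pi]
  exact Finset.prod_congr rfl fun i _ => IsCyclic.card_powMonoidHom_ker G (d i)

end Pow

/-- The Cartan matrix of the data. -/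
def cartanMat (D : ChevalleyDatum) : Matrix (Fin D.rank) (Fin D.rank) ℤ :=
  Matrix.of fun i j => D.cartan i (D.simple j)

/-- A matrix from a list of rows. -/
noncomputable def listMat (n : ℕ) (L : List (List ℤ)) : Matrix (Fin n) (Fin n) ℤ :=
  Matrix.of fun i j => nth 0 (nth [] L i) j

/-- An entry of `A B`. -/
noncomputable def mulEntry (n : ℕ) (A B : ℕ → ℕ → ℤ) (i j : ℕ) : ℤ :=
  sumUpto n fun k => A i k * B k j

/-- The Smith certificate. -/
noncomputable def smithOK (D : ChevalleyDatum) (dat : LieData) (P P' Q Q' : List (List ℤ))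
    (d : List ℕ) : Bool :=
  allR (fun i => allR (fun j =>
    Int.beq' (fcartan D i (fsimple dat j))
      (mulEntry D.rank (fun a b => nth 0 (nth [] P' a) b * ((nth 0 d b : ℕ) : ℤ))
        (fun a b => nth 0 (nth [] Q' a) b) i j) &&
    Int.beq' (mulEntry D.rank (fun a b => nth 0 (nth [] P a) b) (fun a b => nth 0 (nth [] P' a) b) i j)
      (fdelta i j) &&
    Int.beq' (mulEntry D.rank (fun a b => nth 0 (nth [] Q' a) b) (fun a b => nth 0 (nth [] Q a) b) i j)
      (fdelta i j))
    (upto D.rank)) (upto D.rank)

namespace Good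

variable {D : ChevalleyDatum} (g : Good D)
include g

lemma torHom_eq_one_iff {F : Type*} [Field F] (c : Fin D.rank → Fˣ) :
    torHom D F c = 1 ↔ powMap (cartanMat D) c = 1 := by
  constructor
  · intro h
    funext j
    have h1 := congrArg (fun x : GL D.Idx F => (x : Matrix D.Idx D.Idx F)
      (Sum.inr ⟨D.simple j, g.simple_lt j.2⟩) (Sum.inr ⟨D.simple j, g.simple_lt j.2⟩)) h
    simp only [torHom_apply, Matrix.diagonal_apply_eq, Units.val_one, Matrix.one_apply_eq] at h1
    exact Units.ext h1
  · intro h
    refine Units.ext ?_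
    rw [torHom_apply, Units.val_one, ← Matrix.diagonal_one]
    congr 1
    funext a
    rcases a with k | u
    · simp [torExp]
    · suffices e : (∏ i : Fin D.rank, c i ^ torExp D i (Sum.inr u) : Fˣ) = 1 by rw [e]; rfl
      simp only [torExp, Sum.elim_inr]
      have e1 : ∀ i : Fin D.rank, c i ^ D.cartan i u =
          ∏ j : Fin D.rank, (c i ^ cartanMat D i j) ^ g.co u j := by
        intro i
        rw [g.cartan_eq_sum u.2 i.2, Finset.sum_range]
        induction (Finset.univ : Finset (Fin D.rank)) using Finset.induction with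
        | empty => simp
        | insert a s ha ih =>
          rw [Finset.sum_insert ha, Finset.prod_insert ha, _root_.zpow_add, ih, mul_comm (g.co _ _),
            _root_.zpow_mul]
          rfl
      rw [Finset.prod_congr rfl fun i _ => e1 i, Finset.prod_comm]
      refine Finset.prod_eq_one fun j _ => ?_
      rw [Finset.prod_zpow, show ∏ i, c i ^ cartanMat D i j = 1 from congrFun h j, _root_.one_zpow]

/-- The order of `H`. -/
theorem card_diagonal {F : Type*} [Field F] [Fintype F] {dat : LieData} (hl : LieChecks D dat)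
    {P P' Q Q' : List (List ℤ)} {d : List ℕ} (h : smithOK D dat P P' Q Q' d = true) :
    (∏ i : Fin D.rank, (Fintype.card F - 1).gcd (nth 0 d i)) * Nat.card (D.diagonalSubgroup F) =
      (Fintype.card F - 1) ^ D.rank := by
  classical
  have hent : ∀ i j : Fin D.rank,
      cartanMat D i j = (listMat D.rank P' * Matrix.diagonal (fun k : Fin D.rank => ((nth 0 d k : ℕ) : ℤ)) *
        listMat D.rank Q') i j ∧
      (listMat D.rank P * listMat D.rank P') i j = (1 : Matrix (Fin D.rank) (Fin D.rank) ℤ) i j ∧
      (listMat D.rank Q' * listMat D.rank Q) i j = (1 : Matrix (Fin D.rank) (Fin D.rank) ℤ) i j := by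
    intro i j
    have h1 := allR_upto (allR_upto h i.2) j.2
    simp only [Bool.and_eq_true, Int.beq'_eq, mulEntry, sumUpto_eq, Finset.sum_range, fdelta_eq]
      at h1
    obtain ⟨⟨hA, hP⟩, hQ⟩ := h1
    refine ⟨?_, ?_, ?_⟩
    · rw [cartanMat, Matrix.of_apply, (hl.simple_facts j.2).1, cartan_eq g.lie.pack i.2
        ((hl.simple_facts j.2).1 ▸ g.simple_lt j.2), hA, Matrix.mul_apply]
      refine Finset.sum_congr rfl fun k _ => ?_
      rw [Matrix.mul_diagonal]
      rfl
    · rw [Matrix.mul_apply, Matrix.one_apply]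
      exact hP.trans (if_congr Fin.ext_iff.symm rfl rfl)
    · rw [Matrix.mul_apply, Matrix.one_apply]
      exact hQ.trans (if_congr Fin.ext_iff.symm rfl rfl)
  have hker : Nat.card (torHom D F).ker = ∏ i : Fin D.rank, (Fintype.card F - 1).gcd (nth 0 d i) := by
    have e : (torHom D F).ker = (powMap (G := Fˣ) (cartanMat D)).ker := by
      ext c; rw [MonoidHom.mem_ker, MonoidHom.mem_ker, g.torHom_eq_one_iff]
    have hA : cartanMat D = listMat D.rank P' *
        Matrix.diagonal (fun k : Fin D.rank => ((nth 0 d k : ℕ) : ℤ)) * listMat D.rank Q' :=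
      Matrix.ext fun i j => (hent i j).1
    have hP : listMat D.rank P * listMat D.rank P' = 1 := Matrix.ext fun i j => (hent i j).2.1
    have hQ : listMat D.rank Q' * listMat D.rank Q = 1 := Matrix.ext fun i j => (hent i j).2.2
    rw [e]
    have hk := @card_ker_powMap Fˣ _ (Fin D.rank) _ _ _ _ (cartanMat D) (listMat D.rank P)
      (listMat D.rank P') (listMat D.rank Q) (listMat D.rank Q') (fun i : Fin D.rank => nth 0 d i)
      hA hP hQ
    rw [Nat.card_units, Nat.card_eq_fintype_card (α := F)] at hk
    exact hk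
  have h2 := Subgroup.card_eq_card_quotient_mul_card_subgroup (torHom D F).ker
  rw [Nat.card_congr (QuotientGroup.quotientKerEquivRange (torHom D F)).toEquiv, ← g.diagonal_eq_range,
    hker] at h2
  rw [mul_comm, ← h2, Nat.card_fun, Nat.card_units, Nat.card_eq_fintype_card,
    Nat.card_eq_fintype_card, Fintype.card_fin]

end Good

end CfsgLib.Chev
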