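import Mathlib

/-!
The map `t ↦ t ^ q` of a finite field and its fixed points.
-/

set_option autoImplicit false

namespace CfsgLib.Chev

variable {K : Type*} [Field K] [Fintype K]

lemma exists_powMap_ringHom {q j : ℕ} (hq : IsPrimePow q) (hK : Fintype.card K = q ^ j) (hj : 0 < j) :
    ∃ φ : K →+* K, ∀ t, φ t = t ^ q := by
  obtain ⟨p, n, hp, hn, rfl⟩ := hq
  rw [← Nat.prime_iff] at hp
  obtain ⟨c, hc⟩ := CharP.exists K
  obtain ⟨m, hcp, hm⟩ := FiniteField.card K c
  have hdvd : c ∣ (p ^ n) ^ j := by rw [← hK, hm]; exact dvd_pow_self _ m.ne_zero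
  obtain rfl : c = p := (Nat.prime_dvd_prime_iff_eq hcp hp).1 (hcp.dvd_of_dvd_pow (hcp.dvd_of_dvd_pow hdvd))
  haveI := Fact.mk hcp
  exact ⟨iterateFrobenius K c n, fun t => iterateFrobenius_def c n t⟩

/-- The fixed points of `t ↦ t ^ q`. -/
theorem card_pow_eq_self {q j : ℕ} (hq : 1 < q) (hK : Fintype.card K = q ^ j) :
    Nat.card {c : K // c ^ q = c} = q := by
  classical
  have hdvd : q - 1 ∣ q ^ j - 1 := by
    simpa using Nat.sub_dvd_pow_sub_pow q 1 j
  let G := (powMonoidHom (q - 1) : Kˣ →* Kˣ).ker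
  have hG : Nat.card G = q - 1 := by
    rw [IsCyclic.card_powMonoidHom_ker, Nat.card_units, Nat.card_eq_fintype_card, hK]
    exact Nat.gcd_eq_right hdvd
  let e : Option G → {c : K // c ^ q = c} := fun o =>
    match o with
    | none => ⟨0, zero_pow (by omega)⟩
    | some u => ⟨(u.1 : K), by
        have h := congrArg Units.val (MonoidHom.mem_ker.1 u.2)
        simp only [powMonoidHom_apply, Units.val_pow_eq_pow_val, Units.val_one] at h
        rw [show q = q - 1 + 1 by omega, pow_succ, h, one_mul]⟩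
  have hbij : Function.Bijective e := by
    refine ⟨?_, fun c => ?_⟩
    · rintro (_ | a) (_ | b) h
      · rfl
      · exact absurd (congrArg Subtype.val h).symm b.1.ne_zero
      · exact absurd (congrArg Subtype.val h) a.1.ne_zero
      · exact congrArg some (Subtype.ext (Units.ext (congrArg Subtype.val h :)))
    · by_cases h0 : c.1 = 0
      · exact ⟨none, Subtype.ext h0.symm⟩
      · refine ⟨some ⟨Units.mk0 c.1 h0, MonoidHom.mem_ker.2 (Units.ext ?_)⟩, Subtype.ext rfl⟩
        have h : c.1 ^ (q - 1 + 1) = c.1 := by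
          rw [show q - 1 + 1 = q by omega]; exact c.2
        rw [pow_succ] at h
        simp only [powMonoidHom_apply, Units.val_pow_eq_pow_val, Units.val_mk0, Units.val_one]
        exact mul_right_cancel₀ h0 (h.trans (one_mul c.1).symm)
  rw [← Nat.card_eq_of_bijective e hbij, Finite.card_option, hG]
  omega

end CfsgLib.Chev
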