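import Cfsg.Agent.Lib.Chev.CheckB2
import Cfsg.Agent.Lib.Chev.StructCheck

/-!
Root system tables for type B2.
-/

set_option autoImplicit false
set_option maxRecDepth 100000

namespace CfsgLib.Chev

open Cfsg.Lie

/-- Root system tables for type B2. -/
def sdataB2 : StructData where
  refl := [
  [3, 1, 5, 0, 7, 2, 6, 4],
  [0, 2, 1, 4, 3, 6, 5, 7]]
  orb := [
  (2, 0, 5), (6, 1, 5), (7, 0, 4), (3, 1, 4), (1, 1, 2), (0, 0, 3)]

theorem structChecksB2 : StructChecks chevB2 dataB2 sdataB2 where
  coord := by decide +kernel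
  linear := by decide +kernel
  reflT := by decide +kernel
  nmat := by decide +kernel
  orbit := by decide +kernel

end CfsgLib.Chev
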