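import Cfsg.Agent.Lib.Chev.CheckD4
import Cfsg.Agent.Lib.Chev.StructCheck

/-!
Root system tables for type D4.
-/

set_option autoImplicit false
set_option maxRecDepth 100000

namespace CfsgLib.Chev

open Cfsg.Lie

/-- Root system tables for type D4. -/
def sdataD4 : StructData where
  refl := [
  [0, 6, 7, 8, 9, 18, 1, 2, 3, 4, 10, 11, 12, 13, 19, 20, 21, 22, 5, 14, 15, 16, 17, 23],
  [1, 0, 2, 3, 5, 4, 6, 10, 11, 14, 7, 8, 15, 16, 9, 12, 13, 17, 19, 18, 20, 21, 23, 22],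
  [0, 3, 4, 1, 2, 5, 8, 9, 6, 7, 13, 11, 12, 10, 16, 17, 14, 15, 18, 21, 22, 19, 20, 23],
  [0, 2, 1, 4, 3, 5, 7, 6, 9, 8, 10, 12, 11, 13, 15, 14, 17, 16, 18, 20, 19, 22, 21, 23]]
  orb := [
  (5, 0, 18), (19, 1, 18), (9, 1, 14), (16, 2, 14), (15, 3, 14), (10, 2, 13), (11, 3, 12), (4, 1, 5),
  (21, 2, 19), (20, 3, 19), (7, 2, 9), (8, 3, 9), (17, 3, 16), (2, 2, 4), (3, 3, 4), (22, 3, 21),
  (6, 3, 7), (1, 3, 2), (23, 1, 22), (0, 1, 1)]

theorem structChecksD4 : StructChecks chevD4 dataD4 sdataD4 where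
  coord := by decide +kernel
  linear := by decide +kernel
  reflT := by decide +kernel
  nmat := by decide +kernel
  orbit := by decide +kernel

end CfsgLib.Chev
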