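import Cfsg.Agent.Lib.Chev.CheckE6
import Cfsg.Agent.Lib.Chev.StructCheck

/-!
Root system tables for type E6.
-/

set_option autoImplicit false
set_option maxRecDepth 100000

namespace CfsgLib.Chev

open Cfsg.Lie

/-- Root system tables for type E6. -/
def sdataE6 : StructData where
  refl := [
  [0, 1, 2, 3, 4, 16, 17, 18, 19, 20, 21, 26, 27, 28, 29, 56, 5, 6, 7, 8, 9, 10, 22, 23, 24, 25, 11, 12, 13, 14, 30, 31, 32, 33, 34, 35, 36, 37, 38, 39, 40, 41, 57, 58, 59, 60, 46, 47, 48, 49, 61, 62, 63, 64, 65, 66, 15, 42, 43, 44, 45, 50, 51, 52, 53, 54, 55, 67, 68, 69, 70, 71],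
  [1, 0, 2, 3, 4, 5, 6, 7, 11, 12, 13, 8, 9, 10, 14, 15, 16, 17, 18, 26, 27, 28, 30, 31, 32, 46, 19, 20, 21, 29, 22, 23, 24, 33, 34, 35, 36, 37, 38, 47, 48, 49, 42, 50, 51, 52, 25, 39, 40, 41, 43, 44, 45, 53, 54, 55, 56, 57, 61, 62, 63, 58, 59, 60, 64, 65, 66, 67, 68, 69, 71, 70],
  [0, 1, 5, 6, 7, 2, 3, 4, 8, 9, 10, 11, 12, 13, 15, 14, 16, 17, 18, 22, 23, 24, 19, 20, 21, 25, 30, 31, 32, 42, 26, 27, 28, 33, 34, 35, 36, 37, 38, 43, 44, 45, 29, 39, 40, 41, 46, 50, 51, 52, 47, 48, 49, 53, 54, 55, 57, 56, 58, 59, 60, 61, 62, 63, 67, 68, 69, 64, 65, 66, 70, 71],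
  [0, 2, 1, 3, 4, 5, 8, 9, 6, 7, 10, 11, 12, 14, 13, 15, 16, 19, 20, 17, 18, 21, 22, 23, 25, 24, 26, 27, 29, 28, 33, 34, 39, 30, 31, 35, 36, 40, 41, 32, 37, 38, 43, 42, 44, 45, 47, 46, 48, 49, 50, 53, 54, 51, 52, 55, 56, 58, 57, 59, 60, 61, 64, 65, 62, 63, 66, 67, 68, 70, 69, 71],
  [0, 1, 3, 2, 4, 6, 5, 7, 8, 10, 9, 11, 13, 12, 14, 15, 17, 16, 18, 19, 21, 20, 22, 24, 23, 25, 26, 28, 27, 29, 30, 32, 31, 35, 37, 33, 38, 34, 36, 40, 39, 41, 42, 44, 43, 45, 46, 48, 47, 49, 51, 50, 52, 53, 55, 54, 56, 57, 59, 58, 60, 62, 61, 63, 64, 66, 65, 67, 69, 68, 70, 71],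
  [0, 1, 2, 4, 3, 5, 7, 6, 9, 8, 10, 12, 11, 13, 14, 15, 16, 18, 17, 20, 19, 21, 23, 22, 24, 25, 27, 26, 28, 29, 31, 30, 32, 34, 33, 36, 35, 38, 37, 39, 41, 40, 42, 43, 45, 44, 46, 47, 49, 48, 50, 52, 51, 54, 53, 55, 56, 57, 58, 60, 59, 61, 63, 62, 65, 64, 66, 68, 67, 69, 70, 71]]
  orb := [
  (15, 0, 56), (57, 2, 56), (25, 1, 46), (47, 3, 46), (29, 2, 42), (43, 3, 42), (32, 3, 39), (40, 4, 39),
  (34, 4, 37), (38, 5, 37), (35, 5, 36), (14, 2, 15), (58, 3, 57), (24, 3, 25), (50, 2, 47), (48, 4, 47),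
  (28, 3, 29), (44, 4, 43), (31, 4, 32), (41, 5, 40), (33, 5, 34), (13, 3, 14), (61, 1, 58), (59, 4, 58),
  (21, 2, 24), (23, 4, 24), (51, 4, 50), (49, 5, 48), (27, 4, 28), (45, 5, 44), (30, 5, 31), (10, 1, 13),
  (12, 4, 13), (62, 4, 61), (60, 5, 59), (20, 4, 21), (22, 5, 23), (53, 3, 51), (52, 5, 51), (26, 5, 27),
  (9, 4, 10), (11, 5, 12), (64, 3, 62), (63, 5, 62), (18, 3, 20), (19, 5, 20), (54, 5, 53), (7, 3, 9),
  (8, 5, 9), (67, 2, 64), (65, 5, 64), (17, 5, 18), (55, 4, 54), (4, 2, 7), (6, 5, 7), (68, 5, 67),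
  (66, 4, 65), (16, 4, 17), (3, 5, 4), (5, 4, 6), (69, 4, 68), (2, 4, 3), (70, 3, 69), (1, 3, 2),
  (71, 1, 70), (0, 1, 1)]

theorem structChecksE6 : StructChecks chevE6 dataE6 sdataE6 where
  coord := by decide +kernel
  linear := by decide +kernel
  reflT := by decide +kernel
  nmat := by decide +kernel
  orbit := by decide +kernel

end CfsgLib.Chev
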