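import Cfsg.Agent.Lib.Chev.CheckF4
import Cfsg.Agent.Lib.Chev.StructCheck

/-!
Root system tables for type F4.
-/

set_option autoImplicit false
set_option maxRecDepth 100000

namespace CfsgLib.Chev

open Cfsg.Lie

/-- Root system tables for type F4. -/
def sdataF4 : StructData where
  refl := [
  [0, 1, 2, 7, 15, 16, 17, 3, 8, 9, 10, 18, 19, 20, 33, 4, 5, 6, 11, 12, 13, 21, 22, 23, 24, 25, 26, 34, 35, 36, 41, 42, 43, 14, 27, 28, 29, 37, 38, 39, 44, 30, 31, 32, 40, 45, 46, 47],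
  [0, 1, 4, 3, 2, 5, 6, 8, 7, 11, 12, 9, 10, 14, 13, 15, 21, 22, 18, 19, 27, 16, 17, 23, 24, 30, 31, 20, 28, 29, 25, 26, 32, 34, 33, 37, 38, 35, 36, 40, 39, 41, 42, 45, 44, 43, 46, 47],
  [0, 2, 1, 3, 5, 4, 6, 7, 9, 8, 10, 11, 13, 12, 14, 16, 15, 17, 18, 20, 19, 23, 25, 21, 26, 22, 24, 28, 27, 29, 30, 32, 31, 33, 35, 34, 36, 37, 39, 38, 40, 41, 43, 42, 44, 46, 45, 47],
  [1, 0, 2, 3, 4, 6, 5, 7, 8, 10, 9, 12, 11, 13, 14, 15, 17, 16, 19, 18, 20, 22, 21, 24, 23, 26, 25, 27, 29, 28, 31, 30, 32, 33, 34, 36, 35, 38, 37, 39, 40, 42, 41, 43, 44, 45, 47, 46]]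
  orb := [
  (14, 0, 33), (34, 1, 33), (20, 1, 27), (28, 2, 27), (30, 1, 25), (22, 2, 25), (26, 3, 25), (23, 3, 24),
  (13, 1, 14), (35, 2, 34), (19, 2, 20), (29, 3, 28), (41, 0, 30), (31, 3, 30), (17, 1, 22), (21, 3, 22),
  (12, 2, 13), (37, 1, 35), (36, 3, 35), (18, 3, 19), (42, 3, 41), (32, 2, 31), (6, 0, 17), (16, 3, 17),
  (10, 1, 12), (11, 3, 12), (38, 3, 37), (43, 2, 42), (5, 3, 6), (15, 2, 16), (9, 3, 10), (39, 2, 38),
  (45, 1, 43), (4, 2, 5), (8, 2, 9), (40, 1, 39), (46, 2, 45), (2, 1, 4), (7, 1, 8), (44, 0, 40),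
  (47, 3, 46), (1, 2, 2), (3, 0, 7), (0, 3, 1)]

theorem structChecksF4 : StructChecks chevF4 dataF4 sdataF4 where
  coord := by decide +kernel
  linear := by decide +kernel
  reflT := by decide +kernel
  nmat := by decide +kernel
  orbit := by decide +kernel

end CfsgLib.Chev
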