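import Cfsg.Agent.Lib.Chev.CheckG2
import Cfsg.Agent.Lib.Chev.StructCheck

/-!
Root system tables for type G2.
-/

set_option autoImplicit false
set_option maxRecDepth 100000

namespace CfsgLib.Chev

open Cfsg.Lie

/-- Root system tables for type G2. -/
def sdataG2 : StructData where
  refl := [
  [0, 5, 3, 2, 7, 1, 10, 4, 9, 8, 6, 11],
  [1, 0, 2, 4, 3, 6, 5, 8, 7, 9, 11, 10]]
  orb := [
  (4, 0, 7), (8, 1, 7), (10, 0, 6), (5, 1, 6), (3, 1, 4), (9, 0, 8), (11, 1, 10), (1, 0, 5),
  (2, 0, 3), (0, 1, 1)]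

theorem structChecksG2 : StructChecks chevG2 dataG2 sdataG2 where
  coord := by decide +kernel
  linear := by decide +kernel
  reflT := by decide +kernel
  nmat := by decide +kernel
  orbit := by decide +kernel

end CfsgLib.Chev
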