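import Cfsg.Agent.Lib.Chev.Bridge
import Cfsg.Agent.Lib.Chev.StructB2
import Cfsg.Agent.Lib.Chev.StructD4
import Cfsg.Agent.Lib.Chev.StructE6
import Cfsg.Agent.Lib.Chev.StructE7
import Cfsg.Agent.Lib.Chev.StructE8
import Cfsg.Agent.Lib.Chev.StructF4
import Cfsg.Agent.Lib.Chev.StructG2

/-!
The seven data G2, B2, D4, F4, E6, E7, E8 pass all checks.
-/

set_option autoImplicit false
set_option maxRecDepth 100000

namespace CfsgLib.Chev

open Cfsg.Lie

theorem goodG2 : Good chevG2 :=
  ⟨dataG2, sdataG2, checksG2, structChecksG2, by decide +kernel⟩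

theorem goodB2 : Good chevB2 :=
  ⟨dataB2, sdataB2, checksB2, structChecksB2, by decide +kernel⟩

theorem goodD4 : Good chevD4 :=
  ⟨dataD4, sdataD4, checksD4, structChecksD4, by decide +kernel⟩

theorem goodF4 : Good chevF4 :=
  ⟨dataF4, sdataF4, checksF4, structChecksF4, by decide +kernel⟩

theorem goodE6 : Good chevE6 :=
  ⟨dataE6, sdataE6, checksE6, structChecksE6, by decide +kernel⟩

theorem goodE7 : Good chevE7 :=
  ⟨dataE7, sdataE7, checksE7, structChecksE7, by decide +kernel⟩

theorem goodE8 : Good chevE8 :=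
  ⟨dataE8, sdataE8, checksE8, structChecksE8, by decide +kernel⟩

theorem good_of_mem {D : ChevalleyDatum}
    (hD : D ∈ [chevG2, chevB2, chevD4, chevF4, chevE6, chevE7, chevE8]) : Good D := by
  simp only [List.mem_cons, List.not_mem_nil, or_false] at hD
  rcases hD with rfl | rfl | rfl | rfl | rfl | rfl | rfl
  exacts [goodG2, goodB2, goodD4, goodF4, goodE6, goodE7, goodE8]

end CfsgLib.Chev
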