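import Cfsg.Agent.Lib.Chev.SigmaSigned
import Cfsg.Agent.Lib.Chev.Good
import Cfsg.Agent.Lib.Chev.CommGood

/-!
The graph symmetries of E6 and D4 and their endomorphisms.
-/

set_option autoImplicit false
set_option maxRecDepth 100000

namespace CfsgLib.Chev

open Cfsg.Lie

/-- The symmetry [5, 1, 4, 3, 2, 0] of E6. -/
def rhoE6 : RhoData :=
  ⟨[0, 1, 2, 5, 16, 3, 6, 17, 8, 19, 22, 11, 26, 30, 33, 35, 4, 7, 18, 9, 20, 23, 10, 21, 24, 25, 12, 27, 31, 34, 13, 28, 32, 14, 29, 15, 56, 42, 57, 39, 43, 58, 37, 40, 44, 59, 46, 47, 50, 61, 48, 51, 62, 53, 64, 67, 36, 38, 41, 45, 60, 49, 52, 63, 54, 65, 68, 55, 66, 69, 70, 71], [0, 1, 2, 5, 16, 3, 6, 17, 8, 19, 22, 11, 26, 30, 33, 35, 4, 7, 18, 9, 20, 23, 10, 21, 24, 25, 12, 27, 31, 34, 13, 28, 32, 14, 29, 15, 56, 42, 57, 39, 43, 58, 37, 40, 44, 59, 46, 47, 50, 61, 48, 51, 62, 53, 64, 67, 36, 38, 41, 45, 60, 49, 52, 63, 54, 65, 68, 55, 66, 69,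 70, 71],
    [5, 1, 4, 3, 2, 0], [5, 1, 4, 3, 2, 0]⟩

/-- Its signs. -/
def rhoE6Sign : List ℤ := [1, 1, 1, 1, -1, 1, 1, -1, 1, -1, -1, 1, -1, 1, -1, 1, -1, -1, 1, -1, 1, 1, -1, 1, 1, 1, -1, 1, -1, 1, 1, -1, 1, -1, 1, 1, 1, 1, -1, 1, -1, 1, 1, -1, 1, -1, 1, 1, 1, -1, 1, 1, -1, 1, -1, -1, 1, -1, 1, -1, 1, -1, -1, 1, -1, 1, 1, -1, 1, 1, 1, 1]

theorem rhoE6_ok : rhoOK chevE6 dataE6 sdataE6 rhoE6 = true := by decide +kernel

theorem rhoE6_signed : signedOK chevE6 rhoE6 rhoE6Sign = true := by decide +kernel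

/-- The endomorphism with field map `φ`. -/
theorem exists_twist_rhoE6 {F : Type*} [Field F] [Finite F] (φ : F →+* F) :
    ∃ T : Twist goodE6 F,
      T.ρ = (rootSymOf goodE6 checksE6 structChecksE6 rhoE6_ok).ρ ∧
      T.pi = (rootSymOf goodE6 checksE6 structChecksE6 rhoE6_ok).pi ∧
      ∀ s t, T.f s t = (nth 1 rhoE6Sign s : F) * φ t :=
  exists_signed_twist goodE6 checksE6 structChecksE6 rhoE6_ok rhoE6_signed φ

/-- The symmetry [2, 1, 3, 0] of D4. -/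
def rhoD4 : RhoData :=
  ⟨[0, 1, 6, 2, 7, 10, 3, 8, 4, 9, 11, 5, 18, 12, 14, 19, 15, 20, 13, 16, 21, 17, 22, 23], [0, 1, 3, 6, 8, 11, 2, 4, 7, 9, 5, 10, 13, 18, 14, 16, 19, 21, 12, 15, 17, 20, 22, 23],
    [2, 1, 3, 0], [3, 1, 0, 2]⟩

/-- Its signs. -/
def rhoD4Sign : List ℤ := [1, 1, -1, 1, -1, 1, -1, 1, -1, 1, 1, 1, 1, 1, 1, -1, 1, -1, 1, -1, 1, -1, 1, 1]

theorem rhoD4_ok : rhoOK chevD4 dataD4 sdataD4 rhoD4 = true := by decide +kernel

theorem rhoD4_signed : signedOK chevD4 rhoD4 rhoD4Sign = true := by decide +kernel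

/-- The endomorphism with field map `φ`. -/
theorem exists_twist_rhoD4 {F : Type*} [Field F] [Finite F] (φ : F →+* F) :
    ∃ T : Twist goodD4 F,
      T.ρ = (rootSymOf goodD4 checksD4 structChecksD4 rhoD4_ok).ρ ∧
      T.pi = (rootSymOf goodD4 checksD4 structChecksD4 rhoD4_ok).pi ∧
      ∀ s t, T.f s t = (nth 1 rhoD4Sign s : F) * φ t :=
  exists_signed_twist goodD4 checksD4 structChecksD4 rhoD4_ok rhoD4_signed φ

/-- The symmetry [3, 1, 0, 2] of D4. -/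
def rhoD4b : RhoData :=
  ⟨[0, 1, 3, 6, 8, 11, 2, 4, 7, 9, 5, 10, 13, 18, 14, 16, 19, 21, 12, 15, 17, 20, 22, 23], [0, 1, 6, 2, 7, 10, 3, 8, 4, 9, 11, 5, 18, 12, 14, 19, 15, 20, 13, 16, 21, 17, 22, 23],
    [3, 1, 0, 2], [2, 1, 3, 0]⟩

/-- Its signs. -/
def rhoD4bSign : List ℤ := [1, 1, 1, -1, -1, 1, -1, -1, 1, 1, 1, 1, 1, 1, 1, 1, -1, -1, 1, -1, -1, 1, 1, 1]

theorem rhoD4b_ok : rhoOK chevD4 dataD4 sdataD4 rhoD4b = true := by decide +kernel

theorem rhoD4b_signed : signedOK chevD4 rhoD4b rhoD4bSign = true := by decide +kernel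

/-- The endomorphism with field map `φ`. -/
theorem exists_twist_rhoD4b {F : Type*} [Field F] [Finite F] (φ : F →+* F) :
    ∃ T : Twist goodD4 F,
      T.ρ = (rootSymOf goodD4 checksD4 structChecksD4 rhoD4b_ok).ρ ∧
      T.pi = (rootSymOf goodD4 checksD4 structChecksD4 rhoD4b_ok).pi ∧
      ∀ s t, T.f s t = (nth 1 rhoD4bSign s : F) * φ t :=
  exists_signed_twist goodD4 checksD4 structChecksD4 rhoD4b_ok rhoD4b_signed φ

/-- A graph automorphism. -/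
theorem exists_graph_aut {D : ChevalleyDatum} (g : Good D) {F : Type*} [Field F] {dat : LieData}
    {sd : StructData} {R : RhoData} {ε : List ℤ} (hl : LieChecks D dat)
    (hs : StructChecks D dat sd) (hR : rhoOK D dat sd R = true)
    (hε : signedOK D R ε = true)
    (h1 : allR (fun i => Int.beq' (nth 1 ε (fsimple dat i)) 1) (upto D.rank) = true) :
    ∃ α : ↥(D.group F) ≃* ↥(D.group F), ∀ (x : ↥(D.group F)) (i : ℕ) (t : F), i < D.rank →
      (((x : GL D.Idx F) : Matrix D.Idx D.Idx F) = D.x F (D.simple i) t →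
        ((α x : GL D.Idx F) : Matrix D.Idx D.Idx F) = D.x F (D.simple (R.pi.getD i 0)) t) ∧
      (((x : GL D.Idx F) : Matrix D.Idx D.Idx F) = D.x F (D.neg (D.simple i)) t →
        ((α x : GL D.Idx F) : Matrix D.Idx D.Idx F) =
          D.x F (D.neg (D.simple (R.pi.getD i 0))) t) := by
  obtain ⟨σ, hσi, hσ⟩ := exists_signed_hom g hl hs hR hε (RingHom.id F)
  set ρ := (rootSymOf g hl hs hR).ρ
  have hsurj : Function.Surjective σ := by
    have hle : D.group F ≤ σ.range.map (D.group F).subtype := g.group_le fun r hr t => by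
      obtain ⟨a, ha⟩ := ρ.surjective ⟨r, hr⟩
      refine ⟨σ ⟨g.xG a ((nth 1 ε a : F) * t), g.xG_mem_group a.2 _⟩, ⟨_, rfl⟩, ?_⟩
      show (σ _ : GL D.Idx F) = _
      rw [hσ, ha, RingHom.id_apply, ← mul_assoc, eps_sq hε a.2, one_mul]
    intro y
    obtain ⟨z, ⟨w, hw⟩, hz⟩ := hle y.2
    exact ⟨w, hw.trans (Subtype.ext hz)⟩
  refine ⟨MulEquiv.ofBijective σ ⟨hσi, hsurj⟩, fun x i t hi => ?_⟩
  have hpi : R.pi.getD i 0 = nth 0 R.pi i := (nth_eq 0 R.pi i).symm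
  have hs' : (ρ ⟨D.simple i, g.simple_lt hi⟩ : ℕ) = D.simple (R.pi.getD i 0) := by
    have := (rootSymOf g hl hs hR).ρ_sroot ⟨i, hi⟩
    rw [hpi]
    exact congrArg Fin.val this
  have he : nth 1 ε (D.simple i) = 1 := by
    have := allR_upto h1 hi
    rw [Int.beq'_eq] at this
    rwa [(hl.simple_facts hi).1]
  constructor <;> intro hx
  · have hx' : x = ⟨g.xG (D.simple i) t, g.xG_mem_group (g.simple_lt hi) t⟩ :=
      Subtype.ext (Units.ext (hx.trans (g.coe_xG _ _).symm))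
    show ((σ x : GL D.Idx F) : Matrix D.Idx D.Idx F) = _
    rw [hx', hσ ⟨D.simple i, g.simple_lt hi⟩, hs', he, Int.cast_one, one_mul, RingHom.id_apply,
      g.coe_xG]
  · have hn := g.neg_lt (g.simple_lt hi)
    have hx' : x = ⟨g.xG (D.neg (D.simple i)) t, g.xG_mem_group hn t⟩ :=
      Subtype.ext (Units.ext (hx.trans (g.coe_xG _ _).symm))
    have e2 : (ρ ⟨D.neg (D.simple i), hn⟩ : ℕ) = D.neg (D.simple (R.pi.getD i 0)) := by
      rw [show (⟨D.neg (D.simple i), hn⟩ : Fin D.nroots) = g.nroot ⟨D.simple i, g.simple_lt hi⟩ from rfl,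
        (rootSymOf g hl hs hR).ρ_nroot, ← hs']
      rfl
    show ((σ x : GL D.Idx F) : Matrix D.Idx D.Idx F) = _
    rw [hx', hσ ⟨D.neg (D.simple i), hn⟩, e2, show nth 1 ε (D.neg (D.simple i)) = 1 by
      rw [neg_eq g.lie.pack (g.simple_lt hi), eps_neg hε (g.simple_lt hi), he],
      Int.cast_one, one_mul, RingHom.id_apply, g.coe_xG]

end CfsgLib.Chev
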