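import Mathlib
import Cfsg.Agent.Lib.Chev.Bruhat

/-!
Endomorphisms of a Chevalley group permuting the root subgroups by a diagram symmetry.
-/

set_option autoImplicit false
set_option maxHeartbeats 400000

namespace CfsgLib.Chev

open Cfsg.Lie Matrix

variable {D : ChevalleyDatum} {F : Type*} [Field F]

/-- An endomorphism `σ` with `σ (x_r(t)) = x_{ρ r}(f_r t)`, `ρ` a symmetry of the positive system. -/
structure Twist (g : Good D) (F : Type*) [Field F] where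
  /-- the permutation of the roots -/
  ρ : Equiv.Perm (Fin D.nroots)
  /-- the permutation of the fundamental roots -/
  pi : Equiv.Perm (Fin D.rank)
  /-- the maps of the parameters -/
  f : Fin D.nroots → F → F
  /-- the endomorphism -/
  σ : ↥(D.group F) →* ↥(D.group F)
  ρ_nroot : ∀ a, ρ (g.nroot a) = g.nroot (ρ a)
  ρ_pos : ∀ a : Fin D.nroots, half D ≤ a.val → half D ≤ (ρ a).val
  ρ_sroot : ∀ i, ρ (g.sroot i) = g.sroot (pi i)
  ρ_rperm : ∀ i, ρ * g.rperm i = g.rperm (pi i) * ρ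
  f_surj : ∀ s, Function.Surjective (f s)
  f_zero : ∀ s, f s 0 = 0
  f_neg_inv : ∀ (s : Fin D.nroots) (t : F), t ≠ 0 → f (g.nroot s) (-t⁻¹) = -(f s t)⁻¹
  inj : Function.Injective σ
  σ_x : ∀ (s : Fin D.nroots) (t : F),
    (σ ⟨g.xG s t, g.xG_mem_group s.2 t⟩ : GL D.Idx F) = g.xG (ρ s) (f s t)

namespace Twist

variable {g : Good D} (T : Twist g F)

lemma ρ_neg_of_neg {a : Fin D.nroots} (ha : a.val < half D) : (T.ρ a).val < half D := by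
  rw [← g.nroot_pos_iff] at ha ⊢
  rw [← T.ρ_nroot]
  exact T.ρ_pos _ ha

lemma ρ_pos_iff (a : Fin D.nroots) : half D ≤ (T.ρ a).val ↔ half D ≤ a.val := by
  refine ⟨fun h => ?_, T.ρ_pos a⟩
  by_contra hc
  have := T.ρ_neg_of_neg (Nat.not_le.1 hc)
  omega

/-- `ρ` normalises the Weyl group. -/
lemma ρ_conj_mem {w : Equiv.Perm (Fin D.nroots)} (hw : w ∈ g.weyl) :
    T.ρ * w * T.ρ⁻¹ ∈ g.weyl := by
  induction hw using Subgroup.closure_induction with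
  | mem x hx =>
    obtain ⟨i, rfl⟩ := hx
    rw [T.ρ_rperm, mul_inv_cancel_right]
    exact (g.wS _).2
  | one => simp
  | mul x y _ _ hx hy =>
    rw [show T.ρ * (x * y) * T.ρ⁻¹ = (T.ρ * x * T.ρ⁻¹) * (T.ρ * y * T.ρ⁻¹) by group]
    exact mul_mem hx hy
  | inv x _ hx =>
    rw [show T.ρ * x⁻¹ * T.ρ⁻¹ = (T.ρ * x * T.ρ⁻¹)⁻¹ by group]
    exact inv_mem hx

/-- Preservation of subgroups, from generators. -/
lemma map_mem_of_closure {S : Set (GL D.Idx F)} {K : Subgroup (GL D.Idx F)}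
    (hS : ∀ x ∈ S, ∃ h : x ∈ D.group F, (T.σ ⟨x, h⟩ : GL D.Idx F) ∈ K) {x : ↥(D.group F)}
    (hx : (x : GL D.Idx F) ∈ Subgroup.closure S) : (T.σ x : GL D.Idx F) ∈ K := by
  have hle : Subgroup.closure S ≤
      ((K.comap ((D.group F).subtype.comp T.σ)).map (D.group F).subtype) :=
    (Subgroup.closure_le _).2 fun y hy => by
      obtain ⟨h, h'⟩ := hS y hy
      exact ⟨⟨y, h⟩, h', rfl⟩
  obtain ⟨y, hy, hxy⟩ := hle hx
  obtain rfl : y = x := Subtype.ext hxy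
  exact hy

lemma σ_xG {r : ℕ} (hr : r < D.nroots) (t : F) (h : g.xG r t ∈ D.group F) :
    (T.σ ⟨g.xG r t, h⟩ : GL D.Idx F) = g.xG (T.ρ ⟨r, hr⟩) (T.f ⟨r, hr⟩ t) := T.σ_x ⟨r, hr⟩ t

lemma σ_rootGen {S S' : Set ℕ} (hS : ∀ r : Fin D.nroots, (r : ℕ) ∈ S → (T.ρ r : ℕ) ∈ S')
    {x : ↥(D.group F)} (hx : (x : GL D.Idx F) ∈ rootGen D F S) :
    (T.σ x : GL D.Idx F) ∈ rootGen D F S' := by
  refine T.map_mem_of_closure ?_ hx
  rintro y ⟨r, t, hr, hrn, hy⟩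
  rw [g.eq_xG hy]
  refine ⟨g.xG_mem_group hrn t, ?_⟩
  rw [T.σ_xG hrn]
  exact g.mem_rootGen (Fin.isLt _) (hS ⟨r, hrn⟩ hr) _

lemma σ_pos {x : ↥(D.group F)} (hx : (x : GL D.Idx F) ∈ D.posUnipotent F) :
    (T.σ x : GL D.Idx F) ∈ D.posUnipotent F := by
  rw [g.posUnipotent_eq] at hx ⊢
  exact T.σ_rootGen (fun r hr => T.ρ_pos r hr) hx

lemma σ_neg {x : ↥(D.group F)} (hx : (x : GL D.Idx F) ∈ D.negUnipotent F) :
    (T.σ x : GL D.Idx F) ∈ D.negUnipotent F := by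
  rw [g.negUnipotent_eq] at hx ⊢
  exact T.σ_rootGen (fun r hr => T.ρ_neg_of_neg hr) hx

lemma σ_nG {r : ℕ} (hr : r < D.nroots) (t : Fˣ) (h : g.nG r t ∈ D.group F) :
    ∃ u : Fˣ, (u : F) = T.f ⟨r, hr⟩ t ∧
      (T.σ ⟨g.nG r t, h⟩ : GL D.Idx F) = g.nG (T.ρ ⟨r, hr⟩) u := by
  have hne : T.f ⟨r, hr⟩ (t : F) ≠ 0 := by
    intro h0
    have h1 := T.σ_xG hr (t : F) (g.xG_mem_group hr _)
    rw [h0, g.xG_zero] at h1
    have h2 : (⟨g.xG r (t : F), g.xG_mem_group hr _⟩ : ↥(D.group F)) = 1 :=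
      T.inj (Subtype.ext (h1.trans (congrArg Subtype.val (map_one T.σ)).symm))
    exact t.ne_zero ((g.x_eq_one_iff hr _).1 (congrArg Units.val (congrArg Subtype.val h2)))
  refine ⟨Units.mk0 _ hne, rfl, ?_⟩
  have e : (⟨g.nG r t, h⟩ : ↥(D.group F)) = ⟨g.xG r (t : F), g.xG_mem_group hr _⟩ *
      ⟨g.xG (D.neg r) (-((t⁻¹ : Fˣ) : F)), g.xG_mem_group (g.neg_lt hr) _⟩ *
      ⟨g.xG r (t : F), g.xG_mem_group hr _⟩ := Subtype.ext rfl
  rw [e, map_mul, map_mul, Subgroup.coe_mul, Subgroup.coe_mul, T.σ_xG hr, T.σ_xG (g.neg_lt hr)]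
  rw [show (⟨D.neg r, g.neg_lt hr⟩ : Fin D.nroots) = g.nroot ⟨r, hr⟩ from rfl, T.ρ_nroot,
    Units.val_inv_eq_inv_val, T.f_neg_inv _ _ t.ne_zero, Good.nG]
  simp only [Units.val_inv_eq_inv_val, Units.val_mk0]
  rfl

lemma nG_mem_monomial {r : ℕ} (hr : r < D.nroots) (t : Fˣ) :
    g.nG r t ∈ D.monomialSubgroup F := by
  rw [g.nG_eq_hG_mul hr]
  exact mul_mem (Subgroup.mem_sup_left (g.hG_mem hr t)) (g.nG_mem hr)

lemma σ_diag {x : ↥(D.group F)} (hx : (x : GL D.Idx F) ∈ D.diagonalSubgroup F) :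
    (T.σ x : GL D.Idx F) ∈ D.diagonalSubgroup F := by
  refine T.map_mem_of_closure ?_ hx
  rintro y ⟨r, t, hr, ht, hy⟩
  have hy' : y = g.hG r (Units.mk0 t ht) := Units.ext (by rw [g.coe_hG hr, hy]; rfl)
  have hn : ∀ u : Fˣ, g.nG r u ∈ D.group F := fun u => g.monomial_le_group (nG_mem_monomial hr u)
  subst hy'
  refine ⟨g.diagonal_le_group (g.hG_mem hr _), ?_⟩
  have e : (⟨g.hG r (Units.mk0 t ht), g.diagonal_le_group (g.hG_mem hr _)⟩ : ↥(D.group F)) =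
      ⟨g.nG r (Units.mk0 t ht), hn _⟩ * ⟨g.nG r (-1), hn _⟩ := Subtype.ext (g.hG_eq hr _)
  obtain ⟨a, -, ha⟩ := T.σ_nG hr _ (hn (Units.mk0 t ht))
  obtain ⟨b, -, hb⟩ := T.σ_nG hr _ (hn (-1))
  rw [e, map_mul, Subgroup.coe_mul, ha, hb]
  set s : ℕ := ((T.ρ ⟨r, hr⟩ : Fin D.nroots) : ℕ)
  have hs : s < D.nroots := Fin.isLt _
  have hb' : g.nG s b = g.nG s (-(-b)) := by rw [neg_neg]
  rw [hb', ← g.nG_inv hs, g.nG_eq_hG_mul hs a, g.nG_eq_hG_mul hs (-b), _root_.mul_inv_rev,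
    mul_assoc, mul_inv_cancel_left]
  exact mul_mem (g.hG_mem hs _) (inv_mem (g.hG_mem hs _))

lemma σ_borel {x : ↥(D.group F)} (hx : (x : GL D.Idx F) ∈ D.borelSubgroup F) :
    (T.σ x : GL D.Idx F) ∈ D.borelSubgroup F := by
  obtain ⟨u, hu, h, hh, he⟩ := g.mem_borel.1 hx
  have e : x = ⟨u, g.posUnipotent_le_group hu⟩ * ⟨h, g.diagonal_le_group hh⟩ :=
    Subtype.ext he.symm
  rw [e, map_mul, Subgroup.coe_mul]
  exact mul_mem (Subgroup.mem_sup_left (T.σ_pos hu)) (Subgroup.mem_sup_right (T.σ_diag hh))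

lemma σ_monomial {x : ↥(D.group F)} (hx : (x : GL D.Idx F) ∈ D.monomialSubgroup F) :
    (T.σ x : GL D.Idx F) ∈ D.monomialSubgroup F := by
  have hx' := hx
  rw [g.monomial_eq, ← Subgroup.closure_eq (D.diagonalSubgroup F), ← Subgroup.closure_union] at hx'
  refine T.map_mem_of_closure ?_ hx'
  rintro y (hy | ⟨i, hi, rfl⟩)
  · exact ⟨g.diagonal_le_group hy, Subgroup.mem_sup_left (T.σ_diag (x := ⟨y, _⟩) hy)⟩
  · refine ⟨g.monomial_le_group (nG_mem_monomial (g.simple_lt hi) 1), ?_⟩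
    obtain ⟨u, -, hu⟩ := T.σ_nG (g.simple_lt hi) 1
      (g.monomial_le_group (nG_mem_monomial (g.simple_lt hi) 1))
    rw [hu]
    exact nG_mem_monomial (Fin.isLt _) u

lemma σ_acts {n : ↥(D.group F)} {w : Equiv.Perm (Fin D.nroots)}
    (hnm : (n : GL D.Idx F) ∈ D.monomialSubgroup F) (hn : g.Acts (n : GL D.Idx F) w) : g.Acts (T.σ n : GL D.Idx F) (T.ρ * w * T.ρ⁻¹) := by
  intro s
  set r := T.ρ⁻¹ s with hr
  obtain ⟨c, hc⟩ := hn r
  have hs : T.ρ r = s := T.ρ.apply_symm_apply s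
  have key : ∀ a : F, (T.σ n : GL D.Idx F) * g.xG s (T.f r a) * (T.σ n : GL D.Idx F)⁻¹ =
      g.xG (T.ρ (w r)) (T.f (w r) ((c : F) * a)) := by
    intro a
    have e : n * ⟨g.xG r a, g.xG_mem_group r.2 a⟩ * n⁻¹ =
        ⟨g.xG (w r) ((c : F) * a), g.xG_mem_group (w r).2 _⟩ := Subtype.ext (hc a)
    have h2 := congrArg (fun z => (T.σ z : GL D.Idx F)) e
    simp only [map_mul, map_inv, Subgroup.coe_mul, Subgroup.coe_inv, T.σ_x] at h2
    rw [hs] at h2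
    exact h2
  obtain ⟨π, -, hπ⟩ := g.exists_acts (F := F) (T.σ_monomial hnm)
  obtain ⟨d, hd⟩ := hπ s
  refine ⟨d, fun t => ?_⟩
  suffices π s = T.ρ (w r) by rw [hd]; simp [this, hr]
  by_contra hne
  obtain ⟨a, ha⟩ := T.f_surj r 1
  have h3 := key a
  rw [ha, hd] at h3
  have := g.eq_of_xG_eq (π s).2 (T.ρ (w r)).2 (fun e => hne (Fin.ext e)) h3
  simp at this

end Twist

end CfsgLib.Chev
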