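import Mathlib
import Cfsg.Agent.Lib.Chev.Twist

/-!
Symmetries of a root system given by tables.
-/

set_option autoImplicit false

namespace CfsgLib.Chev

open Cfsg.Lie

/-- The tables of a symmetry. -/
structure RhoData where
  /-- images of the roots -/
  ρ : List ℕ
  /-- preimages of the roots -/
  ρ' : List ℕ
  /-- images of the fundamental roots -/
  pi : List ℕ
  /-- preimages of the fundamental roots -/
  pi' : List ℕ

variable {D : ChevalleyDatum}

/-- The tables define a symmetry commuting with negation and the fundamental reflections. -/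
noncomputable def rhoOK (D : ChevalleyDatum) (dat : LieData) (sd : StructData) (R : RhoData) :
    Bool :=
  allR (fun r => Nat.blt (nth 0 R.ρ r) D.nroots && Nat.blt (nth 0 R.ρ' r) D.nroots &&
      Nat.beq (nth 0 R.ρ' (nth 0 R.ρ r)) r && Nat.beq (nth 0 R.ρ (nth 0 R.ρ' r)) r &&
      Nat.beq (nth 0 R.ρ (fneg D r)) (fneg D (nth 0 R.ρ r)) &&
      (Nat.blt r (half D) || Nat.ble (half D) (nth 0 R.ρ r)))
    (upto D.nroots) &&
  allR (fun i => Nat.blt (nth 0 R.pi i) D.rank && Nat.blt (nth 0 R.pi' i) D.rank &&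
      Nat.beq (nth 0 R.pi' (nth 0 R.pi i)) i && Nat.beq (nth 0 R.pi (nth 0 R.pi' i)) i &&
      Nat.beq (nth 0 R.ρ (fsimple dat i)) (fsimple dat (nth 0 R.pi i)) &&
      allR (fun r => Nat.beq (nth 0 R.ρ (refl sd i r)) (refl sd (nth 0 R.pi i) (nth 0 R.ρ r)))
        (upto D.nroots))
    (upto D.rank)

/-- The permutations of a symmetry, with their properties. -/
structure RootSym (g : Good D) where
  /-- on the roots -/
  ρ : Equiv.Perm (Fin D.nroots)
  /-- on the fundamental roots -/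
  pi : Equiv.Perm (Fin D.rank)
  ρ_nroot : ∀ a, ρ (g.nroot a) = g.nroot (ρ a)
  ρ_pos : ∀ a : Fin D.nroots, half D ≤ a.val → half D ≤ (ρ a).val
  ρ_sroot : ∀ i, ρ (g.sroot i) = g.sroot (pi i)
  ρ_rperm : ∀ i, ρ * g.rperm i = g.rperm (pi i) * ρ

lemma rho_facts {dat : LieData} {sd : StructData} {R : RhoData} (h : rhoOK D dat sd R = true)
    {r : ℕ} (hr : r < D.nroots) :
    nth 0 R.ρ r < D.nroots ∧ nth 0 R.ρ' r < D.nroots ∧ nth 0 R.ρ' (nth 0 R.ρ r) = r ∧
      nth 0 R.ρ (nth 0 R.ρ' r) = r ∧ nth 0 R.ρ (fneg D r) = fneg D (nth 0 R.ρ r) ∧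
      (half D ≤ r → half D ≤ nth 0 R.ρ r) := by
  rw [rhoOK, Bool.and_eq_true] at h
  have := allR_upto h.1 hr
  simp only [Bool.and_eq_true, Bool.or_eq_true, Nat.blt_eq, Nat.beq_eq, Nat.ble_eq] at this
  obtain ⟨⟨⟨⟨⟨a, b⟩, c⟩, d⟩, e⟩, f⟩ := this
  exact ⟨a, b, c, d, e, fun h => f.resolve_left (by omega)⟩

lemma rho_simple_facts {dat : LieData} {sd : StructData} {R : RhoData}
    (h : rhoOK D dat sd R = true) {i : ℕ} (hi : i < D.rank) :
    nth 0 R.pi i < D.rank ∧ nth 0 R.pi' i < D.rank ∧ nth 0 R.pi' (nth 0 R.pi i) = i ∧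
      nth 0 R.pi (nth 0 R.pi' i) = i ∧ nth 0 R.ρ (fsimple dat i) = fsimple dat (nth 0 R.pi i) ∧
      ∀ r < D.nroots, nth 0 R.ρ (refl sd i r) = refl sd (nth 0 R.pi i) (nth 0 R.ρ r) := by
  rw [rhoOK, Bool.and_eq_true] at h
  have := allR_upto h.2 hi
  simp only [Bool.and_eq_true, Nat.blt_eq, Nat.beq_eq] at this
  obtain ⟨⟨⟨⟨⟨a, b⟩, c⟩, d⟩, e⟩, f⟩ := this
  exact ⟨a, b, c, d, e, fun r hr => Nat.beq_eq.mp (allR_upto f hr)⟩

/-- The symmetry of checked tables. -/
noncomputable def rootSymOf {dat : LieData} {sd : StructData} {R : RhoData} (g : Good D)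
    (hl : LieChecks D dat) (hs : StructChecks D dat sd) (h : rhoOK D dat sd R = true) :
    RootSym g where
  ρ :=
    { toFun := fun r => ⟨nth 0 R.ρ r, (rho_facts h r.2).1⟩
      invFun := fun r => ⟨nth 0 R.ρ' r, (rho_facts h r.2).2.1⟩
      left_inv := fun r => Fin.ext (rho_facts h r.2).2.2.1
      right_inv := fun r => Fin.ext (rho_facts h r.2).2.2.2.1 }
  pi :=
    { toFun := fun i => ⟨nth 0 R.pi i, (rho_simple_facts h i.2).1⟩
      invFun := fun i => ⟨nth 0 R.pi' i, (rho_simple_facts h i.2).2.1⟩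
      left_inv := fun i => Fin.ext (rho_simple_facts h i.2).2.2.1
      right_inv := fun i => Fin.ext (rho_simple_facts h i.2).2.2.2.1 }
  ρ_nroot a := by
    refine Fin.ext ?_
    show nth 0 R.ρ (D.neg a) = D.neg (nth 0 R.ρ a)
    rw [neg_eq g.lie.pack a.2, neg_eq g.lie.pack (rho_facts h a.2).1]
    exact (rho_facts h a.2).2.2.2.2.1
  ρ_pos a ha := (rho_facts h a.2).2.2.2.2.2 ha
  ρ_sroot i := by
    refine Fin.ext ?_
    show nth 0 R.ρ (D.simple i) = D.simple (nth 0 R.pi i)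
    rw [(hl.simple_facts i.2).1, (hl.simple_facts (rho_simple_facts h i.2).1).1]
    exact (rho_simple_facts h i.2).2.2.2.2.1
  ρ_rperm i := by
    refine Equiv.ext fun s => Fin.ext ?_
    show nth 0 R.ρ (D.reflectRoot i s) = D.reflectRoot (nth 0 R.pi i) (nth 0 R.ρ s)
    rw [(StructChecks.refl_facts hl hs i.2 s.2).1,
      (StructChecks.refl_facts hl hs (rho_simple_facts h i.2).1 (rho_facts h s.2).1).1]
    exact (rho_simple_facts h i.2).2.2.2.2.2 s s.2

end CfsgLib.Chev
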