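import Mathlib
import Cfsg.Agent.Lib.Chev.BNChev
import Cfsg.Agent.Lib.Chev.Borel

/-!
Trivial core, perfectness, irreducibility and simplicity of Chevalley groups.
-/

set_option autoImplicit false

open scoped commutatorElement

namespace CfsgLib.Chev

open Cfsg.Lie Matrix

variable {D : ChevalleyDatum} {F : Type*} [Field F]

namespace Good

variable (g : Good D)
include g

/-- An element of `H` centralising all root subgroups is trivial. -/
lemma diagonal_eq_one_of_central {h : GL D.Idx F} (hh : h ∈ D.diagonalSubgroup F)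
    (hcomm : ∀ r < D.nroots, ∀ t : F, h * g.xG r t * h⁻¹ = g.xG r t) : h = 1 := by
  rw [g.diagonal_eq_range] at hh
  obtain ⟨c, rfl⟩ := hh
  refine Units.ext ?_
  rw [torHom_apply, Units.val_one, ← Matrix.diagonal_one]
  congr 1
  funext a
  rcases a with j | u
  · simp [torExp]
  · have h1 := hcomm u u.2 1
    rw [g.torHom_conj_xG c u.2] at h1
    by_contra hne
    have h2 : g.xG (u : ℕ) (((∏ i : Fin D.rank, c i ^ D.cartan i u : Fˣ) : F) * 1 + -1) = 1 := by
      rw [← g.xG_add, h1, g.xG_add, add_neg_cancel, g.xG_zero]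
    have h3 := (g.x_eq_one_iff u.2 _).1 (congrArg Units.val h2)
    rw [mul_one, ← sub_eq_add_neg, sub_eq_zero] at h3
    exact hne h3

theorem core_trivial :
    ((D.borelSubgroup F).subgroupOf (D.group F)).normalCore = ⊥ := by
  set K := ((D.borelSubgroup F).subgroupOf (D.group F)).normalCore with hK
  have hKB : ∀ x ∈ K, (x : GL D.Idx F) ∈ D.borelSubgroup F := fun x hx =>
    Subgroup.mem_subgroupOf.1 (Subgroup.normalCore_le _ hx)
  obtain ⟨n, hn, hmap⟩ := g.exists_map_pos_eq_neg (F := F)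
  have hKH : ∀ x ∈ K, (x : GL D.Idx F) ∈ D.diagonalSubgroup F := by
    intro x hx
    obtain ⟨u, hu, h, hh, he⟩ := g.mem_borel.1 (hKB x hx)
    have h1 := hKB _ ((Subgroup.normalCore_normal _).conj_mem x hx ⟨n, g.monomial_le_group hn⟩)
    have h2 : n * (x : GL D.Idx F) * n⁻¹ ∈ D.borelSubgroup F := h1
    have h4 : n * u * n⁻¹ ∈ D.borelSubgroup F ⊓ D.negUnipotent F := by
      refine Subgroup.mem_inf.2 ⟨?_, hmap ▸ Subgroup.mem_map_of_mem (MulAut.conj n).toMonoidHom hu⟩
      have e : n * u * n⁻¹ = n * (x : GL D.Idx F) * n⁻¹ * (n * h * n⁻¹)⁻¹ := by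
        rw [← he]; group
      rw [e]
      exact mul_mem h2 (inv_mem (Subgroup.mem_sup_right (g.diag_conj hn hh)))
    rw [g.borel_inf_neg, Subgroup.mem_bot, conj_eq_one_iff] at h4
    rw [← he, h4, one_mul]
    exact hh
  refine (Subgroup.eq_bot_iff_forall _).2 fun x hx => Subtype.ext ?_
  refine g.diagonal_eq_one_of_central (hKH x hx) fun r hr t => ?_
  obtain ⟨c, hc⟩ := g.diagonal_conj_xG (hKH x hx) hr t
  let y : ↥(D.group F) := ⟨g.xG r t, g.xG_mem_group hr t⟩
  have h1 : x * y * x⁻¹ * y⁻¹ ∈ K := by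
    rw [mul_assoc, mul_assoc, ← mul_assoc y]
    exact mul_mem hx ((Subgroup.normalCore_normal _).conj_mem _ (inv_mem hx) y)
  have h2 : g.xG r ((c : F) * t + -t) ∈ D.diagonalSubgroup F := by
    have := hKH _ h1
    rw [Subgroup.coe_mul, Subgroup.coe_mul, Subgroup.coe_mul, Subgroup.coe_inv, Subgroup.coe_inv,
      show (y : GL D.Idx F) = g.xG r t from rfl, hc, g.xG_inv, g.xG_add] at this
    exact this
  have h3 : g.xG r ((c : F) * t + -t) = 1 := by
    by_cases hp : half D ≤ r
    · have : g.xG r ((c : F) * t + -t) ∈ D.posUnipotent F ⊓ D.diagonalSubgroup F :=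
        Subgroup.mem_inf.2 ⟨g.xG_mem_posUnipotent ((g.isPosRoot_iff r).2 ⟨hp, hr⟩) _, h2⟩
      rwa [g.pos_inf_diagonal, Subgroup.mem_bot] at this
    · have : g.xG r ((c : F) * t + -t) ∈ D.borelSubgroup F ⊓ D.negUnipotent F :=
        Subgroup.mem_inf.2 ⟨Subgroup.mem_sup_right h2, g.xG_mem_negUnipotent ((g.isNegRoot_iff r).2 (by omega)) _⟩
      rwa [g.borel_inf_neg, Subgroup.mem_bot] at this
  rw [hc, show (c : F) * t = (c : F) * t + -t + t by ring, ← g.xG_add, h3, one_mul]

/-- Perfectness reduces to the simple root subgroups. -/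
theorem perfect_of_simple
    (h : ∀ i < D.rank, ∀ t : F, g.xG (D.simple i) t ∈ ⁅D.group F, D.group F⁆) :
    commutator ↥(D.group F) = ⊤ := by
  refine Subgroup.map_injective (D.group F).subtype_injective ?_
  rw [commutator_def, Subgroup.map_commutator, ← MonoidHom.range_eq_map, Subgroup.range_subtype]
  refine le_antisymm (Subgroup.commutator_le.2 fun a ha b hb =>
    mul_mem (mul_mem (mul_mem ha hb) (inv_mem ha)) (inv_mem hb)) (g.group_le fun r hr => ?_)
  have key : r < D.nroots ∧ ∀ t : F, g.xG r t ∈ ⁅D.group F, D.group F⁆ := by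
    refine g.root_induction (P := fun r => r < D.nroots ∧ ∀ t : F, g.xG r t ∈ ⁅D.group F, D.group F⁆)
      (fun i hi => ⟨g.simple_lt hi, h i hi⟩) (fun i hi s hs hP => ⟨g.refl_lt hi hs, fun t => ?_⟩) hr
    obtain ⟨c, hc⟩ := g.acts_nI (F := F) ⟨i, hi⟩ ⟨s, hs⟩
    have h1 := hc (((c⁻¹ : Fˣ) : F) * t)
    rw [← mul_assoc, ← Units.val_mul, mul_inv_cancel, Units.val_one, one_mul] at h1
    show g.xG (g.rperm ⟨i, hi⟩ ⟨s, hs⟩ : Fin D.nroots) t ∈ _
    rw [← h1]
    have hn : g.nI ⟨i, hi⟩ ∈ D.group F := g.monomial_le_group (g.nI_mem _)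
    have h2 := Subgroup.mem_map_of_mem (MulAut.conj (g.nI (F := F) ⟨i, hi⟩)).toMonoidHom
      (hP.2 (((c⁻¹ : Fˣ) : F) * t))
    rw [Subgroup.map_commutator] at h2
    refine Subgroup.commutator_mono ?_ ?_ h2 <;>
    · rintro z ⟨w, hw, rfl⟩
      exact mul_mem (mul_mem hn hw) (inv_mem hn)
  exact key.2

/-- A commutator relation with a single linear term. -/
theorem mem_commutator_of_comm (hc : HasComm D) {p r s b : ℕ} {C : ℤ} (hr : r < D.nroots)
    (hs : s < D.nroots) (hrs : s ≠ r) (hneg : s ≠ D.neg r) (he : fterms D r s = [(p, C, 1, b)])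
    (hC : (C : F) ≠ 0) (t : F) : g.xG p t ∈ ⁅D.group F, D.group F⁆ := by
  have h1 := g.comm_formula hc hr hs hrs hneg (-(t / (C : F))) (1 : F)
  simp only [ChevalleyDatum.commWord, ← g.fterms_eq hr hs, he, ChevalleyDatum.wordMat, List.map_cons,
    List.map_nil, List.prod_cons, List.prod_nil, mul_one, one_pow, pow_one, neg_neg] at h1
  rw [_root_.neg_neg, show (C : F) * (t / (C : F)) = t by field_simp] at h1
  have h2 : g.xG s (1 : F) * g.xG r (-(t / (C : F))) =
      g.xG r (-(t / (C : F))) * g.xG s 1 * g.xG p t := Units.ext (by simpa [coe_xG] using h1)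
  have e : g.xG p t = ⁅(g.xG s (1 : F))⁻¹, (g.xG r (-(t / (C : F))))⁻¹⁆ := by
    rw [commutatorElement_def, inv_inv, inv_inv, mul_assoc, h2]
    group
  rw [e]
  exact Subgroup.commutator_mem_commutator (inv_mem (g.xG_mem_group hs _))
    (inv_mem (g.xG_mem_group hr _))

/-- A torus element moving the root. -/
theorem mem_commutator_of_torus {p k : ℕ} (hp : p < D.nroots) (hk : k < D.nroots) (a : Fˣ)
    (ha : ((a ^ pair D k p : Fˣ) : F) ≠ 1) (t : F) :
    g.xG p t ∈ ⁅D.group F, D.group F⁆ := by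
  set z : F := ((a ^ pair D k p : Fˣ) : F)
  have h1 := g.hG_conj_xG (r := k) hp a (t / (z - 1))
  have hz : z - 1 ≠ 0 := sub_ne_zero.2 ha
  have e : g.xG p t = ⁅g.hG k a, g.xG p (t / (z - 1))⁆ := by
    rw [commutatorElement_def, h1, g.xG_inv, g.xG_add]
    congr 1
    field_simp
    ring
  rw [e]
  exact Subgroup.commutator_mem_commutator
    (g.diagonal_le_group (g.hG_mem hk a)) (g.xG_mem_group hp _)

end Good

lemma lt_of_mem_upto {n k : ℕ} (h : k ∈ upto n) : k < n := by
  have key : ∀ n m, k ∈ (Nat.rec (motive := fun _ => ℕ → List ℕ) (fun _ => [])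
      (fun _ ih j => j :: ih (j + 1)) n m) → k < m + n := by
    intro n
    induction n with
    | zero => intro m h; simp at h
    | succ n ih =>
      intro m h
      rcases List.mem_cons.1 h with rfl | h
      · omega
      · have := ih (m + 1) h
        omega
  simpa using key n 0 h

/-- One step of the search for a component of the diagram. -/
noncomputable def reachStep (D : ChevalleyDatum) (dat : LieData) (L : List ℕ) : List ℕ :=
  (upto D.rank).filter fun i => anyR (fun j => Nat.beq i j ||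
    !(Int.beq' (fcartan D j (fsimple dat i)) 0)) L

/-- The diagram is connected. -/
noncomputable def connOK (D : ChevalleyDatum) (dat : LieData) : Bool :=
  allR (fun i => anyR (fun j => Nat.beq i j)
    (Nat.rec [0] (fun _ L => reachStep D dat L) D.rank)) (upto D.rank)

/-- Connectedness of the diagram. -/
def DynkinConn (D : ChevalleyDatum) : Prop :=
  ∀ P : ℕ → Prop, (∀ i < D.rank, ∀ j < D.rank, D.cartan j (D.simple i) ≠ 0 → (P i ↔ P j)) →
    ∀ i < D.rank, (P i ↔ P 0)

lemma dynkinConn_of_check {dat : LieData} (hl : LieChecks D dat) (h : connOK D dat = true) :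
    DynkinConn D := by
  intro P hP i hi
  have hany : ∀ (f : ℕ → Bool) (L : List ℕ), anyR f L = true → ∃ x ∈ L, f x = true := by
    intro f L
    induction L with
    | nil => intro h; simp [anyR] at h
    | cons a L ih =>
      intro h
      have h' : (f a || anyR f L) = true := h
      rw [Bool.or_eq_true] at h'
      rcases h' with h' | h'
      · exact ⟨a, by simp, h'⟩
      · obtain ⟨x, hx, hx'⟩ := ih h'
        exact ⟨x, by simp [hx], hx'⟩
  have key : ∀ k, ∀ x ∈ (Nat.rec [0] (fun _ L => reachStep D dat L) k : List ℕ),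
      x < D.rank ∧ (P x ↔ P 0) := by
    intro k
    induction k with
    | zero =>
      intro x hx
      rw [List.mem_singleton.1 hx]
      exact ⟨by omega, Iff.rfl⟩
    | succ k ih =>
      intro x hx
      obtain ⟨hxu, hf⟩ := List.mem_filter.1 (show x ∈ reachStep D dat _ from hx)
      have hxr : x < D.rank := lt_of_mem_upto hxu
      obtain ⟨j, hj, hjf⟩ := hany _ _ hf
      obtain ⟨hjr, hjP⟩ := ih j hj
      refine ⟨hxr, ?_⟩
      rw [Bool.or_eq_true, Nat.beq_eq, Bool.not_eq_true', ← Bool.not_eq_true, Int.beq'_eq] at hjf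
      rcases hjf with rfl | hne
      · exact hjP
      · exact (hP x hxr j hjr (by
          rwa [(hl.simple_facts hxr).1, cartan_eq hl.pack hjr
            ((hl.simple_facts hxr).1 ▸ (hl.simple_facts hxr).2.2.1)])).trans hjP
  obtain ⟨x, hx, hxe⟩ := hany _ _ (allR_upto h hi)
  rw [Nat.beq_eq] at hxe
  exact hxe ▸ (key _ x hx).2

namespace Good

variable (g : Good D)
include g

lemma rperm_noncomm {i j : Fin D.rank} (hij : i ≠ j)
    (hA : D.cartan j (D.simple i) ≠ 0) : g.rperm i * g.rperm j ≠ g.rperm j * g.rperm i := by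
  intro h
  have hne : (i : ℕ) ≠ j := fun e => hij (Fin.ext e)
  have h1 := congrArg (fun σ : Equiv.Perm (Fin D.nroots) => g.co (σ (g.sroot i) : ℕ) j) h
  have hs : ∀ (k : Fin D.rank) (a : Fin D.nroots) (m : ℕ), m < D.rank →
      g.co (g.rperm k a : ℕ) m = g.co (a : ℕ) m - if (k : ℕ) = m then D.cartan k a else 0 :=
    fun k a m hm => g.co_refl k.2 a.2 hm
  simp only [Equiv.Perm.mul_apply] at h1
  rw [hs i (g.rperm j (g.sroot i)) j j.2, if_neg hne, sub_zero, hs j (g.sroot i) j j.2, if_pos rfl,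
    hs j (g.rperm i (g.sroot i)) j j.2, if_pos rfl, hs i (g.sroot i) j j.2, if_neg hne, sub_zero]
    at h1
  have h2 : D.cartan j (g.rperm i (g.sroot i) : ℕ) = - D.cartan j (D.simple i) := by
    rw [g.cartan_eq_sum (Fin.isLt _) j.2, g.cartan_eq_sum (g.simple_lt i.2) j.2,
      ← Finset.sum_neg_distrib]
    refine Finset.sum_congr rfl fun m hm => ?_
    rw [g.rperm_sroot]
    show g.co (D.neg (D.simple i)) m * _ = _
    rw [g.co_neg (g.simple_lt i.2) (Finset.mem_range.1 hm), neg_mul]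
  have h3 : D.cartan j (g.sroot i : ℕ) = D.cartan j (D.simple i) := rfl
  rw [h2, h3] at h1
  omega

theorem irreducible (hc : HasComm D) (hconn : DynkinConn D) :
    (g.bnPair (F := F) hc).Irreducible := by
  intro J hJ hne hne'
  by_contra hcon
  push_neg at hcon
  let elt : ∀ i, i < D.rank → ↥(D.group F) := fun i hi =>
    ⟨g.nI ⟨i, hi⟩, g.monomial_le_group (g.nI_mem _)⟩
  let P : ℕ → Prop := fun i => ∀ hi : i < D.rank, elt i hi ∈ J
  have hcl : ∀ i (hi : i < D.rank), ∀ j (hj : j < D.rank), elt i hi ∈ J → elt j hj ∉ J →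
      g.rperm ⟨i, hi⟩ * g.rperm ⟨j, hj⟩ = g.rperm ⟨j, hj⟩ * g.rperm ⟨i, hi⟩ := by
    intro i hi j hj hiJ hjJ
    have h0 := hcon _ hiJ _ ⟨g.mem_bnS.2 ⟨⟨j, hj⟩, rfl⟩, hjJ⟩
    have h1 : g.nI ⟨i, hi⟩ * g.nI ⟨j, hj⟩ * (g.nI (F := F) ⟨i, hi⟩)⁻¹ * (g.nI ⟨j, hj⟩)⁻¹ ∈
        D.borelSubgroup F ⊓ D.monomialSubgroup F :=
      Subgroup.mem_inf.2 ⟨h0, mul_mem (mul_mem (mul_mem (g.nI_mem _) (g.nI_mem _))
        (inv_mem (g.nI_mem _))) (inv_mem (g.nI_mem _))⟩
    rw [g.borel_inf_monomial] at h1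
    have h2 := g.acts_unique (g.acts_mul (g.acts_mul (g.acts_mul (g.acts_nI ⟨i, hi⟩)
      (g.acts_nI ⟨j, hj⟩)) (g.acts_inv (g.acts_nI ⟨i, hi⟩))) (g.acts_inv (g.acts_nI ⟨j, hj⟩)))
      (g.acts_diagonal h1)
    rw [mul_inv_eq_one, mul_inv_eq_iff_eq_mul] at h2
    exact h2
  have hP : ∀ i < D.rank, ∀ j < D.rank, D.cartan j (D.simple i) ≠ 0 → (P i ↔ P j) := by
    intro i hi j hj hA
    by_cases e : i = j
    · rw [e]
    have hnc := g.rperm_noncomm (i := ⟨i, hi⟩) (j := ⟨j, hj⟩) (fun h => e (congrArg Fin.val h)) hA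
    constructor
    · intro h _; by_contra hj'; exact hnc (hcl i hi j hj (h hi) hj')
    · intro h _; by_contra hi'; exact hnc (hcl j hj i hi (h hj) hi').symm
  obtain ⟨a, ha⟩ := hne
  obtain ⟨b, hb, hbJ⟩ := hne'
  obtain ⟨i, hi⟩ := g.mem_bnS.1 (hJ ha)
  obtain ⟨j, hj⟩ := g.mem_bnS.1 hb
  have hPi : P i := fun h => by
    rwa [show elt i h = a from Subtype.ext hi.symm]
  have hPj := ((hconn P hP j j.2).trans (hconn P hP i i.2).symm).2 hPi j.2
  exact hbJ (by rwa [show elt j j.2 = b from Subtype.ext hj.symm] at hPj)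

lemma group_nontrivial (hrank : 0 < D.rank) : Nontrivial ↥(D.group F) := by
  refine ⟨⟨g.xG (D.simple 0) 1, g.xG_mem_group (g.simple_lt hrank) 1⟩, 1, fun h => ?_⟩
  have := (g.x_eq_one_iff (g.simple_lt hrank) (1 : F)).1
    (congrArg Units.val (congrArg Subtype.val h))
  exact one_ne_zero this

/-- The simplicity of the group. -/
theorem simple_of_perfect (hc : HasComm D) (hconn : DynkinConn D) (hrank : 0 < D.rank)
    (hperf : commutator ↥(D.group F) = ⊤) :
    IsSimpleGroup ↥(D.group F) ∧ ¬ IsMulCommutative ↥(D.group F) := by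
  have := g.group_nontrivial (F := F) hrank
  have hsolv : Group.IsSolvable ↥(g.bnPair (F := F) hc).B := by
    have := g.borel_isSolvable (F := F) hc
    exact Group.isSolvable_of_surjective
      (f := (Subgroup.subgroupOfEquivOfLe (g.borel_le_group (F := F))).symm.toMonoidHom)
      (MulEquiv.surjective _)
  refine ⟨BN.isSimpleGroup (g.bnPair hc) (g.irreducible hc hconn) hsolv hperf g.core_trivial,
    fun hcomm => ?_⟩
  have hbot : commutator ↥(D.group F) = ⊥ := by
    rw [commutator_def, eq_bot_iff, Subgroup.commutator_le]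
    intro a _ b _
    rw [Subgroup.mem_bot, commutatorElement_eq_one_iff_mul_comm]
    exact hcomm.is_comm.comm a b
  rw [hperf] at hbot
  exact top_ne_bot hbot

end Good

end CfsgLib.Chev
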