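import Mathlib
import Cfsg.Agent.Lib.Chev.Twist
import Cfsg.Agent.Lib.Chev.WeylJ

/-!
A group of fixed points generated by the rank-one pieces: unipotent subgroup, canonical form.
-/

set_option autoImplicit false
set_option maxHeartbeats 400000

namespace CfsgLib.Chev

open Cfsg.Lie Matrix

variable {D : ChevalleyDatum} {F : Type*} [Field F]

namespace Good

variable (g : Good D)
include g

/-- `U_w⁻` as the elements of `U` sent into `V`. -/
lemma mem_minus_iff (hc : HasComm D) {n : GL D.Idx F} {π : Equiv.Perm (Fin D.nroots)}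
    (hn : g.Acts n π) {u : GL D.Idx F} :
    u ∈ rootGen D F (minusSet π) ↔ u ∈ D.posUnipotent F ∧ n * u * n⁻¹ ∈ D.negUnipotent F := by
  refine ⟨fun h => ⟨g.minus_le_pos π h, g.conj_minus_le hn h⟩, fun ⟨hu, hv⟩ => ?_⟩
  obtain ⟨a, ha, b, hb, rfl⟩ := g.pos_split hc π hu
  have h1 : n * a * n⁻¹ ∈ D.borelSubgroup F ⊓ D.negUnipotent F := by
    refine Subgroup.mem_inf.2 ⟨Subgroup.mem_sup_left (g.conj_plus_le hn ha), ?_⟩
    rw [show n * a * n⁻¹ = n * (a * b) * n⁻¹ * (n * b * n⁻¹)⁻¹ by group]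
    exact mul_mem hv (inv_mem (g.conj_minus_le hn hb))
  rw [g.borel_inf_neg, Subgroup.mem_bot, conj_eq_one_iff] at h1
  rwa [h1, one_mul]

lemma weyl_nroot {w : Equiv.Perm (Fin D.nroots)} (hw : w ∈ g.weyl) (a : Fin D.nroots) :
    w (g.nroot a) = g.nroot (w a) := by
  obtain ⟨l, rfl⟩ := g.exists_wperm hw
  exact g.wperm_nroot l a

lemma wJ_le_weyl (J : Set ℕ) : g.wJ J ≤ g.weyl := by
  refine Subgroup.closure_mono ?_
  rintro σ ⟨i, _, rfl⟩
  exact ⟨i, rfl⟩

lemma exists_descent {w : Equiv.Perm (Fin D.nroots)} (hw : w ∈ g.weyl) (h1 : w ≠ 1) :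
    ∃ i : Fin D.rank, (w⁻¹ (g.sroot i)).val < half D := by
  by_contra hno
  simp only [not_exists, Nat.not_lt] at hno
  obtain ⟨l, hl⟩ := g.exists_wperm (inv_mem hw)
  refine h1 (inv_eq_one.1 (g.eq_one_of_pos (inv_mem hw) fun a ha => ?_))
  rw [← hl]
  exact g.pos_of_simples (J := Set.univ) l (fun q _ => hl ▸ hno q) ha
    fun q _ hq => absurd (Set.mem_univ q) hq

lemma nroot_SuppIn_iff {J : Set ℕ} (a : Fin D.nroots) :
    g.SuppIn J (g.nroot a) ↔ g.SuppIn J a :=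
  ⟨fun h => g.nroot_nroot a ▸ g.suppIn_nroot h, g.suppIn_nroot⟩

lemma monomial_same_acts {n m : GL D.Idx F} {π : Equiv.Perm (Fin D.nroots)}
    (hn : n ∈ D.monomialSubgroup F) (hm : m ∈ D.monomialSubgroup F)
    (hnπ : g.Acts n π) (hmπ : g.Acts m π) : n * m⁻¹ ∈ D.diagonalSubgroup F := by
  let z : ↥(D.monomialSubgroup F) := ⟨n * m⁻¹, mul_mem hn (inv_mem hm)⟩
  have ha : g.Acts (z : GL D.Idx F) (π * π⁻¹) := g.acts_mul hnπ (g.acts_inv hmπ)
  rw [mul_inv_cancel] at ha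
  have : z ∈ (g.rootAct (F := F)).ker := MonoidHom.mem_ker.2 (Subtype.ext (g.rootAct_eq ha))
  rw [g.rootAct_ker, Subgroup.mem_subgroupOf] at this
  exact this

/-- The cells of a parabolic subgroup. -/
lemma mem_parabolic_cell (hc : HasComm D) {J : Set ℕ} {z : GL D.Idx F}
    (hz : z ∈ D.parabolicSubgroup F J) :
    ∃ m ∈ D.monomialSubgroup F, ∃ π ∈ g.wJ J, g.Acts m π ∧
      ∃ b ∈ D.borelSubgroup F, ∃ b' ∈ D.borelSubgroup F, z = b * m * b' := by
  rw [ChevalleyDatum.parabolicSubgroup, ← Subgroup.closure_eq (D.borelSubgroup F),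
    ← Subgroup.closure_union] at hz
  have step : ∀ (i : Fin D.rank), (i : ℕ) ∈ J → ∀ y, (∃ m ∈ D.monomialSubgroup F, ∃ π ∈ g.wJ J,
      g.Acts m π ∧ ∃ b ∈ D.borelSubgroup F, ∃ b' ∈ D.borelSubgroup F, y = b * m * b') →
      ∃ m ∈ D.monomialSubgroup F, ∃ π ∈ g.wJ J, g.Acts m π ∧
        ∃ b ∈ D.borelSubgroup F, ∃ b' ∈ D.borelSubgroup F, g.nI i * y = b * m * b' := by
    rintro i hi y ⟨m, hm, π, hπ, hma, b, hb, b', hb', rfl⟩
    rcases g.nI_mul_mul hc i hb hm with ⟨x, hx, x', hx', he⟩ | ⟨x, hx, x', hx', he⟩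
    · exact ⟨g.nI i * m, mul_mem (g.nI_mem i) hm, g.rperm i * π,
        mul_mem (Subgroup.subset_closure ⟨i, hi, rfl⟩) hπ, g.acts_mul (g.acts_nI i) hma, x, hx,
        x' * b', mul_mem hx' hb', by rw [← mul_assoc, ← mul_assoc, he]; group⟩
    · exact ⟨m, hm, π, hπ, hma, x, hx, x' * b', mul_mem hx' hb',
        by rw [← mul_assoc, ← mul_assoc, he]; group⟩
  induction hz using Subgroup.closure_induction_left with
  | one => exact ⟨1, one_mem _, 1, one_mem _, g.acts_one, 1, one_mem _, 1, one_mem _, by simp⟩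
  | mul_left x hx y _ ih =>
    rcases hx with hx | ⟨j, hjJ, hj, hx⟩
    · obtain ⟨m, hm, π, hπ, hma, b, hb, b', hb', rfl⟩ := ih
      exact ⟨m, hm, π, hπ, hma, x * b, mul_mem hx hb, b', hb', by group⟩
    · obtain rfl : x = g.nI ⟨j, hj⟩ := Units.ext (by rw [hx, nI, g.coe_nG]; simp)
      exact step _ hjJ _ ih
  | inv_mul_cancel x hx y _ ih =>
    rcases hx with hx | ⟨j, hjJ, hj, hx⟩
    · obtain ⟨m, hm, π, hπ, hma, b, hb, b', hb', rfl⟩ := ih
      exact ⟨m, hm, π, hπ, hma, x⁻¹ * b, mul_mem (inv_mem hx) hb, b', hb', by group⟩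
    · obtain rfl : x = g.nI ⟨j, hj⟩ := Units.ext (by rw [hx, nI, g.coe_nG]; simp)
      obtain ⟨m, hm, π, hπ, hma, b, hb, b', hb', he⟩ := step ⟨j, hjJ |> fun _ => hj⟩ hjJ _ ih
      exact ⟨m, hm, π, hπ, hma, (g.nI ⟨j, hj⟩ * g.nI ⟨j, hj⟩)⁻¹ * b,
        mul_mem (inv_mem (Subgroup.mem_sup_right (g.nI_sq _))) hb, b', hb',
        by rw [mul_assoc, mul_assoc, ← mul_assoc b, ← he]; group⟩

end Good

namespace Twist

variable {g : Good D} (T : Twist g F)

/-- The elements fixed by `σ`. -/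
def fixed : Subgroup (GL D.Idx F) :=
  (T.σ.eqLocus (MonoidHom.id _)).map (D.group F).subtype

lemma fixed_le : T.fixed ≤ D.group F := by
  rintro x ⟨y, _, rfl⟩
  exact y.2

lemma mem_fixed (x : ↥(D.group F)) : (x : GL D.Idx F) ∈ T.fixed ↔ T.σ x = x := by
  constructor
  · rintro ⟨y, hy, he⟩
    obtain rfl : y = x := Subtype.ext he
    exact hy
  · exact fun h => ⟨x, h, rfl⟩

/-- The fixed points of `U_w⁻`. -/
def fixedMinus (w : Equiv.Perm (Fin D.nroots)) : Subgroup (GL D.Idx F) :=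
  T.fixed ⊓ rootGen D F (minusSet w)

/-- The Weyl elements commuting with `ρ`. -/
def weylFix : Subgroup (Equiv.Perm (Fin D.nroots)) :=
  g.weyl ⊓ Subgroup.centralizer {T.ρ}

lemma mem_weylFix {w : Equiv.Perm (Fin D.nroots)} :
    w ∈ T.weylFix ↔ w ∈ g.weyl ∧ T.ρ * w = w * T.ρ := by
  rw [weylFix, Subgroup.mem_inf, Subgroup.mem_centralizer_singleton_iff]
  exact and_congr_right fun _ => eq_comm

lemma σ_minus {w : Equiv.Perm (Fin D.nroots)} (hw : T.ρ * w = w * T.ρ) {u : ↥(D.group F)}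
    (hu : (u : GL D.Idx F) ∈ rootGen D F (minusSet w)) :
    (T.σ u : GL D.Idx F) ∈ rootGen D F (minusSet w) := by
  refine T.σ_rootGen (fun r hr => ?_) hu
  obtain ⟨_, h1, h2⟩ := hr
  refine ⟨Fin.isLt _, T.ρ_pos r h1, ?_⟩
  show (w (T.ρ r)).val < half D
  rw [← Equiv.Perm.mul_apply, ← hw]
  exact T.ρ_neg_of_neg h2

lemma σ_plus {w : Equiv.Perm (Fin D.nroots)} (hw : T.ρ * w = w * T.ρ) {u : ↥(D.group F)}
    (hu : (u : GL D.Idx F) ∈ rootGen D F (plusSet w)) :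
    (T.σ u : GL D.Idx F) ∈ rootGen D F (plusSet w) := by
  refine T.σ_rootGen (fun r hr => ?_) hu
  obtain ⟨_, h1, h2⟩ := hr
  refine ⟨Fin.isLt _, T.ρ_pos r h1, ?_⟩
  show half D ≤ (w (T.ρ r)).val
  rw [← Equiv.Perm.mul_apply, ← hw]
  exact T.ρ_pos _ h2

/-- The longest element. -/
lemma exists_longest_fixed :
    ∃ w₀ ∈ T.weylFix, minusSet w₀ = {r | r < D.nroots ∧ half D ≤ r} ∧ ninv D w₀ = D.nroots / 2 := by
  obtain ⟨l, hl⟩ := g.exists_longest
  refine ⟨g.wperm l, T.mem_weylFix.2 ⟨g.wperm_mem l, ?_⟩, ?_, ?_⟩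
  · have h1 := T.ρ_conj_mem (g.wperm_mem l)
    suffices h : (g.wperm l)⁻¹ * (T.ρ * g.wperm l * T.ρ⁻¹) = 1 by
      rw [inv_mul_eq_one, eq_mul_inv_iff_mul_eq] at h
      exact h.symm
    refine g.eq_one_of_pos (mul_mem (inv_mem (g.wperm_mem l)) h1) fun a ha => ?_
    simp only [Equiv.Perm.mul_apply]
    have hb : half D ≤ (T.ρ⁻¹ a).val := by
      rw [← T.ρ_pos_iff, show T.ρ (T.ρ⁻¹ a) = a from T.ρ.apply_symm_apply a]; exact ha
    by_contra hcon
    set c := (g.wperm l)⁻¹ (T.ρ (g.wperm l (T.ρ⁻¹ a))) with hcdef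
    have h2 := hl (g.nroot c) ((g.nroot_pos_iff _).2 (Nat.not_le.1 hcon))
    rw [g.wperm_nroot, hcdef, show g.wperm l ((g.wperm l)⁻¹ (T.ρ (g.wperm l (T.ρ⁻¹ a)))) =
      T.ρ (g.wperm l (T.ρ⁻¹ a)) from (g.wperm l).apply_symm_apply _, ← not_le, g.nroot_pos_iff,
      not_lt, T.ρ_pos_iff] at h2
    have h3 := hl _ hb
    omega
  · ext r
    exact ⟨fun ⟨h, h1, _⟩ => ⟨h, h1⟩, fun ⟨h, h1⟩ => ⟨h, h1, hl ⟨r, h⟩ h1⟩⟩
  · classical
    have hn := g.nroots_eq
    rw [ninv, Finset.filter_congr (q := fun a : Fin D.nroots => half D ≤ a.val)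
      (fun a _ => ⟨fun h => h.1, fun h => ⟨h, hl a h⟩⟩)]
    rw [show (Finset.univ.filter fun a : Fin D.nroots => half D ≤ a.val) =
      (Finset.Ico (half D) D.nroots).attachFin (fun m hm => (Finset.mem_Ico.1 hm).2) by
        ext a; simp, Finset.card_attachFin, Nat.card_Ico]
    omega

/-- Uniqueness makes the components of a fixed element fixed. -/
lemma canonical_fixed (hc : HasComm D) {b n u : ↥(D.group F)} {w : Equiv.Perm (Fin D.nroots)}
    (hb : (b : GL D.Idx F) ∈ D.borelSubgroup F) (hn : (n : GL D.Idx F) ∈ D.monomialSubgroup F)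
    (hw : g.Acts (n : GL D.Idx F) w) (hu : (u : GL D.Idx F) ∈ rootGen D F (minusSet w))
    (hx : T.σ (b * n * u) = b * n * u) :
    T.ρ * w = w * T.ρ ∧ T.σ u = u ∧ (T.σ n = n → T.σ b = b) := by
  have hx' : (T.σ b : GL D.Idx F) * T.σ n * T.σ u = (b : GL D.Idx F) * n * u := by
    rw [← Subgroup.coe_mul, ← Subgroup.coe_mul, ← map_mul, ← map_mul, hx]; rfl
  have hup : (u : GL D.Idx F) ∈ D.posUnipotent F := g.minus_le_pos w hu
  have h1 := g.canonical_coset hc (T.σ_borel hb) hb (T.σ_monomial hn) hn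
    (Subgroup.mem_sup_left (T.σ_pos hup)) (Subgroup.mem_sup_left hup) hx'
  have h2 := g.acts_unique (g.acts_mul (g.acts_inv (T.σ_acts hn hw)) hw) (g.acts_diagonal h1)
  rw [inv_mul_eq_one, mul_inv_eq_iff_eq_mul] at h2
  refine ⟨h2, ?_⟩
  set k : GL D.Idx F := (T.σ n : GL D.Idx F) * (n : GL D.Idx F)⁻¹ with hk
  have hkH : k ∈ D.diagonalSubgroup F := by
    have h3 : T.ρ * w * T.ρ⁻¹ = w := by rw [h2, mul_inv_cancel_right]
    exact g.monomial_same_acts (T.σ_monomial hn) hn (h3 ▸ T.σ_acts hn hw) hw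
  obtain ⟨e1, e2⟩ := g.canonical_unique (b := (T.σ b : GL D.Idx F) * k) (b' := (b : GL D.Idx F))
    (mul_mem (T.σ_borel hb) (Subgroup.mem_sup_right hkH)) hb hw (T.σ_minus h2 hu) hu
    (by rw [← hx', hk]; group)
  refine ⟨Subtype.ext e2, fun hnn => Subtype.ext ?_⟩
  rwa [hk, hnn, mul_inv_cancel, mul_one] at e1

end Twist

/-- The data of a twisted group: a subgroup of fixed points containing the rank-one pieces. -/
structure TwistSys {g : Good D} (T : Twist g F) where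
  /-- the group -/
  G1 : Subgroup (GL D.Idx F)
  /-- the number of orbits of fundamental roots -/
  r : ℕ
  /-- the orbits -/
  J : Fin r → Set ℕ
  /-- the longest element of an orbit -/
  w : Fin r → Equiv.Perm (Fin D.nroots)
  /-- representatives of these elements -/
  n : Fin r → GL D.Idx F
  le_fixed : G1 ≤ T.fixed
  cover : ∀ i : Fin D.rank, ∃ o, (i : ℕ) ∈ J o
  orbit : ∀ o, ∀ P : Fin D.rank → Prop, (∀ i, P i → P (T.pi i)) →
    ∀ i : Fin D.rank, (i : ℕ) ∈ J o → P i → ∀ j : Fin D.rank, (j : ℕ) ∈ J o → P j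
  w_mem : ∀ o, w o ∈ g.wJ (J o)
  w_neg : ∀ o (a : Fin D.nroots), half D ≤ a.val → g.SuppIn (J o) a → (w o a).val < half D
  w_comm : ∀ o, T.ρ * w o = w o * T.ρ
  w_inj : Function.Injective w
  nonempty : ∀ o, ∃ i : Fin D.rank, (i : ℕ) ∈ J o
  n_mem : ∀ o, n o ∈ G1
  n_monomial : ∀ o, n o ∈ D.monomialSubgroup F
  n_acts : ∀ o, g.Acts (n o) (w o)
  base : ∀ o, T.fixedMinus (w o) ≤ G1

namespace TwistSys

variable {g : Good D} {T : Twist g F} (S : TwistSys T)

lemma le_group : S.G1 ≤ D.group F := S.le_fixed.trans T.fixed_le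

lemma w_weyl (o : Fin S.r) : S.w o ∈ g.weyl := g.wJ_le_weyl _ (S.w_mem o)

lemma w_weylFix (o : Fin S.r) : S.w o ∈ T.weylFix :=
  T.mem_weylFix.2 ⟨S.w_weyl o, S.w_comm o⟩

lemma minus_iff (o : Fin S.r) (a : Fin D.nroots) :
    (half D ≤ a.val ∧ (S.w o a).val < half D) ↔ (half D ≤ a.val ∧ g.SuppIn (S.J o) a) := by
  refine and_congr_right fun ha => ⟨fun h => ?_, S.w_neg o a ha⟩
  by_contra hs
  have := g.pos_of_not_supp (S.w_mem o) ha hs
  omega

lemma w_sq (o : Fin S.r) : S.w o * S.w o = 1 := by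
  refine g.eq_one_of_pos (mul_mem (S.w_weyl o) (S.w_weyl o)) fun a ha => ?_
  rw [Equiv.Perm.mul_apply]
  by_cases hs : g.SuppIn (S.J o) a
  · have h1 := S.w_neg o a ha hs
    have h2 : g.SuppIn (S.J o) (g.nroot (S.w o a)) :=
      g.suppIn_nroot ((g.suppIn_wJ (S.w_mem o) a).2 hs)
    have h3 := S.w_neg o _ ((g.nroot_pos_iff _).2 h1) h2
    rw [g.weyl_nroot (S.w_weyl o), ← g.nroot_pos_iff, g.nroot_nroot] at h3
    exact h3
  · exact g.pos_of_not_supp (S.w_mem o) (g.pos_of_not_supp (S.w_mem o) ha hs)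
      fun h => hs ((g.suppIn_wJ (S.w_mem o) a).1 h)

/-- A fixed Weyl element is negative on all or on none of an orbit. -/
lemma dichotomy {u : Equiv.Perm (Fin D.nroots)} (hu : u ∈ T.weylFix) (o : Fin S.r) :
    (∀ a : Fin D.nroots, half D ≤ a.val → g.SuppIn (S.J o) a → half D ≤ (u⁻¹ a).val) ∨
      (∀ a : Fin D.nroots, half D ≤ a.val → g.SuppIn (S.J o) a → (u⁻¹ a).val < half D) := by
  obtain ⟨huw, huc⟩ := T.mem_weylFix.1 hu
  obtain ⟨l, hl⟩ := g.exists_wperm (inv_mem huw)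
  by_cases h : ∀ q : Fin D.rank, (q : ℕ) ∈ S.J o → half D ≤ (u⁻¹ (g.sroot q)).val
  · exact Or.inl fun a ha hs => hl ▸ g.pos_of_simples l (fun q hq => hl ▸ h q hq) ha hs
  · simp only [not_forall, Nat.not_le] at h
    obtain ⟨i, hi, hneg⟩ := h
    have hall := S.orbit o (fun q => (u⁻¹ (g.sroot q)).val < half D) (fun q hq => by
      have huc' : u⁻¹ * T.ρ = T.ρ * u⁻¹ := by
        rw [inv_mul_eq_iff_eq_mul, ← mul_assoc, ← huc, mul_inv_cancel_right]
      show (u⁻¹ (g.sroot (T.pi q))).val < half D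
      rw [← T.ρ_sroot, ← Equiv.Perm.mul_apply, huc', Equiv.Perm.mul_apply]
      exact T.ρ_neg_of_neg hq) i hi hneg
    refine Or.inr fun a ha hs => ?_
    have hu' : u⁻¹ * S.w o ∈ g.weyl := mul_mem (inv_mem huw) (S.w_weyl o)
    obtain ⟨l', hl'⟩ := g.exists_wperm hu'
    -- `u⁻¹ w` is positive on the orbit
    have hpos : ∀ b : Fin D.nroots, half D ≤ b.val → g.SuppIn (S.J o) b →
        half D ≤ ((u⁻¹ * S.w o) b).val := by
      intro b hb hbs
      rw [← hl']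
      refine g.pos_of_simples l' (fun q hq => ?_) hb hbs
      rw [hl', Equiv.Perm.mul_apply]
      set c := g.nroot (S.w o (g.sroot q))
      have hwneg := S.w_neg o _ (g.sroot_pos q) (g.suppIn_sroot q hq)
      have hc : half D ≤ c.val := (g.nroot_pos_iff _).2 hwneg
      have hcs : g.SuppIn (S.J o) c := g.suppIn_nroot ((g.suppIn_wJ (S.w_mem o) _).2 (g.suppIn_sroot q hq))
      have hcneg : (u⁻¹ c).val < half D := by
        by_contra hge
        have hex : ∃ q : Fin D.rank, 0 < g.co c q := by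
          by_contra hno
          simp only [not_exists, not_lt] at hno
          have h5 := g.wt_pos hc c.2
          rw [g.wt_eq, Finset.sum_eq_zero fun j hj => ?_] at h5
          · exact lt_irrefl _ h5
          · have hj' := Finset.mem_range.1 hj
            rw [le_antisymm (hno ⟨j, hj'⟩) (g.co_nonneg c.2 hc hj'), zero_mul]
        obtain ⟨p, hp⟩ := hex
        have h0 : 0 < g.wt (u⁻¹ c : Fin D.nroots) := (g.wt_pos_iff (Fin.isLt _)).2 (by omega)
        rw [← hl, g.wt_wperm] at h0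
        refine absurd h0 (not_lt.2 (Finset.sum_nonpos fun k _ => ?_))
        by_cases hk : (k : ℕ) ∈ S.J o
        · refine mul_nonpos_of_nonneg_of_nonpos (g.co_nonneg c.2 hc k.2) ?_
          by_contra hw
          have := (g.wt_pos_iff (Fin.isLt _)).1 (not_le.1 hw)
          rw [hl] at this
          have := hall k hk
          omega
        · rw [hcs k k.2 hk, zero_mul]
      rw [← g.nroot_nroot (S.w o (g.sroot q)), g.weyl_nroot (inv_mem huw)]
      exact (g.nroot_pos_iff _).2 hcneg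
    have h1 := S.w_neg o a ha hs
    have h2 : g.SuppIn (S.J o) (g.nroot (S.w o a)) :=
      g.suppIn_nroot ((g.suppIn_wJ (S.w_mem o) a).2 hs)
    have h3 := hpos _ ((g.nroot_pos_iff _).2 h1) h2
    rw [g.weyl_nroot hu', g.nroot_pos_iff, Equiv.Perm.mul_apply, ← Equiv.Perm.mul_apply (S.w o),
      S.w_sq, Equiv.Perm.one_apply] at h3
    exact h3

/-- Splitting off a left descent. -/
lemma exists_split {v : Equiv.Perm (Fin D.nroots)} (hv : v ∈ T.weylFix) (h1 : v ≠ 1) :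
    ∃ o, ∃ v' ∈ T.weylFix, v = S.w o * v' ∧
      (∀ a : Fin D.nroots, half D ≤ a.val → g.SuppIn (S.J o) a → half D ≤ (v'⁻¹ a).val) := by
  obtain ⟨i, hi⟩ := g.exists_descent (T.mem_weylFix.1 hv).1 h1
  obtain ⟨o, ho⟩ := S.cover i
  refine ⟨o, S.w o * v, mul_mem (S.w_weylFix o) hv, by rw [← mul_assoc, S.w_sq, one_mul],
    fun a ha hs => ?_⟩
  rcases S.dichotomy hv o with h | h
  · have := h _ (g.sroot_pos i) (g.suppIn_sroot i ho); omega
  · rw [_root_.mul_inv_rev, inv_eq_of_mul_eq_one_right (S.w_sq o), Equiv.Perm.mul_apply]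
    have h2 := h _ ((g.nroot_pos_iff _).2 (S.w_neg o a ha hs))
      (g.suppIn_nroot ((g.suppIn_wJ (S.w_mem o) a).2 hs))
    rw [g.weyl_nroot (inv_mem (T.mem_weylFix.1 hv).1), ← not_le, g.nroot_pos_iff, not_lt] at h2
    exact h2

lemma ninv_split {v' : Equiv.Perm (Fin D.nroots)} (hv : v' ∈ g.weyl) (o : Fin S.r)
    (hpos : ∀ a : Fin D.nroots, half D ≤ a.val → g.SuppIn (S.J o) a → half D ≤ (v'⁻¹ a).val) :
    ninv D (S.w o * v') = ninv D (S.w o) + ninv D v' ∧ 0 < ninv D (S.w o) := by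
  classical
  constructor
  · rw [ninv, ninv, ninv, add_comm, ← Finset.card_map v'.symm.toEmbedding (s := Finset.univ.filter
      fun a : Fin D.nroots => half D ≤ a.val ∧ (S.w o a).val < half D), ← Finset.card_union_of_disjoint]
    · refine congrArg Finset.card (Finset.ext fun a => ?_)
      rw [Finset.mem_union, Finset.mem_filter, Finset.mem_filter, Finset.mem_map]
      simp only [Finset.mem_filter, Finset.mem_univ, true_and, Equiv.coe_toEmbedding,
        Equiv.Perm.mul_apply]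
      constructor
      · rintro ⟨ha, hneg⟩
        by_cases h : (v' a).val < half D
        · exact Or.inl ⟨ha, h⟩
        · exact Or.inr ⟨v' a, ⟨Nat.not_lt.1 h, hneg⟩, v'.symm_apply_apply a⟩
      · rintro (⟨ha, h⟩ | ⟨b, ⟨hb, hbn⟩, rfl⟩)
        · refine ⟨ha, ?_⟩
          by_contra hcon
          set c := g.nroot (v' a) with hc
          have hcp : half D ≤ c.val := (g.nroot_pos_iff _).2 h
          have hcs : g.SuppIn (S.J o) c := by
            by_contra hs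
            have := g.pos_of_not_supp (S.w_mem o) hcp hs
            rw [hc, g.weyl_nroot (S.w_weyl o), g.nroot_pos_iff] at this
            omega
          have h2 := hpos c hcp hcs
          rw [hc, g.weyl_nroot (inv_mem hv), g.nroot_pos_iff,
            show v'⁻¹ (v' a) = a from v'.symm_apply_apply a] at h2
          omega
        · exact ⟨hpos b hb ((S.minus_iff o b).1 ⟨hb, hbn⟩).2, by rw [v'.apply_symm_apply]; exact hbn⟩
    · rw [Finset.disjoint_left]
      intro a ha hb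
      simp only [Finset.mem_filter, Finset.mem_univ, true_and, Finset.mem_map,
        Equiv.coe_toEmbedding] at ha hb
      obtain ⟨b, ⟨hb1, -⟩, rfl⟩ := hb
      rw [v'.apply_symm_apply] at ha
      omega
  · obtain ⟨i, hi⟩ := S.nonempty o
    exact Finset.card_pos.2 ⟨g.sroot i, by
      simpa using ⟨g.sroot_pos i, S.w_neg o _ (g.sroot_pos i) (g.suppIn_sroot i hi)⟩⟩

/-- Every fixed Weyl element is a product of the orbit elements. -/
theorem weylFix_induction {P : Equiv.Perm (Fin D.nroots) → Prop} (one : P 1)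
    (mul : ∀ o, ∀ v' ∈ T.weylFix, P v' →
      (∀ a : Fin D.nroots, half D ≤ a.val → g.SuppIn (S.J o) a → half D ≤ (v'⁻¹ a).val) →
      P (S.w o * v'))
    {v : Equiv.Perm (Fin D.nroots)} (hv : v ∈ T.weylFix) : P v := by
  induction' hk : ninv D v using Nat.strong_induction_on with k ih generalizing v
  by_cases h1 : v = 1
  · exact h1 ▸ one
  obtain ⟨o, v', hv', rfl, hpos⟩ := S.exists_split hv h1
  obtain ⟨h2, h3⟩ := S.ninv_split (T.mem_weylFix.1 hv').1 o hpos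
  exact mul o v' hv' (ih _ (by omega) hv' rfl) hpos

theorem exists_rep {v : Equiv.Perm (Fin D.nroots)} (hv : v ∈ T.weylFix) :
    ∃ n ∈ S.G1, n ∈ D.monomialSubgroup F ∧ g.Acts n v :=
  S.weylFix_induction (P := fun v => ∃ n ∈ S.G1, n ∈ D.monomialSubgroup F ∧ g.Acts n v)
    ⟨1, one_mem _, one_mem _, g.acts_one⟩
    (fun o _ _ ⟨n, h1, h2, h3⟩ _ => ⟨S.n o * n, mul_mem (S.n_mem o) h1,
      mul_mem (S.n_monomial o) h2, g.acts_mul (S.n_acts o) h3⟩) hv

/-- The two factors of the fixed part of `U_w⁻`. -/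
lemma fixedMinus_split (hc : HasComm D) (o : Fin S.r) {v' : Equiv.Perm (Fin D.nroots)}
    (hv : v' ∈ T.weylFix)
    (hpos : ∀ a : Fin D.nroots, half D ≤ a.val → g.SuppIn (S.J o) a → half D ≤ (v'⁻¹ a).val)
    {m : GL D.Idx F} (hm : m ∈ S.G1) (hmm : m ∈ D.monomialSubgroup F) (hma : g.Acts m v') :
    ∃ e : ↥(T.fixedMinus (S.w o)) × ↥(T.fixedMinus v') ≃ ↥(T.fixedMinus (S.w o * v')),
      ∀ p, (e p : GL D.Idx F) = m⁻¹ * p.1 * m * p.2 := by
  have hvw := (T.mem_weylFix.1 hv).1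
  have hmo : g.Acts (S.n o * m) (S.w o * v') := g.acts_mul (S.n_acts o) hma
  have hmfix : m ∈ T.fixed := S.le_fixed hm
  have hsub : rootGen D F (minusSet v') ≤ rootGen D F (minusSet (S.w o * v')) := by
    refine g.rootGen_mono fun r hr hr' => ?_
    obtain ⟨_, h1, h2⟩ := hr
    refine ⟨hr', h1, ?_⟩
    set a : Fin D.nroots := ⟨r, hr'⟩
    show (S.w o (v' a)).val < half D
    by_contra hcon
    set c := g.nroot (v' a) with hc
    have hcp : half D ≤ c.val := (g.nroot_pos_iff _).2 h2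
    have hcs : g.SuppIn (S.J o) c := by
      by_contra hs
      have := g.pos_of_not_supp (S.w_mem o) hcp hs
      rw [hc, g.weyl_nroot (S.w_weyl o), g.nroot_pos_iff] at this
      omega
    have h3 := hpos c hcp hcs
    rw [hc, g.weyl_nroot (inv_mem hvw), g.nroot_pos_iff,
      show v'⁻¹ (v' a) = a from v'.symm_apply_apply a] at h3
    have : half D ≤ a.val := h1
    omega
  have hconjpos : ∀ y ∈ rootGen D F (minusSet (S.w o)),
      m⁻¹ * y * m ∈ rootGen D F (plusSet v') := by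
    intro y hy
    have := g.conj_rootGen (g.acts_inv hma) (S := minusSet (S.w o)) (T := plusSet v') (fun s hs => ?_)
      (Subgroup.mem_map_of_mem (MulAut.conj m⁻¹).toMonoidHom hy)
    · simpa using this
    · obtain ⟨_, h1, h2⟩ := hs
      refine ⟨Fin.isLt _, hpos s h1 ((S.minus_iff o s).1 ⟨h1, h2⟩).2, ?_⟩
      show half D ≤ (v' (v'⁻¹ s)).val
      rw [show v' (v'⁻¹ s) = s from v'.apply_symm_apply s]
      exact h1
  have hin : ∀ p : ↥(T.fixedMinus (S.w o)) × ↥(T.fixedMinus v'),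
      m⁻¹ * (p.1 : GL D.Idx F) * m * p.2 ∈ T.fixedMinus (S.w o * v') := by
    intro p
    refine Subgroup.mem_inf.2 ⟨mul_mem (mul_mem (mul_mem (inv_mem hmfix) p.1.2.1) hmfix) p.2.2.1,
      mul_mem ((g.mem_minus_iff hc hmo).2 ⟨?_, ?_⟩) (hsub p.2.2.2)⟩
    · rw [g.posUnipotent_eq]
      exact g.rootGen_mono (fun r hr _ => by obtain ⟨_, h, _⟩ := hr; exact h)
        (hconjpos _ p.1.2.2)
    · rw [show S.n o * m * (m⁻¹ * (p.1 : GL D.Idx F) * m) * (S.n o * m)⁻¹ =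
        S.n o * p.1 * (S.n o)⁻¹ by group]
      exact g.conj_minus_le (S.n_acts o) p.1.2.2
  refine ⟨Equiv.ofBijective (fun p => ⟨_, hin p⟩) ⟨fun p q hpq => ?_, fun x => ?_⟩, fun p => rfl⟩
  · have he : m⁻¹ * (p.1 : GL D.Idx F) * m * p.2 = m⁻¹ * q.1 * m * q.2 := congrArg Subtype.val hpq
    set d : GL D.Idx F := (q.2 : GL D.Idx F) * (p.2 : GL D.Idx F)⁻¹ with hd
    have hd1 : d ∈ rootGen D F (plusSet v') := by
      have : d = (m⁻¹ * q.1 * m)⁻¹ * (m⁻¹ * p.1 * m) := by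
        rw [hd, eq_inv_mul_iff_mul_eq, ← mul_assoc, ← he]; group
      rw [this]
      exact mul_mem (inv_mem (hconjpos _ q.1.2.2)) (hconjpos _ p.1.2.2)
    have hd2 : d ∈ rootGen D F (minusSet v') := mul_mem q.2.2.2 (inv_mem p.2.2.2)
    have h3 : m * d * m⁻¹ ∈ D.borelSubgroup F ⊓ D.negUnipotent F :=
      Subgroup.mem_inf.2 ⟨Subgroup.mem_sup_left (g.conj_plus_le hma hd1), g.conj_minus_le hma hd2⟩
    rw [g.borel_inf_neg, Subgroup.mem_bot, conj_eq_one_iff, hd, mul_inv_eq_one] at h3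
    rw [h3] at he
    exact Prod.ext (Subtype.ext (mul_left_cancel (mul_right_cancel (mul_right_cancel he))))
      (Subtype.ext h3.symm)
  · obtain ⟨x, hxf, hxM⟩ := x
    obtain ⟨a, ha, d, hd, he⟩ := g.pos_split hc v' (g.minus_le_pos _ hxM)
    have haM : a ∈ rootGen D F (minusSet (S.w o * v')) := by
      rw [show a = x * d⁻¹ by rw [he]; group]
      exact mul_mem hxM (inv_mem (hsub hd))
    have hy : m * a * m⁻¹ ∈ rootGen D F (minusSet (S.w o)) := by
      refine (g.mem_minus_iff hc (S.n_acts o)).2 ⟨g.conj_plus_le hma ha, ?_⟩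
      rw [show S.n o * (m * a * m⁻¹) * (S.n o)⁻¹ = S.n o * m * a * (S.n o * m)⁻¹ by group]
      exact g.conj_minus_le hmo haM
    -- both factors are fixed
    let aG : ↥(D.group F) := ⟨a, g.posUnipotent_le_group (g.minus_le_pos _ haM)⟩
    let dG : ↥(D.group F) := ⟨d, g.posUnipotent_le_group (g.minus_le_pos _ hd)⟩
    have hxG : (x : GL D.Idx F) = ((aG * dG : ↥(D.group F)) : GL D.Idx F) := he
    have hfix : T.σ aG * T.σ dG = aG * dG := by
      rw [← map_mul]; exact (T.mem_fixed _).1 (hxG ▸ hxf)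
    have hcomm := (T.mem_weylFix.1 hv).2
    have h4 : (aG : GL D.Idx F)⁻¹ * T.σ aG ∈ rootGen D F (plusSet v') :=
      mul_mem (inv_mem ha) (T.σ_plus hcomm ha)
    have h5 : (aG : GL D.Idx F)⁻¹ * T.σ aG ∈ rootGen D F (minusSet v') := by
      have : (aG : GL D.Idx F)⁻¹ * T.σ aG = dG * (T.σ dG : GL D.Idx F)⁻¹ := by
        rw [eq_mul_inv_iff_mul_eq, mul_assoc, ← Subgroup.coe_mul, hfix, Subgroup.coe_mul,
          inv_mul_cancel_left]
      rw [this]
      exact mul_mem hd (inv_mem (T.σ_minus hcomm hd))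
    have h6 : m * ((aG : GL D.Idx F)⁻¹ * T.σ aG) * m⁻¹ ∈ D.borelSubgroup F ⊓ D.negUnipotent F :=
      Subgroup.mem_inf.2 ⟨Subgroup.mem_sup_left (g.conj_plus_le hma h4), g.conj_minus_le hma h5⟩
    rw [g.borel_inf_neg, Subgroup.mem_bot, conj_eq_one_iff, inv_mul_eq_one] at h6
    have hafix : a ∈ T.fixed := (T.mem_fixed aG).2 (Subtype.ext h6.symm)
    have hdfix : d ∈ T.fixed := by
      rw [show d = a⁻¹ * x by rw [he]; group]
      exact mul_mem (inv_mem hafix) hxf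
    refine ⟨(⟨m * a * m⁻¹, Subgroup.mem_inf.2
      ⟨mul_mem (mul_mem hmfix hafix) (inv_mem hmfix), hy⟩⟩,
      ⟨d, Subgroup.mem_inf.2 ⟨hdfix, hd⟩⟩), Subtype.ext ?_⟩
    show m⁻¹ * (m * a * m⁻¹) * m * d = x
    rw [he]; group

theorem fixedMinus_le (hc : HasComm D) {v : Equiv.Perm (Fin D.nroots)} (hv : v ∈ T.weylFix) :
    T.fixedMinus v ≤ S.G1 := by
  refine S.weylFix_induction (P := fun v => T.fixedMinus v ≤ S.G1) ?_ ?_ hv
  · intro x hx
    have : x ∈ D.borelSubgroup F ⊓ D.negUnipotent F := by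
      refine Subgroup.mem_inf.2 ⟨Subgroup.mem_sup_left (g.minus_le_pos _ hx.2), ?_⟩
      simpa using g.conj_minus_le g.acts_one hx.2
    rw [g.borel_inf_neg, Subgroup.mem_bot] at this
    rw [this]; exact one_mem _
  · intro o v' hv' ih hpos x hx
    obtain ⟨m, hm, hmm, hma⟩ := S.exists_rep hv'
    obtain ⟨e, he⟩ := S.fixedMinus_split hc o hv' hpos hm hmm hma
    obtain ⟨p, hp⟩ := e.surjective ⟨x, hx⟩
    rw [show x = (e p : GL D.Idx F) by rw [hp], he]
    exact mul_mem (mul_mem (mul_mem (inv_mem hm) (S.base o p.1.2)) hm) (ih p.2.2)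

theorem card_fixedMinus (hc : HasComm D) {k q : ℕ}
    (h0 : ∀ o, Nat.card (T.fixedMinus (S.w o)) ^ k = q ^ ninv D (S.w o))
    {v : Equiv.Perm (Fin D.nroots)} (hv : v ∈ T.weylFix) :
    Nat.card (T.fixedMinus v) ^ k = q ^ ninv D v := by
  refine S.weylFix_induction (P := fun v => Nat.card (T.fixedMinus v) ^ k = q ^ ninv D v) ?_ ?_ hv
  · have hbot : T.fixedMinus (1 : Equiv.Perm (Fin D.nroots)) = ⊥ := by
      refine le_bot_iff.1 fun x hx => ?_
      have : x ∈ D.borelSubgroup F ⊓ D.negUnipotent F := by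
        refine Subgroup.mem_inf.2 ⟨Subgroup.mem_sup_left (g.minus_le_pos _ hx.2), ?_⟩
        simpa using g.conj_minus_le g.acts_one hx.2
      rwa [g.borel_inf_neg] at this
    rw [hbot, Subgroup.card_bot, one_pow, g.ninv_one, pow_zero]
  · intro o v' hv' ih hpos
    obtain ⟨m, hm, hmm, hma⟩ := S.exists_rep hv'
    obtain ⟨e, -⟩ := S.fixedMinus_split hc o hv' hpos hm hmm hma
    rw [← Nat.card_congr e, Nat.card_prod, mul_pow, h0, ih, ← pow_add,
      (S.ninv_split (T.mem_weylFix.1 hv').1 o hpos).1]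

/-- `U¹ = U ∩ G¹` consists of all fixed points of `U`. -/
theorem pos_inf_eq (hc : HasComm D) : D.posUnipotent F ⊓ S.G1 = D.posUnipotent F ⊓ T.fixed := by
  refine le_antisymm (inf_le_inf_left _ S.le_fixed) fun x hx => Subgroup.mem_inf.2 ⟨hx.1, ?_⟩
  obtain ⟨w₀, hw₀, hms, -⟩ := T.exists_longest_fixed
  refine S.fixedMinus_le hc hw₀ (Subgroup.mem_inf.2 ⟨hx.2, ?_⟩)
  have h1 := hx.1
  rw [g.posUnipotent_eq] at h1
  exact g.rootGen_mono (fun r hr hr' => hms ▸ (⟨hr', hr⟩ : r < D.nroots ∧ half D ≤ r)) h1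

theorem card_pos_inf (hc : HasComm D) {k q : ℕ}
    (h0 : ∀ o, Nat.card (T.fixedMinus (S.w o)) ^ k = q ^ ninv D (S.w o)) :
    Nat.card ↥(D.posUnipotent F ⊓ S.G1) ^ k = q ^ (D.nroots / 2) := by
  obtain ⟨w₀, hw₀, hms, hn⟩ := T.exists_longest_fixed
  have e : D.posUnipotent F ⊓ S.G1 = T.fixedMinus w₀ := by
    rw [S.pos_inf_eq hc, Twist.fixedMinus, inf_comm, g.posUnipotent_eq, hms]
    congr 1
    refine le_antisymm (g.rootGen_mono fun r hr hr' => ⟨hr', hr⟩) (g.rootGen_mono fun r hr _ => hr.2)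
  rw [e, S.card_fixedMinus hc h0 hw₀, hn]

/-- The canonical form in the twisted group. -/
theorem exists_canonical (hc : HasComm D) {x : GL D.Idx F} (hx : x ∈ S.G1) :
    ∃ v ∈ T.weylFix, ∃ n ∈ S.G1, n ∈ D.monomialSubgroup F ∧ g.Acts n v ∧
      ∃ b ∈ D.borelSubgroup F ⊓ S.G1, ∃ u ∈ T.fixedMinus v, x = b * n * u := by
  obtain ⟨b, hb, n, hn, v, hv, hnv, u, hu, he⟩ := g.exists_canonical hc (S.le_group hx)
  let bG : ↥(D.group F) := ⟨b, g.borel_le_group hb⟩
  let nG : ↥(D.group F) := ⟨n, g.monomial_le_group hn⟩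
  let uG : ↥(D.group F) := ⟨u, g.posUnipotent_le_group (g.minus_le_pos _ hu)⟩
  have hxfix : T.σ (bG * nG * uG) = bG * nG * uG :=
    (T.mem_fixed (bG * nG * uG)).1 (by
      show b * n * u ∈ T.fixed
      rw [← he]; exact S.le_fixed hx)
  obtain ⟨hcomm, hufix, -⟩ := T.canonical_fixed hc (b := bG) (n := nG) (u := uG) hb hn hnv hu hxfix
  have hvF : v ∈ T.weylFix := T.mem_weylFix.2 ⟨hv, hcomm⟩
  have huM : u ∈ T.fixedMinus v := Subgroup.mem_inf.2 ⟨(T.mem_fixed uG).2 hufix, hu⟩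
  obtain ⟨m, hm, hmm, hma⟩ := S.exists_rep hvF
  have hbB : b * (n * m⁻¹) ∈ D.borelSubgroup F :=
    mul_mem hb (Subgroup.mem_sup_right (g.monomial_same_acts hn hmm hnv hma))
  refine ⟨v, hvF, m, hm, hmm, hma, b * (n * m⁻¹), Subgroup.mem_inf.2 ⟨hbB, ?_⟩, u, huM,
    by rw [he]; group⟩
  rw [show b * (n * m⁻¹) = x * u⁻¹ * m⁻¹ by rw [he]; group]
  exact mul_mem (mul_mem hx (inv_mem (S.fixedMinus_le hc hvF huM))) (inv_mem hm)

/-- `B¹ = U¹ H¹`. -/
theorem borel_inf_decomp (hc : HasComm D) {x : GL D.Idx F} (hx : x ∈ D.borelSubgroup F ⊓ S.G1) :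
    ∃ y ∈ D.posUnipotent F ⊓ S.G1, ∃ h ∈ D.diagonalSubgroup F ⊓ S.G1, x = y * h := by
  obtain ⟨y, hy, h, hh, he⟩ := g.mem_borel.1 hx.1
  let yG : ↥(D.group F) := ⟨y, g.posUnipotent_le_group hy⟩
  let hG : ↥(D.group F) := ⟨h, g.diagonal_le_group hh⟩
  have hfix : T.σ yG * T.σ hG = yG * hG := by
    rw [← map_mul]
    exact (T.mem_fixed (yG * hG)).1 (by
      show y * h ∈ T.fixed
      rw [he]; exact S.le_fixed hx.2)
  have h1 : (yG : GL D.Idx F)⁻¹ * T.σ yG ∈ D.posUnipotent F ⊓ D.diagonalSubgroup F := by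
    refine Subgroup.mem_inf.2 ⟨mul_mem (inv_mem hy) (T.σ_pos hy), ?_⟩
    have : (yG : GL D.Idx F)⁻¹ * T.σ yG = hG * (T.σ hG : GL D.Idx F)⁻¹ := by
      rw [eq_mul_inv_iff_mul_eq, mul_assoc, ← Subgroup.coe_mul, hfix, Subgroup.coe_mul,
        inv_mul_cancel_left]
    rw [this]
    exact mul_mem hh (inv_mem (T.σ_diag hh))
  rw [g.pos_inf_diagonal, Subgroup.mem_bot, inv_mul_eq_one] at h1
  have hyG1 : y ∈ S.G1 := by
    have : y ∈ D.posUnipotent F ⊓ S.G1 := by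
      rw [S.pos_inf_eq hc]
      exact Subgroup.mem_inf.2 ⟨hy, (T.mem_fixed yG).2 (Subtype.ext h1.symm)⟩
    exact this.2
  refine ⟨y, Subgroup.mem_inf.2 ⟨hy, hyG1⟩, h, Subgroup.mem_inf.2 ⟨hh, ?_⟩, he.symm⟩
  rw [show h = y⁻¹ * x by rw [← he]; group]
  exact mul_mem (inv_mem hyG1) hx.2

end TwistSys

end CfsgLib.Chev
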