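import Mathlib
import Cfsg.Agent.Lib.Chev.TwistGroup
import Cfsg.Agent.Lib.Chev.RhoPerm
import Cfsg.Agent.Lib.Chev.Simple

/-!
Orbits of pairwise orthogonal fundamental roots.
-/

set_option autoImplicit false
set_option maxHeartbeats 400000

namespace CfsgLib.Chev

open Cfsg.Lie

/-- The image of a root under a word of fundamental reflections. -/
noncomputable def reflWord (sd : StructData) (ls : List ℕ) (a : ℕ) : ℕ :=
  List.rec a (fun i _ ih => refl sd i ih) ls

/-- Membership by the recursor. -/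
noncomputable def memR (x : ℕ) (ls : List ℕ) : Bool := anyR (fun y => Nat.beq x y) ls

/-- The iterate by the recursor. -/
noncomputable def iterR (l : List ℕ) (k i : ℕ) : ℕ := Nat.rec i (fun _ ih => nth 0 l ih) k

/-- An orbit of pairwise orthogonal fundamental roots. -/
noncomputable def orbA1OK (D : ChevalleyDatum) (dat : LieData) (sd : StructData) (R : RhoData)
    (ls : List ℕ) : Bool :=
  !(Nat.beq ls.length 0) &&
  allR (fun i => Nat.blt i D.rank && memR (nth 0 R.pi i) ls &&
    allR (fun j => anyR (fun k => Nat.beq (iterR R.pi k i) j) [0, 1, 2, 3] &&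
      (Nat.beq i j ||
        (Nat.beq (fterms D (fsimple dat i) (fsimple dat j)).length 0 &&
          Nat.beq (fterms D (fneg D (fsimple dat i)) (fneg D (fsimple dat j))).length 0 &&
          Nat.beq (fterms D (fsimple dat i) (fneg D (fsimple dat j))).length 0 &&
          !(Nat.beq (fsimple dat i) (fneg D (fsimple dat j)))))) ls) ls &&
  allR (fun a => Nat.blt a (half D) ||
    (Nat.beq (nth 0 R.ρ (reflWord sd ls a)) (reflWord sd ls (nth 0 R.ρ a)) &&
     (!(allR (fun q => memR q ls || Int.beq' (rootCo dat a q) 0) (upto D.rank)) ||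
        (Nat.blt (reflWord sd ls a) (half D) && anyR (fun i => Nat.beq a (fsimple dat i)) ls))))
    (upto D.nroots) &&
  List.rec true (fun i rest ih => allR (fun j => Nat.blt (fsimple dat i) (fsimple dat j)) rest && ih) ls

lemma memR_iff {x : ℕ} {ls : List ℕ} : memR x ls = true ↔ x ∈ ls := by
  induction ls with
  | nil => simp [memR, anyR]
  | cons a l ih =>
    rw [show memR x (a :: l) = (Nat.beq x a || memR x l) from rfl, Bool.or_eq_true, Nat.beq_eq, ih,
      List.mem_cons]

lemma exists_of_anyR {α : Type} {f : α → Bool} {L : List α} (h : anyR f L = true) :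
    ∃ x ∈ L, f x = true := by
  induction L with
  | nil => simp [anyR] at h
  | cons a L ih =>
    have h' : (f a || anyR f L) = true := h
    rw [Bool.or_eq_true] at h'
    rcases h' with h' | h'
    · exact ⟨a, by simp, h'⟩
    · obtain ⟨x, hx, hx'⟩ := ih h'
      exact ⟨x, by simp [hx], hx'⟩

variable {D : ChevalleyDatum} {F : Type*} [Field F]

namespace Good

variable (g : Good D)
include g

/-- The product of the root elements of a list. -/
noncomputable def xList (e : Fin D.rank → Fin D.nroots) (l : List (Fin D.rank))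
    (t : Fin D.rank → F) : GL D.Idx F :=
  (l.map fun i => g.xG (e i) (t i)).prod

lemma xList_cons (e : Fin D.rank → Fin D.nroots) (i : Fin D.rank) (l : List (Fin D.rank))
    (t : Fin D.rank → F) : g.xList e (i :: l) t = g.xG (e i) (t i) * g.xList e l t := by
  simp [xList]

lemma xG_commute (hc : HasComm D) {r s : ℕ} (hr : r < D.nroots) (hs : s < D.nroots)
    (hrs : s ≠ r) (hneg : s ≠ D.neg r) (h : fterms D r s = []) (t u : F) :
    Commute (g.xG r t) (g.xG s u) := by
  have h1 := g.comm_formula hc hr hs hrs hneg t u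
  simp only [ChevalleyDatum.commWord, ← g.fterms_eq hr hs, h, ChevalleyDatum.wordMat, List.map_nil,
    List.prod_nil, mul_one] at h1
  exact Units.ext (by simpa [coe_xG] using h1.symm)

lemma xList_commute {e : Fin D.rank → Fin D.nroots} {l : List (Fin D.rank)}
    {x : GL D.Idx F} (h : ∀ i ∈ l, ∀ u : F, Commute x (g.xG (e i) u)) (t : Fin D.rank → F) :
    Commute x (g.xList e l t) := by
  induction l with
  | nil => simp [xList]
  | cons i l ih =>
    rw [xList_cons]
    exact (h i (by simp) _).mul_right (ih fun j hj => h j (List.mem_cons_of_mem _ hj))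

lemma xList_add {e : Fin D.rank → Fin D.nroots} {l : List (Fin D.rank)} (hnd : l.Nodup)
    (hcomm : ∀ i ∈ l, ∀ j ∈ l, i ≠ j → ∀ t u : F, Commute (g.xG (e i) t) (g.xG (e j) u))
    (t u : Fin D.rank → F) : g.xList e l t * g.xList e l u = g.xList e l (t + u) := by
  induction l with
  | nil => simp [xList]
  | cons i l ih =>
    rw [List.nodup_cons] at hnd
    have hc : Commute (g.xList e l t) (g.xG (e i) (u i)) :=
      (g.xList_commute (fun j hj v => hcomm i (by simp) j (List.mem_cons_of_mem _ hj)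
        (fun h => hnd.1 (h ▸ hj)) _ v) t).symm
    rw [xList_cons, xList_cons, xList_cons, ← ih hnd.2 (fun a ha b hb => hcomm a
      (List.mem_cons_of_mem _ ha) b (List.mem_cons_of_mem _ hb)), Pi.add_apply, ← g.xG_add]
    calc g.xG (e i) (t i) * g.xList e l t * (g.xG (e i) (u i) * g.xList e l u)
        = g.xG (e i) (t i) * (g.xList e l t * g.xG (e i) (u i)) * g.xList e l u := by group
      _ = _ := by rw [hc.eq]; group

lemma xList_congr {e : Fin D.rank → Fin D.nroots} {l : List (Fin D.rank)}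
    {t u : Fin D.rank → F} (h : ∀ i ∈ l, t i = u i) : g.xList e l t = g.xList e l u :=
  congrArg List.prod (List.map_congr_left fun i hi => by rw [h i hi])

lemma xList_zero (e : Fin D.rank → Fin D.nroots) (l : List (Fin D.rank)) :
    g.xList e l (0 : Fin D.rank → F) = 1 := by
  induction l with
  | nil => rfl
  | cons i l ih => rw [xList_cons, ih, Pi.zero_apply, g.xG_zero, mul_one]

lemma xList_single (e : Fin D.rank → Fin D.nroots) {l : List (Fin D.rank)} (hnd : l.Nodup)
    {i : Fin D.rank} (hi : i ∈ l) (t : F) : g.xList e l (Pi.single i t) = g.xG (e i) t := by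
  induction l with
  | nil => simp at hi
  | cons j m ih =>
    rw [List.nodup_cons] at hnd
    rw [xList_cons]
    rcases List.mem_cons.1 hi with rfl | hi'
    · rw [g.xList_congr (t := Pi.single i t) (u := (0 : Fin D.rank → F)) (fun k hk => by
          rw [Pi.single_eq_of_ne (fun e : k = i => hnd.1 (e ▸ hk))]; rfl),
        g.xList_zero, Pi.single_eq_same, mul_one]
    · rw [Pi.single_eq_of_ne (fun e : j = i => hnd.1 (e ▸ hi')), g.xG_zero, one_mul, ih hnd.2 hi']

lemma neg_inj {r s : ℕ} (hr : r < D.nroots) (hs : s < D.nroots) (h : D.neg r = D.neg s) :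
    r = s := by
  rw [← g.neg_neg hr, h, g.neg_neg hs]

lemma xList_inj (hc : HasComm D) {l : List (Fin D.rank)}
    (hsorted : l.Pairwise fun i j => (g.sroot i).val < (g.sroot j).val)
    {t u : Fin D.rank → F} (h : g.xList g.sroot l t = g.xList g.sroot l u) :
    ∀ i ∈ l, t i = u i := by
  induction l with
  | nil => intro i hi; simp at hi
  | cons a l ih =>
    rw [List.pairwise_cons] at hsorted
    rw [xList_cons, xList_cons] at h
    have hmem : ∀ v : Fin D.rank → F,
        g.xList g.sroot l v ∈ rootGen D F (Set.Ici ((g.sroot a).val + 1)) := fun v =>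
      Subgroup.list_prod_mem _ fun x hx => by
        obtain ⟨j, hj, rfl⟩ := List.mem_map.1 hx
        exact g.mem_rootGen (Fin.isLt _)
          (show (g.sroot j : ℕ) ∈ Set.Ici ((g.sroot a).val + 1) from hsorted.1 j hj) _
    obtain ⟨h1, h2⟩ := g.Ici_unique (g.sroot_pos a) (Fin.isLt _) (hmem t) (hmem u) h
    intro i hi
    rcases List.mem_cons.1 hi with rfl | hi
    · exact h1
    · exact ih hsorted.2 h2 i hi

lemma wordN_eq_xList {l : List (Fin D.rank)} (hnd : l.Nodup)
    (hpp : ∀ i ∈ l, ∀ j ∈ l, i ≠ j → ∀ t u : F,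
      Commute (g.xG (g.sroot i) t) (g.xG (g.sroot j) u))
    (hpn : ∀ i ∈ l, ∀ j ∈ l, i ≠ j → ∀ t u : F,
      Commute (g.xG (g.sroot i) t) (g.xG (g.nroot (g.sroot j)) u)) :
    g.wordN l = g.xList g.sroot l (fun _ => (1 : F)) *
      g.xList (fun i => g.nroot (g.sroot i)) l (fun _ => (-1 : F)) *
      g.xList g.sroot l (fun _ => (1 : F)) := by
  induction l with
  | nil => simp [g.wordN_nil, xList]
  | cons i l ih =>
    rw [List.nodup_cons] at hnd
    have hne : ∀ j ∈ l, i ≠ j := fun j hj h => hnd.1 (h ▸ hj)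
    rw [g.wordN_cons, ih hnd.2 (fun a ha b hb => hpp a (List.mem_cons_of_mem _ ha) b
      (List.mem_cons_of_mem _ hb)) (fun a ha b hb => hpn a (List.mem_cons_of_mem _ ha) b
      (List.mem_cons_of_mem _ hb)), xList_cons, xList_cons]
    set A := g.xList g.sroot l (fun _ => (1 : F))
    set B := g.xList (fun i => g.nroot (g.sroot i)) l (fun _ => (-1 : F))
    set a := g.xG (g.sroot i : ℕ) (1 : F)
    set b := g.xG (g.nroot (g.sroot i) : ℕ) (-1 : F)
    have hn : g.nI i = a * b * a := by
      rw [Good.nI, Good.nG]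
      simp [a, b, nroot, sroot]
    have haA : Commute a A := g.xList_commute (fun j hj u => hpp i (by simp) j
      (List.mem_cons_of_mem _ hj) (hne j hj) _ u) _
    have haB : Commute a B := g.xList_commute (fun j hj u => hpn i (by simp) j
      (List.mem_cons_of_mem _ hj) (hne j hj) _ u) _
    have hbA : Commute b A := g.xList_commute (fun j hj u => (hpn j (List.mem_cons_of_mem _ hj) i
      (by simp) (hne j hj).symm u _).symm) _
    rw [hn]
    calc a * b * a * (A * B * A) = a * b * ((a * A) * B) * A := by group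
      _ = a * b * (A * (B * a)) * A := by rw [haA.eq, mul_assoc A a B, haB.eq]
      _ = a * (b * A) * B * (a * A) := by group
      _ = a * A * (b * B) * (a * A) := by rw [hbA.eq]; group

end Good

/-- The facts about a checked orbit. -/
structure OrbitA1 (g : Good D) (S : RootSym g) (l : List (Fin D.rank)) : Prop where
  ne : l ≠ []
  pi_mem : ∀ i ∈ l, S.pi i ∈ l
  trans : ∀ P : Fin D.rank → Prop, (∀ i, P i → P (S.pi i)) → ∀ i ∈ l, P i → ∀ j ∈ l, P j
  pp : ∀ i ∈ l, ∀ j ∈ l, i ≠ j → fterms D (g.sroot i) (g.sroot j) = []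
  nn : ∀ i ∈ l, ∀ j ∈ l, i ≠ j → fterms D (g.nroot (g.sroot i)) (g.nroot (g.sroot j)) = []
  pn : ∀ i ∈ l, ∀ j ∈ l, i ≠ j → fterms D (g.sroot i) (g.nroot (g.sroot j)) = []
  pn_ne : ∀ i ∈ l, ∀ j ∈ l, i ≠ j → (g.nroot (g.sroot j)).val ≠ (g.sroot i).val
  sorted : l.Pairwise fun i j => (g.sroot i).val < (g.sroot j).val
  neg : ∀ a : Fin D.nroots, half D ≤ a.val → g.SuppIn {i | ∃ j ∈ l, (j : ℕ) = i} a →
    (g.wperm l a).val < half D ∧ ∃ i ∈ l, a = g.sroot i
  comm : S.ρ * g.wperm l = g.wperm l * S.ρ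

lemma orbitA1_of_check (g : Good D) {dat : LieData} {sd : StructData} {R : RhoData}
    (hl : LieChecks D dat) (hs : StructChecks D dat sd) (hR : rhoOK D dat sd R = true)
    (l : List (Fin D.rank)) (h : orbA1OK D dat sd R (l.map Fin.val) = true) :
    OrbitA1 g (rootSymOf g hl hs hR) l := by
  simp only [orbA1OK, Bool.and_eq_true, Bool.not_eq_true', ← Bool.not_eq_true, Nat.beq_eq,
    List.length_map] at h
  obtain ⟨⟨⟨hne, h1⟩, h2⟩, h3⟩ := h
  have hmem : ∀ {i : Fin D.rank}, i ∈ l → (i : ℕ) ∈ l.map Fin.val := fun hi =>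
    List.mem_map_of_mem hi
  have hsimp : ∀ i : Fin D.rank, (g.sroot i).val = fsimple dat i := fun i => (hl.simple_facts i.2).1
  have hneg : ∀ a : Fin D.nroots, (g.nroot a).val = fneg D a := fun a => neg_eq g.lie.pack a.2
  have hi1 : ∀ i ∈ l, (memR (nth 0 R.pi (i : ℕ)) (l.map Fin.val) = true) ∧
      ∀ j ∈ l, (∃ k ∈ [0, 1, 2, 3], iterR R.pi k i = (j : ℕ)) ∧ (i ≠ j →
        fterms D (g.sroot i) (g.sroot j) = [] ∧
        fterms D (g.nroot (g.sroot i)) (g.nroot (g.sroot j)) = [] ∧
        fterms D (g.sroot i) (g.nroot (g.sroot j)) = [] ∧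
        (g.nroot (g.sroot j)).val ≠ (g.sroot i).val) := by
    intro i hi
    have := allR_true h1 (hmem hi)
    simp only [Bool.and_eq_true] at this
    refine ⟨this.1.2, fun j hj => ?_⟩
    have h' := allR_true this.2 (hmem hj)
    simp only [Bool.and_eq_true, Bool.or_eq_true, Nat.beq_eq, Bool.not_eq_true', ← Bool.not_eq_true,
      List.length_eq_zero_iff] at h'
    obtain ⟨k, hk, hk'⟩ := exists_of_anyR h'.1
    refine ⟨⟨k, hk, Nat.beq_eq.mp hk'⟩, fun hij => ?_⟩
    obtain ⟨⟨⟨ha, hb⟩, hc⟩, hd⟩ := h'.2.resolve_left fun e => hij (Fin.ext e)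
    simp only [hneg, hsimp]
    exact ⟨ha, hb, hc, fun e => hd e.symm⟩
  have hrw : ∀ (m : List (Fin D.rank)) (a : Fin D.nroots),
      (g.wperm m a).val = reflWord sd (m.map Fin.val) a := by
    intro m a
    induction m with
    | nil => rfl
    | cons i m ih =>
      rw [g.wperm_cons, Equiv.Perm.mul_apply, g.rperm_val,
        (StructChecks.refl_facts hl hs i.2 (Fin.isLt _)).1, ih]
      rfl
  refine ⟨fun e => hne (by simp [e]), fun i hi => ?_, fun P hP i hi hPi j hj => ?_,
    fun i hi j hj hij => ((hi1 i hi).2 j hj).2 hij |>.1,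
    fun i hi j hj hij => ((hi1 i hi).2 j hj).2 hij |>.2.1,
    fun i hi j hj hij => ((hi1 i hi).2 j hj).2 hij |>.2.2.1,
    fun i hi j hj hij => ((hi1 i hi).2 j hj).2 hij |>.2.2.2, ?_, fun a ha hsupp => ?_, ?_⟩
  · obtain ⟨j, hj, hje⟩ := List.mem_map.1 (memR_iff.1 (hi1 i hi).1)
    rwa [show (rootSymOf g hl hs hR).pi i = j from Fin.ext hje.symm]
  · obtain ⟨k, -, hk⟩ := ((hi1 i hi).2 j hj).1
    have key : ∀ k, ∃ q : Fin D.rank, iterR R.pi k i = q ∧ P q := by
      intro k
      induction k with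
      | zero => exact ⟨i, rfl, hPi⟩
      | succ k ih =>
        obtain ⟨q, hq, hPq⟩ := ih
        exact ⟨(rootSymOf g hl hs hR).pi q, by show nth 0 R.pi (iterR R.pi k i) = _; rw [hq]; rfl,
          hP q hPq⟩
    obtain ⟨q, hq, hPq⟩ := key k
    rwa [show j = q from Fin.ext (hk.symm.trans hq)]
  · have key : ∀ m : List (Fin D.rank),
        (List.rec true (fun i rest ih => allR (fun j => Nat.blt (fsimple dat i) (fsimple dat j)) rest
          && ih) (m.map Fin.val) : Bool) = true →
        m.Pairwise fun i j => (g.sroot i).val < (g.sroot j).val := by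
      intro m
      induction m with
      | nil => simp
      | cons a m ih =>
        intro h
        simp only [List.map_cons, Bool.and_eq_true] at h
        refine List.pairwise_cons.2 ⟨fun b hb => ?_, ih h.2⟩
        rw [hsimp, hsimp]
        exact Nat.blt_eq.mp (allR_true h.1 (List.mem_map_of_mem hb))
    exact key l h3
  · have := allR_upto h2 a.2
    simp only [Bool.or_eq_true, Bool.and_eq_true, Nat.blt_eq, Bool.not_eq_true'] at this
    obtain ⟨-, h4⟩ := this.resolve_left (by omega)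
    have hall : allR (fun q => memR q (l.map Fin.val) || Int.beq' (rootCo dat a q) 0)
        (upto D.rank) = true := by
      rw [allR_eq, List.all_eq_true]
      intro q hq
      have hq' : q < D.rank := lt_of_mem_upto hq
      rw [Bool.or_eq_true, memR_iff, Int.beq'_eq]
      by_cases hql : q ∈ l.map Fin.val
      · exact Or.inl hql
      · refine Or.inr ?_
        rw [g.co_eq hl hs a.2 hq']
        exact hsupp q hq' fun ⟨j, hj, hje⟩ => hql (List.mem_map.2 ⟨j, hj, hje⟩)
    rcases h4 with h4 | ⟨h4, h5⟩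
    · rw [hall] at h4; exact absurd h4 (by simp)
    · refine ⟨by rw [hrw]; exact h4, ?_⟩
      obtain ⟨i, hi, hie⟩ := exists_of_anyR h5
      obtain ⟨j, hj, rfl⟩ := List.mem_map.1 hi
      exact ⟨j, hj, Fin.ext (by rw [hsimp]; exact Nat.beq_eq.mp hie)⟩
  · refine Equiv.ext fun a => ?_
    have hpos : ∀ a : Fin D.nroots, half D ≤ a.val →
        ((rootSymOf g hl hs hR).ρ * g.wperm l) a = (g.wperm l * (rootSymOf g hl hs hR).ρ) a := by
      intro a ha
      have := allR_upto h2 a.2
      simp only [Bool.or_eq_true, Bool.and_eq_true, Nat.blt_eq, Nat.beq_eq] at this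
      obtain ⟨h4, -⟩ := this.resolve_left (by omega)
      refine Fin.ext ?_
      show nth 0 R.ρ (g.wperm l a).val = (g.wperm l ⟨nth 0 R.ρ a, (rho_facts hR a.2).1⟩).val
      rw [hrw, hrw]
      exact h4
    by_cases ha : half D ≤ a.val
    · exact hpos a ha
    · have h5 := congrArg g.nroot (hpos (g.nroot a) ((g.nroot_pos_iff a).2 (Nat.not_le.1 ha)))
      simp only [Equiv.Perm.mul_apply, g.wperm_nroot, (rootSymOf g hl hs hR).ρ_nroot,
        g.nroot_nroot] at h5 ⊢
      exact h5

/-- What is derived from an orbit. -/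
lemma OrbitA1.commutes {g : Good D} {S : RootSym g} {l : List (Fin D.rank)} (O : OrbitA1 g S l)
    (hc : HasComm D) :
    (∀ i ∈ l, ∀ j ∈ l, i ≠ j → ∀ t u : F, Commute (g.xG (g.sroot i) t) (g.xG (g.sroot j) u)) ∧
    (∀ i ∈ l, ∀ j ∈ l, i ≠ j → ∀ t u : F,
      Commute (g.xG (g.nroot (g.sroot i)) t) (g.xG (g.nroot (g.sroot j)) u)) ∧
    (∀ i ∈ l, ∀ j ∈ l, i ≠ j → ∀ t u : F,
      Commute (g.xG (g.sroot i) t) (g.xG (g.nroot (g.sroot j)) u)) := by
  refine ⟨fun i hi j hj hij t u => g.xG_commute hc (Fin.isLt _) (Fin.isLt _) ?_ ?_ (O.pp i hi j hj hij) t u,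
    fun i hi j hj hij t u => g.xG_commute hc (Fin.isLt _) (Fin.isLt _) ?_ ?_ (O.nn i hi j hj hij) t u,
    fun i hi j hj hij t u => g.xG_commute hc (Fin.isLt _) (Fin.isLt _) ?_ ?_ (O.pn i hi j hj hij) t u⟩
  · exact fun e => hij (g.sroot_injective (Fin.ext e)).symm
  · exact fun e => O.pn_ne j hj i hi hij.symm e.symm
  · exact fun e => hij (g.sroot_injective ((Fin.ext (g.neg_inj (Fin.isLt _) (Fin.isLt _) e)))).symm
  · intro e
    rw [show D.neg (g.nroot (g.sroot i) : ℕ) = g.sroot i from g.neg_neg (Fin.isLt _)] at e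
    exact O.pn_ne i hi j hj hij e
  · exact O.pn_ne i hi j hj hij
  · exact fun e => hij (g.sroot_injective (Fin.ext (g.neg_inj (Fin.isLt _) (Fin.isLt _) e))).symm

lemma OrbitA1.nodup {g : Good D} {S : RootSym g} {l : List (Fin D.rank)} (O : OrbitA1 g S l) :
    l.Nodup :=
  O.sorted.imp fun h e => by subst e; exact lt_irrefl _ h

lemma OrbitA1.minusSet_eq {g : Good D} {S : RootSym g} {l : List (Fin D.rank)}
    (O : OrbitA1 g S l) :
    minusSet (g.wperm l) = {r | ∃ i ∈ l, (g.sroot i).val = r} := by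
  have hmem : g.wperm l ∈ g.wJ {i | ∃ j ∈ l, (j : ℕ) = i} :=
    g.wperm_mem_wJ fun i hi => ⟨i, hi, rfl⟩
  ext r
  constructor
  · rintro ⟨hr, hp, hn⟩
    by_cases hs : g.SuppIn {i | ∃ j ∈ l, (j : ℕ) = i} ⟨r, hr⟩
    · obtain ⟨-, i, hi, e⟩ := O.neg ⟨r, hr⟩ hp hs
      exact ⟨i, hi, (congrArg Fin.val e).symm⟩
    · have := g.pos_of_not_supp hmem (a := ⟨r, hr⟩) hp hs
      omega
  · rintro ⟨i, hi, rfl⟩
    exact ⟨Fin.isLt _, g.sroot_pos i, (O.neg _ (g.sroot_pos i)
      (g.suppIn_sroot i (show (i : ℕ) ∈ {i | ∃ j ∈ l, (j : ℕ) = i} from ⟨i, hi, rfl⟩))).1⟩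

lemma OrbitA1.ninv_eq {g : Good D} {S : RootSym g} {l : List (Fin D.rank)}
    (O : OrbitA1 g S l) : ninv D (g.wperm l) = l.length := by
  classical
  have e : (Finset.univ.filter fun a : Fin D.nroots =>
      half D ≤ a.val ∧ (g.wperm l a).val < half D) = (l.map g.sroot).toFinset := by
    ext a
    rw [Finset.mem_filter, List.mem_toFinset, List.mem_map]
    have h := Set.ext_iff.1 O.minusSet_eq a.val
    constructor
    · rintro ⟨-, h1, h2⟩
      obtain ⟨i, hi, e⟩ := h.1 ⟨a.2, h1, h2⟩
      exact ⟨i, hi, Fin.ext e⟩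
    · rintro ⟨i, hi, rfl⟩
      obtain ⟨_, h1, h2⟩ := h.2 ⟨i, hi, rfl⟩
      exact ⟨Finset.mem_univ _, h1, h2⟩
  rw [ninv, e, List.toFinset_card_of_nodup (O.nodup.map g.sroot_injective), List.length_map]

lemma OrbitA1.mem_minus {g : Good D} {S : RootSym g} {l : List (Fin D.rank)}
    (O : OrbitA1 g S l) (hc : HasComm D) {x : GL D.Idx F} :
    x ∈ rootGen D F (minusSet (g.wperm l)) ↔ ∃ t : Fin D.rank → F, x = g.xList g.sroot l t := by
  rw [O.minusSet_eq]
  constructor
  · intro hx
    induction hx using Subgroup.closure_induction with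
    | mem y hy =>
      obtain ⟨r, t, ⟨i, hi, rfl⟩, hr, hy⟩ := hy
      classical
      refine ⟨Pi.single i t, (g.eq_xG hy).trans ?_⟩
      exact (g.xList_single g.sroot O.nodup hi t).symm
    | one => exact ⟨0, (g.xList_zero _ _).symm⟩
    | mul a b _ _ ha hb =>
      obtain ⟨t, rfl⟩ := ha
      obtain ⟨u, rfl⟩ := hb
      exact ⟨t + u, g.xList_add O.nodup (O.commutes hc).1 t u⟩
    | inv a _ ha =>
      obtain ⟨t, rfl⟩ := ha
      refine ⟨-t, inv_eq_of_mul_eq_one_right ?_⟩
      rw [g.xList_add O.nodup (O.commutes hc).1, add_neg_cancel, g.xList_zero]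
  · rintro ⟨t, rfl⟩
    exact Subgroup.list_prod_mem _ fun x hx => by
      obtain ⟨j, hj, rfl⟩ := List.mem_map.1 hx
      exact g.mem_rootGen (Fin.isLt _) (show (g.sroot j : ℕ) ∈ {r : ℕ | ∃ i ∈ l, (g.sroot i).val = r} from ⟨j, hj, rfl⟩) _

end CfsgLib.Chev
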