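import Mathlib
import Cfsg.Agent.Lib.Chev.TwistGroup
import Cfsg.Agent.Lib.Chev.BNChev
import Cfsg.Agent.Lib.Chev.CardGroup
import Cfsg.Agent.Lib.Chev.Simple
import Cfsg.Agent.Lib.Chev.CartanSmith

/-!
The (B, N)-pair, order and simplicity of a twisted group.
-/

set_option autoImplicit false
set_option maxHeartbeats 400000

namespace CfsgLib.Chev

open Cfsg.Lie Matrix

open scoped commutatorElement

variable {D : ChevalleyDatum} {F : Type*} [Field F] {g : Good D} {T : Twist g F}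

namespace TwistSys

variable (S : TwistSys T)

lemma acts_weylFix {n : GL D.Idx F} (hn : n ∈ S.G1) (hnm : n ∈ D.monomialSubgroup F)
    {v : Equiv.Perm (Fin D.nroots)} (hv : g.Acts n v) : v ∈ T.weylFix := by
  let nG : ↥(D.group F) := ⟨n, S.le_group hn⟩
  have hfix : T.σ nG = nG := (T.mem_fixed nG).1 (S.le_fixed hn)
  obtain ⟨π, hπ, hπa⟩ := g.exists_acts hnm
  obtain rfl := g.acts_unique hv hπa
  have h := T.σ_acts (n := nG) hnm hv
  rw [hfix] at h
  have e := g.acts_unique h hv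
  rw [mul_inv_eq_iff_eq_mul] at e
  exact T.mem_weylFix.2 ⟨hπ, e⟩

/-- The action of `N¹` on the roots. -/
noncomputable def rootAct1 : ↥(D.monomialSubgroup F ⊓ S.G1) →* ↥T.weylFix where
  toFun x := ⟨(g.rootAct ⟨x.1, x.2.1⟩).1,
    S.acts_weylFix x.2.2 x.2.1 (g.acts_rootAct ⟨x.1, x.2.1⟩)⟩
  map_one' := Subtype.ext (g.rootAct_eq (x := ⟨1, one_mem _⟩) g.acts_one)
  map_mul' x y := Subtype.ext (g.rootAct_eq (x := ⟨x.1 * y.1, mul_mem x.2.1 y.2.1⟩)
    (g.acts_mul (g.acts_rootAct ⟨x.1, x.2.1⟩) (g.acts_rootAct ⟨y.1, y.2.1⟩)))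

lemma coe_rootAct1 (x : ↥(D.monomialSubgroup F ⊓ S.G1)) :
    (S.rootAct1 x : Equiv.Perm (Fin D.nroots)) = (g.rootAct ⟨x.1, x.2.1⟩).1 := rfl

theorem rootAct1_surjective : Function.Surjective S.rootAct1 := by
  intro v
  obtain ⟨n, hn, hnm, hna⟩ := S.exists_rep v.2
  exact ⟨⟨n, Subgroup.mem_inf.2 ⟨hnm, hn⟩⟩, Subtype.ext (g.rootAct_eq (x := ⟨n, hnm⟩) hna)⟩

theorem rootAct1_ker :
    S.rootAct1.ker = (D.diagonalSubgroup F ⊓ S.G1).subgroupOf (D.monomialSubgroup F ⊓ S.G1) := by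
  ext x
  rw [MonoidHom.mem_ker, Subgroup.mem_subgroupOf, Subgroup.mem_inf]
  constructor
  · intro h
    have h1 : (⟨x, x.2.1⟩ : ↥(D.monomialSubgroup F)) ∈ (g.rootAct (F := F)).ker := by
      have h2 : (S.rootAct1 x : Equiv.Perm (Fin D.nroots)) = 1 := by rw [h]; rfl
      rw [S.coe_rootAct1] at h2
      exact MonoidHom.mem_ker.2 (Subtype.ext h2)
    rw [g.rootAct_ker, Subgroup.mem_subgroupOf] at h1
    exact ⟨h1, x.2.2⟩
  · intro h
    refine Subtype.ext ?_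
    rw [S.coe_rootAct1]
    exact g.rootAct_eq (x := ⟨x.1, x.2.1⟩) (g.acts_diagonal h.1)

/-- `B¹` as a subgroup of `G¹`. -/
abbrev B1 : Subgroup ↥S.G1 := (D.borelSubgroup F ⊓ S.G1).subgroupOf S.G1

/-- `N¹` as a subgroup of `G¹`. -/
abbrev N1 : Subgroup ↥S.G1 := (D.monomialSubgroup F ⊓ S.G1).subgroupOf S.G1

/-- The distinguished representatives. -/
def genSet : Set ↥S.G1 := Set.range fun o => (⟨S.n o, S.n_mem o⟩ : ↥S.G1)

lemma mem_cell {m z : ↥S.G1} :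
    z ∈ DoubleCoset.doubleCoset m (S.B1 : Set ↥S.G1) S.B1 ↔
      ∃ x ∈ D.borelSubgroup F ⊓ S.G1, ∃ y ∈ D.borelSubgroup F ⊓ S.G1,
        (z : GL D.Idx F) = x * m * y := by
  rw [DoubleCoset.mem_doubleCoset]
  constructor
  · rintro ⟨x, hx, y, hy, rfl⟩
    exact ⟨x, hx, y, hy, rfl⟩
  · rintro ⟨x, hx, y, hy, he⟩
    exact ⟨⟨x, hx.2⟩, hx, ⟨y, hy.2⟩, hy, Subtype.ext he⟩

lemma fixedMinus_le_borel (hc : HasComm D) {v : Equiv.Perm (Fin D.nroots)} (hv : v ∈ T.weylFix)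
    {u : GL D.Idx F} (hu : u ∈ T.fixedMinus v) : u ∈ D.borelSubgroup F ⊓ S.G1 :=
  Subgroup.mem_inf.2 ⟨Subgroup.mem_sup_left (g.minus_le_pos _ hu.2), S.fixedMinus_le hc hv hu⟩

/-- The fixed elements of a Weyl subgroup of an orbit. -/
lemma eq_of_mem_wJ {o : Fin S.r} {v : Equiv.Perm (Fin D.nroots)} (hv : v ∈ T.weylFix)
    (hJ : v ∈ g.wJ (S.J o)) : v = 1 ∨ v = S.w o := by
  have hpos : ∀ u ∈ g.wJ (S.J o), (∀ a : Fin D.nroots, half D ≤ a.val → g.SuppIn (S.J o) a →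
      half D ≤ (u a).val) → u = 1 := fun u hu h =>
    g.eq_one_of_pos (g.wJ_le_weyl _ hu) fun a ha => by
      by_cases hs : g.SuppIn (S.J o) a
      · exact h a ha hs
      · exact g.pos_of_not_supp hu ha hs
  rcases S.dichotomy hv o with h | h
  · exact Or.inl (inv_eq_one.1 (hpos _ (inv_mem hJ) h))
  · refine Or.inr ?_
    have h' : v⁻¹ * S.w o = 1 := by
      refine hpos _ (mul_mem (inv_mem hJ) (S.w_mem o)) fun a ha hs => ?_
      have h1 := S.w_neg o a ha hs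
      have h2 := h _ ((g.nroot_pos_iff _).2 h1)
        (g.suppIn_nroot ((g.suppIn_wJ (S.w_mem o) a).2 hs))
      rw [g.weyl_nroot (inv_mem (T.mem_weylFix.1 hv).1), ← not_le, g.nroot_pos_iff, not_lt] at h2
      exact h2
    exact inv_mul_eq_one.1 h'

lemma n_mem_parabolic (o : Fin S.r) : S.n o ∈ D.parabolicSubgroup F (S.J o) := by
  obtain ⟨l, hl, hle⟩ := g.exists_wperm_J (S.w_mem o)
  have h1 := g.monomial_same_acts (S.n_monomial o) (g.wordN_mem l) (S.n_acts o)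
    (hle ▸ g.acts_wordN l)
  have h2 : g.wordN (F := F) l ∈ D.parabolicSubgroup F (S.J o) := by
    clear h1 hle
    induction l with
    | nil => rw [g.wordN_nil]; exact one_mem _
    | cons i l ih =>
      rw [g.wordN_cons]
      exact mul_mem (Subgroup.mem_sup_right (Subgroup.subset_closure
        ⟨i, hl i (by simp), i.2, by rw [Good.nI, g.coe_nG]; simp⟩))
        (ih fun k hk => hl k (List.mem_cons_of_mem _ hk))
  rw [show S.n o = S.n o * (g.wordN (F := F) l)⁻¹ * g.wordN l by group]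
  exact mul_mem (Subgroup.mem_sup_left (Subgroup.mem_sup_right h1)) h2

/-- The rank-one cells. -/
lemma rank_one (hc : HasComm D) (o : Fin S.r) {z : GL D.Idx F} (hz : z ∈ S.G1)
    (hzP : z ∈ D.parabolicSubgroup F (S.J o)) :
    z ∈ D.borelSubgroup F ⊓ S.G1 ∨ ∃ b ∈ D.borelSubgroup F ⊓ S.G1, ∃ u ∈ T.fixedMinus (S.w o),
      z = b * S.n o * u := by
  obtain ⟨v, hv, n, hn, hnm, hna, b, hb, u, hu, he⟩ := S.exists_canonical hc hz
  obtain ⟨m, hm, π, hπ, hma, x, hx, y, hy, he'⟩ := g.mem_parabolic_cell hc hzP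
  have h1 := g.canonical_coset hc hb.1 hx hnm hm (S.fixedMinus_le_borel hc hv hu).1 hy
    (he.symm.trans he')
  obtain rfl : v = π := inv_mul_eq_one.1
    (g.acts_unique (g.acts_mul (g.acts_inv hna) hma) (g.acts_diagonal h1))
  have hk : ∀ w, w ∈ T.weylFix → ∀ m, m ∈ S.G1 → m ∈ D.monomialSubgroup F → g.Acts m w →
      g.Acts n w → n * m⁻¹ ∈ D.borelSubgroup F ⊓ S.G1 := fun w _ m h1 h2 h3 h4 =>
    Subgroup.mem_inf.2 ⟨Subgroup.mem_sup_right (g.monomial_same_acts hnm h2 h4 h3),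
      mul_mem hn (inv_mem h1)⟩
  rcases S.eq_of_mem_wJ hv hπ with rfl | rfl
  · left
    rw [he]
    refine mul_mem (mul_mem hb ?_) (S.fixedMinus_le_borel hc hv hu)
    have := hk 1 (one_mem _) 1 (one_mem _) (one_mem _) g.acts_one hna
    simpa using this
  · right
    refine ⟨b * (n * (S.n o)⁻¹), mul_mem hb (hk _ (S.w_weylFix o) _ (S.n_mem o) (S.n_monomial o)
      (S.n_acts o) hna), u, hu, by rw [he]; group⟩

/-- The double coset condition. -/
theorem n_mul_mul (hc : HasComm D) (o : Fin S.r) {b n : GL D.Idx F}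
    (hb : b ∈ D.borelSubgroup F ⊓ S.G1) (hn : n ∈ S.G1) (hnm : n ∈ D.monomialSubgroup F) :
    (∃ x ∈ D.borelSubgroup F ⊓ S.G1, ∃ y ∈ D.borelSubgroup F ⊓ S.G1,
        S.n o * b * n = x * (S.n o * n) * y) ∨
      (∃ x ∈ D.borelSubgroup F ⊓ S.G1, ∃ y ∈ D.borelSubgroup F ⊓ S.G1,
        S.n o * b * n = x * n * y) := by
  set s := S.n o with hs
  obtain ⟨v, hv, hva⟩ := g.exists_acts hnm
  have hvF := S.acts_weylFix hn hnm hva
  obtain ⟨y, hy, h, hh, rfl⟩ := S.borel_inf_decomp hc hb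
  have hy' : h⁻¹ * y * h ∈ D.posUnipotent F ⊓ S.G1 := by
    refine Subgroup.mem_inf.2 ⟨?_, mul_mem (mul_mem (inv_mem hh.2) hy.2) hh.2⟩
    have := (Subgroup.mem_normalizer_iff.1 (g.diagonal_le_normalizer_pos (inv_mem hh.1)) y).1 hy.1
    rwa [inv_inv] at this
  obtain ⟨a, ha, c, hcm, hac⟩ := g.pos_split hc (S.w o) hy'.1
  -- `a` and `c` are fixed
  have hawU : a ∈ D.posUnipotent F := by
    rw [g.posUnipotent_eq]
    exact g.rootGen_mono (fun r hr _ => by obtain ⟨_, h, _⟩ := hr; exact h) ha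
  let aG : ↥(D.group F) := ⟨a, g.posUnipotent_le_group hawU⟩
  let cG : ↥(D.group F) := ⟨c, g.posUnipotent_le_group (g.minus_le_pos _ hcm)⟩
  have hfix : T.σ aG * T.σ cG = aG * cG := by
    rw [← map_mul]
    exact (T.mem_fixed (aG * cG)).1 (by
      show a * c ∈ T.fixed
      rw [← hac]; exact S.le_fixed hy'.2)
  have h4 : (aG : GL D.Idx F)⁻¹ * T.σ aG ∈ rootGen D F (plusSet (S.w o)) :=
    mul_mem (inv_mem ha) (T.σ_plus (S.w_comm o) ha)
  have h5 : (aG : GL D.Idx F)⁻¹ * T.σ aG ∈ rootGen D F (minusSet (S.w o)) := by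
    have : (aG : GL D.Idx F)⁻¹ * T.σ aG = cG * (T.σ cG : GL D.Idx F)⁻¹ := by
      rw [eq_mul_inv_iff_mul_eq, mul_assoc, ← Subgroup.coe_mul, hfix, Subgroup.coe_mul,
        inv_mul_cancel_left]
    rw [this]
    exact mul_mem hcm (inv_mem (T.σ_minus (S.w_comm o) hcm))
  have h6 : s * ((aG : GL D.Idx F)⁻¹ * T.σ aG) * s⁻¹ ∈ D.borelSubgroup F ⊓ D.negUnipotent F :=
    Subgroup.mem_inf.2 ⟨Subgroup.mem_sup_left (g.conj_plus_le (S.n_acts o) h4),
      g.conj_minus_le (S.n_acts o) h5⟩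
  rw [g.borel_inf_neg, Subgroup.mem_bot, conj_eq_one_iff, inv_mul_eq_one] at h6
  have haF : a ∈ T.fixed := (T.mem_fixed aG).2 (Subtype.ext h6.symm)
  have hcF : c ∈ T.fixedMinus (S.w o) := by
    refine Subgroup.mem_inf.2 ⟨?_, hcm⟩
    rw [show c = a⁻¹ * (h⁻¹ * y * h) by rw [hac]; group]
    exact mul_mem (inv_mem haF) (S.le_fixed hy'.2)
  have haB : a ∈ D.borelSubgroup F ⊓ S.G1 := by
    refine Subgroup.mem_inf.2 ⟨Subgroup.mem_sup_left hawU, ?_⟩
    rw [show a = h⁻¹ * y * h * c⁻¹ by rw [hac]; group]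
    exact mul_mem hy'.2 (inv_mem (S.base o hcF))
  have hsha : s * (h * a) * s⁻¹ ∈ D.borelSubgroup F ⊓ S.G1 := by
    rw [show s * (h * a) * s⁻¹ = (s * h * s⁻¹) * (s * a * s⁻¹) by group]
    refine mul_mem (Subgroup.mem_inf.2 ⟨Subgroup.mem_sup_right (g.diag_conj (S.n_monomial o) hh.1),
      mul_mem (mul_mem (S.n_mem o) hh.2) (inv_mem (S.n_mem o))⟩)
      (Subgroup.mem_inf.2 ⟨Subgroup.mem_sup_left (g.conj_plus_le (S.n_acts o) ha),
      mul_mem (mul_mem (S.n_mem o) haB.2) (inv_mem (S.n_mem o))⟩)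
  have e0 : s * (y * h) * n = s * (h * a) * s⁻¹ * (s * c * n) := by
    rw [show y * h = h * (h⁻¹ * y * h) by group, hac]; group
  rcases S.dichotomy hvF o with hpos | hneg
  · -- `n⁻¹ c n` is in `B¹`
    left
    refine ⟨_, hsha, n⁻¹ * c * n, Subgroup.mem_inf.2 ⟨Subgroup.mem_sup_left ?_,
      mul_mem (mul_mem (inv_mem hn) (S.base o hcF)) hn⟩, by rw [e0]; group⟩
    rw [g.posUnipotent_eq]
    have := g.conj_rootGen (g.acts_inv hva) (S := minusSet (S.w o)) (T := Set.Ici (half D))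
      (fun r hr => by
        obtain ⟨_, h1, h2⟩ := hr
        exact hpos r h1 ((S.minus_iff o r).1 ⟨h1, h2⟩).2)
      (Subgroup.mem_map_of_mem (MulAut.conj n⁻¹).toMonoidHom hcm)
    simpa using this
  · set n' := s⁻¹ * n with hn'
    have hn'a : g.Acts n' ((S.w o)⁻¹ * v) := g.acts_mul (g.acts_inv (S.n_acts o)) hva
    have hz : s * c * s ∈ S.G1 := mul_mem (mul_mem (S.n_mem o) (S.base o hcF)) (S.n_mem o)
    have hzP : s * c * s ∈ D.parabolicSubgroup F (S.J o) :=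
      mul_mem (mul_mem (S.n_mem_parabolic o) (Subgroup.mem_sup_left
        (Subgroup.mem_sup_left (g.minus_le_pos _ hcm)))) (S.n_mem_parabolic o)
    have hk : (s * s)⁻¹ ∈ D.borelSubgroup F ⊓ S.G1 := by
      have h1 := g.monomial_same_acts (mul_mem (S.n_monomial o) (S.n_monomial o))
        (one_mem _) (g.acts_mul (S.n_acts o) (S.n_acts o)) (by rw [S.w_sq]; exact g.acts_one)
      rw [inv_one, mul_one] at h1
      exact inv_mem (Subgroup.mem_inf.2 ⟨Subgroup.mem_sup_right h1,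
        mul_mem (S.n_mem o) (S.n_mem o)⟩)
    rcases S.rank_one hc o hz hzP with hzB | ⟨b', hb', u, hu, he⟩
    · -- `s c n ∈ B¹ n' `
      left
      refine ⟨s * (h * a) * s⁻¹ * (s * c * s * (s * s)⁻¹), mul_mem hsha (mul_mem hzB hk), 1,
        one_mem _, by rw [e0]; group⟩
    · right
      refine ⟨s * (h * a) * s⁻¹ * b', mul_mem hsha hb', n'⁻¹ * u * n', Subgroup.mem_inf.2
        ⟨Subgroup.mem_sup_left ?_, ?_⟩, ?_⟩
      · rw [g.posUnipotent_eq]
        have := g.conj_rootGen (g.acts_inv hn'a) (S := minusSet (S.w o)) (T := Set.Ici (half D))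
          (fun r hr => by
            obtain ⟨_, h1, h2⟩ := hr
            have hsupp := ((S.minus_iff o r).1 ⟨h1, h2⟩).2
            show half D ≤ (((S.w o)⁻¹ * v)⁻¹ r).val
            rw [_root_.mul_inv_rev, inv_inv, Equiv.Perm.mul_apply]
            have h3 := hneg _ ((g.nroot_pos_iff _).2 h2)
              (g.suppIn_nroot ((g.suppIn_wJ (S.w_mem o) r).2 hsupp))
            rw [g.weyl_nroot (inv_mem hv), ← not_le, g.nroot_pos_iff, not_lt] at h3
            exact h3)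
          (Subgroup.mem_map_of_mem (MulAut.conj n'⁻¹).toMonoidHom hu.2)
        simpa using this
      · exact mul_mem (mul_mem (inv_mem (mul_mem (inv_mem (S.n_mem o)) hn)) (S.base o hu))
          (mul_mem (inv_mem (S.n_mem o)) hn)
      · have e1 : s * c * n = s * c * s * n' := by rw [hn']; group
        rw [e0, e1, he, hn', ← hs]; group

theorem closure_genSet : Subgroup.closure S.genSet ⊔ (S.B1 ⊓ S.N1) = S.N1 := by
  refine le_antisymm (sup_le ((Subgroup.closure_le S.N1).2 ?_) inf_le_right) fun x hx => ?_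
  · rintro _ ⟨o, rfl⟩
    exact Subgroup.mem_inf.2 ⟨S.n_monomial o, S.n_mem o⟩
  obtain ⟨v, -, hva⟩ := g.exists_acts hx.1
  have hx1 : (x : GL D.Idx F) ∈ D.monomialSubgroup F ⊓ S.G1 := Subgroup.mem_subgroupOf.1 hx
  let M : Subgroup ↥S.G1 := Subgroup.closure S.genSet
  have hgen : ∀ v ∈ T.weylFix, ∃ m : ↥S.G1, m ∈ M ∧
      (m : GL D.Idx F) ∈ D.monomialSubgroup F ∧ g.Acts (m : GL D.Idx F) v := by
    intro v hv
    refine S.weylFix_induction (P := fun v => ∃ m : ↥S.G1, m ∈ M ∧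
        (m : GL D.Idx F) ∈ D.monomialSubgroup F ∧ g.Acts (m : GL D.Idx F) v) ?_ ?_ hv
    · exact ⟨(1 : ↥S.G1), M.one_mem, (D.monomialSubgroup F).one_mem, g.acts_one⟩
    · rintro o v' - ⟨m, h1, h2, h3⟩ -
      refine ⟨(⟨S.n o, S.n_mem o⟩ : ↥S.G1) * m,
        M.mul_mem (Subgroup.subset_closure (Set.mem_range_self o)) h1, ?_, ?_⟩
      · rw [Subgroup.coe_mul]
        exact (D.monomialSubgroup F).mul_mem (S.n_monomial o) h2
      · rw [Subgroup.coe_mul]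
        exact g.acts_mul (S.n_acts o) h3
  obtain ⟨m, hm, hmm, hma⟩ := hgen v (S.acts_weylFix x.2 hx.1 hva)
  have hk := g.monomial_same_acts (inv_mem hmm) (inv_mem hx.1) (g.acts_inv hma) (g.acts_inv hva)
  rw [inv_inv] at hk
  have hB : m⁻¹ * x ∈ S.B1 := Subgroup.mem_subgroupOf.2
    (Subgroup.mem_inf.2 ⟨Subgroup.mem_sup_right hk, (m⁻¹ * x).2⟩)
  have hN : m⁻¹ * x ∈ S.N1 := Subgroup.mem_subgroupOf.2
    (Subgroup.mem_inf.2 ⟨mul_mem (inv_mem hmm) hx.1, (m⁻¹ * x).2⟩)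
  rw [← mul_inv_cancel_left m x]
  exact (Subgroup.closure S.genSet ⊔ (S.B1 ⊓ S.N1)).mul_mem (Subgroup.mem_sup_left hm)
    (Subgroup.mem_sup_right (Subgroup.mem_inf.2 ⟨hB, hN⟩))

/-- The (B, N)-pair of the twisted group; the rank-one pieces must be non-trivial. -/
noncomputable def bnPair (hc : HasComm D) (hnt : ∀ o, T.fixedMinus (S.w o) ≠ ⊥) :
    Cfsg.BNPair ↥S.G1 where
  B := S.B1
  N := S.N1
  S := S.genSet
  sup_eq_top := by
    refine eq_top_iff.2 fun x _ => ?_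
    obtain ⟨v, hv, n, hn, hnm, -, b, hb, u, hu, he⟩ := S.exists_canonical hc x.2
    have e : x = ⟨b, hb.2⟩ * ⟨n, hn⟩ * ⟨u, S.fixedMinus_le hc hv hu⟩ := Subtype.ext he
    rw [e]
    exact mul_mem (mul_mem (Subgroup.mem_sup_left hb)
      (Subgroup.mem_sup_right (Subgroup.mem_inf.2 ⟨hnm, hn⟩)))
      (Subgroup.mem_sup_left (S.fixedMinus_le_borel hc hv hu))
  conj_mem n hn t ht := by
    refine Subgroup.mem_inf.2 ⟨Subgroup.mem_sup_right ?_, (n * t * n⁻¹).2⟩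
    refine g.diag_conj hn.1 ?_
    rw [← g.borel_inf_monomial]
    exact Subgroup.mem_inf.2 ⟨ht.1.1, ht.2.1⟩
  subset := by
    rintro _ ⟨o, rfl⟩
    exact Subgroup.mem_inf.2 ⟨S.n_monomial o, S.n_mem o⟩
  sq_mem := by
    rintro _ ⟨o, rfl⟩
    refine Subgroup.mem_inf.2 ⟨Subgroup.mem_sup_right ?_, mul_mem (S.n_mem o) (S.n_mem o)⟩
    have h1 := g.monomial_same_acts (mul_mem (S.n_monomial o) (S.n_monomial o))
      (one_mem _) (g.acts_mul (S.n_acts o) (S.n_acts o)) (by rw [S.w_sq]; exact g.acts_one)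
    rwa [inv_one, mul_one] at h1
  inj := by
    rintro _ ⟨o, rfl⟩ _ ⟨o', rfl⟩ h
    have h1 : (S.n o)⁻¹ * S.n o' ∈ D.borelSubgroup F ⊓ D.monomialSubgroup F :=
      Subgroup.mem_inf.2 ⟨h.1, mul_mem (inv_mem (S.n_monomial o)) (S.n_monomial o')⟩
    rw [g.borel_inf_monomial] at h1
    have h2 := g.acts_unique (g.acts_mul (g.acts_inv (S.n_acts o)) (S.n_acts o')) (g.acts_diagonal h1)
    rw [S.w_inj (inv_mul_eq_one.1 h2)]
  closure_sup := S.closure_genSet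
  mul_mem_union := by
    rintro _ ⟨o, rfl⟩ n hn b hb
    rcases S.n_mul_mul hc o hb hn.2 hn.1 with ⟨x, hx, y, hy, he⟩ | ⟨x, hx, y, hy, he⟩
    · exact Or.inl (S.mem_cell.2 ⟨x, hx, y, hy, he⟩)
    · exact Or.inr (S.mem_cell.2 ⟨x, hx, y, hy, he⟩)
  conj_ne := by
    rintro _ ⟨o, rfl⟩ heq
    obtain ⟨u, hu, hu1⟩ := (Subgroup.bot_or_exists_ne_one (T.fixedMinus (S.w o))).resolve_left (hnt o)
    have h1 : (fun b : ↥S.G1 => ⟨S.n o, S.n_mem o⟩ * b * ⟨S.n o, S.n_mem o⟩)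
        ⟨u, S.base o hu⟩ ∈ (S.B1 : Set ↥S.G1) :=
      heq ▸ ⟨_, S.fixedMinus_le_borel hc (S.w_weylFix o) hu, rfl⟩
    have hsq := g.monomial_same_acts (mul_mem (S.n_monomial o) (S.n_monomial o))
      (one_mem _) (g.acts_mul (S.n_acts o) (S.n_acts o)) (by rw [S.w_sq]; exact g.acts_one)
    rw [inv_one, mul_one] at hsq
    have h2 : S.n o * u * (S.n o)⁻¹ ∈ D.borelSubgroup F ⊓ D.negUnipotent F := by
      refine Subgroup.mem_inf.2 ⟨?_, g.conj_minus_le (S.n_acts o) hu.2⟩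
      rw [show S.n o * u * (S.n o)⁻¹ = S.n o * u * S.n o * (S.n o * S.n o)⁻¹ by group]
      exact mul_mem h1.1 (inv_mem (Subgroup.mem_sup_right hsq))
    rw [g.borel_inf_neg, Subgroup.mem_bot, conj_eq_one_iff] at h2
    exact hu1 h2

/-- The order of the twisted group. -/
theorem card_G1 [Fintype F] (hc : HasComm D) [DecidablePred (· ∈ T.weylFix)] :
    Nat.card S.G1 = Nat.card ↥(D.borelSubgroup F ⊓ S.G1) *
      ∑ v ∈ Finset.univ.filter (· ∈ T.weylFix), Nat.card (T.fixedMinus v) := by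
  choose rep hrep using fun v : ↥T.weylFix => S.exists_rep v.2
  let e : ↥(D.borelSubgroup F ⊓ S.G1) × (Σ v : ↥T.weylFix, ↥(T.fixedMinus v.1)) → ↥S.G1 :=
    fun p => ⟨(p.1 : GL D.Idx F) * rep p.2.1 * (p.2.2 : GL D.Idx F),
      mul_mem (mul_mem p.1.2.2 (hrep p.2.1).1) (S.fixedMinus_le hc p.2.1.2 p.2.2.2)⟩
  have hbij : Function.Bijective e := by
    refine ⟨?_, fun x => ?_⟩
    · rintro ⟨b, v, u⟩ ⟨b', v', u'⟩ h
      have h' : (b : GL D.Idx F) * rep v * (u : GL D.Idx F) =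
          (b' : GL D.Idx F) * rep v' * (u' : GL D.Idx F) := congrArg Subtype.val h
      have h1 := g.canonical_coset hc b.2.1 b'.2.1 (hrep v).2.1 (hrep v').2.1
        (S.fixedMinus_le_borel hc v.2 u.2).1 (S.fixedMinus_le_borel hc v'.2 u'.2).1 h'
      obtain rfl : v = v' := Subtype.ext (inv_mul_eq_one.1
        (g.acts_unique (g.acts_mul (g.acts_inv (hrep v).2.2) (hrep v').2.2) (g.acts_diagonal h1)))
      obtain ⟨e1, e2⟩ := g.canonical_unique b.2.1 b'.2.1 (hrep v).2.2 u.2.2 u'.2.2 h'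
      rw [Subtype.ext e1, Subtype.ext e2]
    · obtain ⟨v, hv, n, hn, hnm, hna, b, hb, u, hu, he⟩ := S.exists_canonical hc x.2
      obtain ⟨h1, h2, h3⟩ := hrep ⟨v, hv⟩
      refine ⟨(⟨b * (n * (rep ⟨v, hv⟩)⁻¹), mul_mem hb (Subgroup.mem_inf.2
        ⟨Subgroup.mem_sup_right (g.monomial_same_acts hnm h2 hna h3), mul_mem hn (inv_mem h1)⟩)⟩,
        ⟨⟨v, hv⟩, ⟨u, hu⟩⟩), Subtype.ext ?_⟩
      show b * (n * (rep ⟨v, hv⟩)⁻¹) * rep ⟨v, hv⟩ * u = (x : GL D.Idx F)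
      rw [he]; group
  rw [← Nat.card_eq_of_bijective e hbij, Nat.card_prod, Nat.card_sigma]
  congr 1
  exact (Finset.sum_subtype (Finset.univ.filter (· ∈ T.weylFix)) (fun v => by simp)
    (fun v => Nat.card (T.fixedMinus v))).symm

theorem card_borel_inf (hc : HasComm D) :
    Nat.card ↥(D.borelSubgroup F ⊓ S.G1) =
      Nat.card ↥(D.posUnipotent F ⊓ S.G1) * Nat.card ↥(D.diagonalSubgroup F ⊓ S.G1) := by
  let e : ↥(D.posUnipotent F ⊓ S.G1) × ↥(D.diagonalSubgroup F ⊓ S.G1) →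
      ↥(D.borelSubgroup F ⊓ S.G1) := fun p =>
    ⟨(p.1 : GL D.Idx F) * p.2, Subgroup.mem_inf.2
      ⟨mul_mem (Subgroup.mem_sup_left p.1.2.1) (Subgroup.mem_sup_right p.2.2.1),
        mul_mem p.1.2.2 p.2.2.2⟩⟩
  have hbij : Function.Bijective e := by
    refine ⟨fun p q h => ?_, fun x => ?_⟩
    · have h' : (p.1 : GL D.Idx F) * p.2 = q.1 * q.2 := congrArg Subtype.val h
      have h1 : (q.1 : GL D.Idx F)⁻¹ * p.1 ∈ D.posUnipotent F ⊓ D.diagonalSubgroup F := by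
        refine Subgroup.mem_inf.2 ⟨mul_mem (inv_mem q.1.2.1) p.1.2.1, ?_⟩
        rw [show (q.1 : GL D.Idx F)⁻¹ * p.1 = q.2 * (p.2 : GL D.Idx F)⁻¹ by
          rw [eq_mul_inv_iff_mul_eq, mul_assoc, h', inv_mul_cancel_left]]
        exact mul_mem q.2.2.1 (inv_mem p.2.2.1)
      rw [g.pos_inf_diagonal, Subgroup.mem_bot, inv_mul_eq_one] at h1
      rw [← h1] at h'
      exact Prod.ext (Subtype.ext h1.symm) (Subtype.ext (mul_left_cancel h'))
    · obtain ⟨y, hy, h, hh, he⟩ := S.borel_inf_decomp hc x.2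
      exact ⟨(⟨y, hy⟩, ⟨h, hh⟩), Subtype.ext he.symm⟩
  rw [← Nat.card_eq_of_bijective e hbij, Nat.card_prod]

/-- Fixed rank-one pieces separate the fundamental characters. -/
def Separates : Prop :=
  ∀ h ∈ D.diagonalSubgroup F, (∀ o, ∀ y ∈ T.fixedMinus (S.w o), h * y = y * h) →
    ∀ i : Fin D.rank, h * g.xG (g.sroot i) 1 * h⁻¹ = g.xG (g.sroot i) 1

theorem core_trivial (hc : HasComm D) (hsep : S.Separates) : S.B1.normalCore = ⊥ := by
  set K := S.B1.normalCore with hK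
  have hKn : K.Normal := Subgroup.normalCore_normal _
  have hKB : ∀ x ∈ K, (x : GL D.Idx F) ∈ D.borelSubgroup F ⊓ S.G1 := fun x hx =>
    Subgroup.mem_subgroupOf.1 (Subgroup.normalCore_le _ hx)
  obtain ⟨w₀, hw₀, hms, -⟩ := T.exists_longest_fixed
  obtain ⟨n, hn, hnm, hna⟩ := S.exists_rep hw₀
  have hmap : ∀ u ∈ D.posUnipotent F, n * u * n⁻¹ ∈ D.negUnipotent F := fun u hu => by
    refine g.conj_minus_le hna ?_
    rw [g.posUnipotent_eq] at hu
    exact g.rootGen_mono (fun r hr hr' => hms ▸ (⟨hr', hr⟩ : r < D.nroots ∧ half D ≤ r)) hu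
  have hKH : ∀ x ∈ K, (x : GL D.Idx F) ∈ D.diagonalSubgroup F := by
    intro x hx
    obtain ⟨u, hu, h, hh, he⟩ := g.mem_borel.1 (hKB x hx).1
    have h2 : n * (x : GL D.Idx F) * n⁻¹ ∈ D.borelSubgroup F :=
      (hKB _ (hKn.conj_mem x hx ⟨n, hn⟩)).1
    have h4 : n * u * n⁻¹ ∈ D.borelSubgroup F ⊓ D.negUnipotent F := by
      refine Subgroup.mem_inf.2 ⟨?_, hmap u hu⟩
      rw [show n * u * n⁻¹ = n * (x : GL D.Idx F) * n⁻¹ * (n * h * n⁻¹)⁻¹ by rw [← he]; group]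
      exact mul_mem h2 (inv_mem (Subgroup.mem_sup_right (g.diag_conj hnm hh)))
    rw [g.borel_inf_neg, Subgroup.mem_bot, conj_eq_one_iff] at h4
    rw [← he, h4, one_mul]
    exact hh
  refine (Subgroup.eq_bot_iff_forall _).2 fun x hx => Subtype.ext ?_
  have hxH := hKH x hx
  have hcent : ∀ o, ∀ y ∈ T.fixedMinus (S.w o), (x : GL D.Idx F) * y = y * x := by
    intro o y hy
    let yy : ↥S.G1 := ⟨y, S.base o hy⟩
    have h1 : x * yy * x⁻¹ * yy⁻¹ ∈ K := by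
      rw [mul_assoc, mul_assoc, ← mul_assoc yy]
      exact mul_mem hx (hKn.conj_mem _ (inv_mem hx) yy)
    have h2 : (x : GL D.Idx F) * y * (x : GL D.Idx F)⁻¹ * y⁻¹ ∈
        D.posUnipotent F ⊓ D.diagonalSubgroup F :=
      Subgroup.mem_inf.2 ⟨mul_mem ((Subgroup.mem_normalizer_iff.1
        (g.diagonal_le_normalizer_pos hxH) y).1 (g.minus_le_pos _ hy.2))
        (inv_mem (g.minus_le_pos _ hy.2)), hKH _ h1⟩
    rw [g.pos_inf_diagonal, Subgroup.mem_bot, mul_inv_eq_one, mul_inv_eq_iff_eq_mul] at h2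
    exact h2
  have hs := hsep _ hxH hcent
  rw [g.diagonal_eq_range] at hxH
  obtain ⟨c, hc'⟩ := hxH
  rw [← hc', Subgroup.coe_one, g.torHom_eq_one_iff]
  funext j
  have h1 := hs j
  rw [← hc', g.torHom_conj_xG c (g.sroot j).2, mul_one] at h1
  by_contra hne
  have h3 : g.xG (g.sroot j : ℕ)
      (((∏ i : Fin D.rank, c i ^ D.cartan i (g.sroot j) : Fˣ) : F) + -1) = 1 := by
    rw [← g.xG_add, h1, g.xG_add, add_neg_cancel, g.xG_zero]
  have h4 := (g.x_eq_one_iff (g.sroot j).2 _).1 (congrArg Units.val h3)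
  rw [← sub_eq_add_neg, sub_eq_zero] at h4
  exact hne (Units.ext h4)

theorem isSimple (hc : HasComm D) (hnt : ∀ o, T.fixedMinus (S.w o) ≠ ⊥) (hsep : S.Separates)
    (hconn : ∀ P : Fin S.r → Prop, (∀ o o', S.w o * S.w o' ≠ S.w o' * S.w o → (P o ↔ P o')) →
      ∀ o o', P o ↔ P o')
    (hperf : commutator ↥S.G1 = ⊤) (hr : 0 < S.r) :
    IsSimpleGroup ↥S.G1 ∧ ¬ IsMulCommutative ↥S.G1 := by
  obtain ⟨u, hu, hu1⟩ := (Subgroup.bot_or_exists_ne_one
    (T.fixedMinus (S.w ⟨0, hr⟩))).resolve_left (hnt _)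
  have hntriv : Nontrivial ↥S.G1 :=
    ⟨⟨u, S.base _ hu⟩, 1, fun h => hu1 (congrArg Subtype.val h)⟩
  have hsolv : Group.IsSolvable ↥(S.bnPair hc hnt).B := by
    have := g.borel_isSolvable (F := F) hc
    have h2 : Group.IsSolvable ↥(D.borelSubgroup F ⊓ S.G1) :=
      Group.isSolvable_of_isSolvable_injective (f := Subgroup.inclusion inf_le_left)
        (Subgroup.inclusion_injective _)
    exact Group.isSolvable_of_surjective
      (f := (Subgroup.subgroupOfEquivOfLe (inf_le_right : D.borelSubgroup F ⊓ S.G1 ≤ S.G1)).symm.toMonoidHom)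
      (MulEquiv.surjective _)
  have hirr : (S.bnPair hc hnt).Irreducible := by
    intro J hJ hne hne'
    by_contra hcon
    simp only [not_exists, not_and, not_not] at hcon
    let P : Fin S.r → Prop := fun o => (⟨S.n o, S.n_mem o⟩ : ↥S.G1) ∈ J
    have hcl : ∀ o o', P o → ¬ P o' → S.w o * S.w o' = S.w o' * S.w o := by
      intro o o' ho ho'
      have h0 := hcon _ ho _ ⟨⟨o', rfl⟩, ho'⟩
      have h1 : S.n o * S.n o' * (S.n o)⁻¹ * (S.n o')⁻¹ ∈
          D.borelSubgroup F ⊓ D.monomialSubgroup F :=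
        Subgroup.mem_inf.2 ⟨h0.1, mul_mem (mul_mem (mul_mem (S.n_monomial o) (S.n_monomial o'))
          (inv_mem (S.n_monomial o))) (inv_mem (S.n_monomial o'))⟩
      rw [g.borel_inf_monomial] at h1
      have h2 := g.acts_unique (g.acts_mul (g.acts_mul (g.acts_mul (S.n_acts o) (S.n_acts o'))
        (g.acts_inv (S.n_acts o))) (g.acts_inv (S.n_acts o'))) (g.acts_diagonal h1)
      rw [mul_inv_eq_one, mul_inv_eq_iff_eq_mul] at h2
      exact h2
    obtain ⟨a, ha⟩ := hne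
    obtain ⟨b, hb, hbJ⟩ := hne'
    obtain ⟨o, rfl⟩ := hJ ha
    obtain ⟨o', rfl⟩ := hb
    refine hbJ ((hconn P (fun x y hxy => ⟨fun h => ?_, fun h => ?_⟩) o o').1 ha)
    · by_contra h'; exact hxy (hcl x y h h')
    · by_contra h'; exact hxy (hcl y x h h').symm
  refine ⟨BN.isSimpleGroup (S.bnPair hc hnt) hirr hsolv hperf (S.core_trivial hc hsep),
    fun hcomm => ?_⟩
  have hbot : commutator ↥S.G1 = ⊥ := by
    rw [commutator_def, eq_bot_iff, Subgroup.commutator_le]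
    intro a _ b _
    rw [Subgroup.mem_bot, commutatorElement_eq_one_iff_mul_comm]
    exact hcomm.is_comm.comm a b
  rw [hperf] at hbot
  exact top_ne_bot hbot

end TwistSys

end CfsgLib.Chev
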