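import Mathlib
import Cfsg.Agent.Lib.Chev.OrbitA1
import Cfsg.Agent.Lib.Chev.TwistBN
import Cfsg.Prelude.Def_ChevWords

/-!
Twisted groups all of whose orbits consist of orthogonal fundamental roots.
-/

set_option autoImplicit false
set_option maxHeartbeats 400000

namespace CfsgLib.Chev

open Cfsg.Lie

variable {D : ChevalleyDatum} {F : Type*} [Field F]

/-- A twist whose orbits consist of orthogonal roots, with its group. -/
structure A1Setup (g : Good D) (F : Type*) [Field F] where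
  /-- the endomorphism -/
  T : Twist g F
  /-- the symmetry -/
  S : RootSym g
  /-- the field map -/
  φ : F →+* F
  /-- the group -/
  G1 : Subgroup (GL D.Idx F)
  /-- the number of orbits -/
  r : ℕ
  /-- the orbits -/
  orb : Fin r → List (Fin D.rank)
  Tρ : T.ρ = S.ρ
  Tpi : T.pi = S.pi
  f_simple : ∀ (i : Fin D.rank) (t : F), T.f (g.sroot i) t = φ t ∧
    T.f (g.nroot (g.sroot i)) t = φ t
  isOrbit : ∀ o, OrbitA1 g S (orb o)
  cover : ∀ i : Fin D.rank, ∃ o, i ∈ orb o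
  disjoint : ∀ o o' i, i ∈ orb o → i ∈ orb o' → o = o'
  G1_def : G1 = Subgroup.closure {x | ∃ o, ∃ t : Fin D.rank → F,
    (∀ i ∈ orb o, t (S.pi i) = φ (t i)) ∧
      (x = g.xList g.sroot (orb o) t ∨ x = g.xList (fun i => g.nroot (g.sroot i)) (orb o) t)}

namespace A1Setup

variable {g : Good D} (A : A1Setup g F)

lemma gen_mem {o : Fin A.r} {t : Fin D.rank → F} (h : ∀ i ∈ A.orb o, t (A.S.pi i) = A.φ (t i)) :
    g.xList g.sroot (A.orb o) t ∈ A.G1 ∧
      g.xList (fun i => g.nroot (g.sroot i)) (A.orb o) t ∈ A.G1 := by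
  rw [A.G1_def]
  exact ⟨Subgroup.subset_closure ⟨o, t, h, Or.inl rfl⟩,
    Subgroup.subset_closure ⟨o, t, h, Or.inr rfl⟩⟩

lemma perm_map (o : Fin A.r) : ((A.orb o).map A.S.pi).Perm (A.orb o) := by
  have hnd : ((A.orb o).map A.S.pi).Nodup := (A.isOrbit o).nodup.map A.S.pi.injective
  refine List.perm_of_nodup_nodup_toFinset_eq hnd (A.isOrbit o).nodup ?_
  refine Finset.eq_of_subset_of_card_le (fun x hx => ?_) ?_
  · obtain ⟨i, hi, rfl⟩ := List.mem_map.1 (List.mem_toFinset.1 hx)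
    exact List.mem_toFinset.2 ((A.isOrbit o).pi_mem i hi)
  · rw [List.toFinset_card_of_nodup hnd, List.toFinset_card_of_nodup (A.isOrbit o).nodup,
      List.length_map]

lemma σ_xList (hc : HasComm D) (o : Fin A.r) (e : Fin D.rank → Fin D.nroots)
    (he : ∀ i t, A.T.f (e i) t = A.φ t) (hρ : ∀ i, A.T.ρ (e i) = e (A.S.pi i))
    (hcomm : ∀ i ∈ A.orb o, ∀ j ∈ A.orb o, i ≠ j → ∀ t u : F,
      Commute (g.xG (e i) t) (g.xG (e j) u))
    (t : Fin D.rank → F) (h : g.xList e (A.orb o) t ∈ D.group F) :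
    (A.T.σ ⟨g.xList e (A.orb o) t, h⟩ : GL D.Idx F) =
      g.xList e (A.orb o) (fun j => A.φ (t (A.S.pi.symm j))) := by
  have _ := hc
  have hmap : ∀ (l : List (Fin D.rank)) (h : g.xList e l t ∈ D.group F),
      (A.T.σ ⟨g.xList e l t, h⟩ : GL D.Idx F) =
        ((l.map A.S.pi).map fun j => g.xG (e j) (A.φ (t (A.S.pi.symm j)))).prod := by
    intro l
    induction l with
    | nil =>
      intro h
      rw [show (⟨g.xList e [] t, h⟩ : ↥(D.group F)) = 1 from Subtype.ext rfl, map_one]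
      rfl
    | cons i m ih =>
      intro h
      have hm : g.xList e m t ∈ D.group F := Subgroup.list_prod_mem _ fun x hx => by
        obtain ⟨j, -, rfl⟩ := List.mem_map.1 hx
        exact g.xG_mem_group (Fin.isLt _) _
      rw [show (⟨g.xList e (i :: m) t, h⟩ : ↥(D.group F)) =
        ⟨g.xG (e i) (t i), g.xG_mem_group (Fin.isLt _) _⟩ * ⟨g.xList e m t, hm⟩ from
          Subtype.ext (g.xList_cons e i m t), map_mul, Subgroup.coe_mul, ih hm, A.T.σ_x, he, hρ]
      simp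
  rw [hmap]
  refine List.Perm.prod_eq' ((A.perm_map o).map _) ?_
  rw [List.pairwise_map]
  refine ((A.isOrbit o).nodup.map A.S.pi.injective).imp_of_mem fun {a b} ha hb hne => ?_
  have hin : ∀ x ∈ (A.orb o).map A.S.pi, x ∈ A.orb o := fun x hx => (A.perm_map o).mem_iff.1 hx
  exact hcomm a (hin a ha) b (hin b hb) hne _ _

lemma f_pos (i : Fin D.rank) (t : F) : A.T.f (g.sroot i) t = A.φ t := (A.f_simple i t).1

lemma f_neg (i : Fin D.rank) (t : F) : A.T.f (g.nroot (g.sroot i)) t = A.φ t := (A.f_simple i t).2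

lemma ρ_sroot' (i : Fin D.rank) : A.T.ρ (g.sroot i) = g.sroot (A.S.pi i) := by
  rw [A.T.ρ_sroot, A.Tpi]

lemma ρ_nsroot (i : Fin D.rank) :
    A.T.ρ (g.nroot (g.sroot i)) = g.nroot (g.sroot (A.S.pi i)) := by
  rw [A.T.ρ_nroot, A.ρ_sroot']

lemma G1_le_fixed (hc : HasComm D) : A.G1 ≤ A.T.fixed := by
  rw [A.G1_def, Subgroup.closure_le]
  rintro x ⟨o, t, ht, hx⟩
  have key : ∀ (e : Fin D.rank → Fin D.nroots), (∀ i t, A.T.f (e i) t = A.φ t) →
      (∀ i, A.T.ρ (e i) = e (A.S.pi i)) →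
      (∀ i ∈ A.orb o, ∀ j ∈ A.orb o, i ≠ j → ∀ t u : F, Commute (g.xG (e i) t) (g.xG (e j) u)) →
      g.xList e (A.orb o) t ∈ A.T.fixed := by
    intro e he hρ hcomm
    have hm : g.xList e (A.orb o) t ∈ D.group F := Subgroup.list_prod_mem _ fun x hx => by
      obtain ⟨j, -, rfl⟩ := List.mem_map.1 hx
      exact g.xG_mem_group (Fin.isLt _) _
    refine (A.T.mem_fixed ⟨_, hm⟩).2 (Subtype.ext ?_)
    rw [A.σ_xList hc o e he hρ hcomm t hm]
    refine g.xList_congr fun j hj => ?_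
    obtain ⟨i, hi, rfl⟩ := List.mem_map.1 ((A.perm_map o).mem_iff.2 hj)
    rw [Equiv.symm_apply_apply, ht i hi]
  rcases hx with rfl | rfl
  · exact key _ A.f_pos A.ρ_sroot' ((A.isOrbit o).commutes hc).1
  · exact key _ A.f_neg A.ρ_nsroot ((A.isOrbit o).commutes hc).2.1

lemma mem_fixedMinus (hc : HasComm D) (o : Fin A.r) {x : GL D.Idx F} :
    x ∈ A.T.fixedMinus (g.wperm (A.orb o)) ↔ ∃ t : Fin D.rank → F,
      (∀ i ∈ A.orb o, t (A.S.pi i) = A.φ (t i)) ∧ x = g.xList g.sroot (A.orb o) t := by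
  constructor
  · rintro ⟨hxf, hxm⟩
    obtain ⟨t, rfl⟩ := ((A.isOrbit o).mem_minus hc).1 hxm
    refine ⟨t, fun i hi => ?_, rfl⟩
    have hm : g.xList g.sroot (A.orb o) t ∈ D.group F := A.T.fixed_le hxf
    have h1 := congrArg Subtype.val ((A.T.mem_fixed ⟨_, hm⟩).1 hxf)
    rw [A.σ_xList hc o _ A.f_pos A.ρ_sroot' ((A.isOrbit o).commutes hc).1 t hm] at h1
    have h2 := g.xList_inj hc (A.isOrbit o).sorted h1 (A.S.pi i) ((A.isOrbit o).pi_mem i hi)
    rw [Equiv.symm_apply_apply] at h2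
    exact h2.symm
  · rintro ⟨t, ht, rfl⟩
    exact ⟨A.G1_le_fixed hc (A.gen_mem ht).1, ((A.isOrbit o).mem_minus hc).2 ⟨t, rfl⟩⟩

lemma const_compat (o : Fin A.r) (c : ℤ) : ∀ i ∈ A.orb o,
    (fun _ : Fin D.rank => (c : F)) (A.S.pi i) = A.φ ((fun _ : Fin D.rank => (c : F)) i) := by
  intro i _; simp

lemma wordN_mem (hc : HasComm D) (o : Fin A.r) : g.wordN (A.orb o) ∈ A.G1 := by
  have h := (A.isOrbit o).commutes (F := F) hc
  rw [g.wordN_eq_xList (A.isOrbit o).nodup h.1 h.2.2]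
  have h1 := A.gen_mem (o := o) (t := fun _ => (1 : F)) (fun i _ => by simp)
  have h2 := A.gen_mem (o := o) (t := fun _ => (-1 : F)) (fun i _ => by simp)
  exact mul_mem (mul_mem h1.1 h2.2) h1.1

/-- The twisted system. -/
noncomputable def sys (hc : HasComm D) : TwistSys A.T where
  G1 := A.G1
  r := A.r
  J o := {i | ∃ j ∈ A.orb o, (j : ℕ) = i}
  w o := g.wperm (A.orb o)
  n o := g.wordN (A.orb o)
  le_fixed := A.G1_le_fixed hc
  cover i := by
    obtain ⟨o, ho⟩ := A.cover i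
    exact ⟨o, i, ho, rfl⟩
  orbit o P hP i hi hPi j hj := by
    obtain ⟨i', hi', e⟩ := hi
    obtain ⟨j', hj', e'⟩ := hj
    obtain rfl : i' = i := Fin.ext e
    obtain rfl : j' = j := Fin.ext e'
    exact (A.isOrbit o).trans P (fun q => A.Tpi ▸ hP q) i' hi' hPi j' hj'
  w_mem o := g.wperm_mem_wJ fun i hi => ⟨i, hi, rfl⟩
  w_neg o a ha hs := ((A.isOrbit o).neg a ha hs).1
  w_comm o := A.Tρ ▸ (A.isOrbit o).comm
  w_inj o o' h := by
    obtain ⟨i, hi⟩ := List.exists_mem_of_ne_nil _ (A.isOrbit o).ne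
    have h1 := (A.isOrbit o).minusSet_eq
    rw [show g.wperm (A.orb o) = g.wperm (A.orb o') from h, (A.isOrbit o').minusSet_eq] at h1
    obtain ⟨j, hj, e⟩ : (g.sroot i).val ∈ {r : ℕ | ∃ k ∈ A.orb o', (g.sroot k).val = r} :=
      h1 ▸ ⟨i, hi, rfl⟩
    obtain rfl : j = i := g.sroot_injective (Fin.ext e)
    exact A.disjoint o o' j hi hj
  nonempty o := by
    obtain ⟨i, hi⟩ := List.exists_mem_of_ne_nil _ (A.isOrbit o).ne
    exact ⟨i, i, hi, rfl⟩
  n_mem := A.wordN_mem hc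
  n_monomial o := g.wordN_mem _
  n_acts o := g.acts_wordN _
  base o x hx := by
    obtain ⟨t, ht, rfl⟩ := (A.mem_fixedMinus hc o).1 hx
    exact (A.gen_mem ht).1

/-- The fixed points of a rank-one piece correspond to those of a power of `φ`. -/
theorem card_fixedMinus (hc : HasComm D) (o : Fin A.r) (i₀ : Fin D.rank) (hi₀ : i₀ ∈ A.orb o)
    {k : ℕ} (hk : (A.S.pi : Fin D.rank → Fin D.rank)^[k] i₀ = i₀)
    (hall : ∀ j ∈ A.orb o, ∃ m < k, (A.S.pi : Fin D.rank → Fin D.rank)^[m] i₀ = j)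
    (hlt : ∀ m < k, ∀ m' < k, (A.S.pi : Fin D.rank → Fin D.rank)^[m] i₀ =
      (A.S.pi : Fin D.rank → Fin D.rank)^[m'] i₀ → m = m') :
    Nat.card (A.T.fixedMinus (g.wperm (A.orb o))) =
      Nat.card {c : F // (A.φ : F → F)^[k] c = c} := by
  classical
  have key : ∀ t : Fin D.rank → F, (∀ i ∈ A.orb o, t (A.S.pi i) = A.φ (t i)) →
      ∀ m, (A.S.pi : Fin D.rank → Fin D.rank)^[m] i₀ ∈ A.orb o ∧
        t ((A.S.pi : Fin D.rank → Fin D.rank)^[m] i₀) = (A.φ : F → F)^[m] (t i₀) := by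
    intro t ht m
    induction m with
    | zero => exact ⟨hi₀, rfl⟩
    | succ m ih =>
      rw [Function.iterate_succ_apply', Function.iterate_succ_apply']
      exact ⟨(A.isOrbit o).pi_mem _ ih.1, by rw [ht _ ih.1, ih.2]⟩
  let mk : {c : F // (A.φ : F → F)^[k] c = c} → Fin D.rank → F := fun c j =>
    if h : ∃ m < k, (A.S.pi : Fin D.rank → Fin D.rank)^[m] i₀ = j then
      (A.φ : F → F)^[h.choose] c.1 else 0
  have hmk : ∀ c m, m < k → mk c ((A.S.pi : Fin D.rank → Fin D.rank)^[m] i₀) =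
      (A.φ : F → F)^[m] c.1 := by
    intro c m hm
    have h : ∃ m' < k, (A.S.pi : Fin D.rank → Fin D.rank)^[m'] i₀ =
        (A.S.pi : Fin D.rank → Fin D.rank)^[m] i₀ := ⟨m, hm, rfl⟩
    simp only [mk, dif_pos h]
    rw [hlt _ h.choose_spec.1 _ hm h.choose_spec.2]
  have hcompat : ∀ c, ∀ i ∈ A.orb o, mk c (A.S.pi i) = A.φ (mk c i) := by
    intro c i hi
    obtain ⟨m, hm, rfl⟩ := hall i hi
    rw [hmk c m hm, ← Function.iterate_succ_apply' A.S.pi, ← Function.iterate_succ_apply' A.φ]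
    rcases Nat.lt_or_ge (m + 1) k with h | h
    · exact hmk c _ h
    · obtain rfl : k = m + 1 := by omega
      rw [hk, c.2]
      exact hmk c 0 (by omega)
  let f : {c : F // (A.φ : F → F)^[k] c = c} → ↥(A.T.fixedMinus (g.wperm (A.orb o))) := fun c =>
    ⟨g.xList g.sroot (A.orb o) (mk c), (A.mem_fixedMinus hc o).2 ⟨_, hcompat c, rfl⟩⟩
  refine (Nat.card_eq_of_bijective f ⟨fun a b hab => ?_, fun x => ?_⟩).symm
  · obtain ⟨m, hm, -⟩ := hall i₀ hi₀
    have h := g.xList_inj hc (A.isOrbit o).sorted (congrArg Subtype.val hab) i₀ hi₀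
    have h0 := hmk a 0 (by omega)
    have h0' := hmk b 0 (by omega)
    simp only [Function.iterate_zero, id_eq] at h0 h0'
    rw [h0, h0'] at h
    exact Subtype.ext h
  · obtain ⟨t, ht, he⟩ := (A.mem_fixedMinus hc o).1 x.2
    have hper := (key t ht k).2
    rw [hk] at hper
    refine ⟨⟨t i₀, hper.symm⟩, Subtype.ext (he ▸ g.xList_congr fun j hj => ?_)⟩
    obtain ⟨m, hm, rfl⟩ := hall j hj
    rw [hmk _ m hm]
    exact (key t ht m).2.symm

theorem separates (hc : HasComm D)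
    (hne : ∀ o, ∀ i ∈ A.orb o, ∃ t : Fin D.rank → F,
      (∀ j ∈ A.orb o, t (A.S.pi j) = A.φ (t j)) ∧ t i ≠ 0) :
    (A.sys hc).Separates := by
  intro h hh hcomm i
  obtain ⟨o, ho⟩ := A.cover i
  obtain ⟨t, ht, hti⟩ := hne o i ho
  have h1 := hcomm o _ ((A.mem_fixedMinus hc o).2 ⟨t, ht, rfl⟩)
  rw [g.diagonal_eq_range] at hh
  obtain ⟨c, rfl⟩ := hh
  let t' : Fin D.rank → F := fun j =>
    ((∏ k : Fin D.rank, c k ^ D.cartan k (g.sroot j) : Fˣ) : F) * t j
  have h2 : ∀ l : List (Fin D.rank), torHom D F c * g.xList g.sroot l t * (torHom D F c)⁻¹ =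
      g.xList g.sroot l t' := by
    intro l
    induction l with
    | nil => simp [Good.xList]
    | cons a l ih =>
      rw [g.xList_cons, g.xList_cons, ← ih, ← g.torHom_conj_xG c (g.sroot a).2 (t a)]
      group
  have h3 : g.xList g.sroot (A.orb o) t' = g.xList g.sroot (A.orb o) t := by
    rw [← h2, h1, mul_inv_cancel_right]
  have h4 := g.xList_inj hc (A.isOrbit o).sorted h3 i ho
  rw [g.torHom_conj_xG c (g.sroot i).2]
  simp only [t', mul_eq_right₀ hti] at h4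
  rw [h4, one_mul]

end A1Setup

end CfsgLib.Chev
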