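import Mathlib
import Cfsg.Prelude.Def_LieTwisted
import Cfsg.Agent.Lib.Chev.TwistA1
import Cfsg.Agent.Lib.Chev.SigmaTables
import Cfsg.Agent.Lib.Chev.FrobMap

/-!
The twisted group ³D₄.
-/

set_option autoImplicit false
set_option maxHeartbeats 400000
set_option maxRecDepth 100000

namespace CfsgLib.Chev

open Cfsg.Lie

/-- The orbits of fundamental roots of ³D₄, ascending in root index. -/
def orbD4 : Fin 2 → List (Fin chevD4.rank) :=
  ![[⟨1, by decide⟩], [⟨3, by decide⟩, ⟨2, by decide⟩, ⟨0, by decide⟩]]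

lemma orbD4_isOrbit (o : Fin 2) :
    OrbitA1 goodD4 (rootSymOf goodD4 checksD4 structChecksD4 rhoD4_ok) (orbD4 o) := by
  refine orbitA1_of_check goodD4 checksD4 structChecksD4 rhoD4_ok _ ?_
  fin_cases o <;> decide +kernel

lemma sign_simple_D4 : allR (fun i => Int.beq' (nth 1 rhoD4Sign (fsimple dataD4 i)) 1)
    (upto chevD4.rank) = true := by decide +kernel

theorem exists_setupD4 (K : Type*) [Field K] [Fintype K] {q : ℕ} (hq : IsPrimePow q)
    (hK : Fintype.card K = q ^ 3) :
    ∃ A : A1Setup goodD4 K, A.G1 = twistedD4 K q ∧ (∀ t, A.φ t = t ^ q) ∧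
      A.S = rootSymOf goodD4 checksD4 structChecksD4 rhoD4_ok ∧ ∃ h : A.r = 2,
        ∀ o, A.orb o = orbD4 (Fin.cast h o) := by
  obtain ⟨φ, hφ⟩ := exists_powMap_ringHom hq hK (by norm_num)
  obtain ⟨T, hTρ, hTpi, hTf⟩ := exists_twist_rhoD4 φ
  set S := rootSymOf goodD4 checksD4 structChecksD4 rhoD4_ok with hS
  have hsimple : ∀ i : Fin chevD4.rank, nth 1 rhoD4Sign (goodD4.sroot i : ℕ) = 1 ∧
      nth 1 rhoD4Sign (goodD4.nroot (goodD4.sroot i) : ℕ) = 1 := by
    intro i
    have h := allR_upto sign_simple_D4 i.2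
    rw [Int.beq'_eq, ← (checksD4.simple_facts i.2).1] at h
    refine ⟨h, ?_⟩
    show nth 1 rhoD4Sign (chevD4.neg (chevD4.simple i)) = 1
    rw [neg_eq goodD4.lie.pack (goodD4.simple_lt i.2),
      eps_neg rhoD4_signed (goodD4.simple_lt i.2), h]
  refine ⟨{ T := T, S := S, φ := φ, G1 := twistedD4 K q, r := 2, orb := orbD4, Tρ := hTρ,
            Tpi := hTpi, f_simple := ?_, isOrbit := orbD4_isOrbit, cover := ?_, disjoint := ?_,
            G1_def := ?_ }, rfl, hφ, rfl, rfl, fun _ => rfl⟩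
  · exact fun i t => ⟨by rw [hTf, (hsimple i).1, Int.cast_one, one_mul],
      by rw [hTf, (hsimple i).2, Int.cast_one, one_mul]⟩
  · have h : ∀ i : Fin chevD4.rank, ∃ o, i ∈ orbD4 o := by decide +kernel
    exact h
  · have h : ∀ o o' : Fin 2, ∀ i ∈ orbD4 o, i ∈ orbD4 o' → o = o' := by decide +kernel
    exact fun o o' i h1 h2 => h o o' i h1 h2
  · have hword : ∀ (w : List (ℕ × K)), ∀ x : GL chevD4.Idx K,
        (x : Matrix chevD4.Idx chevD4.Idx K) = chevD4.wordMat K w ↔
          x = (w.map fun p => goodD4.xG p.1 p.2).prod := by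
      intro w x
      have e : (((w.map fun p => goodD4.xG (F := K) p.1 p.2).prod : GL chevD4.Idx K) :
          Matrix chevD4.Idx chevD4.Idx K) = chevD4.wordMat K w := by
        induction w with
        | nil => rfl
        | cons p w ih =>
          rw [List.map_cons, List.prod_cons, Units.val_mul, ih, goodD4.coe_xG]
          rfl
      exact ⟨fun h => Units.ext (h.trans e.symm), fun h => h ▸ e⟩
    have hq3 : ∀ t : K, (t ^ q ^ 2) ^ q = t := fun t => by
      rw [← pow_mul, ← pow_succ, ← hK, FiniteField.pow_card]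
    have hcm := (orbD4_isOrbit 1).commutes (F := K) (hasComm_of_mem (by simp))
    -- the reordering of three commuting root elements
    have hrev : ∀ a b c : GL chevD4.Idx K, Commute a b → Commute a c → Commute b c →
        c * (b * a) = a * (b * c) := by
      intro a b c hab hac hbc
      rw [← hab.eq, ← mul_assoc, ← hac.eq, mul_assoc, hbc.symm.eq]
    refine le_antisymm ((Subgroup.closure_le _).2 ?_) ((Subgroup.closure_le _).2 ?_)
    · rintro x ⟨w, hw, hx⟩
      rw [hword] at hx
      subst hx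
      rcases hw with ⟨t, ht, r, hr, rfl⟩ | ⟨t, rs, hrs, rfl⟩
      · simp only [List.mem_cons, List.not_mem_nil, or_false] at hr
        rcases hr with rfl | rfl
        · refine Subgroup.subset_closure ⟨0, fun _ => t, fun i _ => by rw [hφ, ht], Or.inl ?_⟩
          simp [orbD4, Good.xList, Good.sroot, d4p2]
          congr 1
        · refine Subgroup.subset_closure ⟨0, fun _ => t, fun i _ => by rw [hφ, ht], Or.inr ?_⟩
          simp [orbD4, Good.xList, Good.sroot, Good.nroot, d4m2]
          congr 1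
      · let u : Fin chevD4.rank → K := fun j =>
          if j = (⟨0, by decide⟩ : Fin chevD4.rank) then t
          else if j = (⟨2, by decide⟩ : Fin chevD4.rank) then t ^ q else t ^ q ^ 2
        have hu : ∀ i ∈ orbD4 1, u (S.pi i) = φ (u i) := by
          have e0 : S.pi ⟨0, by decide⟩ = ⟨2, by decide⟩ := by decide +kernel
          have e2 : S.pi ⟨2, by decide⟩ = ⟨3, by decide⟩ := by decide +kernel
          have e3 : S.pi ⟨3, by decide⟩ = ⟨0, by decide⟩ := by decide +kernel
          intro i hi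
          simp only [orbD4, Matrix.cons_val_one, Matrix.cons_val_zero, List.mem_cons,
            List.not_mem_nil, or_false] at hi
          rcases hi with rfl | rfl | rfl
          · rw [e3, hφ]; simp [u, hq3]
          · rw [e2, hφ]; simp [u, ← pow_mul, sq]
          · rw [e0, hφ]; simp [u]
        simp only [List.mem_cons, List.not_mem_nil, or_false] at hrs
        rcases hrs with rfl | rfl
        · refine Subgroup.subset_closure ⟨1, u, hu, Or.inl ?_⟩
          simp [orbD4, Good.xList, u]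
          exact (hrev _ _ _ (hcm.1 ⟨0, by decide⟩ (by simp [orbD4]) ⟨2, by decide⟩ (by simp [orbD4]) (by decide) _ _)
            (hcm.1 ⟨0, by decide⟩ (by simp [orbD4]) ⟨3, by decide⟩ (by simp [orbD4]) (by decide) _ _)
            (hcm.1 ⟨2, by decide⟩ (by simp [orbD4]) ⟨3, by decide⟩ (by simp [orbD4]) (by decide) _ _)).symm
        · refine Subgroup.subset_closure ⟨1, u, hu, Or.inr ?_⟩
          simp [orbD4, Good.xList, u]
          exact (hrev _ _ _ (hcm.2.1 ⟨0, by decide⟩ (by simp [orbD4]) ⟨2, by decide⟩ (by simp [orbD4]) (by decide) _ _)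
            (hcm.2.1 ⟨0, by decide⟩ (by simp [orbD4]) ⟨3, by decide⟩ (by simp [orbD4]) (by decide) _ _)
            (hcm.2.1 ⟨2, by decide⟩ (by simp [orbD4]) ⟨3, by decide⟩ (by simp [orbD4]) (by decide) _ _)).symm
    · rintro x ⟨o, t, ht, hx⟩
      obtain ⟨v, hv⟩ := o
      obtain rfl | rfl : v = 0 ∨ v = 1 := by omega
      · have hpi1 : S.pi ⟨1, by decide⟩ = ⟨1, by decide⟩ := by decide +kernel
        have h1 := ht ⟨1, by decide⟩ (by simp [orbD4])
        rw [hpi1, hφ] at h1
        rcases hx with rfl | rfl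
        · exact Subgroup.subset_closure ⟨[(d4p2, t ⟨1, by decide⟩)],
            Or.inl ⟨_, h1.symm, d4p2, by simp, rfl⟩, (hword _ _).2 (by rfl)⟩
        · exact Subgroup.subset_closure ⟨[(d4m2, t ⟨1, by decide⟩)],
            Or.inl ⟨_, h1.symm, d4m2, by simp, rfl⟩, (hword _ _).2 (by rfl)⟩
      · have e0 : S.pi ⟨0, by decide⟩ = ⟨2, by decide⟩ := by decide +kernel
        have e2 : S.pi ⟨2, by decide⟩ = ⟨3, by decide⟩ := by decide +kernel
        have h0 := ht ⟨0, by decide⟩ (by simp [orbD4])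
        rw [e0, hφ] at h0
        have h2 := ht ⟨2, by decide⟩ (by simp [orbD4])
        rw [e2, hφ, h0, ← pow_mul, ← sq] at h2
        rcases hx with rfl | rfl
        · refine Subgroup.subset_closure ⟨[(d4p1, t ⟨0, by decide⟩), (d4p3, t ⟨0, by decide⟩ ^ q),
            (d4p4, t ⟨0, by decide⟩ ^ q ^ 2)], Or.inr ⟨_, (d4p1, d4p3, d4p4), by simp, rfl⟩, (hword _ _).2 ?_⟩
          rw [Good.xList, ← h0, ← h2]
          simp [orbD4]
          exact hrev _ _ _ (hcm.1 ⟨0, by decide⟩ (by simp [orbD4]) ⟨2, by decide⟩ (by simp [orbD4]) (by decide) _ _)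
            (hcm.1 ⟨0, by decide⟩ (by simp [orbD4]) ⟨3, by decide⟩ (by simp [orbD4]) (by decide) _ _)
            (hcm.1 ⟨2, by decide⟩ (by simp [orbD4]) ⟨3, by decide⟩ (by simp [orbD4]) (by decide) _ _)
        · refine Subgroup.subset_closure ⟨[(d4m1, t ⟨0, by decide⟩), (d4m3, t ⟨0, by decide⟩ ^ q),
            (d4m4, t ⟨0, by decide⟩ ^ q ^ 2)], Or.inr ⟨_, (d4m1, d4m3, d4m4), by simp, rfl⟩, (hword _ _).2 ?_⟩
          rw [Good.xList, ← h0, ← h2]
          simp [orbD4]
          exact hrev _ _ _ (hcm.2.1 ⟨0, by decide⟩ (by simp [orbD4]) ⟨2, by decide⟩ (by simp [orbD4]) (by decide) _ _)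
            (hcm.2.1 ⟨0, by decide⟩ (by simp [orbD4]) ⟨3, by decide⟩ (by simp [orbD4]) (by decide) _ _)
            (hcm.2.1 ⟨2, by decide⟩ (by simp [orbD4]) ⟨3, by decide⟩ (by simp [orbD4]) (by decide) _ _)

end CfsgLib.Chev
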