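import Mathlib
import Cfsg.Prelude.Def_LieTwisted
import Cfsg.Agent.Lib.Chev.TwistA1
import Cfsg.Agent.Lib.Chev.SigmaTables
import Cfsg.Agent.Lib.Chev.FrobMap

/-!
The twisted group ²E₆.
-/

set_option autoImplicit false
set_option maxHeartbeats 400000
set_option maxRecDepth 100000

namespace CfsgLib.Chev

open Cfsg.Lie

/-- The orbits of fundamental roots of ²E₆, ascending in root index. -/
def orbE6 : Fin 4 → List (Fin chevE6.rank) :=
  ![[⟨1, by decide⟩], [⟨3, by decide⟩], [⟨5, by decide⟩, ⟨0, by decide⟩],
    [⟨4, by decide⟩, ⟨2, by decide⟩]]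

lemma orbE6_isOrbit (o : Fin 4) :
    OrbitA1 goodE6 (rootSymOf goodE6 checksE6 structChecksE6 rhoE6_ok) (orbE6 o) := by
  refine orbitA1_of_check goodE6 checksE6 structChecksE6 rhoE6_ok _ ?_
  fin_cases o <;> decide +kernel

lemma sign_simple_E6 : allR (fun i => Int.beq' (nth 1 rhoE6Sign (fsimple dataE6 i)) 1)
    (upto chevE6.rank) = true := by decide +kernel

theorem exists_setupE6 (K : Type*) [Field K] [Fintype K] {q : ℕ} (hq : IsPrimePow q)
    (hK : Fintype.card K = q ^ 2) :
    ∃ A : A1Setup goodE6 K, A.G1 = twistedE6 K q ∧ (∀ t, A.φ t = t ^ q) ∧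
      A.S = rootSymOf goodE6 checksE6 structChecksE6 rhoE6_ok ∧ ∃ h : A.r = 4,
        ∀ o, A.orb o = orbE6 (Fin.cast h o) := by
  obtain ⟨φ, hφ⟩ := exists_powMap_ringHom hq hK two_pos
  obtain ⟨T, hTρ, hTpi, hTf⟩ := exists_twist_rhoE6 φ
  set S := rootSymOf goodE6 checksE6 structChecksE6 rhoE6_ok with hS
  have hsimple : ∀ i : Fin chevE6.rank, nth 1 rhoE6Sign (goodE6.sroot i : ℕ) = 1 ∧
      nth 1 rhoE6Sign (goodE6.nroot (goodE6.sroot i) : ℕ) = 1 := by
    intro i
    have h := allR_upto sign_simple_E6 i.2
    rw [Int.beq'_eq, ← (checksE6.simple_facts i.2).1] at h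
    refine ⟨h, ?_⟩
    show nth 1 rhoE6Sign (chevE6.neg (chevE6.simple i)) = 1
    rw [neg_eq goodE6.lie.pack (goodE6.simple_lt i.2),
      eps_neg rhoE6_signed (goodE6.simple_lt i.2), h]
  refine ⟨{ T := T, S := S, φ := φ, G1 := twistedE6 K q, r := 4, orb := orbE6, Tρ := hTρ,
            Tpi := hTpi, f_simple := ?_, isOrbit := orbE6_isOrbit, cover := ?_, disjoint := ?_,
            G1_def := ?_ }, rfl, hφ, rfl, rfl, fun _ => rfl⟩
  · exact fun i t => ⟨by rw [hTf, (hsimple i).1, Int.cast_one, one_mul],
      by rw [hTf, (hsimple i).2, Int.cast_one, one_mul]⟩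
  · have h : ∀ i : Fin chevE6.rank, ∃ o, i ∈ orbE6 o := by decide +kernel
    exact h
  · have h : ∀ o o' : Fin 4, ∀ i ∈ orbE6 o, i ∈ orbE6 o' → o = o' := by decide +kernel
    exact fun o o' i h1 h2 => h o o' i h1 h2
  · have hword : ∀ (w : List (ℕ × K)), ∀ x : GL chevE6.Idx K,
        (x : Matrix chevE6.Idx chevE6.Idx K) = chevE6.wordMat K w ↔
          x = (w.map fun p => goodE6.xG p.1 p.2).prod := by
      intro w x
      have e : (((w.map fun p => goodE6.xG (F := K) p.1 p.2).prod : GL chevE6.Idx K) :
          Matrix chevE6.Idx chevE6.Idx K) = chevE6.wordMat K w := by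
        induction w with
        | nil => rfl
        | cons p w ih =>
          rw [List.map_cons, List.prod_cons, Units.val_mul, ih, goodE6.coe_xG]
          rfl
      exact ⟨fun h => Units.ext (h.trans e.symm), fun h => h ▸ e⟩
    have hqq : ∀ t : K, (t ^ q) ^ q = t := fun t => by
      rw [← pow_mul, ← sq, ← hK, FiniteField.pow_card]
    have hcm := fun o => (orbE6_isOrbit o).commutes (F := K) (hasComm_of_mem (by simp))
    refine le_antisymm ((Subgroup.closure_le _).2 ?_) ((Subgroup.closure_le _).2 ?_)
    · rintro x ⟨w, hw, hx⟩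
      rw [hword] at hx
      subst hx
      rcases hw with ⟨t, ht, r, hr, rfl⟩ | ⟨t, rs, hrs, rfl⟩
      · simp only [List.mem_cons, List.not_mem_nil, or_false] at hr
        rcases hr with rfl | rfl | rfl | rfl
        · refine Subgroup.subset_closure ⟨0, fun _ => t, fun i _ => by rw [hφ, ht], Or.inl ?_⟩
          simp [orbE6, Good.xList, Good.sroot, e6p2]
          congr 1
        · refine Subgroup.subset_closure ⟨0, fun _ => t, fun i _ => by rw [hφ, ht], Or.inr ?_⟩
          simp [orbE6, Good.xList, Good.sroot, Good.nroot, e6m2]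
          congr 1
        · refine Subgroup.subset_closure ⟨1, fun _ => t, fun i _ => by rw [hφ, ht], Or.inl ?_⟩
          simp [orbE6, Good.xList, Good.sroot, e6p4]
          congr 1
        · refine Subgroup.subset_closure ⟨1, fun _ => t, fun i _ => by rw [hφ, ht], Or.inr ?_⟩
          simp [orbE6, Good.xList, Good.sroot, Good.nroot, e6m4]
          congr 1
      · simp only [List.mem_cons, List.not_mem_nil, or_false] at hrs
        have hgen : ∀ (o : Fin 4) (a b : Fin chevE6.rank), orbE6 o = [b, a] → S.pi a = b →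
            S.pi b = a → a ≠ b → ∀ (neg : Bool),
            (bif neg then goodE6.xG (goodE6.nroot (goodE6.sroot a)) t *
                goodE6.xG (goodE6.nroot (goodE6.sroot b)) (t ^ q)
              else goodE6.xG (goodE6.sroot a) t * goodE6.xG (goodE6.sroot b) (t ^ q)) ∈
              Subgroup.closure {x | ∃ o, ∃ t : Fin chevE6.rank → K,
                (∀ i ∈ orbE6 o, t (S.pi i) = φ (t i)) ∧ (x = goodE6.xList goodE6.sroot (orbE6 o) t ∨
                  x = goodE6.xList (fun i => goodE6.nroot (goodE6.sroot i)) (orbE6 o) t)} := by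
          intro o a b ho hab hba hne neg
          refine Subgroup.subset_closure ⟨o, fun j => if j = a then t else t ^ q, ?_, ?_⟩
          · intro i hi
            rw [ho] at hi
            simp only [List.mem_cons, List.not_mem_nil, or_false] at hi
            rcases hi with rfl | rfl
            · simp only [hba, hφ, if_pos, if_neg hne.symm, hqq]
            · simp only [hab, hφ, if_pos, if_neg hne.symm]
          · cases neg
            · left
              rw [ho, Good.xList]
              simp [if_neg hne.symm]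
              exact ((hcm o).1 b (by rw [ho]; simp) a (by rw [ho]; simp) hne.symm _ _).eq.symm
            · right
              rw [ho, Good.xList]
              simp [if_neg hne.symm]
              exact ((hcm o).2.1 b (by rw [ho]; simp) a (by rw [ho]; simp) hne.symm _ _).eq.symm
        rcases hrs with rfl | rfl | rfl | rfl
        · have := hgen 2 ⟨0, by decide⟩ ⟨5, by decide⟩ rfl (by decide +kernel) (by decide +kernel)
            (by decide) false
          simp only [List.map_cons, List.map_nil, List.prod_cons, List.prod_nil, mul_one]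
          exact this
        · have := hgen 2 ⟨0, by decide⟩ ⟨5, by decide⟩ rfl (by decide +kernel) (by decide +kernel)
            (by decide) true
          simp only [List.map_cons, List.map_nil, List.prod_cons, List.prod_nil, mul_one]
          exact this
        · have := hgen 3 ⟨2, by decide⟩ ⟨4, by decide⟩ rfl (by decide +kernel) (by decide +kernel)
            (by decide) false
          simp only [List.map_cons, List.map_nil, List.prod_cons, List.prod_nil, mul_one]
          exact this
        · have := hgen 3 ⟨2, by decide⟩ ⟨4, by decide⟩ rfl (by decide +kernel) (by decide +kernel)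
            (by decide) true
          simp only [List.map_cons, List.map_nil, List.prod_cons, List.prod_nil, mul_one]
          exact this
    · rintro x ⟨o, t, ht, hx⟩
      have hpi1 : S.pi ⟨1, by decide⟩ = ⟨1, by decide⟩ := by decide +kernel
      have hpi3 : S.pi ⟨3, by decide⟩ = ⟨3, by decide⟩ := by decide +kernel
      have hpi0 : S.pi ⟨0, by decide⟩ = ⟨5, by decide⟩ := by decide +kernel
      have hpi2 : S.pi ⟨2, by decide⟩ = ⟨4, by decide⟩ := by decide +kernel
      obtain ⟨v, hv⟩ := o
      obtain rfl | rfl | rfl | rfl : v = 0 ∨ v = 1 ∨ v = 2 ∨ v = 3 := by omega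
      · have h1 := ht ⟨1, by decide⟩ (by simp [orbE6])
        rw [hpi1, hφ] at h1
        rcases hx with rfl | rfl
        · exact Subgroup.subset_closure ⟨[(e6p2, t ⟨1, by decide⟩)],
            Or.inl ⟨_, h1.symm, e6p2, by simp, rfl⟩, (hword _ _).2 (by rfl)⟩
        · exact Subgroup.subset_closure ⟨[(e6m2, t ⟨1, by decide⟩)],
            Or.inl ⟨_, h1.symm, e6m2, by simp, rfl⟩, (hword _ _).2 (by rfl)⟩
      · have h1 := ht ⟨3, by decide⟩ (by simp [orbE6])
        rw [hpi3, hφ] at h1
        rcases hx with rfl | rfl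
        · exact Subgroup.subset_closure ⟨[(e6p4, t ⟨3, by decide⟩)],
            Or.inl ⟨_, h1.symm, e6p4, by simp, rfl⟩, (hword _ _).2 (by rfl)⟩
        · exact Subgroup.subset_closure ⟨[(e6m4, t ⟨3, by decide⟩)],
            Or.inl ⟨_, h1.symm, e6m4, by simp, rfl⟩, (hword _ _).2 (by rfl)⟩
      · have h1 := ht ⟨0, by decide⟩ (by simp [orbE6])
        rw [hpi0, hφ] at h1
        rcases hx with rfl | rfl
        · refine Subgroup.subset_closure ⟨[(e6p1, t ⟨0, by decide⟩), (e6p6, t ⟨0, by decide⟩ ^ q)],
            Or.inr ⟨_, (e6p1, e6p6), by simp, rfl⟩, (hword _ _).2 ?_⟩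
          rw [Good.xList, ← h1]
          simp [orbE6]
          exact ((hcm 2).1 ⟨5, by decide⟩ (by decide) ⟨0, by decide⟩ (by decide) (by decide) _ _).eq
        · refine Subgroup.subset_closure ⟨[(e6m1, t ⟨0, by decide⟩), (e6m6, t ⟨0, by decide⟩ ^ q)],
            Or.inr ⟨_, (e6m1, e6m6), by simp, rfl⟩, (hword _ _).2 ?_⟩
          rw [Good.xList, ← h1]
          simp [orbE6]
          exact ((hcm 2).2.1 ⟨5, by decide⟩ (by decide) ⟨0, by decide⟩ (by decide) (by decide) _ _).eq
      · have h1 := ht ⟨2, by decide⟩ (by simp [orbE6])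
        rw [hpi2, hφ] at h1
        rcases hx with rfl | rfl
        · refine Subgroup.subset_closure ⟨[(e6p3, t ⟨2, by decide⟩), (e6p5, t ⟨2, by decide⟩ ^ q)],
            Or.inr ⟨_, (e6p3, e6p5), by simp, rfl⟩, (hword _ _).2 ?_⟩
          rw [Good.xList, ← h1]
          simp [orbE6]
          exact ((hcm 3).1 ⟨4, by decide⟩ (by decide) ⟨2, by decide⟩ (by decide) (by decide) _ _).eq
        · refine Subgroup.subset_closure ⟨[(e6m3, t ⟨2, by decide⟩), (e6m5, t ⟨2, by decide⟩ ^ q)],
            Or.inr ⟨_, (e6m3, e6m5), by simp, rfl⟩, (hword _ _).2 ?_⟩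
          rw [Good.xList, ← h1]
          simp [orbE6]
          exact ((hcm 3).2.1 ⟨4, by decide⟩ (by decide) ⟨2, by decide⟩ (by decide) (by decide) _ _).eq

end CfsgLib.Chev
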