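import Mathlib
import Cfsg.Agent.Lib.Chev.TwistE6
import Cfsg.Agent.Lib.Chev.TwistD4

/-!
Unipotent subgroups, (B, N)-pairs and cores of ²E₆ and ³D₄.
-/

set_option autoImplicit false
set_option maxHeartbeats 400000
set_option maxRecDepth 100000

namespace CfsgLib.Chev

open Cfsg.Lie

/-- The properties of a twisted group with orthogonal orbits needed below. -/
theorem A1Setup.facts {D : ChevalleyDatum} {F : Type*} [Field F] [Fintype F] {g : Good D}
    (A : A1Setup g F) (hc : HasComm D) {q j : ℕ} (hq : 1 < q) (hφ : ∀ t, A.φ t = t ^ q)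
    (hK : Fintype.card F = q ^ j) (hj : 1 < j)
    (hlen : ∀ o, (A.orb o).length = 1 ∨ (A.orb o).length = j)
    (horb : ∀ o, ∃ i₀ ∈ A.orb o,
      (A.S.pi : Fin D.rank → Fin D.rank)^[(A.orb o).length] i₀ = i₀ ∧
      ∀ i ∈ A.orb o, ∃ m < (A.orb o).length, (A.S.pi : Fin D.rank → Fin D.rank)^[m] i₀ = i) :
    (∀ o, Nat.card (A.T.fixedMinus ((A.sys hc).w o)) ^ 1 = q ^ ninv D ((A.sys hc).w o)) ∧
      (∀ o, A.T.fixedMinus ((A.sys hc).w o) ≠ ⊥) ∧ (A.sys hc).Separates := by
  classical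
  have hcard : ∀ o, Nat.card (A.T.fixedMinus (g.wperm (A.orb o))) = q ^ (A.orb o).length := by
    intro o
    obtain ⟨i₀, hi₀, hk, hall⟩ := horb o
    have hlt : ∀ m < (A.orb o).length, ∀ m' < (A.orb o).length,
        (A.S.pi : Fin D.rank → Fin D.rank)^[m] i₀ = (A.S.pi : Fin D.rank → Fin D.rank)^[m'] i₀ →
        m = m' := by
      intro m hm m' hm' h
      let f : Fin (A.orb o).length → {i // i ∈ (A.orb o).toFinset} := fun m =>
        ⟨(A.S.pi : Fin D.rank → Fin D.rank)^[m] i₀, List.mem_toFinset.2 (by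
          obtain ⟨mv, hmv⟩ := m
          induction mv with
          | zero => exact hi₀
          | succ n ih =>
            rw [Function.iterate_succ_apply']
            exact (A.isOrbit o).pi_mem _ (ih (by omega)))⟩
      have hsurj : Function.Surjective f := fun ⟨i, hi⟩ => by
        obtain ⟨m, hm, he⟩ := hall i (List.mem_toFinset.1 hi)
        exact ⟨⟨m, hm⟩, Subtype.ext he⟩
      have hcard' : Fintype.card {i // i ∈ (A.orb o).toFinset} = (A.orb o).length := by
        rw [Fintype.card_coe, List.toFinset_card_of_nodup (A.isOrbit o).nodup]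
      have hbij := (Fintype.bijective_iff_surjective_and_card f).2
        ⟨hsurj, by rw [Fintype.card_fin, hcard']⟩
      exact congrArg Fin.val (hbij.1 (a₁ := ⟨m, hm⟩) (a₂ := ⟨m', hm'⟩) (Subtype.ext h))
    rw [A.card_fixedMinus hc o i₀ hi₀ hk hall hlt]
    have hit : ∀ n c, (A.φ : F → F)^[n] c = c ^ q ^ n := by
      intro n c
      induction n with
      | zero => simp
      | succ n ih => rw [Function.iterate_succ_apply', ih, hφ, ← pow_mul, ← pow_succ]
    rcases hlen o with h | h <;> rw [h]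
    · rw [pow_one, ← card_pow_eq_self hq hK]
      exact Nat.card_congr (Equiv.subtypeEquivRight fun c => by rw [hit, pow_one])
    · rw [← hK, ← Nat.card_eq_fintype_card]
      exact Nat.card_congr (Equiv.subtypeUnivEquiv fun c => by rw [hit, ← hK, FiniteField.pow_card])
  refine ⟨fun o => ?_, fun o h => ?_, A.separates hc fun o i hi =>
    ⟨fun _ => 1, fun k _ => by simp, one_ne_zero⟩⟩
  · show Nat.card (A.T.fixedMinus (g.wperm (A.orb o))) ^ 1 = q ^ ninv D (g.wperm (A.orb o))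
    rw [pow_one, (A.isOrbit o).ninv_eq]
    exact hcard o
  · have h1 := hcard o
    rw [show A.T.fixedMinus (g.wperm (A.orb o)) = ⊥ from h, Subgroup.card_bot] at h1
    have : 1 < q ^ (A.orb o).length :=
      Nat.one_lt_pow (by rcases hlen o with h' | h' <;> omega) hq
    omega

theorem factsE6 (K : Type*) [Field K] [Fintype K] {q : ℕ} (hq : IsPrimePow q)
    (hK : Fintype.card K = q ^ 2) :
    ∃ (T : Twist goodE6 K) (S : TwistSys T), S.G1 = twistedE6 K q ∧
      (∀ o, Nat.card (T.fixedMinus (S.w o)) ^ 1 = q ^ ninv chevE6 (S.w o)) ∧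
      (∀ o, T.fixedMinus (S.w o) ≠ ⊥) ∧ S.Separates := by
  obtain ⟨A, hG, hφ, hS, hr, ho⟩ := exists_setupE6 K hq hK
  have hc : HasComm chevE6 := hasComm_of_mem (by simp)
  have h4 : ∀ o' : Fin 4, ((orbE6 o').length = 1 ∨ (orbE6 o').length = 2) ∧
      ∃ i₀ ∈ orbE6 o', (A.S.pi : Fin chevE6.rank → Fin chevE6.rank)^[(orbE6 o').length] i₀ = i₀ ∧
        ∀ i ∈ orbE6 o', ∃ m < (orbE6 o').length,
          (A.S.pi : Fin chevE6.rank → Fin chevE6.rank)^[m] i₀ = i := by
    rw [hS]; decide +kernel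
  refine ⟨A.T, A.sys hc, hG, A.facts hc hq.one_lt hφ hK (by norm_num)
    (fun o => by rw [ho]; exact (h4 _).1) (fun o => by rw [ho]; exact (h4 _).2)⟩

theorem factsD4 (K : Type*) [Field K] [Fintype K] {q : ℕ} (hq : IsPrimePow q)
    (hK : Fintype.card K = q ^ 3) :
    ∃ (T : Twist goodD4 K) (S : TwistSys T), S.G1 = twistedD4 K q ∧
      (∀ o, Nat.card (T.fixedMinus (S.w o)) ^ 1 = q ^ ninv chevD4 (S.w o)) ∧
      (∀ o, T.fixedMinus (S.w o) ≠ ⊥) ∧ S.Separates := by
  obtain ⟨A, hG, hφ, hS, hr, ho⟩ := exists_setupD4 K hq hK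
  have hc : HasComm chevD4 := hasComm_of_mem (by simp)
  have h2 : ∀ o' : Fin 2, ((orbD4 o').length = 1 ∨ (orbD4 o').length = 3) ∧
      ∃ i₀ ∈ orbD4 o', (A.S.pi : Fin chevD4.rank → Fin chevD4.rank)^[(orbD4 o').length] i₀ = i₀ ∧
        ∀ i ∈ orbD4 o', ∃ m < (orbD4 o').length,
          (A.S.pi : Fin chevD4.rank → Fin chevD4.rank)^[m] i₀ = i := by
    rw [hS]; decide +kernel
  refine ⟨A.T, A.sys hc, hG, A.facts hc hq.one_lt hφ hK (by norm_num)
    (fun o => by rw [ho]; exact (h2 _).1) (fun o => by rw [ho]; exact (h2 _).2)⟩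

end CfsgLib.Chev
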