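import Mathlib
import Cfsg.Agent.Lib.Chev.TwistEDProps
import Cfsg.Agent.Lib.Chev.CartanSmith

/-!
The diagonal subgroup of a twisted group with orthogonal orbits.
-/

set_option autoImplicit false
set_option maxHeartbeats 400000

namespace CfsgLib.Chev

open Cfsg.Lie

/-- Products of two commuting families. -/
lemma prod_map_mul_of_commute {ι M : Type*} [Monoid M] {l : List ι} (hnd : l.Nodup) (a b : ι → M)
    (h : ∀ i ∈ l, ∀ j ∈ l, i ≠ j → Commute (b i) (a j)) :
    (l.map fun i => a i * b i).prod = (l.map a).prod * (l.map b).prod := by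
  induction l with
  | nil => simp
  | cons i l ih =>
    rw [List.nodup_cons] at hnd
    have hc : Commute (b i) (l.map a).prod := by
      refine Commute.list_prod_right _ _ fun x hx => ?_
      obtain ⟨j, hj, rfl⟩ := List.mem_map.1 hx
      exact h i (by simp) j (List.mem_cons_of_mem _ hj) fun e => hnd.1 (e ▸ hj)
    simp only [List.map_cons, List.prod_cons]
    rw [ih hnd.2 fun x hx y hy => h x (List.mem_cons_of_mem _ hx) y (List.mem_cons_of_mem _ hy)]
    calc a i * b i * ((l.map a).prod * (l.map b).prod)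
        = a i * (b i * (l.map a).prod) * (l.map b).prod := by simp [mul_assoc]
      _ = _ := by rw [hc.eq]; simp [mul_assoc]

variable {D : ChevalleyDatum} {F : Type*} [Field F]

namespace Good

variable (g : Good D)
include g

lemma prod_nG_eq_xList {l : List (Fin D.rank)} (hnd : l.Nodup)
    (hpp : ∀ i ∈ l, ∀ j ∈ l, i ≠ j → ∀ t u : F,
      Commute (g.xG (g.sroot i) t) (g.xG (g.sroot j) u))
    (hnn : ∀ i ∈ l, ∀ j ∈ l, i ≠ j → ∀ t u : F,
      Commute (g.xG (g.nroot (g.sroot i)) t) (g.xG (g.nroot (g.sroot j)) u))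
    (hpn : ∀ i ∈ l, ∀ j ∈ l, i ≠ j → ∀ t u : F,
      Commute (g.xG (g.sroot i) t) (g.xG (g.nroot (g.sroot j)) u)) (u : Fin D.rank → Fˣ) :
    (l.map fun (i : Fin D.rank) => g.nG (D.simple i) (u i)).prod = g.xList g.sroot l (fun i => (u i : F)) *
      g.xList (fun i => g.nroot (g.sroot i)) l (fun i => -(((u i)⁻¹ : Fˣ) : F)) *
      g.xList g.sroot l (fun i => (u i : F)) := by
  have _ := hnn
  rw [show (fun i : Fin D.rank => g.nG (D.simple i) (u i)) = fun i =>
      g.xG (g.sroot i) (u i : F) * g.xG (g.nroot (g.sroot i)) (-(((u i)⁻¹ : Fˣ) : F)) *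
        g.xG (g.sroot i) (u i : F) from rfl]
  rw [prod_map_mul_of_commute hnd, prod_map_mul_of_commute hnd]
  · rfl
  · exact fun i hi j hj hij => (hpn j hj i hi hij.symm _ _).symm
  · exact fun i hi j hj hij => ((hpp i hi j hj hij _ _).mul_right
      (hpn i hi j hj hij _ _))

lemma hG_nG (i : Fin D.rank) (t : Fˣ) : g.nG (D.simple i) t = g.hG (D.simple i) t * g.nI i :=
  g.nG_eq_hG_mul (g.simple_lt i.2) t

/-- Conjugation of coroot elements by a word. -/
lemma wordN_conj_hG (l : List (Fin D.rank)) (s : Fin D.nroots) (t : Fˣ) :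
    g.wordN l * g.hG s t * (g.wordN l)⁻¹ = g.hG (g.wperm l s) t := by
  obtain ⟨e, he⟩ := g.wordN_conj_nG (F := F) l s
  have h0 : g.hG (s : ℕ) t = g.nG s t * (g.nG s 1)⁻¹ := by
    rw [g.nG_eq_hG_mul s.2 t, mul_inv_cancel_right]
  rw [h0, show g.wordN l * (g.nG s t * (g.nG s 1)⁻¹) * (g.wordN l)⁻¹ =
    g.wordN l * g.nG s t * (g.wordN l)⁻¹ * (g.wordN l * g.nG s 1 * (g.wordN l)⁻¹)⁻¹ by group,
    he, he, g.nG_eq_hG_mul (Fin.isLt _) (e * t), g.nG_eq_hG_mul (Fin.isLt _) (e * 1), mul_one,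
    _root_.mul_inv_rev, mul_assoc, mul_inv_cancel_left]
  show g.hG _ (e * t) * (g.hG _ e)⁻¹ = _
  rw [mul_inv_eq_iff_eq_mul, ← map_mul, mul_comm]

lemma wordN_conj_xG_sign (l : List (Fin D.rank)) (s : Fin D.nroots) :
    ∃ e : F, e * e = 1 ∧ ∀ t : F,
      g.wordN l * g.xG s t * (g.wordN l)⁻¹ = g.xG (g.wperm l s) (e * t) := by
  induction l with
  | nil => exact ⟨1, by simp, fun t => by simp [g.wordN_nil, g.wperm_nil]⟩
  | cons i l ih =>
    obtain ⟨e, he, hee⟩ := ih
    refine ⟨(g.eta i (g.wperm l s) : F) * e, ?_, fun t => ?_⟩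
    · rcases g.eta_sign i.2 (g.wperm l s).2 with h | h <;> simp [h, he]
    · rw [g.wordN_cons, show g.nI i * g.wordN l * g.xG s t * (g.nI i * g.wordN l)⁻¹ =
        g.nI i * (g.wordN l * g.xG s t * (g.wordN l)⁻¹) * (g.nI i)⁻¹ by group, hee, nI,
        g.nG_conj_xG i.2 (g.wperm l s).2, g.wperm_cons, mul_assoc]
      rfl

/-- A word of the identity gives an involution. -/
lemma wordN_sq_eq_one {l : List (Fin D.rank)} (h : g.wperm l = 1) :
    g.wordN (F := F) l * g.wordN l = 1 := by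
  have hd := g.wordN_mem_diagonal (F := F) h
  have hd2 := mul_mem hd hd
  rw [g.diagonal_eq_range] at hd2
  obtain ⟨c, hc⟩ := hd2
  rw [← hc, g.torHom_eq_one_iff]
  funext j
  obtain ⟨e, he, hee⟩ := g.wordN_conj_xG_sign (F := F) l (g.sroot j)
  have h1 := g.torHom_conj_xG c (g.sroot j).2 (1 : F)
  rw [hc, show g.wordN l * g.wordN l * g.xG (g.sroot j) (1 : F) * (g.wordN l * g.wordN l)⁻¹ =
    g.wordN l * (g.wordN l * g.xG (g.sroot j) (1 : F) * (g.wordN l)⁻¹) * (g.wordN l)⁻¹ by group,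
    hee, h, Equiv.Perm.one_apply, hee, h, Equiv.Perm.one_apply, ← mul_assoc, he] at h1
  have h2 : g.xG (g.sroot j : ℕ)
      ((((∏ i : Fin D.rank, c i ^ D.cartan i (g.sroot j) : Fˣ) : F) * 1) + -(1 * 1)) = 1 := by
    rw [← g.xG_add, ← h1, g.xG_add, add_neg_cancel, g.xG_zero]
  have h3 := (g.x_eq_one_iff (g.sroot j).2 _).1 (congrArg Units.val h2)
  rw [mul_one, mul_one, ← sub_eq_add_neg, sub_eq_zero] at h3
  exact Units.ext h3

end Good

namespace TwistSys

variable {g : Good D} {T : Twist g F} (S : TwistSys T)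

/-- The two factors of an element of `U¹` along an orbit. -/
lemma pos_split1 (hc : HasComm D) (o : Fin S.r) {u : GL D.Idx F}
    (hu : u ∈ D.posUnipotent F ⊓ S.G1) :
    ∃ a ∈ D.posUnipotent F ⊓ S.G1, ∃ c ∈ T.fixedMinus (S.w o), u = a * c ∧
      S.n o * a * (S.n o)⁻¹ ∈ D.posUnipotent F ⊓ S.G1 := by
  obtain ⟨a, ha, c, hcm, hac⟩ := g.pos_split hc (S.w o) hu.1
  have hawU : a ∈ D.posUnipotent F := by
    rw [g.posUnipotent_eq]
    exact g.rootGen_mono (fun r hr _ => by obtain ⟨_, h, _⟩ := hr; exact h) ha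
  let aG : ↥(D.group F) := ⟨a, g.posUnipotent_le_group hawU⟩
  let cG : ↥(D.group F) := ⟨c, g.posUnipotent_le_group (g.minus_le_pos _ hcm)⟩
  have hfix : T.σ aG * T.σ cG = aG * cG := by
    rw [← map_mul]
    exact (T.mem_fixed (aG * cG)).1 (by
      show a * c ∈ T.fixed
      rw [← hac]; exact S.le_fixed hu.2)
  have h4 : (aG : GL D.Idx F)⁻¹ * T.σ aG ∈ rootGen D F (plusSet (S.w o)) :=
    mul_mem (inv_mem ha) (T.σ_plus (S.w_comm o) ha)
  have h5 : (aG : GL D.Idx F)⁻¹ * T.σ aG ∈ rootGen D F (minusSet (S.w o)) := by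
    have : (aG : GL D.Idx F)⁻¹ * T.σ aG = cG * (T.σ cG : GL D.Idx F)⁻¹ := by
      rw [eq_mul_inv_iff_mul_eq, mul_assoc, ← Subgroup.coe_mul, hfix, Subgroup.coe_mul,
        inv_mul_cancel_left]
    rw [this]
    exact mul_mem hcm (inv_mem (T.σ_minus (S.w_comm o) hcm))
  have h6 : S.n o * ((aG : GL D.Idx F)⁻¹ * T.σ aG) * (S.n o)⁻¹ ∈
      D.borelSubgroup F ⊓ D.negUnipotent F :=
    Subgroup.mem_inf.2 ⟨Subgroup.mem_sup_left (g.conj_plus_le (S.n_acts o) h4),
      g.conj_minus_le (S.n_acts o) h5⟩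
  rw [g.borel_inf_neg, Subgroup.mem_bot, conj_eq_one_iff, inv_mul_eq_one] at h6
  have haF : a ∈ T.fixed := (T.mem_fixed aG).2 (Subtype.ext h6.symm)
  have hcF : c ∈ T.fixedMinus (S.w o) := by
    refine Subgroup.mem_inf.2 ⟨?_, hcm⟩
    rw [show c = a⁻¹ * u by rw [hac]; group]
    exact mul_mem (inv_mem haF) (S.le_fixed hu.2)
  have haG : a ∈ S.G1 := by
    rw [show a = u * c⁻¹ by rw [hac]; group]
    exact mul_mem hu.2 (inv_mem (S.base o hcF))
  exact ⟨a, Subgroup.mem_inf.2 ⟨hawU, haG⟩, c, hcF, hac, Subgroup.mem_inf.2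
    ⟨g.conj_plus_le (S.n_acts o) ha,
      mul_mem (mul_mem (S.n_mem o) haG) (inv_mem (S.n_mem o))⟩⟩

end TwistSys

namespace A1Setup

variable {g : Good D} (A : A1Setup g F)

lemma φ_ne {x : F} (hx : x ≠ 0) : A.φ x ≠ 0 := fun h => hx ((map_eq_zero A.φ).1 h)

/-- The fixed torus in the parameters. -/
def T0 : Subgroup (Fin D.rank → Fˣ) where
  carrier := {c | ∀ i, (c (A.S.pi i) : F) = A.φ (c i)}
  one_mem' i := by simp
  mul_mem' {a b} ha hb i := by simp [ha i, hb i]
  inv_mem' {a} ha i := by simp [ha i, map_inv₀]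

lemma mem_T0 {c : Fin D.rank → Fˣ} : c ∈ A.T0 ↔ ∀ i, (c (A.S.pi i) : F) = A.φ (c i) := Iff.rfl

/-- The image of the fixed torus. -/
noncomputable def H0 : Subgroup (GL D.Idx F) := A.T0.map (torHom D F)

lemma H0_le_diag : A.H0 ≤ D.diagonalSubgroup F := by
  rintro x ⟨c, -, rfl⟩
  exact g.torHom_mem c

lemma card_H0 :
    Nat.card ↥(A.T0 ⊓ (torHom D F).ker) * Nat.card A.H0 = Nat.card A.T0 := by
  let f : ↥A.T0 →* ↥A.H0 := ((torHom D F).comp A.T0.subtype).codRestrict A.H0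
    fun c => ⟨c.1, c.2, rfl⟩
  have hf : Function.Surjective f := by
    rintro ⟨x, c, hc, rfl⟩
    exact ⟨⟨c, hc⟩, rfl⟩
  have hker : f.ker = (A.T0 ⊓ (torHom D F).ker).subgroupOf A.T0 := by
    ext c
    rw [MonoidHom.mem_ker, Subgroup.mem_subgroupOf, Subgroup.mem_inf, MonoidHom.mem_ker]
    exact ⟨fun h => ⟨c.2, congrArg Subtype.val h⟩, fun h => Subtype.ext h.2⟩
  rw [Subgroup.card_eq_card_quotient_mul_card_subgroup f.ker,
    Nat.card_congr (QuotientGroup.quotientKerEquivOfSurjective f hf).toEquiv, hker,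
    Nat.card_congr (Subgroup.subgroupOfEquivOfLe (inf_le_left : _ ≤ A.T0)).toEquiv, mul_comm]

/-- The simultaneous elements `n(u)` of an orbit. -/
lemma prod_nG (hc : HasComm D) (o : Fin A.r) (u : Fin D.rank → Fˣ) :
    ((A.orb o).map fun (i : Fin D.rank) => g.nG (D.simple i) (u i)).prod =
      g.xList g.sroot (A.orb o) (fun i => (u i : F)) *
        g.xList (fun i => g.nroot (g.sroot i)) (A.orb o) (fun i => -(((u i)⁻¹ : Fˣ) : F)) *
        g.xList g.sroot (A.orb o) (fun i => (u i : F)) :=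
  g.prod_nG_eq_xList (A.isOrbit o).nodup ((A.isOrbit o).commutes hc).1
    ((A.isOrbit o).commutes hc).2.1 ((A.isOrbit o).commutes hc).2.2 u

lemma prod_nG_eq (hc : HasComm D) (o : Fin A.r) (u : Fin D.rank → Fˣ) :
    ((A.orb o).map fun (i : Fin D.rank) => g.nG (D.simple i) (u i)).prod =
      ((A.orb o).map fun (i : Fin D.rank) => g.hG (D.simple i) (u i)).prod * g.wordN (A.orb o) := by
  simp only [g.hG_nG]
  refine prod_map_mul_of_commute (A.isOrbit o).nodup _ _ fun i hi j hj hij => ?_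
  have h := (A.isOrbit o).commutes (F := F) hc
  have hnn : ∀ v w : Fˣ, Commute (g.nG (D.simple i) v) (g.nG (D.simple j) w) := fun v w =>
    let c1 := fun x y => h.1 i hi j hj hij x y
    let c2 := fun x y => h.2.1 i hi j hj hij x y
    let c3 := fun x y => h.2.2 i hi j hj hij x y
    let c4 := fun x y => (h.2.2 j hj i hi hij.symm y x).symm
    ((((c1 _ _).mul_right (c3 _ _)).mul_right (c1 _ _)).mul_left
      (((c4 _ _).mul_right (c2 _ _)).mul_right (c4 _ _))).mul_left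
      (((c1 _ _).mul_right (c3 _ _)).mul_right (c1 _ _))
  rw [g.hG_eq (g.simple_lt j.2)]
  exact (hnn 1 _).mul_right (hnn 1 _)

lemma prod_nG_mem (hc : HasComm D) (o : Fin A.r) {u : Fin D.rank → Fˣ}
    (hu : ∀ i ∈ A.orb o, (u (A.S.pi i) : F) = A.φ (u i)) :
    ((A.orb o).map fun (i : Fin D.rank) => g.nG (D.simple i) (u i)).prod ∈ A.G1 := by
  rw [A.prod_nG hc]
  have h1 := A.gen_mem (o := o) (t := fun i => (u i : F)) hu
  have h2 := A.gen_mem (o := o) (t := fun i => -(((u i)⁻¹ : Fˣ) : F)) fun i hi => by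
    simp [hu i hi, map_inv₀]
  exact mul_mem (mul_mem h1.1 h2.2) h1.1

lemma prod_hG_mem (hc : HasComm D) (o : Fin A.r) {u : Fin D.rank → Fˣ}
    (hu : ∀ i ∈ A.orb o, (u (A.S.pi i) : F) = A.φ (u i)) :
    ((A.orb o).map fun (i : Fin D.rank) => g.hG (D.simple i) (u i)).prod ∈ A.G1 := by
  have h := A.prod_nG_mem hc o hu
  rw [A.prod_nG_eq hc] at h
  exact (Subgroup.mul_mem_cancel_right _ (A.wordN_mem hc o)).1 h

/-- The factor of a parameter along an orbit. -/
lemma torHom_orbit (o : Fin A.r) (c : Fin D.rank → Fˣ) :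
    torHom D F (∏ i ∈ (A.orb o).toFinset, Pi.mulSingle i (c i)) =
      ((A.orb o).map fun (i : Fin D.rank) => g.hG (D.simple i) (c i)).prod := by
  rw [List.prod_toFinset _ (A.isOrbit o).nodup, map_list_prod, List.map_map]
  exact congrArg List.prod (List.map_congr_left fun i _ => g.torHom_single i (c i))

lemma H0_le_G1 (hc : HasComm D) : A.H0 ≤ A.G1 := by
  rintro x ⟨c, hcT, rfl⟩
  have hdec : c = ∏ o : Fin A.r, ∏ i ∈ (A.orb o).toFinset, Pi.mulSingle i (c i) := by
    have hu : (Finset.univ : Finset (Fin A.r)).biUnion (fun o => (A.orb o).toFinset) = Finset.univ := by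
      refine Finset.eq_univ_of_forall fun i => ?_
      obtain ⟨o, ho⟩ := A.cover i
      exact Finset.mem_biUnion.2 ⟨o, Finset.mem_univ _, List.mem_toFinset.2 ho⟩
    rw [← Finset.prod_biUnion, hu, Finset.univ_prod_mulSingle]
    intro o _ o' _ hne
    exact Finset.disjoint_left.2 fun i hi hi' =>
      hne (A.disjoint o o' i (List.mem_toFinset.1 hi) (List.mem_toFinset.1 hi'))
  rw [hdec]
  refine Subgroup.mem_comap.1 (Subgroup.prod_mem (A.G1.comap (torHom D F)) fun o _ => ?_)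
  rw [Subgroup.mem_comap, A.torHom_orbit]
  exact A.prod_hG_mem hc o fun i _ => A.mem_T0.1 hcT i

lemma orbit_H0 (o : Fin A.r) {u : Fin D.rank → Fˣ}
    (hu : ∀ i ∈ A.orb o, (u (A.S.pi i) : F) = A.φ (u i)) :
    ((A.orb o).map fun (i : Fin D.rank) => g.hG (D.simple i) (u i)).prod ∈ A.H0 := by
  rw [← A.torHom_orbit]
  refine ⟨_, A.mem_T0.2 fun i => ?_, rfl⟩
  have hev : ∀ j, (∏ k ∈ (A.orb o).toFinset, Pi.mulSingle k (u k) : Fin D.rank → Fˣ) j =
      if j ∈ A.orb o then u j else 1 := fun j => by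
    rw [Finset.prod_apply]
    simp [Pi.mulSingle_apply, Finset.prod_ite_eq]
  have hiff : A.S.pi i ∈ A.orb o ↔ i ∈ A.orb o := by
    refine ⟨fun h => ?_, (A.isOrbit o).pi_mem i⟩
    obtain ⟨j, hj, e⟩ := List.mem_map.1 ((A.perm_map o).mem_iff.2 h)
    rwa [A.S.pi.injective e] at hj
  simp only [hev, hiff]
  split_ifs with h
  · exact hu i h
  · simp

/-- The coroot coordinates are symmetric. -/
def CoSym : Prop :=
  ∀ (r : Fin D.nroots) (i : Fin D.rank), corootCo D (A.S.ρ r) (A.S.pi i) = corootCo D r i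

lemma wordN_conj_H0 (hsym : A.CoSym) (o : Fin A.r) {h : GL D.Idx F} (hh : h ∈ A.H0) :
    g.wordN (A.orb o) * h * (g.wordN (A.orb o))⁻¹ ∈ A.H0 := by
  obtain ⟨c, hcT, rfl⟩ := hh
  set w := g.wperm (A.orb o)
  refine ⟨fun i => ∏ j, c j ^ corootCo D (w (g.sroot j)) i, A.mem_T0.2 fun i => ?_, ?_⟩
  · simp only [Units.coe_prod, map_prod]
    rw [← Equiv.prod_comp A.S.pi]
    refine Finset.prod_congr rfl fun j _ => ?_
    have e : w (g.sroot (A.S.pi j)) = A.S.ρ (w (g.sroot j)) := by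
      rw [← A.S.ρ_sroot, ← Equiv.Perm.mul_apply, ← (A.isOrbit o).comm]
      rfl
    rw [e, hsym, Units.val_zpow_eq_zpow_val, Units.val_zpow_eq_zpow_val, map_zpow₀,
      A.mem_T0.1 hcT]
  · let M : Matrix (Fin D.rank) (Fin D.rank) ℤ :=
      Matrix.of fun j i => corootCo D (w (g.sroot j)) i
    let L : (Fin D.rank → Fˣ) →* GL D.Idx F :=
      (MulAut.conj (g.wordN (A.orb o))).toMonoidHom.comp (torHom D F)
    let R : (Fin D.rank → Fˣ) →* GL D.Idx F := (torHom D F).comp (powMap M)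
    suffices H : ∀ s : Finset (Fin D.rank),
        L (∏ j ∈ s, Pi.mulSingle j (c j)) = R (∏ j ∈ s, Pi.mulSingle j (c j)) by
      have := H Finset.univ
      rw [Finset.univ_prod_mulSingle] at this
      exact this.symm
    intro s
    induction s using Finset.induction with
    | empty => simp
    | insert a s ha ih =>
      rw [Finset.prod_insert ha, map_mul, map_mul, ih]
      congr 1
      show g.wordN (A.orb o) * torHom D F (Pi.mulSingle a (c a)) * (g.wordN (A.orb o))⁻¹ =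
        torHom D F (powMap M (Pi.mulSingle a (c a)))
      rw [g.torHom_single, show D.simple a = (g.sroot a : ℕ) from rfl, g.wordN_conj_hG,
        ← g.torHom_pow_coroot (Fin.isLt _)]
      congr 1
      funext i
      rw [powMap_apply, Finset.prod_eq_single a (fun j _ hj => by
        rw [Pi.mulSingle_eq_of_ne hj, one_zpow]) (by simp), Pi.mulSingle_eq_same]
      rfl

/-- The word of a list of orbits. -/
def orbWord (L : List (Fin A.r)) : List (Fin D.rank) := L.flatMap A.orb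

/-- `H0` extended by the orbit elements. -/
def InN0 (x : GL D.Idx F) : Prop := ∃ h ∈ A.H0, ∃ L, x = h * g.wordN (A.orbWord L)

/-- The elements with a Bruhat form over `H0`. -/
def InCells (x : GL D.Idx F) : Prop :=
  ∃ u ∈ D.posUnipotent F ⊓ A.G1, ∃ n, A.InN0 n ∧ ∃ u' ∈ D.posUnipotent F ⊓ A.G1, x = u * n * u'

lemma wordN_orbWord_mem (hc : HasComm D) (L : List (Fin A.r)) :
    g.wordN (A.orbWord L) ∈ A.G1 := by
  induction L with
  | nil => exact one_mem _
  | cons o L ih =>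
    rw [orbWord, List.flatMap_cons, g.wordN_append]
    exact mul_mem (A.wordN_mem hc o) ih

lemma inN0_mem (hc : HasComm D) {x : GL D.Idx F} (hx : A.InN0 x) :
    x ∈ A.G1 ∧ x ∈ D.monomialSubgroup F := by
  obtain ⟨h, hh, L, rfl⟩ := hx
  exact ⟨mul_mem (A.H0_le_G1 hc hh) (A.wordN_orbWord_mem hc L),
    mul_mem (Subgroup.mem_sup_left (A.H0_le_diag hh)) (g.wordN_mem _)⟩

lemma inN0_H0_mul {h x : GL D.Idx F} (hh : h ∈ A.H0) (hx : A.InN0 x) : A.InN0 (h * x) := by
  obtain ⟨k, hk, L, rfl⟩ := hx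
  exact ⟨h * k, mul_mem hh hk, L, by rw [mul_assoc]⟩

lemma inN0_n_mul (hsym : A.CoSym) (o : Fin A.r) {x : GL D.Idx F} (hx : A.InN0 x) :
    A.InN0 (g.wordN (A.orb o) * x) := by
  obtain ⟨k, hk, L, rfl⟩ := hx
  refine ⟨_, A.wordN_conj_H0 hsym o hk, o :: L, ?_⟩
  rw [show A.orbWord (o :: L) = A.orb o ++ A.orbWord L from List.flatMap_cons, g.wordN_append]
  group

lemma cells_pos_mul {v x : GL D.Idx F} (hv : v ∈ D.posUnipotent F ⊓ A.G1) (hx : A.InCells x) :
    A.InCells (v * x) := by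
  obtain ⟨u, hu, n, hn, u', hu', rfl⟩ := hx
  exact ⟨v * u, mul_mem hv hu, n, hn, u', hu', by group⟩

lemma cells_H0_mul (hc : HasComm D) {h x : GL D.Idx F} (hh : h ∈ A.H0) (hx : A.InCells x) :
    A.InCells (h * x) := by
  obtain ⟨u, hu, n, hn, u', hu', rfl⟩ := hx
  refine ⟨h * u * h⁻¹, Subgroup.mem_inf.2 ⟨(Subgroup.mem_normalizer_iff.1
    (g.diagonal_le_normalizer_pos (A.H0_le_diag hh)) u).1 hu.1,
    mul_mem (mul_mem (A.H0_le_G1 hc hh) hu.2) (inv_mem (A.H0_le_G1 hc hh))⟩,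
    h * n, A.inN0_H0_mul hh hn, u', hu', by group⟩

lemma wordN_conj_xList (hc : HasComm D) (o : Fin A.r) (t : Fin D.rank → F) :
    g.wordN (A.orb o) * g.xList g.sroot (A.orb o) t * (g.wordN (A.orb o))⁻¹ =
      g.xList (fun i => g.nroot (g.sroot i)) (A.orb o) (fun i => -t i) := by
  have key : ∀ (m : List (Fin D.rank)), (∀ i ∈ m, i ∈ A.orb o) → m.Nodup →
      g.wordN m * g.xList g.sroot m t * (g.wordN m)⁻¹ =
        g.xList (fun i => g.nroot (g.sroot i)) m (fun i => -t i) := by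
    intro m
    induction m with
    | nil => intro _ _; simp [Good.xList, g.wordN_nil]
    | cons i m ih =>
      intro hm hnd
      rw [List.nodup_cons] at hnd
      have h := (A.isOrbit o).commutes (F := F) hc
      have hin := hm i (by simp)
      have hrest : ∀ j ∈ m, j ∈ A.orb o ∧ i ≠ j := fun j hj =>
        ⟨hm j (List.mem_cons_of_mem _ hj), fun e => hnd.1 (e ▸ hj)⟩
      have hn : ∀ (y : GL D.Idx F), (∀ a : F, Commute (g.xG (g.sroot i) a) y) →
          (∀ a : F, Commute (g.xG (g.nroot (g.sroot i)) a) y) → Commute (g.nI i) y :=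
        fun y h1 h2 => ((h1 _).mul_left (h2 _)).mul_left (h1 _)
      have c1 : Commute (g.xG (g.sroot i) (t i)) (g.wordN m) := by
        refine Commute.list_prod_right _ _ fun y hy => ?_
        obtain ⟨j, hj, rfl⟩ := List.mem_map.1 hy
        obtain ⟨hjo, hne⟩ := hrest j hj
        exact ((h.1 i hin j hjo hne _ _).mul_right (h.2.2 i hin j hjo hne _ _)).mul_right
          (h.1 i hin j hjo hne _ _)
      have c2 : Commute (g.nI i)
          (g.xList (fun i => g.nroot (g.sroot i)) m (fun i => -t i)) := by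
        refine g.xList_commute (e := fun i => g.nroot (g.sroot i)) (fun j hj a => ?_) _
        obtain ⟨hjo, hne⟩ := hrest j hj
        exact hn _ (fun b => h.2.2 i hin j hjo hne b a) (fun b => h.2.1 i hin j hjo hne b a)
      have hi : g.nI (F := F) i * g.xG (g.sroot i) (t i) * (g.nI i)⁻¹ =
          g.xG (g.nroot (g.sroot i)) (-t i) := by
        rw [Good.nI, g.nG_conj_xG i.2 (Fin.isLt _)]
        have he : g.eta i (g.sroot i) = -1 :=
          (StructChecks.eta_facts g.lie g.struc i.2 (g.sroot i).2).2.2.2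
        rw [he]
        show g.xG (D.reflectRoot i (D.simple i)) _ = _
        rw [g.refl_simple]
        simp
        rfl
      have ih' := ih (fun j hj => (hrest j hj).1) hnd.2
      rw [g.wordN_cons, g.xList_cons, g.xList_cons, ← hi]
      set N := g.wordN (F := F) m
      set X := g.xG (g.sroot i : ℕ) (t i)
      set Y := g.xList g.sroot m t
      set R := g.xList (fun i => g.nroot (g.sroot i)) m (fun i => -t i)
      set n := g.nI (F := F) i
      calc n * N * (X * Y) * (n * N)⁻¹ = n * (N * X) * Y * N⁻¹ * n⁻¹ := by group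
        _ = n * X * (N * Y * N⁻¹) * n⁻¹ := by rw [← c1.eq]; group
        _ = n * X * (R * n⁻¹) := by rw [ih', mul_assoc]
        _ = n * X * n⁻¹ * R := by rw [← c2.inv_left.eq]; group
  exact key _ (fun _ h => h) (A.isOrbit o).nodup

/-- A non-trivial negative rank-one element. -/
lemma neg_eq (hc : HasComm D) (o : Fin A.r) {s : Fin D.rank → F}
    (hs : ∀ i ∈ A.orb o, s (A.S.pi i) = A.φ (s i)) (hne : ∀ i ∈ A.orb o, s i ≠ 0) :
    ∃ x ∈ A.T.fixedMinus (g.wperm (A.orb o)), ∃ h ∈ A.H0, g.xList (fun i => g.nroot (g.sroot i)) (A.orb o) s =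
      x * (h * g.wordN (A.orb o)) * x := by
  classical
  let u : Fin D.rank → Fˣ := fun i => if h : s i = 0 then 1 else Units.mk0 (-(s i)⁻¹) (by simp [h])
  have hui : ∀ i ∈ A.orb o, (u i : F) = -(s i)⁻¹ := fun i hi => by simp [u, hne i hi]
  have huc : ∀ i ∈ A.orb o, (u (A.S.pi i) : F) = A.φ (u i) := fun i hi => by
    rw [hui i hi, hui _ ((A.isOrbit o).pi_mem i hi), hs i hi, map_neg, map_inv₀]
  have e := A.prod_nG hc o u
  rw [A.prod_nG_eq hc] at e
  have e2 : g.xList (fun i => g.nroot (g.sroot i)) (A.orb o) (fun i => -(((u i)⁻¹ : Fˣ) : F)) =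
      g.xList (fun i => g.nroot (g.sroot i)) (A.orb o) s := g.xList_congr fun i hi => by
    simp [hui i hi]
  rw [e2] at e
  set P := g.xList g.sroot (A.orb o) (fun i => (u i : F))
  refine ⟨P⁻¹, ?_, _, A.orbit_H0 o huc, ?_⟩
  · exact inv_mem ((A.mem_fixedMinus hc o).2 ⟨_, huc, rfl⟩)
  · rw [e]; group

lemma cells_n_mul (hc : HasComm D) (hsym : A.CoSym) (o : Fin A.r) {x : GL D.Idx F}
    (hx : A.InCells x) : A.InCells (g.wordN (A.orb o) * x) := by
  obtain ⟨u, hu, n, hn, u', hu', rfl⟩ := hx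
  set S := A.sys hc
  obtain ⟨a, ha, c, hcm, rfl, ha'⟩ := S.pos_split1 hc o hu
  obtain ⟨hnG, hnm⟩ := A.inN0_mem hc hn
  obtain ⟨v, hv, hva⟩ := g.exists_acts hnm
  have hvF := S.acts_weylFix hnG hnm hva
  set s := g.wordN (F := F) (A.orb o) with hs
  suffices H : A.InCells (s * c * n * u') by
    have e : s * (a * c * n * u') = s * a * s⁻¹ * (s * c * n * u') := by group
    rw [e]
    exact A.cells_pos_mul ha' H
  -- moving a positive orbit element to the right
  have move : ∀ (m : GL D.Idx F) (π : Equiv.Perm (Fin D.nroots)), m ∈ A.G1 → g.Acts m π →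
      (∀ r : Fin D.nroots, half D ≤ r.val → g.SuppIn (S.J o) r → half D ≤ (π⁻¹ r).val) →
      ∀ y ∈ A.T.fixedMinus (S.w o), m⁻¹ * y * m ∈ D.posUnipotent F ⊓ A.G1 := by
    intro m π hm hma hpos y hy
    refine Subgroup.mem_inf.2 ⟨?_, mul_mem (mul_mem (inv_mem hm) (S.base o hy)) hm⟩
    rw [g.posUnipotent_eq]
    have := g.conj_rootGen (g.acts_inv hma) (S := minusSet (S.w o)) (T := Set.Ici (half D))
      (fun r hr => by
        obtain ⟨_, h1, h2⟩ := hr
        exact hpos r h1 ((S.minus_iff o r).1 ⟨h1, h2⟩).2)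
      (Subgroup.mem_map_of_mem (MulAut.conj m⁻¹).toMonoidHom hy.2)
    simpa using this
  rcases S.dichotomy hvF o with hpos | hneg
  · refine ⟨1, one_mem _, s * n, A.inN0_n_mul hsym o hn, n⁻¹ * c * n * u',
      mul_mem (move n v hnG hva hpos c hcm) hu', by group⟩
  · obtain ⟨t, ht, rfl⟩ := (A.mem_fixedMinus hc o).1 hcm
    by_cases h0 : ∀ i ∈ A.orb o, t i = 0
    · refine ⟨1, one_mem _, s * n, A.inN0_n_mul hsym o hn, u', hu', ?_⟩
      rw [g.xList_congr (u := (0 : Fin D.rank → F)) h0, g.xList_zero]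
      group
    · have hne : ∀ i ∈ A.orb o, (-t i) ≠ 0 := by
        intro i hi h
        exact h0 fun j hj => ((A.isOrbit o).trans (fun q => q ∈ A.orb o ∧ t q = 0)
          (fun q hq => ⟨(A.isOrbit o).pi_mem q hq.1, by rw [ht q hq.1, hq.2, map_zero]⟩)
          i hi ⟨hi, neg_eq_zero.1 h⟩ j hj).2
      obtain ⟨y, hy, h, hh, he⟩ := A.neg_eq hc o (s := fun i => -t i)
        (fun i hi => by simp [ht i hi]) hne
      have e1 : s * g.xList g.sroot (A.orb o) t =
          y * (h * s) * y * s := by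
        rw [← he, ← A.wordN_conj_xList hc o t, inv_mul_cancel_right]
      have hsn : g.Acts (s * n) (S.w o * v) := g.acts_mul (g.acts_wordN _) hva
      have hy' : (s * n)⁻¹ * y * (s * n) ∈ D.posUnipotent F ⊓ A.G1 := by
        refine move _ _ (mul_mem (A.wordN_mem hc o) hnG) hsn (fun r hr hrs => ?_) y hy
        rw [_root_.mul_inv_rev, inv_eq_of_mul_eq_one_right (S.w_sq o), Equiv.Perm.mul_apply]
        have h2 := hneg _ ((g.nroot_pos_iff _).2 (S.w_neg o r hr hrs))
          (g.suppIn_nroot ((g.suppIn_wJ (S.w_mem o) r).2 hrs))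
        rw [g.weyl_nroot (inv_mem hv), ← not_le, g.nroot_pos_iff, not_lt] at h2
        exact h2
      refine ⟨y, Subgroup.mem_inf.2 ⟨g.minus_le_pos _ hy.2, S.base o hy⟩, h * (s * (s * n)),
        A.inN0_H0_mul hh (A.inN0_n_mul hsym o (A.inN0_n_mul hsym o hn)),
        (s * n)⁻¹ * y * (s * n) * u', mul_mem hy' hu', ?_⟩
      rw [e1]
      group

lemma cells_all (hc : HasComm D) (hsym : A.CoSym) {x : GL D.Idx F} (hx : x ∈ A.G1) :
    A.InCells x := by
  have hgen : ∀ (o : Fin A.r) (t : Fin D.rank → F), (∀ i ∈ A.orb o, t (A.S.pi i) = A.φ (t i)) →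
      ∀ y, A.InCells y → A.InCells (g.xList g.sroot (A.orb o) t * y) ∧
        A.InCells (g.xList (fun i => g.nroot (g.sroot i)) (A.orb o) t * y) := by
    intro o t ht y hy
    have hp : ∀ z ∈ A.T.fixedMinus (g.wperm (A.orb o)), ∀ w, A.InCells w → A.InCells (z * w) := fun z hz w hw =>
      A.cells_pos_mul (Subgroup.mem_inf.2 ⟨g.minus_le_pos _ hz.2, (A.sys hc).base o hz⟩) hw
    refine ⟨hp _ ((A.mem_fixedMinus hc o).2 ⟨t, ht, rfl⟩) _ hy, ?_⟩
    by_cases h0 : ∀ i ∈ A.orb o, t i = 0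
    · rw [g.xList_congr (u := (0 : Fin D.rank → F)) h0, g.xList_zero, one_mul]
      exact hy
    · have hne : ∀ i ∈ A.orb o, t i ≠ 0 := fun i hi h => h0 fun j hj =>
        ((A.isOrbit o).trans (fun q => q ∈ A.orb o ∧ t q = 0)
          (fun q hq => ⟨(A.isOrbit o).pi_mem q hq.1, by rw [ht q hq.1, hq.2, map_zero]⟩)
          i hi ⟨hi, h⟩ j hj).2
      obtain ⟨z, hz, h, hh, he⟩ := A.neg_eq hc o ht hne
      rw [he, mul_assoc, mul_assoc, mul_assoc]
      exact hp z hz _ (A.cells_H0_mul hc hh (A.cells_n_mul hc hsym o (hp z hz _ hy)))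
  rw [A.G1_def] at hx
  induction hx using Subgroup.closure_induction_left with
  | one =>
    exact ⟨1, one_mem _, 1, ⟨1, one_mem _, [], by simp [orbWord, g.wordN_nil]⟩, 1, one_mem _,
      by simp⟩
  | mul_left x hx y _ ih =>
    obtain ⟨o, t, ht, rfl | rfl⟩ := hx
    · exact (hgen o t ht y ih).1
    · exact (hgen o t ht y ih).2
  | inv_mul_cancel x hx y _ ih =>
    obtain ⟨o, t, ht, hx⟩ := hx
    have hcm := (A.isOrbit o).commutes (F := F) hc
    have hnd := (A.isOrbit o).nodup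
    have ht' : ∀ i ∈ A.orb o, (-t) (A.S.pi i) = A.φ ((-t) i) := fun i hi => by simp [ht i hi]
    rcases hx with rfl | rfl
    · rw [show (g.xList g.sroot (A.orb o) t)⁻¹ = g.xList g.sroot (A.orb o) (-t) from
        inv_eq_of_mul_eq_one_right (by rw [g.xList_add hnd hcm.1, add_neg_cancel, g.xList_zero])]
      exact (hgen o _ ht' y ih).1
    · rw [show (g.xList (fun i => g.nroot (g.sroot i)) (A.orb o) t)⁻¹ =
        g.xList (fun i => g.nroot (g.sroot i)) (A.orb o) (-t) from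
        inv_eq_of_mul_eq_one_right (by rw [g.xList_add hnd hcm.2.1, add_neg_cancel, g.xList_zero])]
      exact (hgen o _ ht' y ih).2

/-- An element of `H ∩ G¹` is an involution modulo the image of the fixed torus. -/
theorem diag_inf_decomp (hc : HasComm D) (hsym : A.CoSym) {x : GL D.Idx F}
    (hx : x ∈ D.diagonalSubgroup F ⊓ A.G1) :
    ∃ h ∈ A.H0, ∃ k ∈ D.diagonalSubgroup F ⊓ A.G1, k * k = 1 ∧ x = h * k := by
  obtain ⟨u, hu, n, hn, u', hu', he⟩ := A.cells_all hc hsym hx.2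
  obtain ⟨hnG, hnm⟩ := A.inN0_mem hc hn
  have hnd : n ∈ D.diagonalSubgroup F := by
    have h1 := g.canonical_coset hc (one_mem _) (Subgroup.mem_sup_left hu.1)
      (Subgroup.mem_sup_left hx.1) hnm (one_mem _) (Subgroup.mem_sup_left hu'.1)
      (show 1 * x * 1 = u * n * u' by rw [one_mul, mul_one]; exact he)
    simpa using mul_mem hx.1 h1
  have hxn : x = n := by
    have h1 : x * n⁻¹ ∈ D.posUnipotent F ⊓ D.diagonalSubgroup F := by
      refine Subgroup.mem_inf.2 ⟨?_, mul_mem hx.1 (inv_mem hnd)⟩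
      rw [he, mul_assoc u n u', mul_assoc]
      exact mul_mem hu.1 ((Subgroup.mem_normalizer_iff.1 (g.diagonal_le_normalizer_pos hnd) u').1 hu'.1)
    rw [g.pos_inf_diagonal, Subgroup.mem_bot, mul_inv_eq_one] at h1
    exact h1
  obtain ⟨h, hh, L, rfl⟩ := hn
  have hk : g.wordN (F := F) (A.orbWord L) ∈ D.diagonalSubgroup F :=
    (Subgroup.mul_mem_cancel_left _ (A.H0_le_diag hh)).1 hnd
  exact ⟨h, hh, _, Subgroup.mem_inf.2 ⟨hk, A.wordN_orbWord_mem hc L⟩,
    g.wordN_sq_eq_one (g.acts_unique (g.acts_wordN _) (g.acts_diagonal hk)), hxn⟩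

end A1Setup

end CfsgLib.Chev
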