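import Mathlib
import Cfsg.Agent.Lib.Chev.TwistH

/-!
Homomorphisms from SL₂ out of its relations, and the rank-one subgroups of Chevalley groups.
-/

set_option autoImplicit false
set_option maxHeartbeats 800000
set_option linter.unusedSectionVars false

namespace CfsgLib.Chev

open Cfsg.Lie

/-- The upper unitriangular element. -/
def slU {F : Type*} [Field F] (t : F) : Matrix.SpecialLinearGroup (Fin 2) F :=
  ⟨!![1, t; 0, 1], by simp [Matrix.det_fin_two]⟩

/-- The lower unitriangular element. -/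
def slL {F : Type*} [Field F] (t : F) : Matrix.SpecialLinearGroup (Fin 2) F :=
  ⟨!![1, 0; t, 1], by simp [Matrix.det_fin_two]⟩

/-- The diagonal element. -/
def slD {F : Type*} [Field F] (t : Fˣ) : Matrix.SpecialLinearGroup (Fin 2) F :=
  ⟨!![(t : F), 0; 0, ((t⁻¹ : Fˣ) : F)], by simp [Matrix.det_fin_two]⟩

/-- The element representing the reflection. -/
def slW {F : Type*} [Field F] : Matrix.SpecialLinearGroup (Fin 2) F :=
  ⟨!![0, 1; -1, 0], by simp [Matrix.det_fin_two]⟩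

/-- The relations of SL₂. -/
structure SL2Rel {F : Type*} [Field F] {G : Type*} [Group G] (X Y : F → G) (H : Fˣ →* G) (N : G) :
    Prop where
  X_add : ∀ s t, X (s + t) = X s * X t
  H_conj : ∀ (c : Fˣ) (t : F), H c * X t * (H c)⁻¹ = X ((c : F) * c * t)
  H_conjY : ∀ (c : Fˣ) (t : F), H c * Y t * (H c)⁻¹ = Y (((c⁻¹ : Fˣ) : F) * ((c⁻¹ : Fˣ) : F) * t)
  N_conj : ∀ t : F, N * X t * N⁻¹ = Y (-t)
  N_sq : N * N = H (-1)
  big : ∀ t : Fˣ, X (t : F) * Y (-((t⁻¹ : Fˣ) : F)) * X (t : F) = H t * N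

namespace SL2Rel

variable {F : Type*} [Field F] {G : Type*} [Group G] {X Y : F → G} {H : Fˣ →* G} {N : G}
  (R : SL2Rel X Y H N)
include R

lemma X_zero : X 0 = 1 := by
  have h := R.X_add 0 0
  rw [add_zero] at h
  exact mul_eq_left.1 h.symm

lemma H_X (c : Fˣ) (t : F) : H c * X t = X ((c : F) * c * t) * H c := by
  rw [← R.H_conj c t, inv_mul_cancel_right]

lemma X_H (c : Fˣ) (t : F) : X t * H c = H c * X (((c⁻¹ : Fˣ) : F) * ((c⁻¹ : Fˣ) : F) * t) := by
  rw [R.H_X]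
  congr 2
  simp [Units.val_inv_eq_inv_val]
  field_simp

lemma N_Y (t : F) : N * Y t * N⁻¹ = X (-t) := by
  have h : Y t = N * X (-t) * N⁻¹ := by rw [R.N_conj, neg_neg]
  rw [h, show N * (N * X (-t) * N⁻¹) * N⁻¹ = (N * N) * X (-t) * (N * N)⁻¹ by group, R.N_sq, R.H_conj]
  simp

lemma N_H (t : Fˣ) : N * H t = H t⁻¹ * N := by
  have h1 := R.big t
  -- the element conjugates itself
  have h2 : H t * N = (H t * N) * (X (t : F) * Y (-((t⁻¹ : Fˣ) : F)) * X (t : F)) * (H t * N)⁻¹ := by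
    rw [h1, mul_inv_cancel_right]
  have e1 : ∀ s : F, (H t * N) * X s * (H t * N)⁻¹ =
      Y (-(((t⁻¹ : Fˣ) : F) * ((t⁻¹ : Fˣ) : F) * s)) := fun s => by
    rw [show (H t * N) * X s * (H t * N)⁻¹ = H t * (N * X s * N⁻¹) * (H t)⁻¹ by group, R.N_conj,
      R.H_conjY]
    simp
  have e2 : ∀ s : F, (H t * N) * Y s * (H t * N)⁻¹ = X (-((t : F) * t * s)) := fun s => by
    rw [show (H t * N) * Y s * (H t * N)⁻¹ = H t * (N * Y s * N⁻¹) * (H t)⁻¹ by group, R.N_Y,
      R.H_conj]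
    simp
  rw [show (H t * N) * (X (t : F) * Y (-((t⁻¹ : Fˣ) : F)) * X (t : F)) * (H t * N)⁻¹ =
    ((H t * N) * X (t : F) * (H t * N)⁻¹) * ((H t * N) * Y (-((t⁻¹ : Fˣ) : F)) * (H t * N)⁻¹) *
    ((H t * N) * X (t : F) * (H t * N)⁻¹) by group, e1, e2] at h2
  have e3 : ((t⁻¹ : Fˣ) : F) * ((t⁻¹ : Fˣ) : F) * t = ((t⁻¹ : Fˣ) : F) := by
    rw [mul_assoc, Units.inv_mul, mul_one]
  have e4 : (t : F) * t * -((t⁻¹ : Fˣ) : F) = -(t : F) := by rw [mul_neg, Units.mul_inv_cancel_right]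
  rw [e3, e4, neg_neg] at h2
  have h3 : N * (X (t : F) * Y (-((t⁻¹ : Fˣ) : F)) * X (t : F)) * N⁻¹ = H t⁻¹ * N := by
    rw [show N * (X (t : F) * Y (-((t⁻¹ : Fˣ) : F)) * X (t : F)) * N⁻¹ = (N * X (t : F) * N⁻¹) *
      (N * Y (-((t⁻¹ : Fˣ) : F)) * N⁻¹) * (N * X (t : F) * N⁻¹) by group, R.N_conj, R.N_Y, neg_neg,
      ← R.big t⁻¹, inv_inv]
    -- both words are the same element
    have h4 := h2
    have h5 : H t⁻¹ * N = (H t⁻¹ * N) * (X ((t⁻¹ : Fˣ) : F) * Y (-(t : F)) * X ((t⁻¹ : Fˣ) : F)) *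
        (H t⁻¹ * N)⁻¹ := by
      have hb := R.big t⁻¹
      rw [inv_inv] at hb
      rw [hb, mul_inv_cancel_right]
    rw [show (H t⁻¹ * N) * (X ((t⁻¹ : Fˣ) : F) * Y (-(t : F)) * X ((t⁻¹ : Fˣ) : F)) *
        (H t⁻¹ * N)⁻¹ = ((H t⁻¹ * N) * X ((t⁻¹ : Fˣ) : F) * (H t⁻¹ * N)⁻¹) *
      ((H t⁻¹ * N) * Y (-(t : F)) * (H t⁻¹ * N)⁻¹) *
      ((H t⁻¹ * N) * X ((t⁻¹ : Fˣ) : F) * (H t⁻¹ * N)⁻¹) by group] at h5
    have f1 : ∀ s : F, (H t⁻¹ * N) * X s * (H t⁻¹ * N)⁻¹ = Y (-((t : F) * t * s)) := fun s => by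
      rw [show (H t⁻¹ * N) * X s * (H t⁻¹ * N)⁻¹ = H t⁻¹ * (N * X s * N⁻¹) * (H t⁻¹)⁻¹ by group,
        R.N_conj, R.H_conjY, inv_inv]
      simp
    have f2 : ∀ s : F, (H t⁻¹ * N) * Y s * (H t⁻¹ * N)⁻¹ =
        X (-(((t⁻¹ : Fˣ) : F) * ((t⁻¹ : Fˣ) : F) * s)) := fun s => by
      rw [show (H t⁻¹ * N) * Y s * (H t⁻¹ * N)⁻¹ = H t⁻¹ * (N * Y s * N⁻¹) * (H t⁻¹)⁻¹ by group,
        R.N_Y, R.H_conj]
      simp
    have e5 : (t : F) * t * ((t⁻¹ : Fˣ) : F) = t := Units.mul_inv_cancel_right _ _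
    have e6 : ((t⁻¹ : Fˣ) : F) * ((t⁻¹ : Fˣ) : F) * -(t : F) = -((t⁻¹ : Fˣ) : F) := by
      rw [mul_neg, Units.inv_mul_cancel_right]
    rw [f1, f2, e5, e6, neg_neg] at h5
    have h6 := R.big t⁻¹
    rw [inv_inv] at h6
    rw [h6]
    exact h5.symm
  rw [h1, show N * (H t * N) * N⁻¹ = N * H t by group] at h3
  exact h3

open scoped Classical in
/-- The map on the normal form. -/
noncomputable def map (_R : SL2Rel X Y H N) (g : Matrix.SpecialLinearGroup (Fin 2) F) : G :=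
  if hc : g.1 1 0 = 0 then
    H (Units.mk0 (g.1 0 0) (fun h => by
      have := g.2; rw [Matrix.det_fin_two, h, hc] at this; simp at this)) * X (g.1 0 1 / g.1 0 0)
  else X (g.1 0 0 / g.1 1 0) * H (Units.mk0 (-(g.1 1 0)⁻¹) (neg_ne_zero.2 (inv_ne_zero hc))) * N *
    X (g.1 1 1 / g.1 1 0)

lemma map_zero {g : Matrix.SpecialLinearGroup (Fin 2) F} (hc : g.1 1 0 = 0) (a : Fˣ)
    (ha : g.1 0 0 = a) (β : F) (hb : g.1 0 1 / g.1 0 0 = β) : R.map g = H a * X β := by
  rw [map, dif_pos hc, hb]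
  congr 2
  exact Units.ext ha

lemma map_ne {g : Matrix.SpecialLinearGroup (Fin 2) F} (hc : g.1 1 0 ≠ 0) (α β : F) (s : Fˣ)
    (h1 : g.1 0 0 / g.1 1 0 = α) (h2 : -(g.1 1 0)⁻¹ = (s : F)) (h3 : g.1 1 1 / g.1 1 0 = β) :
    R.map g = X α * H s * N * X β := by
  have hs : Units.mk0 (-(g.1 1 0)⁻¹) (neg_ne_zero.2 (inv_ne_zero hc)) = s := Units.ext h2
  rw [map, dif_neg hc, h1, h3, hs]

lemma map_mul_U (g : Matrix.SpecialLinearGroup (Fin 2) F) (t : F) :
    R.map (g * slU t) = R.map g * X t := by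
  have e : (g * slU t).1 = !![g.1 0 0, g.1 0 0 * t + g.1 0 1; g.1 1 0, g.1 1 0 * t + g.1 1 1] := by
    rw [Matrix.SpecialLinearGroup.coe_mul]
    ext i j
    fin_cases i <;> fin_cases j <;> simp [slU, Matrix.mul_apply, Fin.sum_univ_two]
  by_cases hc : g.1 1 0 = 0
  · have ha : g.1 0 0 ≠ 0 := fun h => by have := g.2; rw [Matrix.det_fin_two, h, hc] at this; simp at this
    rw [R.map_zero (g := g * slU t) (by rw [e]; simp [hc]) (Units.mk0 _ ha) (by rw [e]; simp)
        (g.1 0 1 / g.1 0 0 + t) (by rw [e]; simp; field_simp; ring),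
      R.map_zero hc (Units.mk0 _ ha) rfl _ rfl, R.X_add, mul_assoc]
  · rw [R.map_ne (g := g * slU t) (by rw [e]; simpa using hc) (g.1 0 0 / g.1 1 0)
        (g.1 1 1 / g.1 1 0 + t) (Units.mk0 _ (neg_ne_zero.2 (inv_ne_zero hc))) (by rw [e]; simp)
        (by rw [e]; simp) (by rw [e]; simp; field_simp; ring),
      R.map_ne hc _ _ (Units.mk0 _ (neg_ne_zero.2 (inv_ne_zero hc))) rfl rfl rfl, R.X_add]
    simp only [mul_assoc]

lemma map_mul_D (g : Matrix.SpecialLinearGroup (Fin 2) F) (u : Fˣ) :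
    R.map (g * slD u) = R.map g * H u := by
  have e : (g * slD u).1 = !![g.1 0 0 * u, g.1 0 1 * ((u⁻¹ : Fˣ) : F);
      g.1 1 0 * u, g.1 1 1 * ((u⁻¹ : Fˣ) : F)] := by
    rw [Matrix.SpecialLinearGroup.coe_mul]
    ext i j
    fin_cases i <;> fin_cases j <;> simp [slD, Matrix.mul_apply, Fin.sum_univ_two]
  have hu := u.ne_zero
  by_cases hc : g.1 1 0 = 0
  · have ha : g.1 0 0 ≠ 0 := fun h => by have := g.2; rw [Matrix.det_fin_two, h, hc] at this; simp at this
    rw [R.map_zero (g := g * slD u) (by rw [e]; simp [hc]) (Units.mk0 _ ha * u) (by rw [e]; simp)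
        (((u⁻¹ : Fˣ) : F) * ((u⁻¹ : Fˣ) : F) * (g.1 0 1 / g.1 0 0))
        (by rw [e]; simp [Units.val_inv_eq_inv_val]; field_simp),
      R.map_zero hc (Units.mk0 _ ha) rfl _ rfl, mul_assoc (H _), R.X_H, map_mul, mul_assoc]
  · set s := Units.mk0 _ (neg_ne_zero.2 (inv_ne_zero hc)) with hs
    rw [R.map_ne (g := g * slD u) (by rw [e]; simpa using mul_ne_zero hc hu) (g.1 0 0 / g.1 1 0)
        (((u⁻¹ : Fˣ) : F) * ((u⁻¹ : Fˣ) : F) * (g.1 1 1 / g.1 1 0)) (s * u⁻¹)
        (by rw [e]; simp; field_simp)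
        (by rw [e, hs]; simp [Units.val_inv_eq_inv_val]; field_simp)
        (by rw [e]; simp [Units.val_inv_eq_inv_val]; field_simp),
      R.map_ne hc _ _ s rfl rfl rfl, mul_assoc _ (X (g.1 1 1 / g.1 1 0)), R.X_H u (g.1 1 1 / g.1 1 0),
      ← mul_assoc,
      mul_assoc (X _ * H s) N (H u), R.N_H, map_mul]
    simp only [mul_assoc]

lemma map_mul_W (g : Matrix.SpecialLinearGroup (Fin 2) F) :
    R.map (g * slW) = R.map g * N := by
  have e : (g * slW).1 = !![-(g.1 0 1), g.1 0 0; -(g.1 1 1), g.1 1 0] := by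
    rw [Matrix.SpecialLinearGroup.coe_mul]
    ext i j
    fin_cases i <;> fin_cases j <;> simp [slW, Matrix.mul_apply, Fin.sum_univ_two]
  have hdet := g.2
  rw [Matrix.det_fin_two] at hdet
  by_cases hc : g.1 1 0 = 0
  · have hd : g.1 1 1 ≠ 0 := fun h => by rw [h, hc] at hdet; simp at hdet
    have ha : g.1 0 0 ≠ 0 := fun h => by rw [h, hc] at hdet; simp at hdet
    have had : g.1 1 1 = (g.1 0 0)⁻¹ := eq_inv_of_mul_eq_one_right (by rw [hc] at hdet; simpa using hdet)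
    rw [R.map_ne (g := g * slW) (by rw [e]; simpa using hd) (g.1 0 0 * g.1 0 1) 0 (Units.mk0 _ ha)
        (by rw [e]; simp [had]; ring) (by rw [e]; simp [had]) (by rw [e]; simp [hc]),
      R.map_zero hc (Units.mk0 _ ha) rfl _ rfl, R.X_zero, mul_one, R.H_X, Units.val_mk0,
      show g.1 0 0 * g.1 0 0 * (g.1 0 1 / g.1 0 0) = g.1 0 0 * g.1 0 1 by field_simp]
  · set s := Units.mk0 _ (neg_ne_zero.2 (inv_ne_zero hc)) with hs
    rw [R.map_ne hc _ _ s rfl rfl rfl]
    by_cases hd : g.1 1 1 = 0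
    · have hb : g.1 0 1 ≠ 0 := fun h => by rw [h, hd] at hdet; simp at hdet
      rw [hd, zero_div, R.X_zero, mul_one, mul_assoc, R.N_sq, mul_assoc, ← map_mul, R.X_H]
      refine R.map_zero (g := g * slW) (by rw [e]; simp [hd]) (s * -1) ?_ _ ?_
      · rw [e, hs]
        simp only [hd, mul_zero, zero_sub] at hdet
        simp
        field_simp
        linear_combination hdet
      · rw [e, hs]
        simp only [hd, mul_zero, zero_sub] at hdet
        simp
        field_simp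
        linear_combination g.1 0 0 * hdet
    · set β := Units.mk0 (g.1 1 1 / g.1 1 0) (div_ne_zero hd hc) with hβ
      have key : N * X (β : F) * N = X (-((β⁻¹ : Fˣ) : F)) * H (-β⁻¹) * N * X (-((β⁻¹ : Fˣ) : F)) := by
        have h := R.big β⁻¹
        rw [inv_inv] at h
        have h' : Y (-(β : F)) = X (-((β⁻¹ : Fˣ) : F)) * (H β⁻¹ * N) * X (-((β⁻¹ : Fˣ) : F)) := by
          rw [← h, ← mul_assoc, ← mul_assoc, ← R.X_add, neg_add_cancel, R.X_zero, one_mul, mul_assoc,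
            ← R.X_add, add_neg_cancel, R.X_zero, mul_one]
        rw [show N * X (β : F) * N = N * X (β : F) * N⁻¹ * (N * N) by group, R.N_conj, R.N_sq, h',
          mul_assoc _ (X (-((β⁻¹ : Fˣ) : F))), R.X_H (-1) (-((β⁻¹ : Fˣ) : F)), inv_neg, inv_one]
        simp only [Units.val_neg, Units.val_one, neg_mul_neg, one_mul, ← mul_assoc]
        congr 1
        rw [mul_assoc _ N, R.N_H, inv_neg, inv_one, ← mul_assoc, mul_assoc _ (H β⁻¹), ← map_mul,
          mul_neg, mul_one]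
      rw [R.map_ne (g := g * slW) (by rw [e]; simpa using hd) (g.1 0 1 / g.1 1 1) (-(g.1 1 0 / g.1 1 1))
        (Units.mk0 _ (inv_ne_zero hd)) (by rw [e]; simp [neg_div_neg_eq]) (by rw [e]; simp [inv_neg])
        (by rw [e]; simp [div_neg]),
        show X (g.1 1 1 / g.1 1 0) = X (β : F) from rfl,
        show X (g.1 0 0 / g.1 1 0) * H s * N * X (β : F) * N =
          X (g.1 0 0 / g.1 1 0) * H s * (N * X (β : F) * N) by group, key,
        show X (g.1 0 0 / g.1 1 0) * H s * (X (-((β⁻¹ : Fˣ) : F)) * H (-β⁻¹) * N *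
          X (-((β⁻¹ : Fˣ) : F))) = X (g.1 0 0 / g.1 1 0) * (H s * X (-((β⁻¹ : Fˣ) : F))) *
          H (-β⁻¹) * N * X (-((β⁻¹ : Fˣ) : F)) by group, R.H_X, ← mul_assoc, ← R.X_add,
        mul_assoc _ (H s), ← map_mul]
      have f1 : g.1 0 0 / g.1 1 0 + (s : F) * s * -((β⁻¹ : Fˣ) : F) = g.1 0 1 / g.1 1 1 := by
        simp [hs, hβ]
        field_simp
        linear_combination hdet
      have f2 : s * -β⁻¹ = Units.mk0 _ (inv_ne_zero hd) := Units.ext (by simp [hs, hβ]; field_simp)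
      have f3 : -((β⁻¹ : Fˣ) : F) = -(g.1 1 0 / g.1 1 1) := by simp [hβ]
      rw [f1, f2, f3]

/-- Every element is a product of generators. -/
lemma normal_form (g : Matrix.SpecialLinearGroup (Fin 2) F) :
    (∃ a β, g = slD a * slU β) ∨ ∃ α s β, g = slU α * slD s * slW * slU β := by
  have hdet := g.2
  rw [Matrix.det_fin_two] at hdet
  by_cases hc : g.1 1 0 = 0
  · have ha : g.1 0 0 ≠ 0 := fun h => by rw [h, hc] at hdet; simp at hdet
    refine Or.inl ⟨Units.mk0 _ ha, g.1 0 1 / g.1 0 0, Subtype.ext ?_⟩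
    rw [hc, mul_zero, sub_zero] at hdet
    rw [Matrix.SpecialLinearGroup.coe_mul]
    ext i j
    fin_cases i <;> fin_cases j <;>
      simp [slD, slU, Matrix.mul_apply, Fin.sum_univ_two, hc, eq_inv_of_mul_eq_one_right hdet] <;>
      field_simp
  · refine Or.inr ⟨g.1 0 0 / g.1 1 0, Units.mk0 _ (neg_ne_zero.2 (inv_ne_zero hc)),
      g.1 1 1 / g.1 1 0, Subtype.ext ?_⟩
    simp only [Matrix.SpecialLinearGroup.coe_mul]
    ext i j
    fin_cases i <;> fin_cases j <;>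
      simp [slD, slU, slW, Matrix.mul_apply, Fin.sum_univ_two] <;> field_simp
    linear_combination (-1 : F) * hdet

lemma map_one' : R.map 1 = 1 := by
  rw [R.map_zero (g := 1) (by simp) 1 (by simp) 0 (by simp), map_one, R.X_zero, one_mul]

/-- The homomorphism. -/
noncomputable def hom : Matrix.SpecialLinearGroup (Fin 2) F →* G where
  toFun := R.map
  map_one' := R.map_one'
  map_mul' g h := by
    have e1 : ∀ u, R.map (slU u) = X u := fun u => by
      have := R.map_mul_U 1 u; rwa [one_mul, R.map_one', one_mul] at this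
    have e2 : ∀ u, R.map (slD u) = H u := fun u => by
      have := R.map_mul_D 1 u; rwa [one_mul, R.map_one', one_mul] at this
    rcases R.normal_form h with ⟨a, β, rfl⟩ | ⟨α, s, β, rfl⟩
    · rw [← mul_assoc, R.map_mul_U, R.map_mul_D, R.map_mul_U, e2, mul_assoc]
    · simp only [← mul_assoc, R.map_mul_U, R.map_mul_W, R.map_mul_D, e1]

lemma hom_U (t : F) : R.hom (slU t) = X t := by
  show R.map _ = _
  have := R.map_mul_U 1 t; rwa [one_mul, R.map_one', one_mul] at this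

lemma hom_D (t : Fˣ) : R.hom (slD t) = H t := by
  show R.map _ = _
  have := R.map_mul_D 1 t; rwa [one_mul, R.map_one', one_mul] at this

lemma hom_W : R.hom slW = N := by
  show R.map _ = _
  have := R.map_mul_W 1; rwa [one_mul, R.map_one', one_mul] at this

lemma hom_L (t : F) : R.hom (slL t) = Y t := by
  have e : slL t = slW * slU (-t) * (slW : Matrix.SpecialLinearGroup (Fin 2) F)⁻¹ := by
    rw [eq_mul_inv_iff_mul_eq]
    refine Subtype.ext ?_
    simp only [Matrix.SpecialLinearGroup.coe_mul]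
    ext i j
    fin_cases i <;> fin_cases j <;> simp [slL, slW, slU, Matrix.mul_apply, Fin.sum_univ_two]
  rw [e, map_mul, map_mul, map_inv, R.hom_W, R.hom_U, R.N_conj, neg_neg]

end SL2Rel

/-- The automorphism of SL₂ by a sign. -/
def slSign {F : Type*} [Field F] (e : F) (hee : e * e = 1) :
    Matrix.SpecialLinearGroup (Fin 2) F →* Matrix.SpecialLinearGroup (Fin 2) F where
  toFun A := ⟨!![A.1 0 0, e * A.1 0 1; e * A.1 1 0, A.1 1 1], by
    have h := A.2
    rw [Matrix.det_fin_two] at h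
    rw [Matrix.det_fin_two_of]
    linear_combination h - A.1 0 1 * A.1 1 0 * hee⟩
  map_one' := Subtype.ext (by simp [Matrix.one_fin_two])
  map_mul' A B := Subtype.ext (by
    show (!![(A.1 * B.1) 0 0, e * (A.1 * B.1) 0 1; e * (A.1 * B.1) 1 0, (A.1 * B.1) 1 1] :
        Matrix (Fin 2) (Fin 2) F) =
      !![A.1 0 0, e * A.1 0 1; e * A.1 1 0, A.1 1 1] * !![B.1 0 0, e * B.1 0 1; e * B.1 1 0, B.1 1 1]
    ext a b
    fin_cases a <;> fin_cases b <;> simp [Matrix.mul_apply, Fin.sum_univ_two] <;>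
      first | ring1 | linear_combination (-(A.1 0 1 * B.1 1 0)) * hee |
        linear_combination (-(A.1 1 0 * B.1 0 1)) * hee)

lemma slSign_val {F : Type*} [Field F] (e : F) (hee : e * e = 1)
    (A : Matrix.SpecialLinearGroup (Fin 2) F) :
    (slSign e hee A).1 = !![A.1 0 0, e * A.1 0 1; e * A.1 1 0, A.1 1 1] := rfl

/-- SL₂ is generated by its unitriangular elements. -/
theorem closure_slU_slL (F : Type*) [Field F] :
    Subgroup.closure (Set.range (slU (F := F)) ∪ Set.range slL) = ⊤ := by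
  set S := Subgroup.closure (Set.range (slU (F := F)) ∪ Set.range slL)
  have hu : ∀ t : F, slU t ∈ S := fun t => Subgroup.subset_closure (Or.inl ⟨t, rfl⟩)
  have hl : ∀ t : F, slL t ∈ S := fun t => Subgroup.subset_closure (Or.inr ⟨t, rfl⟩)
  have hdw : ∀ s : Fˣ, slD s * slW ∈ S := fun s => by
    have e : slD s * slW = slU (s : F) * slL (-((s⁻¹ : Fˣ) : F)) * slU (s : F) := Subtype.ext (by
      simp only [Matrix.SpecialLinearGroup.coe_mul]
      ext i j
      fin_cases i <;> fin_cases j <;> simp [slD, slW, slU, slL, Matrix.mul_apply, Fin.sum_univ_two])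
    rw [e]; exact mul_mem (mul_mem (hu _) (hl _)) (hu _)
  have h1 : slD (1 : Fˣ) = 1 := Subtype.ext (by simp [slD, Matrix.one_fin_two])
  have hd : ∀ s : Fˣ, slD s ∈ S := fun s => by
    have h := mul_mem (hdw s) (inv_mem (hdw 1))
    rwa [h1, one_mul, mul_inv_cancel_right] at h
  rw [eq_top_iff]
  intro g _
  let R : SL2Rel (G := Matrix.SpecialLinearGroup (Fin 2) F ⧸ (⊤ : Subgroup _))
      (fun _ : F => 1) (fun _ => 1) 1 1 :=
    ⟨by simp, by simp, by simp, by simp, by simp, by simp⟩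
  rcases R.normal_form g with ⟨a, β, rfl⟩ | ⟨α, s, β, rfl⟩
  · exact mul_mem (hd _) (hu _)
  · rw [mul_assoc (slU α)]
    exact mul_mem (mul_mem (hu _) (hdw _)) (hu _)

namespace Good

variable {D : ChevalleyDatum} (g : Good D) {F : Type*} [Field F]
include g

lemma cartan_neg {i u : ℕ} (hi : i < D.rank) (hu : u < D.nroots) :
    D.cartan i (D.neg u) = - D.cartan i u := by
  rw [g.cartan_eq_sum (g.neg_lt hu) hi, g.cartan_eq_sum hu hi, ← Finset.sum_neg_distrib]
  exact Finset.sum_congr rfl fun j hj => by rw [g.co_neg hu (Finset.mem_range.1 hj), neg_mul]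

/-- The relations for a fundamental root. -/
theorem sl2Rel_simple {i : ℕ} (hi : i < D.rank) :
    SL2Rel (F := F) (fun t => g.xG (D.simple i) t) (fun t => g.xG (D.neg (D.simple i)) t)
      (g.hG (D.simple i)) (g.nG (D.simple i) 1) := by
  have hr := g.simple_lt hi
  refine ⟨fun s t => (g.xG_add _ s t).symm, fun c t => ?_, fun c t => ?_, fun t => ?_, ?_, fun t => ?_⟩
  · rw [g.hG_conj_xG hr, g.pair_simple hi hr, g.cartan_simple hi]
    congr 1
    simp [zpow_ofNat, sq]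
  · rw [g.hG_conj_xG (g.neg_lt hr), g.pair_simple hi (g.neg_lt hr), g.cartan_neg hi hr,
      g.cartan_simple hi]
    congr 1
    simp [zpow_neg, zpow_ofNat, sq]
  · have he : g.eta i (D.simple i) = -1 :=
      (StructChecks.eta_facts g.lie g.struc hi hr).2.2.2
    rw [g.nG_conj_xG hi hr, he, g.refl_simple]
    simp
  · have h : g.nG (F := F) (D.simple i) 1 * g.nG (D.simple i) 1 = (g.hG (D.simple i) (-1))⁻¹ := by
      rw [g.hG_eq hr, ← g.nG_inv_one hr, _root_.mul_inv_rev, inv_inv]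
    rw [h, ← map_inv]
    simp
  · rw [← g.nG_eq_hG_mul hr]
    rfl

/-- Every root is the image of a fundamental root by a word. -/
theorem exists_word_simple {r : ℕ} (hr : r < D.nroots) :
    ∃ (l : List (Fin D.rank)) (i : Fin D.rank),
      (g.wperm l ⟨D.simple i, g.simple_lt i.2⟩ : ℕ) = r ∧
        (g.wperm l ⟨D.neg (D.simple i), g.neg_lt (g.simple_lt i.2)⟩ : ℕ) = D.neg r := by
  refine g.root_induction (P := fun r => ∃ (l : List (Fin D.rank)) (i : Fin D.rank),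
      (g.wperm l ⟨D.simple i, g.simple_lt i.2⟩ : ℕ) = r ∧
        (g.wperm l ⟨D.neg (D.simple i), g.neg_lt (g.simple_lt i.2)⟩ : ℕ) = D.neg r) ?_ ?_ hr
  · exact fun i hi => ⟨[], ⟨i, hi⟩, by simp [g.wperm_nil], by simp [g.wperm_nil]⟩
  · rintro i hi s hs ⟨l, j, h1, h2⟩
    refine ⟨⟨i, hi⟩ :: l, j, ?_, ?_⟩ <;> rw [g.wperm_cons]
    · show D.reflectRoot i _ = _
      rw [h1]
    · show D.reflectRoot i _ = _
      rw [h2, g.refl_neg hi hs]

lemma wordN_conj_xG_pair (l : List (Fin D.rank)) (s : Fin D.nroots) :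
    ∃ e : F, e * e = 1 ∧
      (∀ t : F, g.wordN l * g.xG s t * (g.wordN l)⁻¹ = g.xG (g.wperm l s) (e * t)) ∧
      ∀ t : F, g.wordN l * g.xG (D.neg s) t * (g.wordN l)⁻¹ = g.xG (D.neg (g.wperm l s)) (e * t) := by
  induction l with
  | nil => exact ⟨1, one_mul 1, fun t => by simp [g.wordN_nil, g.wperm_nil],
      fun t => by simp [g.wordN_nil, g.wperm_nil]⟩
  | cons i l ih =>
    obtain ⟨e, he, h1, h2⟩ := ih
    have hs := (g.wperm l s).2
    refine ⟨(g.eta i (g.wperm l s) : F) * e, ?_, fun t => ?_, fun t => ?_⟩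
    · rcases g.eta_sign i.2 hs with h | h <;> simp [h, he]
    · rw [g.wordN_cons, show g.nI i * g.wordN l * g.xG s t * (g.nI i * g.wordN l)⁻¹ =
        g.nI i * (g.wordN l * g.xG s t * (g.wordN l)⁻¹) * (g.nI i)⁻¹ by group, h1, nI,
        g.nG_conj_xG i.2 hs, g.wperm_cons, mul_assoc]
      rfl
    · have hen : g.eta i (D.neg (g.wperm l s)) = g.eta i (g.wperm l s) :=
        (StructChecks.eta_facts g.lie g.struc i.2 hs).2.1
      rw [g.wordN_cons, show g.nI i * g.wordN l * g.xG (D.neg s) t * (g.nI i * g.wordN l)⁻¹ =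
        g.nI i * (g.wordN l * g.xG (D.neg s) t * (g.wordN l)⁻¹) * (g.nI i)⁻¹ by group, h2, nI,
        g.nG_conj_xG i.2 (g.neg_lt hs), g.refl_neg i.2 hs, hen, g.wperm_cons, mul_assoc]
      rfl

/-- The rank-one homomorphism of a root. -/
theorem exists_rootHom {r : ℕ} (hr : r < D.nroots) :
    ∃ φ : Matrix.SpecialLinearGroup (Fin 2) F →* GL D.Idx F,
      (∀ t, φ (slU t) = g.xG r t) ∧ (∀ t, φ (slL t) = g.xG (D.neg r) t) ∧
      ∀ t, φ (slD t) = g.hG r t := by
  obtain ⟨l, i, h1, -⟩ := g.exists_word_simple hr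
  have hi := g.simple_lt i.2
  have R := g.sl2Rel_simple (F := F) i.2
  obtain ⟨e, hee, he, he'⟩ := g.wordN_conj_xG_pair (F := F) l ⟨D.simple i, hi⟩
  simp only [h1] at he he'
  refine ⟨((MulAut.conj (g.wordN l)).toMonoidHom.comp R.hom).comp (slSign e hee), fun t => ?_,
    fun t => ?_, fun t => ?_⟩
  · rw [MonoidHom.comp_apply, show slSign e hee (slU t) = slU (e * t) from
      Subtype.ext (by show (slSign e hee (slU t)).1 = _; rw [slSign_val]; simp [slU]), MonoidHom.comp_apply, R.hom_U]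
    simp only [MulEquiv.coe_toMonoidHom, MulAut.conj_apply]
    rw [he, ← mul_assoc, hee, one_mul]
  · rw [MonoidHom.comp_apply, show slSign e hee (slL t) = slL (e * t) from
      Subtype.ext (by show (slSign e hee (slL t)).1 = _; rw [slSign_val]; simp [slL]), MonoidHom.comp_apply, R.hom_L]
    simp only [MulEquiv.coe_toMonoidHom, MulAut.conj_apply]
    rw [he', ← mul_assoc, hee, one_mul]
  · rw [MonoidHom.comp_apply, show slSign e hee (slD t) = slD t from
      Subtype.ext (by show (slSign e hee (slD t)).1 = _; rw [slSign_val]; simp [slD]), MonoidHom.comp_apply, R.hom_D]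
    simp only [MulEquiv.coe_toMonoidHom, MulAut.conj_apply]
    rw [g.wordN_conj_hG l ⟨D.simple i, hi⟩ t, h1]

end Good

end CfsgLib.Chev
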