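import Mathlib
import Cfsg.Agent.Lib.Chev.CardGroup
import Cfsg.Agent.Lib.Chev.SL2Hom
import Cfsg.Agent.Lib.Chev.InvertedBy

/-!
Chevalley groups over a finite field of odd order: every involution is conjugate to a monomial involution,
and rank-one moves between monomial involutions that lower the Weyl component.
-/

set_option autoImplicit false
set_option linter.unusedSectionVars false
set_option maxHeartbeats 800000

namespace CfsgLib.Chev.InvolMono

open Cfsg.Lie

variable {D : ChevalleyDatum} {F : Type*} [Field F]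

/-- Conjugate by an element of the group. -/
def GConj (x y : GL D.Idx F) : Prop := ∃ z ∈ D.group F, z * x * z⁻¹ = y

theorem GConj.refl (x : GL D.Idx F) : GConj x x := ⟨1, one_mem _, by group⟩

theorem GConj.symm {x y : GL D.Idx F} (h : GConj x y) : GConj y x := by
  obtain ⟨z, hz, rfl⟩ := h
  exact ⟨z⁻¹, inv_mem hz, by group⟩

theorem GConj.trans {x y w : GL D.Idx F} (h : GConj x y) (h' : GConj y w) : GConj x w := by
  obtain ⟨z, hz, rfl⟩ := h
  obtain ⟨z', hz', rfl⟩ := h'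
  exact ⟨z' * z, mul_mem hz' hz, by group⟩

theorem GConj.sq_eq_one {x y : GL D.Idx F} (h : GConj x y) (hx : x * x = 1) : y * y = 1 := by
  obtain ⟨z, -, rfl⟩ := h
  rw [show z * x * z⁻¹ * (z * x * z⁻¹) = z * (x * x) * z⁻¹ by group, hx]
  group

variable (g : Good D)
include g

/-- Every involution is conjugate to a monomial involution. -/
theorem exists_monomial_conj [Fintype F] (hc : HasComm D) (hF : Odd (Fintype.card F))
    {x : GL D.Idx F} (hx : x ∈ D.group F) (hsq : x * x = 1) :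
    ∃ n ∈ D.monomialSubgroup F, n * n = 1 ∧ GConj x n := by
  obtain ⟨b, hb, m, hm, π, -, hπ, u, hu, rfl⟩ := g.exists_canonical hc hx
  have huG : u ∈ D.group F := g.posUnipotent_le_group (g.minus_le_pos π hu)
  obtain ⟨v, hv, h, hh, hvh⟩ := g.mem_borel.1 (mul_mem (Subgroup.mem_sup_left (g.minus_le_pos π hu)) hb)
  have hmN : h * m ∈ D.monomialSubgroup F := mul_mem (Subgroup.mem_sup_left hh) hm
  have hact : g.Acts (h * m) π := by
    have := g.acts_mul (g.acts_diagonal hh) hπ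
    rwa [one_mul] at this
  have hx' : u * (b * m * u) * u⁻¹ = v * (h * m) := by
    calc u * (b * m * u) * u⁻¹ = (u * b) * m := by group
      _ = v * h * m := by rw [hvh]
      _ = _ := mul_assoc _ _ _
  have hconj : GConj (b * m * u) (v * (h * m)) := ⟨u, huG, hx'⟩
  have hsq' := hconj.sq_eq_one hsq
  generalize h * m = k at hmN hact hconj hsq'
  have hvB : v ∈ D.borelSubgroup F := Subgroup.mem_sup_left hv
  have he : v * k * v = k⁻¹ := eq_inv_of_mul_eq_one_left (by rw [← hsq']; group)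
  have hT : k⁻¹ * k⁻¹ ∈ D.diagonalSubgroup F :=
    g.canonical_coset hc hvB (one_mem _) hmN (inv_mem hmN) hvB (one_mem _)
      (show v * k * v = 1 * k⁻¹ * 1 by rw [he, one_mul, mul_one])
  obtain ⟨a, ha, c, hcm, hac⟩ := g.pos_split hc π hv
  have e : v * (k * a * k⁻¹) * k * c = k⁻¹ * k⁻¹ * k * 1 := by
    calc v * (k * a * k⁻¹) * k * c = v * k * (a * c) := by group
      _ = v * k * v := by rw [← hac]
      _ = k⁻¹ := he
      _ = _ := by group
  obtain ⟨e1, e2⟩ := g.canonical_unique (mul_mem hvB (Subgroup.mem_sup_left (g.conj_plus_le hact ha)))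
    (Subgroup.mem_sup_right hT) hact hcm (one_mem _) e
  rw [e2, mul_one] at hac
  subst hac
  have h1 : v * (k * v * k⁻¹) ∈ D.posUnipotent F ⊓ D.diagonalSubgroup F :=
    Subgroup.mem_inf.2 ⟨mul_mem hv (g.conj_plus_le hact ha), e1 ▸ hT⟩
  rw [g.pos_inf_diagonal, Subgroup.mem_bot] at h1
  rw [h1] at e1
  have hk2 : k * k = 1 := by
    rw [← inv_inj, _root_.mul_inv_rev, inv_one]
    exact e1.symm
  have hinv : k * v * k⁻¹ = v⁻¹ := eq_inv_of_mul_eq_one_right h1
  have hodd : Odd (Nat.card (D.posUnipotent F)) := by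
    rw [g.card_posUnipotent hc]; exact hF.pow
  obtain ⟨z, hz, hzz⟩ := InvBy.exists_sqrt (X := D.posUnipotent F) hodd ⟨hv, hinv⟩
  refine ⟨k, hmN, hk2, hconj.trans ⟨z⁻¹, inv_mem (g.posUnipotent_le_group hz.1), ?_⟩⟩
  have hz' : k * z⁻¹ * k⁻¹ = z := by rw [← conj_inv, hz.2, inv_inv]
  rw [← hzz, inv_inv]
  calc z⁻¹ * (z * z * k) * z = z * k * z := by group
    _ = z * (k * z * k⁻¹) * k := by group
    _ = z * z⁻¹ * k := by rw [hz.2]
    _ = k := by group

/-- `x` permutes the root subgroups by signs that agree on opposite roots. -/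
def Sgn (x : GL D.Idx F) (π : Equiv.Perm (Fin D.nroots)) : Prop :=
  ∀ r : Fin D.nroots, ∃ η : Fˣ, η * η = 1 ∧
    (∀ t : F, x * g.xG r t * x⁻¹ = g.xG (π r) ((η : F) * t)) ∧
    ∀ t : F, x * g.xG (g.nroot r) t * x⁻¹ = g.xG (g.nroot (π r)) ((η : F) * t)

theorem Sgn.mul {x y : GL D.Idx F} {π σ : Equiv.Perm (Fin D.nroots)} (hx : Sgn g x π) (hy : Sgn g y σ) :
    Sgn g (x * y) (π * σ) := by
  intro r
  obtain ⟨η, hη, h1, h2⟩ := hy r
  obtain ⟨ε, hε, h3, h4⟩ := hx (σ r)
  refine ⟨ε * η, by rw [mul_mul_mul_comm, hε, hη, one_mul], fun t => ?_, fun t => ?_⟩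
  · rw [show x * y * g.xG r t * (x * y)⁻¹ = x * (y * g.xG r t * y⁻¹) * x⁻¹ by group, h1, h3,
      Units.val_mul, mul_assoc]
    rfl
  · rw [show x * y * g.xG (g.nroot r) t * (x * y)⁻¹ = x * (y * g.xG (g.nroot r) t * y⁻¹) * x⁻¹ by group,
      h2, h4, Units.val_mul, mul_assoc]
    rfl

theorem Sgn.inv {x : GL D.Idx F} {π : Equiv.Perm (Fin D.nroots)} (hx : Sgn g x π) : Sgn g x⁻¹ π⁻¹ := by
  intro r
  obtain ⟨η, hη, h1, h2⟩ := hx (π⁻¹ r)
  have hv : ∀ t : F, (η : F) * ((η : F) * t) = t := fun t => by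
    rw [← mul_assoc, ← Units.val_mul, hη, Units.val_one, one_mul]
  have hr : π (π⁻¹ r) = r := π.apply_symm_apply r
  refine ⟨η, hη, fun t => ?_, fun t => ?_⟩
  · have h := h1 ((η : F) * t)
    rw [hr, hv] at h
    rw [← h, inv_inv]
    group
  · have h := h2 ((η : F) * t)
    rw [hr, hv] at h
    rw [← h, inv_inv]
    group

theorem Sgn.acts {x : GL D.Idx F} {π : Equiv.Perm (Fin D.nroots)} (hx : Sgn g x π) : g.Acts x π := fun r =>
  ⟨(hx r).choose, (hx r).choose_spec.2.1⟩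

theorem sgn_wordN (l : List (Fin D.rank)) : Sgn g (g.wordN l : GL D.Idx F) (g.wperm l) := by
  intro r
  obtain ⟨e, he, h1, h2⟩ := g.wordN_conj_xG_pair (F := F) l r
  exact ⟨⟨e, e, he, he⟩, Units.ext he, h1, h2⟩

theorem pair_nroot (a : ℕ) (u : Fin D.nroots) : pair D a (g.nroot u) = - pair D a u := by
  simp only [pair, Good.nroot, ← Finset.sum_neg_distrib]
  exact Finset.sum_congr rfl fun i hi => by rw [g.cartan_neg (Finset.mem_range.1 hi) u.2, mul_neg]

theorem sgn_hG (a : ℕ) {e : Fˣ} (he : e * e = 1) : Sgn g (g.hG a e : GL D.Idx F) 1 := by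
  intro r
  refine ⟨e ^ pair D a r, by rw [← mul_zpow, he, one_zpow], fun t => g.hG_conj_xG r.2 e t, fun t => ?_⟩
  rw [g.hG_conj_xG (g.nroot r).2, pair_nroot g, zpow_neg, ← inv_zpow, inv_eq_of_mul_eq_one_left he]
  rfl

/-- The word of the reflection in the root `wperm l αᵢ`. -/
def refWord (l : List (Fin D.rank)) (i : Fin D.rank) : List (Fin D.rank) := l ++ i :: l.reverse

theorem wperm_refWord (l : List (Fin D.rank)) (i : Fin D.rank) :
    g.wperm (refWord l i) = g.wperm l * g.rperm i * (g.wperm l)⁻¹ := by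
  rw [refWord, g.wperm_append, g.wperm_cons, g.wperm_reverse, mul_assoc]

theorem wperm_refWord_sq (l : List (Fin D.rank)) (i : Fin D.rank) :
    g.wperm (refWord l i) * g.wperm (refWord l i) = 1 := by
  rw [wperm_refWord]
  calc _ = g.wperm l * (g.rperm i * g.rperm i) * (g.wperm l)⁻¹ := by group
    _ = 1 := by rw [g.rperm_mul_self]; group

theorem sgn_nI (i : Fin D.rank) : Sgn g (g.nI i : GL D.Idx F) (g.rperm i) := by
  have h := sgn_wordN (F := F) g [i]
  simpa [Good.wordN, Good.wperm] using h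

theorem sgn_nG (l : List (Fin D.rank)) (i : Fin D.rank) :
    Sgn g (g.nG (g.wperm l (g.sroot i)) 1 : GL D.Idx F) (g.wperm (refWord l i)) := by
  obtain ⟨e, he, h1, h2⟩ := g.wordN_conj_xG_pair (F := F) l (g.sroot i)
  let E : Fˣ := ⟨e, e, he, he⟩
  set a : Fin D.nroots := g.wperm l (g.sroot i) with ha
  have h3 : g.wordN l * g.nI i * (g.wordN l)⁻¹ = g.nG a E := by
    rw [Good.nI, Good.nG, show (g.sroot i : ℕ) = D.simple i from rfl] at *
    rw [show g.wordN l * (g.xG (D.simple i) ((1 : Fˣ) : F) * g.xG (D.neg (D.simple i)) (-((1⁻¹ : Fˣ) : F)) *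
        g.xG (D.simple i) ((1 : Fˣ) : F)) * (g.wordN l)⁻¹ =
      (g.wordN l * g.xG (D.simple i) ((1 : Fˣ) : F) * (g.wordN l)⁻¹) *
      (g.wordN l * g.xG (D.neg (D.simple i)) (-((1⁻¹ : Fˣ) : F)) * (g.wordN l)⁻¹) *
      (g.wordN l * g.xG (D.simple i) ((1 : Fˣ) : F) * (g.wordN l)⁻¹) by group, h1, h2]
    simp [Good.nG, E, ha]
  have hEE : E * E = 1 := Units.ext he
  have h4 : g.nG a 1 = g.hG a E * (g.wordN l * g.nI i * (g.wordN l)⁻¹) := by
    rw [h3, g.nG_eq_hG_mul a.2 E, ← mul_assoc, ← map_mul, hEE, map_one, one_mul]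
  rw [h4, wperm_refWord, ← one_mul (g.wperm l * g.rperm i * (g.wperm l)⁻¹)]
  exact (sgn_hG g _ hEE).mul g (((sgn_wordN g l).mul g (sgn_nI g i)).mul g ((sgn_wordN g l).inv g))

theorem xG_cancel {r : ℕ} (hr : r < D.nroots) {a b : F} (h : g.xG r a = g.xG r b) : a = b := by
  have h1 : g.xG r (a - b) = 1 := by rw [sub_eq_add_neg, ← g.xG_add, ← g.xG_inv, h, mul_inv_cancel]
  exact sub_eq_zero.1 ((g.x_eq_one_iff hr _).1 (congrArg Units.val h1))

/-- The automorphism of SL₂ induced by an element interchanging opposite root groups. -/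
def theta (c : Fˣ) : Matrix.SpecialLinearGroup (Fin 2) F →* Matrix.SpecialLinearGroup (Fin 2) F where
  toFun A := ⟨!![A.1 1 1, ((c⁻¹ : Fˣ) : F) * A.1 1 0; (c : F) * A.1 0 1, A.1 0 0], by
    have h := A.2
    rw [Matrix.det_fin_two] at h
    rw [Matrix.det_fin_two_of]
    linear_combination h - A.1 0 1 * A.1 1 0 * c.inv_mul⟩
  map_one' := Subtype.ext (by simp [Matrix.one_fin_two])
  map_mul' A B := Subtype.ext (by
    show (!![(A.1 * B.1) 1 1, ((c⁻¹ : Fˣ) : F) * (A.1 * B.1) 1 0; (c : F) * (A.1 * B.1) 0 1, (A.1 * B.1) 0 0] :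
        Matrix (Fin 2) (Fin 2) F) =
      !![A.1 1 1, ((c⁻¹ : Fˣ) : F) * A.1 1 0; (c : F) * A.1 0 1, A.1 0 0] *
        !![B.1 1 1, ((c⁻¹ : Fˣ) : F) * B.1 1 0; (c : F) * B.1 0 1, B.1 0 0]
    ext a b
    fin_cases a <;> fin_cases b <;> simp [Matrix.mul_apply, Fin.sum_univ_two] <;>
      first | ring1 | (field_simp; ring1) | field_simp)

omit g in
theorem theta_val (c : Fˣ) (A : Matrix.SpecialLinearGroup (Fin 2) F) :
    (theta c A).1 = !![A.1 1 1, ((c⁻¹ : Fˣ) : F) * A.1 1 0; (c : F) * A.1 0 1, A.1 0 0] := rfl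

omit g in
theorem slW_eq : (slW : Matrix.SpecialLinearGroup (Fin 2) F) = slU 1 * slL (-1) * slU 1 := by
  refine Subtype.ext ?_
  simp only [Matrix.SpecialLinearGroup.coe_mul]
  ext i j
  fin_cases i <;> fin_cases j <;> simp [slW, slU, slL, Matrix.mul_apply, Fin.sum_univ_two]

omit g in
theorem slD_neg_one : (slD (-1 : Fˣ) : Matrix.SpecialLinearGroup (Fin 2) F) = -1 := by
  refine Subtype.ext ?_
  rw [Matrix.SpecialLinearGroup.coe_neg, Matrix.SpecialLinearGroup.coe_one]
  ext i j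
  fin_cases i <;> fin_cases j <;> simp [slD]

variable {n : GL D.Idx F} {π : Equiv.Perm (Fin D.nroots)}

theorem scal_back (hsq : n * n = 1) {r s : ℕ} {d : Fˣ}
    (hd : ∀ t : F, n * g.xG r t * n⁻¹ = g.xG s ((d : F) * t)) (t : F) :
    n * g.xG s t * n⁻¹ = g.xG r (((d⁻¹ : Fˣ) : F) * t) := by
  conv_lhs => rw [← one_mul t, ← d.mul_inv, mul_assoc (d : F), ← hd]
  rw [show n * (n * g.xG r (((d⁻¹ : Fˣ) : F) * t) * n⁻¹) * n⁻¹ =
    (n * n) * g.xG r (((d⁻¹ : Fˣ) : F) * t) * (n * n)⁻¹ by group, hsq]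
  group

theorem rootHom_facts (a : Fin D.nroots) :
    ∃ φ : Matrix.SpecialLinearGroup (Fin 2) F →* GL D.Idx F,
      (∀ A, φ A ∈ D.group F) ∧ φ slW = g.nG a 1 ∧ (∀ t, φ (slD t) = g.hG a t) ∧
      ∀ (n : GL D.Idx F) (c : Fˣ), n * n = 1 →
        (∀ t, n * g.xG a t * n⁻¹ = g.xG (g.nroot a) ((c : F) * t)) →
        ∀ A, n * φ A * n⁻¹ = φ (theta c A) := by
  obtain ⟨φ, hU, hL, hD⟩ := g.exists_rootHom (F := F) a.2
  have hgen : ∀ A : Matrix.SpecialLinearGroup (Fin 2) F,
      A ∈ Subgroup.closure (Set.range (slU (F := F)) ∪ Set.range slL) := fun A => by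
    rw [closure_slU_slL]; exact Subgroup.mem_top _
  refine ⟨φ, fun A => ?_, ?_, hD, fun n c hsq hcs A => ?_⟩
  · induction hgen A using Subgroup.closure_induction with
    | mem y hy =>
      rcases hy with ⟨t, rfl⟩ | ⟨t, rfl⟩
      · rw [hU]; exact g.xG_mem_group a.2 t
      · rw [hL]; exact g.xG_mem_group (g.neg_lt a.2) t
    | one => rw [map_one]; exact one_mem _
    | mul y z _ _ hy hz => rw [map_mul]; exact mul_mem hy hz
    | inv y _ hy => rw [map_inv]; exact inv_mem hy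
  · rw [slW_eq, map_mul, map_mul, hU, hL, Good.nG]
    simp
  · induction hgen A using Subgroup.closure_induction with
    | mem y hy =>
      rcases hy with ⟨t, rfl⟩ | ⟨t, rfl⟩
      · rw [show theta c (slU t) = slL ((c : F) * t) from Subtype.ext (by rw [theta_val]; simp [slU, slL]), hU, hL, hcs]
        rfl
      · rw [show theta c (slL t) = slU (((c⁻¹ : Fˣ) : F) * t) from Subtype.ext (by rw [theta_val]; simp [slU, slL]),
          hU, hL]
        exact scal_back g hsq hcs t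
    | one => simp
    | mul y z _ _ hy hz =>
      rw [map_mul, map_mul, map_mul, ← hy, ← hz]
      group
    | inv y _ hy =>
      rw [map_inv, map_inv, map_inv, ← hy]
      group

/-- A square multiplier: the reflection can be split off. -/
theorem split (h2 : (2 : F) ≠ 0) (hn : n ∈ D.monomialSubgroup F) (hsq : n * n = 1) (hact : g.Acts n π)
    (l : List (Fin D.rank)) (i : Fin D.rank) {c : Fˣ}
    (hcs : ∀ t, n * g.xG (g.wperm l (g.sroot i)) t * n⁻¹ =
      g.xG (g.nroot (g.wperm l (g.sroot i))) ((c : F) * t))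
    (hc : IsSquare c) :
    ∃ n' ∈ D.monomialSubgroup F, n' * n' = 1 ∧ GConj n n' ∧ g.Acts n' (g.wperm (refWord l i) * π) := by
  obtain ⟨φ, hG, hW, hD, hconj⟩ := rootHom_facts (F := F) g (g.wperm l (g.sroot i))
  obtain ⟨e, rfl⟩ := hc
  have e0 : (e : F) ≠ 0 := e.ne_zero
  let y : Matrix.SpecialLinearGroup (Fin 2) F :=
    ⟨!![1 / 2, 1 / (2 * (e : F)); -(e : F), 1], by rw [Matrix.det_fin_two_of]; field_simp; ring⟩
  let y' : Matrix.SpecialLinearGroup (Fin 2) F :=
    ⟨!![1, -(1 / (2 * (e : F))); (e : F), 1 / 2], by rw [Matrix.det_fin_two_of]; field_simp; ring⟩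
  have hy : y⁻¹ = y' := inv_eq_of_mul_eq_one_right (Subtype.ext (by
    rw [Matrix.SpecialLinearGroup.coe_mul, Matrix.SpecialLinearGroup.coe_one]
    ext a b
    fin_cases a <;> fin_cases b <;> simp [y, y', Matrix.mul_apply, Fin.sum_univ_two] <;>
      first | ring1 | (field_simp; ring1) | field_simp))
  have hyy : y * theta (e * e) y⁻¹ = slD e⁻¹ * slW := by
    rw [hy]
    refine Subtype.ext ?_
    simp only [Matrix.SpecialLinearGroup.coe_mul, theta_val]
    ext a b
    fin_cases a <;> fin_cases b <;> simp [ y, y', slD, slW, Matrix.mul_apply, Fin.sum_univ_two] <;>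
      first | ring1 | (field_simp; ring1) | field_simp
  set a : Fin D.nroots := g.wperm l (g.sroot i) with ha
  have he : φ y * n * (φ y)⁻¹ = g.hG a e⁻¹ * g.nG a 1 * n := by
    calc φ y * n * (φ y)⁻¹ = φ y * (n * φ y⁻¹ * n⁻¹) * n := by rw [map_inv]; group
      _ = _ := by rw [hconj n _ hsq hcs, ← map_mul, hyy, map_mul, hW, hD]
  have hgc : GConj n (g.hG a e⁻¹ * g.nG a 1 * n) := ⟨φ y, hG y, he⟩
  refine ⟨_, mul_mem (mul_mem (Subgroup.mem_sup_left (g.hG_mem a.2 _)) (g.nG_mem a.2)) hn,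
    hgc.sq_eq_one hsq, hgc, ?_⟩
  have := g.acts_mul (g.acts_mul (g.acts_diagonal (g.hG_mem a.2 (e⁻¹ : Fˣ))) ((sgn_nG (F := F) g l i).acts g)) hact
  rwa [one_mul] at this

/-- Changing the lift by `h_a(-1)`. -/
theorem flip [Fintype F] (hF : Odd (Fintype.card F)) (hn : n ∈ D.monomialSubgroup F) (hsq : n * n = 1)
    (hact : g.Acts n π) (a : Fin D.nroots) {c : Fˣ}
    (hcs : ∀ t, n * g.xG a t * n⁻¹ = g.xG (g.nroot a) ((c : F) * t)) :
    ∃ n' ∈ D.monomialSubgroup F, n' * n' = 1 ∧ GConj n n' ∧ g.Acts n' π ∧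
      ∀ (r s : Fin D.nroots) (d : Fˣ), (∀ t, n * g.xG r t * n⁻¹ = g.xG s ((d : F) * t)) →
        ∀ t, n' * g.xG r t * n'⁻¹ = g.xG s ((((-1 : Fˣ) ^ pair D a s * d : Fˣ) : F) * t) := by
  obtain ⟨φ, hG, -, hD, hconj⟩ := rootHom_facts (F := F) g a
  obtain ⟨u, v, huv⟩ := FiniteField.exists_root_sum_quadratic
    (f := Polynomial.C (c : F) * Polynomial.X ^ 2 + Polynomial.C (0 : F) * Polynomial.X + Polynomial.C (-1))
    (g := Polynomial.C (-1 : F) * Polynomial.X ^ 2 + Polynomial.C (0 : F) * Polynomial.X + Polynomial.C 0)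
    (Polynomial.degree_quadratic c.ne_zero) (Polynomial.degree_quadratic (neg_ne_zero.2 one_ne_zero))
    (Nat.odd_iff.1 hF)
  simp only [Polynomial.eval_add, Polynomial.eval_mul, Polynomial.eval_C, Polynomial.eval_pow,
    Polynomial.eval_X] at huv
  let y : Matrix.SpecialLinearGroup (Fin 2) F :=
    ⟨!![v, u; -((c : F) * u), -v], by rw [Matrix.det_fin_two_of]; linear_combination huv⟩
  let y' : Matrix.SpecialLinearGroup (Fin 2) F :=
    ⟨!![-v, -u; (c : F) * u, v], by rw [Matrix.det_fin_two_of]; linear_combination huv⟩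
  have hy : y⁻¹ = y' := inv_eq_of_mul_eq_one_right (Subtype.ext (by
    rw [Matrix.SpecialLinearGroup.coe_mul, Matrix.SpecialLinearGroup.coe_one]
    ext i j
    fin_cases i <;> fin_cases j <;> simp [y, y', Matrix.mul_apply, Fin.sum_univ_two] <;>
      first | ring1 | linear_combination huv))
  have hyy : y * theta c y⁻¹ = slD (-1 : Fˣ) := by
    rw [hy, slD_neg_one]
    refine Subtype.ext ?_
    simp only [Matrix.SpecialLinearGroup.coe_mul, Matrix.SpecialLinearGroup.coe_neg,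
      Matrix.SpecialLinearGroup.coe_one, theta_val]
    ext i j
    fin_cases i <;> fin_cases j <;> simp [ y, y', Matrix.mul_apply, Fin.sum_univ_two] <;>
      first | ring1 | linear_combination -huv | linear_combination huv | (field_simp; linear_combination -huv) |
        (field_simp; ring1)
  have he : φ y * n * (φ y)⁻¹ = g.hG a (-1) * n := by
    calc φ y * n * (φ y)⁻¹ = φ y * (n * φ y⁻¹ * n⁻¹) * n := by rw [map_inv]; group
      _ = _ := by rw [hconj n _ hsq hcs, ← map_mul, hyy, hD]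
  have hgc : GConj n (g.hG a (-1) * n) := ⟨φ y, hG y, he⟩
  refine ⟨_, mul_mem (Subgroup.mem_sup_left (g.hG_mem a.2 _)) hn, hgc.sq_eq_one hsq, hgc, ?_, fun r s d hd t => ?_⟩
  · have := g.acts_mul (g.acts_diagonal (g.hG_mem a.2 (-1 : Fˣ))) hact
    rwa [one_mul] at this
  · rw [show g.hG a (-1) * n * g.xG r t * (g.hG a (-1) * n)⁻¹ =
      g.hG a (-1) * (n * g.xG r t * n⁻¹) * (g.hG a (-1))⁻¹ by group, hd, g.hG_conj_xG s.2, Units.val_mul,
      mul_assoc]

/-- The relation between `n` and `n_a(1)`. -/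
theorem rel (hsq : n * n = 1) (a : Fin D.nroots) {c : Fˣ}
    (hcs : ∀ t, n * g.xG a t * n⁻¹ = g.xG (g.nroot a) ((c : F) * t)) :
    n * g.nG a 1 = g.hG a (-c⁻¹) * g.nG a 1 * n := by
  obtain ⟨φ, -, hW, hD, hconj⟩ := rootHom_facts (F := F) g a
  have h : theta c slW = slD (-c⁻¹) * slW := by
    refine Subtype.ext ?_
    rw [Matrix.SpecialLinearGroup.coe_mul, theta_val]
    ext i j
    fin_cases i <;> fin_cases j <;> simp [ slD, slW, Matrix.mul_apply, Fin.sum_univ_two, inv_neg]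
  rw [← hW, ← hD, ← map_mul, ← h, ← hconj n c hsq hcs]
  group

omit g in
theorem isSquare_mul [Fintype F] {a b : Fˣ} (ha : ¬ IsSquare a) (hb : ¬ IsSquare b) : IsSquare (a * b) := by
  classical
  have key : ∀ x : Fˣ, IsSquare x ↔ IsSquare (x : F) := fun x => by
    refine ⟨fun h => h.map (Units.coeHom F), ?_⟩
    rintro ⟨r, hr⟩
    exact ⟨Units.mk0 r fun h => x.ne_zero (by rw [hr, h, mul_zero]), Units.ext hr⟩
  rw [key] at ha hb ⊢
  rw [Units.val_mul, ← quadraticChar_one_iff_isSquare (mul_ne_zero a.ne_zero b.ne_zero), map_mul,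
    quadraticChar_neg_one_iff_not_isSquare.2 ha, quadraticChar_neg_one_iff_not_isSquare.2 hb]
  norm_num

/-- A root `r` with `π r = σ_a r` and odd pairing forces a square multiplier. -/
theorem stepB (h2 : (2 : F) ≠ 0) (hn : n ∈ D.monomialSubgroup F) (hsq : n * n = 1) (hact : g.Acts n π)
    (l : List (Fin D.rank)) (i : Fin D.rank)
    (ha : π (g.wperm l (g.sroot i)) = g.nroot (g.wperm l (g.sroot i))) (r : Fin D.nroots)
    (hr : π r = g.wperm (refWord l i) r) (hodd : pair D (g.wperm l (g.sroot i)) r % 2 = 1) :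
    ∃ n' ∈ D.monomialSubgroup F, n' * n' = 1 ∧ GConj n n' ∧ g.Acts n' (g.wperm (refWord l i) * π) := by
  obtain ⟨c, hcs⟩ := hact (g.wperm l (g.sroot i))
  rw [ha] at hcs
  refine split g h2 hn hsq hact l i hcs ?_
  set σ := g.wperm (refWord l i) with hσ
  set a : Fin D.nroots := g.wperm l (g.sroot i) with ha'
  obtain ⟨d, hd⟩ := hact r
  rw [hr] at hd
  have hY := sgn_nG (F := F) g l i
  rw [← ha'] at hY
  obtain ⟨η, hη, h1, -⟩ := hY r
  obtain ⟨η', hη', h1', -⟩ := hY (σ r)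
  have hσσ : σ (σ r) = r := by rw [← Equiv.Perm.mul_apply, wperm_refWord_sq, Equiv.Perm.one_apply]
  rw [← hσ, hσσ] at h1'
  rw [← hσ] at h1
  -- `η' η = -1`
  have hm : (-1 : Fˣ) ^ pair D a r = -1 := (Int.odd_iff.2 hodd).neg_one_zpow
  have hηη : η' * η = -1 := by
    obtain ⟨φ, -, hW, hD, -⟩ := rootHom_facts (F := F) g a
    have hY2 : g.nG a 1 * g.nG a 1 = g.hG (F := F) a (-1) := by
      rw [← hW, ← hD, ← map_mul]
      congr 1
      rw [slD_neg_one]
      refine Subtype.ext ?_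
      rw [Matrix.SpecialLinearGroup.coe_mul, Matrix.SpecialLinearGroup.coe_neg, Matrix.SpecialLinearGroup.coe_one]
      ext p q
      fin_cases p <;> fin_cases q <;> simp [slW, Matrix.mul_apply, Fin.sum_univ_two]
    have e1 : g.nG a 1 * g.nG a 1 * g.xG r (1 : F) * (g.nG a 1 * g.nG a 1)⁻¹ =
        g.xG r (((η' * η : Fˣ) : F) * 1) := by
      rw [show g.nG a 1 * g.nG a 1 * g.xG r (1 : F) * (g.nG a 1 * g.nG a 1)⁻¹ =
        g.nG a 1 * (g.nG a 1 * g.xG r (1 : F) * (g.nG a 1)⁻¹) * (g.nG a 1)⁻¹ by group, h1, h1', Units.val_mul,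
        mul_assoc]
    rw [hY2, g.hG_conj_xG r.2, hm] at e1
    have e2 := xG_cancel g r.2 e1
    rw [mul_one, mul_one] at e2
    exact (Units.ext e2).symm
  -- compare both sides of `rel` at `r`
  have e1 : n * g.nG a 1 * g.xG r 1 * (n * g.nG a 1)⁻¹ = g.xG r (((d⁻¹ * η : Fˣ) : F) * 1) := by
    rw [show n * g.nG a 1 * g.xG r 1 * (n * g.nG a 1)⁻¹ = n * (g.nG a 1 * g.xG r 1 * (g.nG a 1)⁻¹) * n⁻¹ by group,
      h1, scal_back g hsq hd, Units.val_mul, mul_assoc]
  rw [rel g hsq a hcs, show g.hG a (-c⁻¹) * g.nG a 1 * n * g.xG r 1 * (g.hG a (-c⁻¹) * g.nG a 1 * n)⁻¹ =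
    g.hG a (-c⁻¹) * (g.nG a 1 * (n * g.xG r 1 * n⁻¹) * (g.nG a 1)⁻¹) * (g.hG a (-c⁻¹))⁻¹ by group, hd, h1',
    g.hG_conj_xG r.2] at e1
  have e2 := xG_cancel g r.2 e1
  have e3 : (-c⁻¹) ^ pair D a r * (η' * d) = d⁻¹ * η := Units.ext (by
    simpa [mul_assoc] using e2)
  have e4 : η' = -η := by
    calc η' = η' * η * η := by rw [mul_assoc, hη, mul_one]
      _ = _ := by rw [hηη, neg_one_mul]
  rw [neg_eq_neg_one_mul c⁻¹, mul_zpow, hm, inv_zpow, e4] at e3
  have e5 : c ^ pair D a r = d * d := by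
    have e6 : (c ^ pair D a r)⁻¹ * d = d⁻¹ := by
      apply mul_right_cancel (b := η)
      rw [← e3]
      simp [mul_comm, mul_left_comm, mul_assoc]
    calc c ^ pair D a r = c ^ pair D a r * ((c ^ pair D a r)⁻¹ * d) * d := by rw [e6]; group
      _ = _ := by group
  obtain ⟨k, hk⟩ := Int.odd_iff.2 hodd
  refine ⟨d * c ^ (-k), ?_⟩
  rw [mul_mul_mul_comm, ← e5, ← _root_.zpow_add, ← _root_.zpow_add, hk,
    show 2 * k + 1 + (-k + -k) = 1 by ring, zpow_one]

/-- Two orthogonally negated roots with odd pairing. -/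
theorem stepA [Fintype F] (hF : Odd (Fintype.card F)) (h2 : (2 : F) ≠ 0) (hn : n ∈ D.monomialSubgroup F)
    (hsq : n * n = 1) (hact : g.Acts n π) (la : List (Fin D.rank)) (ia : Fin D.rank)
    (lb : List (Fin D.rank)) (ib : Fin D.rank)
    (ha : π (g.wperm la (g.sroot ia)) = g.nroot (g.wperm la (g.sroot ia)))
    (hb : π (g.wperm lb (g.sroot ib)) = g.nroot (g.wperm lb (g.sroot ib)))
    (hodd : pair D (g.wperm la (g.sroot ia)) (g.wperm lb (g.sroot ib)) % 2 = 1)
    (hodd' : pair D (g.wperm la (g.sroot ia))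
      (g.nroot (g.wperm (refWord la ia) (g.wperm lb (g.sroot ib)))) % 2 = 1) :
    ∃ n' ∈ D.monomialSubgroup F, n' * n' = 1 ∧ GConj n n' ∧
      (g.Acts n' (g.wperm (refWord la ia) * π) ∨ g.Acts n' (g.wperm (refWord lb ib) * π) ∨
        g.Acts n' (g.wperm (refWord (refWord la ia ++ lb) ib) * π)) := by
  obtain ⟨c, hcs⟩ := hact (g.wperm la (g.sroot ia))
  obtain ⟨d, hds⟩ := hact (g.wperm lb (g.sroot ib))
  rw [ha] at hcs
  rw [hb] at hds
  by_cases hc : IsSquare c
  · obtain ⟨n', h1, h3, h4, h5⟩ := split g h2 hn hsq hact la ia hcs hc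
    exact ⟨n', h1, h3, h4, Or.inl h5⟩
  by_cases hd : IsSquare d
  · obtain ⟨n', h1, h3, h4, h5⟩ := split g h2 hn hsq hact lb ib hds hd
    exact ⟨n', h1, h3, h4, Or.inr (Or.inl h5)⟩
  set a : Fin D.nroots := g.wperm la (g.sroot ia) with ha'
  set b : Fin D.nroots := g.wperm lb (g.sroot ib) with hb'
  by_cases h1 : IsSquare (-1 : Fˣ)
  · set σ := g.wperm (refWord la ia) with hσ
    have hbs : g.wperm (refWord la ia ++ lb) (g.sroot ib) = σ b := by rw [g.wperm_append]; rfl
    obtain ⟨e, hes⟩ := hact (σ b)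
    obtain ⟨η, hη, hY1, hY2⟩ := sgn_nG (F := F) g la ia b
    rw [← hσ, ← ha'] at hY1 hY2
    have e1 : n * g.nG a 1 * g.xG b 1 * (n * g.nG a 1)⁻¹ = g.xG (π (σ b)) (((e * η : Fˣ) : F) * 1) := by
      rw [show n * g.nG a 1 * g.xG b 1 * (n * g.nG a 1)⁻¹ = n * (g.nG a 1 * g.xG b 1 * (g.nG a 1)⁻¹) * n⁻¹ by group,
        hY1, hes, Units.val_mul, mul_assoc]
    rw [rel g hsq a hcs, show g.hG a (-c⁻¹) * g.nG a 1 * n * g.xG b 1 * (g.hG a (-c⁻¹) * g.nG a 1 * n)⁻¹ =
      g.hG a (-c⁻¹) * (g.nG a 1 * (n * g.xG b 1 * n⁻¹) * (g.nG a 1)⁻¹) * (g.hG a (-c⁻¹))⁻¹ by group, hds, hY2,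
      g.hG_conj_xG (g.nroot (σ b)).2] at e1
    have hne : π (σ b) = g.nroot (σ b) := by
      by_contra hne
      have := g.eq_of_xG_eq (g.nroot (σ b)).2 (π (σ b)).2 (fun h => hne (Fin.ext h.symm)) e1
      simp at this
      exact zpow_ne_zero _ (neg_ne_zero.2 (inv_ne_zero c.ne_zero)) this
    rw [hne] at e1 hes
    have e2 := xG_cancel g (g.nroot (σ b)).2 e1
    have e3 : (-c⁻¹) ^ pair D a (g.nroot (σ b)) * d * η = e * η := Units.ext (by
      simpa [mul_comm, mul_left_comm, mul_assoc] using e2)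
    have e4 := mul_right_cancel e3
    obtain ⟨k, hk⟩ := Int.odd_iff.2 hodd'
    have hesq : IsSquare e := by
      have e5 : e = -1 * (c ^ (-(k + 1)) * c ^ (-(k + 1))) * (c * d) := by
        rw [← e4, hk, neg_eq_neg_one_mul c⁻¹, mul_zpow, (Int.odd_iff.2 (by omega : (2 * k + 1) % 2 = 1)).neg_one_zpow,
          inv_zpow', ← _root_.zpow_add]
        have : c ^ (-(k + 1) + -(k + 1)) * c = c ^ (-(2 * k + 1)) := by
          rw [← zpow_add_one]; congr 1; ring
        rw [← this]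
        simp only [mul_assoc]
      rw [e5]
      exact (h1.mul ⟨_, rfl⟩).mul (isSquare_mul hc hd)
    obtain ⟨n', h4, h5, h6, h7⟩ := split g h2 hn hsq hact (refWord la ia ++ lb) ib (c := e)
      (by rw [hbs]; exact hes) hesq
    exact ⟨n', h4, h5, h6, Or.inr (Or.inr h7)⟩
  · obtain ⟨n₁, hn₁, hsq₁, hgc, hact₁, hsc⟩ := flip g hF hn hsq hact a hcs
    have hds₁ := hsc b (g.nroot b) d hds
    have hp : pair D a (g.nroot b) % 2 = 1 := by rw [pair_nroot]; omega
    rw [(Int.odd_iff.2 hp).neg_one_zpow] at hds₁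
    obtain ⟨n', h4, h5, h6, h7⟩ := split g h2 hn₁ hsq₁ hact₁ lb ib hds₁ (isSquare_mul h1 hd)
    exact ⟨n', h4, h5, hgc.trans h6, Or.inr (Or.inl h7)⟩

/-- Involutions of the Weyl group are built from `1` by `w ↦ rᵢ w` (commuting) and `w ↦ rᵢ w rᵢ`. -/
theorem weyl_invol_induction {P : Equiv.Perm (Fin D.nroots) → Prop} (h1 : P 1)
    (hi : ∀ w (i : Fin D.rank), P w → g.rperm i * w = w * g.rperm i → P (g.rperm i * w))
    (hii : ∀ w (i : Fin D.rank), P w → P (g.rperm i * w * g.rperm i))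
    {π : Equiv.Perm (Fin D.nroots)} (hπ : π ∈ g.weyl) (hsq : π * π = 1) : P π := by
  obtain ⟨l, rfl⟩ := g.exists_wperm hπ
  induction hn : ninv D (g.wperm l) using Nat.strong_induction_on generalizing l with
  | _ k ih =>
  obtain ⟨l', hr, he, -⟩ := exists_isRed (s := g.wS) l
  have he' : g.wperm l' = g.wperm l := by rw [← g.coe_wordVal, he, g.coe_wordVal]
  rw [← he'] at hsq hn ⊢
  have hlen := g.isRed_iff_ninv.1 hr
  rw [hn] at hlen
  rcases l' with _ | ⟨i, m⟩
  · exact h1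
  set w := g.wperm (i :: m) with hw
  have hwinv : w⁻¹ = w := inv_eq_of_mul_eq_one_right hsq
  have hrm : g.rperm i * w = g.wperm m := by
    rw [hw, g.wperm_cons, ← mul_assoc, g.rperm_mul_self, one_mul]
  have hneg : (w.symm (g.sroot i)).val < half D := by
    by_contra h
    have h3 := (g.ninv_rperm_mul i w (g.wperm_nroot _)).2 (by omega)
    have h4 := g.ninv_le_length m
    rw [hrm] at h3
    simp only [List.length_cons] at hlen
    omega
  have hl : g.wperm (m.reverse ++ [i]) = w := by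
    rw [show m.reverse ++ [i] = (i :: m).reverse by simp, g.wperm_reverse, ← hw, hwinv]
  obtain ⟨j, hj, -, hje⟩ := g.exists_exchange (i := i) (l := m.reverse ++ [i]) (by rw [hl]; exact hneg)
  have h5 := g.wperm_eraseIdx hj hje
  rw [hl] at h5
  simp only [List.length_append, List.length_reverse, List.length_cons, List.length_nil, zero_add] at hj hlen
  rcases Nat.lt_or_ge j m.length with hjm | hjm
  · -- conjugation shortens
    have h6 : g.rperm i * w * g.rperm i = g.wperm (m.reverse.take j ++ m.reverse.drop (j + 1)) := by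
      rw [h5, List.take_append_of_le_length (by simp; omega), List.drop_append_of_le_length (by simp; omega),
        ← List.append_assoc, g.wperm_append (_ ++ _) [i], g.wperm_cons, g.wperm_nil, mul_one, mul_assoc,
        g.rperm_mul_self, mul_one]
    have hlt : ninv D (g.rperm i * w * g.rperm i) < k := by
      rw [h6]
      refine lt_of_le_of_lt (g.ninv_le_length _) ?_
      simp only [List.length_append, List.length_take, List.length_drop, List.length_reverse]
      omega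
    have hsq' : g.rperm i * w * g.rperm i * (g.rperm i * w * g.rperm i) = 1 := by
      calc _ = g.rperm i * w * (g.rperm i * g.rperm i) * w * g.rperm i := by group
        _ = g.rperm i * (w * w) * g.rperm i := by rw [g.rperm_mul_self]; group
        _ = _ := by rw [hsq, mul_one, g.rperm_mul_self]
    rw [h6] at hsq' hlt
    have h7 := hii _ i (ih _ hlt _ (g.wperm_mem _) hsq' rfl)
    rw [← h6, show g.rperm i * (g.rperm i * w * g.rperm i) * g.rperm i =
      (g.rperm i * g.rperm i) * w * (g.rperm i * g.rperm i) by group, g.rperm_mul_self, one_mul, mul_one] at h7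
    exact h7
  · -- the reflection commutes
    obtain rfl : j = m.length := by omega
    rw [List.take_append_of_le_length (by simp), List.take_of_length_le (by simp),
      List.drop_of_length_le (by simp), List.append_nil, g.wperm_reverse, ← hrm, _root_.mul_inv_rev, hwinv,
      g.rperm_inv] at h5
    have hsq' : g.wperm m * g.wperm m = 1 := by
      rw [← hrm]
      nth_rw 2 [h5]
      calc _ = g.rperm i * (w * w) * g.rperm i := by group
        _ = _ := by rw [hsq, mul_one, g.rperm_mul_self]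
    have hlt : ninv D (g.wperm m) < k := lt_of_le_of_lt (g.ninv_le_length m) (by omega)
    have hc : g.rperm i * g.wperm m = g.wperm m * g.rperm i := by
      rw [← hrm]
      calc g.rperm i * (g.rperm i * w) = g.rperm i * (w * g.rperm i) := by rw [h5]
        _ = _ := (mul_assoc _ _ _).symm
    have h7 := hi _ i (ih _ hlt m (g.wperm_mem _) hsq' rfl) hc
    rwa [← g.wperm_cons] at h7

/-- A Weyl element is determined by the images of the fundamental roots. -/
theorem wperm_ext {l l' : List (Fin D.rank)}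
    (h : ∀ q : Fin D.rank, g.wperm l (g.sroot q) = g.wperm l' (g.sroot q)) : g.wperm l = g.wperm l' :=
  Equiv.ext fun a => g.co_ext fun j hj => by
    rw [g.co_wperm l a hj, g.co_wperm l' a hj]
    exact Finset.sum_congr rfl fun q _ => by rw [h q]

end CfsgLib.Chev.InvolMono
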