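import Cfsg.Agent.Lib.Chev.WeylCheck
import Cfsg.Agent.Lib.Chev.StructB2
import Cfsg.Agent.Lib.Chev.StructD4
import Cfsg.Agent.Lib.Chev.StructE6
import Cfsg.Agent.Lib.Chev.StructE7
import Cfsg.Agent.Lib.Chev.StructE8
import Cfsg.Agent.Lib.Chev.StructF4
import Cfsg.Agent.Lib.Chev.StructG2

/-!
Orbit chains and Coxeter matrices of the seven Weyl groups.
-/

set_option autoImplicit false
set_option maxRecDepth 100000

namespace CfsgLib.Chev

open Cfsg.Lie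

/-- The orbit chain of type G2. -/
def wchainG2 : List WStep := [
  ⟨[0, 1], 11, [
    (10, 1, 11, 1), (6, 0, 10, 2), (5, 1, 6, 3), (1, 0, 5, 4), (0, 1, 1, 5)]⟩,
  ⟨[0], 10, [
    (6, 0, 10, 1)]⟩]

/-- The orders of products of two fundamental reflections in type G2. -/
def wordMG2 : List (List ℕ) := [[1, 6], [6, 1]]

theorem wchainG2_ok : chainOK chevG2 dataG2 sdataG2 wchainG2 = true := by decide +kernel

theorem wordMG2_ok : ordOK chevG2 sdataG2 wordMG2 = true := by decide +kernel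

theorem coxNumberG2_ok : coxOK chevG2 sdataG2 6 = true := by decide +kernel

theorem card_weylG2 (g : Good chevG2) : Nat.card g.weyl = 12 := by
  rw [g.weyl_eq_wJ, g.card_wJ]
  have h := g.weylSum_chain checksG2 structChecksG2 wchainG2 wchainG2_ok 1
  rw [show {i | i ∈ headJ wchainG2} = {i : ℕ | i < chevG2.rank} from ?_] at h
  · rw [h]; decide +kernel
  · ext i
    show i ∈ [0, 1] ↔ i < 2
    simp only [List.mem_cons, List.not_mem_nil, or_false]
    omega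

/-- The orbit chain of type B2. -/
def wchainB2 : List WStep := [
  ⟨[0, 1], 7, [
    (4, 0, 7, 1), (3, 1, 4, 2), (0, 0, 3, 3)]⟩,
  ⟨[1], 6, [
    (5, 1, 6, 1)]⟩]

/-- The orders of products of two fundamental reflections in type B2. -/
def wordMB2 : List (List ℕ) := [[1, 4], [4, 1]]

theorem wchainB2_ok : chainOK chevB2 dataB2 sdataB2 wchainB2 = true := by decide +kernel

theorem wordMB2_ok : ordOK chevB2 sdataB2 wordMB2 = true := by decide +kernel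

theorem coxNumberB2_ok : coxOK chevB2 sdataB2 4 = true := by decide +kernel

theorem card_weylB2 (g : Good chevB2) : Nat.card g.weyl = 8 := by
  rw [g.weyl_eq_wJ, g.card_wJ]
  have h := g.weylSum_chain checksB2 structChecksB2 wchainB2 wchainB2_ok 1
  rw [show {i | i ∈ headJ wchainB2} = {i : ℕ | i < chevB2.rank} from ?_] at h
  · rw [h]; decide +kernel
  · ext i
    show i ∈ [0, 1] ↔ i < 2
    simp only [List.mem_cons, List.not_mem_nil, or_false]
    omega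

/-- The orbit chain of type D4. -/
def wchainD4 : List WStep := [
  ⟨[0, 1, 2, 3], 23, [
    (22, 1, 23, 1), (17, 0, 22, 2), (20, 2, 22, 2), (21, 3, 22, 2), (15, 2, 17, 3), (16, 3, 17, 3),
    (19, 3, 20, 3), (12, 1, 15, 4), (14, 3, 15, 4), (13, 1, 16, 4), (18, 1, 19, 4), (11, 3, 12, 5),
    (9, 1, 14, 5), (10, 2, 13, 5), (5, 0, 18, 5), (8, 1, 11, 6), (4, 0, 9, 6), (7, 2, 9, 6),
    (3, 0, 8, 7), (6, 2, 8, 7), (2, 2, 4, 7), (1, 2, 3, 8), (0, 1, 1, 9)]⟩,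
  ⟨[0, 2, 3], 18, [
    (5, 0, 18, 1)]⟩,
  ⟨[2, 3], 13, [
    (10, 2, 13, 1)]⟩,
  ⟨[3], 22, [
    (21, 3, 22, 1)]⟩]

/-- The orders of products of two fundamental reflections in type D4. -/
def wordMD4 : List (List ℕ) := [[1, 3, 2, 2], [3, 1, 3, 3], [2, 3, 1, 2], [2, 3, 2, 1]]

theorem wchainD4_ok : chainOK chevD4 dataD4 sdataD4 wchainD4 = true := by decide +kernel

theorem wordMD4_ok : ordOK chevD4 sdataD4 wordMD4 = true := by decide +kernel

theorem coxNumberD4_ok : coxOK chevD4 sdataD4 6 = true := by decide +kernel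

theorem card_weylD4 (g : Good chevD4) : Nat.card g.weyl = 192 := by
  rw [g.weyl_eq_wJ, g.card_wJ]
  have h := g.weylSum_chain checksD4 structChecksD4 wchainD4 wchainD4_ok 1
  rw [show {i | i ∈ headJ wchainD4} = {i : ℕ | i < chevD4.rank} from ?_] at h
  · rw [h]; decide +kernel
  · ext i
    show i ∈ [0, 1, 2, 3] ↔ i < 4
    simp only [List.mem_cons, List.not_mem_nil, or_false]
    omega

/-- The orbit chain of type F4. -/
def wchainF4 : List WStep := [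
  ⟨[0, 1, 2, 3], 47, [
    (46, 3, 47, 1), (45, 2, 46, 2), (43, 1, 45, 3), (32, 0, 43, 4), (42, 2, 43, 4), (31, 2, 32, 5),
    (41, 3, 42, 5), (26, 1, 31, 6), (30, 3, 31, 6), (24, 2, 26, 7), (25, 3, 26, 7), (23, 3, 24, 8),
    (22, 2, 25, 8), (21, 2, 23, 9), (17, 1, 22, 9), (16, 1, 21, 10), (6, 0, 17, 10), (5, 0, 16, 11),
    (15, 2, 16, 11), (4, 2, 5, 12), (2, 1, 4, 13), (1, 2, 2, 14), (0, 3, 1, 15)]⟩,
  ⟨[0, 1, 2], 46, [
    (45, 2, 46, 1), (43, 1, 45, 2), (32, 0, 43, 3), (42, 2, 43, 3), (31, 2, 32, 4), (26, 1, 31, 5),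
    (24, 2, 26, 6)]⟩,
  ⟨[0, 1], 45, [
    (43, 1, 45, 1), (32, 0, 43, 2)]⟩,
  ⟨[0], 44, [
    (40, 0, 44, 1)]⟩]

/-- The orders of products of two fundamental reflections in type F4. -/
def wordMF4 : List (List ℕ) := [[1, 3, 2, 2], [3, 1, 4, 2], [2, 4, 1, 3], [2, 2, 3, 1]]

theorem wchainF4_ok : chainOK chevF4 dataF4 sdataF4 wchainF4 = true := by decide +kernel

theorem wordMF4_ok : ordOK chevF4 sdataF4 wordMF4 = true := by decide +kernel

theorem coxNumberF4_ok : coxOK chevF4 sdataF4 12 = true := by decide +kernel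

theorem card_weylF4 (g : Good chevF4) : Nat.card g.weyl = 1152 := by
  rw [g.weyl_eq_wJ, g.card_wJ]
  have h := g.weylSum_chain checksF4 structChecksF4 wchainF4 wchainF4_ok 1
  rw [show {i | i ∈ headJ wchainF4} = {i : ℕ | i < chevF4.rank} from ?_] at h
  · rw [h]; decide +kernel
  · ext i
    show i ∈ [0, 1, 2, 3] ↔ i < 4
    simp only [List.mem_cons, List.not_mem_nil, or_false]
    omega

/-- The orbit chain of type E6. -/
def wchainE6 : List WStep := [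
  ⟨[0, 1, 2, 3, 4, 5], 71, [
    (70, 1, 71, 1), (69, 3, 70, 2), (66, 2, 69, 3), (68, 4, 69, 3), (55, 0, 66, 4), (65, 4, 66, 4),
    (67, 5, 68, 4), (54, 4, 55, 5), (63, 3, 65, 5), (64, 5, 65, 5), (52, 3, 54, 6), (53, 5, 54, 6),
    (60, 1, 63, 6), (62, 5, 63, 6), (45, 1, 52, 7), (49, 2, 52, 7), (51, 5, 52, 7), (59, 5, 60, 7),
    (61, 4, 62, 7), (41, 2, 45, 8), (44, 5, 45, 8), (48, 5, 49, 8), (50, 4, 51, 8), (58, 4, 59, 8),
    (38, 3, 41, 9), (40, 5, 41, 9), (43, 4, 44, 9), (47, 4, 48, 9), (57, 3, 58, 9), (36, 4, 38, 10),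
    (37, 5, 38, 10), (39, 4, 40, 10), (42, 3, 43, 10), (46, 3, 47, 10), (56, 2, 57, 10), (35, 5, 36, 11),
    (34, 4, 37, 11), (32, 3, 39, 11), (29, 2, 42, 11), (25, 1, 46, 11), (15, 0, 56, 11), (33, 4, 35, 12),
    (31, 3, 34, 12), (24, 1, 32, 12), (28, 2, 32, 12), (14, 0, 29, 12), (30, 3, 33, 13), (23, 1, 31, 13),
    (27, 2, 31, 13), (21, 2, 24, 13), (13, 0, 28, 13), (22, 1, 30, 14), (26, 2, 30, 14), (20, 2, 23, 14),
    (12, 0, 27, 14), (10, 0, 21, 14), (19, 2, 22, 15), (11, 0, 26, 15), (9, 0, 20, 15), (18, 3, 20, 15),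
    (8, 0, 19, 16), (17, 3, 19, 16), (7, 3, 9, 16), (6, 3, 8, 17), (16, 4, 17, 17), (4, 2, 7, 17),
    (3, 2, 6, 18), (5, 4, 6, 18), (2, 4, 3, 19), (1, 3, 2, 20), (0, 1, 1, 21)]⟩,
  ⟨[0, 2, 3, 4, 5], 70, [
    (69, 3, 70, 1), (66, 2, 69, 2), (68, 4, 69, 2), (55, 0, 66, 3), (65, 4, 66, 3), (67, 5, 68, 3),
    (54, 4, 55, 4), (63, 3, 65, 4), (64, 5, 65, 4), (52, 3, 54, 5), (53, 5, 54, 5), (62, 5, 63, 5),
    (49, 2, 52, 6), (51, 5, 52, 6), (61, 4, 62, 6), (48, 5, 49, 7), (50, 4, 51, 7), (47, 4, 48, 8),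
    (46, 3, 47, 9)]⟩,
  ⟨[0, 2, 4, 5], 69, [
    (66, 2, 69, 1), (68, 4, 69, 1), (55, 0, 66, 2), (65, 4, 66, 2), (67, 5, 68, 2), (54, 4, 55, 3),
    (64, 5, 65, 3), (53, 5, 54, 4)]⟩,
  ⟨[0, 5], 68, [
    (67, 5, 68, 1)]⟩,
  ⟨[0], 66, [
    (55, 0, 66, 1)]⟩]

/-- The orders of products of two fundamental reflections in type E6. -/
def wordME6 : List (List ℕ) := [[1, 2, 3, 2, 2, 2], [2, 1, 2, 3, 2, 2], [3, 2, 1, 3, 2, 2], [2, 3, 3, 1, 3, 2], [2, 2, 2, 3, 1, 3], [2, 2, 2, 2, 3, 1]]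

theorem wchainE6_ok : chainOK chevE6 dataE6 sdataE6 wchainE6 = true := by decide +kernel

theorem wordME6_ok : ordOK chevE6 sdataE6 wordME6 = true := by decide +kernel

theorem coxNumberE6_ok : coxOK chevE6 sdataE6 12 = true := by decide +kernel

theorem card_weylE6 (g : Good chevE6) : Nat.card g.weyl = 51840 := by
  rw [g.weyl_eq_wJ, g.card_wJ]
  have h := g.weylSum_chain checksE6 structChecksE6 wchainE6 wchainE6_ok 1
  rw [show {i | i ∈ headJ wchainE6} = {i : ℕ | i < chevE6.rank} from ?_] at h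
  · rw [h]; decide +kernel
  · ext i
    show i ∈ [0, 1, 2, 3, 4, 5] ↔ i < 6
    simp only [List.mem_cons, List.not_mem_nil, or_false]
    omega

/-- The orbit chain of type E7. -/
def wchainE7 : List WStep := [
  ⟨[0, 1, 2, 3, 4, 5, 6], 125, [
    (124, 0, 125, 1), (123, 2, 124, 2), (122, 3, 123, 3), (118, 1, 122, 4), (121, 4, 122, 4), (117, 4, 118, 5),
    (120, 5, 121, 5), (114, 3, 117, 6), (116, 5, 117, 6), (119, 6, 120, 6), (108, 2, 114, 7), (113, 5, 114, 7),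
    (115, 6, 116, 7), (92, 0, 108, 8), (107, 5, 108, 8), (111, 4, 113, 8), (112, 6, 113, 8), (91, 5, 92, 9),
    (105, 4, 107, 9), (106, 6, 107, 9), (110, 6, 111, 9), (89, 4, 91, 10), (90, 6, 91, 10), (102, 3, 105, 10),
    (104, 6, 105, 10), (109, 5, 110, 10), (86, 3, 89, 11), (88, 6, 89, 11), (98, 1, 102, 11), (101, 6, 102, 11),
    (103, 5, 104, 11), (77, 1, 86, 12), (82, 2, 86, 12), (85, 6, 86, 12), (87, 5, 88, 12), (97, 6, 98, 12),
    (100, 5, 101, 12), (72, 2, 77, 13), (76, 6, 77, 13), (81, 6, 82, 13), (84, 5, 85, 13), (96, 5, 97, 13),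
    (99, 4, 100, 13), (68, 3, 72, 14), (71, 6, 72, 14), (75, 5, 76, 14), (80, 5, 81, 14), (83, 4, 84, 14),
    (95, 4, 96, 14), (65, 4, 68, 15), (67, 6, 68, 15), (70, 5, 71, 15), (74, 4, 75, 15), (79, 4, 80, 15),
    (94, 3, 95, 15), (63, 5, 65, 16), (64, 6, 65, 16), (66, 5, 67, 16), (69, 4, 70, 16), (73, 3, 74, 16),
    (78, 3, 79, 16), (93, 2, 94, 16), (62, 6, 63, 17), (61, 5, 64, 17), (59, 4, 66, 17), (56, 3, 69, 17),
    (52, 2, 73, 17), (47, 1, 78, 17), (32, 0, 93, 17), (60, 5, 62, 18), (58, 4, 61, 18), (55, 3, 59, 18),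
    (46, 1, 56, 18), (51, 2, 56, 18), (31, 0, 52, 18), (57, 4, 60, 19), (54, 3, 58, 19), (45, 1, 55, 19),
    (50, 2, 55, 19), (42, 2, 46, 19), (30, 0, 51, 19), (53, 3, 57, 20), (44, 1, 54, 20), (49, 2, 54, 20),
    (41, 2, 45, 20), (29, 0, 50, 20), (26, 0, 42, 20), (43, 1, 53, 21), (48, 2, 53, 21), (40, 2, 44, 21),
    (28, 0, 49, 21), (25, 0, 41, 21), (38, 3, 41, 21), (39, 2, 43, 22), (27, 0, 48, 22), (24, 0, 40, 22),
    (37, 3, 40, 22), (22, 3, 25, 22), (23, 0, 39, 23), (36, 3, 39, 23), (21, 3, 24, 23), (35, 4, 37, 23),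
    (16, 2, 22, 23), (20, 3, 23, 24), (34, 4, 36, 24), (15, 2, 21, 24), (19, 4, 21, 24), (14, 2, 20, 25),
    (18, 4, 20, 25), (33, 5, 34, 25), (13, 4, 15, 25), (12, 4, 14, 26), (17, 5, 18, 26), (10, 3, 13, 26),
    (9, 3, 12, 27), (11, 5, 12, 27), (6, 1, 10, 27), (5, 1, 9, 28), (8, 5, 9, 28), (4, 5, 5, 29),
    (7, 4, 8, 29), (3, 4, 4, 30), (2, 3, 3, 31), (1, 2, 2, 32), (0, 0, 1, 33)]⟩,
  ⟨[1, 2, 3, 4, 5, 6], 124, [
    (123, 2, 124, 1), (122, 3, 123, 2), (118, 1, 122, 3), (121, 4, 122, 3), (117, 4, 118, 4), (120, 5, 121, 4),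
    (114, 3, 117, 5), (116, 5, 117, 5), (119, 6, 120, 5), (108, 2, 114, 6), (113, 5, 114, 6), (115, 6, 116, 6),
    (107, 5, 108, 7), (111, 4, 113, 7), (112, 6, 113, 7), (105, 4, 107, 8), (106, 6, 107, 8), (110, 6, 111, 8),
    (102, 3, 105, 9), (104, 6, 105, 9), (109, 5, 110, 9), (98, 1, 102, 10), (101, 6, 102, 10), (103, 5, 104, 10),
    (97, 6, 98, 11), (100, 5, 101, 11), (96, 5, 97, 12), (99, 4, 100, 12), (95, 4, 96, 13), (94, 3, 95, 14),
    (93, 2, 94, 15)]⟩,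
  ⟨[1, 3, 4, 5, 6], 123, [
    (122, 3, 123, 1), (118, 1, 122, 2), (121, 4, 122, 2), (117, 4, 118, 3), (120, 5, 121, 3), (114, 3, 117, 4),
    (116, 5, 117, 4), (119, 6, 120, 4), (113, 5, 114, 5), (115, 6, 116, 5), (111, 4, 113, 6), (112, 6, 113, 6),
    (110, 6, 111, 7), (109, 5, 110, 8)]⟩,
  ⟨[1, 4, 5, 6], 114, [
    (113, 5, 114, 1), (111, 4, 113, 2), (112, 6, 113, 2), (110, 6, 111, 3), (109, 5, 110, 4)]⟩,
  ⟨[1, 4, 6], 78, [
    (47, 1, 78, 1)]⟩,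
  ⟨[4, 6], 122, [
    (121, 4, 122, 1)]⟩,
  ⟨[6], 120, [
    (119, 6, 120, 1)]⟩]

/-- The orders of products of two fundamental reflections in type E7. -/
def wordME7 : List (List ℕ) := [[1, 2, 3, 2, 2, 2, 2], [2, 1, 2, 3, 2, 2, 2], [3, 2, 1, 3, 2, 2, 2], [2, 3, 3, 1, 3, 2, 2], [2, 2, 2, 3, 1, 3, 2], [2, 2, 2, 2, 3, 1, 3], [2, 2, 2, 2, 2, 3, 1]]

theorem wchainE7_ok : chainOK chevE7 dataE7 sdataE7 wchainE7 = true := by decide +kernel

theorem wordME7_ok : ordOK chevE7 sdataE7 wordME7 = true := by decide +kernel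

theorem coxNumberE7_ok : coxOK chevE7 sdataE7 18 = true := by decide +kernel

theorem card_weylE7 (g : Good chevE7) : Nat.card g.weyl = 2903040 := by
  rw [g.weyl_eq_wJ, g.card_wJ]
  have h := g.weylSum_chain checksE7 structChecksE7 wchainE7 wchainE7_ok 1
  rw [show {i | i ∈ headJ wchainE7} = {i : ℕ | i < chevE7.rank} from ?_] at h
  · rw [h]; decide +kernel
  · ext i
    show i ∈ [0, 1, 2, 3, 4, 5, 6] ↔ i < 7
    simp only [List.mem_cons, List.not_mem_nil, or_false]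
    omega

/-- The orbit chain of type E8. -/
def wchainE8 : List WStep := [
  ⟨[0, 1, 2, 3, 4, 5, 6, 7], 239, [
    (238, 7, 239, 1), (237, 6, 238, 2), (236, 5, 237, 3), (235, 4, 236, 4), (234, 3, 235, 5), (232, 1, 234, 6),
    (233, 2, 234, 6), (231, 2, 232, 7), (225, 0, 233, 7), (224, 0, 231, 8), (230, 3, 231, 8), (223, 3, 224, 9),
    (229, 4, 230, 9), (218, 2, 223, 10), (222, 4, 223, 10), (228, 5, 229, 10), (217, 4, 218, 11), (221, 5, 222, 11),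
    (227, 6, 228, 11), (213, 3, 217, 12), (216, 5, 217, 12), (220, 6, 221, 12), (226, 7, 227, 12), (203, 1, 213, 13),
    (212, 5, 213, 13), (215, 6, 216, 13), (219, 7, 220, 13), (202, 5, 203, 14), (209, 4, 212, 14), (211, 6, 212, 14),
    (214, 7, 215, 14), (199, 4, 202, 15), (201, 6, 202, 15), (208, 6, 209, 15), (210, 7, 211, 15), (193, 3, 199, 16),
    (198, 6, 199, 16), (200, 7, 201, 16), (206, 5, 208, 16), (207, 7, 208, 16), (183, 2, 193, 17), (192, 6, 193, 17),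
    (196, 5, 198, 17), (197, 7, 198, 17), (205, 7, 206, 17), (161, 0, 183, 18), (182, 6, 183, 18), (190, 5, 192, 18),
    (191, 7, 192, 18), (195, 7, 196, 18), (204, 6, 205, 18), (160, 6, 161, 19), (180, 5, 182, 19), (181, 7, 182, 19),
    (187, 4, 190, 19), (189, 7, 190, 19), (194, 6, 195, 19), (158, 5, 160, 20), (159, 7, 160, 20), (177, 4, 180, 20),
    (179, 7, 180, 20), (186, 7, 187, 20), (188, 6, 189, 20), (155, 4, 158, 21), (157, 7, 158, 21), (173, 3, 177, 21),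
    (176, 7, 177, 21), (178, 6, 179, 21), (185, 6, 186, 21), (151, 3, 155, 22), (154, 7, 155, 22), (156, 6, 157, 22),
    (168, 1, 173, 22), (172, 7, 173, 22), (175, 6, 176, 22), (184, 5, 185, 22), (140, 1, 151, 23), (146, 2, 151, 23),
    (150, 7, 151, 23), (153, 6, 154, 23), (167, 7, 168, 23), (171, 6, 172, 23), (174, 5, 175, 23), (134, 2, 140, 24),
    (139, 7, 140, 24), (145, 7, 146, 24), (149, 6, 150, 24), (152, 5, 153, 24), (166, 6, 167, 24), (170, 5, 171, 24),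
    (129, 3, 134, 25), (133, 7, 134, 25), (138, 6, 139, 25), (144, 6, 145, 25), (148, 5, 149, 25), (165, 5, 166, 25),
    (169, 4, 170, 25), (125, 4, 129, 26), (128, 7, 129, 26), (132, 6, 133, 26), (137, 5, 138, 26), (143, 5, 144, 26),
    (147, 4, 148, 26), (164, 4, 165, 26), (122, 5, 125, 27), (124, 7, 125, 27), (127, 6, 128, 27), (131, 5, 132, 27),
    (136, 4, 137, 27), (142, 4, 143, 27), (163, 3, 164, 27), (120, 6, 122, 28), (121, 7, 122, 28), (123, 6, 124, 28),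
    (126, 5, 127, 28), (130, 4, 131, 28), (135, 3, 136, 28), (141, 3, 142, 28), (162, 2, 163, 28), (119, 7, 120, 29),
    (118, 6, 121, 29), (116, 5, 123, 29), (113, 4, 126, 29), (109, 3, 130, 29), (104, 2, 135, 29), (98, 1, 141, 29),
    (77, 0, 162, 29), (117, 6, 119, 30), (115, 5, 118, 30), (112, 4, 116, 30), (108, 3, 113, 30), (97, 1, 109, 30),
    (103, 2, 109, 30), (76, 0, 104, 30), (114, 5, 117, 31), (111, 4, 115, 31), (107, 3, 112, 31), (96, 1, 108, 31),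
    (102, 2, 108, 31), (92, 2, 97, 31), (75, 0, 103, 31), (110, 4, 114, 32), (106, 3, 111, 32), (95, 1, 107, 32),
    (101, 2, 107, 32), (91, 2, 96, 32), (74, 0, 102, 32), (70, 0, 92, 32), (105, 3, 110, 33), (94, 1, 106, 33),
    (100, 2, 106, 33), (90, 2, 95, 33), (73, 0, 101, 33), (69, 0, 91, 33), (87, 3, 91, 33), (93, 1, 105, 34),
    (99, 2, 105, 34), (89, 2, 94, 34), (72, 0, 100, 34), (68, 0, 90, 34), (86, 3, 90, 34), (65, 3, 69, 34),
    (88, 2, 93, 35), (71, 0, 99, 35), (67, 0, 89, 35), (85, 3, 89, 35), (64, 3, 68, 35), (83, 4, 86, 35),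
    (55, 2, 65, 35), (66, 0, 88, 36), (84, 3, 88, 36), (63, 3, 67, 36), (82, 4, 85, 36), (54, 2, 64, 36),
    (61, 4, 64, 36), (62, 3, 66, 37), (81, 4, 84, 37), (53, 2, 63, 37), (60, 4, 63, 37), (80, 5, 82, 37),
    (51, 4, 54, 37), (52, 2, 62, 38), (59, 4, 62, 38), (79, 5, 81, 38), (50, 4, 53, 38), (58, 5, 60, 38),
    (45, 3, 51, 38), (49, 4, 52, 39), (57, 5, 59, 39), (78, 6, 79, 39), (44, 3, 50, 39), (48, 5, 50, 39),
    (35, 1, 45, 39), (43, 3, 49, 40), (47, 5, 49, 40), (56, 6, 57, 40), (34, 1, 44, 40), (42, 5, 44, 40),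
    (33, 1, 43, 41), (41, 5, 43, 41), (46, 6, 47, 41), (32, 5, 34, 41), (39, 4, 42, 41), (31, 5, 33, 42),
    (38, 4, 41, 42), (40, 6, 41, 42), (29, 4, 32, 42), (28, 4, 31, 43), (30, 6, 31, 43), (37, 6, 38, 43),
    (25, 3, 29, 43), (24, 3, 28, 44), (27, 6, 28, 44), (36, 5, 37, 44), (20, 2, 25, 44), (19, 2, 24, 45),
    (23, 6, 24, 45), (26, 5, 27, 45), (13, 0, 20, 45), (12, 0, 19, 46), (18, 6, 19, 46), (22, 5, 23, 46),
    (11, 6, 12, 47), (17, 5, 18, 47), (21, 4, 22, 47), (10, 5, 11, 48), (16, 4, 17, 48), (9, 4, 10, 49),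
    (15, 3, 16, 49), (8, 3, 9, 50), (14, 1, 15, 50), (6, 1, 8, 51), (7, 2, 8, 51), (5, 2, 6, 52),
    (4, 3, 5, 53), (3, 4, 4, 54), (2, 5, 3, 55), (1, 6, 2, 56), (0, 7, 1, 57)]⟩,
  ⟨[0, 1, 2, 3, 4, 5, 6], 238, [
    (237, 6, 238, 1), (236, 5, 237, 2), (235, 4, 236, 3), (234, 3, 235, 4), (232, 1, 234, 5), (233, 2, 234, 5),
    (231, 2, 232, 6), (225, 0, 233, 6), (224, 0, 231, 7), (230, 3, 231, 7), (223, 3, 224, 8), (229, 4, 230, 8),
    (218, 2, 223, 9), (222, 4, 223, 9), (228, 5, 229, 9), (217, 4, 218, 10), (221, 5, 222, 10), (227, 6, 228, 10),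
    (213, 3, 217, 11), (216, 5, 217, 11), (220, 6, 221, 11), (203, 1, 213, 12), (212, 5, 213, 12), (215, 6, 216, 12),
    (202, 5, 203, 13), (209, 4, 212, 13), (211, 6, 212, 13), (199, 4, 202, 14), (201, 6, 202, 14), (208, 6, 209, 14),
    (193, 3, 199, 15), (198, 6, 199, 15), (206, 5, 208, 15), (183, 2, 193, 16), (192, 6, 193, 16), (196, 5, 198, 16),
    (161, 0, 183, 17), (182, 6, 183, 17), (190, 5, 192, 17), (160, 6, 161, 18), (180, 5, 182, 18), (187, 4, 190, 18),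
    (158, 5, 160, 19), (177, 4, 180, 19), (155, 4, 158, 20), (173, 3, 177, 20), (151, 3, 155, 21), (168, 1, 173, 21),
    (140, 1, 151, 22), (146, 2, 151, 22), (134, 2, 140, 23), (129, 3, 134, 24), (125, 4, 129, 25), (122, 5, 125, 26),
    (120, 6, 122, 27)]⟩,
  ⟨[0, 1, 2, 3, 4, 5], 237, [
    (236, 5, 237, 1), (235, 4, 236, 2), (234, 3, 235, 3), (232, 1, 234, 4), (233, 2, 234, 4), (231, 2, 232, 5),
    (225, 0, 233, 5), (224, 0, 231, 6), (230, 3, 231, 6), (223, 3, 224, 7), (229, 4, 230, 7), (218, 2, 223, 8),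
    (222, 4, 223, 8), (228, 5, 229, 8), (217, 4, 218, 9), (221, 5, 222, 9), (213, 3, 217, 10), (216, 5, 217, 10),
    (203, 1, 213, 11), (212, 5, 213, 11), (202, 5, 203, 12), (209, 4, 212, 12), (199, 4, 202, 13), (193, 3, 199, 14),
    (183, 2, 193, 15), (161, 0, 183, 16)]⟩,
  ⟨[0, 1, 2, 3, 4], 236, [
    (235, 4, 236, 1), (234, 3, 235, 2), (232, 1, 234, 3), (233, 2, 234, 3), (231, 2, 232, 4), (225, 0, 233, 4),
    (224, 0, 231, 5), (230, 3, 231, 5), (223, 3, 224, 6), (229, 4, 230, 6), (218, 2, 223, 7), (222, 4, 223, 7),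
    (217, 4, 218, 8), (213, 3, 217, 9), (203, 1, 213, 10)]⟩,
  ⟨[0, 1, 2, 3], 235, [
    (234, 3, 235, 1), (232, 1, 234, 2), (233, 2, 234, 2), (231, 2, 232, 3), (225, 0, 233, 3), (224, 0, 231, 4),
    (230, 3, 231, 4), (223, 3, 224, 5), (218, 2, 223, 6)]⟩,
  ⟨[0, 1, 2], 230, [
    (223, 0, 230, 1), (218, 2, 223, 2)]⟩,
  ⟨[1, 2], 225, [
    (224, 1, 225, 1)]⟩,
  ⟨[2], 234, [
    (233, 2, 234, 1)]⟩]

/-- The orders of products of two fundamental reflections in type E8. -/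
def wordME8 : List (List ℕ) := [[1, 2, 3, 2, 2, 2, 2, 2], [2, 1, 2, 3, 2, 2, 2, 2], [3, 2, 1, 3, 2, 2, 2, 2], [2, 3, 3, 1, 3, 2, 2, 2], [2, 2, 2, 3, 1, 3, 2, 2], [2, 2, 2, 2, 3, 1, 3, 2], [2, 2, 2, 2, 2, 3, 1, 3], [2, 2, 2, 2, 2, 2, 3, 1]]

theorem wchainE8_ok : chainOK chevE8 dataE8 sdataE8 wchainE8 = true := by decide +kernel

theorem wordME8_ok : ordOK chevE8 sdataE8 wordME8 = true := by decide +kernel

theorem coxNumberE8_ok : coxOK chevE8 sdataE8 30 = true := by decide +kernel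

theorem card_weylE8 (g : Good chevE8) : Nat.card g.weyl = 696729600 := by
  rw [g.weyl_eq_wJ, g.card_wJ]
  have h := g.weylSum_chain checksE8 structChecksE8 wchainE8 wchainE8_ok 1
  rw [show {i | i ∈ headJ wchainE8} = {i : ℕ | i < chevE8.rank} from ?_] at h
  · rw [h]; decide +kernel
  · ext i
    show i ∈ [0, 1, 2, 3, 4, 5, 6, 7] ↔ i < 8
    simp only [List.mem_cons, List.not_mem_nil, or_false]
    omega

end CfsgLib.Chev
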