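import Cfsg.Agent.Lib.Chev.CardGroup
import Cfsg.Agent.Lib.Chev.CartanSmith
import Cfsg.Agent.Lib.Chev.WeylTables
import Cfsg.Agent.Lib.Chev.Good
import Cfsg.Agent.Lib.Chev.CommGood

/-!
The orders of the finite Chevalley groups.
-/

set_option autoImplicit false
set_option maxRecDepth 100000

namespace CfsgLib.Chev

open Cfsg.Lie

/-- The value of a coefficient list. -/
def pev (q : ℤ) : List ℤ → ℤ
  | [] => 0
  | a :: l => a + q * pev q l

/-- The sum of coefficient lists. -/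
def padd : List ℤ → List ℤ → List ℤ
  | [], b => b
  | a, [] => a
  | a :: s, b :: t => (a + b) :: padd s t

/-- A multiple of a coefficient list. -/
def pscal (c : ℤ) : List ℤ → List ℤ
  | [] => []
  | a :: l => (c * a) :: pscal c l

/-- The product of coefficient lists. -/
def pmul : List ℤ → List ℤ → List ℤ
  | [], _ => []
  | a :: s, t => padd (pscal a t) (0 :: pmul s t)

/-- All coefficients vanish. -/
def pzero : List ℤ → Bool
  | [] => true
  | a :: l => a == 0 && pzero l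

/-- A monomial. -/
def pmono : ℕ → List ℤ
  | 0 => [1]
  | e + 1 => 0 :: pmono e

lemma pev_padd (q : ℤ) : ∀ a b, pev q (padd a b) = pev q a + pev q b
  | [], b => by simp [padd, pev]
  | a :: s, [] => by simp [padd, pev]
  | a :: s, b :: t => by simp only [padd, pev, pev_padd q s t]; ring

lemma pev_pscal (q c : ℤ) : ∀ a, pev q (pscal c a) = c * pev q a
  | [] => by simp [pscal, pev]
  | a :: l => by simp only [pscal, pev, pev_pscal q c l]; ring

lemma pev_pmul (q : ℤ) : ∀ a b, pev q (pmul a b) = pev q a * pev q b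
  | [], b => by simp [pmul, pev]
  | a :: s, b => by simp only [pmul, pev_padd, pev_pscal, pev, pev_pmul q s b]; ring

lemma pev_pzero (q : ℤ) : ∀ a, pzero a = true → pev q a = 0
  | [], _ => rfl
  | a :: l, h => by
    rw [pzero, Bool.and_eq_true, beq_iff_eq] at h
    rw [pev, h.1, pev_pzero q l h.2, mul_zero, zero_add]

lemma pev_pmono (q : ℤ) : ∀ e, pev q (pmono e) = q ^ e
  | 0 => by simp [pmono, pev]
  | e + 1 => by simp only [pmono, pev, pev_pmono q e]; ring

/-- The factor of one step of a chain. -/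
def stepPoly (s : WStep) : List ℤ :=
  padd [1] ((s.orb.map fun t => pmono t.2.2.2).foldr padd [])

/-- The coefficients of `(q - 1) ^ r · polyOf l q - ∏ (q ^ d - 1)`. -/
def orderPoly (r : ℕ) (l : List WStep) (ds : List ℕ) : List ℤ :=
  padd (pmul ((List.replicate r [-1, 1]).foldr pmul [1]) ((l.map stepPoly).foldr pmul [1]))
    (pscal (-1) ((ds.map fun d => padd [-1] (pmono d)).foldr pmul [1]))

lemma pev_foldr_pmul (q : ℤ) : ∀ L : List (List ℤ), pev q (L.foldr pmul [1]) = (L.map (pev q)).prod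
  | [] => by simp [pev]
  | a :: L => by simp only [List.foldr_cons, pev_pmul, List.map_cons, List.prod_cons, pev_foldr_pmul q L]

lemma pev_foldr_padd (q : ℤ) : ∀ L : List (List ℤ), pev q (L.foldr padd []) = (L.map (pev q)).sum
  | [] => by simp [pev]
  | a :: L => by simp only [List.foldr_cons, pev_padd, List.map_cons, List.sum_cons, pev_foldr_padd q L]

lemma orderPoly_spec {r : ℕ} {l : List WStep} {ds : List ℕ} (h : pzero (orderPoly r l ds) = true)
    {q : ℕ} (hq : 1 ≤ q) : (q - 1) ^ r * polyOf l q = (ds.map fun d => q ^ d - 1).prod := by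
  have h1 := pev_pzero (q : ℤ) _ h
  simp only [orderPoly, pev_padd, pev_pmul, pev_pscal, pev_foldr_pmul, List.map_map,
    List.map_replicate, List.prod_replicate] at h1
  have e1 : pev (q : ℤ) [-1, 1] = ((q - 1 : ℕ) : ℤ) := by
    rw [Nat.cast_sub hq]; simp [pev]; ring
  have e2 : (l.map (pev (q : ℤ) ∘ stepPoly)).prod = (polyOf l q : ℤ) := by
    rw [polyOf, ← Nat.coe_castRingHom, map_list_prod, List.map_map]
    congr 1
    refine List.map_congr_left fun s _ => ?_
    simp only [Function.comp_apply, stepPoly, pev_padd, pev_foldr_padd, List.map_map, map_add,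
      map_list_sum, map_one, pev, mul_zero, add_zero]
    congr 2
    exact List.map_congr_left fun t _ => by simp [pev_pmono]
  have e3 : (ds.map (pev (q : ℤ) ∘ fun d => padd [-1] (pmono d))).prod =
      (((ds.map fun d => q ^ d - 1).prod : ℕ) : ℤ) := by
    rw [← Nat.coe_castRingHom, map_list_prod, List.map_map]
    congr 1
    refine List.map_congr_left fun d _ => ?_
    simp only [Function.comp_apply, pev_padd, pev_pmono, pev, Nat.coe_castRingHom,
      Nat.cast_sub (Nat.one_le_pow d q hq), Nat.cast_pow, Nat.cast_one]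
    ring
  rw [e1, e2, e3] at h1
  have h2 : (((q - 1) ^ r * polyOf l q : ℕ) : ℤ) = (((ds.map fun d => q ^ d - 1).prod : ℕ) : ℤ) := by
    rw [Nat.cast_mul, Nat.cast_pow]
    linarith
  exact_mod_cast h2

theorem smithG2 : smithOK chevG2 dataG2
    [[0, -1], [1, 2]]
    [[2, 1], [-1, 0]]
    [[1, 2], [0, 1]]
    [[1, -2], [0, 1]]
    [1, 1] = true := by
  decide +kernel

theorem card_diagonalG2 (F : Type*) [Field F] [Fintype F] :
    1 * Nat.card (chevG2.diagonalSubgroup F) = (Fintype.card F - 1) ^ chevG2.rank := by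
  rw [← goodG2.card_diagonal checksG2 smithG2]
  congr 1
  show _ = ∏ i : Fin 2, _
  simp [Fin.prod_univ_succ, nth_eq]

theorem card_groupG2 (F : Type*) [Field F] [Fintype F] :
    (1) * Nat.card (chevG2.group F) = Fintype.card F ^ 6 * (Fintype.card F ^ 2 - 1) * (Fintype.card F ^ 6 - 1) := by
  have hc : HasComm chevG2 := hasComm_of_mem (by simp)
  have hw : goodG2.weylSum {i : ℕ | i < chevG2.rank} (Fintype.card F) =
      polyOf wchainG2 (Fintype.card F) := by
    rw [← goodG2.weylSum_chain checksG2 structChecksG2 wchainG2 wchainG2_ok]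
    congr 1
    ext i
    show i < 2 ↔ i ∈ [0, 1]
    simp only [List.mem_cons, List.not_mem_nil, or_false]
    omega
  have hp := orderPoly_spec (r := 2) (l := wchainG2) (ds := [2, 6]) (by decide +kernel)
    (Fintype.card_pos (α := F))
  simp only [List.map_cons, List.map_nil, List.prod_cons, List.prod_nil, mul_one, ← mul_assoc] at hp
  have hd := card_diagonalG2 F
  have hN : chevG2.nroots / 2 = 6 := by decide +kernel
  rw [goodG2.card_group hc, goodG2.card_borel hc, hw, hN]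
  calc (1) * (Fintype.card F ^ 6 * Nat.card (chevG2.diagonalSubgroup F) *
        polyOf wchainG2 (Fintype.card F))
      = Fintype.card F ^ 6 * ((1) * Nat.card (chevG2.diagonalSubgroup F) *
        polyOf wchainG2 (Fintype.card F)) := by ring
    _ = _ := by rw [hd]; show _ * ((Fintype.card F - 1) ^ 2 * _) = _; rw [hp]; simp only [mul_assoc]

theorem smithB2 : smithOK chevB2 dataB2
    [[0, -1], [1, 2]]
    [[2, 1], [-1, 0]]
    [[1, 2], [0, 1]]
    [[1, -2], [0, 1]]
    [1, 2] = true := by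
  decide +kernel

theorem card_diagonalB2 (F : Type*) [Field F] [Fintype F] :
    (Fintype.card F - 1).gcd 2 * Nat.card (chevB2.diagonalSubgroup F) = (Fintype.card F - 1) ^ chevB2.rank := by
  rw [← goodB2.card_diagonal checksB2 smithB2]
  congr 1
  show _ = ∏ i : Fin 2, _
  simp [Fin.prod_univ_succ, nth_eq]

theorem card_groupB2 (F : Type*) [Field F] [Fintype F] :
    ((Fintype.card F - 1).gcd 2) * Nat.card (chevB2.group F) = Fintype.card F ^ 4 * (Fintype.card F ^ 2 - 1) * (Fintype.card F ^ 4 - 1) := by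
  have hc : HasComm chevB2 := hasComm_of_mem (by simp)
  have hw : goodB2.weylSum {i : ℕ | i < chevB2.rank} (Fintype.card F) =
      polyOf wchainB2 (Fintype.card F) := by
    rw [← goodB2.weylSum_chain checksB2 structChecksB2 wchainB2 wchainB2_ok]
    congr 1
    ext i
    show i < 2 ↔ i ∈ [0, 1]
    simp only [List.mem_cons, List.not_mem_nil, or_false]
    omega
  have hp := orderPoly_spec (r := 2) (l := wchainB2) (ds := [2, 4]) (by decide +kernel)
    (Fintype.card_pos (α := F))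
  simp only [List.map_cons, List.map_nil, List.prod_cons, List.prod_nil, mul_one, ← mul_assoc] at hp
  have hd := card_diagonalB2 F
  have hN : chevB2.nroots / 2 = 4 := by decide +kernel
  rw [goodB2.card_group hc, goodB2.card_borel hc, hw, hN]
  calc ((Fintype.card F - 1).gcd 2) * (Fintype.card F ^ 4 * Nat.card (chevB2.diagonalSubgroup F) *
        polyOf wchainB2 (Fintype.card F))
      = Fintype.card F ^ 4 * (((Fintype.card F - 1).gcd 2) * Nat.card (chevB2.diagonalSubgroup F) *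
        polyOf wchainB2 (Fintype.card F)) := by ring
    _ = _ := by rw [hd]; show _ * ((Fintype.card F - 1) ^ 2 * _) = _; rw [hp]; simp only [mul_assoc]

theorem smithD4 : smithOK chevD4 dataD4
    [[-1, 0, 0, 0], [-2, -1, 0, 0], [-3, -2, -1, 0], [2, 2, 1, 1]]
    [[-1, 0, 0, 0], [2, -1, 0, 0], [-1, 2, -1, 0], [-1, 0, 1, 1]]
    [[0, 0, 0, 1], [1, 0, 0, 2], [0, 1, -1, 1], [0, 0, 1, 2]]
    [[-2, 1, 0, 0], [-3, 0, 1, 1], [-2, 0, 0, 1], [1, 0, 0, 0]]
    [1, 1, 2, 2] = true := by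
  decide +kernel

theorem card_diagonalD4 (F : Type*) [Field F] [Fintype F] :
    (Fintype.card F - 1).gcd 2 * (Fintype.card F - 1).gcd 2 * Nat.card (chevD4.diagonalSubgroup F) = (Fintype.card F - 1) ^ chevD4.rank := by
  rw [← goodD4.card_diagonal checksD4 smithD4]
  congr 1
  show _ = ∏ i : Fin 4, _
  simp [Fin.prod_univ_succ, nth_eq]

theorem card_groupD4 (F : Type*) [Field F] [Fintype F] :
    ((Fintype.card F - 1).gcd 2 * (Fintype.card F - 1).gcd 2) * Nat.card (chevD4.group F) = Fintype.card F ^ 12 * (Fintype.card F ^ 2 - 1) * (Fintype.card F ^ 4 - 1) * (Fintype.card F ^ 4 - 1) * (Fintype.card F ^ 6 - 1) := by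
  have hc : HasComm chevD4 := hasComm_of_mem (by simp)
  have hw : goodD4.weylSum {i : ℕ | i < chevD4.rank} (Fintype.card F) =
      polyOf wchainD4 (Fintype.card F) := by
    rw [← goodD4.weylSum_chain checksD4 structChecksD4 wchainD4 wchainD4_ok]
    congr 1
    ext i
    show i < 4 ↔ i ∈ [0, 1, 2, 3]
    simp only [List.mem_cons, List.not_mem_nil, or_false]
    omega
  have hp := orderPoly_spec (r := 4) (l := wchainD4) (ds := [2, 4, 4, 6]) (by decide +kernel)
    (Fintype.card_pos (α := F))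
  simp only [List.map_cons, List.map_nil, List.prod_cons, List.prod_nil, mul_one, ← mul_assoc] at hp
  have hd := card_diagonalD4 F
  have hN : chevD4.nroots / 2 = 12 := by decide +kernel
  rw [goodD4.card_group hc, goodD4.card_borel hc, hw, hN]
  calc ((Fintype.card F - 1).gcd 2 * (Fintype.card F - 1).gcd 2) * (Fintype.card F ^ 12 * Nat.card (chevD4.diagonalSubgroup F) *
        polyOf wchainD4 (Fintype.card F))
      = Fintype.card F ^ 12 * (((Fintype.card F - 1).gcd 2 * (Fintype.card F - 1).gcd 2) * Nat.card (chevD4.diagonalSubgroup F) *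
        polyOf wchainD4 (Fintype.card F)) := by ring
    _ = _ := by rw [hd]; show _ * ((Fintype.card F - 1) ^ 4 * _) = _; rw [hp]; simp only [mul_assoc]

theorem smithF4 : smithOK chevF4 dataF4
    [[-1, 0, 0, 0], [1, 0, -1, 0], [-2, -1, 0, 0], [-2, -2, -2, -1]]
    [[-1, 0, 0, 0], [2, 0, -1, 0], [-1, -1, 0, 0], [0, 2, 2, -1]]
    [[0, 0, 1, -2], [1, 0, 2, -4], [0, 0, 2, -3], [0, 1, 2, -2]]
    [[-2, 1, 0, 0], [2, 0, -2, 1], [-3, 0, 2, 0], [-2, 0, 1, 0]]
    [1, 1, 1, 1] = true := by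
  decide +kernel

theorem card_diagonalF4 (F : Type*) [Field F] [Fintype F] :
    1 * Nat.card (chevF4.diagonalSubgroup F) = (Fintype.card F - 1) ^ chevF4.rank := by
  rw [← goodF4.card_diagonal checksF4 smithF4]
  congr 1
  show _ = ∏ i : Fin 4, _
  simp [Fin.prod_univ_succ, nth_eq]

theorem card_groupF4 (F : Type*) [Field F] [Fintype F] :
    (1) * Nat.card (chevF4.group F) = Fintype.card F ^ 24 * (Fintype.card F ^ 2 - 1) * (Fintype.card F ^ 6 - 1) * (Fintype.card F ^ 8 - 1) * (Fintype.card F ^ 12 - 1) := by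
  have hc : HasComm chevF4 := hasComm_of_mem (by simp)
  have hw : goodF4.weylSum {i : ℕ | i < chevF4.rank} (Fintype.card F) =
      polyOf wchainF4 (Fintype.card F) := by
    rw [← goodF4.weylSum_chain checksF4 structChecksF4 wchainF4 wchainF4_ok]
    congr 1
    ext i
    show i < 4 ↔ i ∈ [0, 1, 2, 3]
    simp only [List.mem_cons, List.not_mem_nil, or_false]
    omega
  have hp := orderPoly_spec (r := 4) (l := wchainF4) (ds := [2, 6, 8, 12]) (by decide +kernel)
    (Fintype.card_pos (α := F))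
  simp only [List.map_cons, List.map_nil, List.prod_cons, List.prod_nil, mul_one, ← mul_assoc] at hp
  have hd := card_diagonalF4 F
  have hN : chevF4.nroots / 2 = 24 := by decide +kernel
  rw [goodF4.card_group hc, goodF4.card_borel hc, hw, hN]
  calc (1) * (Fintype.card F ^ 24 * Nat.card (chevF4.diagonalSubgroup F) *
        polyOf wchainF4 (Fintype.card F))
      = Fintype.card F ^ 24 * ((1) * Nat.card (chevF4.diagonalSubgroup F) *
        polyOf wchainF4 (Fintype.card F)) := by ring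
    _ = _ := by rw [hd]; show _ * ((Fintype.card F - 1) ^ 4 * _) = _; rw [hp]; simp only [mul_assoc]

theorem smithE6 : smithOK chevE6 dataE6
    [[-1, 0, 0, 0, 0, 0], [0, -1, 0, 0, 0, 0], [1, -2, 0, -1, 0, 0], [2, -3, 0, -2, -1, 0], [-2, 1, -1, 0, 0, 0], [-5, 0, -4, -3, -2, -1]]
    [[-1, 0, 0, 0, 0, 0], [0, -1, 0, 0, 0, 0], [2, -1, 0, 0, -1, 0], [-1, 2, -1, 0, 0, 0], [0, -1, 2, -1, 0, 0], [0, 0, -1, 2, 4, -1]]
    [[0, 0, 0, 0, 1, -2], [0, 0, 0, 0, 2, -3], [1, 0, 0, 0, 2, -4], [0, 1, 0, 0, 4, -6], [0, 0, 1, 0, 4, -5], [0, 0, 0, 1, 4, -4]]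
    [[-2, 0, 1, 0, 0, 0], [0, -2, 0, 1, 0, 0], [2, -3, 0, 0, 1, 0], [4, -4, 0, 0, 0, 1], [-3, 2, 0, 0, 0, 0], [-2, 1, 0, 0, 0, 0]]
    [1, 1, 1, 1, 1, 3] = true := by
  decide +kernel

theorem card_diagonalE6 (F : Type*) [Field F] [Fintype F] :
    (Fintype.card F - 1).gcd 3 * Nat.card (chevE6.diagonalSubgroup F) = (Fintype.card F - 1) ^ chevE6.rank := by
  rw [← goodE6.card_diagonal checksE6 smithE6]
  congr 1
  show _ = ∏ i : Fin 6, _
  simp [Fin.prod_univ_succ, nth_eq]

theorem card_groupE6 (F : Type*) [Field F] [Fintype F] :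
    ((Fintype.card F - 1).gcd 3) * Nat.card (chevE6.group F) = Fintype.card F ^ 36 * (Fintype.card F ^ 2 - 1) * (Fintype.card F ^ 5 - 1) * (Fintype.card F ^ 6 - 1) * (Fintype.card F ^ 8 - 1) * (Fintype.card F ^ 9 - 1) * (Fintype.card F ^ 12 - 1) := by
  have hc : HasComm chevE6 := hasComm_of_mem (by simp)
  have hw : goodE6.weylSum {i : ℕ | i < chevE6.rank} (Fintype.card F) =
      polyOf wchainE6 (Fintype.card F) := by
    rw [← goodE6.weylSum_chain checksE6 structChecksE6 wchainE6 wchainE6_ok]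
    congr 1
    ext i
    show i < 6 ↔ i ∈ [0, 1, 2, 3, 4, 5]
    simp only [List.mem_cons, List.not_mem_nil, or_false]
    omega
  have hp := orderPoly_spec (r := 6) (l := wchainE6) (ds := [2, 5, 6, 8, 9, 12]) (by decide +kernel)
    (Fintype.card_pos (α := F))
  simp only [List.map_cons, List.map_nil, List.prod_cons, List.prod_nil, mul_one, ← mul_assoc] at hp
  have hd := card_diagonalE6 F
  have hN : chevE6.nroots / 2 = 36 := by decide +kernel
  rw [goodE6.card_group hc, goodE6.card_borel hc, hw, hN]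
  calc ((Fintype.card F - 1).gcd 3) * (Fintype.card F ^ 36 * Nat.card (chevE6.diagonalSubgroup F) *
        polyOf wchainE6 (Fintype.card F))
      = Fintype.card F ^ 36 * (((Fintype.card F - 1).gcd 3) * Nat.card (chevE6.diagonalSubgroup F) *
        polyOf wchainE6 (Fintype.card F)) := by ring
    _ = _ := by rw [hd]; show _ * ((Fintype.card F - 1) ^ 6 * _) = _; rw [hp]; simp only [mul_assoc]

theorem smithE7 : smithOK chevE7 dataE7
    [[-1, 0, 0, 0, 0, 0, 0], [0, -1, 0, 0, 0, 0, 0], [1, -2, 0, -1, 0, 0, 0], [2, -3, 0, -2, -1, 0, 0], [3, -4, 0, -3, -2, -1, 0], [-2, 1, -1, 0, 0, 0, 0], [-4, -1, -4, -4, -3, -2, -1]]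
    [[-1, 0, 0, 0, 0, 0, 0], [0, -1, 0, 0, 0, 0, 0], [2, -1, 0, 0, 0, -1, 0], [-1, 2, -1, 0, 0, 0, 0], [0, -1, 2, -1, 0, 0, 0], [0, 0, -1, 2, -1, 0, 0], [0, 0, 0, -1, 2, 4, -1]]
    [[0, 0, 0, 0, 0, 1, -2], [0, 0, 0, 0, 0, 2, -3], [1, 0, 0, 0, 0, 2, -4], [0, 1, 0, 0, 0, 4, -6], [0, 0, 1, 0, 0, 4, -5], [0, 0, 0, 1, 0, 4, -4], [0, 0, 0, 0, 1, 4, -3]]
    [[-2, 0, 1, 0, 0, 0, 0], [0, -2, 0, 1, 0, 0, 0], [2, -3, 0, 0, 1, 0, 0], [4, -4, 0, 0, 0, 1, 0], [6, -5, 0, 0, 0, 0, 1], [-3, 2, 0, 0, 0, 0, 0], [-2, 1, 0, 0, 0, 0, 0]]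
    [1, 1, 1, 1, 1, 1, 2] = true := by
  decide +kernel

theorem card_diagonalE7 (F : Type*) [Field F] [Fintype F] :
    (Fintype.card F - 1).gcd 2 * Nat.card (chevE7.diagonalSubgroup F) = (Fintype.card F - 1) ^ chevE7.rank := by
  rw [← goodE7.card_diagonal checksE7 smithE7]
  congr 1
  show _ = ∏ i : Fin 7, _
  simp [Fin.prod_univ_succ, nth_eq]

theorem card_groupE7 (F : Type*) [Field F] [Fintype F] :
    ((Fintype.card F - 1).gcd 2) * Nat.card (chevE7.group F) = Fintype.card F ^ 63 * (Fintype.card F ^ 2 - 1) * (Fintype.card F ^ 6 - 1) * (Fintype.card F ^ 8 - 1) * (Fintype.card F ^ 10 - 1) * (Fintype.card F ^ 12 - 1) * (Fintype.card F ^ 14 - 1) * (Fintype.card F ^ 18 - 1) := by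
  have hc : HasComm chevE7 := hasComm_of_mem (by simp)
  have hw : goodE7.weylSum {i : ℕ | i < chevE7.rank} (Fintype.card F) =
      polyOf wchainE7 (Fintype.card F) := by
    rw [← goodE7.weylSum_chain checksE7 structChecksE7 wchainE7 wchainE7_ok]
    congr 1
    ext i
    show i < 7 ↔ i ∈ [0, 1, 2, 3, 4, 5, 6]
    simp only [List.mem_cons, List.not_mem_nil, or_false]
    omega
  have hp := orderPoly_spec (r := 7) (l := wchainE7) (ds := [2, 6, 8, 10, 12, 14, 18]) (by decide +kernel)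
    (Fintype.card_pos (α := F))
  simp only [List.map_cons, List.map_nil, List.prod_cons, List.prod_nil, mul_one, ← mul_assoc] at hp
  have hd := card_diagonalE7 F
  have hN : chevE7.nroots / 2 = 63 := by decide +kernel
  rw [goodE7.card_group hc, goodE7.card_borel hc, hw, hN]
  calc ((Fintype.card F - 1).gcd 2) * (Fintype.card F ^ 63 * Nat.card (chevE7.diagonalSubgroup F) *
        polyOf wchainE7 (Fintype.card F))
      = Fintype.card F ^ 63 * (((Fintype.card F - 1).gcd 2) * Nat.card (chevE7.diagonalSubgroup F) *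
        polyOf wchainE7 (Fintype.card F)) := by ring
    _ = _ := by rw [hd]; show _ * ((Fintype.card F - 1) ^ 7 * _) = _; rw [hp]; simp only [mul_assoc]

theorem smithE8 : smithOK chevE8 dataE8
    [[-1, 0, 0, 0, 0, 0, 0, 0], [0, -1, 0, 0, 0, 0, 0, 0], [1, -2, 0, -1, 0, 0, 0, 0], [2, -3, 0, -2, -1, 0, 0, 0], [3, -4, 0, -3, -2, -1, 0, 0], [4, -5, 0, -4, -3, -2, -1, 0], [-2, 1, -1, 0, 0, 0, 0, 0], [-3, -2, -4, -5, -4, -3, -2, -1]]
    [[-1, 0, 0, 0, 0, 0, 0, 0], [0, -1, 0, 0, 0, 0, 0, 0], [2, -1, 0, 0, 0, 0, -1, 0], [-1, 2, -1, 0, 0, 0, 0, 0], [0, -1, 2, -1, 0, 0, 0, 0], [0, 0, -1, 2, -1, 0, 0, 0], [0, 0, 0, -1, 2, -1, 0, 0], [0, 0, 0, 0, -1, 2, 4, -1]]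
    [[0, 0, 0, 0, 0, 0, 1, -2], [0, 0, 0, 0, 0, 0, 2, -3], [1, 0, 0, 0, 0, 0, 2, -4], [0, 1, 0, 0, 0, 0, 4, -6], [0, 0, 1, 0, 0, 0, 4, -5], [0, 0, 0, 1, 0, 0, 4, -4], [0, 0, 0, 0, 1, 0, 4, -3], [0, 0, 0, 0, 0, 1, 4, -2]]
    [[-2, 0, 1, 0, 0, 0, 0, 0], [0, -2, 0, 1, 0, 0, 0, 0], [2, -3, 0, 0, 1, 0, 0, 0], [4, -4, 0, 0, 0, 1, 0, 0], [6, -5, 0, 0, 0, 0, 1, 0], [8, -6, 0, 0, 0, 0, 0, 1], [-3, 2, 0, 0, 0, 0, 0, 0], [-2, 1, 0, 0, 0, 0, 0, 0]]
    [1, 1, 1, 1, 1, 1, 1, 1] = true := by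
  decide +kernel

theorem card_diagonalE8 (F : Type*) [Field F] [Fintype F] :
    1 * Nat.card (chevE8.diagonalSubgroup F) = (Fintype.card F - 1) ^ chevE8.rank := by
  rw [← goodE8.card_diagonal checksE8 smithE8]
  congr 1
  show _ = ∏ i : Fin 8, _
  simp [Fin.prod_univ_succ, nth_eq]

theorem card_groupE8 (F : Type*) [Field F] [Fintype F] :
    (1) * Nat.card (chevE8.group F) = Fintype.card F ^ 120 * (Fintype.card F ^ 2 - 1) * (Fintype.card F ^ 8 - 1) * (Fintype.card F ^ 12 - 1) * (Fintype.card F ^ 14 - 1) * (Fintype.card F ^ 18 - 1) * (Fintype.card F ^ 20 - 1) * (Fintype.card F ^ 24 - 1) * (Fintype.card F ^ 30 - 1) := by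
  have hc : HasComm chevE8 := hasComm_of_mem (by simp)
  have hw : goodE8.weylSum {i : ℕ | i < chevE8.rank} (Fintype.card F) =
      polyOf wchainE8 (Fintype.card F) := by
    rw [← goodE8.weylSum_chain checksE8 structChecksE8 wchainE8 wchainE8_ok]
    congr 1
    ext i
    show i < 8 ↔ i ∈ [0, 1, 2, 3, 4, 5, 6, 7]
    simp only [List.mem_cons, List.not_mem_nil, or_false]
    omega
  have hp := orderPoly_spec (r := 8) (l := wchainE8) (ds := [2, 8, 12, 14, 18, 20, 24, 30]) (by decide +kernel)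
    (Fintype.card_pos (α := F))
  simp only [List.map_cons, List.map_nil, List.prod_cons, List.prod_nil, mul_one, ← mul_assoc] at hp
  have hd := card_diagonalE8 F
  have hN : chevE8.nroots / 2 = 120 := by decide +kernel
  rw [goodE8.card_group hc, goodE8.card_borel hc, hw, hN]
  calc (1) * (Fintype.card F ^ 120 * Nat.card (chevE8.diagonalSubgroup F) *
        polyOf wchainE8 (Fintype.card F))
      = Fintype.card F ^ 120 * ((1) * Nat.card (chevE8.diagonalSubgroup F) *
        polyOf wchainE8 (Fintype.card F)) := by ring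
    _ = _ := by rw [hd]; show _ * ((Fintype.card F - 1) ^ 8 * _) = _; rw [hp]; simp only [mul_assoc]

end CfsgLib.Chev
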