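import Cfsg.Agent.Lib.Chev.Simple
import Cfsg.Agent.Lib.Chev.Good
import Cfsg.Agent.Lib.Chev.CommGood

/-!
Simplicity of G2, B2, D4, F4, E6, E7, E8.
-/

set_option autoImplicit false
set_option maxRecDepth 100000

namespace CfsgLib.Chev

open Cfsg.Lie

/-- `(r, s)` gives `x_r`, `x_s` whose commutator is `x_p(±t)`. -/
noncomputable def perfWit (D : ChevalleyDatum) (p : ℕ) (w : ℕ × ℕ) : Bool :=
  Nat.blt w.1 D.nroots && Nat.blt w.2 D.nroots && !(Nat.beq w.2 w.1) &&
    !(Nat.beq w.2 (fneg D w.1)) &&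
    List.rec false (fun c rest _ => Nat.beq rest.length 0 && Nat.beq c.1 p &&
      Nat.beq c.2.2.1 1 && (Int.beq' c.2.1 1 || Int.beq' c.2.1 (-1))) (fterms D w.1 w.2)

lemma perfWit_mem {D : ChevalleyDatum} {F : Type*} [Field F] (g : Good D) (hc : HasComm D)
    {p : ℕ} {w : ℕ × ℕ} (h : perfWit D p w = true) (t : F) :
    g.xG p t ∈ ⁅D.group F, D.group F⁆ := by
  simp only [perfWit, Bool.and_eq_true, Nat.blt_eq, Bool.not_eq_true', ← Bool.not_eq_true,
    Nat.beq_eq] at h
  obtain ⟨⟨⟨⟨hr, hs⟩, hrs⟩, hneg⟩, hl⟩ := h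
  rw [← neg_eq g.lie.pack hr] at hneg
  match hm : fterms D w.1 w.2, hl with
  | [(p', C, a, b)], hl =>
    simp only [List.length_nil, Bool.and_eq_true, Bool.or_eq_true, Nat.beq_eq, Int.beq'_eq] at hl
    obtain ⟨⟨⟨-, rfl⟩, rfl⟩, hC⟩ := hl
    refine g.mem_commutator_of_comm hc hr hs hrs hneg hm ?_ t
    rcases hC with rfl | rfl <;> simp

lemma perfect_of_wits {D : ChevalleyDatum} (F : Type*) [Field F] {dat : LieData}
    (g : Good D) (hc : HasComm D) (hl : LieChecks D dat) (ws : List (ℕ × ℕ))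
    (h : allR (fun i => perfWit D (fsimple dat i) (nth (0, 0) ws i)) (upto D.rank) = true) :
    commutator ↥(D.group F) = ⊤ :=
  g.perfect_of_simple fun _ hi => perfWit_mem g hc ((hl.simple_facts hi).1 ▸ allR_upto h hi)

theorem perfectD4 (F : Type*) [Field F] : commutator ↥(chevD4.group F) = ⊤ :=
  perfect_of_wits F goodD4 (hasComm_of_mem (by simp)) checksD4
    [(9, 19), (5, 19), (9, 16), (9, 15)] (by decide +kernel)

theorem perfectF4 (F : Type*) [Field F] : commutator ↥(chevF4.group F) = ⊤ :=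
  perfect_of_wits F goodF4 (hasComm_of_mem (by simp)) checksF4
    [(20, 34), (14, 34), (23, 26), (22, 26)] (by decide +kernel)

theorem perfectE6 (F : Type*) [Field F] : commutator ↥(chevE6.group F) = ⊤ :=
  perfect_of_wits F goodE6 (hasComm_of_mem (by simp)) checksE6
    [(29, 57), (32, 47), (15, 57), (25, 47), (32, 40), (34, 38)] (by decide +kernel)

theorem perfectE7 (F : Type*) [Field F] : commutator ↥(chevE7.group F) = ⊤ :=
  perfect_of_wits F goodE7 (hasComm_of_mem (by simp)) checksE7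
    [(52, 94), (56, 79), (32, 94), (47, 79), (56, 70), (59, 67), (61, 65)] (by decide +kernel)

theorem perfectE8 (F : Type*) [Field F] : commutator ↥(chevE8.group F) = ⊤ :=
  perfect_of_wits F goodE8 (hasComm_of_mem (by simp)) checksE8
    [(104, 163), (109, 142), (77, 163), (98, 142), (109, 131), (113, 127), (116, 124), (118, 122)]
    (by decide +kernel)

lemma inv_ne_one {F : Type*} [Field F] {a : F} (h0 : a ≠ 0) (h1 : a ≠ 1) :
    (((Units.mk0 a h0) ^ (-1 : ℤ) : Fˣ) : F) ≠ 1 := by
  simpa [_root_.zpow_neg, inv_eq_one] using h1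

lemma pair_cartan {D : ChevalleyDatum} {dat : LieData} (g : Good D) (hl : LieChecks D dat)
    {i k : ℕ} (hi : i < D.rank) (hk : k < D.rank) {v : ℤ}
    (h : fcartan D k (fsimple dat i) = v) : pair D (D.simple k) (D.simple i) = v := by
  rw [g.pair_simple hk (g.simple_lt hi), cartan_eq g.lie.pack hk (g.simple_lt hi),
    (hl.simple_facts hi).1, h]

theorem perfectG2 {F : Type*} [Field F] (hF : ∃ a : F, a ≠ 0 ∧ a ≠ 1) :
    commutator ↥(chevG2.group F) = ⊤ := by
  obtain ⟨a, h0, h1⟩ := hF
  refine goodG2.perfect_of_simple fun i hi t => ?_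
  have hr : chevG2.rank = 2 := rfl
  obtain rfl | rfl : i = 0 ∨ i = 1 := by omega
  · refine goodG2.mem_commutator_of_torus (goodG2.simple_lt hi)
      (goodG2.simple_lt (show 1 < chevG2.rank by omega)) (Units.mk0 a h0) ?_ t
    rw [pair_cartan goodG2 checksG2 hi (show 1 < chevG2.rank by omega) (v := -1) (by decide +kernel)]
    exact inv_ne_one h0 h1
  · exact perfWit_mem goodG2 (hasComm_of_mem (by simp)) (w := (1, 11))
      ((checksG2.simple_facts hi).1 ▸ by decide +kernel) t

theorem perfectB2 {F : Type*} [Field F] (hF : ∃ a : F, a ≠ 0 ∧ a ≠ 1) :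
    commutator ↥(chevB2.group F) = ⊤ := by
  obtain ⟨a, h0, h1⟩ := hF
  refine goodB2.perfect_of_simple fun i hi t => ?_
  have hr : chevB2.rank = 2 := rfl
  obtain rfl | rfl : i = 0 ∨ i = 1 := by omega
  · refine goodB2.mem_commutator_of_torus (goodB2.simple_lt hi)
      (goodB2.simple_lt (show 1 < chevB2.rank by omega)) (Units.mk0 a h0) ?_ t
    rw [pair_cartan goodB2 checksB2 hi (show 1 < chevB2.rank by omega) (v := -1) (by decide +kernel)]
    exact inv_ne_one h0 h1
  · by_cases h2 : (2 : F) = 0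
    · refine goodB2.mem_commutator_of_torus (goodB2.simple_lt hi)
        (goodB2.simple_lt (show 0 < chevB2.rank by omega)) (Units.mk0 a h0) ?_ t
      rw [pair_cartan goodB2 checksB2 hi (show 0 < chevB2.rank by omega) (v := -2)
        (by decide +kernel)]
      simp only [_root_.zpow_neg, Units.val_inv_eq_inv_val, ne_eq, inv_eq_one]
      intro hsq
      have hsq' : a ^ 2 = 1 := by simpa [zpow_ofNat] using hsq
      have : (a - 1) ^ 2 = 0 := by linear_combination hsq' + (1 - a) * h2
      exact h1 (sub_eq_zero.1 (pow_eq_zero_iff (two_ne_zero) |>.1 this))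
    · refine goodB2.mem_commutator_of_comm (hasComm_of_mem (by simp)) (r := 2) (s := 6) (b := 1)
        (C := -2) (by decide +kernel) (by decide +kernel) (by decide) ?_ ?_ (by simpa using h2) t
      · rw [neg_eq goodB2.lie.pack (by decide +kernel)]; decide +kernel
      · rw [(checksB2.simple_facts hi).1]; decide +kernel

theorem dynkinConn_of_mem {D : ChevalleyDatum}
    (hD : D ∈ [chevG2, chevB2, chevD4, chevF4, chevE6, chevE7, chevE8]) : DynkinConn D := by
  simp only [List.mem_cons, List.not_mem_nil, or_false] at hD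
  rcases hD with rfl | rfl | rfl | rfl | rfl | rfl | rfl
  exacts [dynkinConn_of_check checksG2 (by decide +kernel),
    dynkinConn_of_check checksB2 (by decide +kernel),
    dynkinConn_of_check checksD4 (by decide +kernel),
    dynkinConn_of_check checksF4 (by decide +kernel),
    dynkinConn_of_check checksE6 (by decide +kernel),
    dynkinConn_of_check checksE7 (by decide +kernel),
    dynkinConn_of_check checksE8 (by decide +kernel)]

theorem perfect_of_mem {D : ChevalleyDatum} {F : Type*} [Field F]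
    (hD : D ∈ [chevG2, chevB2, chevD4, chevF4, chevE6, chevE7, chevE8])
    (h2 : D = chevG2 ∨ D = chevB2 → ∃ a : F, a ≠ 0 ∧ a ≠ 1) :
    commutator ↥(D.group F) = ⊤ := by
  simp only [List.mem_cons, List.not_mem_nil, or_false] at hD
  rcases hD with rfl | rfl | rfl | rfl | rfl | rfl | rfl
  exacts [perfectG2 (h2 (Or.inl rfl)), perfectB2 (h2 (Or.inr rfl)), perfectD4 F, perfectF4 F,
    perfectE6 F, perfectE7 F, perfectE8 F]

theorem rank_pos_of_mem {D : ChevalleyDatum}
    (hD : D ∈ [chevG2, chevB2, chevD4, chevF4, chevE6, chevE7, chevE8]) : 0 < D.rank := by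
  simp only [List.mem_cons, List.not_mem_nil, or_false] at hD
  rcases hD with rfl | rfl | rfl | rfl | rfl | rfl | rfl <;> decide +kernel

theorem simple_of_mem {D : ChevalleyDatum} {F : Type*} [Field F]
    (hD : D ∈ [chevG2, chevB2, chevD4, chevF4, chevE6, chevE7, chevE8])
    (h2 : D = chevG2 ∨ D = chevB2 → ∃ a : F, a ≠ 0 ∧ a ≠ 1) :
    IsSimpleGroup ↥(D.group F) ∧ ¬ IsMulCommutative ↥(D.group F) :=
  (good_of_mem hD).simple_of_perfect (hasComm_of_mem hD) (dynkinConn_of_mem hD)
    (rank_pos_of_mem hD) (perfect_of_mem hD h2)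

end CfsgLib.Chev
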