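import Mathlib
import Cfsg.Agent.Lib.Chev.StPres

/-!
The Bruhat form in a group with Steinberg's relations (R1), (R2); the kernel of the map onto the Chevalley group.
-/

set_option autoImplicit false

namespace CfsgLib.Chev

open Cfsg.Lie

variable {D : ChevalleyDatum} {F : Type*} [Field F]

namespace Good

variable (g : Good D)
include g

lemma cartan_neg' {i u : ℕ} (hi : i < D.rank) (hu : u < D.nroots) :
    D.cartan i (D.neg u) = - D.cartan i u := by
  rw [g.cartan_eq_sum (g.neg_lt hu) hi, g.cartan_eq_sum hu hi, ← Finset.sum_neg_distrib]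
  exact Finset.sum_congr rfl fun j hj => by rw [g.co_neg hu (Finset.mem_range.1 hj), neg_mul]

lemma eta_neg {i s : ℕ} (hi : i < D.rank) (hs : s < D.nroots) : g.eta i (D.neg s) = g.eta i s :=
  (StructChecks.eta_facts g.lie g.struc hi hs).2.1

/-- The centre of the Chevalley group is trivial. -/
theorem center_group_eq_bot (hc : HasComm D) : Subgroup.center ↥(D.group F) = ⊥ := by
  refine le_bot_iff.1 ((Subgroup.normal_le_normalCore.2 fun z hz => ?_).trans
    (g.core_trivial (F := F)).le)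
  show z ∈ (g.bnPair (F := F) hc).B
  rw [← BN.normalizer_eq_self (g.bnPair (F := F) hc) le_rfl, Subgroup.mem_normalizer_iff]
  intro x
  rw [show z * x * z⁻¹ = x by rw [← Subgroup.mem_center_iff.1 hz x]; group]

end Good

namespace StData

variable {g : Good D} {Γ : Type*} [Group Γ] (S : StData g F Γ)

/-- The subgroup generated by the `h` of fundamental roots. -/
def HY : Subgroup Γ :=
  Subgroup.closure {z | ∃ (i : Fin D.rank) (t : Fˣ), z = S.hY (D.simple i) t}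

lemma hY_mem (i : Fin D.rank) (t : Fˣ) : S.hY (D.simple i) t ∈ S.HY :=
  Subgroup.subset_closure ⟨i, t, rfl⟩

/-- The lift of `n_i`. -/
def nI (i : Fin D.rank) : Γ := S.nY (D.simple i) 1

/-- The lift of a word. -/
def N (l : List (Fin D.rank)) : Γ := (l.map S.nI).prod

lemma N_nil : S.N [] = 1 := rfl

lemma N_cons (i : Fin D.rank) (l : List (Fin D.rank)) : S.N (i :: l) = S.nI i * S.N l := by
  simp [N]

lemma N_append (l m : List (Fin D.rank)) : S.N (l ++ m) = S.N l * S.N m := by simp [N]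

lemma θ_HY {h : Γ} (hh : h ∈ S.HY) : S.θ h ∈ D.diagonalSubgroup F := by
  revert hh
  suffices S.HY ≤ (D.diagonalSubgroup F).comap S.θ from fun hh => this hh
  refine (Subgroup.closure_le _).2 ?_
  rintro _ ⟨i, t, rfl⟩
  show S.θ _ ∈ D.diagonalSubgroup F
  rw [S.θ_hY (g.simple_lt i.2)]
  exact g.hG_mem (g.simple_lt i.2) t

lemma HY_scale (hlink : g.Linked) {h : Γ} (hh : h ∈ S.HY) (s : Fin D.nroots) :
    ∃ c : Fˣ, ∀ u, h * S.y s u * h⁻¹ = S.y s ((c : F) * u) := by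
  induction hh using Subgroup.closure_induction with
  | mem z hz =>
    obtain ⟨i, t, rfl⟩ := hz
    obtain ⟨c1, h1⟩ := S.conj_nY hlink i (-1) s
    obtain ⟨c2, h2⟩ := S.conj_nY hlink i t (g.rperm i s)
    refine ⟨c2 * c1, fun u => ?_⟩
    rw [hY, show S.nY (D.simple i) t * S.nY (D.simple i) (-1) * S.y s u *
      (S.nY (D.simple i) t * S.nY (D.simple i) (-1))⁻¹ = S.nY (D.simple i) t *
        (S.nY (D.simple i) (-1) * S.y s u * (S.nY (D.simple i) (-1))⁻¹) *
          (S.nY (D.simple i) t)⁻¹ by group, h1, h2, g.rperm_rperm, Units.val_mul, mul_assoc]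
  | one => exact ⟨1, fun u => by simp⟩
  | mul a b _ _ ha hb =>
    obtain ⟨c1, h1⟩ := ha
    obtain ⟨c2, h2⟩ := hb
    refine ⟨c1 * c2, fun u => ?_⟩
    rw [show a * b * S.y s u * (a * b)⁻¹ = a * (b * S.y s u * b⁻¹) * a⁻¹ by group, h2, h1,
      Units.val_mul, mul_assoc]
  | inv a _ ha =>
    obtain ⟨c, hc⟩ := ha
    refine ⟨c⁻¹, fun u => ?_⟩
    have := hc (((c⁻¹ : Fˣ) : F) * u)
    rw [← mul_assoc, Units.mul_inv, one_mul] at this
    rw [← this]
    group

lemma scale_neg {h : Γ} (hh : h ∈ S.HY) {s : ℕ} (hs : s < D.nroots) {c c' : Fˣ}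
    (h1 : ∀ u, h * S.y s u * h⁻¹ = S.y s ((c : F) * u))
    (h2 : ∀ u, h * S.y (D.neg s) u * h⁻¹ = S.y (D.neg s) ((c' : F) * u)) : c' = c⁻¹ := by
  have hd := S.θ_HY hh
  rw [g.diagonal_eq_range] at hd
  obtain ⟨d, hd⟩ := hd
  have e1 : (∏ i : Fin D.rank, d i ^ D.cartan i s : Fˣ) = c := by
    have := congrArg S.θ (h1 1)
    rw [map_mul, map_mul, map_inv, S.θy s hs, S.θy s hs, ← hd, g.torHom_conj_xG d hs, mul_one,
      mul_one] at this
    exact Units.ext (g.x_inj hs this)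
  have e2 : (∏ i : Fin D.rank, d i ^ D.cartan i (D.neg s) : Fˣ) = c' := by
    have := congrArg S.θ (h2 1)
    rw [map_mul, map_mul, map_inv, S.θy _ (g.neg_lt hs), S.θy _ (g.neg_lt hs), ← hd,
      g.torHom_conj_xG d (g.neg_lt hs), mul_one, mul_one] at this
    exact Units.ext (g.x_inj (g.neg_lt hs) this)
  rw [← e1, ← e2, ← Finset.prod_inv_distrib]
  exact Finset.prod_congr rfl fun i _ => by rw [g.cartan_neg' i.2 hs, _root_.zpow_neg]

lemma HY_conj_nI (hlink : g.Linked) {h : Γ} (hh : h ∈ S.HY) (i : Fin D.rank) :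
    ∃ c : Fˣ, h * S.nI i * h⁻¹ = S.hY (D.simple i) c * S.nI i := by
  have hp := g.simple_lt i.2
  obtain ⟨c, hc⟩ := S.HY_scale hlink hh (g.sroot i)
  obtain ⟨c', hc'⟩ := S.HY_scale hlink hh (g.nroot (g.sroot i))
  obtain rfl := S.scale_neg hh hp hc hc'
  refine ⟨c, ?_⟩
  rw [nI, ← S.nY_eq hp, nY, nY,
    show h * (S.y (D.simple i) ((1 : Fˣ) : F) *
      S.y (D.neg (D.simple i)) (-(((1 : Fˣ)⁻¹ : Fˣ) : F)) * S.y (D.simple i) ((1 : Fˣ) : F)) * h⁻¹ =
    (h * S.y (g.sroot i) ((1 : Fˣ) : F) * h⁻¹) *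
      (h * S.y (g.nroot (g.sroot i)) (-(((1 : Fˣ)⁻¹ : Fˣ) : F)) * h⁻¹) *
        (h * S.y (g.sroot i) ((1 : Fˣ) : F) * h⁻¹) by
      show _ = (h * S.y (D.simple i) _ * h⁻¹) * (h * S.y (D.neg (D.simple i)) _ * h⁻¹) *
        (h * S.y (D.simple i) _ * h⁻¹)
      group, hc, hc']
  simp only [Units.val_one, inv_one, mul_one, mul_neg]
  rfl

lemma nI_conj_HY (hlink : g.Linked) {h : Γ} (hh : h ∈ S.HY) (i : Fin D.rank) :
    S.nI i * h * (S.nI i)⁻¹ ∈ S.HY := by
  obtain ⟨c, hc⟩ := S.HY_conj_nI hlink (inv_mem hh) i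
  rw [show S.nI i * h * (S.nI i)⁻¹ = h * (h⁻¹ * S.nI i * h⁻¹⁻¹) * (S.nI i)⁻¹ by group, hc,
    mul_assoc, mul_inv_cancel_right]
  exact mul_mem hh (S.hY_mem i c)

lemma nI_inv (i : Fin D.rank) : (S.nI i)⁻¹ = S.hY (D.simple i) (-1) * S.nI i := by
  rw [nI, S.nY_inv (g.simple_lt i.2), S.nY_eq (g.simple_lt i.2)]

lemma nI_sq (i : Fin D.rank) : S.nI i * S.nI i ∈ S.HY := by
  have h : S.hY (D.simple i) (-1) = (S.nI i * S.nI i)⁻¹ := by
    rw [hY, nI, ← S.nY_inv (g.simple_lt i.2), _root_.mul_inv_rev]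
  rw [← inv_inv (S.nI i * S.nI i), ← h]
  exact inv_mem (S.hY_mem i _)

lemma nI_inv_conj_HY (hlink : g.Linked) {h : Γ} (hh : h ∈ S.HY) (i : Fin D.rank) :
    (S.nI i)⁻¹ * h * S.nI i ∈ S.HY := by
  rw [S.nI_inv i, show S.hY (D.simple i) (-1) * S.nI i * h * S.nI i =
    S.hY (D.simple i) (-1) * (S.nI i * h * (S.nI i)⁻¹) * (S.nI i * S.nI i) by group]
  exact mul_mem (mul_mem (S.hY_mem i _) (S.nI_conj_HY hlink hh i)) (S.nI_sq i)

lemma N_conj_HY (hlink : g.Linked) {h : Γ} (hh : h ∈ S.HY) (l : List (Fin D.rank)) :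
    S.N l * h * (S.N l)⁻¹ ∈ S.HY := by
  induction l with
  | nil => simpa [N_nil] using hh
  | cons i l ih =>
    rw [N_cons, show S.nI i * S.N l * h * (S.nI i * S.N l)⁻¹ =
      S.nI i * (S.N l * h * (S.N l)⁻¹) * (S.nI i)⁻¹ by group]
    exact S.nI_conj_HY hlink ih i

lemma N_inv_conj_HY (hlink : g.Linked) {h : Γ} (hh : h ∈ S.HY) (l : List (Fin D.rank)) :
    (S.N l)⁻¹ * h * S.N l ∈ S.HY := by
  induction l generalizing h with
  | nil => simpa [N_nil] using hh
  | cons i l ih =>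
    rw [N_cons, show (S.nI i * S.N l)⁻¹ * h * (S.nI i * S.N l) =
      (S.N l)⁻¹ * ((S.nI i)⁻¹ * h * S.nI i) * S.N l by group]
    exact ih (S.nI_inv_conj_HY hlink hh i)

lemma nI_conj_y (hlink : g.Linked) (i : Fin D.rank) (s : Fin D.nroots) (u : F) :
    S.nI i * S.y s u * (S.nI i)⁻¹ = S.y (g.rperm i s) ((g.eta i s : F) * u) := by
  obtain ⟨c, hc⟩ := S.conj_nY hlink i 1 s
  have hθ := congrArg S.θ (hc 1)
  rw [map_mul, map_mul, map_inv, S.θ_nY (g.simple_lt i.2), S.θy _ s.2, S.θy _ (g.rperm i s).2,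
    g.nG_conj_xG i.2 s.2, mul_one, mul_one, g.rperm_val] at hθ
  rw [g.x_inj (g.refl_lt i.2 s.2) hθ]
  exact hc u

/-- The action of a word, with the same sign on opposite roots. -/
lemma N_conj_y (hlink : g.Linked) (l : List (Fin D.rank)) (s : Fin D.nroots) :
    ∃ c : Fˣ, c * c = 1 ∧
      (∀ u, S.N l * S.y s u * (S.N l)⁻¹ = S.y (g.wperm l s) ((c : F) * u)) ∧
      ∀ u, S.N l * S.y (g.nroot s) u * (S.N l)⁻¹ = S.y (g.nroot (g.wperm l s)) ((c : F) * u) := by
  induction l with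
  | nil => exact ⟨1, mul_one 1, fun u => by simp [N_nil, g.wperm_nil], fun u => by simp [N_nil, g.wperm_nil]⟩
  | cons i l ih =>
    obtain ⟨c, hc, h1, h2⟩ := ih
    obtain ⟨e, he, hee⟩ : ∃ e : Fˣ, e * e = 1 ∧ (e : F) = (g.eta i (g.wperm l s) : F) := by
      rcases g.eta_sign i.2 (g.wperm l s).2 with h | h
      · exact ⟨1, mul_one 1, by rw [h]; simp⟩
      · exact ⟨-1, by simp, by rw [h]; simp⟩
    refine ⟨e * c, by rw [mul_mul_mul_comm, he, hc, one_mul], fun u => ?_, fun u => ?_⟩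
    · rw [N_cons, show S.nI i * S.N l * S.y s u * (S.nI i * S.N l)⁻¹ =
        S.nI i * (S.N l * S.y s u * (S.N l)⁻¹) * (S.nI i)⁻¹ by group, h1, S.nI_conj_y hlink,
        ← hee, g.wperm_cons, Equiv.Perm.mul_apply, Units.val_mul, mul_assoc]
    · rw [N_cons, show S.nI i * S.N l * S.y (g.nroot s) u * (S.nI i * S.N l)⁻¹ =
        S.nI i * (S.N l * S.y (g.nroot s) u * (S.N l)⁻¹) * (S.nI i)⁻¹ by group, h2,
        S.nI_conj_y hlink, g.rperm_nroot,
        show g.eta i (g.nroot (g.wperm l s) : ℕ) = g.eta i (g.wperm l s) from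
          g.eta_neg i.2 (g.wperm l s).2,
        ← hee, g.wperm_cons, Equiv.Perm.mul_apply, Units.val_mul, mul_assoc]

lemma N_conj_nI (hlink : g.Linked) {l : List (Fin D.rank)} {q i : Fin D.rank}
    (h : g.wperm l (g.sroot q) = g.sroot i) :
    ∃ c : Fˣ, S.N l * S.nI q * (S.N l)⁻¹ = S.hY (D.simple i) c * S.nI i := by
  obtain ⟨c, hc, h1, h2⟩ := S.N_conj_y hlink l (g.sroot q)
  rw [h] at h1 h2
  refine ⟨c, ?_⟩
  rw [show S.nI q = S.y (g.sroot q) 1 * S.y (g.nroot (g.sroot q)) (-1) * S.y (g.sroot q) 1 by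
      simp only [nI, nY, inv_one, Units.val_one]; rfl,
    show S.N l * (S.y (g.sroot q) 1 * S.y (g.nroot (g.sroot q)) (-1) * S.y (g.sroot q) 1) *
      (S.N l)⁻¹ = (S.N l * S.y (g.sroot q) 1 * (S.N l)⁻¹) *
        (S.N l * S.y (g.nroot (g.sroot q)) (-1) * (S.N l)⁻¹) *
          (S.N l * S.y (g.sroot q) 1 * (S.N l)⁻¹) by group, h1, h2, nI,
    ← S.nY_eq (g.simple_lt i.2), nY, inv_eq_of_mul_eq_one_right hc, mul_one, mul_neg, mul_one]
  rfl

/-- The exchange step. -/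
lemma N_exchange (hlink : g.Linked) {i : Fin D.rank} {l : List (Fin D.rank)}
    (hneg : ((g.wperm l).symm (g.sroot i)).val < half D) :
    ∃ l', l'.length < l.length ∧ g.wperm l' = g.rperm i * g.wperm l ∧
      ∃ h ∈ S.HY, S.nI i * S.N l = h * S.N l' := by
  obtain ⟨j, hj, hroot, he⟩ := g.exists_exchange hneg
  refine ⟨l.take j ++ l.drop (j + 1), ?_, (g.wperm_eraseIdx hj he).symm, ?_⟩
  · simp only [List.length_append, List.length_take, List.length_drop]; omega
  obtain ⟨c, hc⟩ := S.N_conj_nI hlink hroot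
  refine ⟨(S.nI i * S.hY (D.simple i) c * (S.nI i)⁻¹) * (S.nI i * S.nI i),
    mul_mem (S.nI_conj_HY hlink (S.hY_mem i c) i) (S.nI_sq i), ?_⟩
  have e : S.N l = S.hY (D.simple i) c * S.nI i * S.N (l.take j) * S.N (l.drop (j + 1)) := by
    conv_lhs => rw [← List.take_append_drop (j + 1) l, List.take_succ_eq_append_getElem hj]
    rw [N_append, N_append, N_cons, N_nil, mul_one, ← hc, inv_mul_cancel_right]
  rw [e, N_append]
  group

/-- A word of the identity. -/
theorem N_mem_HY (hlink : g.Linked) {l : List (Fin D.rank)} (h : g.wperm l = 1) :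
    S.N l ∈ S.HY := by
  induction' hn : l.length using Nat.strong_induction_on with n ih generalizing l
  rcases l with _ | ⟨a, l0⟩
  · exact one_mem _
  have hp : g.wperm l0 = g.rperm a := by
    rw [g.wperm_cons] at h
    rw [eq_inv_of_mul_eq_one_right h, g.rperm_inv]
  have hneg : ((g.wperm l0).symm (g.sroot a)).val < half D := by
    rw [hp, show (g.rperm a).symm = g.rperm a from g.rperm_inv a, g.rperm_sroot]
    exact g.nroot_sroot_neg a
  obtain ⟨l', hlen, hw, x, hx, he⟩ := S.N_exchange hlink hneg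
  rw [N_cons, he]
  refine mul_mem hx (ih l'.length ?_ ?_ rfl)
  · rw [← hn, List.length_cons]; omega
  · rw [hw, hp, g.rperm_mul_self]

/-! ### Bruhat form -/

/-- The lift of `B`. -/
def BY : Subgroup Γ := S.yGen (Set.Ici (half D)) ⊔ S.HY

lemma BY_decomp (hlink : g.Linked) {b : Γ} (hb : b ∈ S.BY) :
    ∃ v ∈ S.yGen (Set.Ici (half D)), ∃ h ∈ S.HY, b = v * h := by
  have hle : S.HY ≤ Subgroup.normalizer (S.yGen (Set.Ici (half D)) : Set Γ) := by
    intro h hh
    have key : ∀ k ∈ S.HY, ∀ z ∈ S.yGen (Set.Ici (half D)),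
        k * z * k⁻¹ ∈ S.yGen (Set.Ici (half D)) := by
      intro k hk z hz
      refine S.conj_gen (fun r hr hr' t => ?_) hz
      obtain ⟨c, hc⟩ := S.HY_scale hlink hk ⟨r, hr'⟩
      rw [show k * S.y r t * k⁻¹ = S.y r ((c : F) * t) from hc t]
      exact S.y_mem hr hr' _
    rw [Subgroup.mem_normalizer_iff]
    refine fun z => ⟨fun hz => key h hh z hz, fun hz => ?_⟩
    simpa [mul_assoc] using key h⁻¹ (inv_mem hh) _ hz
  have hb' := SetLike.mem_coe.2 (show b ∈ S.yGen (Set.Ici (half D)) ⊔ S.HY from hb)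
  rw [Subgroup.coe_mul_of_right_le_normalizer_left _ _ hle] at hb'
  obtain ⟨v, hv, h, hh, rfl⟩ := Set.mem_mul.1 hb'
  exact ⟨v, hv, h, hh, rfl⟩

/-- Elements of the form `b N(l) b'`. -/
def InC (z : Γ) : Prop := ∃ x ∈ S.BY, ∃ l, ∃ y ∈ S.BY, z = x * S.N l * y

lemma InC.mul_left {z b : Γ} (h : S.InC z) (hb : b ∈ S.BY) : S.InC (b * z) := by
  obtain ⟨x, hx, l, y, hy, rfl⟩ := h
  exact ⟨b * x, mul_mem hb hx, l, y, hy, by group⟩

lemma InC.mul_right {z b : Γ} (h : S.InC z) (hb : b ∈ S.BY) : S.InC (z * b) := by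
  obtain ⟨x, hx, l, y, hy, rfl⟩ := h
  exact ⟨x, hx, l, y * b, mul_mem hy hb, by group⟩

lemma inC_N (l : List (Fin D.rank)) : S.InC (S.N l) :=
  ⟨1, one_mem _, l, 1, one_mem _, by group⟩

lemma N_pos_root (hlink : g.Linked) {i : Fin D.rank} {l : List (Fin D.rank)}
    (hpos : half D ≤ ((g.wperm l).symm (g.sroot i)).val) (t : F) :
    ∃ y ∈ S.BY, S.y (D.simple i) t * S.N l = S.N l * y := by
  set s := (g.wperm l).symm (g.sroot i) with hs
  obtain ⟨c, hc, h1, -⟩ := S.N_conj_y hlink l s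
  refine ⟨S.y s ((c : F) * t), Subgroup.mem_sup_left (S.y_mem (show (s : ℕ) ∈ Set.Ici (half D) from hpos) s.2 _), ?_⟩
  have h2 := h1 ((c : F) * t)
  rw [hs, Equiv.apply_symm_apply, ← mul_assoc, ← Units.val_mul, hc, Units.val_one, one_mul,
    mul_inv_eq_iff_eq_mul] at h2
  exact h2.symm

lemma nI_mul_inC (hlink : g.Linked) (i : Fin D.rank) {z : Γ} (hz : S.InC z) :
    S.InC (S.nI i * z) := by
  obtain ⟨b, hb, l, y, hy, rfl⟩ := hz
  rw [← mul_assoc]
  refine InC.mul_right S ?_ hy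
  obtain ⟨v, hv, h, hh, rfl⟩ := S.BY_decomp hlink hb
  have hp := g.simple_lt i.2
  obtain ⟨a, w, hw, rfl⟩ := S.yGen_split (B := g.posExcept i) hp
    (fun r hr _ => (em (r = D.simple i)).imp_right fun hne => ⟨hr, hne⟩)
    (fun r hr hr' t u => S.pm_conj_posExcept i hr' hr (Or.inl rfl) t u) hv
  set w' := S.y (D.simple i) a * w * (S.y (D.simple i) a)⁻¹ with hw'
  have hw'm : w' ∈ S.yGen (g.posExcept i) :=
    S.conj_gen (fun r hr hr' t => S.pm_conj_posExcept i hr' hr (Or.inl rfl) t a) hw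
  have hh' := S.N_inv_conj_HY hlink hh l
  have hu1 : S.nI i * w' * (S.nI i)⁻¹ ∈ S.BY :=
    Subgroup.mem_sup_left (S.yGen_mono (fun r hr _ => hr.1)
      (S.nY_conj_of i (fun r hr hr' s hs t u => S.pm_conj_posExcept i hr' hr hs t u) 1 hw'm))
  rw [show S.nI i * (S.y (D.simple i) a * w * h * S.N l) =
    (S.nI i * w' * (S.nI i)⁻¹) * ((S.nI i * S.y (D.simple i) a * S.N l) * ((S.N l)⁻¹ * h * S.N l)) by
      rw [hw']; group]
  refine InC.mul_left S (InC.mul_right S ?_ (Subgroup.mem_sup_right hh')) hu1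
  by_cases hpos : half D ≤ ((g.wperm l).symm (g.sroot i)).val
  · obtain ⟨y', hy', he⟩ := S.N_pos_root hlink hpos a
    rw [mul_assoc, he, ← mul_assoc, ← S.N_cons]
    exact InC.mul_right S (S.inC_N _) hy'
  by_cases ha : a = 0
  · rw [ha, S.y_zero hp, mul_one, ← S.N_cons]
    exact S.inC_N _
  set c : F := (g.eta i (D.simple i) : F) * a with hcdef
  have hc0 : c ≠ 0 := by
    rcases g.eta_sign i.2 hp with he | he <;> simp [hcdef, he, ha]
  set v : Fˣ := -(Units.mk0 c hc0)⁻¹ with hv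
  have hcv : (-((v⁻¹ : Fˣ) : F)) = c := by simp [hv, inv_neg]
  have hconj : S.nI i * S.y (D.simple i) a * (S.nI i)⁻¹ = S.y (D.simple i) (-(v : F)) *
      (S.hY (D.simple i) v * S.nI i) * S.y (D.simple i) (-(v : F)) := by
    have h0 := S.nI_conj_y hlink i (g.sroot i) a
    rw [g.rperm_sroot] at h0
    rw [show S.nI i * S.y (D.simple i) a * (S.nI i)⁻¹ = S.y (D.neg (D.simple i)) c from h0, ← hcv,
      S.y_neg_eq hp, nI, ← S.nY_eq hp]
  obtain ⟨l', -, hw'', x, hx, he⟩ := S.N_exchange hlink (i := i) (l := l) (by omega)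
  have hpos' : half D ≤ ((g.wperm l').symm (g.sroot i)).val := by
    rw [hw'', ← Equiv.Perm.inv_def, _root_.mul_inv_rev, g.rperm_inv, Equiv.Perm.mul_apply,
      g.rperm_sroot, ← g.wperm_reverse, g.wperm_nroot, g.nroot_pos_iff, g.wperm_reverse,
      Equiv.Perm.inv_def]
    omega
  obtain ⟨d, hd⟩ := S.HY_scale hlink (inv_mem hx) (g.sroot i)
  rw [inv_inv] at hd
  obtain ⟨y', hy', he'⟩ := S.N_pos_root hlink hpos' ((d : F) * -(v : F))
  have hX : S.y (D.simple i) (-(v : F)) ∈ S.BY :=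
    Subgroup.mem_sup_left (S.y_mem (show D.simple i ∈ Set.Ici (half D) from g.simple_pos i.2) hp _)
  have e : S.nI i * S.y (D.simple i) a * S.N l = S.y (D.simple i) (-(v : F)) * S.hY (D.simple i) v *
      ((S.nI i * x * (S.nI i)⁻¹) * (S.N (i :: l') * y')) := by
    calc S.nI i * S.y (D.simple i) a * S.N l
        = (S.nI i * S.y (D.simple i) a * (S.nI i)⁻¹) * (S.nI i * S.N l) := by group
      _ = S.y (D.simple i) (-(v : F)) * (S.hY (D.simple i) v * S.nI i) *
            S.y (D.simple i) (-(v : F)) * (x * S.N l') := by rw [hconj, he]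
      _ = S.y (D.simple i) (-(v : F)) * S.hY (D.simple i) v * S.nI i * x *
            ((x⁻¹ * S.y (g.sroot i) (-(v : F)) * x) * S.N l') := by
          show _ = S.y (D.simple i) (-(v : F)) * S.hY (D.simple i) v * S.nI i * x *
            ((x⁻¹ * S.y (D.simple i) (-(v : F)) * x) * S.N l')
          group
      _ = _ := by
          rw [hd, show S.y (g.sroot i) ((d : F) * -(v : F)) * S.N l' = S.N l' * y' from he', N_cons]
          group
  rw [e]
  exact InC.mul_left S (InC.mul_left S (InC.mul_right S (S.inC_N _) hy')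
    (Subgroup.mem_sup_right (S.nI_conj_HY hlink hx i))) (mul_mem hX (Subgroup.mem_sup_right (S.hY_mem i v)))

/-- `Γ = B N B`. -/
theorem inC (hlink : g.Linked) (z : Γ) : S.InC z := by
  suffices H : ∀ w, S.InC w → S.InC (z * w) by simpa using H 1 ⟨1, one_mem _, [], 1, one_mem _, by simp [N_nil]⟩
  let G0 : Set Γ := {z | z ∈ S.yGen (Set.Ici (half D)) ∨ ∃ i, z = S.nI i}
  have hgen : ∀ r < D.nroots, ∀ t, S.y r t ∈ Subgroup.closure G0 := by
    intro r hr
    have key : r < D.nroots ∧ ∀ t, S.y r t ∈ Subgroup.closure G0 := by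
      refine g.root_induction (P := fun r => r < D.nroots ∧ ∀ t, S.y r t ∈ Subgroup.closure G0)
        (fun i hi => ⟨g.simple_lt hi, fun t => Subgroup.subset_closure
          (Or.inl (S.y_mem (show D.simple i ∈ Set.Ici (half D) from g.simple_pos hi) (g.simple_lt hi) t))⟩)
        (fun i hi s hs hP => ⟨g.refl_lt hi hs, fun t => ?_⟩) hr
      obtain ⟨c, hc⟩ := S.conj_nY hlink ⟨i, hi⟩ 1 ⟨s, hs⟩
      have h1 := hc (((c⁻¹ : Fˣ) : F) * t)
      rw [← mul_assoc, Units.mul_inv, one_mul] at h1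
      show S.y (g.rperm ⟨i, hi⟩ ⟨s, hs⟩ : Fin D.nroots) t ∈ _
      rw [← h1]
      have hn : S.nY (D.simple i) 1 ∈ Subgroup.closure G0 :=
        Subgroup.subset_closure (Or.inr ⟨⟨i, hi⟩, rfl⟩)
      exact mul_mem (mul_mem hn (hP.2 _)) (inv_mem hn)
    exact key.2
  have htop : Subgroup.closure G0 = ⊤ := by
    rw [eq_top_iff, ← S.gen, Subgroup.closure_le]
    rintro _ ⟨r, hr, t, rfl⟩
    exact hgen r hr t
  have hz : z ∈ Subgroup.closure G0 := by rw [htop]; trivial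
  induction hz using Subgroup.closure_induction'' with
  | mem x hx =>
    intro w hw
    rcases hx with hx | ⟨i, rfl⟩
    · exact InC.mul_left S hw (Subgroup.mem_sup_left hx)
    · exact S.nI_mul_inC hlink i hw
  | inv_mem x hx =>
    intro w hw
    rcases hx with hx | ⟨i, rfl⟩
    · exact InC.mul_left S hw (Subgroup.mem_sup_left (inv_mem hx))
    · rw [S.nI_inv i, mul_assoc]
      exact InC.mul_left S (S.nI_mul_inC hlink i hw) (Subgroup.mem_sup_right (S.hY_mem i _))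
  | one => intro w hw; rwa [one_mul]
  | mul a b _ _ ha hb => intro w hw; rw [mul_assoc]; exact ha _ (hb w hw)

lemma θ_N (l : List (Fin D.rank)) : S.θ (S.N l) = g.wordN l := by
  induction l with
  | nil => rw [N_nil, map_one, g.wordN_nil]
  | cons i l ih => rw [N_cons, map_mul, ih, g.wordN_cons, nI, S.θ_nY (g.simple_lt i.2)]; rfl

lemma θ_BY {b : Γ} (hb : b ∈ S.BY) : S.θ b ∈ D.borelSubgroup F := by
  refine (sup_le (a := S.yGen (Set.Ici (half D))) (b := S.HY)
    (c := (D.borelSubgroup F).comap S.θ) ?_ ?_) hb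
  · intro x hx
    show S.θ x ∈ D.borelSubgroup F
    exact Subgroup.mem_sup_left (g.posUnipotent_eq (F := F) ▸ S.θ_yGen hx)
  · intro x hx
    show S.θ x ∈ D.borelSubgroup F
    exact Subgroup.mem_sup_right (S.θ_HY hx)

/-- The kernel lies in `H`. -/
theorem ker_le_HY (hlink : g.Linked) : S.θ.ker ≤ S.HY := by
  intro z hz
  rw [MonoidHom.mem_ker] at hz
  obtain ⟨x, hx, l, y, hy, rfl⟩ := S.inC hlink z
  rw [map_mul, map_mul, S.θ_N] at hz
  have hN : g.wordN (F := F) l ∈ D.borelSubgroup F := by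
    rw [show g.wordN (F := F) l = (S.θ x)⁻¹ * (S.θ x * g.wordN l * S.θ y) * (S.θ y)⁻¹ by group,
      hz]
    exact mul_mem (mul_mem (inv_mem (S.θ_BY hx)) (one_mem _)) (inv_mem (S.θ_BY hy))
  have hH : g.wordN (F := F) l ∈ D.diagonalSubgroup F := by
    rw [← g.borel_inf_monomial]
    exact Subgroup.mem_inf.2 ⟨hN, g.wordN_mem l⟩
  have hperm := g.acts_unique (g.acts_wordN l) (g.acts_diagonal hH)
  have hNl := S.N_mem_HY hlink hperm
  obtain ⟨v, hv, h, hh, he⟩ := S.BY_decomp hlink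
    (mul_mem (mul_mem hx (Subgroup.mem_sup_right hNl)) hy)
  rw [← S.θ_N, ← map_mul, ← map_mul, he, map_mul, mul_eq_one_iff_eq_inv] at hz
  have hv1 : S.θ v ∈ D.posUnipotent F ⊓ D.diagonalSubgroup F :=
    Subgroup.mem_inf.2 ⟨g.posUnipotent_eq (F := F) ▸ S.θ_yGen hv, hz ▸ inv_mem (S.θ_HY hh)⟩
  rw [g.pos_inf_diagonal, Subgroup.mem_bot] at hv1
  rw [he, S.inj_pos hv hv1, one_mul]
  exact hh

/-- The kernel is central. -/
theorem ker_le_center (hlink : g.Linked) : S.θ.ker ≤ Subgroup.center Γ := by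
  intro z hz
  have hzH := S.ker_le_HY hlink hz
  have hle : Subgroup.closure {x | ∃ r < D.nroots, ∃ t, x = S.y r t} ≤
      Subgroup.centralizer {z} := by
    refine (Subgroup.closure_le _).2 ?_
    rintro _ ⟨r, hr, t, rfl⟩
    rw [SetLike.mem_coe, Subgroup.mem_centralizer_iff]
    rintro _ rfl
    obtain ⟨c, hc⟩ := S.HY_scale hlink hzH ⟨r, hr⟩
    have h1 := congrArg S.θ (hc 1)
    rw [map_mul, map_mul, map_inv, (MonoidHom.mem_ker).1 hz, one_mul, inv_one, mul_one,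
      S.θy r hr, S.θy r hr, mul_one] at h1
    have h2 := hc t
    rw [← g.x_inj hr h1, one_mul, mul_inv_eq_iff_eq_mul] at h2
    exact h2
  rw [S.gen] at hle
  rw [Subgroup.mem_center_iff]
  intro w
  exact ((Subgroup.mem_centralizer_iff.1 (hle (Subgroup.mem_top w))) z rfl).symm

theorem θ_mem_group (z : Γ) : S.θ z ∈ D.group F := by
  have : Subgroup.closure {x | ∃ r < D.nroots, ∃ t, x = S.y r t} ≤ (D.group F).comap S.θ := by
    refine (Subgroup.closure_le _).2 ?_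
    rintro _ ⟨r, hr, t, rfl⟩
    show S.θ _ ∈ D.group F
    rw [S.θy r hr]
    exact g.xG_mem_group hr t
  rw [S.gen] at this
  exact this (Subgroup.mem_top z)

/-- The map onto the Chevalley group. -/
def θG : Γ →* ↥(D.group F) := S.θ.codRestrict _ S.θ_mem_group

theorem θG_surjective : Function.Surjective S.θG := by
  rintro ⟨x, hx⟩
  have hle : D.group F ≤ S.θ.range :=
    g.group_le fun r hr t => ⟨S.y r t, S.θy r hr t⟩
  obtain ⟨z, hz⟩ := hle hx
  exact ⟨z, Subtype.ext hz⟩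

theorem θG_y {r : ℕ} (hr : r < D.nroots) (t : F) :
    ((S.θG (S.y r t) : GL D.Idx F) : Matrix D.Idx D.Idx F) = D.x F r t := by
  show ((S.θ (S.y r t) : GL D.Idx F) : Matrix D.Idx D.Idx F) = _
  rw [S.θy r hr]
  rfl

theorem θG_ker : S.θG.ker = S.θ.ker := MonoidHom.ker_codRestrict _ _ _

/-- Steinberg's theorem. -/
theorem ker_eq_center (hlink : g.Linked) : S.θG.ker = Subgroup.center Γ := by
  refine le_antisymm (S.θG_ker.le.trans (S.ker_le_center hlink)) fun z hz => ?_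
  have hc : S.θG z ∈ Subgroup.center ↥(D.group F) := by
    rw [Subgroup.mem_center_iff]
    intro w
    obtain ⟨v, rfl⟩ := S.θG_surjective w
    rw [← map_mul, ← map_mul, Subgroup.mem_center_iff.1 hz v]
  rw [g.center_group_eq_bot S.hc, Subgroup.mem_bot] at hc
  exact MonoidHom.mem_ker.2 hc

end StData

end CfsgLib.Chev
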