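import Mathlib
import Cfsg.Prelude.Def_SteinbergCover
import Cfsg.Agent.Lib.Chev.StBruhat

/-!
Steinberg's presented groups as instances of `StData`.
-/

set_option autoImplicit false

namespace CfsgLib.Chev

open Cfsg.Lie

variable {D : ChevalleyDatum} {F : Type*} [Field F]

/-- Every fundamental root has a neighbour, on the packed tables. -/
noncomputable def linkOK (D : ChevalleyDatum) (dat : LieData) : Bool :=
  allR (fun i => anyR (fun j => !(Nat.beq i j) && !(Int.beq' (fcartan D j (fsimple dat i)) 0))
    (upto D.rank)) (upto D.rank)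

lemma linked_of_check {dat : LieData} (g : Good D) (hl : LieChecks D dat)
    (h : linkOK D dat = true) : g.Linked := by
  intro i
  have h1 := allR_upto h i.2
  rw [anyR_eq, List.any_eq_true] at h1
  obtain ⟨j, hj, hjf⟩ := h1
  simp only [Bool.and_eq_true, Bool.not_eq_true', ← Bool.not_eq_true, Nat.beq_eq,
    Int.beq'_eq] at hjf
  refine ⟨⟨j, lt_of_mem_upto hj⟩, fun h => hjf.1 (congrArg Fin.val h), ?_⟩
  rw [(hl.simple_facts i.2).1, cartan_eq hl.pack (lt_of_mem_upto hj)
    ((hl.simple_facts i.2).1 ▸ (hl.simple_facts i.2).2.2.1)]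
  exact hjf.2

theorem linked_of_mem (hD : D ∈ [chevG2, chevB2, chevD4, chevF4, chevE6, chevE7, chevE8])
    (g : Good D) : g.Linked := by
  simp only [List.mem_cons, List.not_mem_nil, or_false] at hD
  rcases hD with rfl | rfl | rfl | rfl | rfl | rfl | rfl
  exacts [linked_of_check g checksG2 (by decide +kernel),
    linked_of_check g checksB2 (by decide +kernel),
    linked_of_check g checksD4 (by decide +kernel),
    linked_of_check g checksF4 (by decide +kernel),
    linked_of_check g checksE6 (by decide +kernel),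
    linked_of_check g checksE7 (by decide +kernel),
    linked_of_check g checksE8 (by decide +kernel)]

namespace Good

variable (g : Good D)
include g

lemma commG (hc : HasComm D) {r s : ℕ} (hr : r < D.nroots) (hs : s < D.nroots) (hrs : s ≠ r)
    (hneg : s ≠ D.neg r) (t u : F) :
    (g.xG s u)⁻¹ * (g.xG r t)⁻¹ * g.xG s u * g.xG r t =
      ((D.commWord F r s t u).map fun p => g.xG p.1 p.2).prod := by
  have hm : g.xG s u * g.xG r t =
      g.xG r t * g.xG s u * ((D.commWord F r s t u).map fun p => g.xG p.1 p.2).prod := by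
    refine Units.ext ?_
    rw [Units.val_mul, Units.val_mul, Units.val_mul,
      show ∀ L : List (GL D.Idx F), ((L.prod : GL D.Idx F) : Matrix D.Idx D.Idx F) =
        (L.map Units.val).prod from fun L => map_list_prod (Units.coeHom _) L, List.map_map]
    exact g.comm_formula hc hr hs hrs hneg t u
  rw [mul_assoc, hm]
  group

/-- The value on a generator. -/
noncomputable def genMap (g : Good D) (F : Type*) [Field F] : Fin D.nroots × F → GL D.Idx F :=
  fun p => g.xG p.1 p.2

lemma lift_stX {r : ℕ} (hr : r < D.nroots) (t : F) :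
    FreeGroup.lift (g.genMap F) (D.stX r t) = g.xG r t := by
  rw [ChevalleyDatum.stX, dif_pos hr, FreeGroup.lift_apply_of]
  rfl

lemma lift_stWord (w : List (ℕ × F)) (hw : ∀ p ∈ w, p.1 < D.nroots) :
    FreeGroup.lift (g.genMap F) (D.stWord w) = (w.map fun p => g.xG p.1 p.2).prod := by
  rw [ChevalleyDatum.stWord, map_list_prod, List.map_map]
  exact congrArg List.prod (List.map_congr_left fun p hp => g.lift_stX (hw p hp) p.2)

lemma commWord_lt (hc : HasComm D) {r s : ℕ} (hr : r < D.nroots) (hs : s < D.nroots) (t u : F) :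
    ∀ p ∈ D.commWord F r s t u, p.1 < D.nroots := by
  intro p hp
  obtain ⟨c, hc', rfl⟩ := List.mem_map.1 hp
  exact (g.commTerms_co hc hr hs c hc').1

lemma lift_stH {r : ℕ} (hr : r < D.nroots) {t : F} (ht : t ≠ 0) :
    FreeGroup.lift (g.genMap F) (D.stH r t) = g.hG r (Units.mk0 t ht) := by
  have hn := g.neg_lt hr
  rw [ChevalleyDatum.stH, g.lift_stWord]
  · rw [g.hG_eq hr, nG, nG]
    simp [ChevalleyDatum.hWord, ChevalleyDatum.nWord, mul_assoc]
  · intro p hp
    simp only [ChevalleyDatum.hWord, ChevalleyDatum.nWord, List.cons_append, List.nil_append,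
      List.mem_cons, List.not_mem_nil, or_false] at hp
    rcases hp with rfl | rfl | rfl | rfl | rfl | rfl <;> assumption

lemma relsAB_one (hc : HasComm D) :
    ∀ x ∈ D.steinbergRelsAB F, FreeGroup.lift (g.genMap F) x = 1 := by
  rintro x (⟨r, a, b, hr, rfl⟩ | ⟨r, s, t, u, hr, hs, hsr, hneg, rfl⟩)
  · rw [map_mul, map_mul, map_inv, g.lift_stX hr, g.lift_stX hr, g.lift_stX hr, g.xG_add,
      mul_inv_cancel]
  · rw [map_mul, map_mul, map_mul, map_mul, map_inv, map_inv, map_inv, g.lift_stX hs, g.lift_stX hr,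
      g.lift_stWord _ (g.commWord_lt hc hr hs t u), g.commG hc hr hs hsr hneg, mul_inv_cancel]

lemma rels_one (hc : HasComm D) :
    ∀ x ∈ D.steinbergRels F, FreeGroup.lift (g.genMap F) x = 1 := by
  rintro x ((h | h) | ⟨r, a, b, hr, ha, hb, rfl⟩)
  · exact g.relsAB_one hc x (Or.inl h)
  · exact g.relsAB_one hc x (Or.inr h)
  · rw [map_mul, map_mul, map_inv, g.lift_stH hr ha, g.lift_stH hr hb,
      g.lift_stH hr (mul_ne_zero ha hb), ← map_mul, show Units.mk0 (a * b) (mul_ne_zero ha hb) =
        Units.mk0 a ha * Units.mk0 b hb from Units.ext rfl, mul_inv_cancel]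

end Good

lemma mk_prod_gen {R : Set (FreeGroup (Fin D.nroots × F))} (w : List (ℕ × F)) :
    PresentedGroup.mk R (D.stWord w) =
      (w.map fun p => PresentedGroup.mk R (D.stX p.1 p.2)).prod := by
  rw [ChevalleyDatum.stWord, map_list_prod, List.map_map]
  rfl

lemma closure_gen_eq_top (R : Set (FreeGroup (Fin D.nroots × F))) :
    Subgroup.closure {z | ∃ r < D.nroots, ∃ t, z = PresentedGroup.mk R (D.stX r t)} = ⊤ := by
  rw [eq_top_iff, ← PresentedGroup.closure_range_of, Subgroup.closure_le]
  rintro _ ⟨⟨r, t⟩, rfl⟩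
  refine Subgroup.subset_closure ⟨r, r.2, t, ?_⟩
  rw [ChevalleyDatum.stX, dif_pos r.2]
  rfl

/-- A presented group containing (R1), (R2) and mapping onto the root elements. -/
noncomputable def presStData (g : Good D) (hc : HasComm D) (R : Set (FreeGroup (Fin D.nroots × F)))
    (h12 : D.steinbergRelsAB F ⊆ R) (h1 : ∀ x ∈ R, FreeGroup.lift (g.genMap F) x = 1) :
    StData g F (PresentedGroup R) where
  hc := hc
  y r t := PresentedGroup.mk R (D.stX r t)
  add r hr a b := by
    have h := PresentedGroup.one_of_mem (rels := R) (h12 (Or.inl ⟨r, a, b, hr, rfl⟩))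
    rwa [map_mul, map_mul, map_inv, mul_inv_eq_one] at h
  comm r s hr hs hsr hneg t u := by
    have h := PresentedGroup.one_of_mem (rels := R)
      (h12 (Or.inr ⟨r, s, t, u, hr, hs, hsr, hneg, rfl⟩))
    rw [map_mul, map_mul, map_mul, map_mul, map_inv, map_inv, map_inv, mul_inv_eq_one,
      mk_prod_gen] at h
    exact h
  gen := closure_gen_eq_top R
  θ := PresentedGroup.toGroup h1
  θy r hr t := g.lift_stX hr t

/-- Steinberg's group. -/
noncomputable def stData (g : Good D) (hc : HasComm D) (F : Type*) [Field F] :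
    StData g F (D.SteinbergGroup F) :=
  presStData g hc (D.steinbergRels F) Set.subset_union_left (g.rels_one hc)

/-- The group of (R1), (R2). -/
noncomputable def scData (g : Good D) (hc : HasComm D) (F : Type*) [Field F] :
    StData g F (D.SteinbergCover F) :=
  presStData g hc (D.steinbergRelsAB F) subset_rfl (g.relsAB_one hc)

/-- Two maps agreeing with `x_r(t)` on the generators. -/
theorem st_hom_unique (g : Good D) (hc : HasComm D)
    (θ : D.SteinbergGroup F →* ↥(D.group F))
    (hθ : ∀ (r : ℕ) (t : F), r < D.nroots →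
      ((θ (D.stGen F r t) : GL D.Idx F) : Matrix D.Idx D.Idx F) = D.x F r t) :
    θ = (stData g hc F).θG := by
  refine MonoidHom.eq_of_eqOn_dense (closure_gen_eq_top (D.steinbergRels F)) ?_
  rintro _ ⟨r, hr, t, rfl⟩
  refine Subtype.ext (Units.ext ?_)
  rw [show ((stData g hc F).θG (PresentedGroup.mk (D.steinbergRels F) (D.stX r t))) =
    (stData g hc F).θG ((stData g hc F).y r t) from rfl, (stData g hc F).θG_y hr]
  exact hθ r t hr

theorem stData_hY (g : Good D) (hc : HasComm D) (r : ℕ) (t : Fˣ) :
    (stData g hc F).hY r t = PresentedGroup.mk (D.steinbergRels F) (D.stH r (t : F)) := by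
  rw [ChevalleyDatum.stH, mk_prod_gen]
  simp [StData.hY, StData.nY, ChevalleyDatum.hWord, ChevalleyDatum.nWord, stData, presStData,
    mul_assoc]

end CfsgLib.Chev
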