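import Mathlib
import Cfsg.Agent.Lib.Chev.StInst
import Cfsg.Agent.Lib.Chev.OrderTables

/-!
With the relations (R3) the lift of the torus is commutative; trivial centre for G2, F4, E8.
-/

set_option autoImplicit false

namespace CfsgLib.Chev

open Cfsg.Lie

variable {D : ChevalleyDatum} {F : Type*} [Field F]

namespace StData

variable {g : Good D} {Γ : Type*} [Group Γ] (S : StData g F Γ)

/-- The relations (R3) for the fundamental roots. -/
def R3 : Prop :=
  ∀ (i : Fin D.rank) (a b : Fˣ),
    S.hY (D.simple i) a * S.hY (D.simple i) b = S.hY (D.simple i) (a * b)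

lemma HY_comm_hY (hlink : g.Linked) (h3 : S.R3) {h : Γ} (hh : h ∈ S.HY) (j : Fin D.rank)
    (t : Fˣ) : h * S.hY (D.simple j) t = S.hY (D.simple j) t * h := by
  have hp := g.simple_lt j.2
  obtain ⟨c, hc⟩ := S.HY_scale hlink hh (g.sroot j)
  obtain ⟨c', hc'⟩ := S.HY_scale hlink hh (g.nroot (g.sroot j))
  obtain rfl := S.scale_neg hh hp hc hc'
  have hn : ∀ v : Fˣ, h * S.nY (D.simple j) v * h⁻¹ = S.nY (D.simple j) (c * v) := by
    intro v
    rw [nY, nY, show h * (S.y (D.simple j) (v : F) * S.y (D.neg (D.simple j)) (-((v⁻¹ : Fˣ) : F)) *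
        S.y (D.simple j) (v : F)) * h⁻¹ =
      (h * S.y (g.sroot j) (v : F) * h⁻¹) *
        (h * S.y (g.nroot (g.sroot j)) (-((v⁻¹ : Fˣ) : F)) * h⁻¹) *
          (h * S.y (g.sroot j) (v : F) * h⁻¹) by
        show _ = (h * S.y (D.simple j) _ * h⁻¹) * (h * S.y (D.neg (D.simple j)) _ * h⁻¹) *
          (h * S.y (D.simple j) _ * h⁻¹)
        group, hc, hc']
    simp only [_root_.mul_inv_rev, Units.val_mul, mul_neg, neg_mul, mul_comm ((c⁻¹ : Fˣ) : F)]
    rfl
  have e : h * S.hY (D.simple j) t * h⁻¹ = S.hY (D.simple j) t := by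
    rw [hY, show h * (S.nY (D.simple j) t * S.nY (D.simple j) (-1)) * h⁻¹ =
      (h * S.nY (D.simple j) t * h⁻¹) * (h * S.nY (D.simple j) (-1) * h⁻¹) by group, hn, hn,
      mul_neg_one, ← S.nY_inv hp c, S.nY_eq hp, S.nY_eq hp c, ← h3 j c t, h3 j c t, mul_comm c t,
      ← h3 j t c]
    rw [show S.nY (D.simple j) t * S.nY (D.simple j) (-1) = S.hY (D.simple j) t from rfl]
    group
  rwa [mul_inv_eq_iff_eq_mul] at e

lemma HY_le_range (hlink : g.Linked) (h3 : S.R3) :
    ∃ Φ : (Fin D.rank → Fˣ) →* Γ, S.HY ≤ Φ.range ∧ ∀ c, S.θ (Φ c) = torHom D F c := by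
  classical
  have hone : ∀ i : Fin D.rank, S.hY (D.simple i) 1 = 1 := fun i => by
    have := h3 i 1 1
    rw [mul_one] at this
    exact mul_eq_left.1 this
  let φ : Fin D.rank → (Fˣ →* Γ) := fun i =>
    { toFun := S.hY (D.simple i)
      map_one' := hone i
      map_mul' := fun a b => (h3 i a b).symm }
  have hcomm : Pairwise fun i j => ∀ (x y : Fˣ), Commute (φ i x) (φ j y) :=
    fun i j _ x y => S.HY_comm_hY hlink h3 (S.hY_mem i x) j y
  refine ⟨MonoidHom.noncommPiCoprod φ hcomm, (Subgroup.closure_le _).2 ?_, ?_⟩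
  · rintro _ ⟨i, t, rfl⟩
    exact ⟨Pi.mulSingle i t, MonoidHom.noncommPiCoprod_mulSingle φ i t⟩
  · intro c
    have : S.θ.comp (MonoidHom.noncommPiCoprod φ hcomm) = torHom D F := by
      refine MonoidHom.pi_ext fun i t => ?_
      rw [MonoidHom.comp_apply, MonoidHom.noncommPiCoprod_mulSingle, g.torHom_single]
      exact S.θ_hY (g.simple_lt i.2) t
    exact DFunLike.congr_fun this c

/-- The map is injective when the torus of the Chevalley group is simply connected. -/
theorem ker_eq_bot (hlink : g.Linked) (h3 : S.R3) (hinj : Function.Injective (torHom D F)) :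
    S.θ.ker = ⊥ := by
  obtain ⟨Φ, hle, hθ⟩ := S.HY_le_range hlink h3
  refine (Subgroup.eq_bot_iff_forall _).2 fun z hz => ?_
  obtain ⟨c, rfl⟩ := hle (S.ker_le_HY hlink hz)
  rw [MonoidHom.mem_ker, hθ, ← map_one (torHom D F)] at hz
  rw [hinj hz, map_one]

end StData

namespace Good

variable (g : Good D)
include g

lemma torHom_injective_st {dat : LieData} (hl : LieChecks D dat)
    {P P' Q Q' : List (List ℤ)} {d : List ℕ} (h : smithOK D dat P P' Q Q' d = true)
    (hd : ∀ i : Fin D.rank, nth 0 d i = 1) : Function.Injective (torHom D F) := by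
  refine (injective_iff_map_eq_one _).2 fun c hc => ?_
  rw [g.torHom_eq_one_iff] at hc
  have hent : ∀ i j : Fin D.rank,
      cartanMat D i j = (listMat D.rank P' * listMat D.rank Q') i j ∧
      (listMat D.rank P * listMat D.rank P') i j = (1 : Matrix (Fin D.rank) (Fin D.rank) ℤ) i j ∧
      (listMat D.rank Q' * listMat D.rank Q) i j = (1 : Matrix (Fin D.rank) (Fin D.rank) ℤ) i j := by
    intro i j
    have h1 := allR_upto (allR_upto h i.2) j.2
    simp only [Bool.and_eq_true, Int.beq'_eq, mulEntry, sumUpto_eq, Finset.sum_range, fdelta_eq]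
      at h1
    obtain ⟨⟨hA, hP⟩, hQ⟩ := h1
    refine ⟨?_, ?_, ?_⟩
    · rw [cartanMat, Matrix.of_apply, (hl.simple_facts j.2).1, cartan_eq g.lie.pack i.2
        ((hl.simple_facts j.2).1 ▸ g.simple_lt j.2), hA, Matrix.mul_apply]
      exact Finset.sum_congr rfl fun k _ => by rw [hd k, Nat.cast_one, mul_one]; rfl
    · rw [Matrix.mul_apply, Matrix.one_apply]
      exact hP.trans (if_congr Fin.ext_iff.symm rfl rfl)
    · rw [Matrix.mul_apply, Matrix.one_apply]
      exact hQ.trans (if_congr Fin.ext_iff.symm rfl rfl)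
  have hA : cartanMat D = listMat D.rank P' * listMat D.rank Q' :=
    Matrix.ext fun i j => (hent i j).1
  have hP : listMat D.rank P' * listMat D.rank P = 1 :=
    mul_eq_one_comm.1 (Matrix.ext fun i j => (hent i j).2.1)
  have hQ : listMat D.rank Q' * listMat D.rank Q = 1 := Matrix.ext fun i j => (hent i j).2.2
  have e : cartanMat D * (listMat D.rank Q * listMat D.rank P) = 1 := by
    rw [hA, Matrix.mul_assoc, ← Matrix.mul_assoc (listMat D.rank Q'), hQ, Matrix.one_mul, hP]
  calc c = powMap (1 : Matrix (Fin D.rank) (Fin D.rank) ℤ) c := (powMap_one c).symm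
    _ = 1 := by rw [← e, powMap_mul, MonoidHom.comp_apply, hc, map_one]

end Good

lemma stData_R3 (g : Good D) (hc : HasComm D) : (stData g hc F).R3 := by
  intro i a b
  rw [stData_hY, stData_hY, stData_hY]
  have h := PresentedGroup.one_of_mem (rels := D.steinbergRels F)
    (show _ ∈ D.steinbergRels F from
      Or.inr ⟨D.simple i, (a : F), (b : F), g.simple_lt i.2, a.ne_zero, b.ne_zero, rfl⟩)
  rw [map_mul, map_mul, map_inv, mul_inv_eq_one] at h
  exact h

/-- For G2, F4 and E8 the map is injective. -/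
theorem stData_ker_eq_bot (hD : D ∈ [chevG2, chevF4, chevE8]) (g : Good D) (hc : HasComm D) :
    (stData g hc F).θ.ker = ⊥ := by
  have hlink : g.Linked := linked_of_mem (by
    simp only [List.mem_cons, List.not_mem_nil, or_false] at hD ⊢; tauto) g
  refine StData.ker_eq_bot _ hlink (stData_R3 g hc) ?_
  simp only [List.mem_cons, List.not_mem_nil, or_false] at hD
  rcases hD with rfl | rfl | rfl
  · exact g.torHom_injective_st checksG2 smithG2 fun i => by
      revert i; show ∀ i : Fin 2, _; decide +kernel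
  · exact g.torHom_injective_st checksF4 smithF4 fun i => by
      revert i; show ∀ i : Fin 4, _; decide +kernel
  · exact g.torHom_injective_st checksE8 smithE8 fun i => by
      revert i; show ∀ i : Fin 8, _; decide +kernel

end CfsgLib.Chev
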