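import Mathlib
import Cfsg.Agent.Lib.Chev.StTorus

/-!
The universal groups of types E6 and E7 inside the groups of types E7 and E8; the order of their centres.
-/

set_option autoImplicit false
set_option maxRecDepth 100000

namespace CfsgLib.Chev

open Cfsg.Lie

/-- A map of roots respecting negation, fundamental roots and the commutator table. -/
noncomputable def embOK (D D' : ChevalleyDatum) (dat dat' : LieData) (l : List ℕ) : Bool :=
  allR (fun r => Nat.blt (nth 0 l r) D'.nroots &&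
    Nat.beq (nth 0 l (fneg D r)) (fneg D' (nth 0 l r)) &&
    allR (fun s => Nat.beq s r || Nat.beq s (fneg D r) ||
      (!Nat.beq (nth 0 l s) (nth 0 l r) && !Nat.beq (nth 0 l s) (fneg D' (nth 0 l r)) &&
      decide (fterms D' (nth 0 l r) (nth 0 l s) =
        (fterms D r s).map fun c => (nth 0 l c.1, c.2)))) (upto D.nroots)) (upto D.nroots) &&
  Nat.ble D.rank D'.rank &&
  allR (fun i => Nat.beq (nth 0 l (fsimple dat i)) (fsimple dat' i)) (upto D.rank)

/-- A right inverse of the first rows of the Cartan matrix. -/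
noncomputable def rinvOK (n : ℕ) (D' : ChevalleyDatum) (dat' : LieData) (M : List (List ℤ)) : Bool :=
  allR (fun i => allR (fun j =>
    Int.beq' (sumUpto D'.rank fun k => fcartan D' i (fsimple dat' k) * nth 0 (nth [] M k) j)
      (fdelta i j)) (upto n)) (upto n)

variable {D D' : ChevalleyDatum} {F : Type*} [Field F]

/-- Extend by ones. -/
noncomputable def extOne (D D' : ChevalleyDatum) (G : Type*) [CommGroup G] :
    (Fin D.rank → G) →* (Fin D'.rank → G) where
  toFun c j := if h : (j : ℕ) < D.rank then c ⟨j, h⟩ else 1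
  map_one' := by funext j; by_cases h : (j : ℕ) < D.rank <;> simp [h]
  map_mul' c d := by funext j; by_cases h : (j : ℕ) < D.rank <;> simp [h]

lemma StData.exists_torus_hom {g : Good D} {Γ : Type*} [Group Γ] (S : StData g F Γ)
    (hlink : g.Linked) (h3 : S.R3) :
    ∃ Φ : (Fin D.rank → Fˣ) →* Γ, S.HY ≤ Φ.range ∧ (∀ c, S.θ (Φ c) = torHom D F c) ∧
      ∀ i t, Φ (Pi.mulSingle i t) = S.hY (D.simple i) t := by
  classical
  have hone : ∀ i : Fin D.rank, S.hY (D.simple i) 1 = 1 := fun i => by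
    have := h3 i 1 1
    rw [mul_one] at this
    exact mul_eq_left.1 this
  let φ : Fin D.rank → (Fˣ →* Γ) := fun i =>
    { toFun := S.hY (D.simple i)
      map_one' := hone i
      map_mul' := fun a b => (h3 i a b).symm }
  have hcomm : Pairwise fun i j => ∀ (x y : Fˣ), Commute (φ i x) (φ j y) :=
    fun i j _ x y => S.HY_comm_hY hlink h3 (S.hY_mem i x) j y
  refine ⟨MonoidHom.noncommPiCoprod φ hcomm, (Subgroup.closure_le _).2 ?_, fun c => ?_,
    fun i t => MonoidHom.noncommPiCoprod_mulSingle φ i t⟩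
  · rintro _ ⟨i, t, rfl⟩
    exact ⟨Pi.mulSingle i t, MonoidHom.noncommPiCoprod_mulSingle φ i t⟩
  · have : S.θ.comp (MonoidHom.noncommPiCoprod φ hcomm) = torHom D F := by
      refine MonoidHom.pi_ext fun i t => ?_
      rw [MonoidHom.comp_apply, MonoidHom.noncommPiCoprod_mulSingle, g.torHom_single]
      exact S.θ_hY (g.simple_lt i.2) t
    exact DFunLike.congr_fun this c

theorem st_card_center [Fintype F] (g : Good D) (g' : Good D') (hc : HasComm D) (hc' : HasComm D')
    (hlink : g.Linked) {dat dat' : LieData} (hl : LieChecks D dat) (hl' : LieChecks D' dat')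
    {l : List ℕ} (hemb : embOK D D' dat dat' l = true) {M : List (List ℤ)}
    (hM : rinvOK D.rank D' dat' M = true) :
    Nat.card (Subgroup.center (D.SteinbergGroup F)) * Nat.card (D.diagonalSubgroup F) =
      (Fintype.card F - 1) ^ D.rank := by
  classical
  simp only [embOK, Bool.and_eq_true] at hemb
  obtain ⟨⟨hroot, hrank⟩, hsimp⟩ := hemb
  rw [Nat.ble_eq] at hrank
  let ι : ℕ → ℕ := fun r => nth 0 l r
  have hfacts : ∀ r < D.nroots, ι r < D'.nroots ∧ ι (D.neg r) = D'.neg (ι r) ∧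
      ∀ s < D.nroots, s ≠ r → s ≠ D.neg r → ι s ≠ ι r ∧ ι s ≠ D'.neg (ι r) ∧
        D'.commTerms (ι r) (ι s) = (D.commTerms r s).map fun c => (ι c.1, c.2) := by
    intro r hr
    have h1 := allR_upto hroot hr
    simp only [Bool.and_eq_true, Nat.blt_eq, Nat.beq_eq] at h1
    obtain ⟨⟨h1, h2⟩, h3⟩ := h1
    refine ⟨h1, by rw [neg_eq hl.pack hr, neg_eq hl'.pack h1]; exact h2, fun s hs hsr hneg => ?_⟩
    have h4 := allR_upto h3 hs
    simp only [Bool.or_eq_true, Bool.and_eq_true, Bool.not_eq_true', ← Bool.not_eq_true,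
      Nat.beq_eq, decide_eq_true_eq] at h4
    rw [neg_eq hl.pack hr] at hneg
    rcases h4 with (h4 | h4) | ⟨⟨h5, h6⟩, h7⟩
    · exact absurd h4 hsr
    · exact absurd h4 hneg
    · have hs' : ι s < D'.nroots := by
        have := allR_upto hroot hs
        simp only [Bool.and_eq_true, Nat.blt_eq] at this
        exact this.1.1
      refine ⟨h5, by rw [neg_eq hl'.pack h1]; exact h6, ?_⟩
      rw [← g'.fterms_eq h1 hs', ← g.fterms_eq hr hs]
      exact h7
  let f : Fin D.nroots × F → GL D'.Idx F := fun p => g'.xG (ι p.1) p.2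
  have hX : ∀ r < D.nroots, ∀ t : F, FreeGroup.lift f (D.stX r t) = g'.xG (ι r) t := by
    intro r hr t
    rw [ChevalleyDatum.stX, dif_pos hr, FreeGroup.lift_apply_of]
  have hW : ∀ w : List (ℕ × F), (∀ p ∈ w, p.1 < D.nroots) →
      FreeGroup.lift f (D.stWord w) = (w.map fun p => g'.xG (ι p.1) p.2).prod := by
    intro w hw
    rw [ChevalleyDatum.stWord, map_list_prod, List.map_map]
    exact congrArg List.prod (List.map_congr_left fun p hp => hX p.1 (hw p hp) p.2)
  have hH : ∀ r, r < D.nroots → ∀ (t : F) (ht : t ≠ 0),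
      FreeGroup.lift f (D.stH r t) = g'.hG (ι r) (Units.mk0 t ht) := by
    intro r hr t ht
    obtain ⟨h1, h2, -⟩ := hfacts r hr
    rw [ChevalleyDatum.stH, hW, g'.hG_eq h1, Good.nG, Good.nG]
    · simp [ChevalleyDatum.hWord, ChevalleyDatum.nWord, h2, mul_assoc]
    · intro p hp
      have hn := g.neg_lt hr
      simp only [ChevalleyDatum.hWord, ChevalleyDatum.nWord, List.cons_append, List.nil_append,
        List.mem_cons, List.not_mem_nil, or_false] at hp
      rcases hp with rfl | rfl | rfl | rfl | rfl | rfl <;> assumption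
  have hrel : ∀ x ∈ D.steinbergRels F, FreeGroup.lift f x = 1 := by
    rintro x ((⟨r, a, b, hr, rfl⟩ | ⟨r, s, t, u, hr, hs, hsr, hneg, rfl⟩) |
      ⟨r, a, b, hr, ha, hb, rfl⟩)
    · rw [map_mul, map_mul, map_inv, hX r hr, hX r hr, hX r hr, g'.xG_add, mul_inv_cancel]
    · obtain ⟨h1, -, h3⟩ := hfacts r hr
      obtain ⟨h4, h5, h6⟩ := h3 s hs hsr hneg
      rw [map_mul, map_mul, map_mul, map_mul, map_inv, map_inv, map_inv, hX r hr, hX s hs,
        hW _ (g.commWord_lt hc hr hs t u), g'.commG hc' h1 (hfacts s hs).1 h4 h5, mul_inv_eq_one,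
        ChevalleyDatum.commWord, ChevalleyDatum.commWord, h6, List.map_map, List.map_map,
        List.map_map]
      rfl
    · rw [map_mul, map_mul, map_inv, hH r hr a ha, hH r hr b hb, hH r hr _ (mul_ne_zero ha hb),
        ← map_mul, show Units.mk0 (a * b) (mul_ne_zero ha hb) = Units.mk0 a ha * Units.mk0 b hb
          from Units.ext rfl, mul_inv_cancel]
  let ψ : D.SteinbergGroup F →* GL D'.Idx F := PresentedGroup.toGroup hrel
  set S := stData g hc F
  obtain ⟨Φ, hle, hθ, hΦs⟩ := S.exists_torus_hom hlink (stData_R3 g hc)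
  -- the map on the torus, through the fundamental roots
  have hsi : ∀ i : Fin D.rank, ι (D.simple i) = D'.simple i := by
    intro i
    have h := allR_upto hsimp i.2
    rw [Nat.beq_eq] at h
    rw [(hl.simple_facts i.2).1, (hl'.simple_facts (lt_of_lt_of_le i.2 hrank)).1]
    exact h
  have hhY : ∀ (i : Fin D.rank) (t : Fˣ), ψ (S.hY (D.simple i) t) = g'.hG (D'.simple i) t := by
    intro i t
    rw [stData_hY, ← hsi i]
    have := hH (D.simple i) (g.simple_lt i.2) (t : F) t.ne_zero
    rw [Units.mk0_val] at this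
    exact this
  have hΦinj : Function.Injective Φ := by
    refine (injective_iff_map_eq_one _).2 fun c hc1 => ?_
    -- on the generators `Φ` is `c ↦ h_i(c)`
    obtain ⟨Ψ, hΨ⟩ : ∃ Ψ : (Fin D.rank → Fˣ) →* GL D'.Idx F,
        Ψ = (torHom D' F).comp (extOne D D' Fˣ) := ⟨_, rfl⟩
    have hΦΨ : ψ (Φ c) = Ψ c := by
      suffices ψ.comp Φ = Ψ from DFunLike.congr_fun this c
      refine MonoidHom.pi_ext fun i t => ?_
      rw [MonoidHom.comp_apply, hΦs i t, hhY, hΨ, MonoidHom.comp_apply, ← g'.torHom_single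
        (⟨i, lt_of_lt_of_le i.2 hrank⟩ : Fin D'.rank)]
      congr 1
      funext j
      show (Pi.mulSingle (⟨i, lt_of_lt_of_le i.2 hrank⟩ : Fin D'.rank) t : Fin D'.rank → Fˣ) j =
        if h : (j : ℕ) < D.rank then (Pi.mulSingle i t : Fin D.rank → Fˣ) ⟨j, h⟩ else 1
      by_cases hj : (j : ℕ) < D.rank
      · rw [dif_pos hj]
        by_cases hji : (j : ℕ) = i
        · obtain rfl : j = ⟨i, lt_of_lt_of_le i.2 hrank⟩ := Fin.ext hji
          rw [Pi.mulSingle_eq_same]
          exact (Pi.mulSingle_eq_same (M := fun _ : Fin D.rank => Fˣ) i t).symm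
        · rw [Pi.mulSingle_eq_of_ne (fun h => hji (congrArg Fin.val h)),
            Pi.mulSingle_eq_of_ne (fun h => hji (congrArg Fin.val h))]
      · rw [dif_neg hj, Pi.mulSingle_eq_of_ne]
        intro h; exact hj (h ▸ i.2)
    rw [hc1, map_one, hΨ, MonoidHom.comp_apply] at hΦΨ
    have hp := (g'.torHom_eq_one_iff _).1 hΦΨ.symm
    set c' := extOne D D' Fˣ c
    let M' : Matrix (Fin D'.rank) (Fin D'.rank) ℤ := Matrix.of fun k j =>
      if (j : ℕ) < D.rank then nth 0 (nth [] M k) j else 0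
    have hAM : ∀ (i j : Fin D'.rank), (i : ℕ) < D.rank → (j : ℕ) < D.rank →
        (cartanMat D' * M') i j = if i = j then 1 else 0 := by
      intro i j hi hj
      have h := allR_upto (allR_upto hM hi) hj
      rw [Int.beq'_eq, sumUpto_eq, Finset.sum_range, fdelta_eq] at h
      rw [Matrix.mul_apply]
      refine Eq.trans (Finset.sum_congr rfl fun k _ => ?_) (h.trans (if_congr Fin.ext_iff.symm rfl rfl))
      rw [cartanMat, Matrix.of_apply, (hl'.simple_facts k.2).1, cartan_eq g'.lie.pack i.2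
        ((hl'.simple_facts k.2).1 ▸ g'.simple_lt k.2)]
      simp only [M', Matrix.of_apply, if_pos hj]
    funext i
    have h1 := congrFun (show powMap (cartanMat D' * M') c' = 1 by
      rw [powMap_mul, MonoidHom.comp_apply, hp, map_one]) ⟨i, lt_of_lt_of_le i.2 hrank⟩
    rw [powMap_apply, Finset.prod_eq_single (⟨i, lt_of_lt_of_le i.2 hrank⟩ : Fin D'.rank)] at h1
    · rw [hAM _ _ i.2 i.2, if_pos rfl, zpow_one] at h1
      exact (show c' ⟨i, lt_of_lt_of_le i.2 hrank⟩ = c i from dif_pos i.2) ▸ h1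
    · intro k _ hk
      by_cases hkn : (k : ℕ) < D.rank
      · rw [hAM k _ hkn i.2, if_neg hk, zpow_zero]
      · rw [show c' k = 1 from dif_neg hkn, _root_.one_zpow]
    · simp
  have hcen : Subgroup.center (D.SteinbergGroup F) = (torHom D F).ker.map Φ := by
    rw [← S.ker_eq_center hlink, S.θG_ker]
    refine le_antisymm (fun z hz => ?_) ?_
    · obtain ⟨c, rfl⟩ := hle (S.ker_le_HY hlink hz)
      exact ⟨c, by rwa [SetLike.mem_coe, MonoidHom.mem_ker, ← hθ, ← MonoidHom.mem_ker], rfl⟩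
    · rintro _ ⟨c, hc1, rfl⟩
      rw [MonoidHom.mem_ker, hθ]
      exact hc1
  rw [hcen, Subgroup.card_map_of_injective hΦinj]
  have h2 := Subgroup.card_eq_card_quotient_mul_card_subgroup (torHom D F).ker
  rw [Nat.card_congr (QuotientGroup.quotientKerEquivRange (torHom D F)).toEquiv,
    ← g.diagonal_eq_range, Nat.card_fun, Nat.card_units, Nat.card_eq_fintype_card (α := F),
    Nat.card_eq_fintype_card (α := Fin D.rank), Fintype.card_fin] at h2
  rw [h2, mul_comm]

theorem embE6E7 : embOK chevE6 chevE7 dataE6 dataE7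
    [6, 10, 13, 15, 16, 19, 21, 22, 24, 25, 26, 28, 29, 30, 31, 32, 35, 37, 38, 40, 41, 42, 44, 45, 46, 47, 49, 50, 51, 52, 54, 55, 56, 58, 59, 61, 64, 66, 67, 69, 70, 71, 73, 74, 75, 76, 78, 79, 80, 81, 83, 84, 85, 87, 88, 90, 93, 94, 95, 96, 97, 99, 100, 101, 103, 104, 106, 109, 110, 112, 115, 119] = true := by
  decide +kernel

theorem embE7E8 : embOK chevE7 chevE8 dataE7 dataE8
    [13, 20, 25, 29, 32, 34, 35, 39, 42, 44, 45, 48, 50, 51, 53, 54, 55, 58, 60, 61, 63, 64, 65, 67, 68, 69, 70, 72, 73, 74, 75, 76, 77, 80, 82, 83, 85, 86, 87, 89, 90, 91, 92, 94, 95, 96, 97, 98, 100, 101, 102, 103, 104, 106, 107, 108, 109, 111, 112, 113, 115, 116, 118, 121, 123, 124, 126, 127, 128, 130, 131, 132, 133, 135, 136, 137, 138, 139, 141, 142, 143, 144, 145, 147, 148, 149, 150, 152, 153, 154, 156, 157, 159, 162, 163, 164, 165, 166, 167, 169, 170, 171, 172, 174, 175, 176, 178, 179, 181, 184, 185, 186, 188, 189, 191, 194, 195, 197, 200, 204, 205, 207, 210, 214, 219, 226] = true :=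 by
  decide +kernel

theorem rinvE6E7 : rinvOK chevE6.rank chevE7 dataE7
    [[0, -1, 1, 2, 0, 0], [-1, -1, 1, 3, 0, 0], [-1, -2, 2, 4, 0, 0], [-2, -3, 2, 6, 0, 0],
      [-2, -3, 1, 4, 0, 0], [-2, -3, 0, 2, -1, 0], [-2, -3, -1, 0, -2, -1]] = true := by
  decide +kernel

theorem rinvE7E8 : rinvOK chevE7.rank chevE8 dataE8
    [[-2, -1, 1, 4, 2, 0, -2], [-4, -1, 1, 6, 3, 0, -3], [-5, -2, 2, 8, 4, 0, -4],
      [-8, -3, 2, 12, 6, 0, -6], [-7, -3, 1, 9, 5, 0, -5], [-6, -3, 0, 6, 3, 0, -4],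
      [-5, -3, -1, 3, 1, -1, -3], [-4, -3, -2, 0, -1, -2, -3]] = true := by
  decide +kernel

theorem st_card_centerE6 (F : Type*) [Field F] [Fintype F] :
    Nat.card (Subgroup.center (chevE6.SteinbergGroup F)) = Nat.gcd 3 (Fintype.card F - 1) := by
  have h := st_card_center (F := F) goodE6 goodE7 (hasComm_of_mem (by simp)) (hasComm_of_mem (by simp))
    (linked_of_mem (by simp) _) checksE6 checksE7 embE6E7 rinvE6E7
  rw [← card_diagonalE6] at h
  rw [Nat.gcd_comm]
  exact Nat.eq_of_mul_eq_mul_right Nat.card_pos h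

theorem st_card_centerE7 (F : Type*) [Field F] [Fintype F] :
    Nat.card (Subgroup.center (chevE7.SteinbergGroup F)) = Nat.gcd 2 (Fintype.card F - 1) := by
  have h := st_card_center (F := F) goodE7 goodE8 (hasComm_of_mem (by simp)) (hasComm_of_mem (by simp))
    (linked_of_mem (by simp) _) checksE7 checksE8 embE7E8 rinvE7E8
  rw [← card_diagonalE7] at h
  rw [Nat.gcd_comm]
  exact Nat.eq_of_mul_eq_mul_right Nat.card_pos h

end CfsgLib.Chev
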