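import Cfsg.Agent.Lib.Chev.SigmaIso
import Cfsg.Agent.Lib.Chev.Good
import Cfsg.Agent.Lib.Chev.CommGood
import Cfsg.Agent.Lib.Chev.SimpleTables

/-!
The exceptional isogenies of B2, F4 and G2.
-/

set_option autoImplicit false
set_option maxRecDepth 100000

namespace CfsgLib.Chev

open Cfsg.Lie

/-- The symmetry of the roots of F4 exchanging lengths. -/
def rhoIsoF4 : RhoData := ⟨[3, 7, 8, 0, 9, 11, 18, 1, 2, 4, 15, 5, 16, 21, 23, 10, 12, 19, 6, 17, 22, 13, 20, 14, 33, 27, 34, 25, 30, 41, 28, 35, 37, 24, 26, 31, 42, 32, 43, 45, 46, 29, 36, 38, 47, 39, 40, 44], [3, 7, 8, 0, 9, 11, 18, 1, 2, 4, 15, 5, 16, 21, 23, 10, 12, 19, 6, 17, 22, 13, 20, 14, 33, 27, 34, 25, 30, 41, 28, 35, 37, 24, 26, 31, 42, 32, 43, 45, 46, 29, 36, 38, 47, 39, 40, 44], [3, 2, 1, 0], [3, 2, 1, 0]⟩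

/-- The exceptional isogeny of F4. -/
def isoF4 : IsoData where
  p := 2
  lam := [1, 1, 1, 2, 1, 1, 1, 2, 2, 2, 2, 2, 2, 2, 2, 1, 1, 1, 2, 2, 2, 1, 1, 1, 1, 1, 1, 2, 2, 2, 1, 1, 1, 2, 2, 2, 2, 2, 2, 2, 2, 1, 1, 1, 2, 1, 1, 1]
  sub := [0, 1, 7, 11, 12, 13, 14, 15, 16, 17, 18, 22, 23, 24, 31, 32, 33, 37, 38, 39, 40, 41, 42, 43, 44, 48]
  top := 48
  mover := (0, 22)

theorem rhoIsoF4_ok : rhoOK chevF4 dataF4 sdataF4 rhoIsoF4 = true := by decide +kernel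

theorem isoF4_ok : isoOK chevF4 rhoIsoF4 isoF4 = true := by decide +kernel

/-- The isogeny of F4. -/
theorem exists_isogenyF4 (F : Type*) [Field F] [CharP F 2] :
    ∃ σ : ↥(chevF4.group F) →* ↥(chevF4.group F), Function.Injective σ ∧
      ∀ (s : Fin chevF4.nroots) (t : F),
        (σ ⟨goodF4.xG s t, goodF4.xG_mem_group s.2 t⟩ : GL chevF4.Idx F) =
          goodF4.xG ((rootSymOf goodF4 checksF4 structChecksF4 rhoIsoF4_ok).ρ s)
            (t ^ nth 0 isoF4.lam s) :=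
  haveI : CharP F isoF4.p := ‹CharP F 2›
  exists_isogeny goodF4 (hasComm_of_mem (by simp)) (dynkinConn_of_mem (by simp)) checksF4
    structChecksF4 rhoIsoF4_ok isoF4_ok F (by decide)

/-- The symmetry of the roots of G2 exchanging lengths. -/
def rhoIsoG2 : RhoData := ⟨[2, 3, 0, 1, 5, 4, 7, 6, 10, 11, 8, 9], [2, 3, 0, 1, 5, 4, 7, 6, 10, 11, 8, 9], [1, 0], [1, 0]⟩

/-- The exceptional isogeny of G2. -/
def isoG2 : IsoData where
  p := 3
  lam := [1, 1, 3, 3, 3, 1, 1, 3, 3, 3, 1, 1]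
  sub := [0, 4, 5, 6, 9, 10, 11]
  top := 11
  mover := (0, 5)

theorem rhoIsoG2_ok : rhoOK chevG2 dataG2 sdataG2 rhoIsoG2 = true := by decide +kernel

theorem isoG2_ok : isoOK chevG2 rhoIsoG2 isoG2 = true := by decide +kernel

/-- The isogeny of G2. -/
theorem exists_isogenyG2 (F : Type*) [Field F] [CharP F 3] :
    ∃ σ : ↥(chevG2.group F) →* ↥(chevG2.group F), Function.Injective σ ∧
      ∀ (s : Fin chevG2.nroots) (t : F),
        (σ ⟨goodG2.xG s t, goodG2.xG_mem_group s.2 t⟩ : GL chevG2.Idx F) =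
          goodG2.xG ((rootSymOf goodG2 checksG2 structChecksG2 rhoIsoG2_ok).ρ s)
            (t ^ nth 0 isoG2.lam s) :=
  haveI : CharP F isoG2.p := ‹CharP F 3›
  exists_isogeny goodG2 (hasComm_of_mem (by simp)) (dynkinConn_of_mem (by simp)) checksG2
    structChecksG2 rhoIsoG2_ok isoG2_ok F (by decide)

/-- The symmetry of the roots of B2 exchanging lengths. -/
def rhoIsoB2 : RhoData := ⟨[1, 0, 3, 2, 5, 4, 7, 6], [1, 0, 3, 2, 5, 4, 7, 6], [1, 0], [1, 0]⟩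

/-- The exceptional isogeny of B2. -/
def isoB2 : IsoData where
  p := 2
  lam := [1, 2, 2, 1, 1, 2, 2, 1]
  sub := [0, 3, 4, 7, 8]
  top := 8
  mover := (0, 4)

theorem rhoIsoB2_ok : rhoOK chevB2 dataB2 sdataB2 rhoIsoB2 = true := by decide +kernel

theorem isoB2_ok : isoOK chevB2 rhoIsoB2 isoB2 = true := by decide +kernel

/-- The isogeny of B2. -/
theorem exists_isogenyB2 (F : Type*) [Field F] [CharP F 2] :
    ∃ σ : ↥(chevB2.group F) →* ↥(chevB2.group F), Function.Injective σ ∧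
      ∀ (s : Fin chevB2.nroots) (t : F),
        (σ ⟨goodB2.xG s t, goodB2.xG_mem_group s.2 t⟩ : GL chevB2.Idx F) =
          goodB2.xG ((rootSymOf goodB2 checksB2 structChecksB2 rhoIsoB2_ok).ρ s)
            (t ^ nth 0 isoB2.lam s) :=
  haveI : CharP F isoB2.p := ‹CharP F 2›
  exists_isogeny goodB2 (hasComm_of_mem (by simp)) (dynkinConn_of_mem (by simp)) checksB2
    structChecksB2 rhoIsoB2_ok isoB2_ok F (by decide)

end CfsgLib.Chev
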