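import Mathlib
import Cfsg.Agent.Lib.Chev.TorusH
import Cfsg.Agent.Lib.Chev.Monomial

/-!
Equations between words in root elements with prime-field parameters, by computation on columns.
-/

set_option autoImplicit false

namespace CfsgLib.Chev

open Cfsg.Lie Matrix

variable (D : ChevalleyDatum)

/-- Reduce a sparse vector modulo `p`. -/
noncomputable def normP (p : ℕ) (v : SVec) : SVec :=
  List.rec [] (fun i _ ih => bif Int.beq' (coef v i % (p : ℤ)) 0 then ih
    else (i, coef v i % (p : ℤ)) :: ih) (upto (D.rank + D.nroots))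

/-- Apply `x_r(c)` and reduce modulo `p`. -/
noncomputable def appP (p r : ℕ) (c : ℤ) (v : SVec) : SVec :=
  normP D p (appR v (appR (sapp (fcol D r 1) (vsmul c v))
    (appR (sapp (fcol D r 2) (vsmul (c * c) v)) (sapp (fcol D r 3) (vsmul (c * c * c) v)))))

/-- Apply a word. -/
noncomputable def wordP (p : ℕ) (w : List (ℕ × ℤ)) (v : SVec) : SVec :=
  List.rec v (fun a _ ih => appP D p a.1 a.2 ih) w

/-- Two words are equal modulo `p`. -/
noncomputable def wordModEq (p : ℕ) (w₁ w₂ : List (ℕ × ℤ)) : Bool :=
  allR (fun a : ℕ × ℤ => Nat.blt a.1 D.nroots) (appR w₁ w₂) &&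
  allR (fun j =>
    vEq (normP D p (wordP D p w₁ [(j, 1)])) (normP D p (wordP D p w₂ [(j, 1)])))
    (upto (D.rank + D.nroots))

/-- The word of a product of the representatives of the fundamental reflections. -/
noncomputable def nWordZ (dat : LieData) (l : List ℕ) : List (ℕ × ℤ) :=
  List.rec [] (fun i _ ih => (fsimple dat i, 1) :: (fneg D (fsimple dat i), -1) ::
    (fsimple dat i, 1) :: ih) l

variable {D}
variable {F : Type*} [Field F]

/-- The value of a sparse vector. -/
noncomputable def svecVal (D : ChevalleyDatum) (F : Type*) [Field F] (v : SVec) : D.Idx → F :=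
  fun a => (coef v (ix D a) : F)

lemma normP_eq (p : ℕ) (v : SVec) : normP D p v =
    ((List.range (D.rank + D.nroots)).filter fun i => !decide (coef v i % (p : ℤ) = 0)).map
      fun i => (i, coef v i % (p : ℤ)) := by
  rw [normP, upto_eq]
  induction List.range (D.rank + D.nroots) with
  | nil => rfl
  | cons a l ih =>
    show (bif _ then _ else _) = _
    rw [ih]
    by_cases h : coef v a % (p : ℤ) = 0
    · rw [show Int.beq' (coef v a % (p : ℤ)) 0 = true by rw [Int.beq'_eq]; exact h,
        List.filter_cons_of_neg (by simp only [h, decide_true, Bool.not_true]; exact Bool.false_ne_true)]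
      rfl
    · rw [show Int.beq' (coef v a % (p : ℤ)) 0 = false by
        rw [← Bool.not_eq_true, Int.beq'_eq]; exact h,
        List.filter_cons_of_pos (by simp only [decide_eq_false h, Bool.not_false]), List.map_cons]
      rfl

lemma normP_range (p : ℕ) (v : SVec) : ∀ q ∈ normP D p v, q.1 ∈ Set.range (ix D) := by
  intro q hq
  rw [normP_eq, List.mem_map] at hq
  obtain ⟨i, hi, rfl⟩ := hq
  rw [List.mem_filter, List.mem_range] at hi
  exact mem_range_ix D hi.1

lemma coef_map_pair (f : ℕ → ℤ) : ∀ l : List ℕ, l.Nodup → ∀ i,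
    coef (l.map fun j => (j, f j)) i = if i ∈ l then f i else 0 := by
  intro l
  induction l with
  | nil => intro _ i; simp [coef_nil]
  | cons a l ih =>
    intro hnd i
    rw [List.nodup_cons] at hnd
    rw [List.map_cons, coef_cons, ih hnd.2]
    by_cases h : a = i
    · subst h; simp [hnd.1]
    · simp [h, Ne.symm h]

lemma svecVal_normP {p : ℕ} [CharP F p] (v : SVec) : svecVal D F (normP D p v) = svecVal D F v := by
  funext a
  have ha : ix D a < D.rank + D.nroots := by
    rcases a with a | a
    · simp only [ix_inl]; omega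
    · simp only [ix_inr]; omega
  have hmod : ((coef v (ix D a) % (p : ℤ) : ℤ) : F) = (coef v (ix D a) : F) := by
    rw [Int.emod_def, Int.cast_sub, Int.cast_mul, Int.cast_natCast, CharP.cast_eq_zero F p,
      zero_mul, sub_zero]
  simp only [svecVal]
  rw [normP_eq, coef_map_pair _ _ (List.nodup_range.filter _)]
  simp only [List.mem_filter, List.mem_range, ha, true_and, Bool.not_eq_true', decide_eq_false_iff_not]
  by_cases h : coef v (ix D a) % (p : ℤ) = 0
  · rw [if_neg (not_not.2 h), ← hmod, h]
  · rw [if_pos h, hmod]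

lemma svecVal_append (u v : SVec) : svecVal D F (appR u v) = svecVal D F u + svecVal D F v := by
  funext a
  simp [svecVal, appR_eq, coef_append]

lemma svecVal_sapp {dat : LieData} (hl : LieChecks D dat) {r : ℕ} (hr : r < D.nroots) {k : ℕ}
    (hk : k ∈ [1, 2, 3]) (c : ℤ) (v : SVec) (hv : ∀ q ∈ v, q.1 ∈ Set.range (ix D)) :
    svecVal D F (sapp (fcol D r k) (vsmul c v)) = (c : F) • (amat D F r k *ᵥ svecVal D F v) := by
  funext a
  have hsum : (∑ b : D.Idx, coef v (ix D b) * (c * coef (fcol D r k (ix D b)) (ix D a))) =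
      (v.map fun q => q.2 * (c * coef (fcol D r k q.1) (ix D a))).sum :=
    sum_coef_mul (ix D) (ix_injective D) v hv fun x => c * coef (fcol D r k x) (ix D a)
  have e : coef (sapp (fcol D r k) (vsmul c v)) (ix D a) =
      (v.map fun q => q.2 * (c * coef (fcol D r k q.1) (ix D a))).sum := by
    rw [coef_sapp]
    clear hsum hv
    induction v with
    | nil => rfl
    | cons q v ih =>
      show (List.map _ ((q.1, c * q.2) :: vsmul c v)).sum = _
      rw [List.map_cons, List.sum_cons, ih, List.map_cons, List.sum_cons]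
      ring
  simp only [svecVal, e, ← hsum, Pi.smul_apply, smul_eq_mul, Matrix.mulVec, dotProduct, amat,
    Matrix.map_apply, Finset.mul_sum, Int.cast_sum, Int.cast_mul, hl.rmat_apply hr hk]
  exact Finset.sum_congr rfl fun b _ => by ring

lemma appP_spec {p : ℕ} [CharP F p] {dat : LieData} (hl : LieChecks D dat) {r : ℕ}
    (hr : r < D.nroots) (c : ℤ) (v : SVec) (hv : ∀ q ∈ v, q.1 ∈ Set.range (ix D)) :
    svecVal D F (appP D p r c v) = xr D F r (c : F) *ᵥ svecVal D F v := by
  rw [appP, svecVal_normP, svecVal_append, svecVal_append, svecVal_append,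
    svecVal_sapp hl hr (by simp) c v hv, svecVal_sapp hl hr (by simp) (c * c) v hv,
    svecVal_sapp hl hr (by simp) (c * c * c) v hv, xr]
  simp only [Matrix.add_mulVec, Matrix.one_mulVec, Matrix.smul_mulVec, Int.cast_mul]
  funext a
  simp only [Pi.add_apply, Pi.smul_apply, smul_eq_mul]
  ring

namespace Good

variable (g : Good D)
include g

lemma wordP_spec {p : ℕ} [CharP F p] (w : List (ℕ × ℤ)) (hw : ∀ a ∈ w, a.1 < D.nroots) (v : SVec)
    (hv : ∀ q ∈ v, q.1 ∈ Set.range (ix D)) :
    (∀ q ∈ wordP D p w v, q.1 ∈ Set.range (ix D)) ∧ svecVal D F (wordP D p w v) =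
      (((w.map fun a => g.xG a.1 (a.2 : F)).prod : GL D.Idx F) : Matrix D.Idx D.Idx F) *ᵥ
        svecVal D F v := by
  induction w with
  | nil => exact ⟨hv, by simp [wordP]⟩
  | cons a w ih =>
    obtain ⟨h1, h2⟩ := ih fun b hb => hw b (List.mem_cons_of_mem _ hb)
    refine ⟨normP_range _ _, ?_⟩
    show svecVal D F (appP D p a.1 a.2 (wordP D p w v)) = _
    rw [appP_spec g.lie (hw a (by simp)) _ _ h1, h2, List.map_cons, List.prod_cons, Units.val_mul,
      ← Matrix.mulVec_mulVec, g.coe_xG, g.x_eq_xr (hw a (by simp))]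

/-- Words with equal tables are equal. -/
theorem word_eq_of_modEq {p : ℕ} [CharP F p] {w₁ w₂ : List (ℕ × ℤ)}
    (h : wordModEq D p w₁ w₂ = true) :
    (w₁.map fun a => g.xG a.1 (a.2 : F)).prod = (w₂.map fun a => g.xG a.1 (a.2 : F)).prod := by
  rw [wordModEq, Bool.and_eq_true] at h
  have hlt : ∀ a ∈ w₁ ++ w₂, a.1 < D.nroots := fun a ha =>
    Nat.blt_eq.mp (allR_true h.1 (appR_eq w₁ w₂ ▸ ha))
  refine Units.ext (Matrix.ext fun a b => ?_)
  have hb : ix D b < D.rank + D.nroots := by
    rcases b with b | b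
    · simp only [ix_inl]; omega
    · simp only [ix_inr]; omega
  have hv : ∀ q ∈ ([(ix D b, 1)] : SVec), q.1 ∈ Set.range (ix D) := fun q hq => by
    rw [List.mem_singleton] at hq
    exact hq ▸ ⟨b, rfl⟩
  have hsingle : svecVal D F [(ix D b, 1)] = Pi.single b 1 := by
    funext c
    by_cases hc : c = b
    · subst hc; simp [svecVal, coef_cons, coef_nil]
    · have hne : ix D b ≠ ix D c := fun e => hc (ix_injective D e).symm
      simp [svecVal, coef_cons, coef_nil, hne, hc]
  have e1 := (g.wordP_spec (F := F) (p := p) w₁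
    (fun x hx => hlt x (List.mem_append_left _ hx)) _ hv).2
  have e2 := (g.wordP_spec (F := F) (p := p) w₂
    (fun x hx => hlt x (List.mem_append_right _ hx)) _ hv).2
  have e3 : svecVal D F (wordP D p w₁ [(ix D b, 1)]) = svecVal D F (wordP D p w₂ [(ix D b, 1)]) := by
    rw [← svecVal_normP (p := p), ← svecVal_normP (p := p) (wordP D p w₂ _)]
    funext c
    exact congrArg (Int.cast : ℤ → F) (vEq_sound (allR_upto h.2 hb) (ix D c))
  rw [hsingle, Matrix.mulVec_single_one] at e1 e2
  exact congrFun ((e1.symm.trans e3).trans e2) a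

/-- The product of representatives as a word. -/
lemma wordN_eq_word {dat : LieData} (hl : LieChecks D dat) (l : List (Fin D.rank)) :
    g.wordN (F := F) l = ((nWordZ D dat (l.map Fin.val)).map fun a => g.xG a.1 (a.2 : F)).prod := by
  induction l with
  | nil => rfl
  | cons i l ih =>
    rw [g.wordN_cons, ih]
    show _ = ((_ :: _ :: _ :: nWordZ D dat (l.map Fin.val)).map _).prod
    simp only [List.map_cons, List.prod_cons]
    rw [Good.nI, Good.nG, neg_eq g.lie.pack (g.simple_lt i.2), (hl.simple_facts i.2).1]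
    simp [mul_assoc]

end Good

end CfsgLib.Chev
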