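import Mathlib
import Cfsg.Prelude.Def_ChevWords
import Cfsg.Agent.Lib.Chev.TwistBN
import Cfsg.Agent.Lib.Chev.RhoPerm
import Cfsg.Agent.Lib.Chev.OrbitA1
import Cfsg.Agent.Lib.Chev.ModWord

/-!
Twists made of an exceptional isogeny and a Frobenius map.
-/

set_option autoImplicit false
set_option maxHeartbeats 400000

namespace CfsgLib.Chev

open Cfsg.Lie Matrix

variable {D : ChevalleyDatum} {F : Type*} [Field F]

namespace Good

variable (g : Good D)
include g

/-- The field map on a Chevalley group. -/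
theorem exists_frobHom (φ : F →+* F) :
    ∃ σ : ↥(D.group F) →* ↥(D.group F), Function.Injective σ ∧
      ∀ (s : Fin D.nroots) (t : F),
        (σ ⟨g.xG s t, g.xG_mem_group s.2 t⟩ : GL D.Idx F) = g.xG s (φ t) := by
  let Φu : GL D.Idx F →* GL D.Idx F := Matrix.GeneralLinearGroup.map φ
  have hx : ∀ r, r < D.nroots → ∀ t : F, Φu (g.xG r t) = g.xG r (φ t) := by
    intro r hr t
    refine Units.ext ?_
    show ((g.xG r t : GL D.Idx F) : Matrix D.Idx D.Idx F).map φ = _
    rw [g.coe_xG, g.coe_xG, g.x_eq_xr hr, g.x_eq_xr hr]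
    exact xr_map φ r t
  have himg : ∀ x ∈ D.group F, Φu x ∈ D.group F := by
    intro x hxg
    have : D.group F ≤ (D.group F).comap Φu := g.group_le fun r hr t => by
      rw [Subgroup.mem_comap, hx r hr t]
      exact g.xG_mem_group hr _
    exact this hxg
  refine ⟨((Φu.comp (D.group F).subtype).codRestrict (D.group F) fun x => himg x x.2),
    fun x y h => ?_, fun s t => hx s s.2 t⟩
  have h' : Φu (x : GL D.Idx F) = Φu (y : GL D.Idx F) := congrArg Subtype.val h
  exact Subtype.ext (Units.ext (Matrix.map_injective φ.injective (congrArg Units.val h')))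

/-- The group of a set of words. -/
lemma genSubgroup_eq (W : Set (List (ℕ × F))) : D.genSubgroup F W =
    Subgroup.closure {x | ∃ w ∈ W, x = (w.map fun p => g.xG p.1 p.2).prod} := by
  have e : ∀ w : List (ℕ × F), (((w.map fun p => g.xG p.1 p.2).prod : GL D.Idx F) :
      Matrix D.Idx D.Idx F) = D.wordMat F w := by
    intro w
    induction w with
    | nil => rfl
    | cons p w ih =>
      rw [List.map_cons, List.prod_cons, Units.val_mul, ih, g.coe_xG]
      rfl
  rw [ChevalleyDatum.genSubgroup]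
  congr 1
  ext x
  exact ⟨fun ⟨w, hw, h⟩ => ⟨w, hw, Units.ext (h.trans (e w).symm)⟩,
    fun ⟨w, hw, h⟩ => ⟨w, hw, h ▸ e w⟩⟩

/-- A product along a list of roots. -/
noncomputable def xAlong (rs : List ℕ) (t : ℕ → F) : GL D.Idx F :=
  (rs.map fun r => g.xG r (t r)).prod

lemma xAlong_cons (r : ℕ) (rs : List ℕ) (t : ℕ → F) :
    g.xAlong (r :: rs) t = g.xG r (t r) * g.xAlong rs t := by simp [xAlong]

lemma xAlong_mem {S : Set ℕ} {rs : List ℕ} (h : ∀ r ∈ rs, r < D.nroots ∧ r ∈ S) (t : ℕ → F) :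
    g.xAlong rs t ∈ rootGen D F S :=
  Subgroup.list_prod_mem _ fun x hx => by
    obtain ⟨r, hr, rfl⟩ := List.mem_map.1 hx
    exact g.mem_rootGen (h r hr).1 (h r hr).2 _

lemma xAlong_inj {rs : List ℕ} (hs : rs.Pairwise (· < ·))
    (h : ∀ r ∈ rs, r < D.nroots ∧ half D ≤ r) {t u : ℕ → F}
    (e : g.xAlong rs t = g.xAlong rs u) : ∀ r ∈ rs, t r = u r := by
  induction rs with
  | nil => intro r hr; simp at hr
  | cons a rs ih =>
    rw [List.pairwise_cons] at hs
    rw [xAlong_cons, xAlong_cons] at e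
    have hm : ∀ v : ℕ → F, g.xAlong rs v ∈ rootGen D F (Set.Ici (a + 1)) := fun v =>
      g.xAlong_mem (fun r hr => ⟨(h r (List.mem_cons_of_mem _ hr)).1, hs.1 r hr⟩) v
    obtain ⟨h1, h2⟩ := g.Ici_unique (h a (by simp)).2 (h a (by simp)).1 (hm t) (hm u) e
    intro r hr
    rcases List.mem_cons.1 hr with rfl | hr
    · exact h1
    · exact ih hs.2 (fun r hr => h r (List.mem_cons_of_mem _ hr)) h2 r hr

omit g in
lemma minus_list {π : Equiv.Perm (Fin D.nroots)} {rs : List ℕ}
    (hset : minusSet π = {r | r ∈ rs}) : ∀ r ∈ rs, r < D.nroots ∧ half D ≤ r := by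
  intro r hr
  obtain ⟨h1, h2, -⟩ : r ∈ minusSet π := hset ▸ hr
  exact ⟨h1, h2⟩

omit g in
lemma ninv_of_minus {π : Equiv.Perm (Fin D.nroots)} {rs : List ℕ} (hnd : rs.Nodup)
    (hset : minusSet π = {r | r ∈ rs}) : ninv D π = rs.length := by
  classical
  rw [← List.toFinset_card_of_nodup hnd, ninv, ← Finset.card_map Fin.valEmbedding]
  congr 1
  ext a
  have h := Set.ext_iff.1 hset a
  simp only [Finset.mem_map, Finset.mem_filter, Finset.mem_univ, true_and, Fin.valEmbedding_apply,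
    List.mem_toFinset]
  constructor
  · rintro ⟨b, ⟨h1, h2⟩, rfl⟩
    exact h.1 ⟨b.2, h1, h2⟩
  · intro ha
    obtain ⟨h0, h1, h2⟩ := h.2 ha
    exact ⟨⟨a, h0⟩, ⟨h1, h2⟩, rfl⟩

/-- `U_w⁻` is the set of products along its roots. -/
theorem exists_xAlong [Finite F] (hc : HasComm D) {n : GL D.Idx F}
    {π : Equiv.Perm (Fin D.nroots)} (hn : g.Acts n π) {rs : List ℕ} (hs : rs.Pairwise (· < ·))
    (hset : minusSet π = {r | r ∈ rs}) {x : GL D.Idx F} (hx : x ∈ rootGen D F (minusSet π)) :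
    ∃ t : ℕ → F, x = g.xAlong rs t := by
  classical
  have := Fintype.ofFinite F
  have hnd : rs.Nodup := hs.imp fun h => Nat.ne_of_lt h
  have hmem := minus_list hset
  let ext' : (↥rs.toFinset → F) → ℕ → F := fun v r => if h : r ∈ rs.toFinset then v ⟨r, h⟩ else 0
  let f : (↥rs.toFinset → F) → ↥(rootGen D F (minusSet π)) := fun v =>
    ⟨g.xAlong rs (ext' v), g.xAlong_mem (fun r hr => ⟨(hmem r hr).1, hset ▸ hr⟩) _⟩
  have hinj : Function.Injective f := by
    intro v w h
    funext ⟨r, hr⟩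
    have := g.xAlong_inj hs hmem (congrArg Subtype.val h) r (List.mem_toFinset.1 hr)
    simp only [ext', dif_pos hr] at this
    exact this
  have hcard : Nat.card (↥rs.toFinset → F) = Nat.card ↥(rootGen D F (minusSet π)) := by
    rw [g.card_minus hc π hn, Nat.card_fun, ninv_of_minus hnd hset, Nat.card_eq_fintype_card,
      Nat.card_eq_fintype_card, Fintype.card_coe, List.toFinset_card_of_nodup hnd]
  obtain ⟨v, hv⟩ := ((Nat.bijective_iff_injective_and_card f).2 ⟨hinj, hcard⟩).2 ⟨x, hx⟩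
  exact ⟨ext' v, (congrArg Subtype.val hv).symm⟩

/-- Conjugation of a product along a list by a point of the torus. -/
lemma torHom_conj_xAlong (c : Fin D.rank → Fˣ) {rs : List ℕ} (h : ∀ r ∈ rs, r < D.nroots)
    (t : ℕ → F) : torHom D F c * g.xAlong rs t * (torHom D F c)⁻¹ =
      g.xAlong rs (fun r => ((∏ i : Fin D.rank, c i ^ D.cartan i r : Fˣ) : F) * t r) := by
  induction rs with
  | nil => simp [xAlong]
  | cons a rs ih =>
    rw [xAlong_cons, xAlong_cons, ← ih fun r hr => h r (List.mem_cons_of_mem _ hr),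
      ← g.torHom_conj_xG c (h a (by simp))]
    group

lemma xG_commute_check (hc : HasComm D) {r s : ℕ} (hr : r < D.nroots) (hs : s < D.nroots)
    (h : s ≠ r ∧ s ≠ fneg D r ∧ fterms D r s = []) (t u : F) :
    Commute (g.xG r t) (g.xG s u) :=
  g.xG_commute hc hr hs h.1 (neg_eq g.lie.pack hr ▸ h.2.1) h.2.2 t u

/-- The products of the representatives of two commuting roots. -/
lemma nG_mul_nG {r s : ℕ} (hpp : ∀ a b : F, Commute (g.xG r a) (g.xG s b))
    (hpn : ∀ a b : F, Commute (g.xG r a) (g.xG (D.neg s) b))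
    (hnp : ∀ a b : F, Commute (g.xG (D.neg r) a) (g.xG s b))
    (hnn : ∀ a b : F, Commute (g.xG (D.neg r) a) (g.xG (D.neg s) b)) (a b : Fˣ) :
    g.nG r a * g.nG s b = g.xG r (a : F) * g.xG s (b : F) *
        (g.xG (D.neg r) (-((a⁻¹ : Fˣ) : F)) * g.xG (D.neg s) (-((b⁻¹ : Fˣ) : F))) *
        (g.xG r (a : F) * g.xG s (b : F)) := by
  rw [Good.nG, Good.nG]
  set A := g.xG r (a : F) with hA
  set A' := g.xG (D.neg r) (-((a⁻¹ : Fˣ) : F)) with hA'
  set B := g.xG s (b : F) with hB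
  set B' := g.xG (D.neg s) (-((b⁻¹ : Fˣ) : F)) with hB'
  have c1 : Commute A B := hpp _ _
  have c2 : Commute A B' := hpn _ _
  have c3 : Commute A' B := hnp _ _
  have _ := hnn
  calc A * A' * A * (B * B' * B) = A * A' * (A * B * B') * B := by simp only [mul_assoc]
    _ = A * A' * (B * B' * A) * B := by rw [mul_assoc A B B', (c1.mul_right c2).eq]
    _ = A * (A' * B) * B' * (A * B) := by simp only [mul_assoc]
    _ = A * B * (A' * B') * (A * B) := by rw [c3.eq]; simp only [mul_assoc]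

lemma nG_pair_commute {r s : ℕ} (hpp : ∀ a b : F, Commute (g.xG r a) (g.xG s b))
    (hpn : ∀ a b : F, Commute (g.xG r a) (g.xG (D.neg s) b))
    (hnp : ∀ a b : F, Commute (g.xG (D.neg r) a) (g.xG s b))
    (hnn : ∀ a b : F, Commute (g.xG (D.neg r) a) (g.xG (D.neg s) b)) (a b : Fˣ) :
    Commute (g.nG r a) (g.nG s b) :=
  (((((hpp _ _).mul_right (hpn _ _)).mul_right (hpp _ _)).mul_left
    (((hnp _ _).mul_right (hnn _ _)).mul_right (hnp _ _)))).mul_left
    (((hpp _ _).mul_right (hpn _ _)).mul_right (hpp _ _))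

/-- The torus elements of two commuting roots. -/
lemma hG_mul_hG {r s : ℕ} (hr : r < D.nroots) (hs : s < D.nroots)
    (hpp : ∀ a b : F, Commute (g.xG r a) (g.xG s b))
    (hpn : ∀ a b : F, Commute (g.xG r a) (g.xG (D.neg s) b))
    (hnp : ∀ a b : F, Commute (g.xG (D.neg r) a) (g.xG s b))
    (hnn : ∀ a b : F, Commute (g.xG (D.neg r) a) (g.xG (D.neg s) b)) (a b : Fˣ) :
    g.hG r a * g.hG s b = g.nG r a * g.nG s b * (g.nG r (-1) * g.nG s (-1)) := by
  rw [g.hG_eq hr, g.hG_eq hs]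
  calc g.nG r a * g.nG r (-1) * (g.nG s b * g.nG s (-1))
      = g.nG r a * (g.nG r (-1) * g.nG s b) * g.nG s (-1) := by simp only [mul_assoc]
    _ = g.nG r a * g.nG s b * (g.nG r (-1) * g.nG s (-1)) := by
      rw [(g.nG_pair_commute hpp hpn hnp hnn (-1) b).eq]; simp only [mul_assoc]

lemma torHom_injective {M : Matrix (Fin D.rank) (Fin D.rank) ℤ} (hM : cartanMat D * M = 1) :
    Function.Injective (torHom D F) := by
  rw [← MonoidHom.ker_eq_bot_iff, eq_bot_iff]
  intro c hc
  rw [MonoidHom.mem_ker, g.torHom_eq_one_iff] at hc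
  have h := powMap_one (G := Fˣ) c
  rw [← hM, powMap_mul, MonoidHom.comp_apply, hc, map_one] at h
  exact Subgroup.mem_bot.2 h.symm

end Good

/-- An orbit given by a word. -/
noncomputable def orbWOK (D : ChevalleyDatum) (dat : LieData) (sd : StructData) (R : RhoData)
    (J ls rs : List ℕ) : Bool :=
  allR (fun i => memR i J) ls &&
  allR (fun a => Nat.blt a (half D) ||
    (Nat.beq (nth 0 R.ρ (reflWord sd ls a)) (reflWord sd ls (nth 0 R.ρ a)) &&
      (!(allR (fun q => memR q J || Int.beq' (rootCo dat a q) 0) (upto D.rank)) ||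
        Nat.blt (reflWord sd ls a) (half D)) &&
      (memR a rs || !(Nat.blt (reflWord sd ls a) (half D))) &&
      (!(memR a rs) || Nat.blt (reflWord sd ls a) (half D))))
    (upto D.nroots) &&
  allR (fun a => Nat.ble (half D) a && Nat.blt a D.nroots) rs

/-- The facts of a checked orbit. -/
lemma orbW_facts (g : Good D) {dat : LieData} {sd : StructData} {R : RhoData}
    (hl : LieChecks D dat) (hs : StructChecks D dat sd) (hR : rhoOK D dat sd R = true)
    {J rs : List ℕ} (l : List (Fin D.rank)) (h : orbWOK D dat sd R J (l.map Fin.val) rs = true) :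
    g.wperm l ∈ g.wJ {i | i ∈ J} ∧
      (∀ a : Fin D.nroots, half D ≤ a.val → g.SuppIn {i | i ∈ J} a → (g.wperm l a).val < half D) ∧
      (rootSymOf g hl hs hR).ρ * g.wperm l = g.wperm l * (rootSymOf g hl hs hR).ρ ∧
      minusSet (g.wperm l) = {r | r ∈ rs} := by
  simp only [orbWOK, Bool.and_eq_true] at h
  obtain ⟨⟨h1, h2⟩, h3⟩ := h
  have hrw : ∀ (m : List (Fin D.rank)) (a : Fin D.nroots),
      (g.wperm m a).val = reflWord sd (m.map Fin.val) a := by
    intro m a
    induction m with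
    | nil => rfl
    | cons i m ih =>
      rw [g.wperm_cons, Equiv.Perm.mul_apply, g.rperm_val,
        (StructChecks.refl_facts hl hs i.2 (Fin.isLt _)).1, ih]
      rfl
  have hpos : ∀ a : Fin D.nroots, half D ≤ a.val →
      ((rootSymOf g hl hs hR).ρ * g.wperm l) a = (g.wperm l * (rootSymOf g hl hs hR).ρ) a ∧
      (g.SuppIn {i | i ∈ J} a → (g.wperm l a).val < half D) ∧
      ((g.wperm l a).val < half D ↔ a.val ∈ rs) := by
    intro a ha
    have := allR_upto h2 a.2
    simp only [Bool.or_eq_true, Bool.and_eq_true, Nat.blt_eq, Nat.beq_eq, Bool.not_eq_true',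
      memR_iff] at this
    obtain ⟨⟨⟨h4, h5⟩, h6⟩, h7⟩ := this.resolve_left (by omega)
    refine ⟨Fin.ext ?_, fun hsupp => ?_, fun hn => ?_, fun hm => ?_⟩
    · show nth 0 R.ρ (g.wperm l a).val = (g.wperm l ⟨nth 0 R.ρ a, (rho_facts hR a.2).1⟩).val
      rw [hrw, hrw]
      exact h4
    · rw [hrw]
      refine h5.resolve_left fun h5' => ?_
      rw [← Bool.not_eq_true] at h5'
      refine h5' ?_
      rw [allR_eq, List.all_eq_true]
      intro q hq
      have hq' : q < D.rank := lt_of_mem_upto hq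
      rw [Bool.or_eq_true, memR_iff, Int.beq'_eq]
      by_cases hql : q ∈ J
      · exact Or.inl hql
      · refine Or.inr ?_
        rw [g.co_eq hl hs a.2 hq']
        exact hsupp q hq' hql
    · rw [hrw] at hn
      refine h6.resolve_right fun h6' => ?_
      rw [← Bool.not_eq_true, Nat.blt_eq] at h6'
      exact h6' hn
    · rw [hrw]
      exact h7.resolve_left fun h7' => by rw [← Bool.not_eq_true, memR_iff] at h7'; exact h7' hm
  refine ⟨g.wperm_mem_wJ fun i hi => memR_iff.1 (allR_true h1 (List.mem_map_of_mem hi)),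
    fun a ha => (hpos a ha).2.1, Equiv.ext fun a => ?_, Set.ext fun r => ?_⟩
  · by_cases ha : half D ≤ a.val
    · exact (hpos a ha).1
    · have h5 := congrArg g.nroot (hpos (g.nroot a) ((g.nroot_pos_iff a).2 (Nat.not_le.1 ha))).1
      simp only [Equiv.Perm.mul_apply, g.wperm_nroot, (rootSymOf g hl hs hR).ρ_nroot,
        g.nroot_nroot] at h5 ⊢
      exact h5
  · constructor
    · rintro ⟨hr, hp, hn⟩
      exact (hpos ⟨r, hr⟩ hp).2.2.1 hn
    · intro hm
      have := allR_true h3 hm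
      simp only [Bool.and_eq_true, Nat.ble_eq, Nat.blt_eq] at this
      exact ⟨this.2, this.1, (hpos ⟨r, this.2⟩ this.1).2.2.2 hm⟩

/-- The twist of an isogeny and the Frobenius map of exponent `e`. -/
theorem exists_isoTwist (g : Good D) [Finite F] {dat : LieData} {sd : StructData} {R : RhoData}
    (hl : LieChecks D dat) (hs : StructChecks D dat sd) (hR : rhoOK D dat sd R = true)
    {lam : List ℕ} {p m : ℕ} [Fact p.Prime] [CharP F p]
    (hlam : allR (fun s => (Nat.beq (nth 0 lam s) 1 || Nat.beq (nth 0 lam s) p) &&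
      Nat.beq (nth 0 lam (fneg D s)) (nth 0 lam s)) (upto D.nroots) = true)
    (hσ : ∃ σ : ↥(D.group F) →* ↥(D.group F), Function.Injective σ ∧
      ∀ (s : Fin D.nroots) (t : F), (σ ⟨g.xG s t, g.xG_mem_group s.2 t⟩ : GL D.Idx F) =
        g.xG ((rootSymOf g hl hs hR).ρ s) (t ^ nth 0 lam s)) :
    ∃ T : Twist g F, T.ρ = (rootSymOf g hl hs hR).ρ ∧ T.pi = (rootSymOf g hl hs hR).pi ∧
      ∀ s t, T.f s t = t ^ (nth 0 lam s * p ^ m) := by
  obtain ⟨σ, hσi, hσx⟩ := hσ
  obtain ⟨τ, hτi, hτx⟩ := g.exists_frobHom (iterateFrobenius F p m)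
  have hpow : ∀ s : Fin D.nroots, ∃ k, nth 0 lam s * p ^ m = p ^ k ∧
      nth 0 lam (D.neg s) = nth 0 lam s := by
    intro s
    have h := allR_upto hlam s.2
    simp only [Bool.and_eq_true, Bool.or_eq_true, Nat.beq_eq] at h
    rw [neg_eq g.lie.pack s.2]
    rcases h.1 with e | e
    · exact ⟨m, by rw [e, one_mul], h.2⟩
    · exact ⟨m + 1, by rw [e, pow_succ'], h.2⟩
  refine ⟨{ ρ := (rootSymOf g hl hs hR).ρ, pi := (rootSymOf g hl hs hR).pi,
            f := fun s t => t ^ (nth 0 lam s * p ^ m), σ := σ.comp τ,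
            ρ_nroot := (rootSymOf g hl hs hR).ρ_nroot, ρ_pos := (rootSymOf g hl hs hR).ρ_pos,
            ρ_sroot := (rootSymOf g hl hs hR).ρ_sroot, ρ_rperm := (rootSymOf g hl hs hR).ρ_rperm,
            f_surj := ?_, f_zero := ?_, f_neg_inv := ?_, inj := hσi.comp hτi,
            σ_x := ?_ }, rfl, rfl, fun _ _ => rfl⟩
  · intro s
    obtain ⟨k, hk, -⟩ := hpow s
    obtain hb := (Finite.injective_iff_bijective.1 (iterateFrobenius F p k).injective).2
    intro y
    obtain ⟨t, ht⟩ := hb y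
    exact ⟨t, by simp only; rw [hk, ← iterateFrobenius_def, ht]⟩
  · intro s
    obtain ⟨k, hk, -⟩ := hpow s
    show (0 : F) ^ (nth 0 lam s * p ^ m) = 0
    rw [hk, ← iterateFrobenius_def, map_zero]
  · intro s t _
    obtain ⟨k, hk, hn⟩ := hpow s
    show (-t⁻¹) ^ (nth 0 lam (D.neg s) * p ^ m) = -(t ^ (nth 0 lam s * p ^ m))⁻¹
    rw [hn, hk, ← iterateFrobenius_def, ← iterateFrobenius_def, map_neg, map_inv₀]
  · intro s t
    rw [MonoidHom.comp_apply, show τ ⟨g.xG s t, g.xG_mem_group s.2 t⟩ =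
      ⟨g.xG s (iterateFrobenius F p m t), g.xG_mem_group s.2 _⟩ from Subtype.ext (hτx s t), hσx,
      iterateFrobenius_def, ← pow_mul, mul_comm]

namespace Twist

variable {g : Good D} (T : Twist g F)

lemma mem_fixed_of_eq {x : GL D.Idx F} (hx : x ∈ D.group F)
    (h : (T.σ ⟨x, hx⟩ : GL D.Idx F) = x) : x ∈ T.fixed :=
  (T.mem_fixed ⟨x, hx⟩).2 (Subtype.ext h)

lemma eq_of_mem_fixed {x : GL D.Idx F} (h : x ∈ T.fixed) (hx : x ∈ D.group F) :
    (T.σ ⟨x, hx⟩ : GL D.Idx F) = x :=
  congrArg Subtype.val ((T.mem_fixed ⟨x, hx⟩).1 h)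

/-- The image of a product along a list. -/
lemma σ_xAlong {rs : List ℕ} (h : ∀ r ∈ rs, r < D.nroots) (t : ℕ → F)
    (hm : g.xAlong rs t ∈ D.group F) :
    (T.σ ⟨g.xAlong rs t, hm⟩ : GL D.Idx F) = (rs.attach.map fun r =>
      g.xG (T.ρ ⟨r.1, h r.1 r.2⟩) (T.f ⟨r.1, h r.1 r.2⟩ (t r.1))).prod := by
  induction rs with
  | nil =>
    rw [show (⟨g.xAlong [] t, hm⟩ : ↥(D.group F)) = 1 from Subtype.ext rfl, map_one]
    rfl
  | cons a rs ih =>
    have h' : ∀ r ∈ rs, r < D.nroots := fun r hr => h r (List.mem_cons_of_mem _ hr)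
    have hm' : g.xAlong rs t ∈ D.group F := Subgroup.list_prod_mem _ fun x hx => by
      obtain ⟨r, hr, rfl⟩ := List.mem_map.1 hx
      exact g.xG_mem_group (h' r hr) _
    rw [show (⟨g.xAlong (a :: rs) t, hm⟩ : ↥(D.group F)) =
      ⟨g.xG a (t a), g.xG_mem_group (h a (by simp)) _⟩ * ⟨g.xAlong rs t, hm'⟩ from
        Subtype.ext (g.xAlong_cons a rs t), map_mul, Subgroup.coe_mul, ih h' hm',
      T.σ_xG (h a (by simp)), List.attach_cons, List.map_cons, List.prod_cons, List.map_map]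
    rfl

/-- The image of a torus element. -/
lemma σ_hG {r : ℕ} (hr : r < D.nroots) {n : ℕ} (hf : ∀ x : F, T.f ⟨r, hr⟩ x = x ^ n)
    (hn : (-1 : F) ^ n = -1) (t : Fˣ) (h : g.hG r t ∈ D.group F) :
    (T.σ ⟨g.hG r t, h⟩ : GL D.Idx F) = g.hG (T.ρ ⟨r, hr⟩) (t ^ n) := by
  have hm : ∀ u : Fˣ, g.nG r u ∈ D.group F := fun u =>
    g.monomial_le_group (Twist.nG_mem_monomial hr u)
  obtain ⟨a, ha, ha'⟩ := T.σ_nG hr t (hm t)
  obtain ⟨b, hb, hb'⟩ := T.σ_nG hr (-1) (hm (-1))
  rw [show (⟨g.hG r t, h⟩ : ↥(D.group F)) = ⟨g.nG r t, hm t⟩ * ⟨g.nG r (-1), hm (-1)⟩ from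
    Subtype.ext (g.hG_eq hr t), map_mul, Subgroup.coe_mul, ha', hb',
    show a = t ^ n from Units.ext (by rw [ha, hf]; simp),
    show b = -1 from Units.ext (by rw [hb, hf]; simpa using hn), ← g.hG_eq (Fin.isLt _)]

/-- The image of a point of the torus. -/
lemma σ_torHom {n : Fin D.rank → ℕ} (hf : ∀ i (x : F), T.f (g.sroot i) x = x ^ n i)
    (hn : ∀ i, (-1 : F) ^ n i = -1) (c : Fin D.rank → Fˣ) (h : torHom D F c ∈ D.group F) :
    (T.σ ⟨torHom D F c, h⟩ : GL D.Idx F) =
      torHom D F (fun j => c (T.pi.symm j) ^ n (T.pi.symm j)) := by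
  let L : (Fin D.rank → Fˣ) →* GL D.Idx F := ((D.group F).subtype.comp T.σ).comp
    ((torHom D F).codRestrict (D.group F) fun c => g.diagonal_le_group (g.torHom_mem c))
  let R : (Fin D.rank → Fˣ) →* GL D.Idx F := (torHom D F).comp
    { toFun := fun c j => c (T.pi.symm j) ^ n (T.pi.symm j)
      map_one' := by funext j; simp
      map_mul' := fun a b => by funext j; simp [mul_pow] }
  show L c = R c
  suffices H : ∀ s : Finset (Fin D.rank),
      L (∏ i ∈ s, Pi.mulSingle i (c i)) = R (∏ i ∈ s, Pi.mulSingle i (c i)) by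
    have := H Finset.univ
    rwa [Finset.univ_prod_mulSingle] at this
  intro s
  induction s using Finset.induction with
  | empty => simp only [Finset.prod_empty, map_one]
  | insert a s ha ih =>
    rw [Finset.prod_insert ha, map_mul, map_mul, ih]
    congr 1
    show (T.σ ⟨torHom D F (Pi.mulSingle a (c a)), _⟩ : GL D.Idx F) =
      torHom D F (fun j => (Pi.mulSingle a (c a) : Fin D.rank → Fˣ) (T.pi.symm j) ^ n (T.pi.symm j))
    have e : (fun j => (Pi.mulSingle a (c a) : Fin D.rank → Fˣ) (T.pi.symm j) ^ n (T.pi.symm j)) =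
        Pi.mulSingle (T.pi a) (c a ^ n a) := by
      funext j
      obtain ⟨i, rfl⟩ := T.pi.surjective j
      rw [Equiv.symm_apply_apply]
      by_cases hi : i = a
      · subst hi; simp
      · simp [hi]
    simp only [e, g.torHom_single]
    have h1 := T.σ_hG (g.simple_lt a.2) (hf a) (hn a) (c a)
      (g.diagonal_le_group (g.hG_mem (g.simple_lt a.2) _))
    rw [show (⟨D.simple a, g.simple_lt a.2⟩ : Fin D.nroots) = g.sroot a from rfl, T.ρ_sroot] at h1
    exact h1

/-- The fixed points of the torus. -/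
lemma torHom_mem_fixed_iff {n : Fin D.rank → ℕ} (hf : ∀ i (x : F), T.f (g.sroot i) x = x ^ n i)
    (hn : ∀ i, (-1 : F) ^ n i = -1) (hinj : Function.Injective (torHom D F))
    (c : Fin D.rank → Fˣ) :
    torHom D F c ∈ T.fixed ↔ ∀ i, c (T.pi i) = c i ^ n i := by
  have hm : torHom D F c ∈ D.group F := g.diagonal_le_group (g.torHom_mem c)
  constructor
  · intro h i
    have h1 := T.eq_of_mem_fixed h hm
    rw [T.σ_torHom hf hn] at h1
    have h2 := congrFun (hinj h1) (T.pi i)
    rw [Equiv.symm_apply_apply] at h2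
    exact h2.symm
  · intro h
    refine T.mem_fixed_of_eq hm ?_
    rw [T.σ_torHom hf hn]
    congr 1
    funext j
    obtain ⟨i, rfl⟩ := T.pi.surjective j
    rw [Equiv.symm_apply_apply, h i]

end Twist

end CfsgLib.Chev
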