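import Mathlib
import Cfsg.Prelude.Def_LieTwisted
import Cfsg.Agent.Lib.Chev.TwistIso
import Cfsg.Agent.Lib.Chev.SigmaIsoTables

/-!
The twisted system of ²F₄.
-/

set_option autoImplicit false
set_option maxHeartbeats 800000
set_option linter.unusedSectionVars false
set_option maxRecDepth 100000

namespace CfsgLib.Chev

open Cfsg.Lie

/-- The twist of ²F₄ over a field of order `2 ^ (2 m + 1)`. -/
structure SetupF4 (K : Type*) [Field K] [Fintype K] (m : ℕ) where
  /-- the twist -/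
  T : Twist goodF4 K
  Tρ : T.ρ = (rootSymOf goodF4 checksF4 structChecksF4 rhoIsoF4_ok).ρ
  Tpi : T.pi = (rootSymOf goodF4 checksF4 structChecksF4 rhoIsoF4_ok).pi
  Tf : ∀ s t, T.f s t = t ^ (nth 0 isoF4.lam s * 2 ^ m)
  char : CharP K 2
  card : Fintype.card K = 2 ^ (2 * m + 1)

theorem exists_setupF4 (K : Type*) [Field K] [Fintype K] {m : ℕ}
    (hK : Fintype.card K = 2 ^ (2 * m + 1)) : Nonempty (SetupF4 K m) := by
  have := Fact.mk Nat.prime_two
  have : CharP K 2 := charP_of_card_eq_prime_pow hK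
  obtain ⟨T, h1, h2, h3⟩ := exists_isoTwist goodF4 checksF4 structChecksF4 rhoIsoF4_ok (p := 2)
    (m := m) (lam := isoF4.lam) (by decide +kernel) (exists_isogenyF4 K)
  exact ⟨⟨T, h1, h2, h3, inferInstance, hK⟩⟩

/-- The generating words of the orbits, as products. -/
lemma twistedF4_eq (K : Type*) [Field K] (e : ℕ) : twistedF4 K e =
    Subgroup.closure {x | ∃ w ∈ f4Words K e, x = (w.map fun p => goodF4.xG p.1 p.2).prod} :=
  goodF4.genSubgroup_eq _

/-- The words of the fundamental orbits. -/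
def wordsF4 : Fin 2 → List (Fin chevF4.rank) :=
  ![[⟨0, by decide⟩, ⟨3, by decide⟩],
    [⟨1, by decide⟩, ⟨2, by decide⟩, ⟨1, by decide⟩, ⟨2, by decide⟩]]

/-- The orbits. -/
def orbsF4 : Fin 2 → List ℕ := ![[0, 3], [1, 2]]

/-- The roots of `U_w⁻`, ascending. -/
def minusF4 : Fin 2 → List ℕ := ![[24, 33], [25, 27, 28, 30]]

lemma orbWF4 (o : Fin 2) :
    orbWOK chevF4 dataF4 sdataF4 rhoIsoF4 (orbsF4 o) ((wordsF4 o).map Fin.val) (minusF4 o) = true := by
  fin_cases o <;> decide +kernel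

lemma hasCommF4 : HasComm chevF4 := hasComm_of_mem (by simp)

namespace SetupF4

variable {K : Type*} [Field K] [Fintype K] {m : ℕ} (S : SetupF4 K m)
include S

lemma minusSet_w (o : Fin 2) : minusSet (goodF4.wperm (wordsF4 o)) = {r | r ∈ minusF4 o} :=
  (orbW_facts goodF4 checksF4 structChecksF4 rhoIsoF4_ok _ (orbWF4 o)).2.2.2

lemma neg_one_eq : (-1 : K) = 1 := by have := S.char; exact CharTwo.neg_eq 1

lemma neg_eq' (x : K) : -x = x := by have := S.char; exact CharTwo.neg_eq x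

lemma two_zero : (2 : K) = 0 := by have := S.char; exact CharTwo.two_eq_zero

lemma pow_q (t : K) : t ^ (2 * 2 ^ m * 2 ^ m) = t := by
  rw [show 2 * 2 ^ m * 2 ^ m = Fintype.card K by rw [S.card]; ring, FiniteField.pow_card]

lemma pow_add (a b : K) : (a + b) ^ (2 ^ m) = a ^ (2 ^ m) + b ^ (2 ^ m) := by
  have := S.char
  exact add_pow_char_pow a b 2 m

lemma pow_add' (a b : K) : (a + b) ^ (2 * 2 ^ m) = a ^ (2 * 2 ^ m) + b ^ (2 * 2 ^ m) := by
  have := S.char
  rw [show 2 * 2 ^ m = 2 ^ (m + 1) by ring]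
  exact add_pow_char_pow a b 2 (m + 1)

/-- The image of a root element. -/
lemma σx {r s n : ℕ} (hr : r < chevF4.nroots) (hρ : nth 0 rhoIsoF4.ρ r = s)
    (hl : nth 0 isoF4.lam r = n) (t : K) (h : goodF4.xG r t ∈ chevF4.group K) :
    (S.T.σ ⟨goodF4.xG r t, h⟩ : GL chevF4.Idx K) = goodF4.xG s (t ^ (n * 2 ^ m)) := by
  rw [S.T.σ_xG hr, S.Tf, S.Tρ, ← hρ, ← hl]
  rfl

/-- A pair of orthogonal roots exchanged by the symmetry. -/
lemma pair_σ {r rb : ℕ} (hr : r < chevF4.nroots) (hrb : rb < chevF4.nroots)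
    (h1 : nth 0 rhoIsoF4.ρ r = rb) (h2 : nth 0 rhoIsoF4.ρ rb = r)
    (l1 : nth 0 isoF4.lam r = 2) (l2 : nth 0 isoF4.lam rb = 1)
    (hc : rb ≠ r ∧ rb ≠ fneg chevF4 r ∧ fterms chevF4 r rb = []) (a b : K)
    (h : goodF4.xG r a * goodF4.xG rb b ∈ chevF4.group K) :
    (S.T.σ ⟨goodF4.xG r a * goodF4.xG rb b, h⟩ : GL chevF4.Idx K) =
      goodF4.xG r (b ^ 2 ^ m) * goodF4.xG rb (a ^ (2 * 2 ^ m)) := by
  rw [show (⟨goodF4.xG r a * goodF4.xG rb b, h⟩ : ↥(chevF4.group K)) =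
    ⟨goodF4.xG r a, goodF4.xG_mem_group hr _⟩ * ⟨goodF4.xG rb b, goodF4.xG_mem_group hrb _⟩ from
      Subtype.ext rfl, map_mul, Subgroup.coe_mul, S.σx hr h1 l1, S.σx hrb h2 l2, one_mul]
  exact ((goodF4.xG_commute_check hasCommF4 hr hrb hc _ _).eq).symm

lemma pair_fixed {r rb : ℕ} (hr : r < chevF4.nroots) (hrb : rb < chevF4.nroots)
    (h1 : nth 0 rhoIsoF4.ρ r = rb) (h2 : nth 0 rhoIsoF4.ρ rb = r)
    (l1 : nth 0 isoF4.lam r = 2) (l2 : nth 0 isoF4.lam rb = 1)
    (hc : rb ≠ r ∧ rb ≠ fneg chevF4 r ∧ fterms chevF4 r rb = []) (t : K) :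
    goodF4.xG r (t ^ 2 ^ m) * goodF4.xG rb t ∈ S.T.fixed := by
  refine S.T.mem_fixed_of_eq (mul_mem (goodF4.xG_mem_group hr _) (goodF4.xG_mem_group hrb _)) ?_
  rw [S.pair_σ hr hrb h1 h2 l1 l2 hc, ← pow_mul, show 2 ^ m * (2 * 2 ^ m) = 2 * 2 ^ m * 2 ^ m by ring,
    S.pow_q]

/-- Reordering in a class of type B₂. -/
lemma swap {a b ab aab : ℕ} (ha : a < chevF4.nroots) (hb : b < chevF4.nroots)
    (hne : a ≠ b ∧ a ≠ fneg chevF4 b) {c d : ℤ}
    (hterms : fterms chevF4 b a = [(ab, c, 1, 1), (aab, d, 1, 2)]) (hcd : c % 2 = 1 ∧ d % 2 = 1)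
    (hab : ab < chevF4.nroots) (haab : aab < chevF4.nroots)
    (hc1 : ab ≠ b ∧ ab ≠ fneg chevF4 b ∧ fterms chevF4 b ab = [])
    (hc2 : aab ≠ b ∧ aab ≠ fneg chevF4 b ∧ fterms chevF4 b aab = []) (B A : K) :
    goodF4.xG b B * goodF4.xG a A = goodF4.xG a A * goodF4.xG b B *
      (goodF4.xG ab (A * B) * goodF4.xG aab (A ^ 2 * B)) := by
  have h := goodF4.xG_conj hasCommF4 ha hb hne.1 (neg_eq goodF4.lie.pack hb ▸ hne.2) A B
  rw [← goodF4.fterms_eq hb ha, hterms] at h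
  have hodd : ∀ z : ℤ, z % 2 = 1 → (z : K) = 1 := fun z hz => by
    have := S.char
    rw [show z = 2 * (z / 2) + 1 by omega]
    simp [S.two_zero]
  simp only [List.map_cons, List.map_nil, List.prod_cons, List.prod_nil, mul_one, hodd _ hcd.1,
    hodd _ hcd.2, one_mul, pow_one] at h
  rw [mul_inv_eq_iff_eq_mul] at h
  rw [h, mul_comm A B, mul_comm (A ^ 2) B, mul_assoc (goodF4.xG a A), mul_assoc (goodF4.xG a A)]
  congr 1
  rw [((goodF4.xG_commute_check hasCommF4 hb hab hc1 B (B * A)).mul_right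
    (goodF4.xG_commute_check hasCommF4 hb haab hc2 B (B * A ^ 2))).eq]

/-- Reordering in the other direction. -/
lemma swap' {a b ab aab : ℕ} (ha : a < chevF4.nroots) (hb : b < chevF4.nroots)
    (hne : a ≠ b ∧ a ≠ fneg chevF4 b) {c d : ℤ}
    (hterms : fterms chevF4 b a = [(ab, c, 1, 1), (aab, d, 1, 2)]) (hcd : c % 2 = 1 ∧ d % 2 = 1)
    (hab : ab < chevF4.nroots) (haab : aab < chevF4.nroots)
    (hc1 : ab ≠ b ∧ ab ≠ fneg chevF4 b ∧ fterms chevF4 b ab = [])
    (hc2 : aab ≠ b ∧ aab ≠ fneg chevF4 b ∧ fterms chevF4 b aab = [])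
    (hc3 : aab ≠ ab ∧ aab ≠ fneg chevF4 ab ∧ fterms chevF4 ab aab = []) (B A : K) :
    goodF4.xG a A * goodF4.xG b B = goodF4.xG b B * goodF4.xG a A *
      (goodF4.xG ab (A * B) * goodF4.xG aab (A ^ 2 * B)) := by
  have hinv : (goodF4.xG ab (A * B) * goodF4.xG aab (A ^ 2 * B))⁻¹ =
      goodF4.xG ab (A * B) * goodF4.xG aab (A ^ 2 * B) := by
    rw [_root_.mul_inv_rev, goodF4.xG_inv, goodF4.xG_inv, S.neg_eq', S.neg_eq',
      (goodF4.xG_commute_check hasCommF4 hab haab hc3 (A * B) (A ^ 2 * B)).eq]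
  conv_rhs => rw [← hinv, S.swap ha hb hne hterms hcd hab haab hc1 hc2, mul_inv_cancel_right]

/-- A class of type B₂. -/
lemma class_fixed {a b ab aab : ℕ} (ha : a < chevF4.nroots) (hb : b < chevF4.nroots)
    (hab : ab < chevF4.nroots) (haab : aab < chevF4.nroots)
    (r1 : nth 0 rhoIsoF4.ρ a = b) (r2 : nth 0 rhoIsoF4.ρ b = a)
    (r3 : nth 0 rhoIsoF4.ρ ab = aab) (r4 : nth 0 rhoIsoF4.ρ aab = ab)
    (l1 : nth 0 isoF4.lam a = 2) (l2 : nth 0 isoF4.lam b = 1)
    (l3 : nth 0 isoF4.lam ab = 2) (l4 : nth 0 isoF4.lam aab = 1)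
    (hne : a ≠ b ∧ a ≠ fneg chevF4 b) {c d : ℤ}
    (hterms : fterms chevF4 b a = [(ab, c, 1, 1), (aab, d, 1, 2)]) (hcd : c % 2 = 1 ∧ d % 2 = 1)
    (hc1 : ab ≠ b ∧ ab ≠ fneg chevF4 b ∧ fterms chevF4 b ab = [])
    (hc2 : aab ≠ b ∧ aab ≠ fneg chevF4 b ∧ fterms chevF4 b aab = [])
    (hc3 : aab ≠ ab ∧ aab ≠ fneg chevF4 ab ∧ fterms chevF4 ab aab = []) (t u : K) :
    ((b2ClassWord (2 ^ m) a b ab aab t u).map fun p => goodF4.xG p.1 p.2).prod ∈ S.T.fixed := by
  simp only [b2ClassWord, List.map_cons, List.map_nil, List.prod_cons, List.prod_nil, mul_one]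
  have hm := fun (r : ℕ) (hr : r < chevF4.nroots) (z : K) => goodF4.xG_mem_group (F := K) hr z
  refine S.T.mem_fixed_of_eq
    (mul_mem (hm _ ha _) (mul_mem (hm _ hb _) (mul_mem (hm _ hab _) (hm _ haab _)))) ?_
  have e : (⟨goodF4.xG a (t ^ 2 ^ m) * (goodF4.xG b t * (goodF4.xG ab (t ^ (2 ^ m + 1) + u) *
      goodF4.xG aab (u ^ (2 * 2 ^ m)))),
      mul_mem (hm _ ha _) (mul_mem (hm _ hb _) (mul_mem (hm _ hab _) (hm _ haab _)))⟩ :
        ↥(chevF4.group K)) = ⟨goodF4.xG a (t ^ 2 ^ m), hm _ ha _⟩ * (⟨goodF4.xG b t, hm _ hb _⟩ *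
      (⟨goodF4.xG ab (t ^ (2 ^ m + 1) + u), hm _ hab _⟩ *
        ⟨goodF4.xG aab (u ^ (2 * 2 ^ m)), hm _ haab _⟩)) := Subtype.ext rfl
  rw [e, map_mul, map_mul, map_mul, Subgroup.coe_mul, Subgroup.coe_mul, Subgroup.coe_mul,
    S.σx ha r1 l1, S.σx hb r2 l2, S.σx hab r3 l3, S.σx haab r4 l4, ← mul_assoc (goodF4.xG b _),
    S.swap ha hb hne hterms hcd hab haab hc1 hc2]
  simp only [one_mul, ← pow_mul, show 2 ^ m * (2 * 2 ^ m) = 2 * 2 ^ m * 2 ^ m by ring, S.pow_q,
    S.pow_add']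
  rw [show t ^ 2 ^ m * t = t ^ (2 ^ m + 1) by rw [pow_succ],
    show t ^ (2 ^ m * 2) * t = t ^ ((2 ^ m + 1) * (2 * 2 ^ m)) by
      rw [show (2 ^ m + 1) * (2 * 2 ^ m) = 2 * 2 ^ m * 2 ^ m + 2 ^ m * 2 by ring, _root_.pow_add,
        S.pow_q, mul_comm]]
  have hcc := fun x y : K => goodF4.xG_commute_check hasCommF4 hab haab hc3 x y
  set X := t ^ (2 ^ m + 1)
  set Y := t ^ ((2 ^ m + 1) * (2 * 2 ^ m))
  set Z := u ^ (2 * 2 ^ m)
  simp only [mul_assoc]
  congr 2
  calc goodF4.xG ab X * (goodF4.xG aab Y * (goodF4.xG aab (Y + Z) * goodF4.xG ab u))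
      = goodF4.xG ab X * (goodF4.xG aab (Y + (Y + Z)) * goodF4.xG ab u) := by
        rw [← mul_assoc (goodF4.xG aab Y), goodF4.xG_add]
    _ = goodF4.xG ab X * (goodF4.xG ab u * goodF4.xG aab Z) := by
        rw [← add_assoc, show Y + Y = 0 by rw [← two_mul, S.two_zero, zero_mul], zero_add,
          (hcc u Z).eq]
    _ = _ := by rw [← mul_assoc, goodF4.xG_add]

lemma gens_fixed : twistedF4 K (2 ^ m) ≤ S.T.fixed := by
  rw [twistedF4_eq, Subgroup.closure_le]
  rintro x ⟨w, (⟨t, rfl | rfl⟩ | ⟨t, u, rfl | rfl⟩), rfl⟩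
  · simp only [f4PairWord, List.map_cons, List.map_nil, List.prod_cons, List.prod_nil, mul_one]
    exact S.pair_fixed (by decide +kernel) (by decide +kernel) (by decide +kernel) (by decide +kernel)
      (by decide +kernel) (by decide +kernel) (by decide +kernel) t
  · simp only [f4PairWord, List.map_cons, List.map_nil, List.prod_cons, List.prod_nil, mul_one]
    exact S.pair_fixed (by decide +kernel) (by decide +kernel) (by decide +kernel) (by decide +kernel)
      (by decide +kernel) (by decide +kernel) (by decide +kernel) t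
  · exact S.class_fixed (by decide +kernel) (by decide +kernel) (by decide +kernel) (by decide +kernel)
      (by decide +kernel) (by decide +kernel) (by decide +kernel) (by decide +kernel)
      (by decide +kernel) (by decide +kernel) (by decide +kernel) (by decide +kernel)
      (by decide +kernel) (c := 1) (d := -1) (by decide +kernel) (by decide) (by decide +kernel)
      (by decide +kernel) (by decide +kernel) t u
  · exact S.class_fixed (by decide +kernel) (by decide +kernel) (by decide +kernel) (by decide +kernel)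
      (by decide +kernel) (by decide +kernel) (by decide +kernel) (by decide +kernel)
      (by decide +kernel) (by decide +kernel) (by decide +kernel) (by decide +kernel)
      (by decide +kernel) (c := -1) (d := -1) (by decide +kernel) (by decide) (by decide +kernel)
      (by decide +kernel) (by decide +kernel) t u

/-- Generators of the positive orbit pieces. -/
lemma pair_mem (t : K) :
    goodF4.xG 33 (t ^ 2 ^ m) * goodF4.xG 24 t ∈ twistedF4 K (2 ^ m) ∧
      goodF4.xG 14 (t ^ 2 ^ m) * goodF4.xG 23 t ∈ twistedF4 K (2 ^ m) := by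
  rw [twistedF4_eq]
  refine ⟨Subgroup.subset_closure ⟨_, Or.inl ⟨t, Or.inl rfl⟩, ?_⟩,
    Subgroup.subset_closure ⟨_, Or.inl ⟨t, Or.inr rfl⟩, ?_⟩⟩ <;>
    simp [f4PairWord, f4p1, f4p4, f4m1, f4m4]

lemma class_mem (t u : K) :
    goodF4.xG 27 (t ^ 2 ^ m) * (goodF4.xG 25 t * (goodF4.xG 28 (t ^ (2 ^ m + 1) + u) *
        goodF4.xG 30 (u ^ (2 * 2 ^ m)))) ∈ twistedF4 K (2 ^ m) ∧
      goodF4.xG 20 (t ^ 2 ^ m) * (goodF4.xG 22 t * (goodF4.xG 19 (t ^ (2 ^ m + 1) + u) *
        goodF4.xG 17 (u ^ (2 * 2 ^ m)))) ∈ twistedF4 K (2 ^ m) := by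
  rw [twistedF4_eq]
  refine ⟨Subgroup.subset_closure ⟨_, Or.inr ⟨t, u, Or.inl rfl⟩, ?_⟩,
    Subgroup.subset_closure ⟨_, Or.inr ⟨t, u, Or.inr rfl⟩, ?_⟩⟩ <;>
    simp [b2ClassWord, f4a, f4b, f4ab, f4aab, f4ma, f4mb, f4mab, f4maab]

/-- The positive class element in ascending order. -/
lemma class_sorted (t u : K) :
    goodF4.xG 27 (t ^ 2 ^ m) * (goodF4.xG 25 t * (goodF4.xG 28 (t ^ (2 ^ m + 1) + u) *
        goodF4.xG 30 (u ^ (2 * 2 ^ m)))) =
      goodF4.xG 25 t * (goodF4.xG 27 (t ^ 2 ^ m) * (goodF4.xG 28 u *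
        goodF4.xG 30 (t ^ (2 * 2 ^ m + 1) + u ^ (2 * 2 ^ m)))) := by
  have h := S.swap' (a := 27) (b := 25) (ab := 28) (aab := 30) (by decide +kernel) (by decide +kernel)
    (by decide +kernel) (c := 1) (d := -1) (by decide +kernel) (by decide) (by decide +kernel)
    (by decide +kernel) (by decide +kernel) (by decide +kernel) (by decide +kernel) t (t ^ 2 ^ m)
  have hcc := fun x y : K => goodF4.xG_commute_check hasCommF4 (r := 28) (s := 30) (by decide +kernel)
    (by decide +kernel) (by decide +kernel) x y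
  rw [← pow_mul, mul_comm (2 ^ m) 2, ← pow_succ, ← pow_succ] at h
  rw [← mul_assoc (goodF4.xG 27 _), h]
  set X := t ^ (2 ^ m + 1)
  set Y := t ^ (2 * 2 ^ m + 1)
  set Z := u ^ (2 * 2 ^ m)
  simp only [mul_assoc]
  congr 2
  rw [← mul_assoc (goodF4.xG 30 Y), ← (hcc (X + u) Y).eq, mul_assoc, ← mul_assoc (goodF4.xG 28 X),
    goodF4.xG_add, goodF4.xG_add, ← add_assoc, show X + X = 0 by rw [← two_mul, S.two_zero, zero_mul],
    zero_add]

lemma neg_char (z : ℤ) (hz : z % 2 = 1) : (z : K) = 1 := by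
  rw [show z = 2 * (z / 2) + 1 by omega]
  simp [S.two_zero]

lemma n_mem (o : Fin 2) : goodF4.wordN (wordsF4 o) ∈ twistedF4 K (2 ^ m) := by
  have := S.char
  rw [goodF4.wordN_eq_word checksF4]
  fin_cases o
  · rw [goodF4.word_eq_of_modEq (p := 2) (w₂ := [(33, 1), (24, 1), (14, 1), (23, 1), (33, 1), (24, 1)])
      (by decide +kernel)]
    obtain ⟨h1, h2⟩ := S.pair_mem 1
    simp only [List.map_cons, List.map_nil, List.prod_cons, List.prod_nil, mul_one, Int.cast_one,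
      one_pow] at h1 h2 ⊢
    simp only [← mul_assoc]
    exact mul_assoc _ (goodF4.xG 33 (1 : K)) _ ▸ mul_mem (mul_assoc _ (goodF4.xG 14 (1 : K)) _ ▸
      mul_mem h1 h2) h1
  · rw [goodF4.word_eq_of_modEq (p := 2) (w₂ := [(27, 0), (25, 0), (28, 1), (30, 1), (20, 1),
      (22, 1), (19, 2), (17, 1), (27, 1), (25, 1), (28, 1), (30, 0)]) (by decide +kernel)]
    obtain ⟨h1, -⟩ := S.class_mem 0 1
    obtain ⟨-, h2⟩ := S.class_mem 1 1
    obtain ⟨h3, -⟩ := S.class_mem 1 0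
    have hne : (2 : ℕ) ^ m ≠ 0 := pow_ne_zero _ two_ne_zero
    simp only [one_pow, zero_pow hne, zero_pow (mul_ne_zero two_ne_zero hne),
      zero_pow (Nat.succ_ne_zero _), add_zero, zero_add, show (1 : K) + 1 = 2 by ring] at h1 h2 h3
    have h := mul_mem (mul_mem h1 h2) h3
    simp only [mul_assoc] at h
    simpa only [List.map_cons, List.map_nil, List.prod_cons, List.prod_nil, mul_one, Int.cast_one,
      Int.cast_zero, Int.cast_ofNat] using h

lemma acts_n (o : Fin 2) : goodF4.Acts (goodF4.wordN (F := K) (wordsF4 o)) (goodF4.wperm (wordsF4 o)) :=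
  goodF4.acts_wordN _

theorem mem_fixedMinus_pair {x : GL chevF4.Idx K}
    (hx : x ∈ S.T.fixedMinus (goodF4.wperm (wordsF4 0))) :
    ∃ t : K, x = goodF4.xG 24 t * goodF4.xG 33 (t ^ 2 ^ m) := by
  obtain ⟨hxf, hxm⟩ := hx
  obtain ⟨t, rfl⟩ := goodF4.exists_xAlong hasCommF4 (S.acts_n 0) (rs := minusF4 0) (by decide)
    (S.minusSet_w 0) hxm
  have hc := fun a b : K => goodF4.xG_commute_check hasCommF4 (r := 24) (s := 33) (by decide +kernel)
    (by decide +kernel) (by decide +kernel) a b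
  have e1 : ∀ v : ℕ → K, goodF4.xAlong (minusF4 0) v = goodF4.xG 24 (v 24) * goodF4.xG 33 (v 33) :=
    fun v => by simp [minusF4, Good.xAlong]
  have hm : goodF4.xG 33 (t 33) * goodF4.xG 24 (t 24) ∈ chevF4.group K :=
    mul_mem (goodF4.xG_mem_group (by decide +kernel) _) (goodF4.xG_mem_group (by decide +kernel) _)
  rw [e1, (hc _ _).eq] at hxf
  have h := S.T.eq_of_mem_fixed hxf hm
  rw [S.pair_σ (r := 33) (rb := 24) (by decide +kernel) (by decide +kernel) (by decide +kernel)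
    (by decide +kernel) (by decide +kernel) (by decide +kernel) (by decide +kernel), ← (hc _ _).eq,
    ← (hc _ _).eq] at h
  let v : ℕ → K := fun r => if r = 24 then t 33 ^ (2 * 2 ^ m) else t 24 ^ 2 ^ m
  have h' : goodF4.xAlong (minusF4 0) v = goodF4.xAlong (minusF4 0) t := by
    rw [e1, e1]; simpa [v] using h
  have h2 := goodF4.xAlong_inj (by decide) (Good.minus_list (S.minusSet_w 0)) h' 33 (by decide)
  exact ⟨t 24, by rw [e1, show t 33 = t 24 ^ 2 ^ m by rw [← h2]; simp [v]]⟩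

theorem mem_fixedMinus_class {x : GL chevF4.Idx K}
    (hx : x ∈ S.T.fixedMinus (goodF4.wperm (wordsF4 1))) :
    ∃ t u : K, x = goodF4.xG 25 t * (goodF4.xG 27 (t ^ 2 ^ m) * (goodF4.xG 28 u *
        goodF4.xG 30 (t ^ (2 * 2 ^ m + 1) + u ^ (2 * 2 ^ m)))) := by
  obtain ⟨hxf, hxm⟩ := hx
  obtain ⟨t, rfl⟩ := goodF4.exists_xAlong hasCommF4 (S.acts_n 1) (rs := minusF4 1) (by decide)
    (S.minusSet_w 1) hxm
  have hcc := fun x y : K => goodF4.xG_commute_check hasCommF4 (r := 28) (s := 30) (by decide +kernel)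
    (by decide +kernel) (by decide +kernel) x y
  have e1 : ∀ v : ℕ → K, goodF4.xAlong (minusF4 1) v = goodF4.xG 25 (v 25) * (goodF4.xG 27 (v 27) *
      (goodF4.xG 28 (v 28) * goodF4.xG 30 (v 30))) := fun v => by simp [minusF4, Good.xAlong]
  have hg := fun (r : ℕ) (hr : r < chevF4.nroots) (z : K) => goodF4.xG_mem_group (F := K) hr z
  have hm : goodF4.xG 25 (t 25) * (goodF4.xG 27 (t 27) *
      (goodF4.xG 28 (t 28) * goodF4.xG 30 (t 30))) ∈ chevF4.group K :=
    mul_mem (hg _ (by decide +kernel) _) (mul_mem (hg _ (by decide +kernel) _)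
      (mul_mem (hg _ (by decide +kernel) _) (hg _ (by decide +kernel) _)))
  rw [e1] at hxf
  have h := S.T.eq_of_mem_fixed hxf hm
  have e2 : (⟨_, hm⟩ : ↥(chevF4.group K)) =
      ⟨goodF4.xG 25 (t 25), hg _ (by decide +kernel) _⟩ * (⟨goodF4.xG 27 (t 27), hg _ (by decide +kernel) _⟩ *
      (⟨goodF4.xG 28 (t 28), hg _ (by decide +kernel) _⟩ *
        ⟨goodF4.xG 30 (t 30), hg _ (by decide +kernel) _⟩)) := Subtype.ext rfl
  rw [e2, map_mul, map_mul, map_mul, Subgroup.coe_mul, Subgroup.coe_mul, Subgroup.coe_mul,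
    S.σx (s := 27) (n := 1) (by decide +kernel) (by decide +kernel) (by decide +kernel),
    S.σx (s := 25) (n := 2) (by decide +kernel) (by decide +kernel) (by decide +kernel),
    S.σx (s := 30) (n := 2) (by decide +kernel) (by decide +kernel) (by decide +kernel),
    S.σx (s := 28) (n := 1) (by decide +kernel) (by decide +kernel) (by decide +kernel)] at h
  simp only [one_mul] at h
  set A := t 25 ^ 2 ^ m
  set B := t 27 ^ (2 * 2 ^ m)
  set C := t 28 ^ (2 * 2 ^ m)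
  set E := t 30 ^ 2 ^ m
  let v : ℕ → K := fun r => if r = 25 then B else if r = 27 then A else
    if r = 28 then A * B + E else A ^ 2 * B + C
  have hBA := S.swap' (a := 27) (b := 25) (ab := 28) (aab := 30) (by decide +kernel) (by decide +kernel)
    (by decide +kernel) (c := 1) (d := -1) (by decide +kernel) (by decide) (by decide +kernel)
    (by decide +kernel) (by decide +kernel) (by decide +kernel) (by decide +kernel) B A
  have h' : goodF4.xAlong (minusF4 1) v = goodF4.xAlong (minusF4 1) t := by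
    rw [e1, e1, ← h, ← mul_assoc (goodF4.xG 27 A), hBA]
    simp only [v, Nat.reduceEqDiff, if_true, if_false]
    rw [← goodF4.xG_add 28, ← goodF4.xG_add 30]
    simp only [mul_assoc]
    congr 3
    rw [← mul_assoc (goodF4.xG 28 E), (hcc E (A ^ 2 * B)).eq, mul_assoc, (hcc E C).eq]
  have hinj := goodF4.xAlong_inj (by decide) (Good.minus_list (S.minusSet_w 1)) h'
  have i25 : B = t 25 := by simpa [v] using hinj 25 (by decide)
  have i27 : A = t 27 := by simpa [v] using hinj 27 (by decide)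
  have i30 : A ^ 2 * B + C = t 30 := by simpa [v] using hinj 30 (by decide)
  refine ⟨t 25, t 28, ?_⟩
  rw [e1, ← i27, ← i30, i25]
  simp only [A, C, ← pow_mul, mul_comm (2 ^ m) 2, ← pow_succ]

/-- The twisted system of ²F₄. -/
noncomputable def sys : TwistSys S.T where
  G1 := twistedF4 K (2 ^ m)
  r := 2
  J o := {i | i ∈ orbsF4 o}
  w o := goodF4.wperm (wordsF4 o)
  n o := goodF4.wordN (wordsF4 o)
  le_fixed := S.gens_fixed
  cover := by
    have h : ∀ i : Fin chevF4.rank, ∃ o : Fin 2, (i : ℕ) ∈ orbsF4 o := by decide +kernel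
    exact h
  orbit o P hP i hi hPi j hj := by
    have h : ∀ o : Fin 2, ∀ i : Fin chevF4.rank, (i : ℕ) ∈ orbsF4 o → ∀ j : Fin chevF4.rank,
        (j : ℕ) ∈ orbsF4 o →
          i = j ∨ (rootSymOf goodF4 checksF4 structChecksF4 rhoIsoF4_ok).pi i = j := by decide +kernel
    rcases h o i hi j hj with rfl | rfl
    · exact hPi
    · rw [← S.Tpi]; exact hP i hPi
  w_mem o := (orbW_facts goodF4 checksF4 structChecksF4 rhoIsoF4_ok _ (orbWF4 o)).1
  w_neg o := (orbW_facts goodF4 checksF4 structChecksF4 rhoIsoF4_ok _ (orbWF4 o)).2.1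
  w_comm o := S.Tρ ▸ (orbW_facts goodF4 checksF4 structChecksF4 rhoIsoF4_ok _ (orbWF4 o)).2.2.1
  w_inj o o' h := by
    have h' := (S.minusSet_w o).symm.trans ((congrArg minusSet h).trans (S.minusSet_w o'))
    fin_cases o <;> fin_cases o' <;> first | rfl | exfalso
    · exact absurd ((Set.ext_iff.1 h' 24).1 (by decide)) (by decide)
    · exact absurd ((Set.ext_iff.1 h' 25).1 (by decide)) (by decide)
  nonempty := by
    have h : ∀ o : Fin 2, ∃ i : Fin chevF4.rank, (i : ℕ) ∈ orbsF4 o := by decide +kernel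
    exact h
  n_mem := S.n_mem
  n_monomial o := goodF4.wordN_mem _
  n_acts := S.acts_n
  base o := by
    fin_cases o
    · intro x hx
      obtain ⟨t, rfl⟩ := S.mem_fixedMinus_pair hx
      rw [(goodF4.xG_commute_check hasCommF4 (r := 24) (s := 33) (by decide +kernel)
        (by decide +kernel) (by decide +kernel) _ _).eq]
      exact (S.pair_mem t).1
    · intro x hx
      obtain ⟨t, u, rfl⟩ := S.mem_fixedMinus_class hx
      rw [← S.class_sorted]
      exact (S.class_mem t u).1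

end SetupF4

end CfsgLib.Chev
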