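import Mathlib
import Cfsg.Prelude.Def_LieTwisted
import Cfsg.Agent.Lib.Chev.TwistIso
import Cfsg.Agent.Lib.Chev.SigmaIsoTables

/-!
The twisted system of ²G₂.
-/

set_option autoImplicit false
set_option maxHeartbeats 800000
set_option maxRecDepth 100000
set_option linter.unusedSectionVars false

namespace CfsgLib.Chev

open Cfsg.Lie

/-- The twist of ²G₂ over a field of order `3 ^ (2 m + 1)`. -/
structure SetupG2 (K : Type*) [Field K] [Fintype K] (m : ℕ) where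
  /-- the twist -/
  T : Twist goodG2 K
  Tρ : T.ρ = (rootSymOf goodG2 checksG2 structChecksG2 rhoIsoG2_ok).ρ
  Tpi : T.pi = (rootSymOf goodG2 checksG2 structChecksG2 rhoIsoG2_ok).pi
  Tf : ∀ s t, T.f s t = t ^ (nth 0 isoG2.lam s * 3 ^ m)
  char : CharP K 3
  card : Fintype.card K = 3 ^ (2 * m + 1)

theorem exists_setupG2 (K : Type*) [Field K] [Fintype K] {m : ℕ}
    (hK : Fintype.card K = 3 ^ (2 * m + 1)) : Nonempty (SetupG2 K m) := by
  have := Fact.mk Nat.prime_three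
  have : CharP K 3 := charP_of_card_eq_prime_pow hK
  obtain ⟨T, h1, h2, h3⟩ := exists_isoTwist goodG2 checksG2 structChecksG2 rhoIsoG2_ok (p := 3)
    (m := m) (lam := isoG2.lam) (by decide +kernel) (exists_isogenyG2 K)
  exact ⟨⟨T, h1, h2, h3, inferInstance, hK⟩⟩

lemma twistedG2_eq (K : Type*) [Field K] (e : ℕ) : twistedG2 K e =
    Subgroup.closure {x | ∃ w ∈ g2Words K e, x = (w.map fun p => goodG2.xG p.1 p.2).prod} :=
  goodG2.genSubgroup_eq _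

/-- The word of the longest element. -/
def wordG2 : List (Fin chevG2.rank) :=
  [⟨0, by decide⟩, ⟨1, by decide⟩, ⟨0, by decide⟩, ⟨1, by decide⟩, ⟨0, by decide⟩, ⟨1, by decide⟩]

/-- The roots of `U`. -/
def minusG2 : List ℕ := [6, 7, 8, 9, 10, 11]

lemma orbWG2 : orbWOK chevG2 dataG2 sdataG2 rhoIsoG2 [0, 1] (wordG2.map Fin.val) minusG2 = true := by
  decide +kernel

lemma hasCommG2 : HasComm chevG2 := hasComm_of_mem (by simp)

/-- Six roots in the shape `a, b, a+b, 2a+b, 3a+b, 3a+2b`, with signs of the structure constants. -/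
structure SixG2 (r : Fin 6 → ℕ) (ε : ℤ) : Prop where
  lt : ∀ i, r i < chevG2.nroots
  rho : nth 0 rhoIsoG2.ρ (r 0) = r 1 ∧ nth 0 rhoIsoG2.ρ (r 1) = r 0 ∧ nth 0 rhoIsoG2.ρ (r 2) = r 4 ∧
    nth 0 rhoIsoG2.ρ (r 4) = r 2 ∧ nth 0 rhoIsoG2.ρ (r 3) = r 5 ∧ nth 0 rhoIsoG2.ρ (r 5) = r 3
  lam : nth 0 isoG2.lam (r 0) = 3 ∧ nth 0 isoG2.lam (r 1) = 1 ∧ nth 0 isoG2.lam (r 2) = 3 ∧
    nth 0 isoG2.lam (r 4) = 1 ∧ nth 0 isoG2.lam (r 3) = 3 ∧ nth 0 isoG2.lam (r 5) = 1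
  sgn : ε = 1 ∨ ε = -1
  ne : ∀ i j, i ≠ j → r i ≠ r j ∧ r i ≠ fneg chevG2 (r j)
  main : ∃ c₁ c₂ c₃ c₄ : ℤ, fterms chevG2 (r 1) (r 0) =
      [(r 2, c₁, 1, 1), (r 3, c₂, 1, 2), (r 4, c₃, 1, 3), (r 5, c₄, 2, 3)] ∧
    (c₁ - ε) % 3 = 0 ∧ (c₂ - 1) % 3 = 0 ∧ (c₃ + ε) % 3 = 0 ∧ (c₄ - 1) % 3 = 0
  ten : ∃ d : ℤ, fterms chevG2 (r 1) (r 4) = [(r 5, d, 1, 1)] ∧ (d - ε) % 3 = 0
  triv : ∀ p ∈ ([(1, 2), (1, 3), (1, 5), (2, 3), (2, 4), (2, 5), (3, 4), (3, 5), (4, 5)] :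
      List (Fin 6 × Fin 6)), ∀ c ∈ fterms chevG2 (r p.1) (r p.2), c.2.1 % 3 = 0

lemma six_pos : SixG2 ![7, 6, 8, 9, 10, 11] 1 :=
  ⟨by decide +kernel, by decide +kernel, by decide +kernel, Or.inl rfl, by decide +kernel,
    ⟨1, 1, -1, -2, by decide +kernel, by decide, by decide, by decide, by decide⟩,
    ⟨1, by decide +kernel, by decide⟩, by decide +kernel⟩

lemma six_neg : SixG2 ![4, 5, 3, 2, 1, 0] (-1) :=
  ⟨by decide +kernel, by decide +kernel, by decide +kernel, Or.inr rfl, by decide +kernel,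
    ⟨-1, 1, 1, -2, by decide +kernel, by decide, by decide, by decide, by decide⟩,
    ⟨-1, by decide +kernel, by decide⟩, by decide +kernel⟩

namespace SetupG2

variable {K : Type*} [Field K] [Fintype K] {m : ℕ} (S : SetupG2 K m)
include S

lemma minusSet_w : minusSet (goodG2.wperm wordG2) = {r | r ∈ minusG2} :=
  (orbW_facts goodG2 checksG2 structChecksG2 rhoIsoG2_ok _ orbWG2).2.2.2

lemma three_zero : (3 : K) = 0 := by
  have := S.char
  exact_mod_cast CharP.cast_eq_zero K 3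

lemma cast_eq_of_mod {a b : ℤ} (h : (a - b) % 3 = 0) : (a : K) = b := by
  obtain ⟨k, hk⟩ := Int.dvd_of_emod_eq_zero h
  rw [show a = b + 3 * k by omega]
  simp [S.three_zero]

lemma pow_q (t : K) : t ^ (3 * 3 ^ m * 3 ^ m) = t := by
  rw [show 3 * 3 ^ m * 3 ^ m = Fintype.card K by rw [S.card]; ring, FiniteField.pow_card]

lemma pow_add (a b : K) : (a + b) ^ (3 ^ m) = a ^ (3 ^ m) + b ^ (3 ^ m) := by
  have := S.char
  have := Fact.mk Nat.prime_three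
  exact add_pow_char_pow a b 3 m

lemma pow_add' (a b : K) : (a + b) ^ (3 * 3 ^ m) = a ^ (3 * 3 ^ m) + b ^ (3 * 3 ^ m) := by
  have := S.char
  have := Fact.mk Nat.prime_three
  rw [show 3 * 3 ^ m = 3 ^ (m + 1) by ring]
  exact add_pow_char_pow a b 3 (m + 1)

lemma odd_e : Odd (3 ^ m) := Odd.pow (by decide)

lemma sgn_pow {ε : ℤ} (hε : ε = 1 ∨ ε = -1) {n : ℕ} (hn : Odd n) : (ε : K) ^ n = ε := by
  rcases hε with rfl | rfl <;> simp [hn.neg_one_pow]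

/-- The image of a root element. -/
lemma σx {r s n : ℕ} (hr : r < chevG2.nroots) (hρ : nth 0 rhoIsoG2.ρ r = s)
    (hl : nth 0 isoG2.lam r = n) (t : K) (h : goodG2.xG r t ∈ chevG2.group K) :
    (S.T.σ ⟨goodG2.xG r t, h⟩ : GL chevG2.Idx K) = goodG2.xG s (t ^ (n * 3 ^ m)) := by
  rw [S.T.σ_xG hr, S.Tf, S.Tρ, ← hρ, ← hl]
  rfl

variable {r : Fin 6 → ℕ} {ε : ℤ}

lemma comm (h : SixG2 r ε) {i j : Fin 6}
    (hp : (i, j) ∈ ([(1, 2), (1, 3), (1, 5), (2, 3), (2, 4), (2, 5), (3, 4), (3, 5), (4, 5)] :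
      List (Fin 6 × Fin 6))) (a b : K) : Commute (goodG2.xG (r i) a) (goodG2.xG (r j) b) := by
  have hne : i ≠ j := by
    intro e; subst e; revert hp; revert i; decide
  obtain ⟨h1, h2⟩ := h.ne j i hne.symm
  have hc := goodG2.xG_conj hasCommG2 (h.lt j) (h.lt i) h1
    (neg_eq goodG2.lie.pack (h.lt i) ▸ h2) b a
  rw [← goodG2.fterms_eq (h.lt i) (h.lt j)] at hc
  rw [List.prod_eq_one (fun x hx => ?_), mul_one, mul_inv_eq_iff_eq_mul] at hc
  · exact hc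
  · obtain ⟨c, hc', rfl⟩ := List.mem_map.1 hx
    rw [S.cast_eq_of_mod (a := c.2.1) (b := 0) (by simpa using h.triv _ hp c hc'), Int.cast_zero,
      zero_mul, zero_mul, goodG2.xG_zero]

/-- The product of the last four elements. -/
noncomputable def four (r : Fin 6 → ℕ) (x : K × K × K × K) : GL chevG2.Idx K :=
  goodG2.xG (r 2) x.1 * (goodG2.xG (r 3) x.2.1 * (goodG2.xG (r 4) x.2.2.1 * goodG2.xG (r 5) x.2.2.2))

lemma four_mul (h : SixG2 r ε) (x y : K × K × K × K) :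
    four r x * four r y = four r (x + y) := by
  have c := fun {i j} hp a b => S.comm h (i := i) (j := j) hp a b
  simp only [four, Prod.fst_add, Prod.snd_add, ← goodG2.xG_add]
  set A := goodG2.xG (r 2) x.1
  set B := goodG2.xG (r 3) x.2.1
  set C := goodG2.xG (r 4) x.2.2.1
  set E := goodG2.xG (r 5) x.2.2.2
  set A' := goodG2.xG (r 2) y.1
  set B' := goodG2.xG (r 3) y.2.1
  set C' := goodG2.xG (r 4) y.2.2.1
  set E' := goodG2.xG (r 5) y.2.2.2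
  have e1 : Commute A' (B * (C * E)) :=
    (c (by decide) _ _).mul_right ((c (by decide) _ _).mul_right (c (by decide) _ _))
  have e2 : Commute B' (C * E) := (c (by decide) _ _).mul_right (c (by decide) _ _)
  have e3 : Commute C' E := c (by decide) _ _
  calc A * (B * (C * E)) * (A' * (B' * (C' * E'))) = A * ((B * (C * E)) * A') * (B' * (C' * E')) := by
        simp only [mul_assoc]
    _ = A * A' * (B * ((C * E) * B') * (C' * E')) := by rw [← e1.eq]; simp only [mul_assoc]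
    _ = A * A' * (B * B' * (C * (E * C') * E')) := by rw [← e2.eq]; simp only [mul_assoc]
    _ = _ := by rw [← e3.eq]; simp only [mul_assoc]

lemma four_zero : four r (0 : K × K × K × K) = 1 := by simp [four, goodG2.xG_zero]

/-- Reordering of the two first roots. -/
lemma swap (h : SixG2 r ε) (B A : K) :
    goodG2.xG (r 1) ((ε : K) * B) * goodG2.xG (r 0) ((ε : K) * A) =
      goodG2.xG (r 0) ((ε : K) * A) * goodG2.xG (r 1) ((ε : K) * B) *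
        four r ((ε : K) * (A * B), (ε : K) * (A ^ 2 * B), -((ε : K) * (A ^ 3 * B)),
          -((ε : K) * (A ^ 3 * B ^ 2))) := by
  obtain ⟨c₁, c₂, c₃, c₄, hterms, h1, h2, h3, h4⟩ := h.main
  obtain ⟨d, hd, h5⟩ := h.ten
  have hεε : (ε : K) * ε = 1 := by rcases h.sgn with rfl | rfl <;> simp
  obtain ⟨hn1, hn2⟩ := h.ne 0 1 (by decide)
  have hc := goodG2.xG_conj hasCommG2 (h.lt 0) (h.lt 1) hn1
    (neg_eq goodG2.lie.pack (h.lt 1) ▸ hn2) ((ε : K) * A) ((ε : K) * B)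
  rw [← goodG2.fterms_eq (h.lt 1) (h.lt 0), hterms] at hc
  simp only [List.map_cons, List.map_nil, List.prod_cons, List.prod_nil, mul_one, pow_one,
    S.cast_eq_of_mod h1, S.cast_eq_of_mod h2, S.cast_eq_of_mod h4,
    show (c₃ : K) = -(ε : K) by rw [S.cast_eq_of_mod (a := c₃) (b := -ε) (by simpa using h3)]; simp,
    Int.cast_one, one_mul] at hc
  rw [mul_inv_eq_iff_eq_mul, show (ε : K) * ((ε : K) * B) * ((ε : K) * A) = (ε : K) * (A * B) by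
      linear_combination ((ε : K) * A * B) * hεε,
    show (ε : K) * B * ((ε : K) * A) ^ 2 = (ε : K) * (A ^ 2 * B) by
      linear_combination ((ε : K) * A ^ 2 * B) * hεε,
    show -(ε : K) * ((ε : K) * B) * ((ε : K) * A) ^ 3 = -((ε : K) * (A ^ 3 * B)) by
      linear_combination (-((ε : K) * A ^ 3 * B) * ((ε : K) * ε + 1)) * hεε,
    show ((ε : K) * B) ^ 2 * ((ε : K) * A) ^ 3 = (ε : K) * (A ^ 3 * B ^ 2) by
      linear_combination ((ε : K) * A ^ 3 * B ^ 2 * ((ε : K) * ε + 1)) * hεε] at hc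
  obtain ⟨hm1, hm2⟩ := h.ne 4 1 (by decide)
  have ht := goodG2.xG_conj hasCommG2 (h.lt 4) (h.lt 1) hm1
    (neg_eq goodG2.lie.pack (h.lt 1) ▸ hm2) (-((ε : K) * (A ^ 3 * B))) ((ε : K) * B)
  rw [← goodG2.fterms_eq (h.lt 1) (h.lt 4), hd] at ht
  simp only [List.map_cons, List.map_nil, List.prod_cons, List.prod_nil, mul_one, pow_one,
    S.cast_eq_of_mod h5] at ht
  rw [mul_inv_eq_iff_eq_mul, show (ε : K) * ((ε : K) * B) * -((ε : K) * (A ^ 3 * B)) =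
    -((ε : K) * (A ^ 3 * B ^ 2)) by linear_combination (-((ε : K) * A ^ 3 * B ^ 2)) * hεε] at ht
  -- move the element of the second root to the left
  rw [hc, mul_assoc (goodG2.xG (r 0) _), mul_assoc (goodG2.xG (r 0) _)]
  congr 1
  simp only [four]
  set X := goodG2.xG (r 2) ((ε : K) * (A * B))
  set Y := goodG2.xG (r 3) ((ε : K) * (A ^ 2 * B))
  set b := goodG2.xG (r 1) ((ε : K) * B)
  set E := goodG2.xG (r 5) ((ε : K) * (A ^ 3 * B ^ 2))
  set Z := goodG2.xG (r 4) (-((ε : K) * (A ^ 3 * B)))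
  set E2 := goodG2.xG (r 5) (-((ε : K) * (A ^ 3 * B ^ 2))) with hE2
  have bX : Commute b X := S.comm h (i := 1) (j := 2) (by decide) _ _
  have bY : Commute b Y := S.comm h (i := 1) (j := 3) (by decide) _ _
  have bE : Commute b E := S.comm h (i := 1) (j := 5) (by decide) _ _
  have bE2 : Commute b E2 := S.comm h (i := 1) (j := 5) (by decide) _ _
  have hEE : E = E2 * E2 := by
    rw [hE2, goodG2.xG_add]
    show goodG2.xG (r 5) _ = goodG2.xG (r 5) _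
    congr 1
    linear_combination ((ε : K) * A ^ 3 * B ^ 2) * S.three_zero
  have hzb : Z * b = b * Z * E2⁻¹ := by
    rw [eq_mul_inv_iff_mul_eq, mul_assoc, bE2.eq, ← mul_assoc]; exact ht.symm
  calc X * (Y * (Z * E)) * b = X * (Y * (Z * (E * b))) := by simp only [mul_assoc]
    _ = X * (Y * (Z * b * E)) := by rw [← bE.eq]; simp only [mul_assoc]
    _ = X * (Y * (b * (Z * E2))) := by rw [hzb, hEE]; group
    _ = b * (X * (Y * (Z * E2))) := by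
      rw [← mul_assoc Y b, ← bY.eq, mul_assoc, ← mul_assoc X b, ← bX.eq, mul_assoc]

/-- Reordering in the other direction. -/
lemma swap' (h : SixG2 r ε) (B A : K) :
    goodG2.xG (r 0) ((ε : K) * A) * goodG2.xG (r 1) ((ε : K) * B) =
      goodG2.xG (r 1) ((ε : K) * B) * goodG2.xG (r 0) ((ε : K) * A) *
        four r (-((ε : K) * (A * B)), -((ε : K) * (A ^ 2 * B)), (ε : K) * (A ^ 3 * B),
          (ε : K) * (A ^ 3 * B ^ 2)) := by
  conv_rhs => rw [S.swap h, mul_assoc, S.four_mul h]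
  simp [four, goodG2.xG_zero]

/-- The image of a six-root product. -/
lemma six_σ (h : SixG2 r ε) (a b c d f k : K)
    (hx : goodG2.xG (r 0) ((ε : K) * a) * goodG2.xG (r 1) ((ε : K) * b) *
      four r ((ε : K) * c, (ε : K) * d, (ε : K) * f, (ε : K) * k) ∈ chevG2.group K) :
    (S.T.σ ⟨_, hx⟩ : GL chevG2.Idx K) =
      goodG2.xG (r 0) ((ε : K) * b ^ 3 ^ m) * goodG2.xG (r 1) ((ε : K) * a ^ (3 * 3 ^ m)) *
        four r ((ε : K) * (b ^ 3 ^ m * a ^ (3 * 3 ^ m) + f ^ 3 ^ m),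
          (ε : K) * ((b ^ 3 ^ m) ^ 2 * a ^ (3 * 3 ^ m) + k ^ 3 ^ m),
          (ε : K) * (-((b ^ 3 ^ m) ^ 3 * a ^ (3 * 3 ^ m)) + c ^ (3 * 3 ^ m)),
          (ε : K) * (-((b ^ 3 ^ m) ^ 3 * (a ^ (3 * 3 ^ m)) ^ 2) + d ^ (3 * 3 ^ m))) := by
  have hg := fun (i : Fin 6) (z : K) => goodG2.xG_mem_group (F := K) (h.lt i) z
  have e : (⟨_, hx⟩ : ↥(chevG2.group K)) =
      ⟨goodG2.xG (r 0) ((ε : K) * a), hg _ _⟩ * ⟨goodG2.xG (r 1) ((ε : K) * b), hg _ _⟩ *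
      (⟨goodG2.xG (r 2) ((ε : K) * c), hg _ _⟩ * (⟨goodG2.xG (r 3) ((ε : K) * d), hg _ _⟩ *
        (⟨goodG2.xG (r 4) ((ε : K) * f), hg _ _⟩ * ⟨goodG2.xG (r 5) ((ε : K) * k), hg _ _⟩))) :=
    Subtype.ext rfl
  have ho : Odd (3 * 3 ^ m) := (show Odd 3 by decide).mul S.odd_e
  rw [e]
  simp only [map_mul, Subgroup.coe_mul, S.σx (h.lt 0) h.rho.1 h.lam.1,
    S.σx (h.lt 1) h.rho.2.1 h.lam.2.1, S.σx (h.lt 2) h.rho.2.2.1 h.lam.2.2.1,
    S.σx (h.lt 4) h.rho.2.2.2.1 h.lam.2.2.2.1, S.σx (h.lt 3) h.rho.2.2.2.2.1 h.lam.2.2.2.2.1,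
    S.σx (h.lt 5) h.rho.2.2.2.2.2 h.lam.2.2.2.2.2, one_mul]
  simp only [mul_pow ((ε : K)), S.sgn_pow h.sgn ho, S.sgn_pow h.sgn S.odd_e]
  rw [S.swap h]
  set A := b ^ 3 ^ m
  set B := a ^ (3 * 3 ^ m)
  have e' : goodG2.xG (r 4) ((ε : K) * c ^ (3 * 3 ^ m)) * (goodG2.xG (r 5) ((ε : K) * d ^ (3 * 3 ^ m)) *
      (goodG2.xG (r 2) ((ε : K) * f ^ 3 ^ m) * goodG2.xG (r 3) ((ε : K) * k ^ 3 ^ m))) =
      four r ((ε : K) * f ^ 3 ^ m, (ε : K) * k ^ 3 ^ m, (ε : K) * c ^ (3 * 3 ^ m),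
        (ε : K) * d ^ (3 * 3 ^ m)) := by
    set P := goodG2.xG (r 4) ((ε : K) * c ^ (3 * 3 ^ m))
    set Q := goodG2.xG (r 5) ((ε : K) * d ^ (3 * 3 ^ m))
    set R := goodG2.xG (r 2) ((ε : K) * f ^ 3 ^ m)
    set U := goodG2.xG (r 3) ((ε : K) * k ^ 3 ^ m)
    have c1 : Commute (R * U) (P * Q) :=
      ((S.comm h (i := 2) (j := 4) (by decide) _ _).mul_left (S.comm h (i := 3) (j := 4) (by decide) _ _)).mul_right
      ((S.comm h (i := 2) (j := 5) (by decide) _ _).mul_left (S.comm h (i := 3) (j := 5) (by decide) _ _))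
    rw [four]
    calc P * (Q * (R * U)) = P * Q * (R * U) := (mul_assoc _ _ _).symm
      _ = R * U * (P * Q) := c1.eq.symm
      _ = _ := mul_assoc _ _ _
  rw [e', mul_assoc (goodG2.xG (r 0) _ * _), S.four_mul h]
  simp only [Prod.mk_add_mk, mul_add, mul_neg]

lemma six_fixed (h : SixG2 r ε) (t u v : K) :
    goodG2.xG (r 0) ((ε : K) * t ^ 3 ^ m) * goodG2.xG (r 1) ((ε : K) * t) *
      four r ((ε : K) * (t ^ (3 ^ m + 1) + u ^ 3 ^ m), (ε : K) * (t ^ (2 * 3 ^ m + 1) + v ^ 3 ^ m),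
        (ε : K) * u, (ε : K) * v) ∈ S.T.fixed := by
  have hg := fun (i : Fin 6) (z : K) => goodG2.xG_mem_group (F := K) (h.lt i) z
  refine S.T.mem_fixed_of_eq (mul_mem (mul_mem (hg _ _) (hg _ _))
    (mul_mem (hg _ _) (mul_mem (hg _ _) (mul_mem (hg _ _) (hg _ _))))) ?_
  rw [S.six_σ h, show (t ^ 3 ^ m) ^ (3 * 3 ^ m) = t by
    rw [← pow_mul, show 3 ^ m * (3 * 3 ^ m) = 3 * 3 ^ m * 3 ^ m by ring, S.pow_q]]
  have e3 : (t ^ (3 ^ m + 1) + u ^ 3 ^ m) ^ (3 * 3 ^ m) = t ^ (3 * 3 ^ m) * t + u := by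
    rw [S.pow_add', ← pow_mul, ← pow_mul, show (3 ^ m + 1) * (3 * 3 ^ m) =
      3 * 3 ^ m * 3 ^ m + 3 * 3 ^ m by ring, _root_.pow_add,
      show 3 ^ m * (3 * 3 ^ m) = 3 * 3 ^ m * 3 ^ m by ring, S.pow_q, S.pow_q, mul_comm]
  have e4 : (t ^ (2 * 3 ^ m + 1) + v ^ 3 ^ m) ^ (3 * 3 ^ m) = t ^ 2 * t ^ (3 * 3 ^ m) + v := by
    rw [S.pow_add', ← pow_mul, ← pow_mul, show (2 * 3 ^ m + 1) * (3 * 3 ^ m) =
      3 * 3 ^ m * 3 ^ m * 2 + 3 * 3 ^ m by ring, _root_.pow_add, pow_mul t _ 2,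
      show 3 ^ m * (3 * 3 ^ m) = 3 * 3 ^ m * 3 ^ m by ring, S.pow_q, S.pow_q]
  rw [e3, e4]
  congr 2
  simp only [Prod.mk.injEq]
  refine ⟨?_, ?_, ?_, ?_⟩ <;> ring

lemma word_eq (t u v : K) :
    ((reeWordU (3 ^ m) t u v).map fun p => goodG2.xG p.1 p.2).prod =
      goodG2.xG 7 (t ^ 3 ^ m) * goodG2.xG 6 t * four ![7, 6, 8, 9, 10, 11]
        (t ^ (3 ^ m + 1) + u ^ 3 ^ m, t ^ (2 * 3 ^ m + 1) + v ^ 3 ^ m, u, v) := by
  simp only [reeWordU, g2a, g2b, g2ab, g2aab, g2aaab, g2aaabb, List.map_cons, List.map_nil,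
    List.prod_cons, List.prod_nil, mul_one, four, ← mul_assoc]
  rfl

lemma wordV_eq (t u v : K) :
    ((reeWordV (3 ^ m) t u v).map fun p => goodG2.xG p.1 p.2).prod =
      goodG2.xG 4 (-(t ^ 3 ^ m)) * goodG2.xG 5 (-t) * four ![4, 5, 3, 2, 1, 0]
        (-(t ^ (3 ^ m + 1) + u ^ 3 ^ m), -(t ^ (2 * 3 ^ m + 1) + v ^ 3 ^ m), -u, -v) := by
  simp only [reeWordV, reeWordU, ChevalleyDatum.negWord, g2a, g2b, g2ab, g2aab, g2aaab, g2aaabb,
    List.map_cons, List.map_nil, List.prod_cons, List.prod_nil, mul_one, four, ← mul_assoc]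
  have hn : chevG2.negIdx.getD 7 0 = 4 ∧ chevG2.negIdx.getD 6 0 = 5 ∧ chevG2.negIdx.getD 8 0 = 3 ∧
      chevG2.negIdx.getD 9 0 = 2 ∧ chevG2.negIdx.getD 10 0 = 1 ∧ chevG2.negIdx.getD 11 0 = 0 := by
    decide +kernel
  simp only [hn]
  rfl

lemma gens_fixed : twistedG2 K (3 ^ m) ≤ S.T.fixed := by
  rw [twistedG2_eq, Subgroup.closure_le]
  rintro x ⟨w, ⟨t, u, v, rfl | rfl⟩, rfl⟩
  · rw [SetLike.mem_coe, S.word_eq]
    have h := S.six_fixed six_pos t u v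
    simp only [Int.cast_one, one_mul] at h
    exact h
  · rw [SetLike.mem_coe, S.wordV_eq]
    have h := S.six_fixed six_neg t u v
    simp only [Int.cast_neg, Int.cast_one, neg_mul, one_mul] at h
    exact h

lemma word_mem (t u v : K) :
    goodG2.xG 7 (t ^ 3 ^ m) * goodG2.xG 6 t * four ![7, 6, 8, 9, 10, 11]
        (t ^ (3 ^ m + 1) + u ^ 3 ^ m, t ^ (2 * 3 ^ m + 1) + v ^ 3 ^ m, u, v) ∈ twistedG2 K (3 ^ m) ∧
      goodG2.xG 4 (-(t ^ 3 ^ m)) * goodG2.xG 5 (-t) * four ![4, 5, 3, 2, 1, 0]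
        (-(t ^ (3 ^ m + 1) + u ^ 3 ^ m), -(t ^ (2 * 3 ^ m + 1) + v ^ 3 ^ m), -u, -v) ∈
          twistedG2 K (3 ^ m) := by
  rw [← S.word_eq, ← S.wordV_eq, twistedG2_eq]
  exact ⟨Subgroup.subset_closure ⟨_, ⟨t, u, v, Or.inl rfl⟩, rfl⟩,
    Subgroup.subset_closure ⟨_, ⟨t, u, v, Or.inr rfl⟩, rfl⟩⟩

lemma neg_one_pows :
    (-1 : K) ^ 3 ^ m = -1 ∧ (-1 : K) ^ (3 ^ m + 1) = 1 ∧ (-1 : K) ^ (2 * 3 ^ m + 1) = -1 :=
  ⟨S.odd_e.neg_one_pow, Even.neg_one_pow (S.odd_e.add_odd odd_one),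
    Odd.neg_one_pow ((even_two_mul _).add_one)⟩

lemma n_mem : goodG2.wordN wordG2 ∈ twistedG2 K (3 ^ m) := by
  have := S.char
  rw [goodG2.wordN_eq_word checksG2, goodG2.word_eq_of_modEq (p := 3) (w₂ := [(7, 0), (6, 0), (8, 0),
    (9, 1), (10, 0), (11, 1), (4, 1), (5, 1), (3, 0), (2, 2), (1, 1), (0, 1), (7, -1), (6, -1),
    (8, 1), (9, 0), (10, 0), (11, 1)]) (by decide +kernel)]
  obtain ⟨h1, -⟩ := S.word_mem 0 0 1
  obtain ⟨-, h2⟩ := S.word_mem (-1) (-1) (-1)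
  obtain ⟨h3, -⟩ := S.word_mem (-1) 0 1
  obtain ⟨e1, e2, e3⟩ := S.neg_one_pows
  have hne : (3 : ℕ) ^ m ≠ 0 := pow_ne_zero _ three_ne_zero
  simp only [four, one_pow, zero_pow hne, zero_pow (Nat.succ_ne_zero _), e1, e2, e3, add_zero,
    zero_add, add_neg_cancel, neg_add_rev, neg_neg, neg_add_cancel, neg_zero,
    show (1 : K) + 1 = 2 by ring] at h1 h2 h3
  have h := mul_mem (mul_mem h1 h2) h3
  simp only [mul_assoc] at h
  simpa using h

lemma inv_mem : goodG2.hG 7 (-1) * goodG2.hG 6 (-1) ∈ twistedG2 K (3 ^ m) := by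
  have := S.char
  have e : (goodG2.hG 7 (-1) * goodG2.hG 6 (-1) : GL chevG2.Idx K) =
      (([(7, -1), (4, 1), (7, -1), (7, -1), (4, 1), (7, -1), (6, -1), (5, 1), (6, -1), (6, -1), (5, 1),
        (6, -1)] : List (ℕ × ℤ)).map fun a => goodG2.xG a.1 (a.2 : K)).prod := by
    rw [goodG2.hG_eq (by decide +kernel), goodG2.hG_eq (by decide +kernel), Good.nG, Good.nG,
      show chevG2.neg 7 = 4 by decide +kernel, show chevG2.neg 6 = 5 by decide +kernel]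
    simp [mul_assoc]
  rw [e, goodG2.word_eq_of_modEq (p := 3) (w₂ := [(7, 0), (6, 0), (8, 0), (9, 1), (10, 0), (11, 1),
    (4, 0), (5, 0), (3, 0), (2, -1), (1, 0), (0, -1), (7, 1), (6, 1), (8, 2), (9, 2), (10, 1), (11, 1),
    (4, 1), (5, 1), (3, -2), (2, 2), (1, -1), (0, 1)]) (by decide +kernel)]
  obtain ⟨h1, h2⟩ := S.word_mem 0 0 1
  obtain ⟨h3, -⟩ := S.word_mem 1 1 1
  obtain ⟨-, h4⟩ := S.word_mem (-1) 1 (-1)
  obtain ⟨e1, e2, e3⟩ := S.neg_one_pows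
  have hne : (3 : ℕ) ^ m ≠ 0 := pow_ne_zero _ three_ne_zero
  simp only [four, one_pow, zero_pow hne, zero_pow (Nat.succ_ne_zero _), e1, e2, e3, add_zero,
    zero_add, neg_neg, neg_zero, show (1 : K) + 1 = 2 by ring,
    show (-1 : K) + -1 = -2 by ring] at h1 h2 h3 h4
  have h := mul_mem (mul_mem (mul_mem h1 h2) h3) h4
  simp only [mul_assoc] at h
  simpa using h

theorem mem_fixedMinus {x : GL chevG2.Idx K} (hx : x ∈ S.T.fixedMinus (goodG2.wperm wordG2)) :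
    ∃ t u v : K, x = ((reeWordU (3 ^ m) t u v).map fun p => goodG2.xG p.1 p.2).prod := by
  obtain ⟨hxf, hxm⟩ := hx
  obtain ⟨w, rfl⟩ := goodG2.exists_xAlong hasCommG2 (goodG2.acts_wordN _) (rs := minusG2) (by decide)
    S.minusSet_w hxm
  set r : Fin 6 → ℕ := ![7, 6, 8, 9, 10, 11] with hr
  have e1 : ∀ v : ℕ → K, goodG2.xAlong minusG2 v =
      goodG2.xG 6 (v 6) * goodG2.xG 7 (v 7) * four r (v 8, v 9, v 10, v 11) := fun v => by
    simp [minusG2, Good.xAlong, four, r, mul_assoc]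
  have hsw : ∀ B A : K, ∀ z : K × K × K × K, goodG2.xG 6 B * goodG2.xG 7 A * four r z =
      goodG2.xG 7 A * goodG2.xG 6 B *
        four r ((A * B, A ^ 2 * B, -(A ^ 3 * B), -(A ^ 3 * B ^ 2)) + z) := by
    intro B A z
    have h := S.swap six_pos B A
    simp only [Int.cast_one, one_mul] at h
    rw [show goodG2.xG 6 B * goodG2.xG 7 A = _ from h, mul_assoc, ← hr, S.four_mul six_pos]
    rfl
  have hsw' : ∀ B A : K, ∀ z : K × K × K × K, goodG2.xG 7 A * goodG2.xG 6 B * four r z =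
      goodG2.xG 6 B * goodG2.xG 7 A *
        four r ((-(A * B), -(A ^ 2 * B), A ^ 3 * B, A ^ 3 * B ^ 2) + z) := by
    intro B A z
    have h := S.swap' six_pos B A
    simp only [Int.cast_one, one_mul] at h
    rw [show goodG2.xG 7 A * goodG2.xG 6 B = _ from h, mul_assoc, ← hr, S.four_mul six_pos]
    rfl
  have hx' : goodG2.xAlong minusG2 w = goodG2.xG 7 (w 7) * goodG2.xG 6 (w 6) *
      four r (w 7 * w 6 + w 8, w 7 ^ 2 * w 6 + w 9, -(w 7 ^ 3 * w 6) + w 10,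
        -(w 7 ^ 3 * w 6 ^ 2) + w 11) := by rw [e1, hsw]; rfl
  have hm : goodG2.xAlong minusG2 w ∈ chevG2.group K := S.T.fixed_le hxf
  have h := S.T.eq_of_mem_fixed hxf hm
  have h2 : (⟨goodG2.xAlong minusG2 w, hm⟩ : ↥(chevG2.group K)) =
      ⟨_, hx' ▸ hm⟩ := Subtype.ext hx'
  have h3 := S.six_σ six_pos (w 7) (w 6) (w 7 * w 6 + w 8) (w 7 ^ 2 * w 6 + w 9)
    (-(w 7 ^ 3 * w 6) + w 10) (-(w 7 ^ 3 * w 6 ^ 2) + w 11)
  simp only [Int.cast_one, one_mul, ← hr] at h3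
  rw [h2] at h
  have h4 := (h3 (hx' ▸ hm :)).symm.trans h
  set A := w 6 ^ 3 ^ m
  set B := w 7 ^ (3 * 3 ^ m)
  rw [show r 0 = 7 from rfl, show r 1 = 6 from rfl, hsw'] at h4
  have hi : ∀ z : ℕ → K, goodG2.xAlong minusG2 z = goodG2.xAlong minusG2 w →
      ∀ i ∈ minusG2, z i = w i := fun z hz =>
    goodG2.xAlong_inj (by decide) (Good.minus_list S.minusSet_w) hz
  let z : ℕ → K := fun i => if i = 6 then B else if i = 7 then A else
    if i = 8 then -(A * B) + (A * B + (-(w 7 ^ 3 * w 6) + w 10) ^ 3 ^ m) else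
    if i = 9 then -(A ^ 2 * B) + (A ^ 2 * B + (-(w 7 ^ 3 * w 6 ^ 2) + w 11) ^ 3 ^ m) else
    if i = 10 then A ^ 3 * B + (-(A ^ 3 * B) + (w 7 * w 6 + w 8) ^ (3 * 3 ^ m)) else
    A ^ 3 * B ^ 2 + (-(A ^ 3 * B ^ 2) + (w 7 ^ 2 * w 6 + w 9) ^ (3 * 3 ^ m))
  have hz : goodG2.xAlong minusG2 z = goodG2.xAlong minusG2 w := by
    rw [e1]
    simp only [z, Nat.reduceEqDiff, if_true, if_false]
    exact h4
  have i7 : A = w 7 := by simpa [z] using hi z hz 7 (by decide)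
  have i8 : (-(w 7 ^ 3 * w 6) + w 10) ^ 3 ^ m = w 8 := by
    simpa [z] using hi z hz 8 (by decide)
  have i9 : (-(w 7 ^ 3 * w 6 ^ 2) + w 11) ^ 3 ^ m = w 9 := by
    simpa [z] using hi z hz 9 (by decide)
  refine ⟨w 6, -(w 7 ^ 3 * w 6) + w 10, -(w 7 ^ 3 * w 6 ^ 2) + w 11, ?_⟩
  rw [hx', S.word_eq, i8, i9, show w 6 ^ 3 ^ m = w 7 from i7]
  simp only [← hr, pow_succ, mul_comm 2 (3 ^ m), pow_mul, show w 6 ^ 3 ^ m = w 7 from i7,
    pow_zero, one_mul]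

/-- The twisted system of ²G₂. -/
noncomputable def sys : TwistSys S.T where
  G1 := twistedG2 K (3 ^ m)
  r := 1
  J _ := {i | i ∈ [0, 1]}
  w _ := goodG2.wperm wordG2
  n _ := goodG2.wordN wordG2
  le_fixed := S.gens_fixed
  cover := by
    have h : ∀ i : Fin chevG2.rank, ∃ _ : Fin 1, (i : ℕ) ∈ [0, 1] := by decide +kernel
    exact h
  orbit o P hP i hi hPi j hj := by
    have h : ∀ i : Fin chevG2.rank, ∀ j : Fin chevG2.rank,
          i = j ∨ (rootSymOf goodG2 checksG2 structChecksG2 rhoIsoG2_ok).pi i = j := by decide +kernel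
    rcases h i j with rfl | rfl
    · exact hPi
    · rw [← S.Tpi]; exact hP i hPi
  w_mem _ := (orbW_facts goodG2 checksG2 structChecksG2 rhoIsoG2_ok _ orbWG2).1
  w_neg _ := (orbW_facts goodG2 checksG2 structChecksG2 rhoIsoG2_ok _ orbWG2).2.1
  w_comm _ := S.Tρ ▸ (orbW_facts goodG2 checksG2 structChecksG2 rhoIsoG2_ok _ orbWG2).2.2.1
  w_inj o o' _ := Subsingleton.elim o o'
  nonempty _ := ⟨⟨0, by decide⟩, by decide⟩
  n_mem _ := S.n_mem
  n_monomial _ := goodG2.wordN_mem _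
  n_acts _ := goodG2.acts_wordN _
  base _ := by
    intro x hx
    obtain ⟨t, u, v, rfl⟩ := S.mem_fixedMinus hx
    rw [S.word_eq]
    exact (S.word_mem t u v).1

end SetupG2

end CfsgLib.Chev
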