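import Cfsg.Agent.Lib.Chev.TwistSum

/-!
Tables of the fixed Weyl groups of ²F₄ and ²G₂.
-/

set_option autoImplicit false
set_option maxRecDepth 100000

namespace CfsgLib.Chev

open Cfsg.Lie

/-- The table of the fixed Weyl group of F4. -/
def wtabF4 : WTab where
  width := 4
  size := 16
  img := [
    [[33,27,25,24],[14,34,26,23],[37,20,22,32],[10,35,31,15]],
    [[38,13,21,43],[9,29,41,4],[39,12,16,45],[8,29,41,2]],
    [[39,18,6,45],[8,35,31,2],[38,18,6,43],[9,34,26,4]],
    [[37,12,16,32],[10,27,25,15],[33,13,21,24],[14,20,22,23]]]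
  nx := [
    [[1,2],[0,3],[4,0],[5,1]],
    [[2,6],[3,7],[8,4],[9,5]],
    [[6,10],[7,11],[12,8],[13,9]],
    [[10,14],[11,15],[15,12],[14,13]]]
  deg := [
    [0,2,4,6],
    [6,8,10,12],
    [12,14,16,18],
    [18,20,22,24]]

/-- The table of the fixed Weyl group of G2. -/
def wtabG2 : WTab where
  width := 2
  size := 2
  img := [
    [[7,6],[4,5]]]
  nx := [
    [[1],[0]]]
  deg := [
    [0,6]]

theorem wtabF4_ok : wtabOK chevF4 dataF4 sdataF4 [[0, 3], [1, 2, 1, 2]] wtabF4 = true := by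
  decide +kernel

theorem wtabG2_ok : wtabOK chevG2 dataG2 sdataG2 [[0, 1, 0, 1, 0, 1]] wtabG2 = true := by
  decide +kernel

end CfsgLib.Chev
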