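import Mathlib
import Cfsg.Agent.Lib.Chev.TwistF4
import Cfsg.Agent.Lib.Chev.TwistG2
import Cfsg.Agent.Lib.Chev.TwistWTablesFG

/-!
Fixed rank-one pieces, (B, N)-pairs and the unipotent subgroups of ²F₄ and ²G₂.
-/

set_option autoImplicit false
set_option maxHeartbeats 800000
set_option maxRecDepth 100000
set_option linter.unusedSectionVars false

namespace CfsgLib.Chev

open Cfsg.Lie

namespace SetupF4

variable {K : Type*} [Field K] [Fintype K] {m : ℕ} (S : SetupF4 K m)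
include S

lemma pair_in (t : K) :
    goodF4.xG 24 t * goodF4.xG 33 (t ^ 2 ^ m) ∈ S.T.fixedMinus (goodF4.wperm (wordsF4 0)) := by
  refine Subgroup.mem_inf.2 ⟨?_, ?_⟩
  · rw [(goodF4.xG_commute_check hasCommF4 (r := 24) (s := 33) (by decide +kernel)
      (by decide +kernel) (by decide +kernel) _ _).eq]
    exact S.gens_fixed (S.pair_mem t).1
  · rw [S.minusSet_w 0]
    exact mul_mem (goodF4.mem_rootGen (by decide +kernel) (show 24 ∈ minusF4 0 by decide) _)
      (goodF4.mem_rootGen (by decide +kernel) (show 33 ∈ minusF4 0 by decide) _)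

lemma class_in (t u : K) :
    goodF4.xG 25 t * (goodF4.xG 27 (t ^ 2 ^ m) * (goodF4.xG 28 u *
      goodF4.xG 30 (t ^ (2 * 2 ^ m + 1) + u ^ (2 * 2 ^ m)))) ∈
        S.T.fixedMinus (goodF4.wperm (wordsF4 1)) := by
  refine Subgroup.mem_inf.2 ⟨?_, ?_⟩
  · rw [← S.class_sorted]
    exact S.gens_fixed (S.class_mem t u).1
  · rw [S.minusSet_w 1]
    exact mul_mem (goodF4.mem_rootGen (by decide +kernel) (show 25 ∈ minusF4 1 by decide) _)
      (mul_mem (goodF4.mem_rootGen (by decide +kernel) (show 27 ∈ minusF4 1 by decide) _)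
      (mul_mem (goodF4.mem_rootGen (by decide +kernel) (show 28 ∈ minusF4 1 by decide) _)
        (goodF4.mem_rootGen (by decide +kernel) (show 30 ∈ minusF4 1 by decide) _)))

lemma pair_inj {a b a' b' : K}
    (h : goodF4.xG 24 a * goodF4.xG 33 b = goodF4.xG 24 a' * goodF4.xG 33 b') : a = a' ∧ b = b' := by
  have e : ∀ v : ℕ → K, goodF4.xAlong (minusF4 0) v = goodF4.xG 24 (v 24) * goodF4.xG 33 (v 33) :=
    fun v => by simp [minusF4, Good.xAlong]
  have h' := goodF4.xAlong_inj (by decide) (Good.minus_list (S.minusSet_w 0))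
    (t := fun r => if r = 24 then a else b) (u := fun r => if r = 24 then a' else b')
    (by rw [e, e]; simpa using h)
  exact ⟨by simpa using h' 24 (by decide), by simpa using h' 33 (by decide)⟩

lemma class_inj {a b c d a' b' c' d' : K}
    (h : goodF4.xG 25 a * (goodF4.xG 27 b * (goodF4.xG 28 c * goodF4.xG 30 d)) =
      goodF4.xG 25 a' * (goodF4.xG 27 b' * (goodF4.xG 28 c' * goodF4.xG 30 d'))) :
    a = a' ∧ b = b' ∧ c = c' := by
  have e : ∀ v : ℕ → K, goodF4.xAlong (minusF4 1) v = goodF4.xG 25 (v 25) * (goodF4.xG 27 (v 27) *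
      (goodF4.xG 28 (v 28) * goodF4.xG 30 (v 30))) := fun v => by simp [minusF4, Good.xAlong]
  have h' := goodF4.xAlong_inj (by decide) (Good.minus_list (S.minusSet_w 1))
    (t := fun r => if r = 25 then a else if r = 27 then b else if r = 28 then c else d)
    (u := fun r => if r = 25 then a' else if r = 27 then b' else if r = 28 then c' else d')
    (by rw [e, e]; simpa using h)
  exact ⟨by simpa using h' 25 (by decide), by simpa using h' 27 (by decide),
    by simpa using h' 28 (by decide)⟩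

theorem card_w0 : Nat.card (S.T.fixedMinus (goodF4.wperm (wordsF4 0))) = 2 ^ (2 * m + 1) := by
  let f : K → ↥(S.T.fixedMinus (goodF4.wperm (wordsF4 0))) := fun t => ⟨_, S.pair_in t⟩
  rw [← Nat.card_eq_of_bijective f ⟨fun a b h => (S.pair_inj (congrArg Subtype.val h)).1, fun x => ?_⟩,
    Nat.card_eq_fintype_card, S.card]
  obtain ⟨t, ht⟩ := S.mem_fixedMinus_pair x.2
  exact ⟨t, Subtype.ext ht.symm⟩

theorem card_w1 : Nat.card (S.T.fixedMinus (goodF4.wperm (wordsF4 1))) = (2 ^ (2 * m + 1)) ^ 2 := by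
  let f : K × K → ↥(S.T.fixedMinus (goodF4.wperm (wordsF4 1))) := fun p => ⟨_, S.class_in p.1 p.2⟩
  rw [← Nat.card_eq_of_bijective f ⟨fun a b h => ?_, fun x => ?_⟩, Nat.card_prod,
    Nat.card_eq_fintype_card, S.card, sq]
  · obtain ⟨h1, -, h2⟩ := S.class_inj (congrArg Subtype.val h)
    exact Prod.ext h1 h2
  · obtain ⟨t, u, ht⟩ := S.mem_fixedMinus_class x.2
    exact ⟨(t, u), Subtype.ext ht.symm⟩

theorem card_base (o : Fin 2) : Nat.card (S.T.fixedMinus (goodF4.wperm (wordsF4 o))) ^ 2 =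
    (2 ^ (2 * m + 1)) ^ ninv chevF4 (goodF4.wperm (wordsF4 o)) := by
  rw [Good.ninv_of_minus (show (minusF4 o).Nodup by fin_cases o <;> decide) (S.minusSet_w o)]
  fin_cases o
  · exact congrArg (· ^ 2) S.card_w0
  · exact (congrArg (· ^ 2) S.card_w1).trans (pow_mul _ 2 2).symm

theorem hnt (o : Fin S.sys.r) : S.T.fixedMinus (S.sys.w o) ≠ ⊥ := by
  intro h
  have hl : ∀ o : Fin 2, (minusF4 o).Nodup ∧ (minusF4 o).length ≠ 0 := by decide
  have h1 := S.card_base o
  have h2 : Nat.card (S.T.fixedMinus (goodF4.wperm (wordsF4 o))) = 1 := by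
    rw [show S.T.fixedMinus (goodF4.wperm (wordsF4 o)) = ⊥ from h, Subgroup.card_bot]
  rw [h2, one_pow, Good.ninv_of_minus (hl o).1 (S.minusSet_w o)]
    at h1
  have h3 : 1 < 2 ^ (2 * m + 1) := Nat.one_lt_two_pow (by omega)
  exact absurd h1 (Nat.one_lt_pow (hl o).2 h3).ne

theorem separates : S.sys.Separates := by
  intro h hh hcomm i
  rw [goodF4.diagonal_eq_range] at hh
  obtain ⟨c, rfl⟩ := hh
  have hconj : ∀ r : ℕ, r < chevF4.nroots → ∀ t : K,
      torHom chevF4 K c * goodF4.xG r t * (torHom chevF4 K c)⁻¹ =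
        goodF4.xG r (((∏ i : Fin chevF4.rank, c i ^ chevF4.cartan i r : Kˣ) : K) * t) := fun r hr t =>
    goodF4.torHom_conj_xG c hr t
  have h0 := hcomm (0 : Fin 2) _ (S.pair_in 1)
  rw [one_pow, ← mul_inv_eq_iff_eq_mul] at h0
  have h1 := hcomm (1 : Fin 2) _ (S.class_in 1 0)
  simp only [one_pow, zero_pow (mul_ne_zero two_ne_zero (pow_ne_zero m two_ne_zero)), add_zero,
    goodF4.xG_zero, one_mul] at h1
  rw [← mul_inv_eq_iff_eq_mul] at h1
  set z := torHom chevF4 K c with hz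
  have e0 : z * goodF4.xG 24 1 * z⁻¹ * (z * goodF4.xG 33 1 * z⁻¹) =
      goodF4.xG 24 (1 : K) * goodF4.xG 33 1 := by
    rw [← h0]; group
  rw [hconj _ (by decide +kernel), hconj _ (by decide +kernel)] at e0
  have e1 : z * goodF4.xG 25 1 * z⁻¹ * (z * goodF4.xG 27 1 * z⁻¹ * (goodF4.xG 28 0 *
      (z * goodF4.xG 30 1 * z⁻¹))) =
      goodF4.xG 25 (1 : K) * (goodF4.xG 27 1 * (goodF4.xG 28 0 * goodF4.xG 30 1)) := by
    rw [goodF4.xG_zero, one_mul, one_mul, ← h1]; group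
  rw [hconj _ (by decide +kernel), hconj _ (by decide +kernel), hconj _ (by decide +kernel)] at e1
  obtain ⟨p24, p33⟩ := S.pair_inj e0
  obtain ⟨p25, p27, -⟩ := S.class_inj e1
  simp only [mul_one] at p24 p33 p25 p27
  have hs : ∀ i : Fin chevF4.rank, chevF4.simple i ∈ [24, 33, 25, 27] := by decide +kernel
  show z * goodF4.xG (chevF4.simple i) (1 : K) * z⁻¹ = goodF4.xG (chevF4.simple i) 1
  rw [hconj _ (goodF4.simple_lt i.2), mul_one]
  have hi := hs i
  simp only [List.mem_cons, List.not_mem_nil, or_false] at hi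
  rcases hi with e | e | e | e <;> rw [e]
  · rw [p24]
  · rw [p33]
  · rw [p25]
  · rw [p27]

end SetupF4

namespace SetupG2

variable {K : Type*} [Field K] [Fintype K] {m : ℕ} (S : SetupG2 K m)
include S

/-- A word in ascending order. -/
lemma word_sorted (t u v : K) :
    ((reeWordU (3 ^ m) t u v).map fun p => goodG2.xG p.1 p.2).prod =
      goodG2.xG 6 t * goodG2.xG 7 (t ^ 3 ^ m) * four ![7, 6, 8, 9, 10, 11]
        (u ^ 3 ^ m, v ^ 3 ^ m, t ^ (3 * 3 ^ m + 1) + u, t ^ (3 * 3 ^ m + 2) + v) := by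
  rw [S.word_eq]
  have h := S.swap' six_pos t (t ^ 3 ^ m)
  simp only [Int.cast_one, one_mul] at h
  rw [show goodG2.xG 7 (t ^ 3 ^ m) * goodG2.xG 6 t = _ from h, mul_assoc, S.four_mul six_pos]
  refine congr (congrArg _ rfl) (congrArg _ ?_)
  simp only [Prod.mk_add_mk, Prod.mk.injEq]
  refine ⟨?_, ?_, ?_, ?_⟩ <;> ring

lemma word_inj {t u v t' u' v' : K}
    (h : ((reeWordU (3 ^ m) t u v).map fun p => goodG2.xG p.1 p.2).prod =
      ((reeWordU (3 ^ m) t' u' v').map fun p => goodG2.xG p.1 p.2).prod) :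
    t = t' ∧ u = u' ∧ v = v' := by
  rw [S.word_sorted, S.word_sorted] at h
  have e : ∀ w : ℕ → K, goodG2.xAlong minusG2 w =
      goodG2.xG 6 (w 6) * goodG2.xG 7 (w 7) * four ![7, 6, 8, 9, 10, 11] (w 8, w 9, w 10, w 11) :=
    fun w => by simp [minusG2, Good.xAlong, four, mul_assoc]
  let z : K → K → K → ℕ → K := fun t u v i => if i = 6 then t else if i = 7 then t ^ 3 ^ m else
    if i = 8 then u ^ 3 ^ m else if i = 9 then v ^ 3 ^ m else
    if i = 10 then t ^ (3 * 3 ^ m + 1) + u else t ^ (3 * 3 ^ m + 2) + v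
  have h' := goodG2.xAlong_inj (by decide) (Good.minus_list S.minusSet_w)
    (t := z t u v) (u := z t' u' v') (by rw [e, e]; exact h)
  obtain rfl : t = t' := by simpa [z] using h' 6 (by decide)
  exact ⟨rfl, by simpa [z] using h' 10 (by decide), by simpa [z] using h' 11 (by decide)⟩

lemma word_in (t u v : K) : ((reeWordU (3 ^ m) t u v).map fun p => goodG2.xG p.1 p.2).prod ∈
    S.T.fixedMinus (goodG2.wperm wordG2) := by
  refine Subgroup.mem_inf.2 ⟨S.gens_fixed (by rw [S.word_eq]; exact (S.word_mem t u v).1), ?_⟩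
  rw [S.minusSet_w]
  refine Subgroup.list_prod_mem _ fun x hx => ?_
  obtain ⟨p, hp, rfl⟩ := List.mem_map.1 hx
  simp only [reeWordU, List.mem_cons, List.not_mem_nil, or_false] at hp
  rcases hp with rfl | rfl | rfl | rfl | rfl | rfl <;>
    exact goodG2.mem_rootGen (show _ < 12 by simp [g2a, g2b, g2ab, g2aab, g2aaab, g2aaabb])
      (show _ ∈ {r | r ∈ minusG2} by simp [minusG2, g2a, g2b, g2ab, g2aab, g2aaab, g2aaabb]) _

theorem card_w : Nat.card (S.T.fixedMinus (goodG2.wperm wordG2)) = (3 ^ (2 * m + 1)) ^ 3 := by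
  let f : K × K × K → ↥(S.T.fixedMinus (goodG2.wperm wordG2)) := fun p =>
    ⟨_, S.word_in p.1 p.2.1 p.2.2⟩
  rw [← Nat.card_eq_of_bijective f ⟨fun a b h => ?_, fun x => ?_⟩, Nat.card_prod, Nat.card_prod,
    Nat.card_eq_fintype_card, S.card]
  · ring
  · obtain ⟨h1, h2, h3⟩ := S.word_inj (congrArg Subtype.val h)
    exact Prod.ext h1 (Prod.ext h2 h3)
  · obtain ⟨t, u, v, ht⟩ := S.mem_fixedMinus x.2
    exact ⟨(t, u, v), Subtype.ext ht.symm⟩

theorem card_base (o : Fin S.sys.r) :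
    Nat.card (S.T.fixedMinus (S.sys.w o)) ^ 2 = (3 ^ (2 * m + 1)) ^ ninv chevG2 (S.sys.w o) := by
  show Nat.card (S.T.fixedMinus (goodG2.wperm wordG2)) ^ 2 = _ ^ ninv chevG2 (goodG2.wperm wordG2)
  rw [Good.ninv_of_minus (show minusG2.Nodup by decide) S.minusSet_w, S.card_w, ← pow_mul]
  rfl

theorem hnt (o : Fin S.sys.r) : S.T.fixedMinus (S.sys.w o) ≠ ⊥ := by
  intro h
  have h1 : Nat.card (S.T.fixedMinus (goodG2.wperm wordG2)) = 1 := by
    rw [show S.T.fixedMinus (goodG2.wperm wordG2) = ⊥ from h, Subgroup.card_bot]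
  rw [S.card_w] at h1
  exact absurd h1 (Nat.one_lt_pow three_ne_zero (Nat.one_lt_pow (by omega) (by omega))).ne'

theorem separates : S.sys.Separates := by
  intro h hh hcomm i
  rw [goodG2.diagonal_eq_range] at hh
  obtain ⟨c, rfl⟩ := hh
  have h0 := hcomm (0 : Fin 1) _ (S.word_in 1 0 0)
  set z := torHom chevG2 K c with hz
  let χ : ℕ → K := fun r => ((∏ i : Fin chevG2.rank, c i ^ chevG2.cartan i r : Kˣ) : K)
  have e : ∀ w : ℕ → K, goodG2.xAlong minusG2 w =
      goodG2.xG 6 (w 6) * goodG2.xG 7 (w 7) * four ![7, 6, 8, 9, 10, 11] (w 8, w 9, w 10, w 11) :=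
    fun w => by simp [minusG2, Good.xAlong, four, mul_assoc]
  let w : ℕ → K := fun i => if i = 6 ∨ i = 7 ∨ i = 10 ∨ i = 11 then 1 else 0
  have hw : ((reeWordU (3 ^ m) (1 : K) 0 0).map fun p => goodG2.xG p.1 p.2).prod =
      goodG2.xAlong minusG2 w := by
    rw [S.word_sorted, e]
    simp [w, zero_pow (pow_ne_zero m three_ne_zero)]
  rw [hw] at h0
  have h1 : z * goodG2.xAlong minusG2 w * z⁻¹ = goodG2.xAlong minusG2 w := by
    rw [h0, mul_inv_cancel_right]
  rw [goodG2.torHom_conj_xAlong c (fun r hr => (Good.minus_list S.minusSet_w r hr).1)] at h1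
  have h2 := goodG2.xAlong_inj (by decide) (Good.minus_list S.minusSet_w) h1
  have p6 : χ 6 = 1 := by simpa [w, χ] using h2 6 (by decide)
  have p7 : χ 7 = 1 := by simpa [w, χ] using h2 7 (by decide)
  have hs : ∀ i : Fin chevG2.rank, chevG2.simple i ∈ [6, 7] := by decide +kernel
  show z * goodG2.xG (chevG2.simple i) (1 : K) * z⁻¹ = goodG2.xG (chevG2.simple i) 1
  rw [goodG2.torHom_conj_xG c (goodG2.simple_lt i.2), mul_one]
  have hi := hs i
  simp only [List.mem_cons, List.not_mem_nil, or_false] at hi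
  rcases hi with e' | e' <;> rw [e']
  · exact congrArg _ p6
  · exact congrArg _ p7

end SetupG2

section Statements

variable (K : Type*) [Field K] [Fintype K] {m : ℕ}

theorem twistedF4_bnPair (hK : Fintype.card K = 2 ^ (2 * m + 1)) :
    ∃ P : Cfsg.BNPair ↥(twistedF4 K (2 ^ m)),
      P.B = (chevF4.borelSubgroup K ⊓ twistedF4 K (2 ^ m)).subgroupOf (twistedF4 K (2 ^ m)) ∧
      P.N = (chevF4.monomialSubgroup K ⊓ twistedF4 K (2 ^ m)).subgroupOf (twistedF4 K (2 ^ m)) := by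
  obtain ⟨S⟩ := exists_setupF4 K hK
  exact ⟨S.sys.bnPair hasCommF4 S.hnt, rfl, rfl⟩

theorem twistedG2_bnPair (hK : Fintype.card K = 3 ^ (2 * m + 1)) :
    ∃ P : Cfsg.BNPair ↥(twistedG2 K (3 ^ m)),
      P.B = (chevG2.borelSubgroup K ⊓ twistedG2 K (3 ^ m)).subgroupOf (twistedG2 K (3 ^ m)) ∧
      P.N = (chevG2.monomialSubgroup K ⊓ twistedG2 K (3 ^ m)).subgroupOf (twistedG2 K (3 ^ m)) := by
  obtain ⟨S⟩ := exists_setupG2 K hK
  exact ⟨S.sys.bnPair hasCommG2 S.hnt, rfl, rfl⟩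

theorem card_pos_twistedF4 (hK : Fintype.card K = 2 ^ (2 * m + 1)) :
    Nat.card ↥(chevF4.posUnipotent K ⊓ twistedF4 K (2 ^ m)) = (2 ^ (2 * m + 1)) ^ 12 := by
  obtain ⟨S⟩ := exists_setupF4 K hK
  refine Nat.pow_left_injective two_ne_zero ?_
  show Nat.card ↥(chevF4.posUnipotent K ⊓ S.sys.G1) ^ 2 = ((2 ^ (2 * m + 1)) ^ 12) ^ 2
  rw [S.sys.card_pos_inf hasCommF4 (k := 2) (q := 2 ^ (2 * m + 1)) S.card_base, ← pow_mul _ 12,
    show chevF4.nroots / 2 = 12 * 2 by decide +kernel]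

theorem pos_twistedG2 (hK : Fintype.card K = 3 ^ (2 * m + 1)) :
    (∀ g : GL chevG2.Idx K, g ∈ chevG2.posUnipotent K ⊓ twistedG2 K (3 ^ m) ↔
      ∃ t u v : K, (g : Matrix chevG2.Idx chevG2.Idx K) = chevG2.wordMat K (reeWordU (3 ^ m) t u v)) ∧
    Nat.card ↥(chevG2.posUnipotent K ⊓ twistedG2 K (3 ^ m)) = (3 ^ (2 * m + 1)) ^ 3 := by
  obtain ⟨S⟩ := exists_setupG2 K hK
  have heq : chevG2.posUnipotent K ⊓ twistedG2 K (3 ^ m) = S.T.fixedMinus (goodG2.wperm wordG2) := by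
    have h := S.sys.pos_inf_eq hasCommG2
    rw [show S.sys.G1 = twistedG2 K (3 ^ m) from rfl] at h
    rw [h, Twist.fixedMinus, S.minusSet_w, goodG2.posUnipotent_eq, inf_comm]
    congr 1
    refine le_antisymm (goodG2.rootGen_mono fun r hr hr' => ?_)
      (goodG2.rootGen_mono fun r hr _ => ?_)
    · have : ∀ r < 12, half chevG2 ≤ r → r ∈ minusG2 := by decide +kernel
      exact this r (show r < 12 from hr') hr
    · have : ∀ r ∈ minusG2, half chevG2 ≤ r := by decide +kernel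
      exact this r hr
  have hword : ∀ t u v : K, ((((reeWordU (3 ^ m) t u v).map fun p => goodG2.xG p.1 p.2).prod :
      GL chevG2.Idx K) : Matrix chevG2.Idx chevG2.Idx K) =
      chevG2.wordMat K (reeWordU (3 ^ m) t u v) := fun t u v => by
    simp [reeWordU, ChevalleyDatum.wordMat, Good.coe_xG]
  rw [heq]
  refine ⟨fun x => ⟨fun hx => ?_, ?_⟩, S.card_w⟩
  · obtain ⟨t, u, v, rfl⟩ := S.mem_fixedMinus hx
    exact ⟨t, u, v, hword t u v⟩
  · rintro ⟨t, u, v, h⟩
    rw [show x = ((reeWordU (3 ^ m) t u v).map fun p => goodG2.xG p.1 p.2).prod from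
      Units.ext (h.trans (hword t u v).symm)]
    exact S.word_in t u v

theorem core_twistedF4 (hK : Fintype.card K = 2 ^ (2 * m + 1)) :
    ((chevF4.borelSubgroup K ⊓ twistedF4 K (2 ^ m)).subgroupOf (twistedF4 K (2 ^ m))).normalCore = ⊥ := by
  obtain ⟨S⟩ := exists_setupF4 K hK
  exact S.sys.core_trivial hasCommF4 S.separates

theorem core_twistedG2 (hK : Fintype.card K = 3 ^ (2 * m + 1)) :
    ((chevG2.borelSubgroup K ⊓ twistedG2 K (3 ^ m)).subgroupOf (twistedG2 K (3 ^ m))).normalCore = ⊥ := by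
  obtain ⟨S⟩ := exists_setupG2 K hK
  exact S.sys.core_trivial hasCommG2 S.separates

end Statements

end CfsgLib.Chev
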