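import Mathlib
import Cfsg.Agent.Lib.Chev.TwistFGProps
import Cfsg.Agent.Lib.Chev.TwistH

/-!
The diagonal subgroups and the orders of ²F₄ and ²G₂.
-/

set_option autoImplicit false
set_option maxHeartbeats 800000
set_option maxRecDepth 100000
set_option linter.unusedSectionVars false

namespace CfsgLib.Chev

open Cfsg.Lie

/-- The inverse of the Cartan matrix of F4. -/
noncomputable def cartanInvF4 : Matrix (Fin chevF4.rank) (Fin chevF4.rank) ℤ :=
  Matrix.of fun i j =>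
    nth 0 (nth [] [[2, 3, 4, 2], [3, 6, 8, 4], [2, 4, 6, 3], [1, 2, 3, 2]] i.val) j.val

/-- The inverse of the Cartan matrix of G2. -/
noncomputable def cartanInvG2 : Matrix (Fin chevG2.rank) (Fin chevG2.rank) ℤ :=
  Matrix.of fun i j => nth 0 (nth [] [[2, 3], [1, 2]] i.val) j.val

lemma cartanF4_mul_inv : cartanMat chevF4 * cartanInvF4 = 1 := by decide +kernel

lemma cartanG2_mul_inv : cartanMat chevG2 * cartanInvG2 = 1 := by decide +kernel

/-- A point of the fixed torus of ²F₄. -/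
noncomputable def tauF4 {K : Type*} [Field K] (m : ℕ) (a b : Kˣ) : Fin chevF4.rank → Kˣ := fun i =>
  if i.val = 0 then a ^ 2 ^ m else if i.val = 1 then b ^ 2 ^ m else if i.val = 2 then b else a

/-- A point of the fixed torus of ²G₂. -/
noncomputable def tauG2 {K : Type*} [Field K] (m : ℕ) (b : Kˣ) : Fin chevG2.rank → Kˣ := fun i =>
  if i.val = 0 then b ^ 3 ^ m else b

namespace SetupF4

variable {K : Type*} [Field K] [Fintype K] {m : ℕ} (S : SetupF4 K m)
include S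

lemma unit_pow_q (a : Kˣ) : a ^ (2 * 2 ^ m * 2 ^ m) = a :=
  Units.ext (by rw [Units.val_pow_eq_pow_val, S.pow_q])

lemma tau_mul (a b a' b' : Kˣ) : tauF4 m a b * tauF4 m a' b' = tauF4 m (a * a') (b * b') := by
  funext i
  simp only [tauF4, Pi.mul_apply]
  split_ifs <;> simp [mul_pow]

lemma mem_fixed_iff (c : Fin chevF4.rank → Kˣ) :
    torHom chevF4 K c ∈ S.T.fixed ↔ ∃ a b, c = tauF4 m a b := by
  have hlam : ∀ i : Fin chevF4.rank,
      nth 0 isoF4.lam (goodF4.sroot i) = if i.val < 2 then 2 else 1 := by decide +kernel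
  have hpi : ∀ i : Fin chevF4.rank,
      ((rootSymOf goodF4 checksF4 structChecksF4 rhoIsoF4_ok).pi i).val = 3 - i.val := by decide +kernel
  rw [S.T.torHom_mem_fixed_iff (n := fun i => (if i.val < 2 then 2 else 1) * 2 ^ m)
    (fun i x => by rw [S.Tf, hlam]) (fun i => by rw [S.neg_one_eq, one_pow])
    (goodF4.torHom_injective cartanF4_mul_inv)]
  constructor
  · intro h
    refine ⟨c ⟨3, by decide⟩, c ⟨2, by decide⟩, funext fun i => ?_⟩
    have h3 := h ⟨3, by decide⟩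
    have h2 := h ⟨2, by decide⟩
    rw [show S.T.pi ⟨3, by decide⟩ = ⟨0, by decide⟩ from Fin.ext (by rw [S.Tpi, hpi]; rfl)] at h3
    rw [show S.T.pi ⟨2, by decide⟩ = ⟨1, by decide⟩ from Fin.ext (by rw [S.Tpi, hpi]; rfl)] at h2
    simp only [show ¬ (3 < 2) by decide, show ¬ (2 < 2) by decide, if_false, one_mul] at h2 h3
    obtain ⟨i, hi⟩ := i
    have hi' : i < 4 := hi
    simp only [tauF4]
    interval_cases i <;> simp [h2, h3]
  · rintro ⟨a, b, rfl⟩ ⟨i, hi⟩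
    have hi' : i < 4 := hi
    have e : (S.T.pi ⟨i, hi⟩).val = 3 - i := by rw [S.Tpi, hpi]
    simp only [tauF4, e]
    interval_cases i <;> simp [← pow_mul] <;>
      rw [show 2 ^ m * (2 * 2 ^ m) = 2 * 2 ^ m * 2 ^ m by ring, S.unit_pow_q]

lemma hcomm_pair :
    (∀ a b : K, Commute (goodF4.xG 33 a) (goodF4.xG 24 b)) ∧
    (∀ a b : K, Commute (goodF4.xG 33 a) (goodF4.xG (chevF4.neg 24) b)) ∧
    (∀ a b : K, Commute (goodF4.xG (chevF4.neg 33) a) (goodF4.xG 24 b)) ∧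
    (∀ a b : K, Commute (goodF4.xG (chevF4.neg 33) a) (goodF4.xG (chevF4.neg 24) b)) := by
  refine ⟨fun a b => ?_, fun a b => ?_, fun a b => ?_, fun a b => ?_⟩ <;>
    exact goodF4.xG_commute_check hasCommF4 (by decide +kernel) (by decide +kernel) (by decide +kernel) a b

lemma pairN_mem (t : Kˣ) :
    goodF4.nG 33 (t ^ 2 ^ m) * goodF4.nG 24 t ∈ twistedF4 K (2 ^ m) := by
  obtain ⟨c1, c2, c3, c4⟩ := S.hcomm_pair
  rw [goodF4.nG_mul_nG c1 c2 c3 c4, show chevF4.neg 33 = 14 by decide +kernel,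
    show chevF4.neg 24 = 23 by decide +kernel, Units.val_pow_eq_pow_val, S.neg_eq', S.neg_eq',
    ← inv_pow t, Units.val_pow_eq_pow_val]
  exact mul_mem (mul_mem (S.pair_mem _).1 (S.pair_mem _).2) (S.pair_mem _).1

lemma pairH_mem (t : Kˣ) :
    goodF4.hG 33 (t ^ 2 ^ m) * goodF4.hG 24 t ∈ twistedF4 K (2 ^ m) := by
  obtain ⟨c1, c2, c3, c4⟩ := S.hcomm_pair
  rw [goodF4.hG_mul_hG (by decide +kernel) (by decide +kernel) c1 c2 c3 c4]
  refine mul_mem (S.pairN_mem t) ?_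
  have h := S.pairN_mem (-1)
  rwa [show ((-1 : Kˣ) ^ 2 ^ m) = -1 from Units.ext (by simp [S.neg_one_eq])] at h

lemma tau_mem (a b : Kˣ) : torHom chevF4 K (tauF4 m a b) ∈ twistedF4 K (2 ^ m) := by
  have hroot : ∀ r ∈ ([33, 24, 37, 32] : List ℕ), r < chevF4.nroots := by decide +kernel
  have hco : ∀ i : Fin chevF4.rank, corootCo chevF4 33 i = (if i.val = 0 then 1 else 0) ∧
      corootCo chevF4 24 i = (if i.val = 3 then 1 else 0) ∧
      corootCo chevF4 37 i = (if i.val = 0 then 1 else if i.val = 3 then 0 else 2) ∧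
      corootCo chevF4 32 i = (if i.val = 0 then 0 else if i.val = 2 then 2 else 1) := by decide +kernel
  have h1 : ∀ t : Kˣ, torHom chevF4 K (tauF4 m t 1) ∈ twistedF4 K (2 ^ m) := by
    intro t
    convert S.pairH_mem t using 1
    rw [← goodF4.torHom_pow_coroot (hroot 33 (by decide)),
      ← goodF4.torHom_pow_coroot (hroot 24 (by decide)), ← map_mul]
    congr 1
    funext i
    obtain ⟨e1, e2, -, -⟩ := hco i
    simp only [tauF4, Pi.mul_apply, e1, e2]
    obtain ⟨i, hi⟩ := i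
    have hi' : i < 4 := hi
    interval_cases i <;> simp
  have h2 : ∀ t : Kˣ, torHom chevF4 K (tauF4 m t (t ^ (2 * 2 ^ m + 2))) ∈ twistedF4 K (2 ^ m) := by
    intro t
    have h := mul_mem (mul_mem (S.n_mem 1) (S.pairH_mem t)) (inv_mem (S.n_mem 1))
    convert h using 1
    set w := goodF4.wperm (wordsF4 1)
    rw [show goodF4.wordN (wordsF4 1) * (goodF4.hG 33 (t ^ 2 ^ m) * goodF4.hG 24 t) *
        (goodF4.wordN (wordsF4 1))⁻¹ =
      goodF4.wordN (wordsF4 1) * goodF4.hG (⟨33, hroot 33 (by decide)⟩ : Fin chevF4.nroots) (t ^ 2 ^ m) *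
        (goodF4.wordN (wordsF4 1))⁻¹ *
      (goodF4.wordN (wordsF4 1) * goodF4.hG (⟨24, hroot 24 (by decide)⟩ : Fin chevF4.nroots) t *
        (goodF4.wordN (wordsF4 1))⁻¹) by group,
      goodF4.wordN_conj_hG, goodF4.wordN_conj_hG, goodF4.wperm_tab checksF4 structChecksF4,
      goodF4.wperm_tab checksF4 structChecksF4,
      show wordApp sdataF4 ((wordsF4 1).map Fin.val) 33 = 37 by decide +kernel,
      show wordApp sdataF4 ((wordsF4 1).map Fin.val) 24 = 32 by decide +kernel,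
      ← goodF4.torHom_pow_coroot (hroot 37 (by decide)),
      ← goodF4.torHom_pow_coroot (hroot 32 (by decide)), ← map_mul]
    congr 1
    funext i
    obtain ⟨-, -, e1, e2⟩ := hco i
    simp only [tauF4, Pi.mul_apply, e1, e2]
    obtain ⟨i, hi⟩ := i
    have hi' : i < 4 := hi
    interval_cases i <;> simp [← pow_mul]
    · rw [show (2 * 2 ^ m + 2) * 2 ^ m = 2 * 2 ^ m * 2 ^ m + 2 ^ m * 2 by ring, _root_.pow_add,
        S.unit_pow_q, mul_comm]
    · rw [_root_.pow_add, mul_comm 2 (2 ^ m)]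
  set s := b⁻¹ ^ (2 ^ m - 1) with hs
  have hb : s ^ (2 * 2 ^ m + 2) = b := by
    have h1 : 1 ≤ 2 ^ m := Nat.one_le_two_pow
    have hq : b ^ ((2 ^ m - 1) * (2 * 2 ^ m + 2) + 1) = 1 := by
      have e : (2 ^ m - 1) * (2 * 2 ^ m + 2) + 1 = 2 * 2 ^ m * 2 ^ m - 1 := by
        obtain ⟨k, hk⟩ := Nat.exists_eq_add_of_le h1
        rw [hk]
        have e1 : (1 + k - 1) * (2 * (1 + k) + 2) + 1 + 1 = 2 * (1 + k) * (1 + k) := by
          rw [show 1 + k - 1 = k by omega]; ring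
        omega
      rw [e]
      refine mul_right_cancel (b := b) ?_
      rw [← pow_succ, Nat.sub_add_cancel (Nat.one_le_iff_ne_zero.2 (by positivity)), S.unit_pow_q,
        one_mul]
    rw [pow_succ, mul_eq_one_iff_eq_inv] at hq
    rw [hs, ← pow_mul, inv_pow, hq, inv_inv]
  have h := mul_mem (h1 (a * s⁻¹)) (h2 s)
  rwa [← map_mul, S.tau_mul, inv_mul_cancel_right, hb, one_mul] at h

theorem diag_eq : chevF4.diagonalSubgroup K ⊓ twistedF4 K (2 ^ m) =
    Subgroup.closure (Set.range fun p : Kˣ × Kˣ => torHom chevF4 K (tauF4 m p.1 p.2)) := by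
  refine le_antisymm (fun x hx => ?_) ((Subgroup.closure_le _).2 ?_)
  · obtain ⟨hxH, hxG⟩ := hx
    rw [goodF4.diagonal_eq_range] at hxH
    obtain ⟨c, rfl⟩ := hxH
    obtain ⟨a, b, rfl⟩ := (S.mem_fixed_iff c).1 (S.gens_fixed hxG)
    exact Subgroup.subset_closure ⟨(a, b), rfl⟩
  · rintro x ⟨p, rfl⟩
    exact Subgroup.mem_inf.2 ⟨goodF4.torHom_mem _, S.tau_mem _ _⟩

theorem mem_diag_iff {x : GL chevF4.Idx K} :
    x ∈ chevF4.diagonalSubgroup K ⊓ twistedF4 K (2 ^ m) ↔ ∃ a b, x = torHom chevF4 K (tauF4 m a b) := by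
  refine ⟨fun hx => ?_, ?_⟩
  · obtain ⟨hxH, hxG⟩ := hx
    rw [goodF4.diagonal_eq_range] at hxH
    obtain ⟨c, rfl⟩ := hxH
    obtain ⟨a, b, rfl⟩ := (S.mem_fixed_iff c).1 (S.gens_fixed hxG)
    exact ⟨a, b, rfl⟩
  · rintro ⟨a, b, rfl⟩
    exact Subgroup.mem_inf.2 ⟨goodF4.torHom_mem _, S.tau_mem _ _⟩

theorem card_diag : Nat.card ↥(chevF4.diagonalSubgroup K ⊓ twistedF4 K (2 ^ m)) =
    (2 ^ (2 * m + 1) - 1) ^ 2 := by
  let f : Kˣ × Kˣ → ↥(chevF4.diagonalSubgroup K ⊓ twistedF4 K (2 ^ m)) := fun p =>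
    ⟨_, S.mem_diag_iff.2 ⟨p.1, p.2, rfl⟩⟩
  rw [← Nat.card_eq_of_bijective f ⟨fun p q h => ?_, fun x => ?_⟩, Nat.card_prod, Nat.card_units,
    Nat.card_eq_fintype_card, S.card, sq]
  · have h' := goodF4.torHom_injective cartanF4_mul_inv (congrArg Subtype.val h)
    exact Prod.ext (congrFun h' ⟨3, by decide⟩) (congrFun h' ⟨2, by decide⟩)
  · obtain ⟨a, b, hx⟩ := S.mem_diag_iff.1 x.2
    exact ⟨(a, b), Subtype.ext hx.symm⟩

open scoped Classical in
lemma sum_weylFix (f : ℕ → ℕ) :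
    ∑ v ∈ Finset.univ.filter (· ∈ S.T.weylFix), f (ninv chevF4 v) =
      f 0 + f 2 + f 4 + f 6 + f 6 + f 8 + f 10 + f 12 + f 12 + f 14 + f 16 + f 18 + f 18 + f 20 +
        f 22 + f 24 := by
  rw [S.sys.weylFix_sum_fun checksF4 structChecksF4 [[0, 3], [1, 2, 1, 2]] wtabF4 wordsF4 rfl
    (show ∀ o : Fin 2, nth [] [[0, 3], [1, 2, 1, 2]] (o : ℕ) = (wordsF4 o).map Fin.val by decide +kernel) (fun o => rfl) wtabF4_ok f]
  have h : (List.range 16).map wtabF4.degF =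
      [0, 2, 4, 6, 6, 8, 10, 12, 12, 14, 16, 18, 18, 20, 22, 24] := by decide +kernel
  rw [show (∑ k ∈ Finset.range wtabF4.size, f (wtabF4.degF k)) =
    (((List.range 16).map wtabF4.degF).map f).sum by rw [List.map_map]; rfl, h]
  simp [add_assoc]

theorem card_eq : Nat.card ↥(twistedF4 K (2 ^ m)) =
    (2 ^ (2 * m + 1)) ^ 12 * (2 ^ (2 * m + 1) - 1) * ((2 ^ (2 * m + 1)) ^ 3 + 1) *
      ((2 ^ (2 * m + 1)) ^ 4 - 1) * ((2 ^ (2 * m + 1)) ^ 6 + 1) := by
  classical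
  show Nat.card ↥S.sys.G1 = _
  set q := 2 ^ (2 * m + 1) with hq
  rw [S.sys.card_G1 hasCommF4, S.sys.card_borel_inf hasCommF4]
  have hU : Nat.card ↥(chevF4.posUnipotent K ⊓ S.sys.G1) = q ^ 12 := card_pos_twistedF4 K S.card
  have hH : Nat.card ↥(chevF4.diagonalSubgroup K ⊓ S.sys.G1) = (q - 1) ^ 2 := S.card_diag
  rw [hU, hH]
  have hpar : ∀ v ∈ S.T.weylFix, ninv chevF4 v % 2 = 0 := by
    intro v hv
    have h := S.sum_weylFix (fun k => k % 2)
    simp only [Nat.reduceMod, add_zero] at h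
    exact Finset.sum_eq_zero_iff.1 h v (Finset.mem_filter.2 ⟨Finset.mem_univ _, hv⟩)
  rw [Finset.sum_congr rfl fun v hv => show Nat.card (S.T.fixedMinus v) = q ^ (ninv chevF4 v / 2) from by
    have hvF := (Finset.mem_filter.1 hv).2
    refine Nat.pow_left_injective two_ne_zero ?_
    show Nat.card (S.T.fixedMinus v) ^ 2 = (q ^ (ninv chevF4 v / 2)) ^ 2
    rw [S.sys.card_fixedMinus hasCommF4 (k := 2) (q := q) S.card_base hvF, ← pow_mul q,
      Nat.div_mul_cancel (Nat.dvd_of_mod_eq_zero (hpar v hvF))], S.sum_weylFix (fun k => q ^ (k / 2))]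
  have h1 : 1 ≤ q := Nat.one_le_two_pow
  obtain ⟨r, hr⟩ := Nat.exists_eq_add_of_le h1
  rw [show q - 1 = r by omega, show q ^ 4 - 1 = r * ((q + 1) * (q ^ 2 + 1)) from
    Nat.sub_eq_of_eq_add (by rw [hr]; ring)]
  norm_num
  ring

end SetupF4

namespace SetupG2

variable {K : Type*} [Field K] [Fintype K] {m : ℕ} (S : SetupG2 K m)
include S

lemma unit_pow_q (a : Kˣ) : a ^ (3 * 3 ^ m * 3 ^ m) = a :=
  Units.ext (by rw [Units.val_pow_eq_pow_val, S.pow_q])

lemma tau_mul (b b' : Kˣ) : tauG2 m b * tauG2 m b' = tauG2 m (b * b') := by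
  funext i
  simp only [tauG2, Pi.mul_apply]
  split_ifs <;> simp [mul_pow]

lemma mem_fixed_iff (c : Fin chevG2.rank → Kˣ) :
    torHom chevG2 K c ∈ S.T.fixed ↔ ∃ b, c = tauG2 m b := by
  have hlam : ∀ i : Fin chevG2.rank,
      nth 0 isoG2.lam (goodG2.sroot i) = if i.val = 0 then 3 else 1 := by decide +kernel
  have hpi : ∀ i : Fin chevG2.rank,
      ((rootSymOf goodG2 checksG2 structChecksG2 rhoIsoG2_ok).pi i).val = 1 - i.val := by decide +kernel
  rw [S.T.torHom_mem_fixed_iff (n := fun i => (if i.val = 0 then 3 else 1) * 3 ^ m)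
    (fun i x => by rw [S.Tf, hlam]) (fun i => Odd.neg_one_pow ?_)
    (goodG2.torHom_injective cartanG2_mul_inv)]
  constructor
  · intro h
    refine ⟨c ⟨1, by decide⟩, funext fun i => ?_⟩
    have h1 := h ⟨1, by decide⟩
    rw [show S.T.pi ⟨1, by decide⟩ = ⟨0, by decide⟩ from Fin.ext (by rw [S.Tpi, hpi]; rfl)] at h1
    simp only [Nat.one_ne_zero, if_false, one_mul] at h1
    obtain ⟨i, hi⟩ := i
    have hi' : i < 2 := hi
    simp only [tauG2]
    interval_cases i <;> simp [h1]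
  · rintro ⟨b, rfl⟩ ⟨i, hi⟩
    have hi' : i < 2 := hi
    have e : (S.T.pi ⟨i, hi⟩).val = 1 - i := by rw [S.Tpi, hpi]
    simp only [tauG2, e]
    interval_cases i <;> simp [← pow_mul]
    rw [show 3 ^ m * (3 * 3 ^ m) = 3 * 3 ^ m * 3 ^ m by ring, S.unit_pow_q]
  · split_ifs
    · exact (show Odd 3 by decide).mul S.odd_e
    · rw [one_mul]; exact S.odd_e

lemma hcomm_pair :
    (∀ a b : K, Commute (goodG2.xG 8 a) (goodG2.xG 10 b)) ∧
    (∀ a b : K, Commute (goodG2.xG 8 a) (goodG2.xG (chevG2.neg 10) b)) ∧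
    (∀ a b : K, Commute (goodG2.xG (chevG2.neg 8) a) (goodG2.xG 10 b)) ∧
    (∀ a b : K, Commute (goodG2.xG (chevG2.neg 8) a) (goodG2.xG (chevG2.neg 10) b)) := by
  refine ⟨fun a b => ?_, fun a b => ?_, fun a b => ?_, fun a b => ?_⟩ <;>
    exact goodG2.xG_commute_check hasCommG2 (by decide +kernel) (by decide +kernel) (by decide +kernel) a b

lemma pairN_mem (u : Kˣ) :
    goodG2.nG 8 (u ^ 3 ^ m) * goodG2.nG 10 u ∈ twistedG2 K (3 ^ m) := by
  obtain ⟨c1, c2, c3, c4⟩ := S.hcomm_pair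
  rw [goodG2.nG_mul_nG c1 c2 c3 c4, show chevG2.neg 8 = 3 by decide +kernel,
    show chevG2.neg 10 = 1 by decide +kernel, ← inv_pow u, Units.val_pow_eq_pow_val,
    Units.val_pow_eq_pow_val]
  have h : ∀ x : K, goodG2.xG 8 (x ^ 3 ^ m) * goodG2.xG 10 x ∈ twistedG2 K (3 ^ m) ∧
      goodG2.xG 3 (-(x ^ 3 ^ m)) * goodG2.xG 1 (-x) ∈ twistedG2 K (3 ^ m) := by
    intro x
    have h := S.word_mem 0 x 0
    simp only [four, zero_pow (pow_ne_zero m three_ne_zero), zero_pow (Nat.succ_ne_zero _), zero_add,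
      neg_zero, add_zero, goodG2.xG_zero, one_mul, mul_one] at h
    simpa [goodG2.xG_zero] using h
  exact mul_mem (mul_mem (h _).1 (h _).2) (h _).1

lemma tau_mem (b : Kˣ) : torHom chevG2 K (tauG2 m b) ∈ twistedG2 K (3 ^ m) := by
  have hroot : ∀ r ∈ ([8, 10, 7, 6] : List ℕ), r < chevG2.nroots := by decide +kernel
  have hco : ∀ i : Fin chevG2.rank, corootCo chevG2 8 i = (if i.val = 0 then 1 else 3) ∧
      corootCo chevG2 10 i = 1 ∧ corootCo chevG2 7 i = (if i.val = 0 then 1 else 0) ∧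
      corootCo chevG2 6 i = (if i.val = 0 then 0 else 1) := by decide +kernel
  have h1 : ∀ u : Kˣ, torHom chevG2 K (tauG2 m (u ^ (3 * 3 ^ m + 1))) ∈ twistedG2 K (3 ^ m) := by
    intro u
    obtain ⟨c1, c2, c3, c4⟩ := S.hcomm_pair
    have h := mul_mem (S.pairN_mem u) (S.pairN_mem (-1))
    rw [show ((-1 : Kˣ) ^ 3 ^ m) = -1 from S.odd_e.neg_one_pow,
      ← goodG2.hG_mul_hG (hroot 8 (by decide)) (hroot 10 (by decide)) c1 c2 c3 c4] at h
    convert h using 1
    rw [← goodG2.torHom_pow_coroot (hroot 8 (by decide)),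
      ← goodG2.torHom_pow_coroot (hroot 10 (by decide)), ← map_mul]
    congr 1
    funext i
    obtain ⟨e1, e2, -, -⟩ := hco i
    simp only [tauG2, Pi.mul_apply, e1, e2]
    obtain ⟨i, hi⟩ := i
    have hi' : i < 2 := hi
    interval_cases i <;> simp [← pow_mul]
    · rw [show (3 * 3 ^ m + 1) * 3 ^ m = 3 * 3 ^ m * 3 ^ m + 3 ^ m by ring, _root_.pow_add,
        S.unit_pow_q, mul_comm]
    · rw [_root_.pow_add, pow_one, mul_comm 3 (3 ^ m)]
  have h2 : torHom chevG2 K (tauG2 m (-1)) ∈ twistedG2 K (3 ^ m) := by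
    have h := S.inv_mem
    rw [← goodG2.torHom_pow_coroot (hroot 7 (by decide)),
      ← goodG2.torHom_pow_coroot (hroot 6 (by decide)), ← map_mul] at h
    convert h using 2
    funext i
    obtain ⟨-, -, e1, e2⟩ := hco i
    simp only [tauG2, Pi.mul_apply, e1, e2]
    obtain ⟨i, hi⟩ := i
    have hi' : i < 2 := hi
    interval_cases i <;> simp [S.odd_e.neg_one_pow]
  have hsq : ∀ y : Kˣ, torHom chevG2 K (tauG2 m (y * y)) ∈ twistedG2 K (3 ^ m) := by
    intro y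
    have hy : (y ^ (3 * 3 ^ m - 1)) ^ (3 * 3 ^ m + 1) = y * y := by
      have h1 : 1 ≤ 3 * 3 ^ m := Nat.one_le_iff_ne_zero.2 (by positivity)
      obtain ⟨k, hk⟩ := Nat.exists_eq_add_of_le h1
      refine mul_right_cancel (b := y) ?_
      rw [← pow_mul, ← pow_succ,
        show (3 * 3 ^ m - 1) * (3 * 3 ^ m + 1) + 1 = 3 * 3 ^ m * (3 * 3 ^ m) by
          rw [hk, show 1 + k - 1 = k by omega]; ring,
        show 3 * 3 ^ m * (3 * 3 ^ m) = 3 * 3 ^ m * 3 ^ m * 3 by ring, pow_mul, S.unit_pow_q,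
        pow_three, mul_assoc]
    exact hy ▸ h1 _
  have hchar : ringChar K ≠ 2 := by
    have := S.char
    rw [ringChar.eq K 3]
    decide
  have hpm : IsSquare b ∨ IsSquare (-b) := by
    rw [FiniteField.unit_isSquare_iff hchar, FiniteField.unit_isSquare_iff hchar]
    rcases FiniteField.pow_dichotomy hchar b.ne_zero with h | h
    · exact Or.inl (Units.ext (by simpa using h))
    · refine Or.inr (Units.ext ?_)
      have hodd : Odd (Fintype.card K / 2) := by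
        rw [S.card]
        have : 3 ^ (2 * m + 1) % 4 = 3 := by rw [pow_succ, pow_mul, Nat.mul_mod, Nat.pow_mod]; simp
        rw [Nat.odd_iff]; omega
      rw [Units.val_pow_eq_pow_val, Units.val_neg, hodd.neg_pow, h, neg_neg, Units.val_one]
  rcases hpm with ⟨y, hy⟩ | ⟨y, hy⟩
  · exact hy ▸ hsq y
  · have h := mul_mem h2 (hsq y)
    rw [← map_mul, S.tau_mul, ← hy, mul_neg, neg_mul, one_mul, neg_neg] at h
    exact h

theorem mem_diag_iff {x : GL chevG2.Idx K} :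
    x ∈ chevG2.diagonalSubgroup K ⊓ twistedG2 K (3 ^ m) ↔ ∃ b, x = torHom chevG2 K (tauG2 m b) := by
  refine ⟨fun hx => ?_, ?_⟩
  · obtain ⟨hxH, hxG⟩ := hx
    rw [goodG2.diagonal_eq_range] at hxH
    obtain ⟨c, rfl⟩ := hxH
    obtain ⟨b, rfl⟩ := (S.mem_fixed_iff c).1 (S.gens_fixed hxG)
    exact ⟨b, rfl⟩
  · rintro ⟨b, rfl⟩
    exact Subgroup.mem_inf.2 ⟨goodG2.torHom_mem _, S.tau_mem _⟩

theorem card_diag :
    Nat.card ↥(chevG2.diagonalSubgroup K ⊓ twistedG2 K (3 ^ m)) = 3 ^ (2 * m + 1) - 1 := by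
  let f : Kˣ → ↥(chevG2.diagonalSubgroup K ⊓ twistedG2 K (3 ^ m)) := fun b =>
    ⟨_, S.mem_diag_iff.2 ⟨b, rfl⟩⟩
  rw [← Nat.card_eq_of_bijective f ⟨fun p q h => ?_, fun x => ?_⟩, Nat.card_units,
    Nat.card_eq_fintype_card, S.card]
  · have h' := goodG2.torHom_injective cartanG2_mul_inv (congrArg Subtype.val h)
    exact congrFun h' ⟨1, by decide⟩
  · obtain ⟨b, hx⟩ := S.mem_diag_iff.1 x.2
    exact ⟨b, Subtype.ext hx.symm⟩

open scoped Classical in
lemma sum_weylFix (f : ℕ → ℕ) :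
    ∑ v ∈ Finset.univ.filter (· ∈ S.T.weylFix), f (ninv chevG2 v) = f 0 + f 6 := by
  rw [S.sys.weylFix_sum_fun checksG2 structChecksG2 [[0, 1, 0, 1, 0, 1]] wtabG2 (fun _ => wordG2) rfl
    (show ∀ o : Fin 1, nth [] [[0, 1, 0, 1, 0, 1]] (o : ℕ) = wordG2.map Fin.val by decide +kernel) (fun o => rfl) wtabG2_ok f]
  have h : (List.range 2).map wtabG2.degF = [0, 6] := by decide +kernel
  rw [show (∑ k ∈ Finset.range wtabG2.size, f (wtabG2.degF k)) =
    (((List.range 2).map wtabG2.degF).map f).sum by rw [List.map_map]; rfl, h]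
  simp

theorem card_eq : Nat.card ↥(twistedG2 K (3 ^ m)) =
    (3 ^ (2 * m + 1)) ^ 3 * (3 ^ (2 * m + 1) - 1) * ((3 ^ (2 * m + 1)) ^ 3 + 1) := by
  classical
  show Nat.card ↥S.sys.G1 = _
  set q := 3 ^ (2 * m + 1) with hq
  rw [S.sys.card_G1 hasCommG2, S.sys.card_borel_inf hasCommG2]
  have hU : Nat.card ↥(chevG2.posUnipotent K ⊓ S.sys.G1) = q ^ 3 := (pos_twistedG2 K S.card).2
  have hH : Nat.card ↥(chevG2.diagonalSubgroup K ⊓ S.sys.G1) = q - 1 := S.card_diag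
  rw [hU, hH]
  have hpar : ∀ v ∈ S.T.weylFix, ninv chevG2 v % 2 = 0 := by
    intro v hv
    have h := S.sum_weylFix (fun k => k % 2)
    simp only [Nat.reduceMod, add_zero] at h
    exact Finset.sum_eq_zero_iff.1 h v (Finset.mem_filter.2 ⟨Finset.mem_univ _, hv⟩)
  rw [Finset.sum_congr rfl fun v hv => show Nat.card (S.T.fixedMinus v) = q ^ (ninv chevG2 v / 2) from by
    have hvF := (Finset.mem_filter.1 hv).2
    refine Nat.pow_left_injective two_ne_zero ?_
    show Nat.card (S.T.fixedMinus v) ^ 2 = (q ^ (ninv chevG2 v / 2)) ^ 2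
    rw [S.sys.card_fixedMinus hasCommG2 (k := 2) (q := q) S.card_base hvF, ← pow_mul q,
      Nat.div_mul_cancel (Nat.dvd_of_mod_eq_zero (hpar v hvF))], S.sum_weylFix (fun k => q ^ (k / 2))]
  norm_num [add_comm]

end SetupG2

end CfsgLib.Chev
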