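import Mathlib
import Cfsg.Agent.Lib.Chev.TwistFGTorus

/-!
Perfectness and simplicity of ²F₄(q) and ²G₂(q), q > 3.
-/

set_option autoImplicit false
set_option maxHeartbeats 800000
set_option maxRecDepth 100000
set_option linter.unusedSectionVars false

namespace CfsgLib.Chev

open Cfsg.Lie

open scoped commutatorElement

namespace TwistSys

variable {D : ChevalleyDatum} {F : Type*} [Field F] {g : Good D} {T : Twist g F} (S : TwistSys T)

/-- A piece moved by a point of the torus without fixed points. -/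
theorem piece_mem_commutator [Fintype F] (hc : HasComm D) (o : Fin S.r) {rs : List ℕ}
    (hs : rs.Pairwise (· < ·)) (hset : minusSet (S.w o) = {r | r ∈ rs}) {c : Fin D.rank → Fˣ}
    (hh : torHom D F c ∈ S.G1)
    (hχ : ∀ r ∈ rs, (∏ i : Fin D.rank, c i ^ D.cartan i r : Fˣ) ≠ 1) :
    T.fixedMinus (S.w o) ≤ ⁅S.G1, S.G1⁆ := by
  have hlist := Good.minus_list hset
  set h := torHom D F c with hdef
  have hfix : h ∈ T.fixed := S.le_fixed hh
  have hmap : ∀ u ∈ T.fixedMinus (S.w o), h * u * h⁻¹ * u⁻¹ ∈ T.fixedMinus (S.w o) := by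
    intro u hu
    refine mul_mem (Subgroup.mem_inf.2 ⟨mul_mem (mul_mem hfix hu.1) (inv_mem hfix), ?_⟩) (inv_mem hu)
    obtain ⟨v, hv⟩ := g.exists_xAlong hc (S.n_acts o) hs hset hu.2
    rw [hv, g.torHom_conj_xAlong c (fun r hr => (hlist r hr).1)]
    exact g.xAlong_mem (fun r hr => ⟨(hlist r hr).1, hset ▸ hr⟩) _
  have htriv : ∀ w ∈ T.fixedMinus (S.w o), h * w * h⁻¹ = w → w = 1 := by
    intro w hw he
    obtain ⟨v, rfl⟩ := g.exists_xAlong hc (S.n_acts o) hs hset hw.2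
    rw [g.torHom_conj_xAlong c (fun r hr => (hlist r hr).1)] at he
    have h0 : ∀ r ∈ rs, v r = 0 := by
      intro r hr
      have h1 := g.xAlong_inj hs hlist he r hr
      by_contra hne
      exact hχ r hr (Units.ext ((mul_eq_right₀ hne).1 h1))
    refine List.prod_eq_one fun x hx => ?_
    obtain ⟨r, hr, rfl⟩ := List.mem_map.1 hx
    rw [h0 r hr, g.xG_zero]
  let f : ↥(T.fixedMinus (S.w o)) → ↥(T.fixedMinus (S.w o)) := fun u => ⟨_, hmap u u.2⟩
  have hinj : Function.Injective f := by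
    intro u v huv
    have e : h * (u : GL D.Idx F) * h⁻¹ * (u : GL D.Idx F)⁻¹ =
        h * (v : GL D.Idx F) * h⁻¹ * (v : GL D.Idx F)⁻¹ := congrArg Subtype.val huv
    have h1 := htriv ((v : GL D.Idx F)⁻¹ * u) (mul_mem (inv_mem v.2) u.2) (by
      calc h * ((v : GL D.Idx F)⁻¹ * u) * h⁻¹
          = (h * v * h⁻¹)⁻¹ * (h * u * h⁻¹ * (u : GL D.Idx F)⁻¹) * u := by group
        _ = (h * v * h⁻¹)⁻¹ * (h * v * h⁻¹ * (v : GL D.Idx F)⁻¹) * u := by rw [e]
        _ = _ := by group)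
    exact (Subtype.ext (inv_mul_eq_one.1 h1)).symm
  intro p hp
  obtain ⟨u, hu⟩ := (Finite.injective_iff_surjective.1 hinj) ⟨p, hp⟩
  rw [show p = ⁅h, (u : GL D.Idx F)⁆ from (congrArg Subtype.val hu).symm.trans
    (commutatorElement_def _ _).symm]
  exact Subgroup.commutator_mem_commutator hh (S.base o u.2)

lemma conj_mem_comm {n x : GL D.Idx F} (hn : n ∈ S.G1) (hx : x ∈ ⁅S.G1, S.G1⁆) :
    n * x * n⁻¹ ∈ ⁅S.G1, S.G1⁆ := by
  have h2 := Subgroup.mem_map_of_mem (MulAut.conj n).toMonoidHom hx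
  rw [Subgroup.map_commutator] at h2
  refine Subgroup.commutator_mono ?_ ?_ h2 <;>
  · rintro z ⟨w, hw, rfl⟩
    exact mul_mem (mul_mem hn hw) (inv_mem hn)

/-- An element of the opposite piece. -/
lemma opposite_mem_commutator (o : Fin S.r) (hle : T.fixedMinus (S.w o) ≤ ⁅S.G1, S.G1⁆)
    {neg : List ℕ} (hneg : ∀ s : Fin D.nroots, s.val ∈ neg → ((S.w o) s).val ∈ minusSet (S.w o))
    {x : GL D.Idx F} (hx : x ∈ S.G1) (hxn : x ∈ rootGen D F {r | r ∈ neg}) : x ∈ ⁅S.G1, S.G1⁆ := by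
  have h1 : (S.n o)⁻¹ * x * S.n o ∈ T.fixedMinus (S.w o) := by
    refine Subgroup.mem_inf.2 ⟨S.le_fixed (mul_mem (mul_mem (inv_mem (S.n_mem o)) hx) (S.n_mem o)), ?_⟩
    have h := g.conj_rootGen (g.acts_inv (S.n_acts o)) (S := {r | r ∈ neg})
      (T := minusSet (S.w o)) (fun s hs => by
        rw [inv_eq_of_mul_eq_one_right (S.w_sq o)]; exact hneg s hs)
      (Subgroup.mem_map_of_mem (MulAut.conj (S.n o)⁻¹).toMonoidHom hxn)
    simpa using h
  have h2 := S.conj_mem_comm (S.n_mem o) (hle h1)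
  rwa [show S.n o * ((S.n o)⁻¹ * x * S.n o) * (S.n o)⁻¹ = x by group] at h2

lemma perfect_of_closure {X : Set (GL D.Idx F)} (hX : S.G1 = Subgroup.closure X)
    (h : ∀ x ∈ X, x ∈ ⁅S.G1, S.G1⁆) : commutator ↥S.G1 = ⊤ := by
  refine Subgroup.map_injective S.G1.subtype_injective ?_
  rw [commutator_def, Subgroup.map_commutator, ← MonoidHom.range_eq_map, Subgroup.range_subtype]
  refine le_antisymm (Subgroup.commutator_le.2 fun a ha b hb =>
    mul_mem (mul_mem (mul_mem ha hb) (inv_mem ha)) (inv_mem hb)) ?_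
  conv_lhs => rw [hX]
  exact (Subgroup.closure_le _).2 h

end TwistSys

/-- A generator of the units has few killed exponents. -/
lemma exists_unit_zpow_ne_one (K : Type*) [Field K] [Fintype K] :
    ∃ x : Kˣ, ∀ z : ℤ, z ≠ 0 → z.natAbs < Fintype.card K - 1 → x ^ z ≠ 1 := by
  obtain ⟨x, hx⟩ := IsCyclic.exists_generator (α := Kˣ)
  refine ⟨x, fun z hz hlt he => ?_⟩
  have h := orderOf_dvd_iff_zpow_eq_one.2 he
  rw [orderOf_eq_card_of_forall_mem_zpowers hx, Nat.card_units, Nat.card_eq_fintype_card,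
    Int.natCast_dvd] at h
  exact absurd (Nat.le_of_dvd (Int.natAbs_pos.2 hz) h) (by omega)

namespace SetupF4

variable {K : Type*} [Field K] [Fintype K] {m : ℕ} (S : SetupF4 K m)
include S

theorem piece (hm : 1 ≤ m) (o : Fin 2) :
    S.T.fixedMinus (goodF4.wperm (wordsF4 o)) ≤ ⁅twistedF4 K (2 ^ m), twistedF4 K (2 ^ m)⁆ := by
  obtain ⟨x, hx⟩ := exists_unit_zpow_ne_one K
  refine S.sys.piece_mem_commutator hasCommF4 o (rs := minusF4 o)
    (show (minusF4 o).Pairwise (· < ·) by revert o; decide) (S.minusSet_w o)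
    (c := tauF4 m x x) (S.tau_mem x x) ?_
  intro r hr
  have hC : ∀ o : Fin 2, ∀ r ∈ minusF4 o, ∀ a b : ℤ,
      (a, b) = (chevF4.cartan (0 : ℕ) r + chevF4.cartan 1 r, chevF4.cartan 2 r + chevF4.cartan 3 r) →
      (a, b) ∈ [((0 : ℤ), (1 : ℤ)), (1, 0), (-2, 1), (1, -1), (-1, 0), (0, -1)] := by
    have h : ∀ o : Fin 2, ∀ r ∈ minusF4 o,
        (chevF4.cartan (0 : ℕ) r + chevF4.cartan 1 r, chevF4.cartan 2 r + chevF4.cartan 3 r) ∈
          [((0 : ℤ), (1 : ℤ)), (1, 0), (-2, 1), (1, -1), (-1, 0), (0, -1)] := by decide +kernel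
    intro o r hr a b e
    rw [e]; exact h o r hr
  have hprod : (∏ i : Fin chevF4.rank, tauF4 m x x i ^ chevF4.cartan i r : Kˣ) =
      x ^ ((2 ^ m : ℕ) * (chevF4.cartan (0 : ℕ) r + chevF4.cartan 1 r) +
        (chevF4.cartan 2 r + chevF4.cartan 3 r) : ℤ) := by
    show (∏ i : Fin 4, tauF4 m x x ⟨i.val, i.2⟩ ^ chevF4.cartan i.val r : Kˣ) = _
    simp only [Fin.prod_univ_four, tauF4]
    simp [_root_.zpow_add, mul_add, ← zpow_natCast, ← _root_.zpow_mul, mul_assoc]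
  rw [hprod]
  set C0 := chevF4.cartan (0 : ℕ) r + chevF4.cartan 1 r with h0
  set C1 := chevF4.cartan 2 r + chevF4.cartan 3 r with h1
  have hmem := hC o r hr C0 C1 rfl
  have he : 2 ≤ 2 ^ m := Nat.le_self_pow (by omega) 2
  have hq : Fintype.card K = 2 * 2 ^ m * 2 ^ m := by rw [S.card]; ring
  have hqq : 2 * 2 * 2 ^ m ≤ 2 * 2 ^ m * 2 ^ m := Nat.mul_le_mul_right _ (Nat.mul_le_mul_left _ he)
  simp only [List.mem_cons, List.not_mem_nil, or_false, Prod.mk.injEq] at hmem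
  generalize hE : 2 ^ m = E at *
  rcases hmem with ⟨e0, e1⟩ | ⟨e0, e1⟩ | ⟨e0, e1⟩ | ⟨e0, e1⟩ | ⟨e0, e1⟩ | ⟨e0, e1⟩ <;>
    rw [e0, e1] <;> exact hx _ (by omega) (by omega)

theorem perfect (hm : 1 ≤ m) : commutator ↥(twistedF4 K (2 ^ m)) = ⊤ := by
  refine S.sys.perfect_of_closure (twistedF4_eq K (2 ^ m)) ?_
  rintro y ⟨w, (⟨t, rfl | rfl⟩ | ⟨t, u, rfl | rfl⟩), rfl⟩
  · simp only [f4PairWord, f4p1, f4p4, List.map_cons, List.map_nil, List.prod_cons, List.prod_nil,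
      mul_one]
    refine S.piece hm 0 ?_
    rw [← (goodF4.xG_commute_check hasCommF4 (r := 24) (s := 33) (by decide +kernel)
      (by decide +kernel) (by decide +kernel) _ _).eq]
    exact S.pair_in t
  · simp only [f4PairWord, f4m1, f4m4, List.map_cons, List.map_nil, List.prod_cons, List.prod_nil,
      mul_one]
    refine S.sys.opposite_mem_commutator (0 : Fin 2) (S.piece hm 0) (neg := [14, 23]) ?_
      (S.pair_mem t).2 (mul_mem (goodF4.mem_rootGen (by decide +kernel) (show 14 ∈ [14, 23] by decide) _)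
        (goodF4.mem_rootGen (by decide +kernel) (show 23 ∈ [14, 23] by decide) _))
    intro s hs
    show _ ∈ minusSet (goodF4.wperm (wordsF4 0))
    rw [S.minusSet_w]
    show (goodF4.wperm (wordsF4 0) s).val ∈ minusF4 0
    rw [goodF4.wperm_tab checksF4 structChecksF4]
    have h : ∀ s ∈ [14, 23], wordApp sdataF4 ((wordsF4 0).map Fin.val) s ∈ minusF4 0 := by decide +kernel
    exact h s hs
  · simp only [b2ClassWord, f4a, f4b, f4ab, f4aab, List.map_cons, List.map_nil, List.prod_cons,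
      List.prod_nil, mul_one]
    refine S.piece hm 1 ?_
    rw [S.class_sorted]
    exact S.class_in t u
  · simp only [b2ClassWord, f4ma, f4mb, f4mab, f4maab, List.map_cons, List.map_nil, List.prod_cons,
      List.prod_nil, mul_one]
    have hl : ∀ r ∈ [20, 22, 19, 17], r < chevF4.nroots := by decide +kernel
    refine S.sys.opposite_mem_commutator (1 : Fin 2) (S.piece hm 1) (neg := [20, 22, 19, 17]) ?_
      (S.class_mem t u).2
      (mul_mem (goodF4.mem_rootGen (hl _ (by decide)) (show 20 ∈ [20, 22, 19, 17] by decide) _)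
        (mul_mem (goodF4.mem_rootGen (hl _ (by decide)) (show 22 ∈ [20, 22, 19, 17] by decide) _)
        (mul_mem (goodF4.mem_rootGen (hl _ (by decide)) (show 19 ∈ [20, 22, 19, 17] by decide) _)
          (goodF4.mem_rootGen (hl _ (by decide)) (show 17 ∈ [20, 22, 19, 17] by decide) _))))
    intro s hs
    show _ ∈ minusSet (goodF4.wperm (wordsF4 1))
    rw [S.minusSet_w]
    show (goodF4.wperm (wordsF4 1) s).val ∈ minusF4 1
    rw [goodF4.wperm_tab checksF4 structChecksF4]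
    have h : ∀ s ∈ [20, 22, 19, 17], wordApp sdataF4 ((wordsF4 1).map Fin.val) s ∈ minusF4 1 := by
      decide +kernel
    exact h s hs

theorem simple (hm : 1 ≤ m) :
    IsSimpleGroup ↥(twistedF4 K (2 ^ m)) ∧ ¬ IsMulCommutative ↥(twistedF4 K (2 ^ m)) := by
  refine S.sys.isSimple hasCommF4 S.hnt S.separates ?_ (S.perfect hm) (by show 0 < 2; omega)
  intro P hP
  have h01 : P (0 : Fin 2) ↔ P (1 : Fin 2) := hP (0 : Fin 2) (1 : Fin 2) fun h => by
    have h' : goodF4.wperm (wordsF4 0 ++ wordsF4 1) = goodF4.wperm (wordsF4 1 ++ wordsF4 0) := by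
      rw [goodF4.wperm_append, goodF4.wperm_append]; exact h
    have hno : ∃ s : Fin chevF4.nroots, wordApp sdataF4 ((wordsF4 0 ++ wordsF4 1).map Fin.val) s ≠
        wordApp sdataF4 ((wordsF4 1 ++ wordsF4 0).map Fin.val) s := by decide +kernel
    obtain ⟨s, hs⟩ := hno
    exact hs (by rw [← goodF4.wperm_tab checksF4 structChecksF4,
      ← goodF4.wperm_tab checksF4 structChecksF4, h'])
  have hall : ∀ x : Fin 2, P x ↔ P (0 : Fin 2) := by
    intro x
    fin_cases x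
    exacts [Iff.rfl, h01.symm]
  intro o o'
  exact (hall o).trans (hall o').symm

end SetupF4

namespace SetupG2

variable {K : Type*} [Field K] [Fintype K] {m : ℕ} (S : SetupG2 K m)
include S

theorem piece (hm : 1 ≤ m) :
    S.T.fixedMinus (goodG2.wperm wordG2) ≤ ⁅twistedG2 K (3 ^ m), twistedG2 K (3 ^ m)⁆ := by
  obtain ⟨x, hx⟩ := exists_unit_zpow_ne_one K
  refine S.sys.piece_mem_commutator hasCommG2 (0 : Fin 1) (rs := minusG2) (by decide) S.minusSet_w
    (c := tauG2 m x) (S.tau_mem x) ?_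
  intro r hr
  have hC : ∀ r ∈ minusG2, (chevG2.cartan (0 : ℕ) r, chevG2.cartan 1 r) ∈
      [((-3 : ℤ), (2 : ℤ)), (2, -1), (-1, 1), (1, 0), (3, -1), (0, 1)] := by decide +kernel
  have hprod : (∏ i : Fin chevG2.rank, tauG2 m x i ^ chevG2.cartan i r : Kˣ) =
      x ^ ((3 ^ m : ℕ) * chevG2.cartan (0 : ℕ) r + chevG2.cartan 1 r : ℤ) := by
    show (∏ i : Fin 2, tauG2 m x ⟨i.val, i.2⟩ ^ chevG2.cartan i.val r : Kˣ) = _
    simp only [Fin.prod_univ_two, tauG2]
    simp [_root_.zpow_add, ← zpow_natCast, ← _root_.zpow_mul]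
  rw [hprod]
  have hmem := hC r hr
  set C0 := chevG2.cartan (0 : ℕ) r
  set C1 := chevG2.cartan 1 r
  have he : 3 ≤ 3 ^ m := Nat.le_self_pow (by omega) 3
  have hq : Fintype.card K = 3 * 3 ^ m * 3 ^ m := by rw [S.card]; ring
  have hqq : 3 * 3 * 3 ^ m ≤ 3 * 3 ^ m * 3 ^ m := Nat.mul_le_mul_right _ (Nat.mul_le_mul_left _ he)
  simp only [List.mem_cons, List.not_mem_nil, or_false, Prod.mk.injEq] at hmem
  generalize hE : 3 ^ m = E at *
  rcases hmem with ⟨e0, e1⟩ | ⟨e0, e1⟩ | ⟨e0, e1⟩ | ⟨e0, e1⟩ | ⟨e0, e1⟩ | ⟨e0, e1⟩ <;>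
    rw [e0, e1] <;> exact hx _ (by omega) (by omega)

theorem perfect (hm : 1 ≤ m) : commutator ↥(twistedG2 K (3 ^ m)) = ⊤ := by
  refine S.sys.perfect_of_closure (twistedG2_eq K (3 ^ m)) ?_
  rintro y ⟨w, ⟨t, u, v, rfl | rfl⟩, rfl⟩
  · exact S.piece hm (S.word_in t u v)
  · refine S.sys.opposite_mem_commutator (0 : Fin 1) (S.piece hm) (neg := [4, 5, 3, 2, 1, 0]) ?_
      (by show _ ∈ twistedG2 K (3 ^ m); rw [S.wordV_eq]; exact (S.word_mem t u v).2) ?_
    · intro s hs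
      show _ ∈ minusSet (goodG2.wperm wordG2)
      rw [S.minusSet_w]
      show (goodG2.wperm wordG2 s).val ∈ minusG2
      rw [goodG2.wperm_tab checksG2 structChecksG2]
      have h : ∀ s ∈ [4, 5, 3, 2, 1, 0], wordApp sdataG2 (wordG2.map Fin.val) s ∈ minusG2 := by
        decide +kernel
      exact h s hs
    · rw [S.wordV_eq, four]
      have hl : ∀ i : Fin 6, ![4, 5, 3, 2, 1, 0] i < chevG2.nroots ∧
          ![4, 5, 3, 2, 1, 0] i ∈ [4, 5, 3, 2, 1, 0] := by decide +kernel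
      exact mul_mem (mul_mem (goodG2.mem_rootGen (hl 0).1 (hl 0).2 _)
        (goodG2.mem_rootGen (hl 1).1 (hl 1).2 _))
        (mul_mem (goodG2.mem_rootGen (hl 2).1 (hl 2).2 _)
        (mul_mem (goodG2.mem_rootGen (hl 3).1 (hl 3).2 _)
        (mul_mem (goodG2.mem_rootGen (hl 4).1 (hl 4).2 _)
          (goodG2.mem_rootGen (hl 5).1 (hl 5).2 _))))

theorem simple (hm : 1 ≤ m) :
    IsSimpleGroup ↥(twistedG2 K (3 ^ m)) ∧ ¬ IsMulCommutative ↥(twistedG2 K (3 ^ m)) := by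
  refine S.sys.isSimple hasCommG2 S.hnt S.separates ?_ (S.perfect hm) (by show 0 < 1; omega)
  intro P _ o o'
  rw [Subsingleton.elim (α := Fin 1) o o']

end SetupG2

end CfsgLib.Chev
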