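import Mathlib
import Cfsg.Agent.Lib.Chev.BNParabolic
import Cfsg.Agent.Lib.Chev.CoxeterExchange

/-!
The Weyl group of a (B,N)-pair is a Coxeter group.
-/

set_option autoImplicit false

namespace CfsgLib.Chev.BN

open Cfsg

variable {G : Type*} [Group G] (P : BNPair G)

/-- The image of a distinguished representative in `N / (B ⊓ N)`. -/
def wgen [((P.B ⊓ P.N).subgroupOf P.N).Normal] (s : P.S) : P.N ⧸ (P.B ⊓ P.N).subgroupOf P.N :=
  QuotientGroup.mk (⟨(s : G), P.subset s.2⟩ : P.N)

variable [((P.B ⊓ P.N).subgroupOf P.N).Normal]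

lemma mk_eq_mk {a b : P.N} : (QuotientGroup.mk a : P.N ⧸ (P.B ⊓ P.N).subgroupOf P.N) =
    QuotientGroup.mk b ↔ (a : G)⁻¹ * b ∈ P.B := by
  rw [QuotientGroup.eq, Subgroup.mem_subgroupOf]
  exact ⟨fun h => h.1, fun h => ⟨h, (a⁻¹ * b).2⟩⟩

lemma map_val_mem (l : List P.S) : (l.map Subtype.val).prod ∈ P.N :=
  prod_mem_N P subset_rfl fun x hx => by
    obtain ⟨y, _, rfl⟩ := List.mem_map.1 hx
    exact y.2

lemma wordVal_wgen (l : List P.S) :
    wordVal (wgen P) l = QuotientGroup.mk (⟨(l.map Subtype.val).prod, map_val_mem P l⟩ : P.N) := by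
  induction l with
  | nil => exact wordVal_nil
  | cons s l ih => rw [wordVal_cons, ih]; exact (QuotientGroup.mk_mul _ _ _).symm

lemma exists_subtype_word {n : G} {l : List G} (hl : IsWord P P.S l n) :
    ∃ l' : List P.S, l'.length = l.length ∧ (l'.map Subtype.val).prod⁻¹ * n ∈ P.B :=
  ⟨l.pmap Subtype.mk hl.1, List.length_pmap, by rw [List.map_pmap]; simpa using hl.2⟩

lemma isRed_wgen_iff (l : List P.S) :
    IsRed (wgen P) l ↔ len P (l.map Subtype.val).prod = l.length := by
  have hle : len P (l.map Subtype.val).prod ≤ l.length := by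
    have := len_le P (⟨fun x hx => by
      obtain ⟨y, _, rfl⟩ := List.mem_map.1 hx
      exact y.2, by simp⟩ : IsWord P P.S (l.map Subtype.val) (l.map Subtype.val).prod)
    simpa using this
  constructor
  · intro h
    refine le_antisymm hle ?_
    obtain ⟨m, hm, hlen⟩ := exists_reduced P (map_val_mem P l)
    obtain ⟨m', hm'l, hm'⟩ := exists_subtype_word P hm
    rw [← hlen, ← hm'l]
    exact h m' (by rw [wordVal_wgen, wordVal_wgen, mk_eq_mk]; exact hm')
  · intro h l' hl'
    rw [wordVal_wgen, wordVal_wgen, mk_eq_mk] at hl'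
    rw [← h]
    have := len_le P (⟨fun x hx => by
      obtain ⟨y, _, rfl⟩ := List.mem_map.1 hx
      exact y.2, hl'⟩ : IsWord P P.S (l'.map Subtype.val) (l.map Subtype.val).prod)
    simpa using this

lemma exchangeData : ExchangeData (wgen P) := by
  refine ⟨fun i => ?_, fun i h => ?_, fun i j h => ?_, ?_, ?_⟩
  · refine (QuotientGroup.mk_mul _ _ _).symm.trans ?_
    rw [QuotientGroup.eq_one_iff, Subgroup.mem_subgroupOf]
    exact ⟨P.sq_mem _ i.2, P.N.mul_mem (P.subset i.2) (P.subset i.2)⟩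
  · rw [wgen, QuotientGroup.eq_one_iff, Subgroup.mem_subgroupOf] at h
    exact s_not_mem_B P i.2 h.1
  · exact Subtype.ext (P.inj _ i.2 _ j.2 ((mk_eq_mk P).1 h))
  · refine Subgroup.eq_top_iff' _ |>.2 fun w => ?_
    obtain ⟨⟨n, hn⟩, rfl⟩ := QuotientGroup.mk_surjective w
    obtain ⟨l, hl⟩ := exists_isWord P hn
    obtain ⟨l', -, hl'⟩ := exists_subtype_word P hl
    have e : (QuotientGroup.mk (⟨n, hn⟩ : P.N) : P.N ⧸ (P.B ⊓ P.N).subgroupOf P.N) =
        wordVal (wgen P) l' := by
      rw [wordVal_wgen]; exact ((mk_eq_mk P).2 hl').symm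
    rw [e]
    exact Subgroup.list_prod_mem _ fun x hx => by
      obtain ⟨y, _, rfl⟩ := List.mem_map.1 hx
      exact Subgroup.subset_closure ⟨y, rfl⟩
  · intro i l hred hnred
    rw [isRed_wgen_iff] at hred hnred
    simp only [List.map_cons, List.prod_cons, List.length_cons] at hnred
    set lG := l.map Subtype.val with hlG
    have hS : ∀ x ∈ lG, x ∈ P.S := fun x hx => by
      obtain ⟨y, _, rfl⟩ := List.mem_map.1 hx
      exact y.2
    have hN : lG.prod ∈ P.N := map_val_mem P l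
    have hlen : lG.length = l.length := by simp [lG]
    have h1 := len_mul_le P (s_mem P i.2) hN
    have h2 := len_s_le P i.2
    have h3 := len_s_mul_ne P i.2 hN
    obtain ⟨j, hj, hB⟩ := exchange P hS (by omega) i.2 (by omega)
    refine ⟨j, by omega, ?_⟩
    rw [wordVal_wgen, wordVal_wgen]
    refine (QuotientGroup.mk_mul _ _ _).symm.trans ?_
    rw [mk_eq_mk]
    simp only [List.map_take]
    exact hB

theorem weyl_coxeter : ∃ (M : CoxeterMatrix P.S)
    (cs : CoxeterSystem M (P.N ⧸ (P.B ⊓ P.N).subgroupOf P.N)),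
    ∀ s : P.S, cs.simple s = QuotientGroup.mk (⟨(s : G), P.subset s.2⟩ : P.N) := by
  obtain ⟨M, cs, -, h⟩ := (exchangeData P).exists_coxeterSystem
  exact ⟨M, cs, h⟩

end CfsgLib.Chev.BN
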