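import Mathlib
import Cfsg.Agent.Lib.Chev.WeylJ

/-!
Boolean checks for the order, the inversion polynomial and the Coxeter matrix of a Weyl group.
-/

set_option autoImplicit false

namespace CfsgLib.Chev

open Cfsg.Lie

variable (D : ChevalleyDatum) (dat : LieData) (sd : StructData)

/-- A step of the chain: the set `J`, the dominant root, and the orbit as a tree
`(x, j, parent, degree)`. -/
structure WStep where
  /-- the fundamental roots in use -/
  J : List ℕ
  /-- the dominant root -/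
  v : ℕ
  /-- the orbit without its base point -/
  orb : List (ℕ × ℕ × ℕ × ℕ)

/-- Membership. -/
noncomputable def inL (J : List ℕ) (i : ℕ) : Bool := anyR (fun x => Nat.beq x i) J

/-- Support in `J`. -/
noncomputable def suppB (J : List ℕ) (a : ℕ) : Bool :=
  allR (fun q => inL J q || Int.beq' (rootCo dat a q) 0) (upto D.rank)

/-- The tree spans, each edge raising the degree. -/
noncomputable def treeOK (J : List ℕ) (l : List (ℕ × ℕ × ℕ × ℕ)) : List (ℕ × ℕ) → Bool :=
  List.rec
    (fun seen => allR (fun x : ℕ × ℕ =>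
      allR (fun j => anyR (fun y : ℕ × ℕ => Nat.beq y.1 (refl sd j x.1)) seen) J) seen)
    (fun t _ ih seen => inL J t.2.1 && Nat.beq (refl sd t.2.1 t.2.2.1) t.1 &&
      decide (0 < fcartan D t.2.1 t.2.2.1) &&
      anyR (fun y : ℕ × ℕ => Nat.beq y.1 t.2.2.1 && Nat.beq (y.2 + 1) t.2.2.2) seen &&
      !anyR (fun y : ℕ × ℕ => Nat.beq y.1 t.1) seen && ih ((t.1, t.2.2.2) :: seen)) l

/-- One step is correct. -/
noncomputable def stepOK (s : WStep) (J' : List ℕ) : Bool :=
  Nat.blt s.v D.nroots && allR (fun j => Nat.blt j D.rank) s.J && allR (fun j => inL s.J j) J' &&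
  allR (fun j => (inL J' j) == Int.beq' (fcartan D j s.v) 0) s.J &&
  allR (fun a => Nat.blt a (half D) || !suppB D dat s.J a ||
    (decide (0 ≤ fpair D a s.v) && (Int.beq' (fpair D a s.v) 0 == suppB D dat J' a))) (upto D.nroots) &&
  treeOK D sd s.J s.orb [(s.v, 0)]

/-- The set of the first step. -/
noncomputable def headJ (l : List WStep) : List ℕ := List.rec [] (fun s _ _ => s.J) l

/-- The chain is correct. -/
noncomputable def chainOK (l : List WStep) : Bool :=
  List.rec true (fun s l' ih => stepOK D dat sd s (headJ l') && ih) l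

/-- The inversion polynomial of a chain. -/
def polyOf (l : List WStep) (q : ℕ) : ℕ :=
  (l.map fun s => 1 + (s.orb.map fun t => q ^ t.2.2.2).sum).prod

/-- Evaluate the argument first (for the kernel). -/
noncomputable def strictN (x : ℕ) (f : ℕ → ℕ) : ℕ := Nat.rec (f 0) (fun n _ => f (n + 1)) x

lemma strictN_eq (x : ℕ) (f : ℕ → ℕ) : strictN x f = f x := by cases x <;> rfl

/-- The orders of the products of two reflections. -/
noncomputable def ordOK (M : List (List ℕ)) : Bool :=
  allR (fun i => allR (fun j =>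
    let m := nth 0 (nth [] M i) j
    let it : ℕ → ℕ → ℕ := fun k s =>
      Nat.rec s (fun _ x => strictN x fun y => strictN (refl sd j y) (refl sd i)) k
    Nat.blt 0 m && allR (fun s => Nat.beq (it m s) s) (upto D.nroots) &&
      allR (fun k => Nat.beq k 0 || anyR (fun s => !Nat.beq (it k s) s) (upto D.nroots)) (upto m))
    (upto D.rank)) (upto D.rank)

/-- The order of the Coxeter element. -/
noncomputable def coxOK (m : ℕ) : Bool :=
  let c : ℕ → ℕ := fun s => List.rec s (fun i _ ih => strictN ih (refl sd i)) (upto D.rank)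
  let it : ℕ → ℕ → ℕ := fun k s => Nat.rec s (fun _ x => strictN x c) k
  Nat.blt 0 m && allR (fun s => Nat.beq (it m s) s) (upto D.nroots) &&
    allR (fun k => Nat.beq k 0 || anyR (fun s => !Nat.beq (it k s) s) (upto D.nroots)) (upto m)

variable {D dat sd}

lemma inL_iff (J : List ℕ) (i : ℕ) : inL J i = true ↔ i ∈ J := by
  simp [inL, anyR_eq, List.any_eq_true, Nat.beq_eq]

namespace Good

variable (g : Good D) (hl : LieChecks D dat) (hs : StructChecks D dat sd)
include g hl hs

lemma rperm_tab (i : Fin D.rank) (s : Fin D.nroots) : (g.rperm i s).val = refl sd i s :=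
  (StructChecks.refl_facts hl hs i.2 s.2).1

lemma suppB_iff (J : List ℕ) (a : Fin D.nroots) :
    suppB D dat J a = true ↔ g.SuppIn {i | i ∈ J} a := by
  simp only [suppB, allR_eq, List.all_eq_true, Bool.or_eq_true, inL_iff, Int.beq'_eq, upto_eq,
    List.mem_range, SuppIn, Set.mem_ofPred_eq]
  refine forall₂_congr fun q hq => ?_
  rw [g.co_eq hl hs a.2 hq]
  tauto

theorem weylSum_chain (l : List WStep) (h : chainOK D dat sd l = true) (q : ℕ) :
    g.weylSum {i | i ∈ headJ l} q = polyOf l q := by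
  classical
  induction l with
  | nil =>
    rw [show {i | i ∈ headJ []} = (∅ : Set ℕ) by ext i; simp [headJ], g.weylSum_empty]
    rfl
  | cons s l ih =>
    have h' : (stepOK D dat sd s (headJ l) && chainOK D dat sd l) = true := h
    simp only [Bool.and_eq_true, stepOK, Nat.blt, Nat.ble_eq, allR_eq, List.all_eq_true, inL_iff,
      Nat.beq_eq] at h'
    obtain ⟨⟨⟨⟨⟨⟨hv, hJ⟩, hsub⟩, hfix⟩, hdom⟩, htree⟩, hrest⟩ := h'
    set v : Fin D.nroots := ⟨s.v, by omega⟩
    set J : Set ℕ := {i | i ∈ s.J}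
    set J' : Set ℕ := {i | i ∈ headJ l}
    have hdom' : ∀ a : Fin D.nroots, half D ≤ a.val → g.SuppIn J a →
        0 ≤ pair D a v ∧ (pair D a v = 0 ↔ g.SuppIn J' a) := by
      intro a ha hsa
      have := hdom a (by rw [upto_eq]; exact List.mem_range.2 a.2)
      simp only [Bool.or_eq_true, Bool.not_eq_true', Bool.and_eq_true, decide_eq_true_eq,
        beq_iff_eq, g.fpair_eq _ v.2] at this
      rcases this with (h1 | h1) | h1
      · have h1' : a.val + 1 ≤ half D := Nat.le_of_ble_eq_true h1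
        omega
      · rw [(g.suppB_iff hl hs s.J a).2 hsa] at h1; cases h1
      · refine ⟨(g.fpair_eq (a : ℕ) v.2) ▸ h1.1, ?_⟩
        have e := h1.2
        rw [show s.v = (v : ℕ) from rfl, g.fpair_eq _ v.2] at e
        rw [← g.suppB_iff hl hs, ← e, Int.beq'_eq]
    have hst : g.IsStep J J' v := by
      refine ⟨fun i hi => hsub i hi, fun j hj => ?_, fun a ha hsa => (hdom' a ha hsa).1,
        fun a ha hsa => (hdom' a ha hsa).2⟩
      have := hfix j hj
      rw [beq_iff_eq] at this
      show (j : ℕ) ∈ headJ l ↔ D.cartan j s.v = 0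
      rw [← inL_iff, this, Int.beq'_eq, cartan_eq hl.pack j.2 (by omega)]
    -- the orbit
    have key : ∀ (o : List (ℕ × ℕ × ℕ × ℕ)) (seen : List (ℕ × ℕ)),
        treeOK D sd s.J o seen = true →
        (∀ p ∈ seen, ∃ w ∈ g.wJ J, (w v).val = p.1 ∧ g.degJ J (w v) = p.2) →
        (∃ p ∈ seen, p.1 = v.val) → (seen.map Prod.fst).Nodup →
        ∃ L : List (ℕ × ℕ), (L.map Prod.fst).Nodup ∧
          (∀ x, (∃ p ∈ L, p.1 = x) ↔ ∃ w ∈ g.wJ J, (w v).val = x) ∧
          (∀ p ∈ L, ∃ w ∈ g.wJ J, (w v).val = p.1 ∧ g.degJ J (w v) = p.2) ∧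
          (L.map fun p => q ^ p.2).sum =
            (seen.map fun p => q ^ p.2).sum + (o.map fun t => q ^ t.2.2.2).sum := by
      intro o
      induction o with
      | nil =>
        intro seen ho hseen hvs hnd
        have ho' : allR (fun x : ℕ × ℕ => allR (fun j =>
          anyR (fun y : ℕ × ℕ => Nat.beq y.1 (refl sd j x.1)) seen) s.J) seen = true := ho
        simp only [allR_eq, List.all_eq_true, anyR_eq, List.any_eq_true, Nat.beq_eq] at ho'
        refine ⟨seen, hnd, fun x => ⟨?_, ?_⟩, hseen, by simp⟩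
        · rintro ⟨p, hp, rfl⟩
          obtain ⟨w, hw, h1, -⟩ := hseen p hp
          exact ⟨w, hw, h1⟩
        rintro ⟨w, hw, rfl⟩
        obtain ⟨m, hm, rfl⟩ := g.exists_wperm_J hw
        clear hw
        induction m with
        | nil => exact hvs
        | cons i m ihm =>
          obtain ⟨p, hp, hpe⟩ := ihm fun k hk => hm k (List.mem_cons_of_mem _ hk)
          obtain ⟨y, hy, hye⟩ := ho' p hp i (hm i (by simp))
          exact ⟨y, hy, by rw [wperm_cons, Equiv.Perm.mul_apply, g.rperm_tab hl hs, hye, hpe]⟩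
      | cons t o iho =>
        intro seen ho hseen hvs hnd
        have ho' : (inL s.J t.2.1 && Nat.beq (refl sd t.2.1 t.2.2.1) t.1 &&
            decide (0 < fcartan D t.2.1 t.2.2.1) &&
            anyR (fun y : ℕ × ℕ => Nat.beq y.1 t.2.2.1 && Nat.beq (y.2 + 1) t.2.2.2) seen &&
            !anyR (fun y : ℕ × ℕ => Nat.beq y.1 t.1) seen &&
            treeOK D sd s.J o ((t.1, t.2.2.2) :: seen)) = true := ho
        simp only [Bool.and_eq_true, inL_iff, Nat.beq_eq, anyR_eq, List.any_eq_true,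
          Bool.not_eq_true', List.any_eq_false, decide_eq_true_eq] at ho'
        obtain ⟨⟨⟨⟨⟨hj, he⟩, hA⟩, y, hy, hye, hyd⟩, hnew⟩, hr⟩ := ho'
        have hn : t.1 ∉ seen.map Prod.fst := fun hc => by
          obtain ⟨p, hp, hpe⟩ := List.mem_map.1 hc
          exact hnew _ hp hpe
        obtain ⟨L, h1, h2, h3, h4⟩ := iho ((t.1, t.2.2.2) :: seen) hr (fun p hp => by
          rcases List.mem_cons.1 hp with rfl | hp
          · obtain ⟨w, hw, hwv, hwd⟩ := hseen y hy
            have hj' : t.2.1 < D.rank := by have := hJ _ hj; omega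
            have hyv : (w v).val = t.2.2.1 := hwv.trans hye
            refine ⟨g.rperm ⟨t.2.1, hj'⟩ * w,
              mul_mem (Subgroup.subset_closure ⟨⟨t.2.1, hj'⟩, hj, rfl⟩) hw, ?_, ?_⟩
            · rw [Equiv.Perm.mul_apply, g.rperm_tab hl hs, hyv, he]
            · rw [Equiv.Perm.mul_apply, g.degJ_rperm (j := ⟨t.2.1, hj'⟩) hj (w v) (by
                rw [hyv, cartan_eq hl.pack hj' (hyv ▸ (w v).2)]; exact hA), hwd, hyd]
          · exact hseen p hp)
          (hvs.imp fun p hp => ⟨List.mem_cons_of_mem _ hp.1, hp.2⟩)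
          (List.nodup_cons.2 ⟨hn, hnd⟩)
        refine ⟨L, h1, h2, h3, ?_⟩
        rw [h4, List.map_cons, List.map_cons, List.sum_cons, List.sum_cons]
        ring
    obtain ⟨L, hnd, hmem, hdegL, hsum⟩ := key s.orb [(s.v, 0)] htree
      (fun p hp => ⟨1, one_mem _, by rw [List.mem_singleton.1 hp]; rfl,
        by rw [List.mem_singleton.1 hp]; exact g.degJ_base hst⟩)
      ⟨(s.v, 0), List.mem_singleton.2 rfl, rfl⟩ (by simp)
    set O : Finset (Fin D.nroots) := Finset.univ.filter fun x => ∃ p ∈ L, p.1 = x.val with hOdef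
    have hO : ∀ x, x ∈ O ↔ ∃ w ∈ g.wJ J, w v = x := fun x => by
      simp only [hOdef, Finset.mem_filter, Finset.mem_univ, true_and, hmem, Fin.ext_iff]
    have hinjL : ∀ p ∈ L, ∀ p' ∈ L, p.1 = p'.1 → p = p' := fun p hp p' hp' h =>
      List.inj_on_of_nodup_map hnd hp hp' h
    have hsumO : ∑ x ∈ O, q ^ g.degJ J x = 1 + (s.orb.map fun t => q ^ t.2.2.2).sum := by
      have e : ∑ p ∈ L.toFinset, q ^ p.2 = ∑ x ∈ O, q ^ g.degJ J x := by
        refine Finset.sum_bij (fun p hp => (⟨p.1, by
            obtain ⟨w, -, h1⟩ := (hmem p.1).1 ⟨p, List.mem_toFinset.1 hp, rfl⟩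
            rw [← h1]; exact (w v).2⟩ : Fin D.nroots)) ?_ ?_ ?_ ?_
        · intro p hp
          exact (hO _).2 (by
            obtain ⟨w, hw, h1⟩ := (hmem p.1).1 ⟨p, List.mem_toFinset.1 hp, rfl⟩
            exact ⟨w, hw, Fin.ext h1⟩)
        · intro p hp p' hp' h
          exact hinjL p (List.mem_toFinset.1 hp) p' (List.mem_toFinset.1 hp') (Fin.ext_iff.1 h)
        · intro x hx
          simp only [hOdef, Finset.mem_filter, Finset.mem_univ, true_and] at hx
          obtain ⟨p, hp, hpe⟩ := hx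
          exact ⟨p, List.mem_toFinset.2 hp, Fin.ext hpe⟩
        · intro p hp
          obtain ⟨w, hw, h1, h2⟩ := hdegL p (List.mem_toFinset.1 hp)
          rw [← h2]
          congr 2
          exact Fin.ext h1
      rw [← e, List.sum_toFinset _ (List.Nodup.of_map _ hnd), hsum]
      simp
    show g.weylSum J q = polyOf (s :: l) q
    rw [g.weylSum_step hst hO, hsumO, ih hrest]
    simp [polyOf]

lemma wordVal_orderOf {w : ↥g.weyl} {c : ℕ → ℕ} {m : ℕ}
    (hw : ∀ s : Fin D.nroots, (w.1 s).val = c s) (hm : 0 < m)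
    (h1 : ∀ s < D.nroots, (Nat.rec s (fun _ x => c x) m : ℕ) = s)
    (h2 : ∀ k < m, k ≠ 0 → ∃ s < D.nroots, (Nat.rec s (fun _ x => c x) k : ℕ) ≠ s) :
    orderOf w = m := by
  have hit : ∀ (k : ℕ) (s : Fin D.nroots),
      ((w ^ k).1 s).val = (Nat.rec (s : ℕ) (fun _ x => c x) k : ℕ) := by
    intro k
    induction k with
    | zero => intro s; rfl
    | succ k ih =>
      intro s
      rw [pow_succ', Subgroup.coe_mul, Equiv.Perm.mul_apply, hw, ih]
  rw [orderOf_eq_iff hm]
  refine ⟨Subtype.ext (Equiv.ext fun s => Fin.ext ?_), fun k hk hk0 hc => ?_⟩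
  · rw [hit, h1 s s.2]; rfl
  · obtain ⟨s, hs', hne⟩ := h2 k hk hk0.ne'
    apply hne
    rw [← hit k ⟨s, hs'⟩, hc]; rfl

theorem orderOf_wS (M : List (List ℕ)) (h : ordOK D sd M = true) (i j : Fin D.rank) :
    orderOf (g.wS i * g.wS j) = nth 0 (nth [] M i) j := by
  simp only [ordOK, strictN_eq, allR_eq, List.all_eq_true, upto_eq, List.mem_range, Bool.and_eq_true,
    Bool.or_eq_true, anyR_eq, List.any_eq_true, Nat.blt, Nat.ble_eq, Nat.beq_eq,
    Bool.not_eq_true'] at h
  obtain ⟨⟨hm, h1⟩, h2⟩ := h i i.2 j j.2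
  refine g.wordVal_orderOf hl hs (c := fun s => refl sd i (refl sd j s)) (fun s => ?_)
    (by omega) h1 (fun k hk hk0 => ?_)
  · rw [Subgroup.coe_mul, Equiv.Perm.mul_apply, ← g.rperm_tab hl hs j s]
    exact g.rperm_tab hl hs i _
  · rcases h2 k hk with h | ⟨s, hs', hne⟩
    · exact absurd h hk0
    · exact ⟨s, hs', fun hc => by rw [← Bool.not_eq_true, Nat.beq_eq] at hne; exact hne hc⟩

theorem orderOf_coxeterElement (m : ℕ) (h : coxOK D sd m = true) :
    orderOf ((List.finRange D.rank).map g.wS).prod = m := by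
  simp only [coxOK, strictN_eq, allR_eq, List.all_eq_true, upto_eq, List.mem_range, Bool.and_eq_true,
    Bool.or_eq_true, anyR_eq, List.any_eq_true, Nat.blt, Nat.ble_eq, Nat.beq_eq,
    Bool.not_eq_true'] at h
  obtain ⟨⟨hm, h1⟩, h2⟩ := h
  have hc : ∀ (l : List (Fin D.rank)) (s : Fin D.nroots), ((((l.map g.wS).prod : ↥g.weyl)).1 s).val =
      (List.rec (s : ℕ) (fun i _ ih => refl sd i ih) (l.map Fin.val) : ℕ) := by
    intro l s
    induction l with
    | nil => rfl
    | cons i l ih =>
      rw [List.map_cons, List.prod_cons, Subgroup.coe_mul, Equiv.Perm.mul_apply]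
      show (g.rperm i _).val = refl sd i _
      rw [g.rperm_tab hl hs, ih]
  refine g.wordVal_orderOf hl hs
    (c := fun s => List.rec s (fun i _ ih => refl sd i ih) (List.range D.rank)) (fun s => ?_)
    (by omega) h1 (fun k hk hk0 => ?_)
  · rw [hc, List.map_coe_finRange_eq_range]
  · rcases h2 k hk with h | ⟨s, hs', hne⟩
    · exact absurd h hk0
    · exact ⟨s, hs', fun hc => by rw [← Bool.not_eq_true, Nat.beq_eq] at hne; exact hne hc⟩

omit hl hs in
/-- The Weyl group is the Coxeter group of the matrix of orders. -/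
theorem exists_coxeterEquiv (M : CoxeterMatrix (Fin D.rank))
    (hM : ∀ i j, M i j = orderOf (g.wS i * g.wS j)) :
    ∃ e : ↥g.weyl ≃* M.Group, ∀ i, e (g.wS i) = M.simple i := by
  obtain ⟨M', cs, hM', hsimp⟩ := g.exchangeData.exists_coxeterSystem
  have : M' = M := by ext i j; rw [hM' i j, hM i j]
  subst this
  refine ⟨cs.mulEquiv, fun i => ?_⟩
  rw [← hsimp i]
  show cs.mulEquiv (cs.mulEquiv.symm (PresentedGroup.of i)) = _
  exact MulEquiv.apply_symm_apply cs.mulEquiv (PresentedGroup.of i : M'.Group)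

end Good

end CfsgLib.Chev
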