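import Mathlib
import Cfsg.Agent.Lib.Chev.TwistEDProps
import Cfsg.Agent.Lib.Chev.BNCoxeter
import Cfsg.Agent.Lib.Chev.WeylCheck

/-!
The Weyl group of a twisted group is a Coxeter group.
-/

set_option autoImplicit false
set_option maxHeartbeats 400000
set_option maxRecDepth 100000

namespace CfsgLib.Chev

open Cfsg.Lie

/-- The action of a word of reflections on root indices. -/
noncomputable def wordApp (sd : StructData) (w : List ℕ) (s : ℕ) : ℕ :=
  List.rec s (fun i _ ih => strictN ih (refl sd i)) w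

/-- A word has the given order. -/
noncomputable def ordWOK (D : ChevalleyDatum) (sd : StructData) (w : List ℕ) (m : ℕ) : Bool :=
  let it : ℕ → ℕ → ℕ := fun k s => Nat.rec s (fun _ x => strictN x (wordApp sd w)) k
  Nat.blt 0 m && allR (fun s => Nat.beq (it m s) s) (upto D.nroots) &&
    allR (fun k => Nat.beq k 0 || anyR (fun s => !Nat.beq (it k s) s) (upto D.nroots)) (upto m)

namespace Good

variable {D : ChevalleyDatum} (g : Good D) {dat : LieData} {sd : StructData}
  (hl : LieChecks D dat) (hs : StructChecks D dat sd)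
include g hl hs

lemma wperm_tab (l : List (Fin D.rank)) (s : Fin D.nroots) :
    (g.wperm l s).val = wordApp sd (l.map Fin.val) s := by
  induction l with
  | nil => rfl
  | cons i l ih =>
    rw [g.wperm_cons, Equiv.Perm.mul_apply, g.rperm_tab hl hs, ih, List.map_cons]
    exact (strictN_eq _ (refl sd i)).symm

lemma orderOf_wperm (l : List (Fin D.rank)) (m : ℕ) (h : ordWOK D sd (l.map Fin.val) m = true) :
    orderOf (g.wperm l) = m := by
  simp only [ordWOK, strictN_eq, allR_eq, List.all_eq_true, upto_eq, List.mem_range, Bool.and_eq_true,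
    Bool.or_eq_true, anyR_eq, List.any_eq_true, Nat.blt, Nat.ble_eq, Nat.beq_eq,
    Bool.not_eq_true'] at h
  obtain ⟨⟨hm, h1⟩, h2⟩ := h
  have hit : ∀ (k : ℕ) (s : Fin D.nroots), ((g.wperm l ^ k) s).val =
      (Nat.rec (s : ℕ) (fun _ x => wordApp sd (l.map Fin.val) x) k : ℕ) := by
    intro k s
    induction k with
    | zero => rfl
    | succ k ih => rw [pow_succ', Equiv.Perm.mul_apply, g.wperm_tab hl hs, ih]
  rw [orderOf_eq_iff (by omega)]
  refine ⟨Equiv.ext fun s => Fin.ext ?_, fun k hk hk0 hc => ?_⟩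
  · rw [hit, h1 s s.2]; rfl
  · rcases h2 k hk with h | ⟨s, hs', hne⟩
    · exact absurd h hk0.ne'
    · rw [← Bool.not_eq_true, Nat.beq_eq] at hne
      apply hne
      rw [← hit k ⟨s, hs'⟩, hc]
      rfl

end Good

namespace TwistSys

variable {D : ChevalleyDatum} {F : Type*} [Field F] {g : Good D} {T : Twist g F} (S : TwistSys T)

/-- `N¹/H¹` is the Coxeter group of the orders of products of the orbit elements. -/
theorem exists_coxeterHom (hc : HasComm D) (hnt : ∀ o, T.fixedMinus (S.w o) ≠ ⊥) {B : Type*}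
    (M : CoxeterMatrix B) (e : B ≃ Fin S.r)
    (hM : ∀ b b', M b b' = orderOf (S.w (e b) * S.w (e b'))) :
    ∃ φ : ↥(D.monomialSubgroup F ⊓ S.G1) →* M.Group, Function.Surjective φ ∧
      φ.ker = (D.diagonalSubgroup F ⊓ S.G1).subgroupOf (D.monomialSubgroup F ⊓ S.G1) := by
  let P := S.bnPair hc hnt
  have hle : D.monomialSubgroup F ⊓ S.G1 ≤ S.G1 := inf_le_right
  let π : P.N →* ↥T.weylFix :=
    S.rootAct1.comp (Subgroup.subgroupOfEquivOfLe hle).toMonoidHom
  have hπ : Function.Surjective π :=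
    S.rootAct1_surjective.comp (Subgroup.subgroupOfEquivOfLe hle).surjective
  have hker : π.ker = (P.B ⊓ P.N).subgroupOf P.N := by
    ext x
    have h1 : x ∈ π.ker ↔ (Subgroup.subgroupOfEquivOfLe hle) x ∈ S.rootAct1.ker := Iff.rfl
    rw [h1, S.rootAct1_ker, Subgroup.mem_subgroupOf, Subgroup.mem_subgroupOf]
    constructor
    · rintro ⟨hh, -⟩
      exact ⟨Subgroup.mem_subgroupOf.2 ⟨Subgroup.mem_sup_right hh, (x : ↥S.G1).2⟩, x.2⟩
    · rintro ⟨hb, hn⟩
      have : ((x : ↥S.G1) : GL D.Idx F) ∈ D.borelSubgroup F ⊓ D.monomialSubgroup F :=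
        ⟨(Subgroup.mem_subgroupOf.1 hb).1, (Subgroup.mem_subgroupOf.1 hn).1⟩
      rw [g.borel_inf_monomial] at this
      exact ⟨this, (x : ↥S.G1).2⟩
  have hn : ((P.B ⊓ P.N).subgroupOf P.N).Normal := hker ▸ MonoidHom.normal_ker π
  obtain ⟨M', cs, hM', hsimp⟩ := (BN.exchangeData P).exists_coxeterSystem
  let E : P.N ⧸ (P.B ⊓ P.N).subgroupOf P.N ≃* ↥T.weylFix :=
    (QuotientGroup.quotientMulEquivOfEq hker.symm).trans
      (QuotientGroup.quotientKerEquivOfSurjective π hπ)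
  have hgen : ∀ o, ∀ s : P.S, (s : ↥S.G1) = ⟨S.n o, S.n_mem o⟩ →
      ((E (BN.wgen P s) : ↥T.weylFix) : Equiv.Perm (Fin D.nroots)) = S.w o := by
    intro o s hs
    show ((S.rootAct1 _ : ↥T.weylFix) : Equiv.Perm (Fin D.nroots)) = _
    rw [S.coe_rootAct1]
    refine g.rootAct_eq ?_
    show g.Acts ((s : ↥S.G1) : GL D.Idx F) _
    rw [hs]
    exact S.n_acts o
  let fS : Fin S.r → P.S := fun o => ⟨⟨S.n o, S.n_mem o⟩, o, rfl⟩
  have hfS : Function.Bijective fS := by
    refine ⟨fun o o' h => S.w_inj ?_, fun s => ?_⟩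
    · have e' : S.n o = S.n o' := congrArg (fun s : P.S => ((s : ↥S.G1) : GL D.Idx F)) h
      exact g.acts_unique (S.n_acts o) (e' ▸ S.n_acts o')
    · obtain ⟨_, o, rfl⟩ := s
      exact ⟨o, rfl⟩
  let eB : B ≃ P.S := e.trans (Equiv.ofBijective fS hfS)
  have hMM : M'.reindex eB.symm = M := by
    ext b b'
    rw [CoxeterMatrix.reindex_apply, Equiv.symm_symm, hM', hM, ← E.orderOf_eq, map_mul,
      ← Subgroup.orderOf_coe, Subgroup.coe_mul, hgen (e b) _ rfl, hgen (e b') _ rfl]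
  let cs' : CoxeterSystem (M'.reindex eB.symm) ↥T.weylFix := (cs.reindex eB.symm).map E
  refine ⟨(hMM ▸ cs'.mulEquiv.toMonoidHom).comp S.rootAct1, ?_, ?_⟩
  · subst hMM
    exact cs'.mulEquiv.surjective.comp S.rootAct1_surjective
  · subst hMM
    rw [← S.rootAct1_ker]
    exact MonoidHom.ker_mulEquiv_comp _ cs'.mulEquiv

end TwistSys

theorem twistedE6_weyl (K : Type*) [Field K] [Fintype K] {q : ℕ} (hq : IsPrimePow q)
    (hK : Fintype.card K = q ^ 2) :
    ∃ φ : ↥(chevE6.monomialSubgroup K ⊓ twistedE6 K q) →* (CoxeterMatrix.F₄).Group,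
      Function.Surjective φ ∧ φ.ker = (chevE6.diagonalSubgroup K ⊓ twistedE6 K q).subgroupOf
        (chevE6.monomialSubgroup K ⊓ twistedE6 K q) := by
  obtain ⟨A, hG, hφ, hS, hr, ho⟩ := exists_setupE6 K hq hK
  have hc : HasComm chevE6 := hasComm_of_mem (by simp)
  have h4 : ∀ o' : Fin 4, ((orbE6 o').length = 1 ∨ (orbE6 o').length = 2) ∧
      ∃ i₀ ∈ orbE6 o', (A.S.pi : Fin chevE6.rank → Fin chevE6.rank)^[(orbE6 o').length] i₀ = i₀ ∧
        ∀ i ∈ orbE6 o', ∃ m < (orbE6 o').length,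
          (A.S.pi : Fin chevE6.rank → Fin chevE6.rank)^[m] i₀ = i := by
    rw [hS]; decide +kernel
  have hf := A.facts hc hq.one_lt hφ hK (by norm_num)
    (fun o => by rw [ho]; exact (h4 _).1) (fun o => by rw [ho]; exact (h4 _).2)
  rw [← hG]
  refine (A.sys hc).exists_coxeterHom hc hf.2.1 CoxeterMatrix.F₄
    ((Equiv.swap 2 3).trans (finCongr hr.symm)) fun b b' => ?_
  have e : ∀ o, (A.sys hc).w o = goodE6.wperm (orbE6 (Fin.cast hr o)) := fun o =>
    congrArg goodE6.wperm (ho o)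
  rw [e, e, ← goodE6.wperm_append]
  refine (goodE6.orderOf_wperm checksE6 structChecksE6 _ _ ?_).symm
  have : ∀ x y : Fin 4, ordWOK chevE6 sdataE6 ((orbE6 (Equiv.swap 2 3 x) ++
      orbE6 (Equiv.swap 2 3 y)).map Fin.val) (CoxeterMatrix.F₄ x y) = true := by decide +kernel
  exact this b b'

theorem twistedD4_weyl (K : Type*) [Field K] [Fintype K] {q : ℕ} (hq : IsPrimePow q)
    (hK : Fintype.card K = q ^ 3) :
    ∃ φ : ↥(chevD4.monomialSubgroup K ⊓ twistedD4 K q) →* (CoxeterMatrix.G₂).Group,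
      Function.Surjective φ ∧ φ.ker = (chevD4.diagonalSubgroup K ⊓ twistedD4 K q).subgroupOf
        (chevD4.monomialSubgroup K ⊓ twistedD4 K q) := by
  obtain ⟨A, hG, hφ, hS, hr, ho⟩ := exists_setupD4 K hq hK
  have hc : HasComm chevD4 := hasComm_of_mem (by simp)
  have h2 : ∀ o' : Fin 2, ((orbD4 o').length = 1 ∨ (orbD4 o').length = 3) ∧
      ∃ i₀ ∈ orbD4 o', (A.S.pi : Fin chevD4.rank → Fin chevD4.rank)^[(orbD4 o').length] i₀ = i₀ ∧
        ∀ i ∈ orbD4 o', ∃ m < (orbD4 o').length,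
          (A.S.pi : Fin chevD4.rank → Fin chevD4.rank)^[m] i₀ = i := by
    rw [hS]; decide +kernel
  have hf := A.facts hc hq.one_lt hφ hK (by norm_num)
    (fun o => by rw [ho]; exact (h2 _).1) (fun o => by rw [ho]; exact (h2 _).2)
  rw [← hG]
  refine (A.sys hc).exists_coxeterHom hc hf.2.1 CoxeterMatrix.G₂ (finCongr hr.symm) fun b b' => ?_
  have e : ∀ o, (A.sys hc).w o = goodD4.wperm (orbD4 (Fin.cast hr o)) := fun o =>
    congrArg goodD4.wperm (ho o)
  rw [e, e, ← goodD4.wperm_append]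
  refine (goodD4.orderOf_wperm checksD4 structChecksD4 _ _ ?_).symm
  have : ∀ x y : Fin 2, ordWOK chevD4 sdataD4 ((orbD4 x ++
      orbD4 y).map Fin.val) (CoxeterMatrix.G₂ x y) = true := by decide +kernel
  exact this b b'

end CfsgLib.Chev
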