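import Mathlib
import Cfsg.Agent.Lib.Chev.TwistH
import Cfsg.Agent.Lib.Chev.TwistWTables

/-!
The orders of ²E₆ and ³D₄ and of their diagonal subgroups.
-/

set_option autoImplicit false
set_option maxHeartbeats 800000
set_option maxRecDepth 100000

namespace CfsgLib.Chev

open Cfsg.Lie

/-- Units whose value is fixed by a power map. -/
lemma card_units_pow_eq {K : Type*} [Field K] [Fintype K] {q j : ℕ} (hq : 1 < q)
    (hK : Fintype.card K = q ^ j) : Nat.card {x : Kˣ // x ^ q = x} = q - 1 := by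
  have e : ∀ x : Kˣ, x ^ q = x ↔ x ∈ (powMonoidHom (q - 1) : Kˣ →* Kˣ).ker := fun x => by
    rw [MonoidHom.mem_ker, powMonoidHom_apply]
    constructor
    · intro h
      have h' : x ^ (q - 1) * x = 1 * x := by
        rw [one_mul, ← pow_succ, show q - 1 + 1 = q by omega, h]
      exact mul_right_cancel h'
    · intro h
      conv_lhs => rw [show q = q - 1 + 1 by omega, pow_succ, h, one_mul]
  rw [Nat.card_congr (Equiv.subtypeEquivRight e)]
  show Nat.card ↥(powMonoidHom (q - 1) : Kˣ →* Kˣ).ker = _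
  rw [IsCyclic.card_powMonoidHom_ker, Nat.card_units, Nat.card_eq_fintype_card, hK]
  refine Nat.gcd_eq_right ?_
  simpa using Nat.sub_dvd_pow_sub_pow q 1 j

namespace A1Setup

variable {D : ChevalleyDatum} {F : Type*} [Field F] {g : Good D} (A : A1Setup g F)

/-- The action on the parameters of the torus. -/
noncomputable def σT : (Fin D.rank → Fˣ) →* (Fin D.rank → Fˣ) where
  toFun c i := Units.map A.φ.toMonoidHom (c (A.S.pi.symm i))
  map_one' := by funext i; simp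
  map_mul' c d := by funext i; simp

lemma σT_eq_iff {c : Fin D.rank → Fˣ} : A.σT c = c ↔ c ∈ A.T0 := by
  rw [A.mem_T0, funext_iff]
  constructor
  · intro h i
    have := congrArg Units.val (h (A.S.pi i))
    simpa [σT] using this.symm
  · intro h i
    refine Units.ext ?_
    show A.φ (c (A.S.pi.symm i)) = _
    rw [← h, Equiv.apply_symm_apply]

lemma σ_torHom (c : Fin D.rank → Fˣ) (h : torHom D F c ∈ D.group F) :
    (A.T.σ ⟨torHom D F c, h⟩ : GL D.Idx F) = torHom D F (A.σT c) := by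
  have hmem : ∀ d, torHom D F d ∈ D.group F := fun d => g.diagonal_le_group (g.torHom_mem d)
  suffices H : ∀ s : Finset (Fin D.rank),
      (A.T.σ ⟨torHom D F (∏ i ∈ s, Pi.mulSingle i (c i)), hmem _⟩ : GL D.Idx F) =
        torHom D F (A.σT (∏ i ∈ s, Pi.mulSingle i (c i))) by
    have := H Finset.univ
    simp only [Finset.univ_prod_mulSingle] at this
    exact this
  intro s
  induction s using Finset.induction with
  | empty =>
    rw [show (⟨torHom D F (∏ i ∈ (∅ : Finset (Fin D.rank)), Pi.mulSingle i (c i)), hmem _⟩ :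
      ↥(D.group F)) = 1 from Subtype.ext (by simp), map_one]
    simp
  | insert a s ha ih =>
    rw [show (⟨torHom D F (∏ i ∈ insert a s, Pi.mulSingle i (c i)), hmem _⟩ : ↥(D.group F)) =
      ⟨torHom D F (Pi.mulSingle a (c a)), hmem _⟩ *
        ⟨torHom D F (∏ i ∈ s, Pi.mulSingle i (c i)), hmem _⟩ from
        Subtype.ext (by
          show torHom D F (∏ i ∈ insert a s, Pi.mulSingle i (c i)) = _ * _
          rw [Finset.prod_insert ha, map_mul]),
      map_mul, Subgroup.coe_mul, ih, Finset.prod_insert ha, map_mul, map_mul]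
    congr 1
    have hn : ∀ u : Fˣ, g.nG (D.simple a) u ∈ D.group F := fun u =>
      g.monomial_le_group (Twist.nG_mem_monomial (g.simple_lt a.2) u)
    rw [show (⟨torHom D F (Pi.mulSingle a (c a)), hmem _⟩ : ↥(D.group F)) =
      ⟨g.nG (D.simple a) (c a), hn _⟩ * ⟨g.nG (D.simple a) (-1), hn _⟩ from
        Subtype.ext ((g.torHom_single a (c a)).trans (g.hG_eq (g.simple_lt a.2) (c a))),
      map_mul, Subgroup.coe_mul]
    obtain ⟨u, hu, e1⟩ := A.T.σ_nG (g.simple_lt a.2) (c a) (hn _)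
    obtain ⟨v, hv, e2⟩ := A.T.σ_nG (g.simple_lt a.2) (-1) (hn _)
    rw [show (⟨D.simple a, g.simple_lt a.2⟩ : Fin D.nroots) = g.sroot a from rfl] at e1 e2 hu hv
    rw [A.f_pos] at hu hv
    rw [A.ρ_sroot'] at e1 e2
    obtain rfl : v = -1 := Units.ext (by simp [hv])
    rw [e1, e2]
    have hs : A.σT (Pi.mulSingle a (c a)) = Pi.mulSingle (A.S.pi a) u := by
      funext i
      refine Units.ext ?_
      show A.φ (Pi.mulSingle (M := fun _ => Fˣ) a (c a) (A.S.pi.symm i) : F) = _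
      by_cases hi : i = A.S.pi a
      · subst hi; simp [hu]
      · rw [Pi.mulSingle_eq_of_ne hi, Pi.mulSingle_eq_of_ne (fun e => hi (by rw [← e]; simp))]
        simp
    rw [hs, g.torHom_single, g.hG_eq (g.simple_lt (A.S.pi a).2)]
    rfl

lemma ker_of_fixed (hc : HasComm D) {c : Fin D.rank → Fˣ} (h : torHom D F c ∈ A.G1) :
    torHom D F (A.σT c * c⁻¹) = 1 := by
  have hG : torHom D F c ∈ D.group F := g.diagonal_le_group (g.torHom_mem c)
  have h1 := congrArg Subtype.val ((A.T.mem_fixed ⟨_, hG⟩).1 (A.G1_le_fixed hc h))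
  rw [A.σ_torHom] at h1
  rw [map_mul, map_inv, h1]
  exact mul_inv_cancel _

lemma ker_σT {c : Fin D.rank → Fˣ} (h : torHom D F c = 1) : torHom D F (A.σT c) = 1 := by
  rw [← A.σ_torHom c (h ▸ one_mem _), show (⟨torHom D F c, h ▸ one_mem _⟩ : ↥(D.group F)) = 1 from
    Subtype.ext h, map_one]
  rfl

/-- `H ∩ G¹` is the image of the fixed torus, if the centre has odd exponent. -/
theorem diag_inf_eq_of_odd (hc : HasComm D) (hsym : A.CoSym) {e : ℕ} (he : Odd e)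
    (hexp : ∀ c : Fin D.rank → Fˣ, torHom D F c = 1 → c ^ e = 1) :
    D.diagonalSubgroup F ⊓ A.G1 = A.H0 := by
  refine le_antisymm (fun x hx => ?_) (le_inf A.H0_le_diag (A.H0_le_G1 hc))
  obtain ⟨h, hh, k, hk, hk2, rfl⟩ := A.diag_inf_decomp hc hsym hx
  have hk' := hk.1
  rw [g.diagonal_eq_range] at hk'
  obtain ⟨c, rfl⟩ := hk'
  refine mul_mem hh ?_
  have h1 := hexp _ (A.ker_of_fixed hc hk.2)
  rw [mul_pow, inv_pow, mul_inv_eq_one, ← map_pow, A.σT_eq_iff] at h1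
  obtain ⟨m, rfl⟩ := he
  refine ⟨_, h1, ?_⟩
  rw [map_pow, pow_succ, pow_mul, sq, hk2, one_pow, one_mul]

/-- `H ∩ G¹` is the image of the fixed torus, if the symmetry fixes no central element. -/
theorem diag_inf_eq_of_free [Finite F] (hc : HasComm D)
    (hfree : ∀ c : Fin D.rank → Fˣ, torHom D F c = 1 → A.σT c = c → c = 1) :
    D.diagonalSubgroup F ⊓ A.G1 = A.H0 := by
  refine le_antisymm (fun x hx => ?_) (le_inf A.H0_le_diag (A.H0_le_G1 hc))
  have hx' := hx.1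
  rw [g.diagonal_eq_range] at hx'
  obtain ⟨c, rfl⟩ := hx'
  let ψ : ↥(torHom D F).ker → ↥(torHom D F).ker := fun z => ⟨A.σT z.1 * z.1⁻¹, by
    rw [MonoidHom.mem_ker, map_mul, map_inv, A.ker_σT (MonoidHom.mem_ker.1 z.2),
      MonoidHom.mem_ker.1 z.2, inv_one, mul_one]⟩
  have hψ : Function.Injective ψ := by
    intro a b hab
    have h : A.σT (a.1 * b.1⁻¹) = a.1 * b.1⁻¹ := by
      have h' := congrArg Subtype.val hab
      simp only [ψ] at h'
      rw [map_mul, map_inv, mul_inv_eq_iff_eq_mul]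
      calc A.σT a.1 = A.σT a.1 * (a.1)⁻¹ * a.1 := (inv_mul_cancel_right _ _).symm
        _ = A.σT b.1 * (b.1)⁻¹ * a.1 := by rw [h']
        _ = a.1 * (b.1)⁻¹ * A.σT b.1 := by
          rw [mul_comm, mul_comm (A.σT b.1), mul_assoc]
    have h2 := hfree _ (MonoidHom.mem_ker.1 (mul_mem a.2 (inv_mem b.2))) h
    exact Subtype.ext (mul_inv_eq_one.1 h2)
  obtain ⟨z, hz⟩ := (Finite.injective_iff_surjective.1 hψ)
    ⟨A.σT c * c⁻¹, MonoidHom.mem_ker.2 (A.ker_of_fixed hc hx.2)⟩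
  have hz' : A.σT z.1 * z.1⁻¹ = A.σT c * c⁻¹ := congrArg Subtype.val hz
  refine ⟨c * z.1⁻¹, A.σT_eq_iff.1 ?_, ?_⟩
  · rw [map_mul, map_inv, mul_inv_eq_iff_eq_mul]
    calc A.σT c = A.σT c * c⁻¹ * c := (inv_mul_cancel_right _ _).symm
      _ = A.σT z.1 * z.1⁻¹ * c := by rw [hz']
      _ = c * z.1⁻¹ * A.σT z.1 := by rw [mul_comm, mul_comm (A.σT z.1), mul_assoc]
  · rw [map_mul, map_inv, MonoidHom.mem_ker.1 z.2, inv_one, mul_one]

end A1Setup

/-- The Cartan matrix of E6. -/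
abbrev cartE6 : Matrix (Fin 6) (Fin 6) ℤ :=
  !![2, 0, -1, 0, 0, 0; 0, 2, 0, -1, 0, 0; -1, 0, 2, -1, 0, 0;
     0, -1, -1, 2, -1, 0; 0, 0, 0, -1, 2, -1; 0, 0, 0, 0, -1, 2]

/-- The Cartan matrix of D4. -/
abbrev cartD4 : Matrix (Fin 4) (Fin 4) ℤ := !![2, -1, 0, 0; -1, 2, -1, -1; 0, -1, 2, 0; 0, -1, 0, 2]

/-- A tuple over the fundamental roots of E6. -/
abbrev e6 {α : Type*} (c : Fin chevE6.rank → α) : Fin 6 → α := c

lemma cartanE6_eq : (cartanMat chevE6 : Matrix (Fin 6) (Fin 6) ℤ) = cartE6 := by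
  have h : ∀ i j : Fin 6, chevE6.cartan i (chevE6.simple j) = nth 0 (nth [] [[2, 0, -1, 0, 0, 0],
      [0, 2, 0, -1, 0, 0], [-1, 0, 2, -1, 0, 0], [0, -1, -1, 2, -1, 0], [0, 0, 0, -1, 2, -1],
      [0, 0, 0, 0, -1, 2]] i) j := by decide +kernel
  refine Matrix.ext fun (i j : Fin 6) => (h i j).trans ?_
  fin_cases i <;> fin_cases j <;> rfl

lemma cartanD4_eq : (cartanMat chevD4 : Matrix (Fin 4) (Fin 4) ℤ) = cartD4 := by
  have h : ∀ i j : Fin 4, chevD4.cartan i (chevD4.simple j) =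
      nth 0 (nth [] [[2, -1, 0, 0], [-1, 2, -1, -1], [0, -1, 2, 0], [0, -1, 0, 2]] i) j := by
    decide +kernel
  refine Matrix.ext fun (i j : Fin 4) => (h i j).trans ?_
  fin_cases i <;> fin_cases j <;> rfl

lemma kerE6_iff {K : Type*} [Field K] (c : Fin 6 → Kˣ) :
    torHom chevE6 K c = 1 ↔ powMap (ι := Fin 6) cartE6 c = 1 := by
  rw [← cartanE6_eq]
  exact goodE6.torHom_eq_one_iff c

lemma kerD4_iff {K : Type*} [Field K] (c : Fin 4 → Kˣ) :
    torHom chevD4 K c = 1 ↔ powMap (ι := Fin 4) cartD4 c = 1 := by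
  rw [← cartanD4_eq]
  exact goodD4.torHom_eq_one_iff c

/-- The kernel of the torus map of E6. -/
lemma kerE6 {K : Type*} [Field K] {c : Fin 6 → Kˣ} (h : torHom chevE6 K c = 1) :
    c ^ 3 = 1 := by
  rw [kerE6_iff] at h
  have h' := congrArg (powMap (G := Kˣ) (ι := Fin 6)
    !![4, 3, 5, 6, 4, 2; 3, 6, 6, 9, 6, 3; 5, 6, 10, 12, 8, 4;
       6, 9, 12, 18, 12, 6; 4, 6, 8, 12, 10, 5; 2, 3, 4, 6, 5, 4]) h
  rw [map_one] at h'
  rw [← MonoidHom.comp_apply, ← powMap_mul] at h'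
  rw [show cartE6 *
      !![4, 3, 5, 6, 4, 2; 3, 6, 6, 9, 6, 3; 5, 6, 10, 12, 8, 4;
       6, 9, 12, 18, 12, 6; 4, 6, 8, 12, 10, 5; 2, 3, 4, 6, 5, 4] =
      Matrix.diagonal (fun _ => (3 : ℤ)) by decide +kernel] at h'
  funext i
  have := congrFun h' i
  rw [powMap_apply, Finset.prod_eq_single (i : Fin 6)
    (fun j _ hj => by simp [Matrix.diagonal_apply_ne _ hj]) (by simp), Matrix.diagonal_apply_eq,
    show (3 : ℤ) = ((3 : ℕ) : ℤ) from rfl, zpow_natCast] at this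
  exact this

lemma kerE6_form {K : Type*} [Field K] {c : Fin 6 → Kˣ} (h : torHom chevE6 K c = 1) :
    c 1 = 1 ∧ c 2 = c 0 ^ 2 ∧ c 3 = 1 ∧ c 4 = c 0 ∧ c 5 = c 0 ^ 2 := by
  rw [kerE6_iff] at h
  have h' := congrArg (powMap (G := Kˣ) (ι := Fin 6)
    !![0, 1, -1, 2, 0, -2; 0, 2, 0, 3, 1, -1; 0, 2, 0, 4, 1, -2;
       0, 3, 0, 6, 2, -2; 0, 2, 0, 4, 2, -1; 0, 1, 0, 2, 1, 0]) h
  rw [map_one] at h'
  rw [← MonoidHom.comp_apply, ← powMap_mul] at h'
  rw [show cartE6 *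
      !![0, 1, -1, 2, 0, -2; 0, 2, 0, 3, 1, -1; 0, 2, 0, 4, 1, -2;
       0, 3, 0, 6, 2, -2; 0, 2, 0, 4, 2, -1; 0, 1, 0, 2, 1, 0] =
      !![0, 0, -2, 0, -1, -2; 0, 1, 0, 0, 0, 0; 0, 0, 1, 0, 0, 0;
       0, 0, 0, 1, 0, 0; 0, 0, 0, 0, 1, 0; 0, 0, 0, 0, 0, 1] by decide +kernel] at h'
  have ev : ∀ j : Fin 6, powMap (G := Kˣ) (ι := Fin 6)
      !![0, 0, -2, 0, -1, -2; 0, 1, 0, 0, 0, 0; 0, 0, 1, 0, 0, 0;
       0, 0, 0, 1, 0, 0; 0, 0, 0, 0, 1, 0; 0, 0, 0, 0, 0, 1] c j = 1 := fun j => congrFun h' j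
  have h1 := ev 1
  have h2 := ev 2
  have h3 := ev 3
  have h4 := ev 4
  have h5 := ev 5
  simp [powMap_apply, Fin.prod_univ_six] at h1 h2 h3 h4 h5
  rw [inv_mul_eq_one] at h4
  refine ⟨h1, ?_, h3, h4.symm, ?_⟩
  · rw [inv_mul_eq_one] at h2; exact h2.symm
  · rw [inv_mul_eq_one] at h5; exact h5.symm


section E6

variable {K : Type*} [Field K] [Fintype K] {q : ℕ}

variable (A : A1Setup goodE6 K) (hS : A.S = rootSymOf goodE6 checksE6 structChecksE6 rhoE6_ok)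
  (hφ : ∀ t, A.φ t = t ^ q)

include hS hφ

lemma mem_T0_E6 (c : Fin chevE6.rank → Kˣ) : c ∈ A.T0 ↔
    e6 c 5 = e6 c 0 ^ q ∧ e6 c 1 = e6 c 1 ^ q ∧ e6 c 4 = e6 c 2 ^ q ∧ e6 c 3 = e6 c 3 ^ q ∧
      e6 c 2 = e6 c 4 ^ q ∧ e6 c 0 = e6 c 5 ^ q := by
  rw [A.mem_T0]
  have hv : ∀ i : Fin 6, (A.S.pi i).val = nth 0 [5, 1, 4, 3, 2, 0] i := by
    rw [hS]; decide +kernel
  have hpi : ∀ i : Fin chevE6.rank, A.S.pi i = (![5, 1, 4, 3, 2, 0] (i : Fin 6) : Fin 6) :=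
    fun (i : Fin 6) => Fin.ext ((hv i).trans (by fin_cases i <;> rfl))
  simp only [hφ]
  constructor
  · intro h
    have h' : ∀ i : Fin 6, e6 c (![5, 1, 4, 3, 2, 0] i) = e6 c i ^ q := fun i => Units.ext (by
      exact ((congrArg (fun j => (c j : K)) (hpi i)).symm.trans (h i)).trans
        (Units.val_pow_eq_pow_val _ _).symm)
    exact ⟨h' 0, h' 1, h' 2, h' 3, h' 4, h' 5⟩
  · rintro ⟨a, b, d, e, f, g⟩ i
    have hi : ∀ i : Fin 6, e6 c (![5, 1, 4, 3, 2, 0] i) = e6 c i ^ q := by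
      intro i; fin_cases i <;> assumption
    rw [hpi]
    have := congrArg Units.val (hi i)
    simpa using this

theorem card_T0_E6 (hq : 1 < q) (hK : Fintype.card K = q ^ 2) :
    Nat.card A.T0 = (q - 1) ^ 4 * (q + 1) ^ 2 := by
  have hqq : ∀ x : Kˣ, (x ^ q) ^ q = x := fun x => Units.ext (by
    simp only [Units.val_pow_eq_pow_val]
    rw [← pow_mul, ← sq, ← hK, FiniteField.pow_card])
  let e : ↥A.T0 ≃ {x : Kˣ // x ^ q = x} × {x : Kˣ // x ^ q = x} × Kˣ × Kˣ :=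
    { toFun := fun c => (⟨e6 c.1 1, ((mem_T0_E6 A hS hφ c.1).1 c.2).2.1.symm⟩,
        ⟨e6 c.1 3, ((mem_T0_E6 A hS hφ c.1).1 c.2).2.2.2.1.symm⟩,
        e6 c.1 0, e6 c.1 2)
      invFun := fun p => ⟨(![p.2.2.1, p.1.1, p.2.2.2, p.2.1.1, p.2.2.2 ^ q, p.2.2.1 ^ q] : Fin 6 → Kˣ),
        (mem_T0_E6 A hS hφ _).2 ⟨rfl, p.1.2.symm, rfl, p.2.1.2.symm, (hqq _).symm, (hqq _).symm⟩⟩
      left_inv := fun c => by
        obtain ⟨a, -, d, -, -, -⟩ := (mem_T0_E6 A hS hφ c.1).1 c.2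
        refine Subtype.ext (funext fun i => ?_)
        show (![_, _, _, _, _, _] : Fin 6 → Kˣ) i = _
        fin_cases i
        exacts [rfl, rfl, rfl, rfl, d.symm, a.symm]
      right_inv := fun p => rfl }
  rw [Nat.card_congr e, Nat.card_prod, Nat.card_prod, Nat.card_prod, card_units_pow_eq hq hK,
    Nat.card_units, Nat.card_eq_fintype_card, hK, ← one_pow 2, Nat.sq_sub_sq, one_pow]
  ring

theorem card_kerT0_E6 (hK : Fintype.card K = q ^ 2) (hq : 1 < q) :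
    Nat.card ↥(A.T0 ⊓ (torHom chevE6 K).ker) = Nat.gcd 3 (q + 1) := by
  have hker : ∀ c : Fin 6 → Kˣ, torHom chevE6 K c = 1 ↔ powMap (ι := Fin 6) cartE6 c = 1 :=
    fun c => kerE6_iff c
  have hdiv : Nat.gcd 3 (q + 1) ∣ Fintype.card K - 1 := by
    refine (Nat.gcd_dvd_right _ _).trans ?_
    rw [hK, ← one_pow 2, Nat.sq_sub_sq]
    exact Dvd.intro _ rfl
  have hmem : ∀ x : Kˣ, x ^ Nat.gcd 3 (q + 1) = 1 ↔ x ^ 3 = 1 ∧ x ^ q = x⁻¹ := fun x => by
    rw [pow_gcd_eq_one, eq_inv_iff_mul_eq_one, ← pow_succ]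
  let e : ↥(A.T0 ⊓ (torHom chevE6 K).ker) ≃ ↥(powMonoidHom (Nat.gcd 3 (q + 1)) : Kˣ →* Kˣ).ker :=
    { toFun := fun c => ⟨e6 c.1 0, by
        rw [MonoidHom.mem_ker, powMonoidHom_apply, hmem]
        have h3 : ∀ i : Fin 6, e6 c.1 i ^ 3 = 1 := fun i =>
          congrFun (kerE6 (MonoidHom.mem_ker.1 c.2.2)) i
        refine ⟨h3 0, ?_⟩
        obtain ⟨a, -⟩ := (mem_T0_E6 A hS hφ c.1).1 c.2.1
        obtain ⟨-, -, -, -, k⟩ := kerE6_form (MonoidHom.mem_ker.1 c.2.2)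
        exact a.symm.trans (k.trans
          (inv_eq_of_mul_eq_one_right (by rw [← pow_succ']; exact h3 0)).symm)⟩
      invFun := fun x => ⟨(![x.1, 1, x.1 ^ 2, 1, x.1, x.1 ^ 2] : Fin 6 → Kˣ), by
        have hx := x.2
        rw [MonoidHom.mem_ker, powMonoidHom_apply, hmem] at hx
        obtain ⟨h3, hxq⟩ := hx
        have hinv : x.1⁻¹ = x.1 ^ 2 := inv_eq_of_mul_eq_one_right (by rw [← pow_succ']; exact h3)
        have h4 : (x.1 ^ 2) ^ q = x.1 := by
          rw [← pow_mul, mul_comm, pow_mul, hxq, inv_pow]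
          exact inv_eq_of_mul_eq_one_right (by rw [← pow_succ]; exact h3)
        refine Subgroup.mem_inf.2 ⟨(mem_T0_E6 A hS hφ _).2
          ⟨(hxq.trans hinv).symm, (one_pow _).symm, h4.symm, (one_pow _).symm,
            (hxq.trans hinv).symm, h4.symm⟩, MonoidHom.mem_ker.2 ((hker _).2 ?_)⟩
        have h6 : x.1 ^ 6 = 1 := by rw [show 6 = 3 * 2 from rfl, pow_mul, h3, one_pow]
        funext j
        fin_cases j <;>
          simp [powMap_apply, Fin.prod_univ_six, hinv, ← pow_succ, ← pow_succ', ← pow_mul, ← pow_add,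
            h3, h6]⟩
      left_inv := fun c => by
        obtain ⟨b, d, f, g, k⟩ := kerE6_form (MonoidHom.mem_ker.1 c.2.2)
        refine Subtype.ext (funext fun i => ?_)
        show (![_, _, _, _, _, _] : Fin 6 → Kˣ) i = _
        fin_cases i
        exacts [rfl, b.symm, d.symm, f.symm, g.symm, k.symm]
      right_inv := fun x => rfl }
  rw [Nat.card_congr e, IsCyclic.card_powMonoidHom_ker, Nat.card_units, Nat.card_eq_fintype_card]
  exact Nat.gcd_eq_right hdiv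

end E6

/-- A tuple over the fundamental roots of D4. -/
abbrev d4 {α : Type*} (c : Fin chevD4.rank → α) : Fin 4 → α := c

section D4

variable {K : Type*} [Field K] [Fintype K] {q : ℕ}

variable (A : A1Setup goodD4 K) (hS : A.S = rootSymOf goodD4 checksD4 structChecksD4 rhoD4_ok)
  (hφ : ∀ t, A.φ t = t ^ q)

include hS hφ

lemma mem_T0_D4 (c : Fin chevD4.rank → Kˣ) : c ∈ A.T0 ↔
    d4 c 2 = d4 c 0 ^ q ∧ d4 c 1 = d4 c 1 ^ q ∧ d4 c 3 = d4 c 2 ^ q ∧ d4 c 0 = d4 c 3 ^ q := by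
  rw [A.mem_T0]
  have hv : ∀ i : Fin 4, (A.S.pi i).val = nth 0 [2, 1, 3, 0] i := by
    rw [hS]; decide +kernel
  have hpi : ∀ i : Fin chevD4.rank, A.S.pi i = (![2, 1, 3, 0] (i : Fin 4) : Fin 4) :=
    fun (i : Fin 4) => Fin.ext ((hv i).trans (by fin_cases i <;> rfl))
  simp only [hφ]
  constructor
  · intro h
    have h' : ∀ i : Fin 4, d4 c (![2, 1, 3, 0] i) = d4 c i ^ q := fun i => Units.ext (
      ((congrArg (fun j => (c j : K)) (hpi i)).symm.trans (h i)).trans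
        (Units.val_pow_eq_pow_val _ _).symm)
    exact ⟨h' 0, h' 1, h' 2, h' 3⟩
  · rintro ⟨a, b, d, e⟩ i
    have hi : ∀ i : Fin 4, d4 c (![2, 1, 3, 0] i) = d4 c i ^ q := by
      intro i; fin_cases i <;> assumption
    rw [hpi]
    have := congrArg Units.val (hi i)
    simpa using this

theorem card_T0_D4 (hq : 1 < q) (hK : Fintype.card K = q ^ 3) :
    Nat.card A.T0 = (q - 1) ^ 2 * (q ^ 2 + q + 1) := by
  have hqq : ∀ x : Kˣ, ((x ^ q) ^ q) ^ q = x := fun x => Units.ext (by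
    simp only [Units.val_pow_eq_pow_val]
    rw [← pow_mul, ← pow_mul, show q * (q * q) = q ^ 3 by ring, ← hK, FiniteField.pow_card])
  let e : ↥A.T0 ≃ {x : Kˣ // x ^ q = x} × Kˣ :=
    { toFun := fun c => (⟨d4 c.1 1, ((mem_T0_D4 A hS hφ c.1).1 c.2).2.1.symm⟩, d4 c.1 0)
      invFun := fun p => ⟨(![p.2, p.1.1, p.2 ^ q, (p.2 ^ q) ^ q] : Fin 4 → Kˣ),
        (mem_T0_D4 A hS hφ _).2 ⟨rfl, p.1.2.symm, rfl, (hqq _).symm⟩⟩
      left_inv := fun c => by
        obtain ⟨a, -, d, -⟩ := (mem_T0_D4 A hS hφ c.1).1 c.2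
        refine Subtype.ext (funext fun i => ?_)
        show (![_, _, _, _] : Fin 4 → Kˣ) i = _
        fin_cases i
        exacts [rfl, rfl, a.symm, (d.trans (congrArg (· ^ q) a)).symm]
      right_inv := fun p => rfl }
  rw [Nat.card_congr e, Nat.card_prod, card_units_pow_eq hq hK, Nat.card_units,
    Nat.card_eq_fintype_card, hK]
  obtain ⟨k, rfl⟩ : ∃ k, q = k + 1 := ⟨q - 1, by omega⟩
  rw [Nat.add_sub_cancel, show (k + 1) ^ 3 = k * ((k + 1) ^ 2 + (k + 1) + 1) + 1 by ring,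
    Nat.add_sub_cancel]
  ring

theorem freeD4 {c : Fin chevD4.rank → Kˣ} (h : torHom chevD4 K c = 1) (hc : c ∈ A.T0) :
    c = 1 := by
  obtain ⟨a, -, d, -⟩ := (mem_T0_D4 A hS hφ c).1 hc
  have h' := congrArg (powMap (G := Kˣ) (ι := Fin 4)
    !![1, 0, 0, 0; 0, 2, 0, 1; 0, 1, 1, 0; 0, 1, 0, 0]) ((kerD4_iff (d4 c)).1 h)
  rw [map_one] at h'
  rw [← MonoidHom.comp_apply, ← powMap_mul] at h'
  have h0 := congrFun ((kerD4_iff (d4 c)).1 h) 0
  have h1 := congrFun ((kerD4_iff (d4 c)).1 h) 1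
  have h2 := congrFun ((kerD4_iff (d4 c)).1 h) 2
  have h3 := congrFun ((kerD4_iff (d4 c)).1 h) 3
  simp [powMap_apply, Fin.prod_univ_four, mul_inv_eq_one] at h0 h1 h2 h3
  -- the middle coordinate
  have e1 : d4 c 1 = 1 := by
    have key : powMap (G := Kˣ) (ι := Fin 4) (cartD4 * !![0, 1, 0, 0; 0, 2, 0, 0; 0, 1, 0, 0; 0, 1, 0, 0])
        (d4 c) = 1 := by
      rw [powMap_mul, MonoidHom.comp_apply, (kerD4_iff (d4 c)).1 h, map_one]
    rw [show cartD4 * !![0, 1, 0, 0; 0, 2, 0, 0; 0, 1, 0, 0; 0, 1, 0, 0] =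
      (!![0, 0, 0, 0; 0, 1, 0, 0; 0, 0, 0, 0; 0, 0, 0, 0] : Matrix (Fin 4) (Fin 4) ℤ) by
        decide +kernel] at key
    have := congrFun key 1
    simpa [powMap_apply, Fin.prod_univ_four] using this
  have e0 : d4 c 0 ^ 2 = 1 := h0.trans e1
  have e3 : d4 c 0 * d4 c 2 * d4 c 3 = 1 := by
    have := congrFun ((kerD4_iff (d4 c)).1 h) 1
    simp [powMap_apply, Fin.prod_univ_four, e1] at this
    rw [← inv_eq_one, _root_.mul_inv_rev, _root_.mul_inv_rev]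
    calc (d4 c 3)⁻¹ * ((d4 c 2)⁻¹ * (d4 c 0)⁻¹)
        = (d4 c 0)⁻¹ * (d4 c 2)⁻¹ * (d4 c 3)⁻¹ := by
          rw [mul_comm, mul_comm (d4 c 2)⁻¹]
      _ = 1 := this
  rw [d, a, ← pow_mul, ← pow_succ', ← pow_add] at e3
  obtain ⟨m, hm⟩ : Odd (q + 1 + q * q) := by
    rcases Nat.even_or_odd q with ⟨n, rfl⟩ | ⟨n, rfl⟩
    · exact ⟨n + 2 * n * n, by ring⟩
    · exact ⟨2 * n * n + 3 * n + 1, by ring⟩
  have ec0 : d4 c 0 = 1 := by
    rwa [hm, pow_succ, pow_mul, e0, one_pow, one_mul] at e3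
  rw [ec0, one_pow] at a
  rw [a, one_pow] at d
  refine funext fun (i : Fin 4) => ?_
  fin_cases i
  exacts [ec0, e1, a, d]

end D4

/-- The coroot coordinates are symmetric, by the tables. -/
noncomputable def coSymOK (D : ChevalleyDatum) (R : RhoData) : Bool :=
  allR (fun r => allR (fun i =>
    Int.beq' (fcoroot D (nth 0 R.ρ r) (nth 0 R.pi i)) (fcoroot D r i)) (upto D.rank)) (upto D.nroots)

lemma coSymE6_ok : coSymOK chevE6 rhoE6 = true := by decide +kernel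

lemma coSymD4_ok : coSymOK chevD4 rhoD4 = true := by decide +kernel

lemma coSym_of_check {D : ChevalleyDatum} {F : Type*} [Field F] {g : Good D} {dat : LieData}
    {sd : StructData} {R : RhoData} (A : A1Setup g F) (hl : LieChecks D dat)
    (hs : StructChecks D dat sd) (hR : rhoOK D dat sd R = true)
    (hA : A.S = rootSymOf g hl hs hR) (h : coSymOK D R = true) : A.CoSym := by
  intro r i
  rw [hA]
  show corootCo D (nth 0 R.ρ r) (nth 0 R.pi i) = _
  simp only [corootCo, coroot_eq]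
  have := allR_upto (allR_upto h r.2) i.2
  rwa [Int.beq'_eq] at this

theorem card_diagonal_twistedE6 (K : Type*) [Field K] [Fintype K] {q : ℕ} (hq : IsPrimePow q)
    (hK : Fintype.card K = q ^ 2) :
    Nat.gcd 3 (q + 1) * Nat.card ↥(chevE6.diagonalSubgroup K ⊓ twistedE6 K q) =
      (q - 1) ^ 4 * (q + 1) ^ 2 := by
  obtain ⟨A, hG, hφ, hS, -, -⟩ := exists_setupE6 K hq hK
  have hc : HasComm chevE6 := hasComm_of_mem (by simp)
  rw [← hG, A.diag_inf_eq_of_odd hc (coSym_of_check A checksE6 structChecksE6 rhoE6_ok hS coSymE6_ok)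
    (e := 3) ⟨1, rfl⟩ (fun c h => kerE6 (c := e6 c) h), ← card_kerT0_E6 A hS hφ hK hq.one_lt,
    A.card_H0, card_T0_E6 A hS hφ hq.one_lt hK]

theorem card_diagonal_twistedD4 (K : Type*) [Field K] [Fintype K] {q : ℕ} (hq : IsPrimePow q)
    (hK : Fintype.card K = q ^ 3) :
    Nat.card ↥(chevD4.diagonalSubgroup K ⊓ twistedD4 K q) = (q - 1) ^ 2 * (q ^ 2 + q + 1) := by
  obtain ⟨A, hG, hφ, hS, -, -⟩ := exists_setupD4 K hq hK
  have hc : HasComm chevD4 := hasComm_of_mem (by simp)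
  have hfree : ∀ c, torHom chevD4 K c = 1 → A.σT c = c → c = 1 := fun c h1 h2 =>
    freeD4 A hS hφ h1 (A.σT_eq_iff.1 h2)
  have hbot : A.T0 ⊓ (torHom chevD4 K).ker = ⊥ := le_bot_iff.1 fun c hc' =>
    Subgroup.mem_bot.2 (freeD4 A hS hφ (MonoidHom.mem_ker.1 hc'.2) hc'.1)
  have h := A.card_H0
  rw [hbot, Subgroup.card_bot, one_mul, card_T0_D4 A hS hφ hq.one_lt hK] at h
  rw [← hG, A.diag_inf_eq_of_free hc hfree, h]

lemma polyE6_id : pzero (padd (pmul (pmul [-1, 1] (pmul [-1, 1] (pmul [-1, 1] [-1, 1])))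
    (pmul (pmul [1, 1] [1, 1]) (polyTab wtabE6)))
    (pscal (-1) (pmul (padd [-1] (pmono 2)) (pmul (padd [1] (pmono 5)) (pmul (padd [-1] (pmono 6))
      (pmul (padd [-1] (pmono 8)) (pmul (padd [1] (pmono 9)) (padd [-1] (pmono 12))))))))) = true := by
  decide +kernel

lemma polyD4_id : pzero (padd (pmul (pmul [-1, 1] [-1, 1]) (pmul [1, 1, 1] (polyTab wtabD4)))
    (pscal (-1) (pmul (padd [-1] (pmono 2)) (pmul (padd [-1] (pmono 6))
      (padd [1] (padd (pmono 4) (pmono 8))))))) = true := by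
  decide +kernel

theorem card_twistedE6 (K : Type*) [Field K] [Fintype K] {q : ℕ} (hq : IsPrimePow q)
    (hK : Fintype.card K = q ^ 2) :
    Nat.gcd 3 (q + 1) * Nat.card ↥(twistedE6 K q) =
      q ^ 36 * (q ^ 2 - 1) * (q ^ 5 + 1) * (q ^ 6 - 1) * (q ^ 8 - 1) * (q ^ 9 + 1) *
        (q ^ 12 - 1) := by
  classical
  obtain ⟨A, hG, hφ, hS, hr, ho⟩ := exists_setupE6 K hq hK
  have hc : HasComm chevE6 := hasComm_of_mem (by simp)
  have h4 : ∀ o' : Fin 4, ((orbE6 o').length = 1 ∨ (orbE6 o').length = 2) ∧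
      ∃ i₀ ∈ orbE6 o', (A.S.pi : Fin chevE6.rank → Fin chevE6.rank)^[(orbE6 o').length] i₀ = i₀ ∧
        ∀ i ∈ orbE6 o', ∃ m < (orbE6 o').length,
          (A.S.pi : Fin chevE6.rank → Fin chevE6.rank)^[m] i₀ = i := by
    rw [hS]; decide +kernel
  have hf := A.facts hc hq.one_lt hφ hK (by norm_num)
    (fun o => by rw [ho]; exact (h4 _).1) (fun o => by rw [ho]; exact (h4 _).2)
  have hwl : ∀ o : Fin 4, nth [] [[1], [3], [5, 0], [4, 2]] o = (orbE6 o).map Fin.val := by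
    decide +kernel
  have hsum := (A.sys hc).weylFix_sum checksE6 structChecksE6 [[1], [3], [5, 0], [4, 2]] wtabE6
    A.orb hr.symm (fun (o : Fin A.r) => (hwl (Fin.cast hr o)).trans (congrArg (List.map Fin.val) (ho o).symm))
    (fun o => rfl) wtabE6_ok q
  have hU : Nat.card ↥(chevE6.posUnipotent K ⊓ (A.sys hc).G1) = q ^ 36 := by
    have := (A.sys hc).card_pos_inf hc hf.1
    rwa [pow_one, show chevE6.nroots / 2 = 36 by decide +kernel] at this
  have hd := card_diagonal_twistedE6 K hq hK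
  rw [← hG] at hd ⊢
  have hminus : ∀ v ∈ Finset.univ.filter (· ∈ A.T.weylFix),
      Nat.card (A.T.fixedMinus v) = q ^ ninv chevE6 v := fun v hv => by
    have := (A.sys hc).card_fixedMinus hc hf.1 (Finset.mem_filter.1 hv).2
    rwa [pow_one] at this
  have h1 : 1 ≤ q := hq.one_lt.le
  have hp := pev_pzero (q : ℤ) _ polyE6_id
  simp only [pev_padd, pev_pscal, pev_pmul, pev_pmono, pev] at hp
  rw [← hsum] at hp
  show Nat.gcd 3 (q + 1) * Nat.card ↥(A.sys hc).G1 = _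
  rw [(A.sys hc).card_G1 hc, (A.sys hc).card_borel_inf hc, hU, Finset.sum_congr rfl hminus]
  set Sw := ∑ v ∈ Finset.univ.filter (· ∈ A.T.weylFix), q ^ ninv chevE6 v
  have e2 : Nat.gcd 3 (q + 1) * (q ^ 36 * Nat.card ↥(chevE6.diagonalSubgroup K ⊓ A.G1) * Sw) =
      q ^ 36 * ((q - 1) ^ 4 * (q + 1) ^ 2 * Sw) := by
    rw [← hd]; ring
  refine e2.trans ?_
  zify [h1, Nat.one_le_pow 2 q h1, Nat.one_le_pow 6 q h1, Nat.one_le_pow 8 q h1,
    Nat.one_le_pow 12 q h1] at hp ⊢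
  linear_combination (q : ℤ) ^ 36 * hp

theorem card_twistedD4 (K : Type*) [Field K] [Fintype K] {q : ℕ} (hq : IsPrimePow q)
    (hK : Fintype.card K = q ^ 3) :
    Nat.card ↥(twistedD4 K q) = q ^ 12 * (q ^ 2 - 1) * (q ^ 6 - 1) * (q ^ 8 + q ^ 4 + 1) := by
  classical
  obtain ⟨A, hG, hφ, hS, hr, ho⟩ := exists_setupD4 K hq hK
  have hc : HasComm chevD4 := hasComm_of_mem (by simp)
  have h2 : ∀ o' : Fin 2, ((orbD4 o').length = 1 ∨ (orbD4 o').length = 3) ∧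
      ∃ i₀ ∈ orbD4 o', (A.S.pi : Fin chevD4.rank → Fin chevD4.rank)^[(orbD4 o').length] i₀ = i₀ ∧
        ∀ i ∈ orbD4 o', ∃ m < (orbD4 o').length,
          (A.S.pi : Fin chevD4.rank → Fin chevD4.rank)^[m] i₀ = i := by
    rw [hS]; decide +kernel
  have hf := A.facts hc hq.one_lt hφ hK (by norm_num)
    (fun o => by rw [ho]; exact (h2 _).1) (fun o => by rw [ho]; exact (h2 _).2)
  have hwl : ∀ o : Fin 2, nth [] [[1], [3, 2, 0]] o = (orbD4 o).map Fin.val := by decide +kernel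
  have hsum := (A.sys hc).weylFix_sum checksD4 structChecksD4 [[1], [3, 2, 0]] wtabD4
    A.orb hr.symm (fun (o : Fin A.r) => (hwl (Fin.cast hr o)).trans (congrArg (List.map Fin.val) (ho o).symm))
    (fun o => rfl) wtabD4_ok q
  have hU : Nat.card ↥(chevD4.posUnipotent K ⊓ (A.sys hc).G1) = q ^ 12 := by
    have := (A.sys hc).card_pos_inf hc hf.1
    rwa [pow_one, show chevD4.nroots / 2 = 12 by decide +kernel] at this
  have hd := card_diagonal_twistedD4 K hq hK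
  rw [← hG] at hd ⊢
  have hminus : ∀ v ∈ Finset.univ.filter (· ∈ A.T.weylFix),
      Nat.card (A.T.fixedMinus v) = q ^ ninv chevD4 v := fun v hv => by
    have := (A.sys hc).card_fixedMinus hc hf.1 (Finset.mem_filter.1 hv).2
    rwa [pow_one] at this
  have h1 : 1 ≤ q := hq.one_lt.le
  have hp := pev_pzero (q : ℤ) _ polyD4_id
  simp only [pev_padd, pev_pscal, pev_pmul, pev_pmono, pev] at hp
  rw [← hsum] at hp
  show Nat.card ↥(A.sys hc).G1 = _
  rw [(A.sys hc).card_G1 hc, (A.sys hc).card_borel_inf hc, hU, Finset.sum_congr rfl hminus]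
  set Sw := ∑ v ∈ Finset.univ.filter (· ∈ A.T.weylFix), q ^ ninv chevD4 v
  show q ^ 12 * Nat.card ↥(chevD4.diagonalSubgroup K ⊓ A.G1) * Sw = _
  rw [hd]
  zify [h1, Nat.one_le_pow 2 q h1, Nat.one_le_pow 6 q h1] at hp ⊢
  linear_combination (q : ℤ) ^ 12 * hp

end CfsgLib.Chev
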