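import Mathlib
import Cfsg.Agent.Lib.Chev.TwistFGTorus

/-!
Torus, unipotent subgroup and cosets of the Borel subgroup of ²G₂.
-/

set_option autoImplicit false
set_option maxHeartbeats 800000
set_option maxRecDepth 100000
set_option linter.unusedSectionVars false

namespace CfsgLib.Chev

open Cfsg.Lie

namespace SetupG2

variable {K : Type*} [Field K] [Fintype K] {m : ℕ} (S : SetupG2 K m)
include S

/-- The parametrisation of the torus. -/
noncomputable def tauHom : Kˣ →* GL chevG2.Idx K :=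
  (torHom chevG2 K).comp
    { toFun := tauG2 m
      map_one' := by funext i; simp [tauG2]
      map_mul' := fun a b => (S.tau_mul a b).symm }

lemma tauHom_apply (b : Kˣ) : S.tauHom b = torHom chevG2 K (tauG2 m b) := rfl

lemma tauHom_inj : Function.Injective S.tauHom := fun _ _ h =>
  congrFun (goodG2.torHom_injective cartanG2_mul_inv h) ⟨1, by decide⟩

lemma tauHom_range : S.tauHom.range = chevG2.diagonalSubgroup K ⊓ twistedG2 K (3 ^ m) := by
  ext x
  rw [MonoidHom.mem_range, S.mem_diag_iff]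
  exact ⟨fun ⟨b, hb⟩ => ⟨b, hb.symm⟩, fun ⟨b, hb⟩ => ⟨b, hb.symm⟩⟩

lemma tauHom_mem (b : Kˣ) : S.tauHom b ∈ chevG2.diagonalSubgroup K ⊓ twistedG2 K (3 ^ m) :=
  S.tauHom_range ▸ ⟨b, rfl⟩

/-- The torus is the multiplicative group of the field. -/
noncomputable def tauEquiv : Kˣ ≃* ↥(chevG2.diagonalSubgroup K ⊓ twistedG2 K (3 ^ m)) :=
  (MonoidHom.ofInjective S.tauHom_inj).trans (MulEquiv.subgroupCongr S.tauHom_range)

/-- The values of the roots on the torus. -/
def tauExp (_S : SetupG2 K m) (r : ℕ) : ℤ :=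
  if r = 6 then 2 - 3 * 3 ^ m else if r = 7 then 2 * 3 ^ m - 1 else if r = 8 then 1 - 3 ^ m
  else if r = 9 then 3 ^ m else if r = 10 then 3 * 3 ^ m - 1 else 1

lemma chi_tau (b : Kˣ) {r : ℕ} (hr : r ∈ minusG2) :
    (∏ i : Fin chevG2.rank, tauG2 m b i ^ chevG2.cartan i r : Kˣ) = b ^ S.tauExp r := by
  have h2 : ∀ f : Fin chevG2.rank → Kˣ, ∏ i, f i = f ⟨0, by decide⟩ * f ⟨1, by decide⟩ := fun f => by
    rw [show (Finset.univ : Finset (Fin chevG2.rank)) = {⟨0, by decide⟩, ⟨1, by decide⟩} by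
      decide +kernel, Finset.prod_pair (by decide)]
  have hc : ∀ r ∈ minusG2, (chevG2.cartan 0 r, chevG2.cartan 1 r) =
      if r = 6 then (-3, 2) else if r = 7 then (2, -1) else if r = 8 then (-1, 1) else
      if r = 9 then (1, 0) else if r = 10 then (3, -1) else (0, 1) := by decide +kernel
  obtain ⟨h0, h1⟩ := Prod.ext_iff.1 (hc r hr)
  rw [h2]
  simp only [tauG2, if_true, Nat.one_ne_zero, if_false] at h0 h1 ⊢
  rw [h0, h1, ← zpow_natCast, ← zpow_mul, ← zpow_add]
  congr 1
  simp only [minusG2, List.mem_cons, List.not_mem_nil, or_false] at hr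
  rcases hr with rfl | rfl | rfl | rfl | rfl | rfl <;> simp [tauExp] <;> ring

lemma unit_pow_sub_one (b : Kˣ) : b ^ (3 * (3 ^ m : ℤ) * 3 ^ m - 1) = 1 := by
  rw [zpow_sub_one, mul_inv_eq_one]
  rw [show (3 * (3 ^ m : ℤ) * 3 ^ m) = ((3 * 3 ^ m * 3 ^ m : ℕ) : ℤ) by push_cast; ring, zpow_natCast,
    S.unit_pow_q]

/-- A root is trivial only on the elements of order at most two. -/
lemma sq_eq_one_of_tauExp {b : Kˣ} {r : ℕ} (hr : r ∈ minusG2) (h : b ^ S.tauExp r = 1) :
    b * b = 1 := by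
  set e : ℤ := 3 ^ m
  have hq : b ^ (3 * e * e - 1) = 1 := S.unit_pow_sub_one b
  have key : ∀ x y : ℤ, x * S.tauExp r + y * (3 * e * e - 1) = 2 → b * b = 1 := by
    intro x y hxy
    have : b ^ (2 : ℤ) = 1 := by
      rw [← hxy, zpow_add, mul_comm x, mul_comm y, zpow_mul, zpow_mul, h, hq, one_zpow, one_zpow,
        one_mul]
    simpa [zpow_ofNat, sq] using this
  simp only [minusG2, List.mem_cons, List.not_mem_nil, or_false] at hr
  rcases hr with rfl | rfl | rfl | rfl | rfl | rfl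
  · exact key (2 * (2 + 3 * e)) 6 (by simp [tauExp, e]; ring)
  · exact key (6 * (2 * e + 1)) (-8) (by simp [tauExp, e]; ring)
  · exact key (3 * (1 + e)) 1 (by simp [tauExp, e]; ring)
  · exact key (6 * e) (-2) (by simp [tauExp, e]; ring)
  · exact key (3 * e + 1) (-3) (by simp [tauExp, e]; ring)
  · exact key 2 0 (by simp [tauExp, e])

/-- A word along the roots. -/
def wordVal (_S : SetupG2 K m) (t u v : K) (r : ℕ) : K :=
  if r = 6 then t else if r = 7 then t ^ 3 ^ m else if r = 8 then u ^ 3 ^ m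
  else if r = 9 then v ^ 3 ^ m else if r = 10 then t ^ (3 * 3 ^ m + 1) + u
  else t ^ (3 * 3 ^ m + 2) + v

lemma word_xAlong (t u v : K) :
    ((reeWordU (3 ^ m) t u v).map fun p => goodG2.xG p.1 p.2).prod =
      goodG2.xAlong minusG2 (S.wordVal t u v) := by
  rw [S.word_sorted]
  simp [minusG2, Good.xAlong, four, wordVal, mul_assoc]

/-- The words fixed by an element of the torus. -/
lemma tau_comm_word {b : Kˣ} {t u v : K}
    (h : S.tauHom b * ((reeWordU (3 ^ m) t u v).map fun p => goodG2.xG p.1 p.2).prod * (S.tauHom b)⁻¹ =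
      ((reeWordU (3 ^ m) t u v).map fun p => goodG2.xG p.1 p.2).prod) :
    ∀ r ∈ minusG2, ((b ^ S.tauExp r : Kˣ) : K) * S.wordVal t u v r = S.wordVal t u v r := by
  rw [S.word_xAlong, S.tauHom_apply,
    goodG2.torHom_conj_xAlong _ (fun r hr => (Good.minus_list S.minusSet_w r hr).1)] at h
  intro r hr
  have h' := goodG2.xAlong_inj (by decide) (Good.minus_list S.minusSet_w) h r hr
  rw [← S.chi_tau b hr]
  exact h'

lemma pos_eq : chevG2.posUnipotent K ⊓ twistedG2 K (3 ^ m) = S.T.fixedMinus (goodG2.wperm wordG2) := by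
  ext x
  rw [(pos_twistedG2 K S.card).1 x]
  constructor
  · rintro ⟨t, u, v, h⟩
    rw [show x = ((reeWordU (3 ^ m) t u v).map fun p => goodG2.xG p.1 p.2).prod from
      Units.ext (h.trans (by simp [reeWordU, ChevalleyDatum.wordMat, Good.coe_xG]))]
    exact S.word_in t u v
  · intro hx
    obtain ⟨t, u, v, rfl⟩ := S.mem_fixedMinus hx
    exact ⟨t, u, v, by simp [reeWordU, ChevalleyDatum.wordMat, Good.coe_xG]⟩

lemma mem_pos {x : GL chevG2.Idx K} (hx : x ∈ chevG2.posUnipotent K ⊓ twistedG2 K (3 ^ m)) :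
    ∃ t u v : K, x = ((reeWordU (3 ^ m) t u v).map fun p => goodG2.xG p.1 p.2).prod :=
  S.mem_fixedMinus (S.pos_eq ▸ hx)

lemma word_pos (t u v : K) : ((reeWordU (3 ^ m) t u v).map fun p => goodG2.xG p.1 p.2).prod ∈
    chevG2.posUnipotent K ⊓ twistedG2 K (3 ^ m) :=
  S.pos_eq.symm ▸ S.word_in t u v

/-- An element of the torus of order above two moves every non-trivial unipotent element. -/
theorem pos_inf_centralizer {b : Kˣ} (hb : b * b ≠ 1) :
    (chevG2.posUnipotent K ⊓ twistedG2 K (3 ^ m)) ⊓ Subgroup.centralizer {S.tauHom b} = ⊥ := by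
  rw [eq_bot_iff]
  rintro x ⟨hx, hc⟩
  obtain ⟨t, u, v, rfl⟩ := S.mem_pos hx
  have hc' := Subgroup.mem_centralizer_singleton_iff.1 hc
  have h := S.tau_comm_word (b := b) (t := t) (u := u) (v := v) (by rw [← hc', mul_inv_cancel_right])
  have h0 : ∀ r ∈ minusG2, S.wordVal t u v r = 0 := by
    intro r hr
    by_contra hne
    exact hb (S.sq_eq_one_of_tauExp hr (Units.ext ((mul_eq_right₀ hne).1 (h r hr))))
  rw [Subgroup.mem_bot, S.word_xAlong]
  refine List.prod_eq_one fun x hx => ?_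
  obtain ⟨r, hr, rfl⟩ := List.mem_map.1 hx
  rw [h0 r hr, goodG2.xG_zero]

lemma half_odd : Odd ((3 ^ (2 * m + 1) - 1) / 2) := by
  have : 3 ^ (2 * m + 1) % 4 = 3 := by rw [pow_succ, pow_mul, Nat.mul_mod, Nat.pow_mod]; simp
  rw [Nat.odd_iff]
  generalize 3 ^ (2 * m + 1) = x at this ⊢
  omega

lemma card_units_K : Nat.card Kˣ = 3 ^ (2 * m + 1) - 1 := by
  rw [Nat.card_units, Nat.card_eq_fintype_card, S.card]

lemma neg_one_ne_one : (-1 : Kˣ) ≠ 1 := by
  intro h
  have h' : (-1 : K) = 1 := by simpa using congrArg Units.val h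
  have h2 : (2 : K) = 0 := by linear_combination (-1 : K) * h'
  have h1 : (1 : K) = 0 := by linear_combination S.three_zero - h2
  exact one_ne_zero h1

/-- The elements of odd order form half of the torus. -/
theorem card_odd :
    2 * Nat.card {h : ↥(chevG2.diagonalSubgroup K ⊓ twistedG2 K (3 ^ m)) // Odd (orderOf h)} =
      3 ^ (2 * m + 1) - 1 := by
  have e : {b : Kˣ // Odd (orderOf b)} ≃
      {h : ↥(chevG2.diagonalSubgroup K ⊓ twistedG2 K (3 ^ m)) // Odd (orderOf h)} :=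
    S.tauEquiv.toEquiv.subtypeEquiv fun b => by
      rw [show S.tauEquiv.toEquiv b = S.tauEquiv b from rfl, MulEquiv.orderOf_eq]
  rw [← Nat.card_congr e]
  let sq : Kˣ →* Kˣ := powMonoidHom 2
  have hdvd : 2 ∣ Nat.card Kˣ := by
    rw [S.card_units_K]
    have : 3 ^ (2 * m + 1) % 2 = 1 := by simp [Nat.pow_mod]
    omega
  have hr : ∀ b : Kˣ, Odd (orderOf b) ↔ b ∈ sq.range := by
    intro b
    constructor
    · rintro ⟨k, hk⟩
      refine ⟨b ^ (k + 1), ?_⟩
      show (b ^ (k + 1)) ^ 2 = b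
      rw [← pow_mul, show (k + 1) * 2 = orderOf b + 1 by omega, pow_succ, pow_orderOf_eq_one, one_mul]
    · rintro ⟨y, rfl⟩
      have h : (y ^ 2) ^ ((3 ^ (2 * m + 1) - 1) / 2) = 1 := by
        rw [← pow_mul, Nat.mul_div_cancel' (S.card_units_K ▸ hdvd), ← S.card_units_K, pow_card_eq_one']
      exact S.half_odd.of_dvd_nat (orderOf_dvd_of_pow_eq_one h)
  have hk : Nat.card sq.ker = 2 := by
    have : (sq.ker : Set Kˣ) = {1, -1} := by
      ext y
      simp only [SetLike.mem_coe, MonoidHom.mem_ker, Set.mem_insert_iff, Set.mem_singleton_iff]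
      show y ^ 2 = 1 ↔ _
      constructor
      · intro h
        rcases sq_eq_one_iff.1 (show (y : K) ^ 2 = 1 by rw [← Units.val_pow_eq_pow_val, h]; rfl)
          with h' | h'
        · exact Or.inl (Units.ext h')
        · exact Or.inr (Units.ext (by simpa using h'))
      · rintro (rfl | rfl) <;> simp
    show Nat.card (sq.ker : Set Kˣ) = 2
    rw [this, Nat.card_coe_set_eq, Set.ncard_pair (S.neg_one_ne_one).symm]
  rw [Nat.card_congr (Equiv.subtypeEquivRight hr), ← S.card_units_K, ← sq.ker.index_mul_card,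
    Subgroup.index_ker, hk]
  ring

/-- The non-trivial elements of odd order act without fixed points. -/
theorem odd_fixed_point_free {h : GL chevG2.Idx K}
    (hh : h ∈ chevG2.diagonalSubgroup K ⊓ twistedG2 K (3 ^ m)) (h1 : h ≠ 1) (ho : Odd (orderOf h)) :
    (chevG2.posUnipotent K ⊓ twistedG2 K (3 ^ m)) ⊓ Subgroup.centralizer {h} = ⊥ := by
  obtain ⟨b, rfl⟩ := S.tauHom_range.symm ▸ hh
  refine S.pos_inf_centralizer fun hb => h1 ?_
  have h2 : orderOf (S.tauHom b) ∣ 2 := orderOf_dvd_of_pow_eq_one (by rw [← map_pow, sq, hb, map_one])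
  rcases (Nat.dvd_prime Nat.prime_two).1 h2 with h3 | h3
  · exact orderOf_eq_one_iff.1 h3
  · rw [h3] at ho
    exact absurd ho (by decide)

end SetupG2

end CfsgLib.Chev
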