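import Mathlib
import Cfsg.Agent.Lib.Chev.ReeSmall

/-!
The cosets of the Borel subgroup of ²G₂, three-point stabilisers, Sylow 3-subgroups.
-/

set_option autoImplicit false
set_option maxHeartbeats 800000
set_option maxRecDepth 100000
set_option linter.unusedSectionVars false

namespace CfsgLib.Chev

open Cfsg.Lie

namespace SetupG2

variable {K : Type*} [Field K] [Fintype K] {m : ℕ} (S : SetupG2 K m)
include S

/-- The representative of the other orbit. -/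
noncomputable def omega (_S : SetupG2 K m) : GL chevG2.Idx K := (goodG2.wordN wordG2)⁻¹

lemma omega_mem : S.omega ∈ twistedG2 K (3 ^ m) := Subgroup.inv_mem _ S.n_mem

lemma wperm_eq_one_or {v : Equiv.Perm (Fin chevG2.nroots)} (hv : v ∈ S.T.weylFix) :
    v = 1 ∨ v = goodG2.wperm wordG2 := by
  refine S.sys.eq_of_mem_wJ (o := (0 : Fin 1)) hv ?_
  have hall : goodG2.weyl ≤ goodG2.wJ (S.sys.J (0 : Fin 1)) := by
    refine Subgroup.closure_mono ?_
    rintro σ ⟨i, rfl⟩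
    have h : ∀ i : Fin chevG2.rank, (i : ℕ) ∈ ([0, 1] : List ℕ) := by decide
    exact ⟨i, h i, rfl⟩
  exact hall (S.T.mem_weylFix.1 hv).1

lemma borel_decomp {x : GL chevG2.Idx K} (hx : x ∈ chevG2.borelSubgroup K ⊓ twistedG2 K (3 ^ m)) :
    ∃ y ∈ chevG2.posUnipotent K ⊓ twistedG2 K (3 ^ m),
      ∃ h ∈ chevG2.diagonalSubgroup K ⊓ twistedG2 K (3 ^ m), x = y * h :=
  S.sys.borel_inf_decomp hasCommG2 hx

lemma pos_le_borel : chevG2.posUnipotent K ⊓ twistedG2 K (3 ^ m) ≤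
    chevG2.borelSubgroup K ⊓ twistedG2 K (3 ^ m) :=
  inf_le_inf_right _ le_sup_left

lemma diag_le_borel : chevG2.diagonalSubgroup K ⊓ twistedG2 K (3 ^ m) ≤
    chevG2.borelSubgroup K ⊓ twistedG2 K (3 ^ m) :=
  inf_le_inf_right _ le_sup_right

/-- The cells. -/
theorem cell {x : GL chevG2.Idx K} (hx : x ∈ twistedG2 K (3 ^ m)) :
    x ∈ chevG2.borelSubgroup K ⊓ twistedG2 K (3 ^ m) ∨
      ∃ u ∈ chevG2.posUnipotent K ⊓ twistedG2 K (3 ^ m),
      ∃ b ∈ chevG2.borelSubgroup K ⊓ twistedG2 K (3 ^ m), x = u * S.omega * b := by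
  obtain ⟨v, hv, n, hn, hnm, hna, b, hb, u, hu, he⟩ :=
    S.sys.exists_canonical hasCommG2 (x := x⁻¹) (show x⁻¹ ∈ S.sys.G1 from Subgroup.inv_mem _ hx)
  rcases S.wperm_eq_one_or hv with rfl | rfl
  · left
    have hk := goodG2.monomial_same_acts hnm (one_mem _) hna goodG2.acts_one
    rw [inv_one, mul_one] at hk
    have hu' : u ∈ chevG2.borelSubgroup K ⊓ twistedG2 K (3 ^ m) :=
      S.sys.fixedMinus_le_borel hasCommG2 (one_mem _) hu
    rw [← inv_inv x, he]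
    exact Subgroup.inv_mem _ (mul_mem (mul_mem hb ⟨Subgroup.mem_sup_right hk, hn⟩) hu')
  · right
    have hk := goodG2.monomial_same_acts hnm (goodG2.wordN_mem wordG2) hna (goodG2.acts_wordN _)
    refine ⟨u⁻¹, Subgroup.inv_mem _ (S.pos_eq.symm ▸ hu), (b * (n * (goodG2.wordN wordG2)⁻¹))⁻¹,
      Subgroup.inv_mem _ (mul_mem hb ⟨Subgroup.mem_sup_right hk, mul_mem hn (Subgroup.inv_mem _ S.n_mem)⟩), ?_⟩
    rw [← inv_inv x, he, omega]
    group

/-- Uniqueness in the big cell. -/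
theorem cell_unique {u u' b b' : GL chevG2.Idx K}
    (hu : u ∈ chevG2.posUnipotent K ⊓ twistedG2 K (3 ^ m))
    (hu' : u' ∈ chevG2.posUnipotent K ⊓ twistedG2 K (3 ^ m))
    (hb : b ∈ chevG2.borelSubgroup K ⊓ twistedG2 K (3 ^ m))
    (hb' : b' ∈ chevG2.borelSubgroup K ⊓ twistedG2 K (3 ^ m))
    (h : u * S.omega * b = u' * S.omega * b') : u = u' ∧ b = b' := by
  have h' : b⁻¹ * goodG2.wordN wordG2 * u⁻¹ = b'⁻¹ * goodG2.wordN wordG2 * u'⁻¹ := by
    rw [show b⁻¹ * goodG2.wordN wordG2 * u⁻¹ = (u * S.omega * b)⁻¹ by rw [omega]; group, h, omega]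
    group
  rw [S.pos_eq] at hu hu'
  obtain ⟨e1, e2⟩ := goodG2.canonical_unique (Subgroup.inv_mem _ hb.1) (Subgroup.inv_mem _ hb'.1)
    (goodG2.acts_wordN wordG2) (Subgroup.inv_mem _ hu).2 (Subgroup.inv_mem _ hu').2 h'
  exact ⟨inv_inj.1 e2, inv_inj.1 e1⟩

lemma omega_not_borel : S.omega ∉ chevG2.borelSubgroup K ⊓ twistedG2 K (3 ^ m) := by
  intro h
  have h1 := goodG2.borel_inf_monomial (F := K)
  have h2 : goodG2.wordN wordG2 ∈ chevG2.borelSubgroup K ⊓ chevG2.monomialSubgroup K :=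
    ⟨inv_inv (goodG2.wordN (F := K) wordG2) ▸ Subgroup.inv_mem _ h.1, goodG2.wordN_mem _⟩
  rw [h1] at h2
  have h3 := goodG2.acts_unique (goodG2.acts_wordN (F := K) wordG2) (goodG2.acts_diagonal h2)
  have h4 : Nat.card ↥(S.T.fixedMinus (goodG2.wperm wordG2)) = 1 := by
    have e : minusSet (1 : Equiv.Perm (Fin chevG2.nroots)) = ∅ := by
      ext r
      simp only [Set.mem_empty_iff_false, iff_false]
      rintro ⟨hr, h1, h2⟩
      simp at h2
      omega
    rw [h3, Twist.fixedMinus, e]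
    have : rootGen chevG2 K (∅ : Set ℕ) = ⊥ := by
      simp [rootGen]
    rw [this, inf_bot_eq, Subgroup.card_bot]
  rw [S.card_w] at h4
  exact absurd h4 (Nat.one_lt_pow three_ne_zero (Nat.one_lt_pow (by omega) (by omega))).ne'

lemma omega_normalizes {h : GL chevG2.Idx K}
    (hh : h ∈ chevG2.diagonalSubgroup K ⊓ twistedG2 K (3 ^ m)) :
    S.omega⁻¹ * h * S.omega ∈ chevG2.diagonalSubgroup K ⊓ twistedG2 K (3 ^ m) := by
  refine ⟨?_, mul_mem (mul_mem (Subgroup.inv_mem _ S.omega_mem) hh.2) S.omega_mem⟩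
  rw [omega, inv_inv]
  exact goodG2.diag_conj (goodG2.wordN_mem _) hh.1

lemma diag_normalizes_pos {h u : GL chevG2.Idx K}
    (hh : h ∈ chevG2.diagonalSubgroup K ⊓ twistedG2 K (3 ^ m))
    (hu : u ∈ chevG2.posUnipotent K ⊓ twistedG2 K (3 ^ m)) :
    h * u * h⁻¹ ∈ chevG2.posUnipotent K ⊓ twistedG2 K (3 ^ m) := by
  refine ⟨?_, mul_mem (mul_mem hh.2 hu.2) (Subgroup.inv_mem _ hh.2)⟩
  obtain ⟨b, rfl⟩ := S.tauHom_range.symm ▸ hh
  obtain ⟨t, u, v, rfl⟩ := S.mem_pos hu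
  rw [S.word_xAlong, S.tauHom_apply,
    goodG2.torHom_conj_xAlong _ (fun r hr => (Good.minus_list S.minusSet_w r hr).1),
    goodG2.posUnipotent_eq]
  refine goodG2.rootGen_mono (fun r hr hr' => ?_) (goodG2.xAlong_mem (S := {r | r ∈ minusG2})
    (fun r hr => ⟨(Good.minus_list S.minusSet_w r hr).1, hr⟩) _)
  have : ∀ r ∈ minusG2, half chevG2 ≤ r := by decide +kernel
  exact this r hr

/-- Two points are fixed by the torus alone. -/
theorem two_point {g : GL chevG2.Idx K} (hg : g ∈ chevG2.borelSubgroup K ⊓ twistedG2 K (3 ^ m))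
    (h : S.omega⁻¹ * g * S.omega ∈ chevG2.borelSubgroup K ⊓ twistedG2 K (3 ^ m)) :
    g ∈ chevG2.diagonalSubgroup K ⊓ twistedG2 K (3 ^ m) := by
  obtain ⟨y, hy, t, ht, rfl⟩ := S.borel_decomp hg
  have h1 : y * S.omega * (S.omega⁻¹ * t * S.omega) = 1 * S.omega * (S.omega⁻¹ * (y * t) * S.omega) := by
    group
  obtain ⟨e, -⟩ := S.cell_unique hy (one_mem _) (S.diag_le_borel (S.omega_normalizes ht)) h h1
  rwa [e, one_mul]

/-- The points of the coset space. -/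
abbrev pB (_S : SetupG2 K m) : Subgroup ↥(twistedG2 K (3 ^ m)) :=
  (chevG2.borelSubgroup K ⊓ twistedG2 K (3 ^ m)).subgroupOf (twistedG2 K (3 ^ m))

lemma mem_pB {g : ↥(twistedG2 K (3 ^ m))} :
    g ∈ S.pB ↔ (g : GL chevG2.Idx K) ∈ chevG2.borelSubgroup K ⊓ twistedG2 K (3 ^ m) := Iff.rfl

/-- `ω` in the group. -/
noncomputable def omegaG : ↥(twistedG2 K (3 ^ m)) := ⟨S.omega, S.omega_mem⟩

lemma mk_fixed (g x : ↥(twistedG2 K (3 ^ m))) :
    g • (QuotientGroup.mk x : ↥(twistedG2 K (3 ^ m)) ⧸ S.pB) = QuotientGroup.mk x ↔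
      x⁻¹ * g * x ∈ S.pB := by
  rw [MulAction.Quotient.smul_mk, smul_eq_mul, QuotientGroup.eq, ← _root_.inv_mem_iff]
  simp [mul_assoc]

lemma double_transitive (x y : ↥(twistedG2 K (3 ^ m)) ⧸ S.pB) (hxy : x ≠ y) :
    ∃ g : ↥(twistedG2 K (3 ^ m)), g • QuotientGroup.mk 1 = x ∧ g • QuotientGroup.mk S.omegaG = y := by
  induction x using QuotientGroup.induction_on with | _ a => ?_
  induction y using QuotientGroup.induction_on with | _ c => ?_
  rcases S.cell (a⁻¹ * c).2 with h | ⟨u, hu, b, hb, he⟩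
  · exact absurd (QuotientGroup.eq.2 (S.mem_pB.2 h)) hxy
  refine ⟨a * ⟨u, hu.2⟩, ?_, ?_⟩
  · rw [MulAction.Quotient.smul_mk, smul_eq_mul, mul_one, QuotientGroup.eq, S.mem_pB]
    simpa using S.pos_le_borel (Subgroup.inv_mem _ hu)
  · rw [MulAction.Quotient.smul_mk, smul_eq_mul, QuotientGroup.eq, S.mem_pB]
    have : ((a * ⟨u, hu.2⟩ * S.omegaG)⁻¹ * c : ↥(twistedG2 K (3 ^ m))) = (⟨b, hb.2⟩ : ↥(twistedG2 K (3 ^ m))) := by
      refine Subtype.ext ?_
      have he' : ((a : GL chevG2.Idx K))⁻¹ * (c : GL chevG2.Idx K) = u * S.omega * b := by simpa using he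
      simp only [Subgroup.coe_mul, Subgroup.coe_inv, omegaG]
      calc ((a : GL chevG2.Idx K) * u * S.omega)⁻¹ * c = (u * S.omega)⁻¹ * ((a : GL chevG2.Idx K)⁻¹ * c) := by
            group
        _ = b := by rw [he']; group
    rw [this]
    exact hb

/-- A torus element fixing a third point fixes a non-trivial unipotent element. -/
theorem three_point {u : GL chevG2.Idx K} (hu : u ∈ chevG2.posUnipotent K ⊓ twistedG2 K (3 ^ m))
    {h : GL chevG2.Idx K} (hh : h ∈ chevG2.diagonalSubgroup K ⊓ twistedG2 K (3 ^ m))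
    (hf : (u * S.omega)⁻¹ * h * (u * S.omega) ∈ chevG2.borelSubgroup K ⊓ twistedG2 K (3 ^ m)) :
    h * u = u * h := by
  have h1 : h * u * h⁻¹ * S.omega * (S.omega⁻¹ * h * S.omega) =
      u * S.omega * ((u * S.omega)⁻¹ * h * (u * S.omega)) := by group
  obtain ⟨e, -⟩ := S.cell_unique (S.diag_normalizes_pos hh hu) hu
    (S.diag_le_borel (S.omega_normalizes hh)) hf h1
  exact mul_inv_eq_iff_eq_mul.1 e

lemma tau_neg_one_fixes (u : K) :
    S.tauHom (-1) * ((reeWordU (3 ^ m) 0 u 0).map fun p => goodG2.xG p.1 p.2).prod =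
      ((reeWordU (3 ^ m) 0 u 0).map fun p => goodG2.xG p.1 p.2).prod * S.tauHom (-1) := by
  rw [← mul_inv_eq_iff_eq_mul, S.word_xAlong, S.tauHom_apply,
    goodG2.torHom_conj_xAlong _ (fun r hr => (Good.minus_list S.minusSet_w r hr).1)]
  refine congrArg List.prod (List.map_congr_left fun r hr => ?_)
  beta_reduce
  congr 1
  rw [S.chi_tau _ hr]
  have he : Odd (3 ^ m : ℤ) := Odd.pow (by decide)
  simp only [minusG2, List.mem_cons, List.not_mem_nil, or_false] at hr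
  rcases hr with rfl | rfl | rfl | rfl | rfl | rfl <;>
    simp [wordVal, zero_pow (pow_ne_zero m three_ne_zero)]
  · rw [show S.tauExp 8 = 1 - 3 ^ m by simp [tauExp]]
    obtain ⟨k, hk⟩ := he
    rw [hk, show (1 : ℤ) - (2 * k + 1) = (-k) + (-k) by ring, Even.neg_one_zpow ⟨-k, rfl⟩]
    simp
  · rw [show S.tauExp 10 = 3 * 3 ^ m - 1 by simp [tauExp]]
    obtain ⟨k, hk⟩ := he
    rw [hk, show 3 * (2 * k + 1) - 1 = (3 * k + 1) + (3 * k + 1) by ring,
      Even.neg_one_zpow ⟨3 * k + 1, rfl⟩]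
    simp

/-- The joint stabiliser of three cosets. -/
theorem stabilizer_le (x y z : ↥(twistedG2 K (3 ^ m)) ⧸ S.pB) (hxy : x ≠ y) (hxz : x ≠ z)
    (hyz : y ≠ z) :
    Nat.card ↥(MulAction.stabilizer ↥(twistedG2 K (3 ^ m)) x ⊓
      MulAction.stabilizer ↥(twistedG2 K (3 ^ m)) y ⊓ MulAction.stabilizer ↥(twistedG2 K (3 ^ m)) z) ≤ 2 := by
  obtain ⟨g, hgx, hgy⟩ := S.double_transitive x y hxy
  obtain ⟨c, hc⟩ := QuotientGroup.mk_surjective (g⁻¹ • z)
  have hz : g • QuotientGroup.mk c = z := by rw [hc, smul_inv_smul]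
  rcases S.cell c.2 with h | ⟨u, hu, b, hb, he⟩
  · refine absurd ?_ hxz
    rw [← hgx, ← hz]
    congr 1
    exact QuotientGroup.eq.2 (by rw [inv_one, one_mul]; exact h)
  have hu1 : u ≠ 1 := by
    rintro rfl
    refine hyz ?_
    rw [← hgy, ← hz]
    congr 1
    refine QuotientGroup.eq.2 (S.mem_pB.2 ?_)
    simp only [Subgroup.coe_mul, Subgroup.coe_inv, omegaG, he, one_mul, inv_mul_cancel_left]
    exact hb
  have hc' : (QuotientGroup.mk c : ↥(twistedG2 K (3 ^ m)) ⧸ S.pB) =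
      QuotientGroup.mk (⟨u, hu.2⟩ * S.omegaG) := by
    refine QuotientGroup.eq.2 (S.mem_pB.2 ?_)
    simp only [Subgroup.coe_mul, Subgroup.coe_inv, omegaG, he]
    rw [show (u * S.omega * b)⁻¹ * (u * S.omega) = b⁻¹ by group]
    exact Subgroup.inv_mem _ hb
  -- the joint stabiliser maps into two elements of the torus
  have key : ∀ k : ↥(twistedG2 K (3 ^ m)), k ∈ MulAction.stabilizer _ x ⊓ MulAction.stabilizer _ y ⊓
      MulAction.stabilizer _ z → (g⁻¹ * k * g : ↥(twistedG2 K (3 ^ m))).1 ∈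
        ({1, S.tauHom (-1)} : Set (GL chevG2.Idx K)) := by
    intro k hk
    obtain ⟨hk', hkz⟩ := Subgroup.mem_inf.1 hk
    obtain ⟨hkx, hky⟩ := Subgroup.mem_inf.1 hk'
    simp only [SetLike.mem_coe, MulAction.mem_stabilizer_iff] at hkx hky hkz
    have f : ∀ p : ↥(twistedG2 K (3 ^ m)) ⧸ S.pB, k • g • p = g • p → (g⁻¹ * k * g) • p = p := by
      intro p hp
      rw [mul_smul, mul_smul, hp, inv_smul_smul]
    have f1 := (S.mk_fixed _ _).1 (f _ (by rw [hgx]; exact hkx))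
    have f2 := (S.mk_fixed _ _).1 (f _ (by rw [hgy]; exact hky))
    have f3 := (S.mk_fixed (g⁻¹ * k * g) _).1
      (show (g⁻¹ * k * g) • _ = _ by rw [← hc']; exact f _ (by rw [hz]; exact hkz))
    rw [inv_one, one_mul, mul_one] at f1
    set w : GL chevG2.Idx K := (g⁻¹ * k * g : ↥(twistedG2 K (3 ^ m))).1 with hw
    have hwd := S.two_point (g := w) f1 f2
    have hcomm := S.three_point hu hwd f3
    obtain ⟨β, hβ⟩ := S.tauHom_range.symm ▸ hwd
    rw [← hβ] at hcomm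
    by_cases hsq : β * β = 1
    · rcases sq_eq_one_iff.1 (show (β : K) ^ 2 = 1 by rw [sq, ← Units.val_mul, hsq]; rfl) with h | h
      · left; rw [← hβ, show β = 1 from Units.ext h, map_one]
      · right; rw [← hβ, show β = -1 from Units.ext (by simpa using h)]; rfl
    · exfalso
      have h' : u ∈ (chevG2.posUnipotent K ⊓ twistedG2 K (3 ^ m)) ⊓
          Subgroup.centralizer {S.tauHom β} :=
        ⟨hu, Subgroup.mem_centralizer_singleton_iff.2 hcomm.symm⟩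
      rw [S.pos_inf_centralizer hsq, Subgroup.mem_bot] at h'
      exact hu1 h'
  let f : ↥(MulAction.stabilizer ↥(twistedG2 K (3 ^ m)) x ⊓
      MulAction.stabilizer ↥(twistedG2 K (3 ^ m)) y ⊓ MulAction.stabilizer ↥(twistedG2 K (3 ^ m)) z) →
      ({1, S.tauHom (-1)} : Set (GL chevG2.Idx K)) := fun k => ⟨_, key k.1 k.2⟩
  refine le_trans (Nat.card_le_card_of_injective f fun a b h => ?_) ?_
  · have h' : (g⁻¹ * a.1 * g : ↥(twistedG2 K (3 ^ m))) = g⁻¹ * b.1 * g :=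
      Subtype.ext (congrArg Subtype.val h :)
    exact Subtype.ext (mul_left_cancel (mul_right_cancel h'))
  · rw [Nat.card_coe_set_eq]
    refine le_trans (Set.ncard_insert_le _ _) ?_
    simp

/-- Three cosets with a stabiliser of order two. -/
theorem exists_stabilizer_two :
    ∃ x y z : ↥(twistedG2 K (3 ^ m)) ⧸ S.pB, x ≠ y ∧ x ≠ z ∧ y ≠ z ∧
      Nat.card ↥(MulAction.stabilizer ↥(twistedG2 K (3 ^ m)) x ⊓
        MulAction.stabilizer ↥(twistedG2 K (3 ^ m)) y ⊓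
        MulAction.stabilizer ↥(twistedG2 K (3 ^ m)) z) = 2 := by
  set u := ((reeWordU (3 ^ m) (0 : K) 1 0).map fun p => goodG2.xG p.1 p.2).prod with hud
  have hu : u ∈ chevG2.posUnipotent K ⊓ twistedG2 K (3 ^ m) := S.word_pos 0 1 0
  have hu1 : u ≠ 1 := by
    intro h
    have h0 : ((reeWordU (3 ^ m) (0 : K) 0 0).map fun p => goodG2.xG p.1 p.2).prod = 1 := by
      rw [S.word_sorted]
      simp [zero_pow (pow_ne_zero m three_ne_zero), four, goodG2.xG_zero]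
    exact one_ne_zero (S.word_inj (h.trans h0.symm)).2.1
  set p : ↥(twistedG2 K (3 ^ m)) := ⟨u, hu.2⟩ * S.omegaG
  have h1 : (QuotientGroup.mk 1 : ↥(twistedG2 K (3 ^ m)) ⧸ S.pB) ≠ QuotientGroup.mk S.omegaG := by
    rw [ne_eq, QuotientGroup.eq, inv_one, one_mul, S.mem_pB]
    exact S.omega_not_borel
  have h2 : (QuotientGroup.mk 1 : ↥(twistedG2 K (3 ^ m)) ⧸ S.pB) ≠ QuotientGroup.mk p := by
    rw [ne_eq, QuotientGroup.eq, inv_one, one_mul, S.mem_pB]
    intro h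
    refine S.omega_not_borel ?_
    have := mul_mem (Subgroup.inv_mem _ (S.pos_le_borel hu)) h
    simpa [p, omegaG] using this
  have h3 : (QuotientGroup.mk S.omegaG : ↥(twistedG2 K (3 ^ m)) ⧸ S.pB) ≠ QuotientGroup.mk p := by
    rw [ne_eq, QuotientGroup.eq, S.mem_pB]
    intro h
    refine hu1 (S.cell_unique hu (one_mem _) (one_mem _) h ?_).1
    simp [p, omegaG]
  refine ⟨_, _, _, h1, h2, h3, le_antisymm (S.stabilizer_le _ _ _ h1 h2 h3) ?_⟩
  set a : ↥(twistedG2 K (3 ^ m)) := ⟨S.tauHom (-1), (S.tauHom_mem _).2⟩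
  have hmem : a ∈ MulAction.stabilizer ↥(twistedG2 K (3 ^ m))
        (QuotientGroup.mk 1 : ↥(twistedG2 K (3 ^ m)) ⧸ S.pB) ⊓
      MulAction.stabilizer _ (QuotientGroup.mk S.omegaG : ↥(twistedG2 K (3 ^ m)) ⧸ S.pB) ⊓
      MulAction.stabilizer _ (QuotientGroup.mk p : ↥(twistedG2 K (3 ^ m)) ⧸ S.pB) := by
    have hd := S.tauHom_mem (-1)
    refine Subgroup.mem_inf.2 ⟨Subgroup.mem_inf.2 ⟨?_, ?_⟩, ?_⟩ <;>
      simp only [SetLike.mem_coe, MulAction.mem_stabilizer_iff, S.mk_fixed, S.mem_pB, Subgroup.coe_mul,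
        Subgroup.coe_inv, omegaG, p, a, OneMemClass.coe_one, inv_one, one_mul, mul_one]
    · exact S.diag_le_borel hd
    · exact S.diag_le_borel (S.omega_normalizes hd)
    · have hc := S.tau_neg_one_fixes (1 : K)
      rw [← hud] at hc
      rw [show (u * S.omega)⁻¹ * S.tauHom (-1) * (u * S.omega) =
        S.omega⁻¹ * (u⁻¹ * (S.tauHom (-1) * u)) * S.omega by group, hc, inv_mul_cancel_left]
      exact S.diag_le_borel (S.omega_normalizes hd)
  have hne : a ≠ 1 := by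
    intro h
    exact S.neg_one_ne_one (S.tauHom_inj (by rw [map_one]; exact congrArg Subtype.val h))
  refine Finite.one_lt_card_iff_nontrivial.2 ⟨⟨⟨a, hmem⟩, 1, fun h => hne (congrArg Subtype.val h)⟩⟩

/-- `U¹` inside `G¹`. -/
abbrev pU (_S : SetupG2 K m) : Subgroup ↥(twistedG2 K (3 ^ m)) :=
  (chevG2.posUnipotent K ⊓ twistedG2 K (3 ^ m)).subgroupOf (twistedG2 K (3 ^ m))

lemma card_pU : Nat.card ↥S.pU = (3 ^ (2 * m + 1)) ^ 3 := by
  rw [Nat.card_congr (Subgroup.subgroupOfEquivOfLe inf_le_right).toEquiv, (pos_twistedG2 K S.card).2]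

/-- `U¹` is a Sylow 3-subgroup. -/
theorem exists_sylow : ∃ P : Sylow 3 ↥(twistedG2 K (3 ^ m)), (P : Subgroup _) = S.pU := by
  have := Fact.mk Nat.prime_three
  have hp : IsPGroup 3 ↥S.pU := IsPGroup.of_card (n := (2 * m + 1) * 3) (by rw [S.card_pU, pow_mul])
  refine ⟨hp.toSylow ?_, rfl⟩
  set q := 3 ^ (2 * m + 1) with hq
  have hd : 3 ∣ q := dvd_pow_self 3 (by omega)
  have h1 : 1 ≤ q := Nat.one_le_pow _ _ (by norm_num)
  have hi := S.pU.index_mul_card
  rw [S.card_pU, S.card_eq, ← hq] at hi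
  have hidx : S.pU.index = (q - 1) * (q ^ 3 + 1) :=
    mul_right_cancel₀ (pow_ne_zero 3 (show q ≠ 0 by omega)) (hi.trans (by ring))
  rw [hidx, Nat.prime_three.dvd_mul]
  rintro (h | h)
  · omega
  · exact absurd ((Nat.dvd_add_right (dvd_pow hd three_ne_zero)).1 h) (by norm_num)

/-- Distinct conjugates of `U¹` meet trivially. -/
theorem conj_inf {g : ↥(twistedG2 K (3 ^ m))} (hg : g ∉ S.pB) {x : ↥(twistedG2 K (3 ^ m))}
    (hx : x ∈ S.pU) (hx' : g⁻¹ * x * g ∈ S.pU) : x = 1 := by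
  rcases S.cell g.2 with h | ⟨u, hu, b, hb, he⟩
  · exact absurd h hg
  set y : GL chevG2.Idx K := u⁻¹ * x * u with hy
  have hyU : y ∈ chevG2.posUnipotent K ⊓ twistedG2 K (3 ^ m) :=
    mul_mem (mul_mem (Subgroup.inv_mem _ hu) hx) hu
  have hyB : S.omega⁻¹ * y * S.omega ∈ chevG2.borelSubgroup K ⊓ twistedG2 K (3 ^ m) := by
    have h2 := mul_mem (mul_mem hb (S.pos_le_borel hx')) (Subgroup.inv_mem _ hb)
    simp only [map_mul, map_inv, Subgroup.coe_subtype, Subgroup.coe_mul, Subgroup.coe_inv, he] at h2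
    convert h2 using 1
    rw [hy]; group
  have hyd := S.two_point (S.pos_le_borel hyU) hyB
  have : y = 1 := by
    have h3 : y ∈ chevG2.posUnipotent K ⊓ chevG2.diagonalSubgroup K := ⟨hyU.1, hyd.1⟩
    rwa [goodG2.pos_inf_diagonal, Subgroup.mem_bot] at h3
  refine Subtype.ext ?_
  rw [hy, mul_eq_one_iff_eq_inv, inv_mul_eq_iff_eq_mul, mul_inv_cancel] at this
  exact this

lemma pB_normalizes {b x : ↥(twistedG2 K (3 ^ m))} (hb : b ∈ S.pB) (hx : x ∈ S.pU) :
    b * x * b⁻¹ ∈ S.pU := by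
  obtain ⟨y, hy, t, ht, he⟩ := S.borel_decomp (S.mem_pB.1 hb)
  show (b : GL chevG2.Idx K) * x * (b : GL chevG2.Idx K)⁻¹ ∈ chevG2.posUnipotent K ⊓ twistedG2 K (3 ^ m)
  rw [he, show y * t * (x : GL chevG2.Idx K) * (y * t)⁻¹ = y * (t * x * t⁻¹) * y⁻¹ by group]
  exact mul_mem (mul_mem hy (S.diag_normalizes_pos ht hx)) (Subgroup.inv_mem _ hy)

/-- Distinct Sylow 3-subgroups meet trivially. -/
theorem sylow_inf (P Q : Sylow 3 ↥(twistedG2 K (3 ^ m))) (hPQ : P ≠ Q) :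
    (P : Subgroup ↥(twistedG2 K (3 ^ m))) ⊓ Q = ⊥ := by
  have := Fact.mk Nat.prime_three
  obtain ⟨P₀, h₀⟩ := S.exists_sylow
  obtain ⟨a, rfl⟩ := MulAction.exists_smul_eq ↥(twistedG2 K (3 ^ m)) P₀ P
  obtain ⟨c, rfl⟩ := MulAction.exists_smul_eq ↥(twistedG2 K (3 ^ m)) P₀ Q
  rw [eq_bot_iff]
  intro x hx
  obtain ⟨hxP, hxQ⟩ := Subgroup.mem_inf.1 hx
  simp only [Sylow.coe_subgroup_smul, Subgroup.mem_carrier, SetLike.mem_coe,
    Subgroup.mem_pointwise_smul_iff_inv_smul_mem, ← map_inv, MulAut.smul_def, MulAut.conj_apply,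
    h₀, inv_inv] at hxP hxQ
  rw [Subgroup.mem_bot]
  by_cases hg : a⁻¹ * c ∈ S.pB
  · refine absurd ?_ hPQ
    refine Sylow.ext ?_
    ext z
    simp only [Sylow.coe_subgroup_smul,
      Subgroup.mem_pointwise_smul_iff_inv_smul_mem, ← map_inv, MulAut.smul_def, MulAut.conj_apply,
      h₀, inv_inv]
    constructor
    · intro h
      have := S.pB_normalizes (Subgroup.inv_mem _ hg) h
      convert this using 1
      group
    · intro h
      have := S.pB_normalizes hg h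
      convert this using 1
      group
  · have h1 := S.conj_inf hg (x := a⁻¹ * x * a) hxP (by
      convert hxQ using 1
      group)
    rw [mul_eq_one_iff_eq_inv, inv_mul_eq_iff_eq_mul, mul_inv_cancel] at h1
    exact h1

end SetupG2

end CfsgLib.Chev
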