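import Mathlib
import Cfsg.Agent.Lib.Chev.ReeCosets
import Cfsg.Agent.Lib.Chev.SL2Hom

/-!
The homomorphism of SL₂ into ²G₂.
-/

set_option autoImplicit false
set_option maxHeartbeats 1600000
set_option maxRecDepth 100000
set_option linter.unusedSectionVars false

namespace CfsgLib.Chev

open Cfsg.Lie

/-- An element of a field endomorphism acting on SL₂. -/
lemma slMap_slU {F : Type*} [Field F] (φ : F →+* F) (t : F) :
    Matrix.SpecialLinearGroup.map φ (slU t) = slU (φ t) := by
  apply Subtype.ext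
  ext i j
  change φ ((slU t).1 i j) = _
  fin_cases i <;> fin_cases j <;> simp [slU]

lemma slMap_slL {F : Type*} [Field F] (φ : F →+* F) (t : F) :
    Matrix.SpecialLinearGroup.map φ (slL t) = slL (φ t) := by
  apply Subtype.ext
  ext i j
  change φ ((slL t).1 i j) = _
  fin_cases i <;> fin_cases j <;> simp [slL]

lemma slMap_slD {F : Type*} [Field F] (φ : F →+* F) (t : Fˣ) :
    Matrix.SpecialLinearGroup.map φ (slD t) = slD (Units.map (φ : F →* F) t) := by
  apply Subtype.ext
  ext i j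
  change φ ((slD t).1 i j) = _
  fin_cases i <;> fin_cases j <;> simp [slD]

lemma slW_eq {F : Type*} [Field F] : (slW : Matrix.SpecialLinearGroup (Fin 2) F) =
    slU 1 * slL (-1) * slU 1 := by
  apply Subtype.ext
  simp only [Matrix.SpecialLinearGroup.coe_mul]
  ext i j
  fin_cases i <;> fin_cases j <;> simp [slU, slL, slW, Matrix.mul_apply, Fin.sum_univ_two]

lemma slD_neg_one_mem_center {F : Type*} [Field F] :
    slD (-1 : Fˣ) ∈ Subgroup.center (Matrix.SpecialLinearGroup (Fin 2) F) := by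
  rw [Matrix.SpecialLinearGroup.mem_center_iff]
  refine ⟨-1, by simp, ?_⟩
  ext i j
  fin_cases i <;> fin_cases j <;> simp [slD]

lemma center_sl2_le {F : Type*} [Field F] {A : Matrix.SpecialLinearGroup (Fin 2) F}
    (h : A ∈ Subgroup.center (Matrix.SpecialLinearGroup (Fin 2) F)) : A = 1 ∨ A = slD (-1) := by
  obtain ⟨r, hr, he⟩ := Matrix.SpecialLinearGroup.mem_center_iff.1 h
  rcases sq_eq_one_iff.1 (show r ^ 2 = 1 by simpa using hr) with rfl | rfl
  · left
    apply Subtype.ext
    rw [← he]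
    simp
  · right
    apply Subtype.ext
    rw [← he]
    ext i j
    fin_cases i <;> fin_cases j <;> simp [slD]

namespace SetupG2

variable {K : Type*} [Field K] [Fintype K] {m : ℕ} (S : SetupG2 K m)
include S

/-- The power `3 ^ m` of the Frobenius map. -/
def frob : K →+* K :=
  { toFun := fun x => x ^ 3 ^ m
    map_one' := one_pow _
    map_mul' := fun x y => mul_pow x y _
    map_zero' := zero_pow (pow_ne_zero m three_ne_zero)
    map_add' := S.pow_add }

lemma frob_apply (x : K) : S.frob x = x ^ 3 ^ m := rfl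

/-- The rank-one subgroup. -/
theorem exists_psi :
    ∃ ψ : Matrix.SpecialLinearGroup (Fin 2) K →* GL chevG2.Idx K,
      (∀ A, ψ A ∈ twistedG2 K (3 ^ m)) ∧
      (∀ t, ψ (slU t) = goodG2.xG 8 (t ^ 3 ^ m) * goodG2.xG 10 t) ∧
      (∀ t, ψ (slL t) = goodG2.xG 3 (t ^ 3 ^ m) * goodG2.xG 1 t) ∧
      (∀ t, ψ (slD t) = S.tauHom (t ^ (3 * 3 ^ m + 1))) := by
  have h8 : 8 < chevG2.nroots := by decide +kernel
  have h10 : 10 < chevG2.nroots := by decide +kernel
  have e3 : chevG2.neg 8 = 3 := by decide +kernel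
  have e1 : chevG2.neg 10 = 1 := by decide +kernel
  obtain ⟨f, fU, fL, fD⟩ := goodG2.exists_rootHom (F := K) h8
  obtain ⟨k, kU, kL, kD⟩ := goodG2.exists_rootHom (F := K) h10
  obtain ⟨c1, c2, c3, c4⟩ := S.hcomm_pair
  have hgen : ∀ (φ : Matrix.SpecialLinearGroup (Fin 2) K →* GL chevG2.Idx K)
      (T : Subgroup (GL chevG2.Idx K)), (∀ t, φ (slU t) ∈ T) → (∀ t, φ (slL t) ∈ T) → ∀ A, φ A ∈ T := by
    intro φ T hu hl A
    have h : Subgroup.closure (Set.range slU ∪ Set.range slL) ≤ T.comap φ := by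
      rw [Subgroup.closure_le]
      rintro y (⟨t, rfl⟩ | ⟨t, rfl⟩)
      · exact hu t
      · exact hl t
    rw [closure_slU_slL K] at h
    exact h (Subgroup.mem_top A)
  have hcomm : ∀ A B, Commute (f A) (k B) := by
    intro A B
    have step : ∀ y : GL chevG2.Idx K, (∀ t, Commute (f (slU t)) y) → (∀ t, Commute (f (slL t)) y) →
        ∀ A, Commute (f A) y := fun y hu hl A =>
      (Subgroup.mem_centralizer_singleton_iff.1 (hgen f (Subgroup.centralizer {y})
        (fun t => Subgroup.mem_centralizer_singleton_iff.2 (hu t))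
        (fun t => Subgroup.mem_centralizer_singleton_iff.2 (hl t)) A))
    refine step (k B) (fun t => ?_) (fun t => ?_) A
    · refine (Subgroup.mem_centralizer_singleton_iff.1 (hgen k (Subgroup.centralizer {f (slU t)})
        (fun u => ?_) (fun u => ?_) B) : Commute (k B) (f (slU t))).symm
      · rw [Subgroup.mem_centralizer_singleton_iff, fU, kU]; exact (c1 t u).symm.eq
      · rw [Subgroup.mem_centralizer_singleton_iff, fU, kL]; exact (c2 t u).symm.eq
    · refine (Subgroup.mem_centralizer_singleton_iff.1 (hgen k (Subgroup.centralizer {f (slL t)})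
        (fun u => ?_) (fun u => ?_) B) : Commute (k B) (f (slL t))).symm
      · rw [Subgroup.mem_centralizer_singleton_iff, fL, kU]; exact (c3 t u).symm.eq
      · rw [Subgroup.mem_centralizer_singleton_iff, fL, kL]; exact (c4 t u).symm.eq
  let ψ : Matrix.SpecialLinearGroup (Fin 2) K →* GL chevG2.Idx K :=
    { toFun := fun A => f (Matrix.SpecialLinearGroup.map S.frob A) * k A
      map_one' := by simp
      map_mul' := fun A B => by
        rw [map_mul, map_mul, map_mul]
        exact (hcomm _ _).mul_mul_mul_comm _ _ }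
  have pU : ∀ t, ψ (slU t) = goodG2.xG 8 (t ^ 3 ^ m) * goodG2.xG 10 t := fun t => by
    show f (Matrix.SpecialLinearGroup.map S.frob (slU t)) * k (slU t) = _
    rw [slMap_slU, fU, kU, frob_apply]
  have pL : ∀ t, ψ (slL t) = goodG2.xG 3 (t ^ 3 ^ m) * goodG2.xG 1 t := fun t => by
    show f (Matrix.SpecialLinearGroup.map S.frob (slL t)) * k (slL t) = _
    rw [slMap_slL, fL, kL, frob_apply, e3, e1]
  have hmem : ∀ x : K, goodG2.xG 8 (x ^ 3 ^ m) * goodG2.xG 10 x ∈ twistedG2 K (3 ^ m) ∧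
      goodG2.xG 3 (-(x ^ 3 ^ m)) * goodG2.xG 1 (-x) ∈ twistedG2 K (3 ^ m) := by
    intro x
    have h := S.word_mem 0 x 0
    simp only [four, zero_pow (pow_ne_zero m three_ne_zero), zero_pow (Nat.succ_ne_zero _), zero_add,
      neg_zero, add_zero, goodG2.xG_zero, one_mul, mul_one] at h
    simpa [goodG2.xG_zero] using h
  refine ⟨ψ, hgen ψ _ (fun t => ?_) (fun t => ?_), pU, pL, fun t => ?_⟩
  · rw [pU]; exact (hmem t).1
  · rw [pL]
    have h := (hmem (-t)).2
    rwa [S.odd_e.neg_pow, neg_neg, neg_neg] at h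
  · show f (Matrix.SpecialLinearGroup.map S.frob (slD t)) * k (slD t) = _
    rw [slMap_slD, fD, kD, show Units.map (S.frob : K →* K) t = t ^ 3 ^ m from
      Units.ext (by simp [frob_apply]), ← goodG2.torHom_pow_coroot h8, ← goodG2.torHom_pow_coroot h10,
      ← map_mul, S.tauHom_apply]
    congr 1
    have hco : ∀ i : Fin chevG2.rank, corootCo chevG2 8 i = (if i.val = 0 then 1 else 3) ∧
        corootCo chevG2 10 i = 1 := by decide +kernel
    funext i
    obtain ⟨e1, e2⟩ := hco i
    simp only [tauG2, Pi.mul_apply, e1, e2]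
    obtain ⟨i, hi⟩ := i
    have hi' : i < 2 := hi
    interval_cases i <;> simp [← pow_mul]
    · rw [show (3 * 3 ^ m + 1) * 3 ^ m = 3 * 3 ^ m * 3 ^ m + 3 ^ m by ring, _root_.pow_add,
        S.unit_pow_q, mul_comm]
    · rw [_root_.pow_add, pow_one, mul_comm 3 (3 ^ m)]

/-- The homomorphism of SL₂ into ²G₂. -/
noncomputable def psi : Matrix.SpecialLinearGroup (Fin 2) K →* GL chevG2.Idx K := S.exists_psi.choose

lemma psi_mem (A : Matrix.SpecialLinearGroup (Fin 2) K) : S.psi A ∈ twistedG2 K (3 ^ m) :=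
  S.exists_psi.choose_spec.1 A

lemma psi_slU (t : K) : S.psi (slU t) = goodG2.xG 8 (t ^ 3 ^ m) * goodG2.xG 10 t :=
  S.exists_psi.choose_spec.2.1 t

lemma psi_slL (t : K) : S.psi (slL t) = goodG2.xG 3 (t ^ 3 ^ m) * goodG2.xG 1 t :=
  S.exists_psi.choose_spec.2.2.1 t

lemma psi_slD (t : Kˣ) : S.psi (slD t) = S.tauHom (t ^ (3 * 3 ^ m + 1)) :=
  S.exists_psi.choose_spec.2.2.2 t

lemma psi_slU_word (t : K) :
    S.psi (slU t) = ((reeWordU (3 ^ m) 0 t 0).map fun p => goodG2.xG p.1 p.2).prod := by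
  rw [S.psi_slU, S.word_sorted]
  simp [four, zero_pow (pow_ne_zero m three_ne_zero), goodG2.xG_zero]

lemma psi_slU_pos (t : K) : S.psi (slU t) ∈ chevG2.posUnipotent K ⊓ twistedG2 K (3 ^ m) :=
  S.psi_slU_word t ▸ S.word_pos 0 t 0

lemma psi_W_not_borel : S.psi slW ∉ chevG2.borelSubgroup K ⊓ twistedG2 K (3 ^ m) := by
  intro h
  have hL : S.psi (slL (-1)) ∈ chevG2.borelSubgroup K := by
    have e : slL (-1 : K) = (slU 1)⁻¹ * slW * (slU 1)⁻¹ := by rw [slW_eq]; group
    rw [e, map_mul, map_mul, map_inv]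
    have hu := Subgroup.inv_mem _ ((S.pos_le_borel (S.psi_slU_pos 1)).1)
    exact mul_mem (mul_mem hu h.1) hu
  have hn : S.psi (slL (-1)) ∈ chevG2.negUnipotent K := by
    rw [S.psi_slL]
    exact mul_mem (goodG2.xG_mem_negUnipotent (show chevG2.IsNegRoot 3 by decide +kernel) _)
      (goodG2.xG_mem_negUnipotent (show chevG2.IsNegRoot 1 by decide +kernel) _)
  have h1 : S.psi (slL (-1)) ∈ chevG2.borelSubgroup K ⊓ chevG2.negUnipotent K := ⟨hL, hn⟩
  rw [goodG2.borel_inf_neg, Subgroup.mem_bot, S.psi_slL, mul_eq_one_iff_eq_inv, goodG2.xG_inv] at h1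
  have h2 := goodG2.eq_of_xG_eq (by decide +kernel) (by decide +kernel) (by decide) h1
  rw [S.odd_e.neg_one_pow] at h2
  simp at h2

/-- The kernel. -/
theorem psi_ker {A : Matrix.SpecialLinearGroup (Fin 2) K} :
    S.psi A = 1 ↔ A = 1 ∨ A = slD (-1) := by
  constructor
  · intro hA
    have R : SL2Rel (G := Matrix.SpecialLinearGroup (Fin 2) K ⧸ (⊤ : Subgroup _))
        (fun _ : K => 1) (fun _ => 1) 1 1 :=
      ⟨by simp, by simp, by simp, by simp, by simp, by simp⟩
    rcases R.normal_form A with ⟨s, β, rfl⟩ | ⟨α, s, β, rfl⟩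
    · rw [map_mul, S.psi_slD, mul_eq_one_iff_eq_inv] at hA
      have hmem : S.tauHom (s ^ (3 * 3 ^ m + 1)) ∈
          chevG2.posUnipotent K ⊓ chevG2.diagonalSubgroup K :=
        ⟨hA ▸ Subgroup.inv_mem _ (S.psi_slU_pos β).1, (S.tauHom_mem _).1⟩
      rw [goodG2.pos_inf_diagonal, Subgroup.mem_bot] at hmem
      rw [hmem] at hA
      have hU : S.psi (slU β) = 1 := inv_eq_one.1 hA.symm
      have hβ : β = 0 := by
        have h0 : ((reeWordU (3 ^ m) (0 : K) 0 0).map fun p => goodG2.xG p.1 p.2).prod = 1 := by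
          rw [← S.psi_slU_word, S.psi_slU]
          simp [zero_pow (pow_ne_zero m three_ne_zero), goodG2.xG_zero]
        exact (S.word_inj (((S.psi_slU_word β).symm.trans hU).trans h0.symm)).2.1
      have hs : s ^ (3 * 3 ^ m + 1) = 1 := S.tauHom_inj (by rw [hmem, map_one])
      have hs2 : s * s = 1 := by
        have hq : s ^ (3 * (3 ^ m : ℤ) * 3 ^ m - 1) = 1 := S.unit_pow_sub_one s
        have h1 : s ^ (3 * (3 ^ m : ℤ) + 1) = 1 := by
          rw [show (3 * (3 ^ m : ℤ) + 1) = ((3 * 3 ^ m + 1 : ℕ) : ℤ) by push_cast; ring, zpow_natCast, hs]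
        have : s ^ (2 : ℤ) = 1 := by
          rw [show (2 : ℤ) = (3 * 3 ^ m + 1) * (3 * 3 ^ m - 1) + (3 * (3 ^ m : ℤ) * 3 ^ m - 1) * (-3) by ring,
            zpow_add, zpow_mul, zpow_mul, h1, hq, one_zpow, one_zpow, one_mul]
        simpa [zpow_ofNat, sq] using this
      have hU0 : slU β = (1 : Matrix.SpecialLinearGroup (Fin 2) K) := by
        rw [hβ]; exact Subtype.ext (by simp [slU, Matrix.one_fin_two])
      rcases sq_eq_one_iff.1 (show (s : K) ^ 2 = 1 by rw [sq, ← Units.val_mul, hs2]; rfl) with h | h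
      · left
        rw [hU0, mul_one, show s = 1 from Units.ext h]
        exact Subtype.ext (by simp [slD, Matrix.one_fin_two])
      · right
        rw [hU0, mul_one, show s = -1 from Units.ext (by simpa using h)]
    · exfalso
      refine S.psi_W_not_borel ?_
      rw [map_mul, map_mul, map_mul] at hA
      have e : S.psi slW = (S.psi (slD s))⁻¹ * (S.psi (slU α))⁻¹ * (S.psi (slU β))⁻¹ := by
        calc S.psi slW = (S.psi (slD s))⁻¹ * (S.psi (slU α))⁻¹ *
              (S.psi (slU α) * S.psi (slD s) * S.psi slW * S.psi (slU β)) * (S.psi (slU β))⁻¹ := by group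
          _ = _ := by rw [hA, mul_one]
      rw [e, S.psi_slD]
      exact mul_mem (mul_mem (Subgroup.inv_mem _ (S.diag_le_borel (S.tauHom_mem _)))
        (Subgroup.inv_mem _ (S.pos_le_borel (S.psi_slU_pos α))))
        (Subgroup.inv_mem _ (S.pos_le_borel (S.psi_slU_pos β)))
  · rintro (rfl | rfl)
    · exact map_one _
    · rw [S.psi_slD, Even.neg_one_pow (((show Odd 3 by decide).mul S.odd_e).add_odd odd_one), map_one]

end SetupG2

end CfsgLib.Chev
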