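import Mathlib
import Cfsg.Agent.Lib.Chev.TwistFGPerfect

/-!
The seven-dimensional representation of G₂ in characteristic three.
-/

set_option autoImplicit false
set_option maxHeartbeats 800000
set_option maxRecDepth 100000
set_option linter.unusedSectionVars false

namespace CfsgLib.Chev

open Cfsg.Lie

/-- The coordinates of the short roots and their coroot. -/
def shortIx : List ℕ := [0, 4, 5, 6, 9, 10, 11]

/-- The index type of the submodule. -/
abbrev ShortIdx : Type := {a : chevG2.Idx // ix chevG2 a ∈ shortIx}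

lemma card_shortIdx : Fintype.card ShortIdx = 7 := by decide +kernel

/-- The matrices preserving the submodule. -/
def ShortStable {R : Type*} [Field R] (M : Matrix chevG2.Idx chevG2.Idx R) : Prop :=
  ∀ i j : chevG2.Idx, ix chevG2 j ∈ shortIx → ix chevG2 i ∉ shortIx → M i j = 0

/-- The restriction to the submodule. -/
def shortRes {R : Type*} [Field R] (M : Matrix chevG2.Idx chevG2.Idx R) : Matrix ShortIdx ShortIdx R :=
  M.submatrix Subtype.val Subtype.val

section Block

variable {R : Type*} [Field R]

lemma shortStable_one : ShortStable (1 : Matrix chevG2.Idx chevG2.Idx R) := fun i j hj hi => by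
  rw [Matrix.one_apply_ne]
  rintro rfl
  exact hi hj

lemma shortStable_mul {M N : Matrix chevG2.Idx chevG2.Idx R} (hM : ShortStable M) (hN : ShortStable N) :
    ShortStable (M * N) := fun i j hj hi => by
  rw [Matrix.mul_apply]
  refine Finset.sum_eq_zero fun k _ => ?_
  by_cases hk : ix chevG2 k ∈ shortIx
  · rw [hM i k hk hi, zero_mul]
  · rw [hN k j hj hk, mul_zero]

lemma shortRes_one : shortRes (1 : Matrix chevG2.Idx chevG2.Idx R) = 1 := by
  ext i j
  simp [shortRes, Matrix.one_apply, Subtype.ext_iff]

lemma shortRes_mul {M N : Matrix chevG2.Idx chevG2.Idx R} (hN : ShortStable N) :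
    shortRes (M * N) = shortRes M * shortRes N := by
  ext i j
  simp only [shortRes, Matrix.submatrix_apply, Matrix.mul_apply]
  rw [← Finset.sum_subtype (Finset.univ.filter fun a => ix chevG2 a ∈ shortIx) (fun a => by simp)
    (fun a => M i.1 a * N a j.1), Finset.sum_filter]
  refine Finset.sum_congr rfl fun k _ => ?_
  split_ifs with hk
  · rfl
  · rw [hN k j.1 j.2 hk, mul_zero]

end Block

variable {K : Type*} [Field K] [CharP K 3]

lemma shortStable_x {r : ℕ} (hr : r < chevG2.nroots) (t : K) :
    ShortStable (goodG2.xG r t : Matrix chevG2.Idx chevG2.Idx K) := by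
  intro i j hj hi
  rw [Good.coe_xG, goodG2.x_eq_xr hr]
  have hne : i ≠ j := by rintro rfl; exact hi hj
  have h0 : ∀ k ∈ [1, 2, 3], amat chevG2 K r k i j = 0 := by
    intro k hk
    have key : ∀ r < 12, ∀ k ∈ [1, 2, 3], ∀ a < 14, ∀ b ∈ shortIx, a ∉ shortIx →
        coef (fcol chevG2 r k b) a % 3 = 0 := by decide +kernel
    have hlt : ix chevG2 i < 14 := by
      have : ∀ a : chevG2.Idx, ix chevG2 a < 14 := by decide +kernel
      exact this i
    show ((rmat chevG2 r k i j : ℤ) : K) = 0
    rw [goodG2.lie.rmat_apply hr hk, CharP.intCast_eq_zero_iff K 3]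
    exact Int.dvd_of_emod_eq_zero (key r hr k hk _ hlt _ hj hi)
  simp [xr, hne, h0]

/-- The group preserves the submodule. -/
lemma shortStable_group {g : GL chevG2.Idx K} (hg : g ∈ chevG2.group K) :
    ShortStable (g : Matrix chevG2.Idx chevG2.Idx K) := by
  induction hg using Subgroup.closure_induction'' with
  | mem x hx =>
    obtain ⟨r, t, h⟩ := hx
    rw [show x = goodG2.xG r t from Units.ext (by rw [h, Good.coe_xG, ChevalleyDatum.x, dif_pos r.2])]
    exact shortStable_x r.2 t
  | inv_mem x hx =>
    obtain ⟨r, t, h⟩ := hx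
    rw [show x = goodG2.xG r t from Units.ext (by rw [h, Good.coe_xG, ChevalleyDatum.x, dif_pos r.2]),
      goodG2.xG_inv]
    exact shortStable_x r.2 _
  | one => exact shortStable_one
  | mul x y _ _ hx hy => exact shortStable_mul hx hy

/-- The representation on the submodule. -/
def shortRep (K : Type*) [Field K] [CharP K 3] : ↥(chevG2.group K) →* GL ShortIdx K :=
  MonoidHom.toHomUnits
    { toFun := fun g => shortRes ((g : GL chevG2.Idx K) : Matrix chevG2.Idx chevG2.Idx K)
      map_one' := shortRes_one
      map_mul' := fun g h => shortRes_mul (shortStable_group h.2) }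

lemma shortRep_apply (g : ↥(chevG2.group K)) (i j : ShortIdx) :
    (shortRep K g : Matrix ShortIdx ShortIdx K) i j =
      ((g : GL chevG2.Idx K) : Matrix chevG2.Idx chevG2.Idx K) i.1 j.1 := rfl

namespace SetupG2

variable {F : Type*} [Field F] [Fintype F] {m : ℕ} (S : SetupG2 F m)
include S

/-- The small Ree group acts faithfully on the submodule. -/
theorem exists_seven (hm : 1 ≤ m) :
    ∃ f : ↥(twistedG2 F (3 ^ m)) →* GL (Fin 7) F, Function.Injective f := by
  have := S.char
  have := (S.simple hm).1
  let ι : ↥(twistedG2 F (3 ^ m)) →* ↥(chevG2.group F) :=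
    Subgroup.inclusion (show twistedG2 F (3 ^ m) ≤ chevG2.group F from S.sys.le_group)
  let e : Matrix ShortIdx ShortIdx F ≃* Matrix (Fin 7) (Fin 7) F :=
    (Matrix.reindexAlgEquiv F F (Fintype.equivFinOfCardEq card_shortIdx)).toMulEquiv
  refine ⟨((Units.mapEquiv e).toMonoidHom.comp (shortRep F)).comp ι, ?_⟩
  suffices h : Function.Injective ((shortRep F).comp ι) by
    intro a b hab
    exact h ((Units.mapEquiv e).injective hab)
  rw [← MonoidHom.ker_eq_bot_iff]
  refine ((MonoidHom.normal_ker _).eq_bot_or_eq_top).resolve_right fun htop => ?_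
  -- the torus acts non-trivially
  have h1 : ((shortRep F).comp ι) ⟨torHom chevG2 F (tauG2 m (-1)), S.tau_mem _⟩ = 1 :=
    MonoidHom.mem_ker.1 (htop ▸ Subgroup.mem_top _)
  have hr : (7 : ℕ) < chevG2.nroots := by decide +kernel
  let a : ShortIdx := ⟨Sum.inr ⟨7, hr⟩, show chevG2.rank + 7 ∈ shortIx by decide +kernel⟩
  have h2 := congrArg (fun M : GL ShortIdx F => (M : Matrix ShortIdx ShortIdx F) a a) h1
  simp only [MonoidHom.coe_comp, Function.comp_apply, Units.val_one, Matrix.one_apply_eq] at h2
  rw [shortRep_apply] at h2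
  change (torHom chevG2 F (tauG2 m (-1)) : Matrix chevG2.Idx chevG2.Idx F) a.1 a.1 = 1 at h2
  rw [torHom_apply, Matrix.diagonal_apply_eq] at h2
  have hall : tauG2 m (-1 : Fˣ) = fun _ => -1 := by
    funext i
    simp only [tauG2]
    split_ifs
    · exact S.odd_e.neg_one_pow
    · rfl
  have hc : (chevG2.cartan 0 7 + chevG2.cartan 1 7) % 2 = 1 := by decide +kernel
  have hu : (Finset.univ : Finset (Fin chevG2.rank)) = {⟨0, by decide⟩, ⟨1, by decide⟩} := by
    decide +kernel
  rw [hu, Finset.prod_pair (by decide), hall, ← zpow_add] at h2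
  change (((-1 : Fˣ) ^ (chevG2.cartan 0 7 + chevG2.cartan 1 7) : Fˣ) : F) = 1 at h2
  rw [Odd.neg_one_zpow (Int.odd_iff.2 hc), Units.val_neg, Units.val_one] at h2
  have h3 : (2 : F) = 0 := by linear_combination (-1 : F) * h2
  exact one_ne_zero (show (1 : F) = 0 by linear_combination S.three_zero - h3)

end SetupG2

end CfsgLib.Chev
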