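import Mathlib

/-!
# Automorphisms of a finite field span the additive endomorphisms
-/

namespace CfsgLib.Chev.AutSpan

universe u

variable {F : Type u} [Field F] [Fintype F] [CharP F 2]

theorem linearIndependent_aut :
    LinearIndependent F (fun σ : F ≃+* F => ((σ : F →+* F) : F → F)) := by
  have h := (linearIndependent_monoidHom F F).comp (fun σ : F ≃+* F => (σ : F →+* F).toMonoidHom)
    fun σ τ h => RingEquiv.ext fun x => DFunLike.congr_fun h x
  exact h

/-- The additive map with given coefficients. -/
noncomputable def combo [Fintype (F ≃+* F)] (c : (F ≃+* F) → F) : F →+ F :=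
  AddMonoidHom.mk' (fun x => ∑ σ, c σ * σ x) fun x y => by
    simp [map_add, mul_add, Finset.sum_add_distrib]

omit [CharP F 2] in
theorem combo_apply [Fintype (F ≃+* F)] (c : (F ≃+* F) → F) (x : F) :
    combo c x = ∑ σ, c σ * σ x := rfl

theorem finite_aut : Finite (F ≃+* F) :=
  Finite.of_injective (fun σ : F ≃+* F => (σ : F → F)) DFunLike.coe_injective

theorem combo_bijective [Fintype (F ≃+* F)] : Function.Bijective (combo (F := F)) := by
  classical
  let hA : Algebra (ZMod 2) F := ZMod.algebra F 2
  have hfin : Module.Finite (ZMod 2) F := Module.Finite.of_finite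
  have : Finite (F →+ F) :=
    Finite.of_injective (fun f : F →+ F => (f : F → F)) DFunLike.coe_injective
  refine (Nat.bijective_iff_injective_and_card _).2 ⟨fun c c' h => funext fun σ => ?_, ?_⟩
  · have h0 : ∑ σ, (c σ - c' σ) • ((σ : F →+* F) : F → F) = 0 := by
      funext x
      have := DFunLike.congr_fun h x
      simp only [combo_apply] at this
      simp only [Finset.sum_apply, Pi.smul_apply, smul_eq_mul, RingEquiv.coe_toRingHom,
        Pi.zero_apply, sub_mul, Finset.sum_sub_distrib, this, sub_self]
    exact sub_eq_zero.1 (Fintype.linearIndependent_iff.1 linearIndependent_aut _ h0 σ)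
  · let e : (F ≃+* F) ≃ (F ≃ₐ[ZMod 2] F) :=
    { toFun := fun σ => AlgEquiv.ofRingEquiv (f := σ) fun r =>
        RingHom.congr_fun (RingHom.ext_zmod ((σ : F →+* F).comp (algebraMap (ZMod 2) F))
          (algebraMap (ZMod 2) F)) r
      invFun := fun σ => σ.toRingEquiv
      left_inv := fun σ => RingEquiv.ext fun x => rfl
      right_inv := fun σ => AlgEquiv.ext fun x => rfl }
    let e' : (F →+ F) ≃ (F →ₗ[ZMod 2] F) :=
    { toFun := fun f => f.toZModLinearMap 2
      invFun := fun f => f.toAddMonoidHom
      left_inv := fun f => AddMonoidHom.ext fun x => rfl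
      right_inv := fun f => LinearMap.ext fun x => rfl }
    let b := Module.finBasis (ZMod 2) F
    rw [Nat.card_congr (e'.trans (b.constr ℕ).toEquiv.symm), Nat.card_fun, Nat.card_fun,
      Nat.card_congr e, IsGalois.card_aut_eq_finrank, Nat.card_fin]

theorem exists_combo (f : F →+ F) :
    ∃ (s : Finset (F ≃+* F)) (c : (F ≃+* F) → F), ∀ x : F, f x = ∑ σ ∈ s, c σ * σ x := by
  classical
  have := finite_aut (F := F)
  have := Fintype.ofFinite (F ≃+* F)
  obtain ⟨c, rfl⟩ := combo_bijective.2 f
  exact ⟨Finset.univ, c, fun x => combo_apply c x⟩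

theorem exists_combo₂ (B : F →+ F →+ F) :
    ∃ (s : Finset ((F ≃+* F) × (F ≃+* F))) (c : (F ≃+* F) × (F ≃+* F) → F),
      ∀ x y : F, B x y = ∑ p ∈ s, c p * (p.1 x * p.2 y) := by
  classical
  have := finite_aut (F := F)
  have := Fintype.ofFinite (F ≃+* F)
  choose c hc using fun x => combo_bijective.2 (B x)
  have hadd : ∀ x x' τ, c (x + x') τ = c x τ + c x' τ := by
    intro x x'
    have : c (x + x') = c x + c x' := by
      refine combo_bijective.1 (AddMonoidHom.ext fun y => ?_)
      calc combo (c (x + x')) y = B (x + x') y := by rw [hc]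
        _ = combo (c x) y + combo (c x') y := by rw [map_add, hc, hc]; rfl
        _ = combo (c x + c x') y := by
            simp only [combo_apply, Pi.add_apply, add_mul, Finset.sum_add_distrib]
    exact fun τ => congrFun this τ
  choose d hd using fun τ => combo_bijective.2
    (AddMonoidHom.mk' (fun x => c x τ) fun x x' => hadd x x' τ)
  refine ⟨Finset.univ, fun p => d p.2 p.1, fun x y => ?_⟩
  rw [← hc x, combo_apply, Fintype.sum_prod_type_right]
  refine Finset.sum_congr rfl fun τ _ => ?_
  have := DFunLike.congr_fun (hd τ) x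
  simp only [combo_apply, AddMonoidHom.mk'_apply] at this
  rw [← this, Finset.sum_mul]
  exact Finset.sum_congr rfl fun σ _ => mul_assoc _ _ _

theorem exists_combo_quadratic (q : F → F)
    (hq : ∀ x y z : F,
      q (x + y + z) + q (x + y) + q (x + z) + q (y + z) + q x + q y + q z = 0) :
    ∃ (s : Finset ((F ≃+* F) × (F ≃+* F))) (c : (F ≃+* F) × (F ≃+* F) → F),
      ∀ x : F, q x = ∑ p ∈ s, c p * (p.1 x * p.2 x) := by
  classical
  let hA : Algebra (ZMod 2) F := ZMod.algebra F 2
  have htwo : ∀ x : F, x + x = 0 := CharTwo.add_self_eq_zero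
  have h0 : q 0 = 0 := by simpa [htwo] using hq 0 0 0
  have hz : ∀ a : ZMod 2, a = 0 ∨ a = 1 := by decide
  have hsub : ∀ u v w : F, u - v - w = u + v + w := by
    intro u v w; simp only [CharTwo.sub_eq_add]
  let Q : QuadraticMap (ZMod 2) F F := QuadraticMap.ofPolar q
    (fun a x => by rcases hz a with rfl | rfl <;> simp [h0])
    (fun x x' y => by
      simp only [QuadraticMap.polar, hsub]
      linear_combination hq x x' y - htwo (q (x + y)) - htwo (q x) - htwo (q y) - htwo (q (x' + y))
        - htwo (q x'))
    (fun a x y => by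
      rcases hz a with rfl | rfl <;> simp [QuadraticMap.polar, h0])
  obtain ⟨B, hB⟩ := LinearMap.BilinMap.toQuadraticMap_surjective Q
  obtain ⟨s, c, hc⟩ := exists_combo₂
    (AddMonoidHom.mk' (fun x => (B x).toAddMonoidHom) fun x y => by ext z; simp)
  refine ⟨s, c, fun x => ?_⟩
  have h1 : B x x = q x := DFunLike.congr_fun hB x
  rw [← h1]
  exact hc x x

end CfsgLib.Chev.AutSpan
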