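import Cfsg.Agent.Lib.Chev.OrderTables
import Mathlib.GroupTheory.Perm.Sign
import Mathlib.Algebra.Field.ZMod

/-!
# `B₂(2)` is the symmetric group of degree six
-/

set_option autoImplicit false

namespace CfsgLib.Chev.B2Six

open Cfsg.Lie Matrix

theorem xMat_map {K F : Type*} [Field K] [Field F] (D : ChevalleyDatum) (f : K →+* F)
    (r : Fin D.nroots) (t : K) : (D.xMat K r t).map f = D.xMat F r (f t) := by
  ext a b
  simp only [Matrix.map_apply, ChevalleyDatum.xMat, Matrix.of_apply]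
  rcases b with i | s <;> rcases a with i' | u <;> (try split_ifs) <;>
    simp [apply_ite f, map_list_sum, List.map_map, Function.comp_def]

/-- Six linear forms permuted by the group. -/
def sixInt : Fin 6 → (chevB2.Idx → ℤ) := fun k =>
  Sum.elim
    (fun i => (([[0, 1], [0, 1], [0, 1], [0, 1], [0, 1], [0, 1]] : List (List ℤ))[k.val]!)[i.val]!)
    (fun j => (([[0, 0, 0, 1, 1, 0, 0, 0], [0, 0, 0, 1, 1, 0, 0, 1], [1, 0, 0, 0, 0, 0, 0, 1],
      [1, 0, 0, 0, 1, 0, 0, 1], [1, 0, 0, 1, 0, 0, 0, 1], [1, 0, 0, 1, 1, 0, 0, 0]] : List (List ℤ))[k.val]!)[j.val]!)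

/-- The permutation induced by a root element. -/
def sixPerm : Fin 8 → Fin 6 → Fin 6 :=
  ![![1, 0, 2, 3, 4, 5], ![1, 0, 3, 2, 5, 4], ![1, 0, 4, 5, 2, 3], ![0, 1, 3, 2, 4, 5],
    ![0, 1, 4, 3, 2, 5], ![5, 4, 3, 2, 1, 0], ![5, 3, 4, 1, 2, 0], ![5, 1, 2, 3, 4, 0]]

def sixEquiv (r : Fin 8) : Equiv.Perm (Fin 6) where
  toFun := sixPerm r
  invFun := sixPerm r
  left_inv := by revert r; decide
  right_inv := by revert r; decide

theorem six_spec : ∀ (r : Fin chevB2.nroots) (k : Fin 6) (a : chevB2.Idx),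
    (((fun b => ((sixInt k b : ℤ) : ZMod 2)) ᵥ* chevB2.xMat (ZMod 2) r 1) a =
      ((sixInt (sixPerm r k) a : ℤ) : ZMod 2)) := by
  decide +kernel

theorem six_inj : ∀ k k' : Fin 6, (∀ a : chevB2.Idx,
    ((sixInt k a : ℤ) : ZMod 2) = ((sixInt k' a : ℤ) : ZMod 2)) → k = k' := by
  decide +kernel

theorem six_swaps : ∀ i : Fin 5, Equiv.swap i.castSucc i.succ =
    (([[0], [3, 2, 7, 2, 3], [3], [3, 4, 3], [0, 1, 3]] : List (List (Fin 8)))[i.val]!.map sixEquiv).prod := by
  decide +kernel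

/-- `B₂(2) ≅ S₆`. -/
theorem equiv_six {F : Type*} [Field F] [Fintype F] (hF : Fintype.card F = 2) :
    Nonempty (↥(chevB2.group F) ≃* Equiv.Perm (Fin 6)) := by
  classical
  let e : ZMod 2 ≃+* F := ZMod.ringEquivOfPrime F Nat.prime_two hF
  let w : Fin 6 → (chevB2.Idx → F) := fun k a => e ((sixInt k a : ℤ) : ZMod 2)
  have hw : Function.Injective w := fun k k' h =>
    six_inj k k' fun a => e.injective (congrFun h a)
  have ht : ∀ t : F, t = 0 ∨ t = 1 := fun t => by
    obtain ⟨u, rfl⟩ := e.surjective t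
    have : u = 0 ∨ u = 1 := by revert u; decide
    rcases this with rfl | rfl
    · exact Or.inl (map_zero e)
    · exact Or.inr (map_one e)
  have hgen : ∀ (r : Fin chevB2.nroots) (k : Fin 6),
      w k ᵥ* chevB2.xMat F r 1 = w (sixPerm r k) := by
    intro r k
    funext a
    have h := congrArg e (six_spec r k a)
    rw [show chevB2.xMat F r 1 = (chevB2.xMat (ZMod 2) r 1).map e.toRingHom by
      rw [xMat_map, map_one]]
    rw [show w k = e.toRingHom ∘ (fun b => ((sixInt k b : ℤ) : ZMod 2)) from rfl,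
      ← RingHom.map_vecMul]
    exact h
  have hzero : ∀ r : Fin chevB2.nroots, chevB2.xMat F r 0 = 1 := by
    intro r
    have h := goodB2.x_zero (F := F) r.val
    rwa [ChevalleyDatum.x, dif_pos r.2] at h
  -- the permutation induced by an element
  have hex : ∀ g : GL chevB2.Idx F, g ∈ chevB2.group F →
      ∃ π : Equiv.Perm (Fin 6), ∀ k, w k ᵥ* (g : Matrix chevB2.Idx chevB2.Idx F) = w (π k) := by
    intro g hg
    induction hg using Subgroup.closure_induction with
    | mem g h =>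
      obtain ⟨r, t, hrt⟩ := h
      rcases ht t with rfl | rfl
      · exact ⟨1, fun k => by rw [hrt, hzero, Matrix.vecMul_one, Equiv.Perm.one_apply]⟩
      · exact ⟨sixEquiv r, fun k => by rw [hrt, hgen]; rfl⟩
    | one => exact ⟨1, fun k => by rw [Units.val_one, Matrix.vecMul_one, Equiv.Perm.one_apply]⟩
    | mul g h _ _ ihg ihh =>
      obtain ⟨π, hπ⟩ := ihg
      obtain ⟨ρ, hρ⟩ := ihh
      exact ⟨ρ * π, fun k => by
        rw [Units.val_mul, ← Matrix.vecMul_vecMul, hπ, hρ, Equiv.Perm.mul_apply]⟩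
    | inv g _ ih =>
      obtain ⟨π, hπ⟩ := ih
      refine ⟨π⁻¹, fun k => ?_⟩
      have h := hπ (π⁻¹ k)
      rw [← Equiv.Perm.mul_apply, mul_inv_cancel, Equiv.Perm.one_apply] at h
      rw [← h, Matrix.vecMul_vecMul, ← Units.val_mul, mul_inv_cancel, Units.val_one,
        Matrix.vecMul_one]
  choose π hπ using fun g : chevB2.group F => hex g g.2
  have huniq : ∀ (g : chevB2.group F) (σ : Equiv.Perm (Fin 6)),
      (∀ k, w k ᵥ* ((g : GL chevB2.Idx F) : Matrix chevB2.Idx chevB2.Idx F) = w (σ k)) → π g = σ :=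
    fun g σ hσ => Equiv.ext fun k => hw ((hπ g k).symm.trans (hσ k))
  let φ : chevB2.group F →* Equiv.Perm (Fin 6) := MonoidHom.mk' (fun g => (π g)⁻¹) fun g h => by
    rw [← _root_.mul_inv_rev]
    refine congrArg _ (huniq _ _ fun k => ?_)
    rw [Subgroup.coe_mul, Units.val_mul, ← Matrix.vecMul_vecMul, hπ g, hπ h, Equiv.Perm.mul_apply]
  have hroot : ∀ r : Fin chevB2.nroots, sixEquiv r ∈ φ.range := by
    intro r
    obtain ⟨g, hg⟩ :=
      (⟨⟨chevB2.x F r.val 1, chevB2.x F r.val (-1),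
        by rw [goodB2.x_add, add_neg_cancel, goodB2.x_zero],
        by rw [goodB2.x_add, neg_add_cancel, goodB2.x_zero]⟩, rfl⟩ :
        ∃ g : GL chevB2.Idx F, (g : Matrix chevB2.Idx chevB2.Idx F) = chevB2.x F r.val 1)
    rw [ChevalleyDatum.x, dif_pos r.2] at hg
    have hmem : g ∈ chevB2.group F := Subgroup.subset_closure ⟨r, 1, hg⟩
    refine ⟨⟨g, hmem⟩, ?_⟩
    show (π ⟨g, hmem⟩)⁻¹ = sixEquiv r
    rw [huniq ⟨g, hmem⟩ (sixEquiv r) fun k => by
      show w k ᵥ* (g : Matrix chevB2.Idx chevB2.Idx F) = _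
      rw [hg, hgen]; rfl]
    exact Equiv.ext fun k => rfl
  have hsurj : Function.Surjective φ := by
    rw [← MonoidHom.range_eq_top, eq_top_iff]
    intro σ _
    have h : σ ∈ Submonoid.closure (Set.range fun i : Fin 5 => Equiv.swap i.castSucc i.succ) := by
      rw [Equiv.Perm.mclosure_swap_castSucc_succ]; trivial
    refine (Submonoid.closure_le (S := φ.range.toSubmonoid)).mpr ?_ h
    rintro _ ⟨i, rfl⟩
    show Equiv.swap i.castSucc i.succ ∈ φ.range
    rw [six_swaps i]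
    refine Subgroup.list_prod_mem _ fun x hx => ?_
    obtain ⟨r, -, rfl⟩ := List.mem_map.mp hx
    exact hroot r
  have hcard := CfsgLib.Chev.card_groupB2 F
  rw [hF] at hcard
  norm_num at hcard
  refine ⟨MulEquiv.ofBijective φ ((Nat.bijective_iff_surjective_and_card φ).mpr ⟨hsurj, ?_⟩)⟩
  rw [Nat.card_eq_fintype_card (α := Equiv.Perm (Fin 6)), Fintype.card_perm, Fintype.card_fin]
  simpa [Nat.factorial] using hcard

end CfsgLib.Chev.B2Six
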