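import Cfsg.Agent.Lib.Chev.Parabolic
import Cfsg.Agent.Lib.Chev.CardGroup

/-!
Real weights on the adjoint basis of a Chevalley group: the subgroups of non-negative and of positive
weight, and their behaviour under the monomial elements.
-/

set_option autoImplicit false
set_option linter.unusedSectionVars false

namespace CfsgLib.Chev

open Cfsg.Lie Matrix

variable {D : ChevalleyDatum} {F : Type*} [Field F]

/-- Every nonzero entry raises the weight by at least `s`. -/
def Ge (W : D.Idx → ℝ) (s : ℝ) (M : Matrix D.Idx D.Idx F) : Prop :=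
  ∀ a b, M a b ≠ 0 → s ≤ W a - W b

/-- The nonzero entries of `M - 1` raise the weight by at least `s`. -/
def Gap (W : D.Idx → ℝ) (s : ℝ) (M : Matrix D.Idx D.Idx F) : Prop := Ge W s (M - 1)

theorem Ge.one (W : D.Idx → ℝ) : Ge W 0 (1 : Matrix D.Idx D.Idx F) := fun a b h => by
  by_cases hab : a = b
  · rw [hab, sub_self]
  · exact absurd (Matrix.one_apply_ne hab) h

theorem Ge.mul {W : D.Idx → ℝ} {s t : ℝ} {M N : Matrix D.Idx D.Idx F} (hM : Ge W s M)
    (hN : Ge W t N) : Ge W (s + t) (M * N) := fun a b h => by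
  rw [Matrix.mul_apply] at h
  obtain ⟨k, -, hk⟩ := Finset.exists_ne_zero_of_sum_ne_zero h
  linarith [hM a k (left_ne_zero_of_mul hk), hN k b (right_ne_zero_of_mul hk)]

theorem Ge.add {W : D.Idx → ℝ} {s : ℝ} {M N : Matrix D.Idx D.Idx F} (hM : Ge W s M)
    (hN : Ge W s N) : Ge W s (M + N) := fun a b h => by
  rw [Matrix.add_apply] at h
  by_cases ha : M a b = 0
  · rw [ha, zero_add] at h; exact hN a b h
  · exact hM a b ha

theorem Gap.conj {W : D.Idx → ℝ} {s : ℝ} {x m : GL D.Idx F} (hx : Ge W 0 (x : Matrix D.Idx D.Idx F))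
    (hx' : Ge W 0 ((x⁻¹ : GL D.Idx F) : Matrix D.Idx D.Idx F))
    (hm : Gap W s (m : Matrix D.Idx D.Idx F)) :
    Gap W s ((x⁻¹ * m * x : GL D.Idx F) : Matrix D.Idx D.Idx F) := by
  have h := (hx'.mul hm).mul hx
  rw [zero_add, add_zero] at h
  rw [Gap, Units.val_mul, Units.val_mul]
  simpa [Matrix.mul_sub, Matrix.sub_mul] using h

/-- The monomial shape: an entry at `(a, b)` forces `a = π b` on roots and fixes the torus part. -/
def Shape (π : Equiv.Perm (Fin D.nroots)) (M : Matrix D.Idx D.Idx F) : Prop :=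
  ∀ a b, M a b ≠ 0 → ∀ φ : Fin D.nroots → ℝ,
    Sum.elim (0 : Fin D.rank → ℝ) φ a = Sum.elim (0 : Fin D.rank → ℝ) (φ ∘ π) b

theorem Shape.mul {π σ : Equiv.Perm (Fin D.nroots)} {M N : Matrix D.Idx D.Idx F} (hM : Shape π M)
    (hN : Shape σ N) : Shape (π * σ) (M * N) := fun a b h φ => by
  rw [Matrix.mul_apply] at h
  obtain ⟨k, -, hk⟩ := Finset.exists_ne_zero_of_sum_ne_zero h
  rw [hM a k (left_ne_zero_of_mul hk) φ, hN k b (right_ne_zero_of_mul hk) (φ ∘ π)]
  rfl

theorem shape_one : Shape (1 : Equiv.Perm (Fin D.nroots)) (1 : Matrix D.Idx D.Idx F) :=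
  fun a b h φ => by
    by_cases hab : a = b
    · rw [hab]; rfl
    · exact absurd (Matrix.one_apply_ne hab) h

namespace Good

variable (g : Good D)
include g

/-- The linear function on roots with values `c` on the fundamental roots. -/
noncomputable def lam (c : Fin D.rank → ℝ) (u : Fin D.nroots) : ℝ :=
  ∑ q : Fin D.rank, c q * (g.co u q : ℝ)

/-- The weight of a basis vector. -/
noncomputable def wgt (c : Fin D.rank → ℝ) : D.Idx → ℝ := Sum.elim (0 : Fin D.rank → ℝ) (g.lam c)

lemma lam_sroot (c : Fin D.rank → ℝ) (i : Fin D.rank) : g.lam c (g.sroot i) = c i := by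
  rw [lam, Finset.sum_eq_single i]
  · simp [sroot, g.co_simple i.2 i.2]
  · intro q _ hq
    have : ¬ (i : ℕ) = q := fun h => hq (Fin.ext h.symm)
    simp [sroot, g.co_simple i.2 q.2, this]
  · simp

lemma lam_add (c d : Fin D.rank → ℝ) (u : Fin D.nroots) :
    g.lam (c + d) u = g.lam c u + g.lam d u := by
  simp [lam, add_mul, Finset.sum_add_distrib]

lemma lam_smul (t : ℝ) (c : Fin D.rank → ℝ) (u : Fin D.nroots) :
    g.lam (t • c) u = t * g.lam c u := by
  simp [lam, Finset.mul_sum, mul_assoc]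

lemma lam_neg (c : Fin D.rank → ℝ) (u : Fin D.nroots) : g.lam (-c) u = - g.lam c u := by
  simp [lam]

lemma lam_pos_nonneg {c : Fin D.rank → ℝ} (hc : ∀ q, 0 ≤ c q) {u : Fin D.nroots}
    (hu : half D ≤ u.val) : 0 ≤ g.lam c u :=
  Finset.sum_nonneg fun q _ => mul_nonneg (hc q) (by exact_mod_cast g.co_nonneg u.2 hu q.2)

lemma wgt_add (c d : Fin D.rank → ℝ) (a : D.Idx) : g.wgt (c + d) a = g.wgt c a + g.wgt d a := by
  rcases a with j | u <;> simp [wgt, g.lam_add]

lemma wgt_smul (t : ℝ) (c : Fin D.rank → ℝ) (a : D.Idx) : g.wgt (t • c) a = t * g.wgt c a := by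
  rcases a with j | u <;> simp [wgt, g.lam_smul]

lemma wgt_neg (c : Fin D.rank → ℝ) (a : D.Idx) : g.wgt (-c) a = - g.wgt c a := by
  rcases a with j | u <;> simp [wgt, g.lam_neg]

/-- Entries of a root element sit at multiples of the root. -/
lemma x_entry_lam (c : Fin D.rank → ℝ) {r : ℕ} (hr : r < D.nroots) (t : F) (a b : D.Idx)
    (hne : D.x F r t a b ≠ 0) (hab : a ≠ b) :
    ∃ k : ℕ, 1 ≤ k ∧ g.wgt c a - g.wgt c b = (k : ℝ) * g.lam c ⟨r, hr⟩ := by
  by_contra hno
  push Not at hno
  have h0 : ∀ k ∈ [1, 2, 3], rmat D r k a b = 0 := by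
    intro k hk
    by_contra h
    refine hno k ?_ ?_
    · simp only [List.mem_cons, List.not_mem_nil, or_false] at hk
      omega
    have e : ∀ x : D.Idx, g.wgt c x = ∑ q : Fin D.rank, c q * (wCo D g.dat q x : ℝ) := by
      rintro (j | u) <;> simp [wgt, lam, wCo, co]
    rw [e a, e b, ← Finset.sum_sub_distrib, lam, Finset.mul_sum]
    refine Finset.sum_congr rfl fun q _ => ?_
    have h' := rmat_grade g.lie hr (StructChecks.graded_one g.lie g.struc hr q.2) hk a b h
    simp only at h'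
    rw [h', co]
    push_cast
    ring
  rw [g.x_eq_xr hr] at hne
  simp [xr, amat, Matrix.one_apply_ne hab, h0 1 (by simp), h0 2 (by simp), h0 3 (by simp)] at hne

lemma x_ge {c : Fin D.rank → ℝ} {r : ℕ} (hr : r < D.nroots) (h : 0 ≤ g.lam c ⟨r, hr⟩) (t : F) :
    Ge (g.wgt c) 0 (D.x F r t) := fun a b hne => by
  by_cases hab : a = b
  · rw [hab, sub_self]
  · obtain ⟨k, -, e⟩ := g.x_entry_lam c hr t a b hne hab
    rw [e]
    exact mul_nonneg (Nat.cast_nonneg k) h

/-- The elements of the group of non-negative weight. -/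
def geSub [Finite F] (c : Fin D.rank → ℝ) : Subgroup (GL D.Idx F) :=
  let M : Submonoid (GL D.Idx F) :=
    { carrier := {x | Ge (g.wgt c) 0 (x : Matrix D.Idx D.Idx F)}
      one_mem' := Ge.one _
      mul_mem' := fun {x y} hx hy => by
        have := Ge.mul hx hy
        rwa [add_zero] at this }
  { M with
    inv_mem' := fun {x} hx => by
      have hx' : x ∈ M := hx
      have : x⁻¹ = x ^ (orderOf x - 1) := by
        rw [inv_eq_iff_mul_eq_one, ← pow_succ',
          Nat.sub_add_cancel (orderOf_pos x), pow_orderOf_eq_one]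
      rw [this]
      exact pow_mem hx' _ }

lemma mem_geSub [Finite F] {c : Fin D.rank → ℝ} {x : GL D.Idx F} :
    x ∈ g.geSub c ↔ Ge (g.wgt c) 0 (x : Matrix D.Idx D.Idx F) := Iff.rfl

/-- The elements of strictly positive weight. -/
def posSub [Finite F] (c : Fin D.rank → ℝ) : Subgroup (GL D.Idx F) :=
  let M : Submonoid (GL D.Idx F) :=
    { carrier := {x | x ∈ g.geSub c ∧ ∀ a b, ((x : Matrix D.Idx D.Idx F) - 1) a b ≠ 0 →
        0 < g.wgt c a - g.wgt c b}
      one_mem' := ⟨one_mem _, fun a b h => by simp at h⟩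
      mul_mem' := fun {x y} hx hy => ⟨mul_mem hx.1 hy.1, fun a b h => by
        have e : ((x * y : GL D.Idx F) : Matrix D.Idx D.Idx F) - 1 =
            ((x : Matrix D.Idx D.Idx F) - 1) * y + ((y : Matrix D.Idx D.Idx F) - 1) := by
          rw [Units.val_mul, Matrix.sub_mul, Matrix.one_mul]; abel
        rw [e, Matrix.add_apply] at h
        by_cases hy0 : ((y : Matrix D.Idx D.Idx F) - 1) a b = 0
        · rw [hy0, add_zero, Matrix.mul_apply] at h
          obtain ⟨k, -, hk⟩ := Finset.exists_ne_zero_of_sum_ne_zero h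
          linarith [hx.2 a k (left_ne_zero_of_mul hk), hy.1 k b (right_ne_zero_of_mul hk)]
        · exact hy.2 a b hy0⟩ }
  { M with
    inv_mem' := fun {x} hx => by
      have hx' : x ∈ M := hx
      have : x⁻¹ = x ^ (orderOf x - 1) := by
        rw [inv_eq_iff_mul_eq_one, ← pow_succ',
          Nat.sub_add_cancel (orderOf_pos x), pow_orderOf_eq_one]
      rw [this]
      exact pow_mem hx' _ }

lemma mem_posSub [Finite F] {c : Fin D.rank → ℝ} {x : GL D.Idx F} :
    x ∈ g.posSub c ↔ x ∈ g.geSub c ∧ ∀ a b, ((x : Matrix D.Idx D.Idx F) - 1) a b ≠ 0 →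
      0 < g.wgt c a - g.wgt c b := Iff.rfl

lemma eq_one_of_pos_neg [Finite F] {c : Fin D.rank → ℝ} {x : GL D.Idx F} (h1 : x ∈ g.posSub c)
    (h2 : x ∈ g.geSub (-c)) : x = 1 := by
  refine Units.ext (Matrix.ext fun a b => ?_)
  by_contra h
  have h' : ((x : Matrix D.Idx D.Idx F) - 1) a b ≠ 0 := by
    rw [Matrix.sub_apply, sub_ne_zero]
    simpa using h
  have hp := (g.mem_posSub.1 h1).2 a b h'
  have hx : (x : Matrix D.Idx D.Idx F) a b ≠ 0 := by
    intro h0
    rcases eq_or_ne a b with rfl | hab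
    · simp at hp
    · exact h' (by rw [Matrix.sub_apply, h0, Matrix.one_apply_ne hab, sub_zero])
  have := (g.mem_geSub.1 h2) a b hx
  rw [g.wgt_neg, g.wgt_neg] at this
  linarith

lemma diagonal_le_geSub [Finite F] (c : Fin D.rank → ℝ) : D.diagonalSubgroup F ≤ g.geSub c :=
  fun x hx a b hne => by
    by_cases hab : a = b
    · rw [hab, sub_self]
    · exact absurd (g.diagonal_offdiag hx hab) hne

lemma borel_le_geSub [Finite F] {c : Fin D.rank → ℝ} (hc : ∀ q, 0 ≤ c q) :
    D.borelSubgroup F ≤ g.geSub c := by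
  refine sup_le ((Subgroup.closure_le _).2 ?_) (g.diagonal_le_geSub c)
  rintro x ⟨r, t, hr, hx⟩
  rw [g.eq_xG hx, SetLike.mem_coe, g.mem_geSub, g.coe_xG]
  exact g.x_ge hr.1 (g.lam_pos_nonneg hc ((g.isPosRoot_iff r).1 hr).1) t

lemma shape_diagonal {h : GL D.Idx F} (hh : h ∈ D.diagonalSubgroup F) :
    Shape 1 (h : Matrix D.Idx D.Idx F) := fun a b hne φ => by
  by_cases hab : a = b
  · rw [hab]; rfl
  · exact absurd (g.diagonal_offdiag hh hab) hne

lemma shape_nI (i : Fin D.rank) :
    Shape (g.rperm i) ((g.nI i : GL D.Idx F) : Matrix D.Idx D.Idx F) := by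
  intro a b hne φ
  have hcoe : ((g.nI i : GL D.Idx F) : Matrix D.Idx D.Idx F) =
      (nZ (D := D) i).map (Int.cast : ℤ → F) := by
    have := nR_map (D := D) (Int.castRingHom F) (D.simple i) 1
    rw [map_one] at this
    rw [nI, g.coe_nG]
    simp only [Units.val_one]
    rw [g.nMat_one (g.simple_lt i.2)]
    exact this.symm
  rw [hcoe, Matrix.map_apply] at hne
  have hz : nZ (D := D) i a b ≠ 0 := fun h => hne (by rw [h, Int.cast_zero])
  have key := fun f : ℕ → ℤ => StructChecks.nZ_relates g.lie g.struc i.2 f a b hz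
  have hval : ∀ u : Fin D.nroots, refl g.sd i u = (g.rperm i u).val := fun u => by
    rw [g.rperm_val, (StructChecks.refl_facts g.lie g.struc i.2 u.2).1]
  rcases a with j | u <;> rcases b with j' | v
  · rfl
  · exfalso
    have := key fun _ => 1
    simp at this
  · exfalso
    have := key fun _ => 1
    simp at this
  · have := key fun k => if k = v.val then 1 else 0
    simp only [Sum.elim_inr, if_true, hval] at this
    have hv : g.rperm i u = v := Fin.ext (by by_contra hc; simp [hc] at this)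
    show φ u = φ (g.rperm i v)
    rw [← hv, g.rperm_rperm]

lemma shape_wordN (l : List (Fin D.rank)) :
    Shape (g.wperm l) ((g.wordN l : GL D.Idx F) : Matrix D.Idx D.Idx F) ∧
    Shape (g.wperm l)⁻¹ (((g.wordN l)⁻¹ : GL D.Idx F) : Matrix D.Idx D.Idx F) := by
  induction l with
  | nil => simp only [g.wordN_nil, g.wperm_nil, inv_one, Units.val_one]; exact ⟨shape_one, shape_one⟩
  | cons i l ih =>
    rw [g.wordN_cons, g.wperm_cons, _root_.mul_inv_rev, _root_.mul_inv_rev, Units.val_mul,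
      Units.val_mul]
    refine ⟨(g.shape_nI i).mul ih.1, ih.2.mul ?_⟩
    rw [show (g.nI (F := F) i)⁻¹ = g.nI i * (g.nI i * g.nI i)⁻¹ by group, g.rperm_inv, Units.val_mul]
    have := (g.shape_nI (F := F) i).mul (g.shape_diagonal (inv_mem (g.nI_sq (F := F) i)))
    rwa [mul_one] at this

lemma shape_geSub [Finite F] {π : Equiv.Perm (Fin D.nroots)} {n : GL D.Idx F}
    (hn : Shape π (n : Matrix D.Idx D.Idx F)) {c : Fin D.rank → ℝ}
    (hc : ∀ u, g.lam c (π u) = g.lam c u) : n ∈ g.geSub c := fun a b hne => by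
  have e : g.wgt c a = g.wgt c b := by
    have := hn a b hne (g.lam c)
    rw [show g.lam c ∘ π = g.lam c from funext hc] at this
    exact this
  rw [e, sub_self]

/-- The weights moved by a word. -/
noncomputable def twist (l : List (Fin D.rank)) (c : Fin D.rank → ℝ) (q : Fin D.rank) : ℝ :=
  g.lam c (g.wperm l (g.sroot q))

lemma lam_twist (l : List (Fin D.rank)) (c : Fin D.rank → ℝ) (u : Fin D.nroots) :
    g.lam (g.twist l c) u = g.lam c (g.wperm l u) := by
  simp only [lam, twist, Finset.sum_mul]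
  rw [Finset.sum_comm]
  refine Finset.sum_congr rfl fun j _ => ?_
  rw [g.co_wperm l u j.2, Int.cast_sum, Finset.mul_sum]
  refine Finset.sum_congr rfl fun q _ => ?_
  push_cast
  ring

/-- Conjugating by a monomial element moves the weights. -/
lemma gap_shape {π : Equiv.Perm (Fin D.nroots)} {n m : GL D.Idx F}
    (hn : Shape π (n : Matrix D.Idx D.Idx F))
    (hn' : Shape π⁻¹ ((n⁻¹ : GL D.Idx F) : Matrix D.Idx D.Idx F)) {c d : Fin D.rank → ℝ}
    (hd : ∀ u, g.lam d u = g.lam c (π u)) {s : ℝ}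
    (hm : Gap (g.wgt c) s (m : Matrix D.Idx D.Idx F)) :
    Gap (g.wgt d) s ((n⁻¹ * m * n : GL D.Idx F) : Matrix D.Idx D.Idx F) := by
  intro a b hne
  have e : ((n⁻¹ * m * n : GL D.Idx F) : Matrix D.Idx D.Idx F) - 1 =
      ((n⁻¹ : GL D.Idx F) : Matrix D.Idx D.Idx F) * ((m : Matrix D.Idx D.Idx F) - 1) * n := by
    rw [Matrix.mul_sub, Matrix.sub_mul, Matrix.mul_one, ← Units.val_mul, ← Units.val_mul,
      ← Units.val_mul, inv_mul_cancel, Units.val_one]
  rw [e, Matrix.mul_apply] at hne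
  obtain ⟨b', -, hb⟩ := Finset.exists_ne_zero_of_sum_ne_zero hne
  obtain ⟨a', -, ha⟩ : ∃ a' ∈ Finset.univ, ((n⁻¹ : GL D.Idx F) : Matrix D.Idx D.Idx F) a a' *
      ((m : Matrix D.Idx D.Idx F) - 1) a' b' ≠ 0 :=
    Finset.exists_ne_zero_of_sum_ne_zero (by
      have := left_ne_zero_of_mul hb
      rwa [Matrix.mul_apply] at this)
  have hdc : g.lam d = g.lam c ∘ π := funext hd
  have h1 : g.wgt d a = g.wgt c a' := by
    have := hn' a a' (left_ne_zero_of_mul ha) (g.lam d)
    rwa [show g.lam d ∘ (π⁻¹ : Equiv.Perm (Fin D.nroots)) = g.lam c from funext fun u => by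
      simp [hd]] at this
  have h2 : g.wgt c b' = g.wgt d b := by
    have := hn b' b (right_ne_zero_of_mul hb) (g.lam c)
    rwa [← hdc] at this
  rw [h1, ← h2]
  exact hm a' b' (right_ne_zero_of_mul ha)

/-- The squared norm of a weight. -/
noncomputable def nrm (c : Fin D.rank → ℝ) : ℝ := ∑ u : Fin D.nroots, g.lam c u ^ 2

lemma nrm_twist (l : List (Fin D.rank)) (c : Fin D.rank → ℝ) : g.nrm (g.twist l c) = g.nrm c := by
  simp only [nrm, g.lam_twist]
  exact Equiv.sum_comp (g.wperm l) fun u => g.lam c u ^ 2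

/-- Some word moves a weight into the dominant chamber. -/
lemma exists_dominant (c : Fin D.rank → ℝ) : ∃ l, ∀ q, 0 ≤ g.twist l c q := by
  classical
  let pos : Finset (Fin D.nroots) := Finset.univ.filter fun u => half D ≤ u.val
  let S : Equiv.Perm (Fin D.nroots) → ℝ := fun w => ∑ u ∈ pos, g.lam c (w u)
  obtain ⟨w, hw, hmax⟩ := Finset.exists_max_image (Finset.univ.filter fun w => w ∈ g.weyl) S
    ⟨1, by simp [one_mem]⟩
  simp only [Finset.mem_filter, Finset.mem_univ, true_and] at hw hmax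
  obtain ⟨l, rfl⟩ := g.exists_wperm hw
  refine ⟨l, fun i => ?_⟩
  by_contra hneg
  have h := hmax (g.wperm l * g.rperm i) (mul_mem (g.wperm_mem l) (g.wS i).2)
  set f : Fin D.nroots → ℝ := g.lam (g.twist l c) with hf
  have hS : S (g.wperm l) = ∑ u ∈ pos, f u :=
    Finset.sum_congr rfl fun u _ => (g.lam_twist l c u).symm
  have hS' : S (g.wperm l * g.rperm i) = ∑ u ∈ pos, f (g.rperm i u) :=
    Finset.sum_congr rfl fun u _ => by rw [Equiv.Perm.mul_apply, hf, g.lam_twist]
  have hi : g.sroot i ∈ pos := by simp [pos, g.sroot_pos i]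
  rw [hS, hS', ← Finset.add_sum_erase _ _ hi, ← Finset.add_sum_erase _ _ hi, g.rperm_sroot] at h
  have hperm : ∑ u ∈ pos.erase (g.sroot i), f (g.rperm i u) = ∑ u ∈ pos.erase (g.sroot i), f u := by
    refine Finset.sum_nbij' (g.rperm i) (g.rperm i) ?_ ?_ (fun u _ => g.rperm_rperm i u)
      (fun u _ => g.rperm_rperm i u) (fun u _ => rfl)
    all_goals
      intro u hu
      simp only [Finset.mem_coe, Finset.mem_erase, pos, Finset.mem_filter, Finset.mem_univ,
        true_and] at hu ⊢
      refine ⟨fun he => ?_, g.rperm_pos i hu.2 hu.1⟩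
      have := congrArg (g.rperm i) he
      rw [g.rperm_rperm, g.rperm_sroot] at this
      have h2 := g.nroot_sroot_neg i
      rw [← this] at h2
      omega
  have hsi : f (g.sroot i) = g.twist l c i := g.lam_sroot _ i
  have hni : f (g.nroot (g.sroot i)) = - g.twist l c i := by
    rw [← hsi, hf, lam, lam, ← Finset.sum_neg_distrib]
    exact Finset.sum_congr rfl fun q _ => by
      rw [show (g.nroot (g.sroot i)).val = D.neg (g.sroot i).val from rfl,
        g.co_neg (g.sroot i).2 q.2, Int.cast_neg, mul_neg]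
  rw [hperm, hsi, hni] at h
  push Not at hneg
  linarith

end Good

end CfsgLib.Chev
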