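import Cfsg.Agent.Lib.Chev.Parabolic
import Cfsg.Agent.Lib.Chev.Good
import Cfsg.Agent.Lib.Chev.CommGood

/-!
Coroot supports and root supports agree for G2, B2, D4, F4, E6, E7, E8.
-/

set_option autoImplicit false
set_option maxRecDepth 100000

namespace CfsgLib.Chev

open Cfsg.Lie

theorem suppEqG2 : SuppEq chevG2 :=
  suppEq_of_check checksG2 structChecksG2 (by decide +kernel)

theorem suppEqB2 : SuppEq chevB2 :=
  suppEq_of_check checksB2 structChecksB2 (by decide +kernel)

theorem suppEqD4 : SuppEq chevD4 :=
  suppEq_of_check checksD4 structChecksD4 (by decide +kernel)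

theorem suppEqF4 : SuppEq chevF4 :=
  suppEq_of_check checksF4 structChecksF4 (by decide +kernel)

theorem suppEqE6 : SuppEq chevE6 :=
  suppEq_of_check checksE6 structChecksE6 (by decide +kernel)

theorem suppEqE7 : SuppEq chevE7 :=
  suppEq_of_check checksE7 structChecksE7 (by decide +kernel)

theorem suppEqE8 : SuppEq chevE8 :=
  suppEq_of_check checksE8 structChecksE8 (by decide +kernel)

theorem suppEq_of_mem {D : ChevalleyDatum}
    (hD : D ∈ [chevG2, chevB2, chevD4, chevF4, chevE6, chevE7, chevE8]) : SuppEq D := by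
  simp only [List.mem_cons, List.not_mem_nil, or_false] at hD
  rcases hD with rfl | rfl | rfl | rfl | rfl | rfl | rfl
  exacts [suppEqG2, suppEqB2, suppEqD4, suppEqF4, suppEqE6, suppEqE7, suppEqE8]

end CfsgLib.Chev
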