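import Mathlib
import Cfsg.Agent.Lib.Chev.BNChev
import Cfsg.Agent.Lib.Chev.WeylJ

/-!
Standard parabolic subgroups and their Levi decomposition.
-/

set_option autoImplicit false

namespace CfsgLib.Chev

open Cfsg.Lie Matrix

variable {D : ChevalleyDatum} {F : Type*} [Field F]

/-- Roots and coroots have the same supports. -/
def SuppEq (D : ChevalleyDatum) : Prop :=
  ∀ g : Good D, ∀ r < D.nroots, ∀ i < D.rank, corootCo D r i = 0 ↔ g.co r i = 0

/-- The Boolean form of `SuppEq`. -/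
noncomputable def suppEqOK (D : ChevalleyDatum) (dat : LieData) : Bool :=
  allR (fun r => allR (fun i => Int.beq' (fcoroot D r i) 0 == Int.beq' (rootCo dat r i) 0)
    (upto D.rank)) (upto D.nroots)

lemma suppEq_of_check {dat : LieData} {sd : StructData} (hl : LieChecks D dat)
    (hs : StructChecks D dat sd) (h : suppEqOK D dat = true) : SuppEq D := by
  intro g r hr i hi
  have := allR_upto (allR_upto h hr) hi
  rw [beq_iff_eq, Bool.eq_iff_iff, Int.beq'_eq, Int.beq'_eq] at this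
  rw [corootCo, coroot_eq, ← g.co_eq hl hs hr hi]
  exact this

namespace Good

variable (g : Good D)
include g

lemma inRootSub_iff (hse : SuppEq D) (J : Set ℕ) (r : ℕ) :
    D.InRootSub J r ↔ ∃ h : r < D.nroots, g.SuppIn J ⟨r, h⟩ :=
  ⟨fun ⟨h, h'⟩ => ⟨h, fun q hq hqJ => (hse g r h q hq).1 (h' q hq hqJ)⟩,
    fun ⟨h, h'⟩ => ⟨h, fun q hq hqJ => (hse g r h q hq).2 (h' q hq hqJ)⟩⟩

lemma exists_longest_J (J : Set ℕ) :
    ∃ l : List (Fin D.rank), (∀ i ∈ l, (i : ℕ) ∈ J) ∧
      ∀ a : Fin D.nroots, half D ≤ a.val → g.SuppIn J a → ((g.wperm l)⁻¹ a).val < half D := by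
  classical
  have hb : ∀ w : Equiv.Perm (Fin D.nroots), ninv D w ≤ D.nroots := fun w =>
    (Finset.card_le_univ _).trans_eq (Fintype.card_fin _)
  let P : ℕ → Prop := fun n =>
    ∃ l : List (Fin D.rank), (∀ i ∈ l, (i : ℕ) ∈ J) ∧ ninv D (g.wperm l) = n
  have hP0 : P 0 := ⟨[], by simp, by rw [wperm_nil, g.ninv_one]⟩
  obtain ⟨l, hlJ, hl⟩ := Nat.findGreatest_spec (P := P) (Nat.zero_le D.nroots) hP0
  have hmax : ∀ m : List (Fin D.rank), (∀ i ∈ m, (i : ℕ) ∈ J) →
      ninv D (g.wperm m) ≤ ninv D (g.wperm l) := fun m hm => by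
    rw [hl]; exact Nat.le_findGreatest (hb _) ⟨m, hm, rfl⟩
  refine ⟨l, hlJ, fun a ha hs => ?_⟩
  have hsimp : ∀ q : Fin D.rank, (q : ℕ) ∈ J → ((g.wperm l)⁻¹ (g.sroot q)).val < half D := by
    intro q hqJ
    by_contra hc
    have h1 := (g.ninv_rperm_mul q _ (g.wperm_nroot l)).2 (Nat.not_lt.1 hc)
    have h2 := hmax (q :: l) (fun i hi => by
      rcases List.mem_cons.1 hi with rfl | hi'
      · exact hqJ
      · exact hlJ i hi')
    rw [wperm_cons] at h2
    omega
  have hwt : g.wt ((g.wperm l)⁻¹ a) ≤ 0 := by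
    rw [← g.wperm_reverse, g.wt_wperm]
    refine Finset.sum_nonpos fun q _ => ?_
    by_cases hqJ : (q : ℕ) ∈ J
    · have h1 := hsimp q hqJ
      rw [← g.wperm_reverse] at h1
      have h2 : ¬ 0 < g.wt (g.wperm l.reverse (g.sroot q)) := by
        rw [g.wt_pos_iff (Fin.isLt _)]; omega
      exact mul_nonpos_of_nonneg_of_nonpos (g.co_nonneg a.2 ha q.2) (not_lt.1 h2)
    · rw [hs q q.2 hqJ, zero_mul]
  by_contra hc
  have := g.wt_pos (Nat.not_lt.1 hc) ((g.wperm l)⁻¹ a).2
  omega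

lemma nI_mem_parabolic {J : Set ℕ} {i : Fin D.rank} (hi : (i : ℕ) ∈ J) :
    g.nI (F := F) i ∈ D.parabolicSubgroup F J :=
  Subgroup.mem_sup_right (Subgroup.subset_closure ⟨i, hi, i.2, by rw [nI, g.coe_nG]; simp⟩)

lemma xG_mem_parabolic (hse : SuppEq D) {J : Set ℕ} {r : ℕ}
    (hr : D.IsPosRoot r ∨ D.InRootSub J r) (t : F) : g.xG r t ∈ D.parabolicSubgroup F J := by
  rcases hr with hr | hr
  · exact Subgroup.mem_sup_left (Subgroup.mem_sup_left (g.xG_mem_posUnipotent hr t))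
  obtain ⟨hlt, hs⟩ := (g.inRootSub_iff hse J r).1 hr
  by_cases hp : half D ≤ r
  · exact Subgroup.mem_sup_left
      (Subgroup.mem_sup_left (g.xG_mem_posUnipotent ((g.isPosRoot_iff r).2 ⟨hp, hlt⟩) t))
  obtain ⟨l, hlJ, hl⟩ := g.exists_longest_J J
  set a : Fin D.nroots := ⟨r, hlt⟩
  have hneg := hl (g.nroot a) ((g.nroot_pos_iff a).2 (Nat.not_le.1 hp)) (g.suppIn_nroot hs)
  have hpos : half D ≤ ((g.wperm l)⁻¹ a).val := by
    have e : (g.wperm l)⁻¹ (g.nroot a) = g.nroot ((g.wperm l)⁻¹ a) := by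
      rw [← g.wperm_reverse, g.wperm_nroot]
    rw [e] at hneg
    by_contra hc
    have := (g.nroot_pos_iff ((g.wperm l)⁻¹ a)).2 (by omega)
    omega
  obtain ⟨c, hc⟩ := g.acts_wordN (F := F) l ((g.wperm l)⁻¹ a)
  have hN : g.wordN (F := F) l ∈ D.parabolicSubgroup F J := by
    clear hl hc hneg hpos
    induction l with
    | nil => exact one_mem _
    | cons i l ih =>
      rw [wordN_cons]
      exact mul_mem (g.nI_mem_parabolic (hlJ i (by simp)))
        (ih fun k hk => hlJ k (List.mem_cons_of_mem _ hk))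
  have h1 := hc (((c⁻¹ : Fˣ) : F) * t)
  rw [show g.wperm l ((g.wperm l)⁻¹ a) = a from (g.wperm l).apply_symm_apply a, ← mul_assoc,
    ← Units.val_mul, mul_inv_cancel, Units.val_one, one_mul] at h1
  rw [show g.xG r t = g.xG a t from rfl, ← h1]
  exact mul_mem (mul_mem hN (Subgroup.mem_sup_left (Subgroup.mem_sup_left
    (g.xG_mem_posUnipotent ((g.isPosRoot_iff _).2 ⟨hpos, Fin.isLt _⟩) _)))) (inv_mem hN)

theorem parabolic_eq (hse : SuppEq D) (J : Set ℕ) :
    D.parabolicSubgroup F J = D.diagonalSubgroup F ⊔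
      Subgroup.closure {x : GL D.Idx F | ∃ (r : ℕ) (t : F), (D.IsPosRoot r ∨ D.InRootSub J r) ∧
        (x : Matrix D.Idx D.Idx F) = D.x F r t} := by
  have hin : ∀ (r : ℕ) (t : F), (D.IsPosRoot r ∨ D.InRootSub J r) →
      g.xG r t ∈ D.diagonalSubgroup F ⊔ Subgroup.closure {x : GL D.Idx F |
        ∃ (r : ℕ) (t : F), (D.IsPosRoot r ∨ D.InRootSub J r) ∧
          (x : Matrix D.Idx D.Idx F) = D.x F r t} := fun r t h =>
    Subgroup.mem_sup_right (Subgroup.subset_closure ⟨r, t, h, rfl⟩)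
  refine le_antisymm (sup_le (sup_le ((Subgroup.closure_le _).2 ?_) le_sup_left)
    ((Subgroup.closure_le _).2 ?_)) (sup_le (le_sup_right.trans le_sup_left)
    ((Subgroup.closure_le _).2 ?_))
  · rintro x ⟨r, t, hr, hx⟩
    rw [g.eq_xG hx]; exact hin r t (Or.inl hr)
  · rintro x ⟨j, hjJ, hj, hx⟩
    rw [show x = g.nG (D.simple j) 1 from Units.ext (by rw [hx, g.coe_nG]; simp), SetLike.mem_coe, nG]
    have hp : D.IsPosRoot (D.simple j) := (g.isPosRoot_iff _).2 ⟨g.simple_pos hj, g.simple_lt hj⟩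
    have hn : D.InRootSub J (D.neg (D.simple j)) :=
      (g.inRootSub_iff hse J _).2 ⟨g.neg_lt (g.simple_lt hj),
        g.suppIn_nroot (a := g.sroot ⟨j, hj⟩) (g.suppIn_sroot ⟨j, hj⟩ hjJ)⟩
    exact mul_mem (mul_mem (hin _ _ (Or.inl hp)) (hin _ _ (Or.inr hn))) (hin _ _ (Or.inl hp))
  · rintro x ⟨r, t, hr, hx⟩
    rw [g.eq_xG hx]; exact g.xG_mem_parabolic hse hr t

lemma unipotentRadical_eq (hse : SuppEq D) (J : Set ℕ) :
    D.unipotentRadical F J =
      rootGen D F {r | ∃ h : r < D.nroots, half D ≤ r ∧ ¬ g.SuppIn J ⟨r, h⟩} := by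
  refine le_antisymm ((Subgroup.closure_le _).2 ?_) (g.rootGen_le fun r hS hr t => ?_)
  · rintro x ⟨r, t, hr, hn, hx⟩
    rw [g.eq_xG hx]
    refine g.mem_rootGen hr.1 (show ∃ h : r < D.nroots, _ from
      ⟨hr.1, ((g.isPosRoot_iff r).1 hr).1, fun h => hn ?_⟩) t
    exact (g.inRootSub_iff hse J r).2 ⟨hr.1, h⟩
  · obtain ⟨h, hp, hn⟩ := hS
    exact Subgroup.subset_closure ⟨r, t, (g.isPosRoot_iff r).2 ⟨hp, h⟩,
      fun h' => hn ((g.inRootSub_iff hse J r).1 h').2, rfl⟩

lemma radical_conj (hc : HasComm D) {J : Set ℕ} {r s : ℕ} (hr : r < D.nroots) (hs : s < D.nroots)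
    (hrp : half D ≤ r) (hrn : ¬ g.SuppIn J ⟨r, hr⟩)
    (hsJ : half D ≤ s ∨ g.SuppIn J ⟨s, hs⟩) (t u : F) :
    g.xG s u * g.xG r t * (g.xG s u)⁻¹ ∈
      rootGen D F {r | ∃ h : r < D.nroots, half D ≤ r ∧ ¬ g.SuppIn J ⟨r, h⟩} := by
  have hrS : r ∈ {r | ∃ h : r < D.nroots, half D ≤ r ∧ ¬ g.SuppIn J ⟨r, h⟩} := ⟨hr, hrp, hrn⟩
  by_cases hrs : r = s
  · subst hrs
    rw [show g.xG r u * g.xG r t * (g.xG r u)⁻¹ = g.xG r t by
      rw [g.xG_inv, g.xG_add, g.xG_add, show u + t + -u = t by ring]]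
    exact g.mem_rootGen hr hrS t
  have hneg : r ≠ D.neg s := by
    intro hrs'
    rcases hsJ with h | h
    · have := (g.neg_neg_iff hs).2 h; omega
    · apply hrn
      have := g.suppIn_nroot h
      simpa [nroot, hrs'] using this
  refine g.conj_mem hc hr hs hrS hrs hneg (fun k a b hk _ hb hco => ?_) t u
  simp only [SuppIn, not_forall] at hrn
  obtain ⟨q, hq, hqJ, hne⟩ := hrn
  have h1 : 0 < g.co r q := lt_of_le_of_ne (g.co_nonneg hr hrp hq) (Ne.symm hne)
  have h2 : 0 ≤ g.co s q := by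
    rcases hsJ with h | h
    · exact g.co_nonneg hs h hq
    · exact (h q hq hqJ).ge
  have h3 : 0 < g.co k q := by
    rw [hco q hq]
    exact add_pos_of_nonneg_of_pos (mul_nonneg (Int.natCast_nonneg a) h2)
      (mul_pos (by exact_mod_cast hb) h1)
  exact ⟨hk, g.co_pos_imp_pos hk hq h3, fun hsupp => h3.ne' (hsupp q hq hqJ)⟩

theorem parabolic_le_normalizer_radical (hc : HasComm D) (hse : SuppEq D) (J : Set ℕ) :
    D.parabolicSubgroup F J ≤
      Subgroup.normalizer (D.unipotentRadical F J : Set (GL D.Idx F)) := by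
  rw [g.parabolic_eq hse, g.unipotentRadical_eq hse]
  refine sup_le (g.diagonal_le_normalizer_rootGen _) ((Subgroup.closure_le _).2 ?_)
  rintro x ⟨s, u, hs, hx⟩
  rw [g.eq_xG hx, SetLike.mem_coe]
  have hlt : s < D.nroots := hs.elim (fun h => h.1) fun h => h.1
  refine g.le_normalizer_of_conj (fun r hr hrlt t v => ?_) (g.xG_mem_rootSubgroup s u)
  obtain ⟨h, hp, hn⟩ := hr
  refine g.radical_conj hc h hlt hp hn ?_ t v
  rcases hs with h' | h'
  · exact Or.inl ((g.isPosRoot_iff s).1 h').1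
  · exact Or.inr ((g.inRootSub_iff hse J s).1 h').2

theorem radical_sup_levi (hse : SuppEq D) (J : Set ℕ) :
    D.unipotentRadical F J ⊔ D.leviSubgroup F J = D.parabolicSubgroup F J := by
  rw [g.parabolic_eq hse]
  refine le_antisymm (sup_le ((Subgroup.closure_le _).2 ?_) (sup_le le_sup_left
    ((Subgroup.closure_le _).2 ?_))) (sup_le (le_sup_left.trans le_sup_right)
    ((Subgroup.closure_le _).2 ?_))
  · rintro x ⟨r, t, hr, -, hx⟩
    exact Subgroup.mem_sup_right (Subgroup.subset_closure ⟨r, t, Or.inl hr, hx⟩)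
  · rintro x ⟨r, t, hr, hx⟩
    exact Subgroup.mem_sup_right (Subgroup.subset_closure ⟨r, t, Or.inr hr, hx⟩)
  · rintro x ⟨r, t, hr, hx⟩
    by_cases hin : D.InRootSub J r
    · exact Subgroup.mem_sup_right (Subgroup.mem_sup_right (Subgroup.subset_closure ⟨r, t, hin, hx⟩))
    · exact Subgroup.mem_sup_left
        (Subgroup.subset_closure ⟨r, t, hr.resolve_right hin, hin, hx⟩)

/-- The sum of the coordinates outside `J`. -/
noncomputable def outWt (J : Set ℕ) (u : ℕ) : ℤ :=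
  open Classical in ∑ q ∈ Finset.range D.rank, if q ∈ J then 0 else g.co u q

/-- The weight by coordinates outside `J`. -/
noncomputable def outB (J : Set ℕ) : D.Idx → ℤ :=
  Sum.elim (0 : Fin D.rank → ℤ) fun u => g.outWt J u

lemma outB_graded (J : Set ℕ) {r : ℕ} (hr : r < D.nroots) :
    Relates (g.outB J) (fun k => g.outB J k + g.outWt J r) (rmat D r 1) := by
  classical
  intro a b hne
  have e : ∀ x : D.Idx, g.outB J x =
      ∑ q ∈ Finset.range D.rank, if q ∈ J then 0 else wCo D g.dat q x := by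
    rintro (c | v)
    · simp [outB, wCo]
    · simp [outB, outWt, wCo, co]
  show g.outB J a = g.outB J b + g.outWt J r
  rw [e a, e b, outWt, ← Finset.sum_add_distrib]
  refine Finset.sum_congr rfl fun q hq => ?_
  have := StructChecks.graded_one g.lie g.struc hr (Finset.mem_range.1 hq) a b hne
  simp only at this
  by_cases hqJ : q ∈ J
  · simp [hqJ]
  · simp only [if_neg hqJ]; rw [this, co]

lemma x_entry_out (J : Set ℕ) {r : ℕ} (hr : r < D.nroots) (t : F) (a b : D.Idx)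
    (hne : D.x F r t a b ≠ 0) (hab : a ≠ b) :
    ∃ k : ℕ, 1 ≤ k ∧ g.outB J a - g.outB J b = (k : ℤ) * g.outWt J r := by
  by_contra hno
  push Not at hno
  have h0 : ∀ k ∈ [1, 2, 3], rmat D r k a b = 0 := by
    intro k hk
    by_contra h
    have h' := rmat_grade g.lie hr (g.outB_graded J hr) hk a b h
    simp only at h'
    refine hno k ?_ (by omega)
    simp only [List.mem_cons, List.not_mem_nil, or_false] at hk
    omega
  rw [g.x_eq_xr hr] at hne
  simp [xr, amat, Matrix.one_apply_ne hab, h0 1 (by simp), h0 2 (by simp), h0 3 (by simp)] at hne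

lemma levi_block (hse : SuppEq D) (J : Set ℕ) {x : GL D.Idx F}
    (hx : x ∈ D.leviSubgroup F J) :
    ∀ a b : D.Idx, (x : Matrix D.Idx D.Idx F) a b ≠ 0 → g.outB J a = g.outB J b := by
  rw [ChevalleyDatum.leviSubgroup, ← Subgroup.closure_eq (D.diagonalSubgroup F),
    ← Subgroup.closure_union] at hx
  have hd : ∀ h ∈ D.diagonalSubgroup F, ∀ a b : D.Idx,
      (h : Matrix D.Idx D.Idx F) a b ≠ 0 → g.outB J a = g.outB J b := by
    intro h hh a b hne
    by_cases hab : a = b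
    · rw [hab]
    · exact absurd (g.diagonal_offdiag hh hab) hne
  have gen : ∀ (r : ℕ) (t : F), D.InRootSub J r → ∀ a b : D.Idx,
      D.x F r t a b ≠ 0 → g.outB J a = g.outB J b := by
    intro r t hr a b hne
    by_cases hab : a = b
    · rw [hab]
    obtain ⟨h, hs⟩ := (g.inRootSub_iff hse J r).1 hr
    obtain ⟨k, -, e⟩ := g.x_entry_out J h t a b hne hab
    have h0 : g.outWt J r = 0 := Finset.sum_eq_zero fun q hq => by
      by_cases hqJ : q ∈ J
      · simp [hqJ]
      · simp only [if_neg hqJ]; exact hs q (Finset.mem_range.1 hq) hqJ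
    rw [h0, mul_zero] at e
    omega
  induction hx using Subgroup.closure_induction'' with
  | mem y hy =>
    rcases hy with hy | ⟨r, t, hr, hy⟩
    · exact hd y hy
    · rw [hy]; exact gen r t hr
  | inv_mem y hy =>
    rcases hy with hy | ⟨r, t, hr, hy⟩
    · exact hd _ (inv_mem hy)
    · rw [g.eq_xG hy, g.xG_inv, coe_xG]; exact gen r (-t) hr
  | one => exact hd 1 (one_mem _)
  | mul y z _ _ py pz =>
    intro a b hne
    rw [Units.val_mul, Matrix.mul_apply] at hne
    obtain ⟨k, -, hk⟩ := Finset.exists_ne_zero_of_sum_ne_zero hne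
    exact (py a k (left_ne_zero_of_mul hk)).trans (pz k b (right_ne_zero_of_mul hk))

lemma radical_above (hse : SuppEq D) (J : Set ℕ) {x : GL D.Idx F}
    (hx : x ∈ D.unipotentRadical F J) : Above (g.outB J) 0 (x : Matrix D.Idx D.Idx F) := by
  rw [g.unipotentRadical_eq hse] at hx
  have gen : ∀ (r : ℕ) (h : r < D.nroots), half D ≤ r → ¬ g.SuppIn J ⟨r, h⟩ → ∀ t : F,
      Above (g.outB J) 0 (D.x F r t) := by
    intro r h hp hn t a b
    refine ⟨fun hab => (g.x_entry h t a b).1 hab (g.wt_pos hp h).ne', fun hab hne => ?_⟩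
    obtain ⟨k, hk, e⟩ := g.x_entry_out J h t a b hne hab
    have hpos : 0 < g.outWt J r := by
      simp only [SuppIn, not_forall] at hn
      obtain ⟨q, hq, hqJ, hne'⟩ := hn
      refine Finset.sum_pos' (fun i hi => ?_) ⟨q, Finset.mem_range.2 hq, ?_⟩
      · by_cases hiJ : i ∈ J
        · simp [hiJ]
        · simp only [if_neg hiJ]; exact g.co_nonneg h hp (Finset.mem_range.1 hi)
      · simp only [if_neg hqJ]
        exact lt_of_le_of_ne (g.co_nonneg h hp hq) (Ne.symm hne')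
    rw [e]
    exact mul_pos (by exact_mod_cast hk) hpos
  induction hx using Subgroup.closure_induction'' with
  | mem y hy =>
    obtain ⟨r, t, ⟨h, hp, hn⟩, -, hy⟩ := hy
    rw [hy]; exact gen r h hp hn t
  | inv_mem y hy =>
    obtain ⟨r, t, ⟨h, hp, hn⟩, -, hy⟩ := hy
    rw [g.eq_xG hy, g.xG_inv, coe_xG]; exact gen r h hp hn (-t)
  | one => exact above_one _ _
  | mul y z _ _ py pz => rw [Units.val_mul]; exact py.mul le_rfl pz

theorem radical_inf_levi (hse : SuppEq D) (J : Set ℕ) :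
    D.unipotentRadical F J ⊓ D.leviSubgroup F J = ⊥ := by
  refine le_bot_iff.1 fun x hx => Subgroup.mem_bot.2 ?_
  obtain ⟨h1, h2⟩ := Subgroup.mem_inf.1 hx
  have hA := g.radical_above hse J h1
  refine Units.ext (Matrix.ext fun a b => ?_)
  by_cases hab : a = b
  · rw [(hA a b).1 hab, hab, Units.val_one, Matrix.one_apply_eq]
  · rw [Units.val_one, Matrix.one_apply_ne hab]
    by_contra hne
    have := (hA a b).2 hab hne
    have := g.levi_block hse J h2 a b hne
    omega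

theorem normalizer_radical (hc : HasComm D) (hse : SuppEq D) (J : Set ℕ) :
    Subgroup.normalizer (D.unipotentRadical F J : Set (GL D.Idx F)) ⊓ D.group F =
      D.parabolicSubgroup F J := by
  have hPG : D.parabolicSubgroup F J ≤ D.group F := sup_le g.borel_le_group
    ((Subgroup.closure_le _).2 fun x ⟨j, _, hj, hx⟩ => by
      rw [show x = g.nI ⟨j, hj⟩ from Units.ext (by rw [hx, nI, g.coe_nG]; simp)]
      exact g.monomial_le_group (g.nI_mem _))
  refine le_antisymm (fun x hx => ?_) (le_inf (g.parabolic_le_normalizer_radical hc hse J) hPG)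
  obtain ⟨hx1, hx2⟩ := Subgroup.mem_inf.1 hx
  set M := Subgroup.normalizer (D.unipotentRadical F J : Set (GL D.Idx F))
  let P := g.bnPair (F := F) hc
  have hB : P.B ≤ M.subgroupOf (D.group F) := fun y hy =>
    g.parabolic_le_normalizer_radical hc hse J (Subgroup.mem_sup_left hy)
  have hMeq := BN.eq_parabolic P hB
  have hmem : (⟨x, hx2⟩ : ↥(D.group F)) ∈ P.parabolic (P.S ∩ M.subgroupOf (D.group F)) :=
    hMeq ▸ hx1
  have hle : P.parabolic (P.S ∩ M.subgroupOf (D.group F)) ≤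
      (D.parabolicSubgroup F J).subgroupOf (D.group F) := by
    refine sup_le (fun y hy => Subgroup.mem_sup_left hy) ((Subgroup.closure_le _).2 ?_)
    rintro s ⟨hs, hsM⟩
    obtain ⟨i, hi⟩ := g.mem_bnS.1 hs
    have hsM' : g.nI (F := F) i ∈ M := hi ▸ hsM
    show (s : GL D.Idx F) ∈ D.parabolicSubgroup F J
    rw [hi]
    by_cases hiJ : (i : ℕ) ∈ J
    · exact g.nI_mem_parabolic hiJ
    exfalso
    have hp := g.simple_lt i.2
    have hin : g.xG (D.simple i) (1 : F) ∈ D.unipotentRadical F J := by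
      refine Subgroup.subset_closure ⟨_, 1, (g.isPosRoot_iff _).2 ⟨g.simple_pos i.2, hp⟩, ?_, rfl⟩
      intro hsub
      have := ((g.inRootSub_iff hse J _).1 hsub).2 i i.2 hiJ
      rw [show (⟨D.simple i, _⟩ : Fin D.nroots).val = D.simple i from rfl, g.co_simple i.2 i.2,
        if_pos rfl] at this
      exact one_ne_zero this
    have h2 := (Subgroup.mem_normalizer_iff.1 hsM' _).1 hin
    have h3 := g.nG_conj_xG (F := F) i.2 hp 1
    rw [g.refl_simple] at h3
    rw [show g.nI (F := F) i = g.nG (D.simple i) 1 from rfl, h3] at h2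
    have hU : D.unipotentRadical F J ≤ D.posUnipotent F :=
      Subgroup.closure_mono fun y ⟨r, t, hr, _, hy⟩ => ⟨r, t, hr, hy⟩
    have h4 : g.xG (D.neg (D.simple i)) ((g.eta i (D.simple i) : F) * 1) ∈
        D.borelSubgroup F ⊓ D.negUnipotent F :=
      Subgroup.mem_inf.2 ⟨Subgroup.mem_sup_left (hU h2),
        g.xG_mem_negUnipotent ((g.isNegRoot_iff _).2 (g.nroot_sroot_neg i)) _⟩
    rw [g.borel_inf_neg, Subgroup.mem_bot] at h4
    have h5 := (g.x_eq_one_iff (g.neg_lt hp) _).1 (congrArg Units.val h4)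
    rcases g.eta_sign i.2 hp with he | he <;> simp [he] at h5
  exact hle hmem

/-- `B ∪ B n B` is a subgroup. -/
theorem exists_minimal_parabolic (hc : HasComm D) (i : Fin D.rank) :
    ∃ P : Subgroup (GL D.Idx F), (P : Set (GL D.Idx F)) =
      (D.borelSubgroup F : Set (GL D.Idx F)) ∪
        DoubleCoset.doubleCoset (g.nI i) (D.borelSubgroup F : Set (GL D.Idx F)) (D.borelSubgroup F) := by
  set B := D.borelSubgroup F
  set s := g.nI (F := F) i
  set C := DoubleCoset.doubleCoset s (B : Set (GL D.Idx F)) B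
  have hsq : s * s ∈ B := Subgroup.mem_sup_right (g.nI_sq i)
  have key : ∀ b ∈ B, s * b * s ∈ (B : Set (GL D.Idx F)) ∪ C := by
    intro b hb
    rcases g.nI_mul_mul hc i hb (g.nI_mem i) with ⟨x, hx, y, hy, he⟩ | ⟨x, hx, y, hy, he⟩
    · exact Or.inl (he ▸ mul_mem (mul_mem hx hsq) hy)
    · exact Or.inr (DoubleCoset.mem_doubleCoset.2 ⟨x, hx, y, hy, he⟩)
  have hmulB : ∀ a ∈ B, ∀ b ∈ B, ∀ z ∈ (B : Set (GL D.Idx F)) ∪ C,
      a * z * b ∈ (B : Set (GL D.Idx F)) ∪ C := by
    rintro a ha b hb z (hz | hz)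
    · exact Or.inl (mul_mem (mul_mem ha hz) hb)
    · obtain ⟨x, hx, y, hy, rfl⟩ := DoubleCoset.mem_doubleCoset.1 hz
      exact Or.inr (DoubleCoset.mem_doubleCoset.2
        ⟨a * x, mul_mem ha hx, y * b, mul_mem hy hb, by group⟩)
  refine ⟨{ carrier := (B : Set (GL D.Idx F)) ∪ C
            one_mem' := Or.inl (one_mem B)
            mul_mem' := ?_
            inv_mem' := ?_ }, rfl⟩
  · rintro a c (ha | ha) hc'
    · have := hmulB a ha 1 (one_mem B) c hc'
      rwa [mul_one] at this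
    · obtain ⟨x, hx, y, hy, rfl⟩ := DoubleCoset.mem_doubleCoset.1 ha
      rcases hc' with hc' | hc'
      · exact Or.inr (DoubleCoset.mem_doubleCoset.2 ⟨x, hx, y * c, mul_mem hy hc', by group⟩)
      · obtain ⟨u, hu, v, hv, rfl⟩ := DoubleCoset.mem_doubleCoset.1 hc'
        have := hmulB x hx v hv _ (key (y * u) (mul_mem hy hu))
        convert this using 1
        group
  · rintro a (ha | ha)
    · exact Or.inl (B.inv_mem ha)
    · obtain ⟨x, hx, y, hy, rfl⟩ := DoubleCoset.mem_doubleCoset.1 ha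
      refine Or.inr (DoubleCoset.mem_doubleCoset.2
        ⟨y⁻¹, inv_mem hy, (s * s)⁻¹ * x⁻¹, mul_mem (inv_mem hsq) (inv_mem hx), by group⟩)

end Good

end CfsgLib.Chev
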