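import Mathlib
import Cfsg.Agent.Lib.Chev.TwistH
import Cfsg.Agent.Lib.Chev.TwistWeyl

/-!
Perfectness and simplicity of ²E₆ and ³D₄.
-/

set_option autoImplicit false
set_option maxHeartbeats 800000
set_option maxRecDepth 100000

namespace CfsgLib.Chev

open Cfsg.Lie

open scoped commutatorElement

/-- A large finite field has a unit that is no involution. -/
lemma exists_unit_sq_ne_one (K : Type*) [Field K] [Fintype K] (h : 3 < Fintype.card K) :
    ∃ x : Kˣ, (x : K) * x ≠ 1 := by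
  obtain ⟨x, hx⟩ := IsCyclic.exists_generator (α := Kˣ)
  refine ⟨x, fun he => ?_⟩
  have h1 : x ^ 2 = 1 := Units.ext (by simpa [sq] using he)
  have h2 := orderOf_dvd_of_pow_eq_one h1
  rw [orderOf_eq_card_of_forall_mem_zpowers hx, Nat.card_units, Nat.card_eq_fintype_card] at h2
  have := Nat.le_of_dvd two_pos h2
  omega

namespace A1Setup

variable {D : ChevalleyDatum} {F : Type*} [Field F] {g : Good D} (A : A1Setup g F)

lemma conj_mem_commutator {n x : GL D.Idx F} (hn : n ∈ A.G1) (hx : x ∈ ⁅A.G1, A.G1⁆) :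
    n * x * n⁻¹ ∈ ⁅A.G1, A.G1⁆ := by
  have h2 := Subgroup.mem_map_of_mem (MulAut.conj n).toMonoidHom hx
  rw [Subgroup.map_commutator] at h2
  refine Subgroup.commutator_mono ?_ ?_ h2 <;>
  · rintro z ⟨w, hw, rfl⟩
    exact mul_mem (mul_mem hn hw) (inv_mem hn)

/-- Perfectness reduces to the positive generators. -/
theorem perfect_of_gens (hc : HasComm D)
    (h : ∀ (o : Fin A.r) (t : Fin D.rank → F), (∀ i ∈ A.orb o, t (A.S.pi i) = A.φ (t i)) →
      g.xList g.sroot (A.orb o) t ∈ ⁅A.G1, A.G1⁆) :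
    commutator ↥A.G1 = ⊤ := by
  refine Subgroup.map_injective A.G1.subtype_injective ?_
  rw [commutator_def, Subgroup.map_commutator, ← MonoidHom.range_eq_map, Subgroup.range_subtype]
  refine le_antisymm (Subgroup.commutator_le.2 fun a ha b hb =>
    mul_mem (mul_mem (mul_mem ha hb) (inv_mem ha)) (inv_mem hb)) ?_
  conv_lhs => rw [A.G1_def]
  rw [Subgroup.closure_le]
  rintro x ⟨o, t, ht, rfl | rfl⟩
  · exact h o t ht
  · have h1 := A.wordN_conj_xList hc o (fun i => -t i)
    simp only [neg_neg] at h1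
    rw [← h1]
    exact A.conj_mem_commutator (A.wordN_mem hc o) (h o _ fun i hi => by simp [ht i hi])

/-- An orbit with a torus element moving it. -/
theorem orbit_mem_commutator (hc : HasComm D) (o : Fin A.r) {u : Fin D.rank → Fˣ}
    (hu : ∀ i ∈ A.orb o, (u (A.S.pi i) : F) = A.φ (u i))
    (hne : ∃ i ∈ A.orb o, (u i : F) * u i ≠ 1) {t : Fin D.rank → F}
    (ht : ∀ i ∈ A.orb o, t (A.S.pi i) = A.φ (t i)) :
    g.xList g.sroot (A.orb o) t ∈ ⁅A.G1, A.G1⁆ := by
  have hcm := (A.isOrbit o).commutes (F := F) hc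
  have hnd := (A.isOrbit o).nodup
  have hall : ∀ i ∈ A.orb o, (u i : F) * u i - 1 ≠ 0 := by
    intro i hi h
    obtain ⟨j, hj, hj'⟩ := hne
    exact hj' ((A.isOrbit o).trans (fun k => k ∈ A.orb o ∧ (u k : F) * u k = 1)
      (fun k hk => ⟨(A.isOrbit o).pi_mem k hk.1, by rw [hu k hk.1, ← map_mul, hk.2, map_one]⟩)
      i hi ⟨hi, sub_eq_zero.1 h⟩ j hj).2
  have key : ∀ (m : List (Fin D.rank)) (s : Fin D.rank → F), (∀ i ∈ m, i ∈ A.orb o) → m.Nodup →
      (m.map fun (i : Fin D.rank) => g.hG (D.simple i) (u i)).prod * g.xList g.sroot m s *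
        (m.map fun (i : Fin D.rank) => g.hG (D.simple i) (u i)).prod⁻¹ =
      g.xList g.sroot m (fun i => (u i : F) * u i * s i) := by
    intro m s
    induction m with
    | nil => intro _ _; simp [Good.xList]
    | cons i m ih =>
      intro hm hndm
      rw [List.nodup_cons] at hndm
      have hin := hm i (by simp)
      have hrest : ∀ j ∈ m, j ∈ A.orb o ∧ i ≠ j := fun j hj =>
        ⟨hm j (List.mem_cons_of_mem _ hj), fun e => hndm.1 (e ▸ hj)⟩
      set P := (m.map fun (i : Fin D.rank) => g.hG (D.simple i) (u i)).prod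
      have hnG : ∀ j ∈ m, ∀ (a : Fˣ) (b : F),
          Commute (g.nG (D.simple j) a) (g.xG (g.sroot i) b) := fun j hj a b => by
        obtain ⟨hjo, hij⟩ := hrest j hj
        exact (((hcm.1 j hjo i hin hij.symm _ b)).mul_left (hcm.2.2 i hin j hjo hij b _).symm).mul_left
          (hcm.1 j hjo i hin hij.symm _ b)
      have c1 : ∀ b : F, Commute P (g.xG (g.sroot i) b) := fun b => by
        refine Commute.list_prod_left _ _ fun y hy => ?_
        obtain ⟨j, hj, rfl⟩ := List.mem_map.1 hy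
        rw [g.hG_eq (g.simple_lt j.2)]
        exact (hnG j hj _ b).mul_left (hnG j hj _ b)
      have c2 : Commute (g.hG (D.simple i) (u i))
          (g.xList g.sroot m (fun j => (u j : F) * u j * s j)) := by
        refine g.xList_commute (fun j hj b => ?_) _
        obtain ⟨hjo, hij⟩ := hrest j hj
        have hn : ∀ a : Fˣ, Commute (g.nG (D.simple i) a) (g.xG (g.sroot j) b) := fun a =>
          ((hcm.1 i hin j hjo hij _ b).mul_left (hcm.2.2 j hjo i hin hij.symm b _).symm).mul_left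
            (hcm.1 i hin j hjo hij _ b)
        rw [g.hG_eq (g.simple_lt i.2)]
        exact (hn _).mul_left (hn _)
      have hi2 : g.hG (D.simple i) (u i) * g.xG (g.sroot i) (s i) * (g.hG (D.simple i) (u i))⁻¹ =
          g.xG (g.sroot i) ((u i : F) * u i * s i) := by
        rw [g.hG_conj_xG (g.sroot i).2, g.pair_simple i.2 (g.sroot i).2,
          show D.cartan i (g.sroot i : ℕ) = 2 from g.cartan_simple i.2]
        simp [sq, zpow_ofNat]
      have ih' := ih (fun j hj => (hrest j hj).1) hndm.2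
      simp only [List.map_cons, List.prod_cons]
      rw [g.xList_cons, g.xList_cons, ← hi2]
      set h := g.hG (D.simple i) (u i)
      set X := g.xG (g.sroot i : ℕ) (s i)
      set Y := g.xList g.sroot m s
      set R := g.xList g.sroot m (fun j => (u j : F) * u j * s j)
      have cX : Commute P X := c1 _
      calc h * P * (X * Y) * (h * P)⁻¹ = h * (P * X) * Y * P⁻¹ * h⁻¹ := by group
        _ = h * X * (P * Y * P⁻¹) * h⁻¹ := by rw [cX.eq]; group
        _ = h * X * (R * h⁻¹) := by rw [ih', mul_assoc]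
        _ = h * X * h⁻¹ * R := by rw [← c2.inv_left.eq]; group
  let s : Fin D.rank → F := fun i => t i / ((u i : F) * u i - 1)
  have hs : ∀ i ∈ A.orb o, s (A.S.pi i) = A.φ (s i) := fun i hi => by
    simp [s, hu i hi, ht i hi, map_div₀]
  set H := ((A.orb o).map fun (i : Fin D.rank) => g.hG (D.simple i) (u i)).prod
  have e : g.xList g.sroot (A.orb o) t = ⁅H, g.xList g.sroot (A.orb o) s⁆ := by
    rw [commutatorElement_def, key _ s (fun _ h => h) hnd,
      show (g.xList g.sroot (A.orb o) s)⁻¹ = g.xList g.sroot (A.orb o) (-s) from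
        inv_eq_of_mul_eq_one_right (by rw [g.xList_add hnd hcm.1, add_neg_cancel, g.xList_zero]),
      g.xList_add hnd hcm.1]
    refine g.xList_congr fun i hi => ?_
    show t i = (u i : F) * u i * s i + -s i
    have := hall i hi
    simp only [s]
    rw [← sub_eq_add_neg, ← sub_one_mul, mul_div_cancel₀ _ this]
  rw [e]
  exact Subgroup.commutator_mem_commutator (A.prod_hG_mem hc o hu) (A.gen_mem hs).1

/-- A single root, from the commutator with a conjugate. -/
theorem single_mem_commutator (hc : HasComm D) (o : Fin A.r) (i : Fin D.rank)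
    (ho : A.orb o = [i]) (L1 L2 : List (Fin A.r)) (e s : Fin D.nroots)
    (h1 : g.wperm (A.orbWord L1) (g.sroot i) = e) (h2 : g.wperm (A.orbWord L2) (g.sroot i) = s)
    (hne : (e : ℕ) ≠ g.sroot i) (hneg : (e : ℕ) ≠ D.neg (g.sroot i))
    (hterms : fterms D (g.sroot i) e = [(s.val, 1, 1, 1)] ∨
      fterms D (g.sroot i) e = [(s.val, -1, 1, 1)])
    {t : Fin D.rank → F} (ht : ∀ j ∈ A.orb o, t (A.S.pi j) = A.φ (t j)) :
    g.xList g.sroot (A.orb o) t ∈ ⁅A.G1, A.G1⁆ := by
  have hfix : A.φ (t i) = t i := by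
    have h0 := ht i (by simp [ho])
    have hp := (A.isOrbit o).pi_mem i (by simp [ho])
    rw [ho, List.mem_singleton] at hp
    rw [hp] at h0
    exact h0.symm
  obtain ⟨M, hM, hterm⟩ : ∃ M : ℤ, (M = 1 ∨ M = -1) ∧
      fterms D (g.sroot i) e = [(s.val, M, 1, 1)] := by
    rcases hterms with h | h
    · exact ⟨1, Or.inl rfl, h⟩
    · exact ⟨-1, Or.inr rfl, h⟩
  obtain ⟨c1, hc1, hc1'⟩ := g.wordN_conj_xG_sign (F := F) (A.orbWord L1) (g.sroot i)
  obtain ⟨c2, hc2, hc2'⟩ := g.wordN_conj_xG_sign (F := F) (A.orbWord L2) (g.sroot i)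
  rw [h1] at hc1'
  rw [h2] at hc2'
  have hφ1 : A.φ c1 = c1 := by rcases mul_self_eq_one_iff.1 hc1 with h | h <;> simp [h]
  have hφ2 : A.φ c2 = c2 := by rcases mul_self_eq_one_iff.1 hc2 with h | h <;> simp [h]
  have hM2 : (M : F) * M = 1 := by rcases hM with h | h <;> simp [h]
  have hgen : ∀ a : F, A.φ a = a → g.xG (g.sroot i) a ∈ A.G1 := fun a ha => by
    have := (A.gen_mem (o := o) (t := fun _ => a) fun _ _ => ha.symm).1
    simpa [ho, Good.xList] using this
  rw [show g.xList g.sroot (A.orb o) t = g.xG (g.sroot i) (t i) by simp [ho, Good.xList]]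
  set a : F := (M : F) * c1 * (c2 * t i)
  have ha : A.φ a = a := by simp [a, hφ1, hφ2, hfix]
  have hy : g.xG (e : ℕ) c1 ∈ A.G1 := by
    have := mul_mem (mul_mem (A.wordN_orbWord_mem hc L1) (hgen 1 (map_one _)))
      (inv_mem (A.wordN_orbWord_mem hc L1))
    rwa [hc1', mul_one] at this
  have h3 := g.comm_formula hc (g.sroot i).2 e.2 hne hneg (-a) c1
  simp only [ChevalleyDatum.commWord, ← g.fterms_eq (g.sroot i).2 e.2, hterm,
    ChevalleyDatum.wordMat, List.map_cons, List.map_nil, List.prod_cons, List.prod_nil, mul_one,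
    pow_one, _root_.neg_neg] at h3
  have e1 : (M : F) * a * c1 = c2 * t i := by
    calc (M : F) * a * c1 = ((M : F) * M) * (c1 * c1) * (c2 * t i) := by simp only [a]; ring
      _ = _ := by rw [hM2, hc1, one_mul, one_mul]
  rw [e1] at h3
  have h4 : g.xG (e : ℕ) c1 * g.xG (g.sroot i) (-a) =
      g.xG (g.sroot i) (-a) * g.xG (e : ℕ) c1 * g.xG (s : ℕ) (c2 * t i) :=
    Units.ext (by simpa [Good.coe_xG] using h3)
  have h5 : g.xG (s : ℕ) (c2 * t i) ∈ ⁅A.G1, A.G1⁆ := by
    rw [show g.xG (s : ℕ) (c2 * t i) =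
      ⁅(g.xG (e : ℕ) c1)⁻¹, (g.xG (g.sroot i) (-a))⁻¹⁆ by
        rw [commutatorElement_def, inv_inv, inv_inv, mul_assoc, h4]; group]
    exact Subgroup.commutator_mem_commutator (inv_mem hy)
      (inv_mem (hgen _ (by rw [map_neg, ha])))
  have h6 := A.conj_mem_commutator (inv_mem (A.wordN_orbWord_mem hc L2)) h5
  rwa [← hc2', inv_inv, show (g.wordN (F := F) (A.orbWord L2))⁻¹ *
    (g.wordN (A.orbWord L2) * g.xG (g.sroot i) (t i) * (g.wordN (A.orbWord L2))⁻¹) *
      g.wordN (A.orbWord L2) = g.xG (g.sroot i) (t i) by group] at h6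

end A1Setup

theorem twistedE6_perfect (K : Type*) [Field K] [Fintype K] {q : ℕ} (hq : IsPrimePow q)
    (hK : Fintype.card K = q ^ 2) : commutator ↥(twistedE6 K q) = ⊤ := by
  classical
  obtain ⟨A, hG, hφ, hS, hr, ho⟩ := exists_setupE6 K hq hK
  have hc : HasComm chevE6 := hasComm_of_mem (by simp)
  rw [← hG]
  refine A.perfect_of_gens hc fun o t ht => ?_
  have hw : ∀ L : List (Fin 4),
      A.orbWord (L.map (Fin.cast hr.symm)) = L.flatMap orbE6 := fun L => by
    rw [A1Setup.orbWord, List.flatMap_map]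
    exact congrArg (fun f => List.flatMap f L) (funext fun x => ho _)
  obtain ⟨x, hx⟩ := exists_unit_sq_ne_one K (by have := hq.one_lt; rw [hK]; nlinarith)
  have hxq : ((x : K) ^ q) ^ q = x := by rw [← pow_mul, ← sq, ← hK, FiniteField.pow_card]
  have hbig : ∀ (o : Fin A.r) (a b : Fin chevE6.rank), A.orb o = [b, a] → a ≠ b →
      A.S.pi a = b → A.S.pi b = a → ∀ t : Fin chevE6.rank → K,
      (∀ i ∈ A.orb o, t (A.S.pi i) = A.φ (t i)) →
      goodE6.xList goodE6.sroot (A.orb o) t ∈ ⁅A.G1, A.G1⁆ := by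
    intro o a b hab hne hpa hpb t ht
    let u : Fin chevE6.rank → Kˣ := fun j => if j = a then x else x ^ q
    refine A.orbit_mem_commutator hc o (u := u) (fun i hi => ?_)
      ⟨a, by simp [hab], by simpa [u] using hx⟩ ht
    rw [hab] at hi
    simp only [List.mem_cons, List.not_mem_nil, or_false] at hi
    rcases hi with rfl | rfl
    · rw [hpb, hφ]; simp [u, hne.symm, hxq]
    · rw [hpa, hφ]; simp [u, hne.symm]
  have hpi : ∀ i : Fin 6, (A.S.pi i).val = nth 0 [5, 1, 4, 3, 2, 0] i := by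
    rw [hS]; decide +kernel
  obtain ⟨v, hv⟩ := o
  have hv4 : v < 4 := hr ▸ hv
  obtain rfl | rfl | rfl | rfl : v = 0 ∨ v = 1 ∨ v = 2 ∨ v = 3 := by omega
  · refine A.single_mem_commutator hc _ ⟨1, by decide⟩ (ho _)
      ([0, 1].map (Fin.cast hr.symm)) ([1].map (Fin.cast hr.symm))
      (goodE6.wperm ([0, 1].flatMap orbE6) (goodE6.sroot ⟨1, by decide⟩))
      (goodE6.wperm ([1].flatMap orbE6) (goodE6.sroot ⟨1, by decide⟩))
      (by rw [hw]) (by rw [hw]) ?_ ?_ ?_ ht
    all_goals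
      simp only [goodE6.wperm_tab checksE6 structChecksE6]
      show _
      decide +kernel
  · refine A.single_mem_commutator hc _ ⟨3, by decide⟩ (ho _)
      ([1, 0].map (Fin.cast hr.symm)) ([0].map (Fin.cast hr.symm))
      (goodE6.wperm ([1, 0].flatMap orbE6) (goodE6.sroot ⟨3, by decide⟩))
      (goodE6.wperm ([0].flatMap orbE6) (goodE6.sroot ⟨3, by decide⟩))
      (by rw [hw]) (by rw [hw]) ?_ ?_ ?_ ht
    all_goals
      simp only [goodE6.wperm_tab checksE6 structChecksE6]
      show _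
      decide +kernel
  · exact hbig _ ⟨0, by decide⟩ ⟨5, by decide⟩ (ho _) (by decide) (Fin.ext (hpi 0))
      (Fin.ext (hpi 5)) t ht
  · exact hbig _ ⟨2, by decide⟩ ⟨4, by decide⟩ (ho _) (by decide) (Fin.ext (hpi 2))
      (Fin.ext (hpi 4)) t ht

theorem twistedD4_perfect (K : Type*) [Field K] [Fintype K] {q : ℕ} (hq : IsPrimePow q)
    (hK : Fintype.card K = q ^ 3) : commutator ↥(twistedD4 K q) = ⊤ := by
  classical
  obtain ⟨A, hG, hφ, hS, hr, ho⟩ := exists_setupD4 K hq hK
  have hc : HasComm chevD4 := hasComm_of_mem (by simp)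
  rw [← hG]
  refine A.perfect_of_gens hc fun o t ht => ?_
  have hw : ∀ L : List (Fin 2),
      A.orbWord (L.map (Fin.cast hr.symm)) = L.flatMap orbD4 := fun L => by
    rw [A1Setup.orbWord, List.flatMap_map]
    exact congrArg (fun f => List.flatMap f L) (funext fun x => ho _)
  have hcard : 3 < Fintype.card K := by
    rw [hK]
    exact lt_of_lt_of_le (by norm_num : 3 < 2 ^ 3) (Nat.pow_le_pow_left hq.one_lt 3)
  obtain ⟨x, hx⟩ := exists_unit_sq_ne_one K hcard
  have hxq : (((x : K) ^ q) ^ q) ^ q = x := by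
    rw [← pow_mul, ← pow_mul, show q * (q * q) = q ^ 3 by ring, ← hK, FiniteField.pow_card]
  have hpi : ∀ i : Fin 4, (A.S.pi i).val = nth 0 [2, 1, 3, 0] i := by
    rw [hS]; decide +kernel
  obtain ⟨v, hv⟩ := o
  have hv2 : v < 2 := hr ▸ hv
  obtain rfl | rfl : v = 0 ∨ v = 1 := by omega
  · refine A.single_mem_commutator hc _ ⟨1, by decide⟩ (ho _)
      ([1].map (Fin.cast hr.symm)) ([0, 1].map (Fin.cast hr.symm))
      (goodD4.wperm ([1].flatMap orbD4) (goodD4.sroot ⟨1, by decide⟩))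
      (goodD4.wperm ([0, 1].flatMap orbD4) (goodD4.sroot ⟨1, by decide⟩))
      (by rw [hw]) (by rw [hw]) ?_ ?_ ?_ ht
    all_goals
      simp only [goodD4.wperm_tab checksD4 structChecksD4]
      show _
      decide +kernel
  · let a : Fin chevD4.rank := ⟨0, by decide⟩
    let b : Fin chevD4.rank := ⟨2, by decide⟩
    let c : Fin chevD4.rank := ⟨3, by decide⟩
    have hab : b ≠ a := by decide
    have hca : c ≠ a := by decide
    have hcb : c ≠ b := by decide
    have hab' : A.orb ⟨1, hv⟩ = [c, b, a] := ho _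
    let u : Fin chevD4.rank → Kˣ := fun j =>
      if j = a then x else if j = b then x ^ q else (x ^ q) ^ q
    refine A.orbit_mem_commutator hc _ (u := u) (fun i hi => ?_)
      ⟨a, by simp [hab'], by simpa [u] using hx⟩ ht
    have pa : A.S.pi a = b := Fin.ext (hpi 0)
    have pb : A.S.pi b = c := Fin.ext (hpi 2)
    have pc : A.S.pi c = a := Fin.ext (hpi 3)
    rw [hab'] at hi
    simp only [List.mem_cons, List.not_mem_nil, or_false] at hi
    rcases hi with rfl | rfl | rfl
    · rw [pc, hφ]; simp [u, hab, hca, hcb, hxq]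
    · rw [pb, hφ]; simp [u, hab, hca, hcb]
    · rw [pa, hφ]; simp [u, hab, hca, hcb]

theorem twistedE6_simple (K : Type*) [Field K] [Fintype K] {q : ℕ} (hq : IsPrimePow q)
    (hK : Fintype.card K = q ^ 2) :
    IsSimpleGroup ↥(twistedE6 K q) ∧ ¬ IsMulCommutative ↥(twistedE6 K q) := by
  obtain ⟨A, hG, hφ, hS, hr, ho⟩ := exists_setupE6 K hq hK
  have hc : HasComm chevE6 := hasComm_of_mem (by simp)
  have h4 : ∀ o' : Fin 4, ((orbE6 o').length = 1 ∨ (orbE6 o').length = 2) ∧
      ∃ i₀ ∈ orbE6 o', (A.S.pi : Fin chevE6.rank → Fin chevE6.rank)^[(orbE6 o').length] i₀ = i₀ ∧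
        ∀ i ∈ orbE6 o', ∃ m < (orbE6 o').length,
          (A.S.pi : Fin chevE6.rank → Fin chevE6.rank)^[m] i₀ = i := by
    rw [hS]; decide +kernel
  have hf := A.facts hc hq.one_lt hφ hK (by norm_num)
    (fun o => by rw [ho]; exact (h4 _).1) (fun o => by rw [ho]; exact (h4 _).2)
  have hp := twistedE6_perfect K hq hK
  rw [← hG] at hp ⊢
  refine (A.sys hc).isSimple hc hf.2.1 hf.2.2 (fun P hP => ?_) hp (by show 0 < A.r; omega)
  have hne : ∀ x y : Fin 4, (x.val + 1 = y.val ∧ x.val ≠ 1) ∨ (x.val = 1 ∧ y.val = 3) →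
      goodE6.wperm (orbE6 x) * goodE6.wperm (orbE6 y) ≠
        goodE6.wperm (orbE6 y) * goodE6.wperm (orbE6 x) := by
    intro x y hxy h
    rw [← goodE6.wperm_append, ← goodE6.wperm_append] at h
    have hno : ∀ x y : Fin 4, (x.val + 1 = y.val ∧ x.val ≠ 1) ∨ (x.val = 1 ∧ y.val = 3) →
        ∃ s : Fin chevE6.nroots, wordApp sdataE6 ((orbE6 x ++ orbE6 y).map Fin.val) s ≠
          wordApp sdataE6 ((orbE6 y ++ orbE6 x).map Fin.val) s := by decide +kernel
    obtain ⟨s, hs⟩ := hno x y hxy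
    exact hs (by rw [← goodE6.wperm_tab checksE6 structChecksE6,
      ← goodE6.wperm_tab checksE6 structChecksE6, h])
  have step : ∀ x y : Fin 4, (x.val + 1 = y.val ∧ x.val ≠ 1) ∨ (x.val = 1 ∧ y.val = 3) →
      (P (Fin.cast hr.symm x) ↔ P (Fin.cast hr.symm y)) := fun x y hxy =>
    hP _ _ (fun he => hne x y hxy (by
      have e : ∀ z : Fin 4, (A.sys hc).w (Fin.cast hr.symm z) = goodE6.wperm (orbE6 z) :=
        fun z => congrArg goodE6.wperm (ho _)
      rw [e, e] at he; exact he))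
  have h01 := step 0 1 (by decide)
  have h23 := step 2 3 (by decide)
  have h13 := step 1 3 (by decide)
  have hall : ∀ x : Fin 4, P (Fin.cast hr.symm x) ↔ P (Fin.cast hr.symm 0) := by
    intro x
    fin_cases x
    exacts [Iff.rfl, h01.symm, h23.trans (h13.symm.trans h01.symm), h13.symm.trans h01.symm]
  intro o o'
  exact (hall (Fin.cast hr o)).trans (hall (Fin.cast hr o')).symm

theorem twistedD4_simple (K : Type*) [Field K] [Fintype K] {q : ℕ} (hq : IsPrimePow q)
    (hK : Fintype.card K = q ^ 3) :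
    IsSimpleGroup ↥(twistedD4 K q) ∧ ¬ IsMulCommutative ↥(twistedD4 K q) := by
  obtain ⟨A, hG, hφ, hS, hr, ho⟩ := exists_setupD4 K hq hK
  have hc : HasComm chevD4 := hasComm_of_mem (by simp)
  have h2 : ∀ o' : Fin 2, ((orbD4 o').length = 1 ∨ (orbD4 o').length = 3) ∧
      ∃ i₀ ∈ orbD4 o', (A.S.pi : Fin chevD4.rank → Fin chevD4.rank)^[(orbD4 o').length] i₀ = i₀ ∧
        ∀ i ∈ orbD4 o', ∃ m < (orbD4 o').length,
          (A.S.pi : Fin chevD4.rank → Fin chevD4.rank)^[m] i₀ = i := by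
    rw [hS]; decide +kernel
  have hf := A.facts hc hq.one_lt hφ hK (by norm_num)
    (fun o => by rw [ho]; exact (h2 _).1) (fun o => by rw [ho]; exact (h2 _).2)
  have hp := twistedD4_perfect K hq hK
  rw [← hG] at hp ⊢
  refine (A.sys hc).isSimple hc hf.2.1 hf.2.2 (fun P hP => ?_) hp (by show 0 < A.r; omega)
  have hne : goodD4.wperm (orbD4 0) * goodD4.wperm (orbD4 1) ≠
        goodD4.wperm (orbD4 1) * goodD4.wperm (orbD4 0) := by
    intro h
    rw [← goodD4.wperm_append, ← goodD4.wperm_append] at h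
    have hno : ∃ s : Fin chevD4.nroots, wordApp sdataD4 ((orbD4 0 ++ orbD4 1).map Fin.val) s ≠
          wordApp sdataD4 ((orbD4 1 ++ orbD4 0).map Fin.val) s := by decide +kernel
    obtain ⟨s, hs⟩ := hno
    exact hs (by rw [← goodD4.wperm_tab checksD4 structChecksD4,
      ← goodD4.wperm_tab checksD4 structChecksD4, h])
  have h01 : P (Fin.cast hr.symm 0) ↔ P (Fin.cast hr.symm 1) := hP _ _ (fun he => hne (by
      have e : ∀ z : Fin 2, (A.sys hc).w (Fin.cast hr.symm z) = goodD4.wperm (orbD4 z) :=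
        fun z => congrArg goodD4.wperm (ho _)
      rw [e, e] at he; exact he))
  have hall : ∀ x : Fin 2, P (Fin.cast hr.symm x) ↔ P (Fin.cast hr.symm 0) := by
    intro x
    fin_cases x
    exacts [Iff.rfl, h01.symm]
  intro o o'
  exact (hall (Fin.cast hr o)).trans (hall (Fin.cast hr o')).symm

end CfsgLib.Chev
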