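import Cfsg.Prelude.Def_ChevD4
import Cfsg.Agent.Lib.Chev.LieCheck

/-!
Tables for type D4 and the kernel check that its datum describes a Lie algebra.
-/

set_option autoImplicit false
set_option maxRecDepth 100000

namespace CfsgLib.Chev

open Cfsg.Lie

/-- Auxiliary tables for type D4. -/
def dataD4 : LieData where
  co := [
  [(-1), (-2), (-1), (-1)],
  [(-1), (-1), (-1), (-1)],
  [(-1), (-1), (-1), 0],
  [(-1), (-1), 0, (-1)],
  [(-1), (-1), 0, 0],
  [(-1), 0, 0, 0],
  [0, (-1), (-1), (-1)],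
  [0, (-1), (-1), 0],
  [0, (-1), 0, (-1)],
  [0, (-1), 0, 0],
  [0, 0, (-1), 0],
  [0, 0, 0, (-1)],
  [0, 0, 0, 1],
  [0, 0, 1, 0],
  [0, 1, 0, 0],
  [0, 1, 0, 1],
  [0, 1, 1, 0],
  [0, 1, 1, 1],
  [1, 0, 0, 0],
  [1, 1, 0, 0],
  [1, 1, 0, 1],
  [1, 1, 1, 0],
  [1, 1, 1, 1],
  [1, 2, 1, 1]]
  simples := [18, 14, 13, 12]
  dec := [
  (15, 1, 12), (16, 1, 13), (19, 0, 14), (17, 2, 15), (20, 0, 15), (21, 0, 16), (22, 0, 17), (23, 1, 22)]
  gen := [
  (26, 1, 27), (21, 0, 26), (24, 2, 26), (25, 3, 26), (19, 2, 21), (20, 3, 21), (23, 3, 24), (16, 1, 19),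
  (18, 3, 19), (17, 1, 20), (22, 1, 23), (3, 3, 16), (1, 1, 18), (2, 2, 17), (0, 0, 22), (13, 1, 3),
  (15, 3, 3), (9, 0, 1), (14, 2, 1), (8, 0, 13), (11, 2, 13), (12, 3, 13), (6, 2, 8), (7, 3, 8),
  (10, 3, 11), (5, 3, 6), (4, 1, 5)]

theorem checksD4 : LieChecks chevD4 dataD4 where
  shape := by decide +kernel
  pack := by decide +kernel
  orient := by decide +kernel
  theta := by decide +kernel
  thetaH := by decide +kernel
  weight := by decide +kernel
  support := by decide +kernel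
  decs := by decide +kernel
  cover := by decide +kernel
  base := by decide +kernel
  top := by decide +kernel
  gen := by decide +kernel
  pows := by decide +kernel

end CfsgLib.Chev
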