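import Cfsg.Prelude.Def_ChevE6
import Cfsg.Agent.Lib.Chev.LieCheck

/-!
Tables for type E6 and the kernel check that its datum describes a Lie algebra.
-/

set_option autoImplicit false
set_option maxRecDepth 100000

namespace CfsgLib.Chev

open Cfsg.Lie

/-- Auxiliary tables for type E6. -/
def dataE6 : LieData where
  co := [
  [(-1), (-2), (-2), (-3), (-2), (-1)],
  [(-1), (-1), (-2), (-3), (-2), (-1)],
  [(-1), (-1), (-2), (-2), (-2), (-1)],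
  [(-1), (-1), (-2), (-2), (-1), (-1)],
  [(-1), (-1), (-2), (-2), (-1), 0],
  [(-1), (-1), (-1), (-2), (-2), (-1)],
  [(-1), (-1), (-1), (-2), (-1), (-1)],
  [(-1), (-1), (-1), (-2), (-1), 0],
  [(-1), (-1), (-1), (-1), (-1), (-1)],
  [(-1), (-1), (-1), (-1), (-1), 0],
  [(-1), (-1), (-1), (-1), 0, 0],
  [(-1), 0, (-1), (-1), (-1), (-1)],
  [(-1), 0, (-1), (-1), (-1), 0],
  [(-1), 0, (-1), (-1), 0, 0],
  [(-1), 0, (-1), 0, 0, 0],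
  [(-1), 0, 0, 0, 0, 0],
  [0, (-1), (-1), (-2), (-2), (-1)],
  [0, (-1), (-1), (-2), (-1), (-1)],
  [0, (-1), (-1), (-2), (-1), 0],
  [0, (-1), (-1), (-1), (-1), (-1)],
  [0, (-1), (-1), (-1), (-1), 0],
  [0, (-1), (-1), (-1), 0, 0],
  [0, (-1), 0, (-1), (-1), (-1)],
  [0, (-1), 0, (-1), (-1), 0],
  [0, (-1), 0, (-1), 0, 0],
  [0, (-1), 0, 0, 0, 0],
  [0, 0, (-1), (-1), (-1), (-1)],
  [0, 0, (-1), (-1), (-1), 0],
  [0, 0, (-1), (-1), 0, 0],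
  [0, 0, (-1), 0, 0, 0],
  [0, 0, 0, (-1), (-1), (-1)],
  [0, 0, 0, (-1), (-1), 0],
  [0, 0, 0, (-1), 0, 0],
  [0, 0, 0, 0, (-1), (-1)],
  [0, 0, 0, 0, (-1), 0],
  [0, 0, 0, 0, 0, (-1)],
  [0, 0, 0, 0, 0, 1],
  [0, 0, 0, 0, 1, 0],
  [0, 0, 0, 0, 1, 1],
  [0, 0, 0, 1, 0, 0],
  [0, 0, 0, 1, 1, 0],
  [0, 0, 0, 1, 1, 1],
  [0, 0, 1, 0, 0, 0],
  [0, 0, 1, 1, 0, 0],
  [0, 0, 1, 1, 1, 0],
  [0, 0, 1, 1, 1, 1],
  [0, 1, 0, 0, 0, 0],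
  [0, 1, 0, 1, 0, 0],
  [0, 1, 0, 1, 1, 0],
  [0, 1, 0, 1, 1, 1],
  [0, 1, 1, 1, 0, 0],
  [0, 1, 1, 1, 1, 0],
  [0, 1, 1, 1, 1, 1],
  [0, 1, 1, 2, 1, 0],
  [0, 1, 1, 2, 1, 1],
  [0, 1, 1, 2, 2, 1],
  [1, 0, 0, 0, 0, 0],
  [1, 0, 1, 0, 0, 0],
  [1, 0, 1, 1, 0, 0],
  [1, 0, 1, 1, 1, 0],
  [1, 0, 1, 1, 1, 1],
  [1, 1, 1, 1, 0, 0],
  [1, 1, 1, 1, 1, 0],
  [1, 1, 1, 1, 1, 1],
  [1, 1, 1, 2, 1, 0],
  [1, 1, 1, 2, 1, 1],
  [1, 1, 1, 2, 2, 1],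
  [1, 1, 2, 2, 1, 0],
  [1, 1, 2, 2, 1, 1],
  [1, 1, 2, 2, 2, 1],
  [1, 1, 2, 3, 2, 1],
  [1, 2, 2, 3, 2, 1]]
  simples := [56, 46, 42, 39, 37, 36]
  dec := [
  (38, 4, 36), (40, 3, 37), (43, 2, 39), (47, 1, 39), (57, 0, 42), (41, 3, 38), (44, 2, 40), (48, 1, 40),
  (50, 1, 43), (58, 0, 43), (45, 2, 41), (49, 1, 41), (51, 1, 44), (59, 0, 44), (61, 0, 50), (52, 1, 45),
  (53, 3, 51), (60, 0, 45), (62, 0, 51), (54, 3, 52), (63, 0, 52), (64, 0, 53), (55, 4, 54), (65, 0, 54),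
  (67, 2, 64), (66, 0, 55), (68, 2, 65), (69, 2, 66), (70, 3, 69), (71, 1, 70)]
  gen := [
  (76, 1, 77), (75, 3, 76), (72, 2, 75), (74, 4, 75), (61, 0, 72), (71, 4, 72), (73, 5, 74), (60, 4, 61),
  (69, 3, 71), (70, 5, 71), (58, 3, 60), (59, 5, 60), (66, 1, 69), (68, 5, 69), (51, 1, 58), (55, 2, 58),
  (57, 5, 58), (65, 5, 66), (67, 4, 68), (47, 2, 51), (50, 5, 51), (54, 5, 55), (56, 4, 57), (64, 4, 65),
  (44, 3, 47), (46, 5, 47), (49, 4, 50), (53, 4, 54), (63, 3, 64), (42, 4, 44), (43, 5, 44), (45, 4, 46),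
  (48, 3, 49), (52, 3, 53), (62, 2, 63), (5, 5, 42), (4, 4, 43), (3, 3, 45), (2, 2, 48), (1, 1, 52),
  (0, 0, 62), (40, 4, 5), (41, 5, 5), (38, 3, 4), (31, 1, 3), (35, 2, 3), (21, 0, 2), (37, 3, 40),
  (39, 5, 40), (30, 1, 38), (34, 2, 38), (20, 0, 35), (29, 1, 37), (33, 2, 37), (36, 5, 37), (27, 2, 30),
  (19, 0, 34), (26, 2, 29), (28, 5, 29), (18, 0, 33), (32, 5, 33), (16, 0, 27), (15, 0, 26), (24, 3, 26),
  (25, 5, 26), (17, 5, 18), (13, 3, 15), (14, 5, 15), (23, 5, 24), (10, 2, 13), (12, 5, 13), (22, 4, 23),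
  (9, 5, 10), (11, 4, 12), (8, 4, 9), (7, 3, 8), (6, 1, 7)]

theorem checksE6 : LieChecks chevE6 dataE6 where
  shape := by decide +kernel
  pack := by decide +kernel
  orient := by decide +kernel
  theta := by decide +kernel
  thetaH := by decide +kernel
  weight := by decide +kernel
  support := by decide +kernel
  decs := by decide +kernel
  cover := by decide +kernel
  base := by decide +kernel
  top := by decide +kernel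
  gen := by decide +kernel
  pows := by decide +kernel

end CfsgLib.Chev
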