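import Cfsg.Prelude.Def_ChevE7
import Cfsg.Agent.Lib.Chev.LieCheck

/-!
Tables for type E7 and the kernel check that its datum describes a Lie algebra.
-/

set_option autoImplicit false
set_option maxRecDepth 100000

namespace CfsgLib.Chev

open Cfsg.Lie

/-- Auxiliary tables for type E7. -/
def dataE7 : LieData where
  co := [
  [(-2), (-2), (-3), (-4), (-3), (-2), (-1)],
  [(-1), (-2), (-3), (-4), (-3), (-2), (-1)],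
  [(-1), (-2), (-2), (-4), (-3), (-2), (-1)],
  [(-1), (-2), (-2), (-3), (-3), (-2), (-1)],
  [(-1), (-2), (-2), (-3), (-2), (-2), (-1)],
  [(-1), (-2), (-2), (-3), (-2), (-1), (-1)],
  [(-1), (-2), (-2), (-3), (-2), (-1), 0],
  [(-1), (-1), (-2), (-3), (-3), (-2), (-1)],
  [(-1), (-1), (-2), (-3), (-2), (-2), (-1)],
  [(-1), (-1), (-2), (-3), (-2), (-1), (-1)],
  [(-1), (-1), (-2), (-3), (-2), (-1), 0],
  [(-1), (-1), (-2), (-2), (-2), (-2), (-1)],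
  [(-1), (-1), (-2), (-2), (-2), (-1), (-1)],
  [(-1), (-1), (-2), (-2), (-2), (-1), 0],
  [(-1), (-1), (-2), (-2), (-1), (-1), (-1)],
  [(-1), (-1), (-2), (-2), (-1), (-1), 0],
  [(-1), (-1), (-2), (-2), (-1), 0, 0],
  [(-1), (-1), (-1), (-2), (-2), (-2), (-1)],
  [(-1), (-1), (-1), (-2), (-2), (-1), (-1)],
  [(-1), (-1), (-1), (-2), (-2), (-1), 0],
  [(-1), (-1), (-1), (-2), (-1), (-1), (-1)],
  [(-1), (-1), (-1), (-2), (-1), (-1), 0],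
  [(-1), (-1), (-1), (-2), (-1), 0, 0],
  [(-1), (-1), (-1), (-1), (-1), (-1), (-1)],
  [(-1), (-1), (-1), (-1), (-1), (-1), 0],
  [(-1), (-1), (-1), (-1), (-1), 0, 0],
  [(-1), (-1), (-1), (-1), 0, 0, 0],
  [(-1), 0, (-1), (-1), (-1), (-1), (-1)],
  [(-1), 0, (-1), (-1), (-1), (-1), 0],
  [(-1), 0, (-1), (-1), (-1), 0, 0],
  [(-1), 0, (-1), (-1), 0, 0, 0],
  [(-1), 0, (-1), 0, 0, 0, 0],
  [(-1), 0, 0, 0, 0, 0, 0],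
  [0, (-1), (-1), (-2), (-2), (-2), (-1)],
  [0, (-1), (-1), (-2), (-2), (-1), (-1)],
  [0, (-1), (-1), (-2), (-2), (-1), 0],
  [0, (-1), (-1), (-2), (-1), (-1), (-1)],
  [0, (-1), (-1), (-2), (-1), (-1), 0],
  [0, (-1), (-1), (-2), (-1), 0, 0],
  [0, (-1), (-1), (-1), (-1), (-1), (-1)],
  [0, (-1), (-1), (-1), (-1), (-1), 0],
  [0, (-1), (-1), (-1), (-1), 0, 0],
  [0, (-1), (-1), (-1), 0, 0, 0],
  [0, (-1), 0, (-1), (-1), (-1), (-1)],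
  [0, (-1), 0, (-1), (-1), (-1), 0],
  [0, (-1), 0, (-1), (-1), 0, 0],
  [0, (-1), 0, (-1), 0, 0, 0],
  [0, (-1), 0, 0, 0, 0, 0],
  [0, 0, (-1), (-1), (-1), (-1), (-1)],
  [0, 0, (-1), (-1), (-1), (-1), 0],
  [0, 0, (-1), (-1), (-1), 0, 0],
  [0, 0, (-1), (-1), 0, 0, 0],
  [0, 0, (-1), 0, 0, 0, 0],
  [0, 0, 0, (-1), (-1), (-1), (-1)],
  [0, 0, 0, (-1), (-1), (-1), 0],
  [0, 0, 0, (-1), (-1), 0, 0],
  [0, 0, 0, (-1), 0, 0, 0],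
  [0, 0, 0, 0, (-1), (-1), (-1)],
  [0, 0, 0, 0, (-1), (-1), 0],
  [0, 0, 0, 0, (-1), 0, 0],
  [0, 0, 0, 0, 0, (-1), (-1)],
  [0, 0, 0, 0, 0, (-1), 0],
  [0, 0, 0, 0, 0, 0, (-1)],
  [0, 0, 0, 0, 0, 0, 1],
  [0, 0, 0, 0, 0, 1, 0],
  [0, 0, 0, 0, 0, 1, 1],
  [0, 0, 0, 0, 1, 0, 0],
  [0, 0, 0, 0, 1, 1, 0],
  [0, 0, 0, 0, 1, 1, 1],
  [0, 0, 0, 1, 0, 0, 0],
  [0, 0, 0, 1, 1, 0, 0],
  [0, 0, 0, 1, 1, 1, 0],
  [0, 0, 0, 1, 1, 1, 1],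
  [0, 0, 1, 0, 0, 0, 0],
  [0, 0, 1, 1, 0, 0, 0],
  [0, 0, 1, 1, 1, 0, 0],
  [0, 0, 1, 1, 1, 1, 0],
  [0, 0, 1, 1, 1, 1, 1],
  [0, 1, 0, 0, 0, 0, 0],
  [0, 1, 0, 1, 0, 0, 0],
  [0, 1, 0, 1, 1, 0, 0],
  [0, 1, 0, 1, 1, 1, 0],
  [0, 1, 0, 1, 1, 1, 1],
  [0, 1, 1, 1, 0, 0, 0],
  [0, 1, 1, 1, 1, 0, 0],
  [0, 1, 1, 1, 1, 1, 0],
  [0, 1, 1, 1, 1, 1, 1],
  [0, 1, 1, 2, 1, 0, 0],
  [0, 1, 1, 2, 1, 1, 0],
  [0, 1, 1, 2, 1, 1, 1],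
  [0, 1, 1, 2, 2, 1, 0],
  [0, 1, 1, 2, 2, 1, 1],
  [0, 1, 1, 2, 2, 2, 1],
  [1, 0, 0, 0, 0, 0, 0],
  [1, 0, 1, 0, 0, 0, 0],
  [1, 0, 1, 1, 0, 0, 0],
  [1, 0, 1, 1, 1, 0, 0],
  [1, 0, 1, 1, 1, 1, 0],
  [1, 0, 1, 1, 1, 1, 1],
  [1, 1, 1, 1, 0, 0, 0],
  [1, 1, 1, 1, 1, 0, 0],
  [1, 1, 1, 1, 1, 1, 0],
  [1, 1, 1, 1, 1, 1, 1],
  [1, 1, 1, 2, 1, 0, 0],
  [1, 1, 1, 2, 1, 1, 0],
  [1, 1, 1, 2, 1, 1, 1],
  [1, 1, 1, 2, 2, 1, 0],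
  [1, 1, 1, 2, 2, 1, 1],
  [1, 1, 1, 2, 2, 2, 1],
  [1, 1, 2, 2, 1, 0, 0],
  [1, 1, 2, 2, 1, 1, 0],
  [1, 1, 2, 2, 1, 1, 1],
  [1, 1, 2, 2, 2, 1, 0],
  [1, 1, 2, 2, 2, 1, 1],
  [1, 1, 2, 2, 2, 2, 1],
  [1, 1, 2, 3, 2, 1, 0],
  [1, 1, 2, 3, 2, 1, 1],
  [1, 1, 2, 3, 2, 2, 1],
  [1, 1, 2, 3, 3, 2, 1],
  [1, 2, 2, 3, 2, 1, 0],
  [1, 2, 2, 3, 2, 1, 1],
  [1, 2, 2, 3, 2, 2, 1],
  [1, 2, 2, 3, 3, 2, 1],
  [1, 2, 2, 4, 3, 2, 1],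
  [1, 2, 3, 4, 3, 2, 1],
  [2, 2, 3, 4, 3, 2, 1]]
  simples := [93, 78, 73, 69, 66, 64, 63]
  dec := [
  (65, 5, 63), (67, 4, 64), (70, 3, 66), (74, 2, 69), (79, 1, 69), (94, 0, 73), (68, 4, 65), (71, 3, 67),
  (75, 2, 70), (80, 1, 70), (83, 1, 74), (95, 0, 74), (72, 3, 68), (76, 2, 71), (81, 1, 71), (84, 1, 75),
  (96, 0, 75), (99, 0, 83), (77, 2, 72), (82, 1, 72), (85, 1, 76), (87, 3, 84), (97, 0, 76), (100, 0, 84),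
  (86, 1, 77), (88, 3, 85), (98, 0, 77), (101, 0, 85), (103, 0, 87), (89, 3, 86), (90, 4, 88), (102, 0, 86),
  (104, 0, 88), (109, 2, 103), (91, 4, 89), (105, 0, 89), (106, 0, 90), (110, 2, 104), (92, 5, 91), (107, 0, 91),
  (111, 2, 105), (112, 2, 106), (108, 0, 92), (113, 2, 107), (115, 3, 112), (114, 2, 108), (116, 3, 113), (119, 1, 115),
  (117, 3, 114), (120, 1, 116), (118, 4, 117), (121, 1, 117), (122, 1, 118), (123, 3, 122), (124, 2, 123), (125, 0, 124)]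
  gen := [
  (131, 0, 132), (130, 2, 131), (129, 3, 130), (125, 1, 129), (128, 4, 129), (124, 4, 125), (127, 5, 128), (121, 3, 124),
  (123, 5, 124), (126, 6, 127), (115, 2, 121), (120, 5, 121), (122, 6, 123), (99, 0, 115), (114, 5, 115), (118, 4, 120),
  (119, 6, 120), (98, 5, 99), (112, 4, 114), (113, 6, 114), (117, 6, 118), (96, 4, 98), (97, 6, 98), (109, 3, 112),
  (111, 6, 112), (116, 5, 117), (93, 3, 96), (95, 6, 96), (105, 1, 109), (108, 6, 109), (110, 5, 111), (84, 1, 93),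
  (89, 2, 93), (92, 6, 93), (94, 5, 95), (104, 6, 105), (107, 5, 108), (79, 2, 84), (83, 6, 84), (88, 6, 89),
  (91, 5, 92), (103, 5, 104), (106, 4, 107), (75, 3, 79), (78, 6, 79), (82, 5, 83), (87, 5, 88), (90, 4, 91),
  (102, 4, 103), (72, 4, 75), (74, 6, 75), (77, 5, 78), (81, 4, 82), (86, 4, 87), (101, 3, 102), (70, 5, 72),
  (71, 6, 72), (73, 5, 74), (76, 4, 77), (80, 3, 81), (85, 3, 86), (100, 2, 101), (6, 6, 70), (5, 5, 71),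
  (4, 4, 73), (3, 3, 76), (2, 2, 80), (1, 1, 85), (0, 0, 100), (68, 5, 6), (69, 6, 6), (66, 4, 5),
  (63, 3, 4), (54, 1, 3), (59, 2, 3), (39, 0, 2), (65, 4, 68), (67, 6, 68), (62, 3, 66), (53, 1, 63),
  (58, 2, 63), (38, 0, 59), (61, 3, 65), (64, 6, 65), (52, 1, 62), (57, 2, 62), (49, 2, 53), (37, 0, 58),
  (51, 1, 61), (56, 2, 61), (60, 6, 61), (48, 2, 52), (36, 0, 57), (33, 0, 49), (47, 2, 51), (50, 6, 51),
  (35, 0, 56), (55, 6, 56), (32, 0, 48), (45, 3, 48), (31, 0, 47), (44, 3, 47), (46, 6, 47), (34, 6, 35),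
  (29, 3, 32), (28, 3, 31), (30, 6, 31), (42, 4, 44), (43, 6, 44), (23, 2, 29), (22, 2, 28), (26, 4, 28),
  (27, 6, 28), (41, 6, 42), (20, 4, 22), (21, 6, 22), (25, 6, 26), (40, 5, 41), (17, 3, 20), (19, 6, 20),
  (24, 5, 25), (13, 1, 17), (16, 6, 17), (18, 5, 19), (12, 6, 13), (15, 5, 16), (11, 5, 12), (14, 4, 15),
  (10, 4, 11), (9, 3, 10), (8, 2, 9), (7, 0, 8)]

theorem checksE7 : LieChecks chevE7 dataE7 where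
  shape := by decide +kernel
  pack := by decide +kernel
  orient := by decide +kernel
  theta := by decide +kernel
  thetaH := by decide +kernel
  weight := by decide +kernel
  support := by decide +kernel
  decs := by decide +kernel
  cover := by decide +kernel
  base := by decide +kernel
  top := by decide +kernel
  gen := by decide +kernel
  pows := by decide +kernel

end CfsgLib.Chev
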