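import Cfsg.Prelude.Def_ChevE8
import Cfsg.Agent.Lib.Chev.LieCheck

/-!
Tables for type E8 and the kernel check that its datum describes a Lie algebra.
-/

set_option autoImplicit false
set_option maxRecDepth 100000

namespace CfsgLib.Chev

open Cfsg.Lie

/-- Auxiliary tables for type E8. -/
def dataE8 : LieData where
  co := [
  [(-2), (-3), (-4), (-6), (-5), (-4), (-3), (-2)],
  [(-2), (-3), (-4), (-6), (-5), (-4), (-3), (-1)],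
  [(-2), (-3), (-4), (-6), (-5), (-4), (-2), (-1)],
  [(-2), (-3), (-4), (-6), (-5), (-3), (-2), (-1)],
  [(-2), (-3), (-4), (-6), (-4), (-3), (-2), (-1)],
  [(-2), (-3), (-4), (-5), (-4), (-3), (-2), (-1)],
  [(-2), (-3), (-3), (-5), (-4), (-3), (-2), (-1)],
  [(-2), (-2), (-4), (-5), (-4), (-3), (-2), (-1)],
  [(-2), (-2), (-3), (-5), (-4), (-3), (-2), (-1)],
  [(-2), (-2), (-3), (-4), (-4), (-3), (-2), (-1)],
  [(-2), (-2), (-3), (-4), (-3), (-3), (-2), (-1)],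
  [(-2), (-2), (-3), (-4), (-3), (-2), (-2), (-1)],
  [(-2), (-2), (-3), (-4), (-3), (-2), (-1), (-1)],
  [(-2), (-2), (-3), (-4), (-3), (-2), (-1), 0],
  [(-1), (-3), (-3), (-5), (-4), (-3), (-2), (-1)],
  [(-1), (-2), (-3), (-5), (-4), (-3), (-2), (-1)],
  [(-1), (-2), (-3), (-4), (-4), (-3), (-2), (-1)],
  [(-1), (-2), (-3), (-4), (-3), (-3), (-2), (-1)],
  [(-1), (-2), (-3), (-4), (-3), (-2), (-2), (-1)],
  [(-1), (-2), (-3), (-4), (-3), (-2), (-1), (-1)],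
  [(-1), (-2), (-3), (-4), (-3), (-2), (-1), 0],
  [(-1), (-2), (-2), (-4), (-4), (-3), (-2), (-1)],
  [(-1), (-2), (-2), (-4), (-3), (-3), (-2), (-1)],
  [(-1), (-2), (-2), (-4), (-3), (-2), (-2), (-1)],
  [(-1), (-2), (-2), (-4), (-3), (-2), (-1), (-1)],
  [(-1), (-2), (-2), (-4), (-3), (-2), (-1), 0],
  [(-1), (-2), (-2), (-3), (-3), (-3), (-2), (-1)],
  [(-1), (-2), (-2), (-3), (-3), (-2), (-2), (-1)],
  [(-1), (-2), (-2), (-3), (-3), (-2), (-1), (-1)],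
  [(-1), (-2), (-2), (-3), (-3), (-2), (-1), 0],
  [(-1), (-2), (-2), (-3), (-2), (-2), (-2), (-1)],
  [(-1), (-2), (-2), (-3), (-2), (-2), (-1), (-1)],
  [(-1), (-2), (-2), (-3), (-2), (-2), (-1), 0],
  [(-1), (-2), (-2), (-3), (-2), (-1), (-1), (-1)],
  [(-1), (-2), (-2), (-3), (-2), (-1), (-1), 0],
  [(-1), (-2), (-2), (-3), (-2), (-1), 0, 0],
  [(-1), (-1), (-2), (-3), (-3), (-3), (-2), (-1)],
  [(-1), (-1), (-2), (-3), (-3), (-2), (-2), (-1)],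
  [(-1), (-1), (-2), (-3), (-3), (-2), (-1), (-1)],
  [(-1), (-1), (-2), (-3), (-3), (-2), (-1), 0],
  [(-1), (-1), (-2), (-3), (-2), (-2), (-2), (-1)],
  [(-1), (-1), (-2), (-3), (-2), (-2), (-1), (-1)],
  [(-1), (-1), (-2), (-3), (-2), (-2), (-1), 0],
  [(-1), (-1), (-2), (-3), (-2), (-1), (-1), (-1)],
  [(-1), (-1), (-2), (-3), (-2), (-1), (-1), 0],
  [(-1), (-1), (-2), (-3), (-2), (-1), 0, 0],
  [(-1), (-1), (-2), (-2), (-2), (-2), (-2), (-1)],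
  [(-1), (-1), (-2), (-2), (-2), (-2), (-1), (-1)],
  [(-1), (-1), (-2), (-2), (-2), (-2), (-1), 0],
  [(-1), (-1), (-2), (-2), (-2), (-1), (-1), (-1)],
  [(-1), (-1), (-2), (-2), (-2), (-1), (-1), 0],
  [(-1), (-1), (-2), (-2), (-2), (-1), 0, 0],
  [(-1), (-1), (-2), (-2), (-1), (-1), (-1), (-1)],
  [(-1), (-1), (-2), (-2), (-1), (-1), (-1), 0],
  [(-1), (-1), (-2), (-2), (-1), (-1), 0, 0],
  [(-1), (-1), (-2), (-2), (-1), 0, 0, 0],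
  [(-1), (-1), (-1), (-2), (-2), (-2), (-2), (-1)],
  [(-1), (-1), (-1), (-2), (-2), (-2), (-1), (-1)],
  [(-1), (-1), (-1), (-2), (-2), (-2), (-1), 0],
  [(-1), (-1), (-1), (-2), (-2), (-1), (-1), (-1)],
  [(-1), (-1), (-1), (-2), (-2), (-1), (-1), 0],
  [(-1), (-1), (-1), (-2), (-2), (-1), 0, 0],
  [(-1), (-1), (-1), (-2), (-1), (-1), (-1), (-1)],
  [(-1), (-1), (-1), (-2), (-1), (-1), (-1), 0],
  [(-1), (-1), (-1), (-2), (-1), (-1), 0, 0],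
  [(-1), (-1), (-1), (-2), (-1), 0, 0, 0],
  [(-1), (-1), (-1), (-1), (-1), (-1), (-1), (-1)],
  [(-1), (-1), (-1), (-1), (-1), (-1), (-1), 0],
  [(-1), (-1), (-1), (-1), (-1), (-1), 0, 0],
  [(-1), (-1), (-1), (-1), (-1), 0, 0, 0],
  [(-1), (-1), (-1), (-1), 0, 0, 0, 0],
  [(-1), 0, (-1), (-1), (-1), (-1), (-1), (-1)],
  [(-1), 0, (-1), (-1), (-1), (-1), (-1), 0],
  [(-1), 0, (-1), (-1), (-1), (-1), 0, 0],
  [(-1), 0, (-1), (-1), (-1), 0, 0, 0],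
  [(-1), 0, (-1), (-1), 0, 0, 0, 0],
  [(-1), 0, (-1), 0, 0, 0, 0, 0],
  [(-1), 0, 0, 0, 0, 0, 0, 0],
  [0, (-1), (-1), (-2), (-2), (-2), (-2), (-1)],
  [0, (-1), (-1), (-2), (-2), (-2), (-1), (-1)],
  [0, (-1), (-1), (-2), (-2), (-2), (-1), 0],
  [0, (-1), (-1), (-2), (-2), (-1), (-1), (-1)],
  [0, (-1), (-1), (-2), (-2), (-1), (-1), 0],
  [0, (-1), (-1), (-2), (-2), (-1), 0, 0],
  [0, (-1), (-1), (-2), (-1), (-1), (-1), (-1)],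
  [0, (-1), (-1), (-2), (-1), (-1), (-1), 0],
  [0, (-1), (-1), (-2), (-1), (-1), 0, 0],
  [0, (-1), (-1), (-2), (-1), 0, 0, 0],
  [0, (-1), (-1), (-1), (-1), (-1), (-1), (-1)],
  [0, (-1), (-1), (-1), (-1), (-1), (-1), 0],
  [0, (-1), (-1), (-1), (-1), (-1), 0, 0],
  [0, (-1), (-1), (-1), (-1), 0, 0, 0],
  [0, (-1), (-1), (-1), 0, 0, 0, 0],
  [0, (-1), 0, (-1), (-1), (-1), (-1), (-1)],
  [0, (-1), 0, (-1), (-1), (-1), (-1), 0],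
  [0, (-1), 0, (-1), (-1), (-1), 0, 0],
  [0, (-1), 0, (-1), (-1), 0, 0, 0],
  [0, (-1), 0, (-1), 0, 0, 0, 0],
  [0, (-1), 0, 0, 0, 0, 0, 0],
  [0, 0, (-1), (-1), (-1), (-1), (-1), (-1)],
  [0, 0, (-1), (-1), (-1), (-1), (-1), 0],
  [0, 0, (-1), (-1), (-1), (-1), 0, 0],
  [0, 0, (-1), (-1), (-1), 0, 0, 0],
  [0, 0, (-1), (-1), 0, 0, 0, 0],
  [0, 0, (-1), 0, 0, 0, 0, 0],
  [0, 0, 0, (-1), (-1), (-1), (-1), (-1)],
  [0, 0, 0, (-1), (-1), (-1), (-1), 0],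
  [0, 0, 0, (-1), (-1), (-1), 0, 0],
  [0, 0, 0, (-1), (-1), 0, 0, 0],
  [0, 0, 0, (-1), 0, 0, 0, 0],
  [0, 0, 0, 0, (-1), (-1), (-1), (-1)],
  [0, 0, 0, 0, (-1), (-1), (-1), 0],
  [0, 0, 0, 0, (-1), (-1), 0, 0],
  [0, 0, 0, 0, (-1), 0, 0, 0],
  [0, 0, 0, 0, 0, (-1), (-1), (-1)],
  [0, 0, 0, 0, 0, (-1), (-1), 0],
  [0, 0, 0, 0, 0, (-1), 0, 0],
  [0, 0, 0, 0, 0, 0, (-1), (-1)],
  [0, 0, 0, 0, 0, 0, (-1), 0],
  [0, 0, 0, 0, 0, 0, 0, (-1)],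
  [0, 0, 0, 0, 0, 0, 0, 1],
  [0, 0, 0, 0, 0, 0, 1, 0],
  [0, 0, 0, 0, 0, 0, 1, 1],
  [0, 0, 0, 0, 0, 1, 0, 0],
  [0, 0, 0, 0, 0, 1, 1, 0],
  [0, 0, 0, 0, 0, 1, 1, 1],
  [0, 0, 0, 0, 1, 0, 0, 0],
  [0, 0, 0, 0, 1, 1, 0, 0],
  [0, 0, 0, 0, 1, 1, 1, 0],
  [0, 0, 0, 0, 1, 1, 1, 1],
  [0, 0, 0, 1, 0, 0, 0, 0],
  [0, 0, 0, 1, 1, 0, 0, 0],
  [0, 0, 0, 1, 1, 1, 0, 0],
  [0, 0, 0, 1, 1, 1, 1, 0],
  [0, 0, 0, 1, 1, 1, 1, 1],
  [0, 0, 1, 0, 0, 0, 0, 0],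
  [0, 0, 1, 1, 0, 0, 0, 0],
  [0, 0, 1, 1, 1, 0, 0, 0],
  [0, 0, 1, 1, 1, 1, 0, 0],
  [0, 0, 1, 1, 1, 1, 1, 0],
  [0, 0, 1, 1, 1, 1, 1, 1],
  [0, 1, 0, 0, 0, 0, 0, 0],
  [0, 1, 0, 1, 0, 0, 0, 0],
  [0, 1, 0, 1, 1, 0, 0, 0],
  [0, 1, 0, 1, 1, 1, 0, 0],
  [0, 1, 0, 1, 1, 1, 1, 0],
  [0, 1, 0, 1, 1, 1, 1, 1],
  [0, 1, 1, 1, 0, 0, 0, 0],
  [0, 1, 1, 1, 1, 0, 0, 0],
  [0, 1, 1, 1, 1, 1, 0, 0],
  [0, 1, 1, 1, 1, 1, 1, 0],
  [0, 1, 1, 1, 1, 1, 1, 1],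
  [0, 1, 1, 2, 1, 0, 0, 0],
  [0, 1, 1, 2, 1, 1, 0, 0],
  [0, 1, 1, 2, 1, 1, 1, 0],
  [0, 1, 1, 2, 1, 1, 1, 1],
  [0, 1, 1, 2, 2, 1, 0, 0],
  [0, 1, 1, 2, 2, 1, 1, 0],
  [0, 1, 1, 2, 2, 1, 1, 1],
  [0, 1, 1, 2, 2, 2, 1, 0],
  [0, 1, 1, 2, 2, 2, 1, 1],
  [0, 1, 1, 2, 2, 2, 2, 1],
  [1, 0, 0, 0, 0, 0, 0, 0],
  [1, 0, 1, 0, 0, 0, 0, 0],
  [1, 0, 1, 1, 0, 0, 0, 0],
  [1, 0, 1, 1, 1, 0, 0, 0],
  [1, 0, 1, 1, 1, 1, 0, 0],
  [1, 0, 1, 1, 1, 1, 1, 0],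
  [1, 0, 1, 1, 1, 1, 1, 1],
  [1, 1, 1, 1, 0, 0, 0, 0],
  [1, 1, 1, 1, 1, 0, 0, 0],
  [1, 1, 1, 1, 1, 1, 0, 0],
  [1, 1, 1, 1, 1, 1, 1, 0],
  [1, 1, 1, 1, 1, 1, 1, 1],
  [1, 1, 1, 2, 1, 0, 0, 0],
  [1, 1, 1, 2, 1, 1, 0, 0],
  [1, 1, 1, 2, 1, 1, 1, 0],
  [1, 1, 1, 2, 1, 1, 1, 1],
  [1, 1, 1, 2, 2, 1, 0, 0],
  [1, 1, 1, 2, 2, 1, 1, 0],
  [1, 1, 1, 2, 2, 1, 1, 1],
  [1, 1, 1, 2, 2, 2, 1, 0],
  [1, 1, 1, 2, 2, 2, 1, 1],
  [1, 1, 1, 2, 2, 2, 2, 1],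
  [1, 1, 2, 2, 1, 0, 0, 0],
  [1, 1, 2, 2, 1, 1, 0, 0],
  [1, 1, 2, 2, 1, 1, 1, 0],
  [1, 1, 2, 2, 1, 1, 1, 1],
  [1, 1, 2, 2, 2, 1, 0, 0],
  [1, 1, 2, 2, 2, 1, 1, 0],
  [1, 1, 2, 2, 2, 1, 1, 1],
  [1, 1, 2, 2, 2, 2, 1, 0],
  [1, 1, 2, 2, 2, 2, 1, 1],
  [1, 1, 2, 2, 2, 2, 2, 1],
  [1, 1, 2, 3, 2, 1, 0, 0],
  [1, 1, 2, 3, 2, 1, 1, 0],
  [1, 1, 2, 3, 2, 1, 1, 1],
  [1, 1, 2, 3, 2, 2, 1, 0],
  [1, 1, 2, 3, 2, 2, 1, 1],
  [1, 1, 2, 3, 2, 2, 2, 1],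
  [1, 1, 2, 3, 3, 2, 1, 0],
  [1, 1, 2, 3, 3, 2, 1, 1],
  [1, 1, 2, 3, 3, 2, 2, 1],
  [1, 1, 2, 3, 3, 3, 2, 1],
  [1, 2, 2, 3, 2, 1, 0, 0],
  [1, 2, 2, 3, 2, 1, 1, 0],
  [1, 2, 2, 3, 2, 1, 1, 1],
  [1, 2, 2, 3, 2, 2, 1, 0],
  [1, 2, 2, 3, 2, 2, 1, 1],
  [1, 2, 2, 3, 2, 2, 2, 1],
  [1, 2, 2, 3, 3, 2, 1, 0],
  [1, 2, 2, 3, 3, 2, 1, 1],
  [1, 2, 2, 3, 3, 2, 2, 1],
  [1, 2, 2, 3, 3, 3, 2, 1],
  [1, 2, 2, 4, 3, 2, 1, 0],
  [1, 2, 2, 4, 3, 2, 1, 1],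
  [1, 2, 2, 4, 3, 2, 2, 1],
  [1, 2, 2, 4, 3, 3, 2, 1],
  [1, 2, 2, 4, 4, 3, 2, 1],
  [1, 2, 3, 4, 3, 2, 1, 0],
  [1, 2, 3, 4, 3, 2, 1, 1],
  [1, 2, 3, 4, 3, 2, 2, 1],
  [1, 2, 3, 4, 3, 3, 2, 1],
  [1, 2, 3, 4, 4, 3, 2, 1],
  [1, 2, 3, 5, 4, 3, 2, 1],
  [1, 3, 3, 5, 4, 3, 2, 1],
  [2, 2, 3, 4, 3, 2, 1, 0],
  [2, 2, 3, 4, 3, 2, 1, 1],
  [2, 2, 3, 4, 3, 2, 2, 1],
  [2, 2, 3, 4, 3, 3, 2, 1],
  [2, 2, 3, 4, 4, 3, 2, 1],
  [2, 2, 3, 5, 4, 3, 2, 1],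
  [2, 2, 4, 5, 4, 3, 2, 1],
  [2, 3, 3, 5, 4, 3, 2, 1],
  [2, 3, 4, 5, 4, 3, 2, 1],
  [2, 3, 4, 6, 4, 3, 2, 1],
  [2, 3, 4, 6, 5, 3, 2, 1],
  [2, 3, 4, 6, 5, 4, 2, 1],
  [2, 3, 4, 6, 5, 4, 3, 1],
  [2, 3, 4, 6, 5, 4, 3, 2]]
  simples := [162, 141, 135, 130, 126, 123, 121, 120]
  dec := [
  (122, 6, 120), (124, 5, 121), (127, 4, 123), (131, 3, 126), (136, 2, 130), (142, 1, 130), (163, 0, 135), (125, 5, 122),
  (128, 4, 124), (132, 3, 127), (137, 2, 131), (143, 1, 131), (147, 1, 136), (164, 0, 136), (129, 4, 125), (133, 3, 128),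
  (138, 2, 132), (144, 1, 132), (148, 1, 137), (165, 0, 137), (169, 0, 147), (134, 3, 129), (139, 2, 133), (145, 1, 133),
  (149, 1, 138), (152, 3, 148), (166, 0, 138), (170, 0, 148), (140, 2, 134), (146, 1, 134), (150, 1, 139), (153, 3, 149),
  (167, 0, 139), (171, 0, 149), (174, 0, 152), (151, 1, 140), (154, 3, 150), (156, 4, 153), (168, 0, 140), (172, 0, 150),
  (175, 0, 153), (184, 2, 174), (155, 3, 151), (157, 4, 154), (173, 0, 151), (176, 0, 154), (178, 0, 156), (185, 2, 175),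
  (158, 4, 155), (159, 5, 157), (177, 0, 155), (179, 0, 157), (186, 2, 176), (188, 2, 178), (160, 5, 158), (180, 0, 158),
  (181, 0, 159), (187, 2, 177), (189, 2, 179), (194, 3, 188), (161, 6, 160), (182, 0, 160), (190, 2, 180), (191, 2, 181),
  (195, 3, 189), (204, 1, 194), (183, 0, 161), (192, 2, 182), (196, 3, 190), (197, 3, 191), (205, 1, 195), (193, 2, 183),
  (198, 3, 192), (200, 4, 197), (206, 1, 196), (207, 1, 197), (199, 3, 193), (201, 4, 198), (208, 1, 198), (210, 1, 200),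
  (202, 4, 199), (209, 1, 199), (211, 1, 201), (214, 3, 210), (203, 5, 202), (212, 1, 202), (215, 3, 211), (219, 2, 214),
  (213, 1, 203), (216, 3, 212), (220, 2, 215), (226, 0, 219), (217, 3, 213), (221, 2, 216), (227, 0, 220), (218, 4, 217),
  (222, 2, 217), (228, 0, 221), (223, 2, 218), (229, 0, 222), (224, 3, 223), (230, 0, 223), (225, 1, 224), (231, 0, 224),
  (232, 2, 231), (233, 0, 225), (234, 1, 232), (235, 3, 234), (236, 4, 235), (237, 5, 236), (238, 6, 237), (239, 7, 238)]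
  gen := [
  (246, 7, 247), (245, 6, 246), (244, 5, 245), (243, 4, 244), (242, 3, 243), (240, 1, 242), (241, 2, 242), (239, 2, 240),
  (233, 0, 241), (232, 0, 239), (238, 3, 239), (231, 3, 232), (237, 4, 238), (226, 2, 231), (230, 4, 231), (236, 5, 237),
  (225, 4, 226), (229, 5, 230), (235, 6, 236), (221, 3, 225), (224, 5, 225), (228, 6, 229), (234, 7, 235), (211, 1, 221),
  (220, 5, 221), (223, 6, 224), (227, 7, 228), (210, 5, 211), (217, 4, 220), (219, 6, 220), (222, 7, 223), (207, 4, 210),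
  (209, 6, 210), (216, 6, 217), (218, 7, 219), (201, 3, 207), (206, 6, 207), (208, 7, 209), (214, 5, 216), (215, 7, 216),
  (191, 2, 201), (200, 6, 201), (204, 5, 206), (205, 7, 206), (213, 7, 214), (169, 0, 191), (190, 6, 191), (198, 5, 200),
  (199, 7, 200), (203, 7, 204), (212, 6, 213), (168, 6, 169), (188, 5, 190), (189, 7, 190), (195, 4, 198), (197, 7, 198),
  (202, 6, 203), (166, 5, 168), (167, 7, 168), (185, 4, 188), (187, 7, 188), (194, 7, 195), (196, 6, 197), (163, 4, 166),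
  (165, 7, 166), (181, 3, 185), (184, 7, 185), (186, 6, 187), (193, 6, 194), (159, 3, 163), (162, 7, 163), (164, 6, 165),
  (176, 1, 181), (180, 7, 181), (183, 6, 184), (192, 5, 193), (148, 1, 159), (154, 2, 159), (158, 7, 159), (161, 6, 162),
  (175, 7, 176), (179, 6, 180), (182, 5, 183), (142, 2, 148), (147, 7, 148), (153, 7, 154), (157, 6, 158), (160, 5, 161),
  (174, 6, 175), (178, 5, 179), (137, 3, 142), (141, 7, 142), (146, 6, 147), (152, 6, 153), (156, 5, 157), (173, 5, 174),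
  (177, 4, 178), (133, 4, 137), (136, 7, 137), (140, 6, 141), (145, 5, 146), (151, 5, 152), (155, 4, 156), (172, 4, 173),
  (130, 5, 133), (132, 7, 133), (135, 6, 136), (139, 5, 140), (144, 4, 145), (150, 4, 151), (171, 3, 172), (128, 6, 130),
  (129, 7, 130), (131, 6, 132), (134, 5, 135), (138, 4, 139), (143, 3, 144), (149, 3, 150), (170, 2, 171), (7, 7, 128),
  (6, 6, 129), (5, 5, 131), (4, 4, 134), (3, 3, 138), (2, 2, 143), (1, 1, 149), (0, 0, 170), (126, 6, 7),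
  (127, 7, 7), (124, 5, 6), (121, 4, 5), (117, 3, 4), (106, 1, 3), (112, 2, 3), (85, 0, 2), (123, 5, 126),
  (125, 7, 126), (120, 4, 124), (116, 3, 121), (105, 1, 117), (111, 2, 117), (84, 0, 112), (119, 4, 123), (122, 7, 123),
  (115, 3, 120), (104, 1, 116), (110, 2, 116), (100, 2, 105), (83, 0, 111), (114, 3, 119), (118, 7, 119), (103, 1, 115),
  (109, 2, 115), (99, 2, 104), (82, 0, 110), (78, 0, 100), (102, 1, 114), (108, 2, 114), (113, 7, 114), (98, 2, 103),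
  (81, 0, 109), (77, 0, 99), (95, 3, 99), (97, 2, 102), (101, 7, 102), (80, 0, 108), (107, 7, 108), (76, 0, 98),
  (94, 3, 98), (73, 3, 77), (75, 0, 97), (93, 3, 97), (96, 7, 97), (79, 7, 80), (72, 3, 76), (91, 4, 94),
  (63, 2, 73), (71, 3, 75), (74, 7, 75), (90, 4, 93), (92, 7, 93), (62, 2, 72), (69, 4, 72), (61, 2, 71),
  (68, 4, 71), (70, 7, 71), (88, 5, 90), (89, 7, 90), (59, 4, 62), (58, 4, 61), (60, 7, 61), (66, 5, 68),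
  (67, 7, 68), (87, 7, 88), (53, 3, 59), (52, 3, 58), (56, 5, 58), (57, 7, 58), (65, 7, 66), (86, 6, 87),
  (43, 1, 53), (42, 1, 52), (50, 5, 52), (51, 7, 52), (55, 7, 56), (64, 6, 65), (40, 5, 42), (41, 7, 42),
  (47, 4, 50), (49, 7, 50), (54, 6, 55), (37, 4, 40), (39, 7, 40), (46, 7, 47), (48, 6, 49), (33, 3, 37),
  (36, 7, 37), (38, 6, 39), (45, 6, 46), (28, 2, 33), (32, 7, 33), (35, 6, 36), (44, 5, 45), (21, 0, 28),
  (27, 7, 28), (31, 6, 32), (34, 5, 35), (20, 7, 21), (26, 6, 27), (30, 5, 31), (19, 6, 20), (25, 5, 26),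
  (29, 4, 30), (18, 5, 19), (24, 4, 25), (17, 4, 18), (23, 3, 24), (16, 3, 17), (22, 1, 23), (14, 1, 16),
  (15, 2, 16), (13, 2, 14), (12, 3, 13), (11, 4, 12), (10, 5, 11), (9, 6, 10), (8, 7, 9)]

-- checked one after another, to bound peak memory
set_option Elab.async false

theorem checksE8_shape1 : ((List.range chevE8.nroots).take 60).all (rowShapeOK chevE8) = true := by decide +kernel

theorem checksE8_shape2 : (((List.range chevE8.nroots).drop 60).take 60).all (rowShapeOK chevE8) = true := by decide +kernel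

theorem checksE8_shape3 : (((List.range chevE8.nroots).drop (60 + 60)).take 60).all (rowShapeOK chevE8) = true := by decide +kernel

theorem checksE8_shape4 : ((List.range chevE8.nroots).drop (60 + 60 + 60)).all (rowShapeOK chevE8) = true := by decide +kernel

theorem checksE8_shape : shapeOK chevE8 = true := by
  rw [shapeOK, ← List.take_append_drop 60 (List.range chevE8.nroots), List.all_append, ← List.take_append_drop 60 ((List.range chevE8.nroots).drop 60),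
    List.all_append, List.drop_drop, ← List.take_append_drop 60 ((List.range chevE8.nroots).drop (60 + 60)), List.all_append,
    List.drop_drop, checksE8_shape1, checksE8_shape2, checksE8_shape3, checksE8_shape4]
  rfl

theorem checksE8_pack : packOK chevE8 = true := by decide +kernel

theorem checksE8_orient : halfOK chevE8 dataE8 = true := by decide +kernel

theorem checksE8_theta : allR (thetaRow chevE8) (upto chevE8.nroots) = true := by decide +kernel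

theorem checksE8_thetaH : thetaCartan chevE8 = true := by decide +kernel

theorem checksE8_weight : allR (weightRow chevE8) (upto chevE8.nroots) = true := by decide +kernel

theorem checksE8_support : supportOK chevE8 dataE8 = true := by decide +kernel

theorem checksE8_decs : allR (decStep chevE8 dataE8) dataE8.dec = true := by decide +kernel

theorem checksE8_cover : decCover chevE8 dataE8 = true := by decide +kernel

theorem checksE8_base : baseOK chevE8 dataE8 = true := by decide +kernel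

theorem checksE8_top : topOK chevE8 = true := by decide +kernel

theorem checksE8_gen : genOK chevE8 dataE8 dataE8.gen [chevE8.rank + (chevE8.nroots - 1)] = true := by decide +kernel

theorem checksE8_pows : allR (powRow chevE8) (upto chevE8.nroots) = true := by decide +kernel

theorem checksE8 : LieChecks chevE8 dataE8 :=
  ⟨checksE8_shape, checksE8_pack, checksE8_orient, checksE8_theta, checksE8_thetaH, checksE8_weight, checksE8_support, checksE8_decs, checksE8_cover, checksE8_base, checksE8_top, checksE8_gen, checksE8_pows⟩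

end CfsgLib.Chev
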