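import Cfsg.Prelude.Def_ChevF4
import Cfsg.Agent.Lib.Chev.LieCheck

/-!
Tables for type F4 and the kernel check that its datum describes a Lie algebra.
-/

set_option autoImplicit false
set_option maxRecDepth 100000

namespace CfsgLib.Chev

open Cfsg.Lie

/-- Auxiliary tables for type F4. -/
def dataF4 : LieData where
  co := [
  [(-2), (-4), (-3), (-2)],
  [(-2), (-4), (-3), (-1)],
  [(-2), (-4), (-2), (-1)],
  [(-2), (-3), (-2), (-1)],
  [(-2), (-2), (-2), (-1)],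
  [(-2), (-2), (-1), (-1)],
  [(-2), (-2), (-1), 0],
  [(-1), (-3), (-2), (-1)],
  [(-1), (-2), (-2), (-1)],
  [(-1), (-2), (-1), (-1)],
  [(-1), (-2), (-1), 0],
  [(-1), (-1), (-1), (-1)],
  [(-1), (-1), (-1), 0],
  [(-1), (-1), 0, 0],
  [(-1), 0, 0, 0],
  [0, (-2), (-2), (-1)],
  [0, (-2), (-1), (-1)],
  [0, (-2), (-1), 0],
  [0, (-1), (-1), (-1)],
  [0, (-1), (-1), 0],
  [0, (-1), 0, 0],
  [0, 0, (-1), (-1)],
  [0, 0, (-1), 0],
  [0, 0, 0, (-1)],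
  [0, 0, 0, 1],
  [0, 0, 1, 0],
  [0, 0, 1, 1],
  [0, 1, 0, 0],
  [0, 1, 1, 0],
  [0, 1, 1, 1],
  [0, 2, 1, 0],
  [0, 2, 1, 1],
  [0, 2, 2, 1],
  [1, 0, 0, 0],
  [1, 1, 0, 0],
  [1, 1, 1, 0],
  [1, 1, 1, 1],
  [1, 2, 1, 0],
  [1, 2, 1, 1],
  [1, 2, 2, 1],
  [1, 3, 2, 1],
  [2, 2, 1, 0],
  [2, 2, 1, 1],
  [2, 2, 2, 1],
  [2, 3, 2, 1],
  [2, 4, 2, 1],
  [2, 4, 3, 1],
  [2, 4, 3, 2]]
  simples := [33, 27, 25, 24]
  dec := [
  (26, 2, 24), (28, 1, 25), (34, 0, 27), (29, 1, 26), (30, 1, 28), (35, 0, 28), (31, 1, 29), (36, 0, 29),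
  (37, 0, 30), (32, 2, 31), (38, 0, 31), (41, 0, 37), (39, 0, 32), (42, 0, 38), (40, 1, 39), (43, 0, 39),
  (44, 0, 40), (45, 1, 44), (46, 2, 45), (47, 3, 46)]
  gen := [
  (50, 3, 51), (49, 2, 50), (48, 1, 49), (44, 0, 48), (47, 1, 48), (43, 1, 44), (46, 2, 47), (36, 0, 43),
  (42, 2, 43), (45, 3, 46), (35, 2, 36), (40, 1, 42), (41, 3, 42), (33, 1, 35), (34, 3, 35), (39, 3, 40),
  (30, 1, 33), (32, 3, 33), (38, 2, 39), (28, 2, 30), (29, 3, 30), (31, 2, 32), (37, 1, 38), (3, 3, 28),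
  (2, 2, 29), (1, 1, 31), (0, 0, 37), (26, 2, 3), (27, 3, 3), (24, 1, 2), (18, 0, 1), (23, 1, 26),
  (25, 3, 26), (17, 0, 24), (16, 0, 23), (21, 1, 23), (22, 3, 23), (14, 1, 16), (15, 3, 16), (20, 3, 21),
  (10, 0, 14), (13, 3, 14), (19, 2, 20), (9, 3, 10), (12, 2, 13), (8, 2, 9), (11, 1, 12), (7, 1, 8),
  (6, 1, 7), (5, 2, 6), (4, 3, 5)]

theorem checksF4 : LieChecks chevF4 dataF4 where
  shape := by decide +kernel
  pack := by decide +kernel
  orient := by decide +kernel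
  theta := by decide +kernel
  thetaH := by decide +kernel
  weight := by decide +kernel
  support := by decide +kernel
  decs := by decide +kernel
  cover := by decide +kernel
  base := by decide +kernel
  top := by decide +kernel
  gen := by decide +kernel
  pows := by decide +kernel

end CfsgLib.Chev
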