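import Cfsg.Prelude.Def_ChevG2
import Cfsg.Agent.Lib.Chev.LieCheck

/-!
Tables for type G2 and the kernel check that its datum describes a Lie algebra.
-/

set_option autoImplicit false
set_option maxRecDepth 100000

namespace CfsgLib.Chev

open Cfsg.Lie

/-- Auxiliary tables for type G2. -/
def dataG2 : LieData where
  co := [
  [(-3), (-2)],
  [(-3), (-1)],
  [(-2), (-1)],
  [(-1), (-1)],
  [(-1), 0],
  [0, (-1)],
  [0, 1],
  [1, 0],
  [1, 1],
  [2, 1],
  [3, 1],
  [3, 2]]
  simples := [7, 6]
  dec := [
  (8, 0, 6), (9, 0, 8), (10, 0, 9), (11, 1, 10)]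
  gen := [
  (12, 1, 13), (11, 0, 12), (10, 0, 11), (8, 0, 10), (9, 1, 10), (1, 1, 8), (0, 0, 9), (6, 0, 1),
  (7, 1, 1), (5, 1, 6), (4, 0, 5), (3, 0, 4), (2, 1, 3)]

theorem checksG2 : LieChecks chevG2 dataG2 where
  shape := by decide +kernel
  pack := by decide +kernel
  orient := by decide +kernel
  theta := by decide +kernel
  thetaH := by decide +kernel
  weight := by decide +kernel
  support := by decide +kernel
  decs := by decide +kernel
  cover := by decide +kernel
  base := by decide +kernel
  top := by decide +kernel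
  gen := by decide +kernel
  pows := by decide +kernel

end CfsgLib.Chev
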