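import Mathlib
import Cfsg.Agent.Lib.Chev.TwistIso
import Cfsg.Agent.Lib.Chev.TwistWeyl
import Cfsg.Agent.Lib.Chev.ModWord

/-!
Two generators of a Chevalley group: the general criteria.

A generator `h * x_α(1)`, whose two factors commute and have coprime orders, gives both factors;
conjugation by a monomial element and the commutator formula then fill all root subgroups.
-/

set_option autoImplicit false
set_option maxHeartbeats 1600000
set_option maxRecDepth 100000
set_option linter.unusedSectionVars false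

namespace CfsgLib.Chev

open Cfsg.Lie

/-- Validity of a derivation of root subgroups: a step is either `(0, a, _, d)`, the word sends `a`
to `d`, or `(1, a, b, d)`, the commutator of `a` and `b` is the single term `d`. -/
noncomputable def genDerivOK (D : ChevalleyDatum) (sd : StructData) (l : List ℕ) :
    List (ℕ × ℕ × ℕ × ℕ) → List ℕ → Bool
  | [], _ => true
  | s :: st, known =>
    (if s.1 = 0 then decide (s.2.1 ∈ known ∧ wordApp sd l s.2.1 = s.2.2.2)
    else decide (s.2.1 ∈ known ∧ s.2.2.1 ∈ known ∧ s.2.2.1 ≠ s.2.1 ∧ s.2.2.1 ≠ fneg D s.2.1 ∧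
      (fterms D s.2.1 s.2.2.1 = [(s.2.2.2, 1, 1, 1)] ∨
        fterms D s.2.1 s.2.2.1 = [(s.2.2.2, -1, 1, 1)]) ∧ s.2.2.2 < D.nroots)) &&
    genDerivOK D sd l st (s.2.2.2 :: known)

/-- The roots reached by a derivation. -/
def genDerivRoots (st : List (ℕ × ℕ × ℕ × ℕ)) (known : List ℕ) : List ℕ := known ++ st.map fun s => s.2.2.2

/-- The iterated image of a root. -/
noncomputable def wordIter (sd : StructData) (l : List ℕ) : ℕ → ℕ → ℕ
  | 0, r => r
  | k + 1, r => wordApp sd l (wordIter sd l k r)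

namespace Good

variable {D : ChevalleyDatum} (g : Good D) {F : Type*} [Field F]

/-- The whole root subgroup of `r` lies in `M`. -/
def FullRoot (M : Subgroup (GL D.Idx F)) (r : ℕ) : Prop :=
  r < D.nroots ∧ ∀ t : F, g.xG r t ∈ M

lemma fullRoot_of_run (hc : HasComm D) {dat : LieData} {sd : StructData} (hl : LieChecks D dat)
    (hs : StructChecks D dat sd) (l : List (Fin D.rank)) {M : Subgroup (GL D.Idx F)}
    (hn : g.wordN l ∈ M) :
    ∀ (st : List (ℕ × ℕ × ℕ × ℕ)) (known : List ℕ),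
      genDerivOK D sd (l.map Fin.val) st known = true → (∀ r ∈ known, g.FullRoot M r) →
      ∀ r ∈ genDerivRoots st known, g.FullRoot M r := by
  intro st
  induction st with
  | nil => intro known _ hk r hr; exact hk r (by simpa [genDerivRoots] using hr)
  | cons s st ih =>
    intro known h hk r hr
    simp only [genDerivOK, Bool.and_eq_true] at h
    obtain ⟨h1, h2⟩ := h
    have hd : g.FullRoot M s.2.2.2 := by
      split_ifs at h1 with h0
      · simp only [decide_eq_true_eq] at h1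
        obtain ⟨ha, he⟩ := h1
        obtain ⟨hlt, hfull⟩ := hk _ ha
        set a : Fin D.nroots := ⟨s.2.1, hlt⟩
        have hval : (g.wperm l a).val = s.2.2.2 := by rw [g.wperm_tab hl hs l a]; exact he
        refine ⟨hval ▸ (g.wperm l a).2, fun t => ?_⟩
        obtain ⟨c, hcc⟩ := g.acts_wordN (F := F) l a
        have h3 := hcc (((c⁻¹ : Fˣ) : F) * t)
        rw [← mul_assoc, ← Units.val_mul, mul_inv_cancel, Units.val_one, one_mul, hval] at h3
        rw [← h3]
        exact mul_mem (mul_mem hn (hfull _)) (inv_mem hn)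
      · simp only [decide_eq_true_eq] at h1
        obtain ⟨ha, hb, hne, hneg, hterm, hlt⟩ := h1
        obtain ⟨halt, hA⟩ := hk _ ha
        obtain ⟨hblt, hB⟩ := hk _ hb
        refine ⟨hlt, fun t => ?_⟩
        have key : ∀ (c : ℤ), fterms D s.2.1 s.2.2.1 = [(s.2.2.2, c, 1, 1)] →
            g.xG s.2.2.2 ((c : F) * t) ∈ M := by
          intro c hc'
          have h3 := g.xG_conj hc (r := s.2.2.1) (s := s.2.1) hblt halt hne
            (CfsgLib.Chev.neg_eq g.lie.pack halt ▸ hneg) t (1 : F)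
          rw [← g.fterms_eq halt hblt, hc'] at h3
          simp only [List.map_cons, List.map_nil, List.prod_cons, List.prod_nil, mul_one, pow_one] at h3
          rw [← inv_mul_cancel_left (g.xG s.2.2.1 t) (g.xG s.2.2.2 _), ← h3]
          exact mul_mem (inv_mem (hB t)) (mul_mem (mul_mem (hA 1) (hB t)) (inv_mem (hA 1)))
        rcases hterm with h4 | h4
        · simpa using key 1 h4
        · have h5 := key (-1) h4
          have h6 := inv_mem h5
          rw [g.xG_inv] at h6
          simpa using h6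
    refine ih (s.2.2.2 :: known) h2 ?_ r ?_
    · intro r hr
      rcases List.mem_cons.1 hr with rfl | hr
      · exact hd
      · exact hk r hr
    · simp only [genDerivRoots, List.mem_append, List.map_cons, List.mem_cons] at hr ⊢
      tauto

/-- A subgroup with all root subgroups is everything. -/
lemma group_le_of_fullRoot {M : Subgroup (GL D.Idx F)} (h : ∀ r, r < D.nroots → g.FullRoot M r) :
    D.group F ≤ M := by
  refine (Subgroup.closure_le _).2 ?_
  rintro x ⟨r, t, hx⟩
  have : x = g.xG r t := Units.ext (by rw [hx, g.coe_xG]; simp [ChevalleyDatum.x])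
  rw [this]
  exact (h r r.2).2 t

/-- Passing to generators inside the group. -/
lemma exists_pair_of_closure {a b : GL D.Idx F} (ha : a ∈ D.group F) (hb : b ∈ D.group F)
    (h : D.group F ≤ Subgroup.closure ({a, b} : Set (GL D.Idx F))) :
    ∃ a b : ↥(D.group F), Subgroup.closure ({a, b} : Set ↥(D.group F)) = ⊤ := by
  refine ⟨⟨a, ha⟩, ⟨b, hb⟩, eq_top_iff.2 fun x _ => ?_⟩
  have hx := h x.2
  rw [show ({a, b} : Set (GL D.Idx F)) = (D.group F).subtype '' {⟨a, ha⟩, ⟨b, hb⟩} by
    simp [Set.image_insert_eq], ← MonoidHom.map_closure] at hx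
  obtain ⟨y, hy, he⟩ := hx
  obtain rfl : y = x := Subtype.ext he
  exact hy

include g

lemma nG_iter_conj {dat : LieData} {sd : StructData} (hl : LieChecks D dat)
    (hs : StructChecks D dat sd) (l : List (Fin D.rank)) {M : Subgroup (GL D.Idx F)}
    (hn : g.wordN l ∈ M) {r : ℕ} (hr : r < D.nroots) {t : F} (ht : t ≠ 0) (hm : g.xG r t ∈ M) :
    ∀ k, wordIter sd (l.map Fin.val) k r < D.nroots ∧
      ∃ u : F, u ≠ 0 ∧ g.xG (wordIter sd (l.map Fin.val) k r) u ∈ M := by
  intro k
  induction k with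
  | zero => exact ⟨hr, t, ht, hm⟩
  | succ k ih =>
    obtain ⟨hlt, u, hu, hmu⟩ := ih
    set a : Fin D.nroots := ⟨_, hlt⟩
    have hval : (g.wperm l a).val = wordIter sd (l.map Fin.val) (k + 1) r := by
      rw [g.wperm_tab hl hs l a]; rfl
    obtain ⟨c, hcc⟩ := g.acts_wordN (F := F) l a
    refine ⟨hval ▸ (g.wperm l a).2, (c : F) * u, mul_ne_zero c.ne_zero hu, ?_⟩
    rw [← hval, ← hcc u]
    exact mul_mem (mul_mem hn hmu) (inv_mem hn)

lemma hG_pow_card [Fintype F] {r : ℕ} (hr : r < D.nroots) (c : Fˣ) :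
    (g.hG r c : GL D.Idx F) ^ (Fintype.card F - 1) = 1 := by
  classical
  rw [← g.torHom_pow_coroot hr, ← map_pow]
  refine (map_eq_one_iff_of_eq (g := g) ?_)
  funext i
  show (c ^ corootCo D r i) ^ (Fintype.card F - 1) = 1
  rw [← Fintype.card_units]
  exact pow_card_eq_one
where
  map_eq_one_iff_of_eq (g : Good D) {c : Fin D.rank → Fˣ} (h : c = 1) : torHom D F c = 1 := by
    rw [h, map_one]

lemma hG_zpow_mem {r : ℕ} (hr : r < D.nroots) {M : Subgroup (GL D.Idx F)} {z : Fˣ}
    (hM : g.hG r z ∈ M) (i : ℕ) : g.hG r (z ^ i) ∈ M := by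
  have : g.hG r (z ^ i) = (g.hG r z : GL D.Idx F) ^ i := by
    rw [← g.torHom_pow_coroot hr, ← g.torHom_pow_coroot hr, ← map_pow]
    congr 1
    funext j
    show (z ^ i) ^ corootCo D r j = (z ^ corootCo D r j) ^ i
    rw [← zpow_natCast z i, ← zpow_natCast (z ^ corootCo D r j) i, ← _root_.zpow_mul,
      ← _root_.zpow_mul, mul_comm]
  rw [this]
  exact pow_mem hM i

lemma xG_pow_eq (r : ℕ) (t : F) (i : ℕ) : (g.xG r t : GL D.Idx F) ^ i = g.xG r ((i : F) * t) := by
  induction i with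
  | zero => rw [pow_zero, Nat.cast_zero, zero_mul, g.xG_zero]
  | succ i ih => rw [pow_succ, ih, g.xG_add, Nat.cast_succ, add_mul, one_mul]

/-- The two commuting factors of coprime orders. -/
lemma mem_of_torus_mul_root [Fintype F] {ν α : ℕ} (hν : ν < D.nroots) (hα : α < D.nroots) (z : Fˣ)
    (hp : pair D ν α = 0) {M : Subgroup (GL D.Idx F)} (h : g.hG ν z * g.xG α (1 : F) ∈ M) :
    g.hG ν z ∈ M ∧ g.xG α (1 : F) ∈ M := by
  have hcomm : Commute (g.hG ν z : GL D.Idx F) (g.xG α 1) := by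
    have e := g.hG_conj_xG (r := ν) hα z (1 : F)
    rw [hp, zpow_zero, Units.val_one, one_mul, mul_inv_eq_iff_eq_mul] at e
    exact e
  have h1 := pow_mem h (Fintype.card F - 1)
  rw [hcomm.mul_pow, g.hG_pow_card hν, one_mul, g.xG_pow_eq, mul_one,
    Nat.cast_sub Fintype.card_pos, FiniteField.cast_card_eq_zero, Nat.cast_one, zero_sub] at h1
  have h2 : g.xG α (1 : F) ∈ M := by
    have := inv_mem h1
    rwa [g.xG_inv, _root_.neg_neg] at this
  refine ⟨?_, h2⟩
  have := mul_mem h (inv_mem h2)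
  rwa [mul_inv_cancel_right] at this

/-- A non-zero element and the powers of a torus element fill a root subgroup. -/
lemma fullRoot_of_torus [Fintype F] {ν r : ℕ} (hν : ν < D.nroots) (hr : r < D.nroots) {z : Fˣ}
    (hz : ∀ c : Fˣ, ∃ i : ℕ, z ^ i = c) {M : Subgroup (GL D.Idx F)} (hh : g.hG ν z ∈ M) {t : F}
    (ht : t ≠ 0) (hm : g.xG r t ∈ M)
    (hp : pair D ν r = 1 ∨ pair D ν r = -1 ∨ pair D ν r = 2 ∨ pair D ν r = -2) : g.FullRoot M r := by
  have hall : ∀ c : Fˣ, g.xG r (((c ^ pair D ν r : Fˣ) : F) * t) ∈ M := by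
    intro c
    obtain ⟨i, rfl⟩ := hz c
    rw [← g.hG_conj_xG hr]
    exact mul_mem (mul_mem (g.hG_zpow_mem hν hh i) hm) (inv_mem (g.hG_zpow_mem hν hh i))
  have hsq : ∀ c : F, g.xG r (c ^ 2 * t) ∈ M := by
    intro c
    by_cases hc : c = 0
    · rw [hc, zero_pow two_ne_zero, zero_mul, g.xG_zero]; exact one_mem _
    · set u := Units.mk0 c hc
      obtain ⟨w, hw⟩ : ∃ w : Fˣ, w ^ pair D ν r = u ^ 2 := by
        rcases hp with e | e | e | e <;> rw [e]
        · exact ⟨u ^ 2, zpow_one _⟩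
        · exact ⟨(u ^ 2)⁻¹, by rw [zpow_neg, zpow_one, inv_inv]⟩
        · exact ⟨u, zpow_natCast u 2⟩
        · exact ⟨u⁻¹, by rw [zpow_neg, inv_zpow, inv_inv]; exact zpow_natCast u 2⟩
      have := hall w
      rwa [hw, Units.val_pow_eq_pow_val, Units.val_mk0] at this
  refine ⟨hr, fun s => ?_⟩
  by_cases h2 : ringChar F = 2
  · obtain ⟨d, hd⟩ := FiniteField.isSquare_of_char_two h2 (s / t)
    have := hsq d
    rwa [sq, ← hd, div_mul_cancel₀ _ ht] at this
  · have h2' : (2 : F) ≠ 0 := Ring.two_ne_zero h2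
    have h4 := mul_mem (hsq ((s / t + 1) / 2)) (inv_mem (hsq ((s / t - 1) / 2)))
    rw [g.xG_inv, g.xG_add] at h4
    have e : ((s / t + 1) / 2) ^ 2 * t + -(((s / t - 1) / 2) ^ 2 * t) = s := by
      field_simp
      ring
    rwa [e] at h4

/-- One orbit: `hG ν z * x_α(1)` and a monomial element. -/
theorem exists_two_of_orbit [Fintype F] (hc : HasComm D) {dat : LieData} {sd : StructData}
    (hl : LieChecks D dat) (hs : StructChecks D dat sd) (l : List (Fin D.rank))
    (ν α k : ℕ) (st : List (ℕ × ℕ × ℕ × ℕ)) (hν : ν < D.nroots) (hα : α < D.nroots)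
    (h0 : pair D ν α = 0)
    (hk : pair D ν (wordIter sd (l.map Fin.val) k α) = 1 ∨
      pair D ν (wordIter sd (l.map Fin.val) k α) = -1)
    (hok : genDerivOK D sd (l.map Fin.val) st [wordIter sd (l.map Fin.val) k α] = true)
    (hall : ∀ r : Fin D.nroots, r.val ∈ genDerivRoots st [wordIter sd (l.map Fin.val) k α]) :
    ∃ a b : ↥(D.group F), Subgroup.closure ({a, b} : Set ↥(D.group F)) = ⊤ := by
  obtain ⟨z, hz⟩ := IsCyclic.exists_monoid_generator (α := Fˣ)
  have hz' : ∀ c : Fˣ, ∃ i : ℕ, z ^ i = c := fun c => (Submonoid.mem_powers_iff c z).1 (hz c)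
  have hn : g.wordN (F := F) l ∈ D.group F := g.monomial_le_group (g.wordN_mem l)
  refine exists_pair_of_closure (a := g.hG ν z * g.xG α 1) (b := g.wordN l)
    (mul_mem (g.diagonal_le_group (g.hG_mem hν z)) (g.xG_mem_group hα 1)) hn ?_
  set M := Subgroup.closure ({g.hG ν z * g.xG α 1, g.wordN l} : Set (GL D.Idx F))
  obtain ⟨hh, hx⟩ := g.mem_of_torus_mul_root hν hα z h0
    (Subgroup.subset_closure (Set.mem_insert _ _) : g.hG ν z * g.xG α (1 : F) ∈ M)
  have hnM : g.wordN (F := F) l ∈ M :=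
    Subgroup.subset_closure (Set.mem_insert_of_mem _ (Set.mem_singleton _))
  obtain ⟨hlt, u, hu, hmu⟩ := g.nG_iter_conj hl hs l hnM hα one_ne_zero hx k
  have hγ := g.fullRoot_of_torus hν hlt hz' hh hu hmu (hk.elim Or.inl fun e => Or.inr (Or.inl e))
  exact g.group_le_of_fullRoot fun r hr => g.fullRoot_of_run hc hl hs l hnM st _ hok
    (fun r hr => List.mem_singleton.1 hr ▸ hγ) r (hall ⟨r, hr⟩)

/-- Two orbits, at least three elements in the field: `hG ν z * x_α(1)` and `x_β(1) * n`. -/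
theorem exists_two_of_orbits [Fintype F] (hc : HasComm D) (hq : 3 ≤ Fintype.card F) {dat : LieData}
    {sd : StructData} (hl : LieChecks D dat) (hs : StructChecks D dat sd) (l : List (Fin D.rank))
    (ν α β β' k : ℕ) (st : List (ℕ × ℕ × ℕ × ℕ)) (hν : ν < D.nroots) (hα : α < D.nroots)
    (hβ : β < D.nroots) (hβ' : β' < D.nroots) (hββ' : wordApp sd (l.map Fin.val) β' = β)
    (h0 : pair D ν α = 0) (h1 : pair D ν β = 1 ∨ pair D ν β = -1)
    (h2 : pair D ν β' = 1 ∨ pair D ν β' = -1)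
    (hk : pair D ν (wordIter sd (l.map Fin.val) k α) = 1 ∨
      pair D ν (wordIter sd (l.map Fin.val) k α) = -1 ∨
      pair D ν (wordIter sd (l.map Fin.val) k α) = 2 ∨
      pair D ν (wordIter sd (l.map Fin.val) k α) = -2)
    (hok : genDerivOK D sd (l.map Fin.val) st [wordIter sd (l.map Fin.val) k α, β] = true)
    (hall : ∀ r : Fin D.nroots, r.val ∈ genDerivRoots st [wordIter sd (l.map Fin.val) k α, β]) :
    ∃ a b : ↥(D.group F), Subgroup.closure ({a, b} : Set ↥(D.group F)) = ⊤ := by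
  obtain ⟨z, hz⟩ := IsCyclic.exists_monoid_generator (α := Fˣ)
  have hz' : ∀ c : Fˣ, ∃ i : ℕ, z ^ i = c := fun c => (Submonoid.mem_powers_iff c z).1 (hz c)
  have hz1 : z ≠ 1 := by
    intro e
    have : Subsingleton Fˣ := ⟨fun a b => by
      obtain ⟨i, rfl⟩ := hz' a
      obtain ⟨j, rfl⟩ := hz' b
      rw [e, one_pow, one_pow]⟩
    have h3 := Nat.card_units F
    rw [Nat.card_of_subsingleton (1 : Fˣ), Nat.card_eq_fintype_card] at h3
    omega
  have hne : ∀ e : ℤ, e = 1 ∨ e = -1 → (1 : F) - ((z ^ e : Fˣ) : F) ≠ 0 := by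
    intro e he h
    have : z ^ e = 1 := Units.ext (by rw [Units.val_one]; exact (sub_eq_zero.1 h).symm)
    rcases he with rfl | rfl
    · exact hz1 (by simpa using this)
    · exact hz1 (by simpa using this)
  set n := g.wordN (F := F) l with hndef
  set x := g.xG β (1 : F) with hxdef
  set h := g.hG ν z with hhdef
  have hn : n ∈ D.group F := g.monomial_le_group (g.wordN_mem l)
  refine exists_pair_of_closure (a := h * g.xG α 1) (b := x * n)
    (mul_mem (g.diagonal_le_group (g.hG_mem hν z)) (g.xG_mem_group hα 1))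
    (mul_mem (g.xG_mem_group hβ 1) hn) ?_
  set M := Subgroup.closure ({h * g.xG α 1, x * n} : Set (GL D.Idx F))
  obtain ⟨hhM, hxα⟩ := g.mem_of_torus_mul_root hν hα z h0
    (Subgroup.subset_closure (Set.mem_insert _ _) : g.hG ν z * g.xG α (1 : F) ∈ M)
  have hbM : x * n ∈ M :=
    Subgroup.subset_closure (Set.mem_insert_of_mem _ (Set.mem_singleton _))
  -- the action of `n h n⁻¹` on the second root
  set h' := n * h * n⁻¹ with hh'
  have hconj : ∀ t : F, h' * g.xG β t * h'⁻¹ = g.xG β (((z ^ pair D ν β' : Fˣ) : F) * t) := by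
    intro t
    set a : Fin D.nroots := ⟨β', hβ'⟩
    have hval : (g.wperm l a).val = β := by rw [g.wperm_tab hl hs l a]; exact hββ'
    obtain ⟨c, hcc⟩ := g.acts_wordN (F := F) l a
    have e := hcc (((c⁻¹ : Fˣ) : F) * t)
    rw [← mul_assoc, ← Units.val_mul, mul_inv_cancel, Units.val_one, one_mul, hval] at e
    rw [hh', ← e, hndef, show g.wordN l * h * (g.wordN l)⁻¹ *
        (g.wordN l * g.xG β' (((c⁻¹ : Fˣ) : F) * t) * (g.wordN l)⁻¹) *
        (g.wordN l * h * (g.wordN l)⁻¹)⁻¹ =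
      g.wordN l * (h * g.xG β' (((c⁻¹ : Fˣ) : F) * t) * h⁻¹) * (g.wordN l)⁻¹ by group,
      hhdef, g.hG_conj_xG hβ', hcc, hval]
    congr 1
    rw [← mul_assoc, ← mul_assoc, mul_comm (c : F), mul_assoc ((z ^ pair D ν β' : Fˣ) : F),
      ← Units.val_mul, mul_inv_cancel, Units.val_one, mul_one]
  have hdiag : h' * h = h * h' :=
    g.diagonal_comm (g.diag_conj (g.wordN_mem l) (g.hG_mem hν z)) (g.hG_mem hν z)
  -- an element of the second root subgroup
  have hxh : x * h' * x⁻¹ ∈ M := by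
    have := mul_mem (mul_mem hbM hhM) (inv_mem hbM)
    rwa [show x * n * h * (x * n)⁻¹ = x * (n * h * n⁻¹) * x⁻¹ by group] at this
  set w := g.xG β ((1 : F) - ((z ^ pair D ν β' : Fˣ) : F)) with hw
  have hwk : x * h' * x⁻¹ = w * h' := by
    rw [show x * h' * x⁻¹ = x * (h' * x⁻¹ * h'⁻¹) * h' by group, hxdef, g.xG_inv, hconj,
      g.xG_add, hw, mul_neg_one, ← sub_eq_add_neg]
  have hz0 : w * (h * w⁻¹ * h⁻¹) ∈ M := by
    have e := mul_mem (mul_mem (mul_mem hxh hhM) (inv_mem hxh)) (inv_mem hhM)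
    rwa [hwk, show w * h' * h * (w * h')⁻¹ * h⁻¹ = w * (h' * h * h'⁻¹) * w⁻¹ * h⁻¹ by group,
      hdiag, mul_inv_cancel_right, mul_assoc w, mul_assoc w] at e
  rw [hw, g.xG_inv, hhdef, g.hG_conj_xG hβ, g.xG_add] at hz0
  have hβfull : g.FullRoot M β := by
    refine g.fullRoot_of_torus hν hβ hz' hhM ?_ hz0 (h1.elim Or.inl fun e => Or.inr (Or.inl e))
    rw [show ((1 : F) - ((z ^ pair D ν β' : Fˣ) : F)) + ((z ^ pair D ν β : Fˣ) : F) *
        -((1 : F) - ((z ^ pair D ν β' : Fˣ) : F)) =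
      ((1 : F) - ((z ^ pair D ν β : Fˣ) : F)) * ((1 : F) - ((z ^ pair D ν β' : Fˣ) : F)) by ring]
    exact mul_ne_zero (hne _ h1) (hne _ h2)
  have hnM : g.wordN (F := F) l ∈ M := by
    have := mul_mem (inv_mem (hβfull.2 1)) hbM
    rwa [hxdef, inv_mul_cancel_left] at this
  obtain ⟨hlt, u, hu, hmu⟩ := g.nG_iter_conj hl hs l hnM hα one_ne_zero hxα k
  have hγ := g.fullRoot_of_torus hν hlt hz' hhM hu hmu hk
  refine g.group_le_of_fullRoot fun r hr => g.fullRoot_of_run hc hl hs l hnM st _ hok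
    (fun r hr => ?_) r (hall ⟨r, hr⟩)
  rcases List.mem_cons.1 hr with rfl | hr
  · exact hγ
  · exact List.mem_singleton.1 hr ▸ hβfull

/-- The field with two elements: `x_ν(1) x_{-ν}(1) * x_α(1)` and a monomial element. -/
theorem exists_two_of_field_two [Fintype F] (hc : HasComm D) (hq : Fintype.card F = 2)
    {dat : LieData} {sd : StructData} (hl : LieChecks D dat) (hs : StructChecks D dat sd)
    (l : List (Fin D.rank)) (ν ν' α s b : ℕ) (pre : List (ℕ × ℤ × ℕ × ℕ)) (c : ℤ) (i j : ℕ)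
    (st st' : List (ℕ × ℕ × ℕ × ℕ))
    (hν : ν < D.nroots) (hν' : ν' < D.nroots) (hα : α < D.nroots) (hb : b < D.nroots)
    (hw : wordModEq D 2 [(ν, 1), (ν', 1), (ν, 1), (ν', 1), (ν, 1), (ν', 1)] [] = true)
    (hc1 : α ≠ ν ∧ α ≠ fneg D ν ∧ fterms D ν α = [])
    (hc2 : α ≠ ν' ∧ α ≠ fneg D ν' ∧ fterms D ν' α = [])
    (hc3 : s ≠ ν' ∧ s ≠ fneg D ν' ∧ fterms D ν' s = [])
    (hns : s ≠ ν ∧ s ≠ fneg D ν) (hterms : fterms D ν s = pre ++ [(b, c, i, j)]) (hodd : c % 2 = 1)
    (hok : genDerivOK D sd (l.map Fin.val) st [α] = true)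
    (hs' : s ∈ genDerivRoots st [α]) (hpre : ∀ p ∈ pre, p.1 ∈ genDerivRoots st [α])
    (hok' : genDerivOK D sd (l.map Fin.val) st' [α, b] = true)
    (hall : ∀ r : Fin D.nroots, r.val ∈ genDerivRoots st' [α, b]) :
    ∃ a b : ↥(D.group F), Subgroup.closure ({a, b} : Set ↥(D.group F)) = ⊤ := by
  classical
  have : CharP F 2 := by
    have := Fact.mk Nat.prime_two
    exact charP_of_card_eq_prime_pow (show Fintype.card F = 2 ^ 1 by rw [hq, pow_one])
  have h01 : ∀ t : F, t = 0 ∨ t = 1 := by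
    intro t
    by_contra hcon
    push Not at hcon
    have : ({0, 1, t} : Finset F).card ≤ Fintype.card F := Finset.card_le_univ _
    rw [Finset.card_insert_of_notMem (by simp [hcon.1.symm]),
      Finset.card_insert_of_notMem (by simp [hcon.2.symm]), Finset.card_singleton, hq] at this
    omega
  have hfull : ∀ (M : Subgroup (GL D.Idx F)) (r : ℕ), r < D.nroots → g.xG r (1 : F) ∈ M →
      g.FullRoot M r := by
    intro M r hr h
    refine ⟨hr, fun t => ?_⟩
    rcases h01 t with rfl | rfl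
    · rw [g.xG_zero]; exact one_mem _
    · exact h
  set w := g.xG ν (1 : F) * g.xG ν' 1 with hwdef
  set X := g.xG α (1 : F) with hX
  have hw3 : w ^ 3 = 1 := by
    have h := g.word_eq_of_modEq (p := 2) (F := F)
      (w₁ := [(ν, 1), (ν', 1), (ν, 1), (ν', 1), (ν, 1), (ν', 1)]) (w₂ := []) hw
    simp only [List.map_cons, List.map_nil, List.prod_cons, List.prod_nil, Int.cast_one, mul_one] at h
    rw [hwdef, pow_three]
    simpa [mul_assoc] using h
  have hX2 : X ^ 3 = X := by
    rw [hX, g.xG_pow_eq, mul_one]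
    congr 1
    push_cast
    rw [show (3 : F) = 2 + 1 by norm_num, CharTwo.two_eq_zero, zero_add]
  have hcomm : Commute w X :=
    (g.xG_commute_check hc hν hα hc1 1 1).mul_left (g.xG_commute_check hc hν' hα hc2 1 1)
  set n := g.wordN (F := F) l
  refine exists_pair_of_closure (a := w * X) (b := n)
    (mul_mem (mul_mem (g.xG_mem_group hν 1) (g.xG_mem_group hν' 1)) (g.xG_mem_group hα 1))
    (g.monomial_le_group (g.wordN_mem l)) ?_
  set M := Subgroup.closure ({w * X, n} : Set (GL D.Idx F))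
  have haM : w * X ∈ M := Subgroup.subset_closure (Set.mem_insert _ _)
  have hnM : n ∈ M := Subgroup.subset_closure (Set.mem_insert_of_mem _ (Set.mem_singleton _))
  have hXM : X ∈ M := by
    have := pow_mem haM 3
    rwa [hcomm.mul_pow, hw3, one_mul, hX2] at this
  have hwM : w ∈ M := by
    have := mul_mem haM (inv_mem hXM)
    rwa [mul_inv_cancel_right] at this
  have hrun := g.fullRoot_of_run hc hl hs l hnM st [α] hok
    (fun r hr => List.mem_singleton.1 hr ▸ hfull M α hα hXM)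
  obtain ⟨hslt, hsf⟩ := hrun s hs'
  have hbM : g.xG b (1 : F) ∈ M := by
    have h1 := mul_mem (mul_mem hwM (hsf 1)) (inv_mem hwM)
    rw [hwdef, show g.xG ν (1 : F) * g.xG ν' 1 * g.xG s 1 * (g.xG ν (1 : F) * g.xG ν' 1)⁻¹ =
      g.xG ν (1 : F) * (g.xG ν' 1 * g.xG s 1 * (g.xG ν' (1 : F))⁻¹) * (g.xG ν (1 : F))⁻¹ by group,
      (g.xG_commute_check hc hν' hslt hc3 1 1).eq, mul_inv_cancel_right,
      g.xG_conj hc hslt hν hns.1 (CfsgLib.Chev.neg_eq g.lie.pack hν ▸ hns.2) 1 1,
      ← g.fterms_eq hν hslt, hterms] at h1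
    simp only [List.map_append, List.prod_append, List.map_cons, List.map_nil, List.prod_cons,
      List.prod_nil, one_pow, mul_one] at h1
    have hpreM : ∀ z ∈ pre.map (fun p => g.xG p.1 (p.2.1 : F)), z ∈ M := by
      intro z hz
      obtain ⟨p, hp, rfl⟩ := List.mem_map.1 hz
      exact (hrun _ (hpre p hp)).2 _
    have h2 := mul_mem (inv_mem (M.list_prod_mem hpreM)) (mul_mem (inv_mem (hsf 1)) h1)
    rw [inv_mul_cancel_left, inv_mul_cancel_left] at h2
    rwa [show ((c : ℤ) : F) = 1 by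
      rw [show c = 2 * (c / 2) + 1 by omega]; push_cast; rw [CharTwo.two_eq_zero, zero_mul, zero_add]]
      at h2
  refine g.group_le_of_fullRoot fun r hr => g.fullRoot_of_run hc hl hs l hnM st' _ hok'
    (fun r hr => ?_) r (hall ⟨r, hr⟩)
  rcases List.mem_cons.1 hr with rfl | hr
  · exact hfull M _ hα hXM
  · exact List.mem_singleton.1 hr ▸ hfull M b hb hbM

end Good

end CfsgLib.Chev
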