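import Mathlib
import Cfsg.Agent.Lib.Chev.ChevGenTwo
import Cfsg.Agent.Lib.Chev.Good
import Cfsg.Agent.Lib.Chev.CommGood

/-!
Two generators of the Chevalley groups of types B2, G2, D4, F4, E6, E7, E8: the derivations.
-/

set_option autoImplicit false
set_option maxRecDepth 100000
set_option maxHeartbeats 1600000

namespace CfsgLib.Chev

open Cfsg.Lie

/-- A Coxeter word of type B2. -/
def coxWordB2 : List (Fin chevB2.rank) := [⟨0, by decide⟩, ⟨1, by decide⟩]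

/-- A derivation of all roots of type B2. -/
def genStepsB2 : List (ℕ × ℕ × ℕ × ℕ) := [
    (0, 0, 0, 3), (0, 3, 0, 7), (0, 7, 0, 4), (0, 5, 0, 6), (0, 6, 0, 2), (0, 2, 0, 1)]

theorem two_genB2 {F : Type*} [Field F] [Fintype F] (hq : 3 ≤ Fintype.card F) :
    ∃ a b : ↥(chevB2.group F), Subgroup.closure ({a, b} : Set ↥(chevB2.group F)) = ⊤ :=
  goodB2.exists_two_of_orbits (hasComm_of_mem (by simp)) hq checksB2 structChecksB2 coxWordB2 7 4 5 1 1
    genStepsB2 (by decide +kernel) (by decide +kernel) (by decide +kernel) (by decide +kernel)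
    (by decide +kernel) (by decide +kernel) (by decide +kernel) (by decide +kernel) (by decide +kernel)
    (by decide +kernel) (by decide +kernel)

/-- A Coxeter word of type G2. -/
def coxWordG2 : List (Fin chevG2.rank) := [⟨0, by decide⟩, ⟨1, by decide⟩]

/-- A derivation of all roots of type G2. -/
def genStepsG2 : List (ℕ × ℕ × ℕ × ℕ) := [
    (0, 9, 0, 8), (0, 8, 0, 4), (0, 4, 0, 2), (0, 2, 0, 3), (0, 3, 0, 7), (0, 10, 0, 11),
    (0, 11, 0, 6), (0, 6, 0, 1), (0, 1, 0, 0), (0, 0, 0, 5)]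

theorem two_genG2 {F : Type*} [Field F] [Fintype F] (hq : 3 ≤ Fintype.card F) :
    ∃ a b : ↥(chevG2.group F), Subgroup.closure ({a, b} : Set ↥(chevG2.group F)) = ⊤ :=
  goodG2.exists_two_of_orbits (hasComm_of_mem (by simp)) hq checksG2 structChecksG2 coxWordG2 11 7 10 5 1
    genStepsG2 (by decide +kernel) (by decide +kernel) (by decide +kernel) (by decide +kernel)
    (by decide +kernel) (by decide +kernel) (by decide +kernel) (by decide +kernel) (by decide +kernel)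
    (by decide +kernel) (by decide +kernel)

/-- A Coxeter word of type D4. -/
def coxWordD4 : List (Fin chevD4.rank) := [⟨0, by decide⟩, ⟨1, by decide⟩, ⟨2, by decide⟩, ⟨3, by decide⟩]

/-- A derivation of all roots of type D4. -/
def genStepsD4 : List (ℕ × ℕ × ℕ × ℕ) := [
    (0, 3, 0, 7), (0, 7, 0, 11), (0, 11, 0, 20), (0, 20, 0, 16), (0, 16, 0, 12), (0, 15, 0, 13),
    (0, 13, 0, 2), (0, 2, 0, 8), (0, 8, 0, 10), (0, 10, 0, 21), (1, 3, 7, 0), (0, 0, 0, 6),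
    (0, 6, 0, 19), (0, 19, 0, 23), (0, 23, 0, 17), (0, 17, 0, 4), (1, 3, 15, 5), (0, 5, 0, 9),
    (0, 9, 0, 1), (0, 1, 0, 18), (0, 18, 0, 14), (0, 14, 0, 22)]

theorem two_genD4 {F : Type*} [Field F] [Fintype F] (hq : 3 ≤ Fintype.card F) :
    ∃ a b : ↥(chevD4.group F), Subgroup.closure ({a, b} : Set ↥(chevD4.group F)) = ⊤ :=
  goodD4.exists_two_of_orbits (hasComm_of_mem (by simp)) hq checksD4 structChecksD4 coxWordD4 13 12 15 21 1
    genStepsD4 (by decide +kernel) (by decide +kernel) (by decide +kernel) (by decide +kernel)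
    (by decide +kernel) (by decide +kernel) (by decide +kernel) (by decide +kernel) (by decide +kernel)
    (by decide +kernel) (by decide +kernel)

/-- The derivation from the first root, type D4 over two elements. -/
def genStepsOneD4 : List (ℕ × ℕ × ℕ × ℕ) := [
    (0, 12, 0, 3), (0, 3, 0, 7), (0, 7, 0, 11), (0, 11, 0, 20), (0, 20, 0, 16), (1, 12, 3, 4),
    (0, 4, 0, 0), (0, 0, 0, 6), (0, 6, 0, 19), (0, 19, 0, 23), (0, 23, 0, 17)]

/-- The derivation of all roots, type D4 over two elements. -/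
def genStepsAllD4 : List (ℕ × ℕ × ℕ × ℕ) := [
    (0, 12, 0, 3), (0, 3, 0, 7), (0, 7, 0, 11), (0, 11, 0, 20), (0, 20, 0, 16), (0, 8, 0, 10),
    (0, 10, 0, 21), (0, 21, 0, 15), (0, 15, 0, 13), (0, 13, 0, 2), (1, 12, 3, 4), (0, 4, 0, 0),
    (0, 0, 0, 6), (0, 6, 0, 19), (0, 19, 0, 23), (0, 23, 0, 17), (1, 12, 8, 9), (0, 9, 0, 1),
    (0, 1, 0, 18), (0, 18, 0, 14), (0, 14, 0, 22), (0, 22, 0, 5)]

theorem two_genD4_two {F : Type*} [Field F] [Fintype F] (hq : Fintype.card F = 2) :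
    ∃ a b : ↥(chevD4.group F), Subgroup.closure ({a, b} : Set ↥(chevD4.group F)) = ⊤ :=
  goodD4.exists_two_of_field_two (hasComm_of_mem (by simp)) hq checksD4 structChecksD4 coxWordD4 13 10 12 6 8
    [] (-1) 1 1 genStepsOneD4 genStepsAllD4 (by decide +kernel) (by decide +kernel)
    (by decide +kernel) (by decide +kernel) (by decide +kernel) (by decide +kernel) (by decide +kernel)
    (by decide +kernel) (by decide +kernel) (by decide +kernel) (by decide +kernel) (by decide +kernel)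
    (by decide +kernel) (by decide +kernel) (by decide +kernel) (by decide +kernel)

/-- A Coxeter word of type F4. -/
def coxWordF4 : List (Fin chevF4.rank) := [⟨0, by decide⟩, ⟨1, by decide⟩, ⟨2, by decide⟩, ⟨3, by decide⟩]

/-- A derivation of all roots of type F4. -/
def genStepsF4 : List (ℕ × ℕ × ℕ × ℕ) := [
    (0, 5, 0, 17), (0, 17, 0, 4), (0, 4, 0, 16), (0, 16, 0, 22), (0, 22, 0, 23), (0, 23, 0, 42),
    (0, 42, 0, 30), (0, 30, 0, 43), (0, 43, 0, 31), (0, 31, 0, 25), (0, 25, 0, 24), (0, 29, 0, 13),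
    (0, 13, 0, 10), (0, 10, 0, 3), (0, 3, 0, 7), (0, 7, 0, 8), (0, 8, 0, 18), (0, 18, 0, 34),
    (0, 34, 0, 37), (0, 37, 0, 44), (0, 44, 0, 40), (0, 40, 0, 39), (1, 5, 17, 2), (0, 2, 0, 1),
    (0, 1, 0, 0), (0, 0, 0, 15), (0, 15, 0, 21), (0, 21, 0, 41), (0, 41, 0, 45), (0, 45, 0, 46),
    (0, 46, 0, 47), (0, 47, 0, 32), (0, 32, 0, 26), (0, 26, 0, 6), (1, 29, 8, 12), (0, 12, 0, 9),
    (0, 9, 0, 19), (0, 19, 0, 11), (0, 11, 0, 33), (0, 33, 0, 27), (0, 27, 0, 35), (0, 35, 0, 38),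
    (0, 38, 0, 28), (0, 28, 0, 36), (0, 36, 0, 14), (0, 14, 0, 20)]

theorem two_genF4 {F : Type*} [Field F] [Fintype F] (hq : 3 ≤ Fintype.card F) :
    ∃ a b : ↥(chevF4.group F), Subgroup.closure ({a, b} : Set ↥(chevF4.group F)) = ⊤ :=
  goodF4.exists_two_of_orbits (hasComm_of_mem (by simp)) hq checksF4 structChecksF4 coxWordF4 32 24 29 39 1
    genStepsF4 (by decide +kernel) (by decide +kernel) (by decide +kernel) (by decide +kernel)
    (by decide +kernel) (by decide +kernel) (by decide +kernel) (by decide +kernel) (by decide +kernel)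
    (by decide +kernel) (by decide +kernel)

/-- The derivation from the first root, type F4 over two elements. -/
def genStepsOneF4 : List (ℕ × ℕ × ℕ × ℕ) := [
    (0, 27, 0, 35), (0, 35, 0, 38), (0, 38, 0, 28), (0, 28, 0, 36), (0, 36, 0, 14), (0, 14, 0, 20),
    (0, 20, 0, 12), (0, 12, 0, 9), (0, 9, 0, 19), (0, 19, 0, 11), (0, 11, 0, 33), (1, 27, 35, 37),
    (0, 37, 0, 44), (0, 44, 0, 40), (0, 40, 0, 39), (0, 39, 0, 29), (0, 29, 0, 13), (0, 13, 0, 10),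
    (0, 10, 0, 3), (0, 3, 0, 7), (0, 7, 0, 8), (0, 8, 0, 18), (0, 18, 0, 34)]

/-- The derivation of all roots, type F4 over two elements. -/
def genStepsAllF4 : List (ℕ × ℕ × ℕ × ℕ) := [
    (0, 27, 0, 35), (0, 35, 0, 38), (0, 38, 0, 28), (0, 28, 0, 36), (0, 36, 0, 14), (0, 14, 0, 20),
    (0, 20, 0, 12), (0, 12, 0, 9), (0, 9, 0, 19), (0, 19, 0, 11), (0, 11, 0, 33), (0, 2, 0, 1),
    (0, 1, 0, 0), (0, 0, 0, 15), (0, 15, 0, 21), (0, 21, 0, 41), (0, 41, 0, 45), (0, 45, 0, 46),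
    (0, 46, 0, 47), (0, 47, 0, 32), (0, 32, 0, 26), (0, 26, 0, 6), (1, 27, 35, 37), (0, 37, 0, 44),
    (0, 44, 0, 40), (0, 40, 0, 39), (0, 39, 0, 29), (0, 29, 0, 13), (0, 13, 0, 10), (0, 10, 0, 3),
    (0, 3, 0, 7), (0, 7, 0, 8), (0, 8, 0, 18), (0, 18, 0, 34), (1, 2, 41, 16), (0, 16, 0, 22),
    (0, 22, 0, 23), (0, 23, 0, 42), (0, 42, 0, 30), (0, 30, 0, 43), (0, 43, 0, 31), (0, 31, 0, 25),
    (0, 25, 0, 24), (0, 24, 0, 5), (0, 5, 0, 17), (0, 17, 0, 4)]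

theorem two_genF4_two {F : Type*} [Field F] [Fintype F] (hq : Fintype.card F = 2) :
    ∃ a b : ↥(chevF4.group F), Subgroup.closure ({a, b} : Set ↥(chevF4.group F)) = ⊤ :=
  goodF4.exists_two_of_field_two (hasComm_of_mem (by simp)) hq checksF4 structChecksF4 coxWordF4 24 23 27 9 2
    [(10, -1, 1, 1)] (-1) 1 2 genStepsOneF4 genStepsAllF4 (by decide +kernel) (by decide +kernel)
    (by decide +kernel) (by decide +kernel) (by decide +kernel) (by decide +kernel) (by decide +kernel)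
    (by decide +kernel) (by decide +kernel) (by decide +kernel) (by decide +kernel) (by decide +kernel)
    (by decide +kernel) (by decide +kernel) (by decide +kernel) (by decide +kernel)

/-- A Coxeter word of type E6. -/
def coxWordE6 : List (Fin chevE6.rank) := [⟨0, by decide⟩, ⟨1, by decide⟩, ⟨2, by decide⟩, ⟨3, by decide⟩, ⟨4, by decide⟩, ⟨5, by decide⟩]

/-- A derivation of all roots of type E6. -/
def genStepsE6 : List (ℕ × ℕ × ℕ × ℕ) := [
    (0, 8, 0, 28), (0, 28, 0, 23), (0, 23, 0, 11), (0, 11, 0, 56), (0, 56, 0, 42), (0, 42, 0, 47),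
    (0, 47, 0, 59), (0, 59, 0, 52), (0, 52, 0, 39), (0, 39, 0, 37), (0, 37, 0, 36), (1, 8, 28, 3),
    (0, 3, 0, 18), (0, 18, 0, 5), (0, 5, 0, 26), (0, 26, 0, 57), (0, 57, 0, 50), (0, 50, 0, 64),
    (0, 64, 0, 69), (0, 69, 0, 54), (0, 54, 0, 40), (0, 40, 0, 38), (0, 38, 0, 9), (1, 8, 56, 19),
    (0, 19, 0, 32), (0, 32, 0, 34), (0, 34, 0, 35), (0, 35, 0, 63), (0, 63, 0, 43), (0, 43, 0, 48),
    (0, 48, 0, 60), (0, 60, 0, 15), (0, 15, 0, 29), (0, 29, 0, 24), (0, 24, 0, 12), (1, 8, 18, 0),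
    (0, 0, 0, 1), (0, 1, 0, 16), (0, 16, 0, 30), (0, 30, 0, 61), (0, 61, 0, 67), (0, 67, 0, 71),
    (0, 71, 0, 70), (0, 70, 0, 55), (0, 55, 0, 41), (0, 41, 0, 10), (0, 10, 0, 4), (1, 8, 57, 22),
    (0, 22, 0, 46), (0, 46, 0, 58), (0, 58, 0, 51), (0, 51, 0, 65), (0, 65, 0, 44), (0, 44, 0, 49),
    (0, 49, 0, 25), (0, 25, 0, 13), (0, 13, 0, 20), (0, 20, 0, 6), (0, 6, 0, 27), (1, 8, 61, 33),
    (0, 33, 0, 62), (0, 62, 0, 68), (0, 68, 0, 53), (0, 53, 0, 66), (0, 66, 0, 45), (0, 45, 0, 14),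
    (0, 14, 0, 21), (0, 21, 0, 7), (0, 7, 0, 2), (0, 2, 0, 17), (0, 17, 0, 31)]

theorem two_genE6 {F : Type*} [Field F] [Fintype F] :
    ∃ a b : ↥(chevE6.group F), Subgroup.closure ({a, b} : Set ↥(chevE6.group F)) = ⊤ :=
  goodE6.exists_two_of_orbit (hasComm_of_mem (by simp)) checksE6 structChecksE6 coxWordE6 39 36 1
    genStepsE6 (by decide +kernel) (by decide +kernel) (by decide +kernel) (by decide +kernel)
    (by decide +kernel) (by decide +kernel)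

/-- A Coxeter word of type E7. -/
def coxWordE7 : List (Fin chevE7.rank) := [⟨0, by decide⟩, ⟨1, by decide⟩, ⟨2, by decide⟩, ⟨3, by decide⟩, ⟨4, by decide⟩, ⟨5, by decide⟩, ⟨6, by decide⟩]

/-- A derivation of all roots of type E7. -/
def genStepsE7 : List (ℕ × ℕ × ℕ × ℕ) := [
    (0, 51, 0, 45), (0, 45, 0, 28), (0, 28, 0, 39), (0, 39, 0, 56), (0, 56, 0, 59), (0, 59, 0, 61),
    (0, 61, 0, 62), (0, 62, 0, 102), (0, 102, 0, 74), (0, 74, 0, 80), (0, 80, 0, 97), (0, 97, 0, 86),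
    (0, 86, 0, 69), (0, 69, 0, 66), (0, 66, 0, 64), (0, 64, 0, 63), (0, 63, 0, 23), (1, 51, 45, 38),
    (0, 38, 0, 19), (0, 19, 0, 11), (0, 11, 0, 36), (0, 36, 0, 55), (0, 55, 0, 58), (0, 58, 0, 60),
    (0, 60, 0, 101), (0, 101, 0, 111), (0, 111, 0, 87), (0, 87, 0, 106), (0, 106, 0, 114), (0, 114, 0, 89),
    (0, 89, 0, 70), (0, 70, 0, 67), (0, 67, 0, 65), (0, 65, 0, 24), (0, 24, 0, 14), (1, 51, 59, 50),
    (0, 50, 0, 44), (0, 44, 0, 27), (0, 27, 0, 93), (0, 93, 0, 73), (0, 73, 0, 79), (0, 79, 0, 96),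
    (0, 96, 0, 85), (0, 85, 0, 105), (0, 105, 0, 75), (0, 75, 0, 81), (0, 81, 0, 98), (0, 98, 0, 32),
    (0, 32, 0, 52), (0, 52, 0, 46), (0, 46, 0, 29), (0, 29, 0, 40), (0, 40, 0, 20), (1, 51, 19, 10),
    (0, 10, 0, 3), (0, 3, 0, 8), (0, 8, 0, 34), (0, 34, 0, 54), (0, 54, 0, 57), (0, 57, 0, 100),
    (0, 100, 0, 110), (0, 110, 0, 120), (0, 120, 0, 115), (0, 115, 0, 122), (0, 122, 0, 117), (0, 117, 0, 91),
    (0, 91, 0, 71), (0, 71, 0, 68), (0, 68, 0, 25), (0, 25, 0, 15), (0, 15, 0, 5), (1, 51, 58, 49),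
    (0, 49, 0, 43), (0, 43, 0, 78), (0, 78, 0, 95), (0, 95, 0, 84), (0, 84, 0, 104), (0, 104, 0, 113),
    (0, 113, 0, 88), (0, 88, 0, 107), (0, 107, 0, 76), (0, 76, 0, 82), (0, 82, 0, 47), (0, 47, 0, 30),
    (0, 30, 0, 41), (0, 41, 0, 21), (0, 21, 0, 12), (0, 12, 0, 37), (0, 37, 0, 18), (1, 51, 3, 1),
    (0, 1, 0, 2), (0, 2, 0, 7), (0, 7, 0, 33), (0, 33, 0, 53), (0, 53, 0, 99), (0, 99, 0, 109),
    (0, 109, 0, 119), (0, 119, 0, 125), (0, 125, 0, 124), (0, 124, 0, 123), (0, 123, 0, 118), (0, 118, 0, 92),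
    (0, 92, 0, 72), (0, 72, 0, 26), (0, 26, 0, 16), (0, 16, 0, 6), (0, 6, 0, 0), (1, 51, 57, 48),
    (0, 48, 0, 94), (0, 94, 0, 83), (0, 83, 0, 103), (0, 103, 0, 112), (0, 112, 0, 121), (0, 121, 0, 116),
    (0, 116, 0, 90), (0, 90, 0, 108), (0, 108, 0, 77), (0, 77, 0, 31), (0, 31, 0, 42), (0, 42, 0, 22),
    (0, 22, 0, 13), (0, 13, 0, 4), (0, 4, 0, 9), (0, 9, 0, 35), (0, 35, 0, 17)]

theorem two_genE7 {F : Type*} [Field F] [Fintype F] :
    ∃ a b : ↥(chevE7.group F), Subgroup.closure ({a, b} : Set ↥(chevE7.group F)) = ⊤ :=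
  goodE7.exists_two_of_orbit (hasComm_of_mem (by simp)) checksE7 structChecksE7 coxWordE7 66 63 2
    genStepsE7 (by decide +kernel) (by decide +kernel) (by decide +kernel) (by decide +kernel)
    (by decide +kernel) (by decide +kernel)

/-- A Coxeter word of type E8. -/
def coxWordE8 : List (Fin chevE8.rank) := [⟨0, by decide⟩, ⟨1, by decide⟩, ⟨2, by decide⟩, ⟨3, by decide⟩, ⟨4, by decide⟩, ⟨5, by decide⟩, ⟨6, by decide⟩, ⟨7, by decide⟩]

/-- A derivation of all roots of type E8. -/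
def genStepsE8 : List (ℕ × ℕ × ℕ × ℕ) := [
    (0, 96, 0, 73), (0, 73, 0, 89), (0, 89, 0, 62), (0, 62, 0, 102), (0, 102, 0, 95), (0, 95, 0, 72),
    (0, 72, 0, 88), (0, 88, 0, 109), (0, 109, 0, 113), (0, 113, 0, 116), (0, 116, 0, 118), (0, 118, 0, 119),
    (0, 119, 0, 173), (0, 173, 0, 136), (0, 136, 0, 143), (0, 143, 0, 166), (0, 166, 0, 150), (0, 150, 0, 177),
    (0, 177, 0, 137), (0, 137, 0, 144), (0, 144, 0, 167), (0, 167, 0, 151), (0, 151, 0, 130), (0, 130, 0, 126),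
    (0, 126, 0, 123), (0, 123, 0, 121), (0, 121, 0, 120), (0, 120, 0, 66), (0, 66, 0, 103), (1, 96, 73, 61),
    (0, 61, 0, 48), (0, 48, 0, 30), (0, 30, 0, 43), (0, 43, 0, 83), (0, 83, 0, 58), (0, 58, 0, 46),
    (0, 46, 0, 84), (0, 84, 0, 108), (0, 108, 0, 112), (0, 112, 0, 115), (0, 115, 0, 117), (0, 117, 0, 172),
    (0, 172, 0, 187), (0, 187, 0, 152), (0, 152, 0, 178), (0, 178, 0, 191), (0, 191, 0, 209), (0, 209, 0, 196),
    (0, 196, 0, 156), (0, 156, 0, 181), (0, 181, 0, 193), (0, 193, 0, 155), (0, 155, 0, 131), (0, 131, 0, 127),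
    (0, 127, 0, 124), (0, 124, 0, 122), (0, 122, 0, 67), (0, 67, 0, 52), (0, 52, 0, 87), (1, 96, 72, 60),
    (0, 60, 0, 47), (0, 47, 0, 85), (0, 85, 0, 59), (0, 59, 0, 101), (0, 101, 0, 94), (0, 94, 0, 71),
    (0, 71, 0, 162), (0, 162, 0, 135), (0, 135, 0, 142), (0, 142, 0, 165), (0, 165, 0, 149), (0, 149, 0, 176),
    (0, 176, 0, 190), (0, 190, 0, 153), (0, 153, 0, 179), (0, 179, 0, 192), (0, 192, 0, 154), (0, 154, 0, 180),
    (0, 180, 0, 138), (0, 138, 0, 145), (0, 145, 0, 168), (0, 168, 0, 77), (0, 77, 0, 104), (0, 104, 0, 97),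
    (0, 97, 0, 74), (0, 74, 0, 90), (0, 90, 0, 63), (0, 63, 0, 49), (0, 49, 0, 86), (1, 96, 48, 29),
    (0, 29, 0, 10), (0, 10, 0, 18), (0, 18, 0, 24), (0, 24, 0, 39), (0, 39, 0, 26), (0, 26, 0, 40),
    (0, 40, 0, 81), (0, 81, 0, 107), (0, 107, 0, 111), (0, 111, 0, 114), (0, 114, 0, 171), (0, 171, 0, 186),
    (0, 186, 0, 206), (0, 206, 0, 194), (0, 194, 0, 210), (0, 210, 0, 229), (0, 229, 0, 221), (0, 221, 0, 215),
    (0, 215, 0, 200), (0, 200, 0, 213), (0, 213, 0, 199), (0, 199, 0, 158), (0, 158, 0, 132), (0, 132, 0, 128),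
    (0, 128, 0, 125), (0, 125, 0, 68), (0, 68, 0, 53), (0, 53, 0, 33), (0, 33, 0, 45), (1, 96, 46, 27),
    (0, 27, 0, 41), (0, 41, 0, 82), (0, 82, 0, 57), (0, 57, 0, 100), (0, 100, 0, 93), (0, 93, 0, 141),
    (0, 141, 0, 164), (0, 164, 0, 148), (0, 148, 0, 175), (0, 175, 0, 189), (0, 189, 0, 208), (0, 208, 0, 195),
    (0, 195, 0, 211), (0, 211, 0, 197), (0, 197, 0, 212), (0, 212, 0, 198), (0, 198, 0, 157), (0, 157, 0, 182),
    (0, 182, 0, 139), (0, 139, 0, 146), (0, 146, 0, 98), (0, 98, 0, 75), (0, 75, 0, 91), (0, 91, 0, 64),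
    (0, 64, 0, 50), (0, 50, 0, 31), (0, 31, 0, 44), (0, 44, 0, 28), (0, 28, 0, 42), (1, 96, 10, 6),
    (0, 6, 0, 7), (0, 7, 0, 14), (0, 14, 0, 8), (0, 8, 0, 16), (0, 16, 0, 22), (0, 22, 0, 37),
    (0, 37, 0, 79), (0, 79, 0, 106), (0, 106, 0, 110), (0, 110, 0, 170), (0, 170, 0, 185), (0, 185, 0, 205),
    (0, 205, 0, 227), (0, 227, 0, 219), (0, 219, 0, 233), (0, 233, 0, 232), (0, 232, 0, 225), (0, 225, 0, 231),
    (0, 231, 0, 223), (0, 223, 0, 217), (0, 217, 0, 202), (0, 202, 0, 160), (0, 160, 0, 133), (0, 133, 0, 129),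
    (0, 129, 0, 69), (0, 69, 0, 54), (0, 54, 0, 34), (0, 34, 0, 12), (0, 12, 0, 20), (1, 96, 40, 23),
    (0, 23, 0, 38), (0, 38, 0, 80), (0, 80, 0, 56), (0, 56, 0, 99), (0, 99, 0, 163), (0, 163, 0, 147),
    (0, 147, 0, 174), (0, 174, 0, 188), (0, 188, 0, 207), (0, 207, 0, 228), (0, 228, 0, 220), (0, 220, 0, 214),
    (0, 214, 0, 230), (0, 230, 0, 222), (0, 222, 0, 216), (0, 216, 0, 201), (0, 201, 0, 159), (0, 159, 0, 183),
    (0, 183, 0, 140), (0, 140, 0, 76), (0, 76, 0, 92), (0, 92, 0, 65), (0, 65, 0, 51), (0, 51, 0, 32),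
    (0, 32, 0, 11), (0, 11, 0, 19), (0, 19, 0, 25), (0, 25, 0, 9), (0, 9, 0, 17), (1, 96, 7, 3),
    (0, 3, 0, 2), (0, 2, 0, 1), (0, 1, 0, 0), (0, 0, 0, 15), (0, 15, 0, 21), (0, 21, 0, 36),
    (0, 36, 0, 78), (0, 78, 0, 105), (0, 105, 0, 169), (0, 169, 0, 184), (0, 184, 0, 204), (0, 204, 0, 226),
    (0, 226, 0, 234), (0, 234, 0, 235), (0, 235, 0, 236), (0, 236, 0, 237), (0, 237, 0, 238), (0, 238, 0, 239),
    (0, 239, 0, 224), (0, 224, 0, 218), (0, 218, 0, 203), (0, 203, 0, 161), (0, 161, 0, 134), (0, 134, 0, 70),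
    (0, 70, 0, 55), (0, 55, 0, 35), (0, 35, 0, 13), (0, 13, 0, 5), (0, 5, 0, 4)]

theorem two_genE8 {F : Type*} [Field F] [Fintype F] :
    ∃ a b : ↥(chevE8.group F), Subgroup.closure ({a, b} : Set ↥(chevE8.group F)) = ⊤ :=
  goodE8.exists_two_of_orbit (hasComm_of_mem (by simp)) checksE8 structChecksE8 coxWordE8 123 120 3
    genStepsE8 (by decide +kernel) (by decide +kernel) (by decide +kernel) (by decide +kernel)
    (by decide +kernel) (by decide +kernel)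

end CfsgLib.Chev
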