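import Mathlib
import Cfsg.Agent.Lib.Chev.Bruhat

/-!
The centraliser of a regular element of the split torus is the torus.
-/

set_option autoImplicit false

namespace CfsgLib.Chev

open Cfsg.Lie Matrix

variable {D : ChevalleyDatum} {F : Type*} [Field F]

/-- The value of a root at a point of the torus. -/
def rootVal (c : Fin D.rank → Fˣ) (r : ℕ) : Fˣ := ∏ i : Fin D.rank, c i ^ D.cartan i r

namespace Good

variable (g : Good D)
include g

lemma conj_rootVal (c : Fin D.rank → Fˣ) {r : ℕ} (hr : r < D.nroots) (t : F) :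
    torHom D F c * g.xG r t * (torHom D F c)⁻¹ = g.xG r ((rootVal c r : F) * t) :=
  g.torHom_conj_xG c hr t

/-- A positive unipotent element fixed by a regular torus element is trivial. -/
theorem pos_fixed_eq_one (hc : HasComm D) {c : Fin D.rank → Fˣ}
    (hreg : ∀ r < D.nroots, rootVal c r ≠ 1) {x : GL D.Idx F} (hx : x ∈ D.posUnipotent F)
    (he : torHom D F c * x * (torHom D F c)⁻¹ = x) : x = 1 := by
  rw [g.posUnipotent_eq] at hx
  obtain ⟨t, rfl⟩ := g.exists_xProd hc le_rfl hx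
  have e : torHom D F c * g.xProd t (half D) * (torHom D F c)⁻¹ =
      g.xProd (fun r => (rootVal c r : F) * t r) (half D) := by
    show (MulAut.conj (torHom D F c)).toMonoidHom _ = _
    rw [xProd, map_list_prod, List.map_map, xProd]
    refine congrArg List.prod (List.map_congr_left fun r hr => ?_)
    rw [List.mem_range'_1] at hr
    exact g.torHom_conj_xG c (by omega) (t r)
  rw [e] at he
  have hz : ∀ r, half D ≤ r → r < D.nroots → t r = 0 := fun r h1 h2 => by
    have h := g.xProd_inj le_rfl he h1 h2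
    by_contra ht
    exact hreg r h2 (Units.ext ((mul_eq_right₀ ht).1 h))
  refine List.prod_eq_one fun y hy => ?_
  obtain ⟨r, hr, rfl⟩ := List.mem_map.1 hy
  rw [List.mem_range'_1] at hr
  rw [hz r hr.1 (by omega)]
  exact Units.ext (by rw [g.coe_xG]; exact (g.x_eq_one_iff (by omega) _).2 rfl)

/-- The centraliser of a regular torus element fixed by no Weyl element lies in the torus. -/
theorem centralizer_regular_stab (hc : HasComm D) {c : Fin D.rank → Fˣ}
    (hreg : ∀ r < D.nroots, rootVal c r ≠ 1)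
    (hstab : ∀ (n : GL D.Idx F) (π : Equiv.Perm (Fin D.nroots)), π ∈ g.weyl → g.Acts n π →
      (∀ s : Fin D.nroots, rootVal c (π s) = rootVal c s) → π = 1)
    {y : GL D.Idx F} (hy : y ∈ D.group F) (he : y * torHom D F c = torHom D F c * y) :
    y ∈ D.diagonalSubgroup F := by
  set h₁ := torHom D F c with hh₁
  have h1 : h₁ ∈ D.diagonalSubgroup F := g.torHom_mem c
  obtain ⟨b, hb, n, hn, π, hπw, hπ, u, hu, rfl⟩ := g.exists_canonical hc hy
  obtain ⟨v, hv, h, hh, rfl⟩ := g.mem_borel.1 hb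
  have hu1 : h₁⁻¹ * u * h₁ ∈ rootGen D F (minusSet π) := by
    have := (Subgroup.mem_normalizer_iff.1
      (g.diagonal_le_normalizer_rootGen (minusSet π) (inv_mem h1)) u).1 hu
    rwa [inv_inv] at this
  have hk : n * h₁ * n⁻¹ ∈ D.diagonalSubgroup F := g.diag_conj hn h1
  have hv2 : h₁ * v * h₁⁻¹ ∈ D.posUnipotent F :=
    (Subgroup.mem_normalizer_iff.1 (g.diagonal_le_normalizer_pos h1) v).1 hv
  have e : (v * (h * (n * h₁ * n⁻¹))) * n * (h₁⁻¹ * u * h₁) =
      (h₁ * v * h₁⁻¹ * (h₁ * h)) * n * u := by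
    calc (v * (h * (n * h₁ * n⁻¹))) * n * (h₁⁻¹ * u * h₁) = v * h * n * u * h₁ := by group
      _ = h₁ * (v * h * n * u) := he
      _ = _ := by group
  obtain ⟨e3, e5⟩ := g.canonical_unique
    (g.mem_borel.2 ⟨v, hv, _, mul_mem hh hk, rfl⟩) (g.mem_borel.2 ⟨_, hv2, _, mul_mem h1 hh, rfl⟩)
    hπ hu1 hu e
  have h3 : v⁻¹ * (h₁ * v * h₁⁻¹) ∈ D.posUnipotent F ⊓ D.diagonalSubgroup F := by
    refine Subgroup.mem_inf.2 ⟨mul_mem (inv_mem hv) hv2, ?_⟩
    have : v⁻¹ * (h₁ * v * h₁⁻¹) = h * (n * h₁ * n⁻¹) * (h₁ * h)⁻¹ := by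
      rw [eq_mul_inv_iff_mul_eq, mul_assoc v⁻¹, inv_mul_eq_iff_eq_mul]
      exact e3.symm
    rw [this]
    exact mul_mem (mul_mem hh hk) (inv_mem (mul_mem h1 hh))
  rw [g.pos_inf_diagonal, Subgroup.mem_bot, inv_mul_eq_one] at h3
  rw [← h3] at e3
  have e4 : h * (n * h₁ * n⁻¹) = h₁ * h := mul_left_cancel e3
  rw [g.diagonal_comm h1 hh] at e4
  have hnt : n * h₁ * n⁻¹ = h₁ := mul_left_cancel e4
  have hv1 : v = 1 := g.pos_fixed_eq_one hc hreg hv h3.symm
  have hu2 : u = 1 := by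
    refine g.pos_fixed_eq_one hc hreg (g.minus_le_pos π hu) ?_
    calc h₁ * u * h₁⁻¹ = h₁ * (h₁⁻¹ * u * h₁) * h₁⁻¹ := by rw [e5]
      _ = u := by group
  have hπ1 : π = 1 := by
    refine hstab n π hπw hπ fun s => ?_
    obtain ⟨d, hd⟩ := hπ s
    have k1 := hd ((rootVal c s : F) * 1)
    rw [← g.conj_rootVal c s.2 1] at k1
    have k2 : n * (h₁ * g.xG s (1 : F) * h₁⁻¹) * n⁻¹ =
        g.xG (π s) ((rootVal c (π s) : F) * ((d : F) * 1)) := by
      rw [← g.conj_rootVal c (π s).2 ((d : F) * 1), ← hd 1]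
      calc n * (h₁ * g.xG s (1 : F) * h₁⁻¹) * n⁻¹
          = (n * h₁ * n⁻¹) * (n * g.xG s (1 : F) * n⁻¹) * (n * h₁ * n⁻¹)⁻¹ := by group
        _ = _ := by rw [hnt]
    have k3 : g.xG (π s) ((d : F) * ((rootVal c s : F) * 1)) =
        g.xG (π s) ((rootVal c (π s) : F) * ((d : F) * 1)) := k1.symm.trans k2
    have k4 := congrArg (fun z : GL D.Idx F => z * (g.xG (π s) ((rootVal c (π s) : F) * ((d : F) * 1)))⁻¹) k3
    rw [mul_inv_cancel, g.xG_inv, g.xG_add] at k4
    have k5 := (g.x_eq_one_iff (π s).2 _).1 (by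
      have := congrArg Units.val k4
      rwa [g.coe_xG, Units.val_one] at this)
    refine Units.ext ?_
    have hd0 := d.ne_zero
    have : (d : F) * ((rootVal c s : F) - (rootVal c (π s) : F)) = 0 := by linear_combination k5
    exact (sub_eq_zero.1 ((mul_eq_zero.1 this).resolve_left hd0)).symm
  have hn1 : n ∈ D.diagonalSubgroup F := by
    have hk' : (⟨n, hn⟩ : ↥(D.monomialSubgroup F)) ∈ (g.rootAct (F := F)).ker :=
      Subtype.ext (g.rootAct_eq (by rw [hπ1] at hπ; exact hπ))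
    rw [g.rootAct_ker, Subgroup.mem_subgroupOf] at hk'
    exact hk'
  rw [hv1, hu2, one_mul, mul_one]
  exact mul_mem hh hn1

/-- The centraliser of a regular torus element lies in the torus. -/
theorem centralizer_regular (hc : HasComm D) {c : Fin D.rank → Fˣ}
    (hreg : ∀ r < D.nroots, rootVal c r ≠ 1)
    (hinj : ∀ r s : Fin D.nroots, rootVal c r = rootVal c s → r = s)
    {y : GL D.Idx F} (hy : y ∈ D.group F) (he : y * torHom D F c = torHom D F c * y) :
    y ∈ D.diagonalSubgroup F :=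
  g.centralizer_regular_stab hc hreg
    (fun _ _ _ _ h => Equiv.ext fun s => hinj _ _ (h s)) hy he

end Good

end CfsgLib.Chev
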