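import Mathlib
import Cfsg.Agent.Lib.Chev.TorusCentral
import Cfsg.Agent.Lib.Chev.SL2Hom
import Cfsg.Agent.Lib.Chev.Exp

/-!
Values of roots on the split torus, and the change of the ground field.
-/

set_option autoImplicit false
set_option maxHeartbeats 800000

namespace CfsgLib.Chev

open Cfsg.Lie Matrix

variable {D : ChevalleyDatum} {F : Type*} [Field F]

lemma zpow_finsum {G : Type*} [CommGroup G] {ι : Type*} (a : G) (s : Finset ι) (f : ι → ℤ) :
    a ^ (∑ i ∈ s, f i) = ∏ i ∈ s, a ^ f i := by
  classical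
  induction s using Finset.induction with
  | empty => simp
  | insert b t hb ih => rw [Finset.sum_insert hb, Finset.prod_insert hb, _root_.zpow_add, ih]

lemma rootVal_mul (c d : Fin D.rank → Fˣ) (r : ℕ) : rootVal (c * d) r = rootVal c r * rootVal d r := by
  simp only [rootVal, Pi.mul_apply, mul_zpow, Finset.prod_mul_distrib]

lemma rootVal_one (r : ℕ) : rootVal (1 : Fin D.rank → Fˣ) r = 1 := by simp [rootVal]

lemma rootVal_pow (c : Fin D.rank → Fˣ) (k r : ℕ) : rootVal (c ^ k) r = rootVal c r ^ k := by
  induction k with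
  | zero => simp [rootVal_one]
  | succ k ih => rw [pow_succ, pow_succ, rootVal_mul, ih]

/-- Entrywise application of a ring homomorphism. -/
def scalarGL (D : ChevalleyDatum) {K : Type*} [Field K] (f : F →+* K) : GL D.Idx F →* GL D.Idx K :=
  Units.map f.mapMatrix.toMonoidHom

lemma scalarGL_injective {K : Type*} [Field K] (f : F →+* K) :
    Function.Injective (scalarGL D f) :=
  fun _ _ h => Units.ext (Matrix.map_injective f.injective (congrArg Units.val h))

lemma scalarGL_torHom {K : Type*} [Field K] (f : F →+* K) (c : Fin D.rank → Fˣ) :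
    scalarGL D f (torHom D F c) = torHom D K fun i => Units.map (f : F →* K) (c i) := by
  refine Units.ext ?_
  show ((torHom D F c : GL D.Idx F) : Matrix D.Idx D.Idx F).map f = _
  rw [torHom_apply, torHom_apply, Matrix.diagonal_map (map_zero f)]
  congr 1
  funext a
  simp only [← map_zpow, ← map_prod]
  rfl

namespace Good

variable (g : Good D)
include g

/-- The values at the fundamental roots determine the value at every root. -/
theorem rootVal_eq_prod (c : Fin D.rank → Fˣ) {u : ℕ} (hu : u < D.nroots) :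
    rootVal c u = ∏ j : Fin D.rank, rootVal c (D.simple j) ^ g.co u j := by
  simp only [rootVal, ← Finset.prod_zpow]
  rw [Finset.prod_comm]
  refine Finset.prod_congr rfl fun i _ => ?_
  rw [g.cartan_eq_sum hu i.2, Finset.sum_range, zpow_finsum]
  exact Finset.prod_congr rfl fun j _ => by rw [← _root_.zpow_mul, mul_comm]

/-- An element of the torus is determined by the values of the fundamental roots. -/
theorem torHom_eq_of_simple {c c' : Fin D.rank → Fˣ}
    (h : ∀ j : Fin D.rank, rootVal c (D.simple j) = rootVal c' (D.simple j)) :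
    torHom D F c = torHom D F c' := by
  refine Units.ext ?_
  rw [torHom_apply, torHom_apply]
  congr 1
  funext a
  congr 1
  rcases a with i | u
  · simp [torExp]
  · show rootVal c u.val = rootVal c' u.val
    rw [g.rootVal_eq_prod c u.2, g.rootVal_eq_prod c' u.2]
    exact Finset.prod_congr rfl fun j _ => by rw [h j]

/-- The fundamental root values of equal torus elements agree. -/
theorem rootVal_eq_of_torHom {c c' : Fin D.rank → Fˣ} (h : torHom D F c = torHom D F c') {u : ℕ}
    (hu : u < D.nroots) : rootVal c u = rootVal c' u := by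
  have e := congrArg (fun z : GL D.Idx F => (z : Matrix D.Idx D.Idx F) (Sum.inr ⟨u, hu⟩) (Sum.inr ⟨u, hu⟩)) h
  simp only [torHom_apply, Matrix.diagonal_apply_eq] at e
  exact Units.ext e

lemma scalarGL_xG {K : Type*} [Field K] (f : F →+* K) {r : ℕ} (hr : r < D.nroots) (t : F) :
    scalarGL D f (g.xG r t) = g.xG r (f t) := by
  refine Units.ext ?_
  show ((g.xG r t : GL D.Idx F) : Matrix D.Idx D.Idx F).map f = _
  rw [g.coe_xG, g.coe_xG, g.x_eq_xr hr, g.x_eq_xr hr, xr_map]

lemma scalarGL_mem {K : Type*} [Field K] (f : F →+* K) {x : GL D.Idx F} (hx : x ∈ D.group F) :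
    scalarGL D f x ∈ D.group K := by
  have h : D.group F ≤ (D.group K).comap (scalarGL D f) :=
    g.group_le fun r hr t => by
      rw [Subgroup.mem_comap, g.scalarGL_xG f hr]
      exact g.xG_mem_group hr _
  exact Subgroup.mem_comap.1 (h hx)

omit g in
/-- Two homomorphisms of SL₂ agree when they agree on the unitriangular elements. -/
lemma sl2_ext {G : Type*} [Group G] {φ ψ : Matrix.SpecialLinearGroup (Fin 2) F →* G}
    (hU : ∀ t, φ (slU t) = ψ (slU t)) (hL : ∀ t, φ (slL t) = ψ (slL t)) : φ = ψ := by
  refine MonoidHom.eq_of_eqOn_dense (closure_slU_slL F) ?_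
  rintro x (⟨t, rfl⟩ | ⟨t, rfl⟩)
  exacts [hU t, hL t]

/-- A torus element normalising the two root groups of a rank-one homomorphism. -/
lemma torHom_conj_rootHom {r : ℕ} (hr : r < D.nroots) {φ : Matrix.SpecialLinearGroup (Fin 2) F →* GL D.Idx F}
    (hU : ∀ t, φ (slU t) = g.xG r t) (hL : ∀ t, φ (slL t) = g.xG (D.neg r) t) (c : Fin D.rank → Fˣ)
    (δ : Matrix.SpecialLinearGroup (Fin 2) F →* Matrix.SpecialLinearGroup (Fin 2) F)
    (hδU : ∀ t, δ (slU t) = slU ((rootVal c r : F) * t))
    (hδL : ∀ t, δ (slL t) = slL (((rootVal c r)⁻¹ : Fˣ) * t))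
    (M : Matrix.SpecialLinearGroup (Fin 2) F) :
    torHom D F c * φ M * (torHom D F c)⁻¹ = φ (δ M) := by
  have e : (MulAut.conj (torHom D F c)).toMonoidHom.comp φ = φ.comp δ := sl2_ext
    (fun t => by simp [hU, hδU, g.conj_rootVal c hr])
    (fun t => by
      have hn : rootVal c (D.neg r) = (rootVal c r)⁻¹ := by
        simp only [rootVal, ← Finset.prod_inv_distrib]
        exact Finset.prod_congr rfl fun i _ => by rw [g.cartan_neg i.2 hr, _root_.zpow_neg]
      simp [hL, hδL, g.conj_rootVal c (g.neg_lt hr), hn])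
  exact DFunLike.congr_fun e M

/-- Conjugation moves the root values. -/
theorem rootVal_conj {n : GL D.Idx F} {π : Equiv.Perm (Fin D.nroots)} (hn : g.Acts n π)
    {c c' : Fin D.rank → Fˣ} (he : n * torHom D F c * n⁻¹ = torHom D F c') (s : Fin D.nroots) :
    rootVal c' (π s) = rootVal c s := by
  obtain ⟨d, hd⟩ := hn s
  have k1 := hd ((rootVal c s : F) * 1)
  rw [← g.conj_rootVal c s.2 1] at k1
  have k2 : n * (torHom D F c * g.xG s (1 : F) * (torHom D F c)⁻¹) * n⁻¹ =
      g.xG (π s) ((rootVal c' (π s) : F) * ((d : F) * 1)) := by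
    rw [← g.conj_rootVal c' (π s).2 ((d : F) * 1), ← hd 1, ← he]
    group
  have k3 := k1.symm.trans k2
  have k4 := congrArg (fun z : GL D.Idx F => z * (g.xG (π s) ((rootVal c' (π s) : F) * ((d : F) * 1)))⁻¹) k3
  rw [mul_inv_cancel, g.xG_inv, g.xG_add] at k4
  have k5 := (g.x_eq_one_iff (π s).2 _).1 (by
    have := congrArg Units.val k4
    rwa [g.coe_xG, Units.val_one] at this)
  refine Units.ext ?_
  have : (d : F) * ((rootVal c s : F) - (rootVal c' (π s) : F)) = 0 := by linear_combination k5
  exact (sub_eq_zero.1 ((mul_eq_zero.1 this).resolve_left d.ne_zero)).symm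

end Good

section


end

end CfsgLib.Chev
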