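import Mathlib
import Cfsg.Agent.Lib.Chev.TorusChar
import Cfsg.Agent.Lib.Chev.CartanSmith
import Cfsg.Agent.Lib.Chev.TwistGroup

/-!
In an adjoint group with unimodular Cartan matrix the elements fixed by a field endomorphism
come from the fixed field.
-/

set_option autoImplicit false
set_option maxHeartbeats 1000000

namespace CfsgLib.Chev

open Cfsg.Lie Matrix

variable {D : ChevalleyDatum}

namespace Good

variable (g : Good D)
include g

variable {F L : Type*} [Field F] [Field L]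

theorem torHom_injective_of_inv {B : Matrix (Fin D.rank) (Fin D.rank) ℤ} (hB : B * cartanMat D = 1) :
    Function.Injective (torHom D L) := by
  refine (injective_iff_map_eq_one _).2 fun c hc => ?_
  rw [g.torHom_eq_one_iff] at hc
  rw [← powMap_one c, ← mul_eq_one_comm.1 hB, powMap_mul, MonoidHom.comp_apply, hc, map_one]

lemma scalarGL_rootGen (f : F →+* L) (S : Set ℕ) :
    (rootGen D F S).map (scalarGL D f) ≤ rootGen D L S := by
  rw [Subgroup.map_le_iff_le_comap]
  exact g.rootGen_le fun r hS hr t => by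
    rw [Subgroup.mem_comap, g.scalarGL_xG f hr]
    exact g.mem_rootGen hr hS _

lemma scalarGL_pos (f : F →+* L) {x : GL D.Idx F} (hx : x ∈ D.posUnipotent F) :
    scalarGL D f x ∈ D.posUnipotent L := by
  rw [g.posUnipotent_eq] at hx ⊢
  exact g.scalarGL_rootGen f _ (Subgroup.mem_map_of_mem _ hx)

lemma scalarGL_diag (f : F →+* L) {x : GL D.Idx F} (hx : x ∈ D.diagonalSubgroup F) :
    scalarGL D f x ∈ D.diagonalSubgroup L := by
  rw [g.diagonal_eq_range] at hx
  obtain ⟨c, rfl⟩ := hx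
  rw [scalarGL_torHom]
  exact g.torHom_mem _

lemma scalarGL_borel (f : F →+* L) {x : GL D.Idx F} (hx : x ∈ D.borelSubgroup F) :
    scalarGL D f x ∈ D.borelSubgroup L := by
  obtain ⟨v, hv, h, hh, rfl⟩ := g.mem_borel.1 hx
  rw [map_mul]
  exact g.mem_borel.2 ⟨_, g.scalarGL_pos f hv, _, g.scalarGL_diag f hh, rfl⟩

lemma scalarGL_nI (f : F →+* L) (i : Fin D.rank) : scalarGL D f (g.nI i) = g.nI i := by
  simp only [nI, nG, map_mul, g.scalarGL_xG f (g.simple_lt i.2), g.scalarGL_xG f (g.neg_lt (g.simple_lt i.2)),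
    inv_one, Units.val_one, map_one, map_neg]

lemma scalarGL_wordN (f : F →+* L) (l : List (Fin D.rank)) :
    scalarGL D f (g.wordN l) = g.wordN l := by
  induction l with
  | nil => rw [g.wordN_nil, g.wordN_nil, map_one]
  | cons i l ih => rw [g.wordN_cons, g.wordN_cons, map_mul, ih, g.scalarGL_nI]

lemma scalarGL_xProd (f : F →+* L) (t : ℕ → F) (m : ℕ) :
    scalarGL D f (g.xProd t m) = g.xProd (fun r => f (t r)) m := by
  rw [xProd, map_list_prod, List.map_map, xProd]
  refine congrArg List.prod (List.map_congr_left fun r hr => ?_)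
  rw [List.mem_range'_1] at hr
  exact g.scalarGL_xG f (by omega) (t r)

/-- A fixed unipotent element has fixed coordinates. -/
lemma pos_fixed_range (hc : HasComm D) (ι : F →+* L) (φ : L →+* L)
    (hφ : ∀ x, φ x = x → ∃ a, ι a = x) {v : GL D.Idx L} (hv : v ∈ D.posUnipotent L)
    (hfix : scalarGL D φ v = v) : ∃ v₀ ∈ D.group F, scalarGL D ι v₀ = v := by
  rw [g.posUnipotent_eq] at hv
  obtain ⟨t, rfl⟩ := g.exists_xProd hc le_rfl hv
  rw [g.scalarGL_xProd] at hfix
  have hsec : ∀ r, ∃ a : F, half D ≤ r → r < D.nroots → ι a = t r := fun r => by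
    by_cases h : half D ≤ r ∧ r < D.nroots
    · obtain ⟨a, ha⟩ := hφ _ (g.xProd_inj le_rfl hfix h.1 h.2)
      exact ⟨a, fun _ _ => ha⟩
    · exact ⟨0, fun h1 h2 => absurd ⟨h1, h2⟩ h⟩
  choose s hs using hsec
  refine ⟨g.xProd s (half D), Subgroup.list_prod_mem _ fun x hx => ?_, ?_⟩
  · obtain ⟨r, hr, rfl⟩ := List.mem_map.1 hx
    rw [List.mem_range'_1] at hr
    exact g.xG_mem_group (by omega) _
  · rw [g.scalarGL_xProd, xProd, xProd]
    refine congrArg List.prod (List.map_congr_left fun r hr => ?_)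
    rw [List.mem_range'_1] at hr
    rw [hs r hr.1 (by omega)]

/-- The fixed points of a field endomorphism. -/
theorem fixed_range (hc : HasComm D) {B : Matrix (Fin D.rank) (Fin D.rank) ℤ}
    (hB : B * cartanMat D = 1) (ι : F →+* L) (φ : L →+* L) (hφ : ∀ x, φ x = x → ∃ a, ι a = x)
    {y : GL D.Idx L} (hy : y ∈ D.group L) (hfix : scalarGL D φ y = y) :
    ∃ x ∈ D.group F, scalarGL D ι x = y := by
  obtain ⟨b₀, hb₀, n, hn, π, hπw, hπ, u, hu, rfl⟩ := g.exists_canonical hc hy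
  obtain ⟨l, hl⟩ := g.exists_wperm hπw
  have hnl : g.Acts (g.wordN (F := L) l) π := hl ▸ g.acts_wordN l
  have hd := g.monomial_same_acts hn (g.wordN_mem (F := L) l) hπ hnl
  set b := b₀ * (n * (g.wordN (F := L) l)⁻¹) with hb
  have hbm : b ∈ D.borelSubgroup L := mul_mem hb₀ (Subgroup.mem_sup_right hd)
  have he : b₀ * n * u = b * g.wordN l * u := by rw [hb]; group
  rw [he] at hfix hy ⊢
  rw [map_mul, map_mul, g.scalarGL_wordN] at hfix
  obtain ⟨hbf, huf⟩ := g.canonical_unique (g.scalarGL_borel φ hbm) hbm hnl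
    (g.scalarGL_rootGen φ _ (Subgroup.mem_map_of_mem _ hu)) hu hfix
  obtain ⟨v, hv, h, hh, hvh⟩ := g.mem_borel.1 hbm
  rw [← hvh, map_mul] at hbf
  have hsplit : v⁻¹ * scalarGL D φ v = h * (scalarGL D φ h)⁻¹ := by
    rw [eq_mul_inv_iff_mul_eq, mul_assoc, hbf, inv_mul_cancel_left]
  have h3 : v⁻¹ * scalarGL D φ v ∈ D.posUnipotent L ⊓ D.diagonalSubgroup L :=
    Subgroup.mem_inf.2 ⟨mul_mem (inv_mem hv) (g.scalarGL_pos φ hv),
      hsplit ▸ mul_mem hh (inv_mem (g.scalarGL_diag φ hh))⟩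
  rw [g.pos_inf_diagonal, Subgroup.mem_bot, inv_mul_eq_one] at h3
  rw [← h3] at hbf
  have hhf : scalarGL D φ h = h := mul_left_cancel hbf
  obtain ⟨v₀, hv₀, ev⟩ := g.pos_fixed_range hc ι φ hφ hv h3.symm
  obtain ⟨u₀, hu₀, eu⟩ := g.pos_fixed_range hc ι φ hφ (g.minus_le_pos _ hu) huf
  rw [g.diagonal_eq_range] at hh
  obtain ⟨c, rfl⟩ := hh
  rw [scalarGL_torHom] at hhf
  have hcf := g.torHom_injective_of_inv hB hhf
  have hci : ∀ i, ∃ a : Fˣ, Units.map (ι : F →* L) a = c i := fun i => by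
    obtain ⟨a, ha⟩ := hφ (c i : L) (congrArg Units.val (congrFun hcf i))
    have h0 : a ≠ 0 := fun e => (c i).ne_zero (by rw [← ha, e, map_zero])
    exact ⟨Units.mk0 a h0, Units.ext ha⟩
  choose c₀ hc₀ using hci
  refine ⟨v₀ * torHom D F c₀ * g.wordN l * u₀, mul_mem (mul_mem (mul_mem hv₀
    (g.diagonal_le_group (g.torHom_mem c₀))) (g.monomial_le_group (g.wordN_mem l))) hu₀, ?_⟩
  rw [map_mul, map_mul, map_mul, ev, eu, g.scalarGL_wordN, scalarGL_torHom, ← hvh,
    show (fun i => Units.map (ι : F →* L) (c₀ i)) = c from funext hc₀]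

end Good

end CfsgLib.Chev
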