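import Mathlib
import Cfsg.Agent.Lib.Chev.TorusChar
import Cfsg.Agent.Lib.Chev.CartanSmith

/-!
The linear action of the Weyl group on the root lattice, and exponents of torus elements.
-/

set_option autoImplicit false
set_option maxHeartbeats 1000000

namespace CfsgLib.Chev

open Cfsg.Lie Matrix

variable {D : ChevalleyDatum}

namespace Good

variable (g : Good D)
include g

/-- The matrix of a permutation of the roots on the fundamental coordinates, row by row. -/
noncomputable def coMat (π : Equiv.Perm (Fin D.nroots)) : Matrix (Fin D.rank) (Fin D.rank) ℤ :=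
  Matrix.of fun j i => g.co (π (g.sroot j)) i

/-- The coordinates of a root as a vector. -/
noncomputable def coVec (r : Fin D.nroots) : Fin D.rank → ℤ := fun i => g.co r i

lemma coMat_row (π : Equiv.Perm (Fin D.nroots)) (j : Fin D.rank) :
    g.coMat π j = g.coVec (π (g.sroot j)) := rfl

lemma coVec_sroot (j : Fin D.rank) : g.coVec (g.sroot j) = fun i => if j = i then 1 else 0 := by
  funext i
  show g.co (D.simple j) i = _
  rw [g.co_simple j.2 i.2]
  exact if_congr Fin.ext_iff.symm rfl rfl

lemma coMat_one : g.coMat 1 = 1 := by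
  ext j i
  rw [g.coMat_row, Equiv.Perm.one_apply, g.coVec_sroot, Matrix.one_apply]

lemma coVec_injective : Function.Injective g.coVec := by
  intro a b h
  refine Fin.ext (g.wt_inj a.2 b.2 ?_)
  rw [g.wt_eq, g.wt_eq]
  refine Finset.sum_congr rfl fun j hj => ?_
  rw [show g.co a j = g.co b j from congrFun h ⟨j, Finset.mem_range.1 hj⟩]

lemma coVec_nroot (a : Fin D.nroots) : g.coVec (g.nroot a) = - g.coVec a := by
  funext i
  exact g.co_neg a.2 i.2

/-- A Weyl element acts linearly on the roots. -/
theorem coVec_apply {π : Equiv.Perm (Fin D.nroots)} (hπ : π ∈ g.weyl) (r : Fin D.nroots) :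
    g.coVec (π r) = g.coVec r ᵥ* g.coMat π := by
  induction hπ using Subgroup.closure_induction_left generalizing r with
  | one => rw [g.coMat_one, Matrix.vecMul_one, Equiv.Perm.one_apply]
  | mul_left x hx y _ ih =>
    obtain ⟨a, rfl⟩ := hx
    have hstep : ∀ s : Fin D.nroots, ∀ i : Fin D.rank,
        g.coVec (g.rperm a s) i = g.coVec s i - if a = i then D.cartan a s else 0 := by
      intro s i
      show g.co (D.reflectRoot a s) i = _
      rw [g.co_refl a.2 s.2 i.2]
      exact congrArg (fun z => g.co s i - z) (if_congr Fin.ext_iff.symm rfl rfl)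
    have hlin : ∀ s : Fin D.nroots, D.cartan a s = ∑ j : Fin D.rank, g.coVec s j * D.cartan a (D.simple j) := by
      intro s
      rw [g.cartan_eq_sum s.2 a.2, Finset.sum_range]
      rfl
    funext i
    rw [Equiv.Perm.mul_apply, hstep, hlin, ih]
    show _ = ∑ j, g.coVec r j * g.coMat (g.rperm a * y) j i
    simp only [g.coMat_row, Equiv.Perm.mul_apply, hstep, hlin (y (g.sroot _)), mul_sub, Finset.sum_sub_distrib]
    refine congrArg₂ (· - ·) ?_ ?_
    · rfl
    · split_ifs with h
      · simp only [Matrix.vecMul, dotProduct, g.coMat_row, Finset.mul_sum, Finset.sum_mul]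
        rw [Finset.sum_comm]
        exact Finset.sum_congr rfl fun j _ => Finset.sum_congr rfl fun k _ => by ring
      · simp
  | inv_mul_cancel x hx y _ ih =>
    obtain ⟨a, rfl⟩ := hx
    rw [g.rperm_inv]
    have hstep : ∀ s : Fin D.nroots, ∀ i : Fin D.rank,
        g.coVec (g.rperm a s) i = g.coVec s i - if a = i then D.cartan a s else 0 := by
      intro s i
      show g.co (D.reflectRoot a s) i = _
      rw [g.co_refl a.2 s.2 i.2]
      exact congrArg (fun z => g.co s i - z) (if_congr Fin.ext_iff.symm rfl rfl)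
    have hlin : ∀ s : Fin D.nroots, D.cartan a s = ∑ j : Fin D.rank, g.coVec s j * D.cartan a (D.simple j) := by
      intro s
      rw [g.cartan_eq_sum s.2 a.2, Finset.sum_range]
      rfl
    funext i
    rw [Equiv.Perm.mul_apply, hstep, hlin, ih]
    show _ = ∑ j, g.coVec r j * g.coMat (g.rperm a * y) j i
    simp only [g.coMat_row, Equiv.Perm.mul_apply, hstep, hlin (y (g.sroot _)), mul_sub, Finset.sum_sub_distrib]
    refine congrArg₂ (· - ·) ?_ ?_
    · rfl
    · split_ifs with h
      · simp only [Matrix.vecMul, dotProduct, g.coMat_row, Finset.mul_sum, Finset.sum_mul]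
        rw [Finset.sum_comm]
        exact Finset.sum_congr rfl fun j _ => Finset.sum_congr rfl fun k _ => by ring
      · simp

lemma coMat_mul {π σ : Equiv.Perm (Fin D.nroots)} (hπ : π ∈ g.weyl) :
    g.coMat (π * σ) = g.coMat σ * g.coMat π := by
  ext j i
  show g.coVec ((π * σ) (g.sroot j)) i = _
  rw [Equiv.Perm.mul_apply, g.coVec_apply hπ]
  rfl

lemma coMat_pow {π : Equiv.Perm (Fin D.nroots)} (hπ : π ∈ g.weyl) (k : ℕ) :
    g.coMat (π ^ k) = g.coMat π ^ k := by
  induction k with
  | zero => rw [pow_zero, pow_zero, g.coMat_one]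
  | succ k ih => rw [pow_succ, g.coMat_mul (pow_mem hπ k), ih, pow_succ']

lemma coMat_inv_mul {π : Equiv.Perm (Fin D.nroots)} (hπ : π ∈ g.weyl) :
    g.coMat π⁻¹ * g.coMat π = 1 ∧ g.coMat π * g.coMat π⁻¹ = 1 := by
  rw [← g.coMat_mul hπ, ← g.coMat_mul (inv_mem hπ), mul_inv_cancel, inv_mul_cancel, g.coMat_one]
  exact ⟨rfl, rfl⟩

/-- The linear action is faithful. -/
theorem coMat_eq_one {π : Equiv.Perm (Fin D.nroots)} (hπ : π ∈ g.weyl) (h : g.coMat π = 1) : π = 1 := by
  refine Equiv.ext fun r => g.coVec_injective ?_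
  rw [g.coVec_apply hπ, h, Matrix.vecMul_one, Equiv.Perm.one_apply]

/-- The reflection in a root fixes the vectors orthogonal to it. -/
theorem exists_reflection (α : Fin D.nroots) :
    ∃ s ∈ g.weyl, s α = g.nroot α ∧ ∀ (S : Type) [CommRing S] (k : Fin D.rank → S),
      (∑ i, (g.coVec α i : S) * k i) = 0 → (g.coMat s).map (Int.cast : ℤ → S) *ᵥ k = k := by
  obtain ⟨l, i, h1, -⟩ := g.exists_word_simple α.2
  set u := g.wperm l with hu
  have hum : u ∈ g.weyl := Subgroup.list_prod_mem _ fun x hx => by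
    obtain ⟨j, -, rfl⟩ := List.mem_map.1 hx
    exact Subgroup.subset_closure ⟨j, rfl⟩
  have hui : u (g.sroot i) = α := Fin.ext h1
  have hr : g.rperm i ∈ g.weyl := Subgroup.subset_closure ⟨i, rfl⟩
  refine ⟨u * g.rperm i * u⁻¹, mul_mem (mul_mem hum hr) (inv_mem hum), ?_, fun S _ k hk => ?_⟩
  · rw [← hui, Equiv.Perm.mul_apply, Equiv.Perm.mul_apply, Equiv.Perm.inv_def, Equiv.symm_apply_apply,
      g.rperm_sroot]
    refine g.coVec_injective ?_
    rw [g.coVec_apply hum, g.coVec_nroot, g.coVec_nroot, g.coVec_apply hum, Matrix.neg_vecMul]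
  · rw [g.coMat_mul (mul_mem hum hr), g.coMat_mul hum]
    have hmm : ∀ A B : Matrix (Fin D.rank) (Fin D.rank) ℤ,
        (A * B).map (Int.cast : ℤ → S) = A.map (Int.cast : ℤ → S) * B.map (Int.cast : ℤ → S) :=
      fun A B => Matrix.map_mul (f := Int.castRingHom S)
    set y := (g.coMat u).map (Int.cast : ℤ → S) *ᵥ k with hy
    have hyi : y i = 0 := by
      rw [← hk, hy]
      show ∑ t, ((g.coMat u i t : ℤ) : S) * k t = _
      refine Finset.sum_congr rfl fun t _ => ?_
      rw [g.coMat_row, hui]
    have hry : (g.coMat (g.rperm i)).map (Int.cast : ℤ → S) *ᵥ y = y := by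
      funext j
      show ∑ t, ((g.coMat (g.rperm i) j t : ℤ) : S) * y t = y j
      have e : ∀ t, g.coMat (g.rperm i) j t = (if j = t then 1 else 0) - if i = t then D.cartan i (g.sroot j) else 0 := by
        intro t
        show g.co (D.reflectRoot i (D.simple j)) t = _
        rw [g.co_refl i.2 (g.simple_lt j.2) t.2, g.co_simple j.2 t.2]
        exact congrArg₂ (· - ·) (if_congr Fin.ext_iff.symm rfl rfl) (if_congr Fin.ext_iff.symm rfl rfl)
      simp only [e, Int.cast_sub, sub_mul, Finset.sum_sub_distrib, apply_ite (Int.cast : ℤ → S), Int.cast_one,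
        Int.cast_zero, ite_mul, one_mul, zero_mul, Finset.sum_ite_eq, Finset.mem_univ, if_true, hyi, mul_zero, sub_zero]
    rw [hmm, hmm, ← Matrix.mulVec_mulVec, ← Matrix.mulVec_mulVec, ← hy, hry, hy, Matrix.mulVec_mulVec, ← hmm,
      (g.coMat_inv_mul hum).1, Matrix.map_one _ Int.cast_zero Int.cast_one, Matrix.one_mulVec]

section Exponent

variable {L : Type*} [Field L] (γ : Lˣ)

/-- The torus element with given exponents at the fundamental roots. -/
noncomputable def expTor (_g : Good D) (B : Matrix (Fin D.rank) (Fin D.rank) ℤ) (k : Fin D.rank → ℤ) :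
    GL D.Idx L :=
  torHom D L (powMap B fun j => γ ^ k j)

lemma rootVal_powMap {B : Matrix (Fin D.rank) (Fin D.rank) ℤ} (hB : B * cartanMat D = 1)
    (k : Fin D.rank → ℤ) (u : Fin D.nroots) :
    rootVal (powMap B fun j => γ ^ k j) u = γ ^ (∑ i, g.coVec u i * k i) := by
  rw [g.rootVal_eq_prod _ u.2, zpow_finsum]
  refine Finset.prod_congr rfl fun j _ => ?_
  have e : rootVal (powMap B fun j => γ ^ k j) (D.simple j) = γ ^ k j := by
    show powMap (cartanMat D) (powMap B fun j => γ ^ k j) j = _
    rw [← MonoidHom.comp_apply, ← powMap_mul, hB, powMap_one]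
  rw [e, ← _root_.zpow_mul, mul_comm]
  rfl

end Exponent

end Good

end CfsgLib.Chev
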