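import Mathlib

/-!
Integer matrices of finite order with a primitive eigenvalue modulo a prime, and the fixed
points of such a twist on a torus.
-/

set_option autoImplicit false
set_option maxHeartbeats 1000000

namespace CfsgLib.Chev.Springer

open Matrix Polynomial

/-- A finite abelian group with at most `s` elements of exponent `s` for every prime `s` is cyclic. -/
theorem isCyclic_of_prime_torsion {G : Type*} [CommGroup G] [Finite G]
    (h : ∀ s : ℕ, s.Prime → Nat.card {z : G // z ^ s = 1} ≤ s) : IsCyclic G := by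
  classical
  haveI := Fintype.ofFinite G
  refine isCyclic_of_card_pow_eq_one_le fun n hn => ?_
  induction n using Nat.strong_induction_on with
  | _ n ih =>
    rcases Nat.lt_or_ge n 2 with h2 | h2
    · obtain rfl : n = 1 := by omega
      rw [Finset.card_le_one]
      intro a ha b hb
      simp only [Finset.mem_filter, Finset.mem_univ, true_and, pow_one] at ha hb
      rw [ha, hb]
    · obtain ⟨s, hs, m, rfl⟩ : ∃ s : ℕ, s.Prime ∧ ∃ m, n = s * m :=
        ⟨n.minFac, Nat.minFac_prime (by omega), n.minFac_dvd⟩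
      have hm : 0 < m := Nat.pos_of_mul_pos_left hn
      have ihm := ih m (lt_mul_of_one_lt_left hm hs.one_lt) hm
      refine le_trans (Finset.card_le_mul_card_image (f := fun z => z ^ s) _ s fun b _ => ?_)
        (Nat.mul_le_mul_left s (le_trans (Finset.card_le_card ?_) ihm))
      · rcases Finset.eq_empty_or_nonempty (Finset.univ.filter fun z : G => z ^ s = b) with he | ⟨z₀, hz₀⟩
        · refine le_trans (Finset.card_le_card (t := ∅) fun z hz => ?_) (by simp)
          rw [← he]
          simp only [Finset.mem_filter, Finset.mem_univ, true_and] at hz ⊢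
          exact hz.2
        · refine le_trans ?_ (h s hs)
          rw [Nat.card_eq_fintype_card, Fintype.card_subtype]
          refine Finset.card_le_card_of_injOn (fun z => z / z₀) (fun z hz => ?_) fun z _ y _ e => div_left_injective e
          simp only [Finset.coe_filter, Finset.mem_filter, Finset.mem_univ, true_and, Set.mem_setOf_eq] at hz hz₀ ⊢
          rw [div_pow, hz.2, hz₀, div_self']
      · intro b hb
        obtain ⟨z, hz, rfl⟩ := Finset.mem_image.1 hb
        simp only [Finset.mem_filter, Finset.mem_univ, true_and] at hz ⊢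
        rw [← pow_mul, hz]

variable {ι : Type*} [Fintype ι] [DecidableEq ι]

/-- A matrix of finite order prime to `r`, with an eigenvalue modulo `r` of order `d`, where the
dimension is `φ(d)`, has the cyclotomic polynomial as characteristic polynomial. -/
theorem charpoly_eq_cyclotomic (R : Matrix ι ι ℤ) {e : ℕ} (he : R ^ e = 1) (he0 : 0 < e)
    {r d : ℕ} [Fact r.Prime] (hd : d.totient = Fintype.card ι) (hrd : ¬ r ∣ d) (hre : ¬ r ∣ e)
    {q : ℤ} (hq : (r : ℤ) ∣ (cyclotomic d ℤ).eval q) {v : ι → ZMod r} (hv : v ≠ 0)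
    (hRv : R.map (Int.cast : ℤ → ZMod r) *ᵥ v = (q : ZMod r) • v) :
    R.charpoly = cyclotomic d ℤ := by
  classical
  have hd0 : 0 < d := by
    rcases Nat.eq_zero_or_pos d with rfl | h
    · exact absurd (dvd_zero r) hrd
    · exact h
  haveI : NeZero (d : ZMod r) := ⟨by rwa [ne_eq, CharP.cast_eq_zero_iff (ZMod r) r]⟩
  have hqd : IsPrimitiveRoot (q : ZMod r) d := by
    rw [← isRoot_cyclotomic_iff, IsRoot.def, ← map_cyclotomic_int, eval_intCast_map,
      eq_intCast, ZMod.intCast_zmod_eq_zero_iff_dvd]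
    exact hq
  set P : ℤ[X] := ∏ m ∈ e.divisors.erase d, cyclotomic m ℤ with hP
  set RQ : Matrix ι ι ℚ := R.map (Int.cast : ℤ → ℚ) with hRQ
  have hPd : (X ^ e - 1 : ℤ[X]) ∣ cyclotomic d ℤ * P := by
    rw [← prod_cyclotomic_eq_X_pow_sub_one he0, hP]
    by_cases hmem : d ∈ e.divisors
    · rw [← Finset.mul_prod_erase _ _ hmem]
    · rw [Finset.erase_eq_of_notMem hmem]; exact dvd_mul_left _ _
  have hRQe : aeval RQ ((X ^ e - 1 : ℤ[X]).map (Int.castRingHom ℚ)) = 0 := by
    simp only [Polynomial.map_sub, Polynomial.map_pow, map_X, Polynomial.map_one, map_sub, map_pow, aeval_X, map_one]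
    rw [hRQ, show R.map (Int.cast : ℤ → ℚ) = (Int.castRingHom ℚ).mapMatrix R from rfl, ← map_pow, he, map_one, sub_self]
  have hdvd : minpoly ℚ RQ ∣ cyclotomic d ℚ * P.map (Int.castRingHom ℚ) := by
    refine (minpoly.dvd ℚ RQ hRQe).trans ?_
    rw [← map_cyclotomic_int, ← Polynomial.map_mul]
    exact Polynomial.map_dvd _ hPd
  by_cases hmin : cyclotomic d ℚ ∣ minpoly ℚ RQ
  · have hchar : cyclotomic d ℚ ∣ RQ.charpoly := hmin.trans (Matrix.minpoly_dvd_charpoly RQ)
    have e1 : RQ.charpoly = cyclotomic d ℚ :=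
      (eq_of_monic_of_dvd_of_natDegree_le (cyclotomic.monic d ℚ) RQ.charpoly_monic hchar (by
        rw [Matrix.charpoly_natDegree_eq_dim, natDegree_cyclotomic, hd]))
    apply Polynomial.map_injective (Int.castRingHom ℚ) Int.cast_injective
    rw [map_cyclotomic_int, ← Matrix.charpoly_map, ← e1]
    rfl
  · exfalso
    have hcop : IsCoprime (cyclotomic d ℚ) (minpoly ℚ RQ) :=
      (cyclotomic.irreducible_rat hd0).coprime_iff_not_dvd.2 hmin
    have hP0 : aeval RQ (P.map (Int.castRingHom ℚ)) = 0 :=
      aeval_eq_zero_of_dvd_aeval_eq_zero (hcop.symm.dvd_of_dvd_mul_left hdvd) (minpoly.aeval ℚ RQ)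
    have hPZ : aeval R P = 0 := by
      apply Matrix.map_injective (Int.cast_injective (α := ℚ))
      show (aeval R P).map (Int.cast : ℤ → ℚ) = (0 : Matrix ι ι ℤ).map (Int.cast : ℤ → ℚ)
      rw [Matrix.map_zero _ Int.cast_zero, ← hP0]
      rw [show (aeval R P).map (Int.cast : ℤ → ℚ) = (Int.castRingHom ℚ).mapMatrix (aeval R P) from rfl]
      rw [aeval_def, aeval_def, eval₂_map, hom_eval₂, hRQ]
      congr 1
      exact RingHom.ext_int _ _
    have hev : ((P.eval q : ℤ) : ZMod r) • v = 0 := by
      have key : ∀ p : ℤ[X], (aeval R p).map (Int.cast : ℤ → ZMod r) *ᵥ v = ((p.eval q : ℤ) : ZMod r) • v := by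
        intro p
        induction p using Polynomial.induction_on' with
        | add a b ha hb =>
          rw [map_add, Matrix.map_add _ Int.cast_add, Matrix.add_mulVec, ha, hb, eval_add, Int.cast_add, add_smul]
        | monomial k a =>
          rw [aeval_monomial, eval_monomial, Int.cast_mul, Int.cast_pow]
          have hk : ∀ k : ℕ, (R ^ k).map (Int.cast : ℤ → ZMod r) *ᵥ v = (q : ZMod r) ^ k • v := by
            intro k
            induction k with
            | zero => rw [pow_zero, Matrix.map_one _ Int.cast_zero Int.cast_one, Matrix.one_mulVec, pow_zero, one_smul]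
            | succ k ih =>
              rw [pow_succ', show (R * R ^ k).map (Int.cast : ℤ → ZMod r) =
                  R.map (Int.cast : ℤ → ZMod r) * (R ^ k).map (Int.cast : ℤ → ZMod r) from
                  Matrix.map_mul (f := Int.castRingHom (ZMod r)),
                ← Matrix.mulVec_mulVec, ih, Matrix.mulVec_smul, hRv, smul_smul, pow_succ]
          rw [← Algebra.smul_def, Matrix.map_smul' , Matrix.smul_mulVec, hk, smul_smul]
          exact fun x y => Int.cast_mul x y
      rw [← key P, hPZ, Matrix.map_zero _ Int.cast_zero, Matrix.zero_mulVec]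
    have hPq : ((P.eval q : ℤ) : ZMod r) = 0 := by
      by_contra hne
      exact hv ((smul_eq_zero.1 hev).resolve_left hne)
    rw [hP, eval_prod, Int.cast_prod, Finset.prod_eq_zero_iff] at hPq
    obtain ⟨m, hm, hm0⟩ := hPq
    obtain ⟨hmd, hme⟩ := Finset.mem_erase.1 hm
    haveI : NeZero (m : ZMod r) :=
      ⟨by rw [ne_eq, CharP.cast_eq_zero_iff (ZMod r) r]; exact fun h => hre (h.trans (Nat.dvd_of_mem_divisors hme))⟩
    have hqm : IsPrimitiveRoot (q : ZMod r) m := by
      rw [← isRoot_cyclotomic_iff, IsRoot.def, ← map_cyclotomic_int, eval_intCast_map, eq_intCast]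
      exact hm0
    exact hmd (hqm.unique hqd)

/-- A matrix commuting with one whose characteristic polynomial is irreducible is zero or invertible. -/
theorem det_ne_zero_of_commute {R E : Matrix ι ι ℤ} {d : ℕ} (hd : 0 < d)
    (hR : R.charpoly = cyclotomic d ℤ) (hcomm : E * R = R * E) (hE : E ≠ 0) : E.det ≠ 0 := by
  classical
  intro hdet
  set RQ : Matrix ι ι ℚ := R.map (Int.cast : ℤ → ℚ)
  set EQ : Matrix ι ι ℚ := E.map (Int.cast : ℤ → ℚ)
  have hcard : Fintype.card ι = d.totient := by
    rw [← natDegree_cyclotomic d ℤ, ← hR, Matrix.charpoly_natDegree_eq_dim]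
  have hchar : RQ.charpoly = cyclotomic d ℚ := by
    rw [show RQ = R.map (Int.castRingHom ℚ) from rfl, Matrix.charpoly_map, hR, map_cyclotomic_int]
  have hc : EQ * RQ = RQ * EQ := by
    show E.map (Int.castRingHom ℚ) * R.map (Int.castRingHom ℚ) =
      R.map (Int.castRingHom ℚ) * E.map (Int.castRingHom ℚ)
    rw [← Matrix.map_mul, hcomm, Matrix.map_mul]
  have hdq : EQ.det = 0 := by
    rw [show EQ = (Int.castRingHom ℚ).mapMatrix E from rfl, ← RingHom.map_det, hdet, map_zero]
  obtain ⟨x, hx0, hx⟩ := Matrix.exists_mulVec_eq_zero_iff.2 hdq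
  have hli : LinearIndependent ℚ fun k : Fin (Fintype.card ι) => (RQ ^ (k : ℕ)) *ᵥ x := by
    rw [Fintype.linearIndependent_iff]
    intro c hc0 k
    by_contra hck
    set p : ℚ[X] := ∑ j : Fin (Fintype.card ι), C (c j) * X ^ (j : ℕ) with hp
    have hpx : aeval RQ p *ᵥ x = 0 := by
      rw [hp, map_sum, Matrix.sum_mulVec, ← hc0]
      refine Finset.sum_congr rfl fun j _ => ?_
      rw [map_mul, aeval_C, map_pow, aeval_X, ← Algebra.smul_def, Matrix.smul_mulVec]
    have hpk : p.coeff k = c k := by
      rw [hp, finset_sum_coeff, Finset.sum_eq_single k]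
      · simp
      · intro j _ hj
        simp [Fin.val_injective.ne hj.symm]
      · simp
    have hp0 : p ≠ 0 := fun h => hck (by rw [← hpk, h, coeff_zero])
    have hdeg : p.natDegree < (cyclotomic d ℚ).natDegree := by
      rw [natDegree_cyclotomic, ← hcard]
      have hn : 0 < Fintype.card ι := by have := k.2; omega
      refine lt_of_le_of_lt (natDegree_sum_le_of_forall_le _ _ fun j _ => ?_) (Nat.sub_lt hn one_pos)
      exact (natDegree_C_mul_X_pow_le _ _).trans (by have := j.2; omega)
    have hcop : IsCoprime (cyclotomic d ℚ) p :=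
      (cyclotomic.irreducible_rat hd).coprime_iff_not_dvd.2 fun h => absurd (natDegree_le_of_dvd h hp0) (by omega)
    obtain ⟨a, b, hab⟩ := hcop
    have h1 : aeval RQ (a * cyclotomic d ℚ + b * p) *ᵥ x = x := by rw [hab, map_one, Matrix.one_mulVec]
    rw [map_add, map_mul, map_mul, ← hchar, Matrix.aeval_self_charpoly, mul_zero, zero_add,
      ← Matrix.mulVec_mulVec, hpx, Matrix.mulVec_zero] at h1
    exact hx0 h1.symm
  have hker : ∀ k : ℕ, EQ *ᵥ ((RQ ^ k) *ᵥ x) = 0 := by
    intro k
    induction k with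
    | zero => rw [pow_zero, Matrix.one_mulVec, hx]
    | succ k ih =>
      rw [pow_succ', ← Matrix.mulVec_mulVec, Matrix.mulVec_mulVec, hc, ← Matrix.mulVec_mulVec, ih, Matrix.mulVec_zero]
  haveI : Nonempty ι := by
    by_contra hne
    rw [not_nonempty_iff] at hne
    exact hx0 (funext fun i => isEmptyElim i)
  have hspan := hli.span_eq_top_of_card_eq_finrank (by simp)
  refine hE (Matrix.map_injective (Int.cast_injective (α := ℚ)) ?_)
  show EQ = (0 : Matrix ι ι ℤ).map (Int.cast : ℤ → ℚ)
  rw [Matrix.map_zero _ Int.cast_zero]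
  refine Matrix.toLin'.injective (LinearMap.ext_on_range hspan fun k => ?_)
  rw [Matrix.toLin'_apply, hker, map_zero, LinearMap.zero_apply]

/-- At most `s` eigenvectors for a simple eigenvalue modulo a prime `s` not dividing `d`. -/
theorem card_eigen_le {R : Matrix ι ι ℤ} {d : ℕ} (hR : R.charpoly = cyclotomic d ℤ)
    {s : ℕ} [Fact s.Prime] (hsd : ¬ s ∣ d) (q : ℤ) :
    Nat.card {u : ι → ZMod s // R.map (Int.cast : ℤ → ZMod s) *ᵥ u = (q : ZMod s) • u} ≤ s := by
  classical
  set f : Module.End (ZMod s) (ι → ZMod s) := Matrix.toLin' (R.map (Int.cast : ℤ → ZMod s))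
  haveI : NeZero (d : ZMod s) := ⟨by rwa [ne_eq, CharP.cast_eq_zero_iff (ZMod s) s]⟩
  have hle : Module.finrank (ZMod s) (f.eigenspace (q : ZMod s)) ≤ 1 := by
    refine (LinearMap.finrank_eigenspace_le f _).trans ?_
    have hch : f.charpoly = cyclotomic d (ZMod s) := by
      rw [Matrix.charpoly_toLin', show R.map (Int.cast : ℤ → ZMod s) = R.map (Int.castRingHom (ZMod s)) from rfl,
        Matrix.charpoly_map, hR, map_cyclotomic_int]
    rw [hch]
    exact rootMultiplicity_le_one_of_separable (separable_cyclotomic d (ZMod s)) _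
  have he : Nat.card {u : ι → ZMod s // R.map (Int.cast : ℤ → ZMod s) *ᵥ u = (q : ZMod s) • u} =
      Nat.card (f.eigenspace (q : ZMod s)) :=
    Nat.card_congr (Equiv.subtypeEquivRight fun u => by
      rw [Module.End.mem_eigenspace_iff, Matrix.toLin'_apply])
  rw [he, Module.natCard_eq_pow_finrank (K := ZMod s), Nat.card_zmod]
  calc s ^ Module.finrank (ZMod s) (f.eigenspace (q : ZMod s)) ≤ s ^ 1 :=
        Nat.pow_le_pow_right (Fact.out : s.Prime).pos hle
    _ = s := pow_one s

/-- The number of solutions of `A k = 0` modulo a multiple of the determinant. -/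
theorem card_ker_mod (A : Matrix ι ι ℤ) {M : ℕ} [NeZero M] (hA : A.det ≠ 0) (hM : A.det ∣ (M : ℤ)) :
    Nat.card (Matrix.toLin' (A.map (Int.cast : ℤ → ZMod M))).toAddMonoidHom.ker = A.det.natAbs := by
  classical
  set f := (Matrix.toLin' (A.map (Int.cast : ℤ → ZMod M))).toAddMonoidHom with hf
  let ρ : (ι → ℤ) →+ (ι → ZMod M) := AddMonoidHom.compLeft (Int.castAddHom (ZMod M)) ι
  have hρ : Function.Surjective ρ := fun x => ⟨fun i => (x i).cast, funext fun i => ZMod.intCast_zmod_cast (x i)⟩
  set AL := Matrix.toLin' A with hAL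
  have hcomm : ∀ x, f (ρ x) = ρ (AL x) := by
    intro x
    funext i
    show (A.map (Int.cast : ℤ → ZMod M) *ᵥ fun j => ((x j : ℤ) : ZMod M)) i = (((A *ᵥ x) i : ℤ) : ZMod M)
    simp [Matrix.mulVec, dotProduct]
  have hcomap : f.range.comap ρ = AL.toAddMonoidHom.range := by
    ext x
    constructor
    · intro hx
      obtain ⟨z, hz⟩ := hx
      obtain ⟨y, rfl⟩ := hρ z
      rw [hcomm] at hz
      have hdiv : ∀ i, (M : ℤ) ∣ x i - AL y i := fun i => by
        have := congrFun hz i
        show (M : ℤ) ∣ x i - AL y i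
        exact (ZMod.intCast_eq_intCast_iff_dvd_sub _ _ M).1 this
      obtain ⟨m, hm⟩ := hM
      choose w hw using hdiv
      refine ⟨y + A.adjugate *ᵥ (m • w), ?_⟩
      show AL (y + A.adjugate *ᵥ (m • w)) = x
      rw [map_add, hAL, Matrix.toLin'_apply (v := A.adjugate *ᵥ (m • w)), Matrix.mulVec_mulVec,
        Matrix.mul_adjugate, Matrix.smul_mulVec, Matrix.one_mulVec]
      funext i
      simp only [Pi.add_apply, Pi.smul_apply, smul_eq_mul]
      rw [← mul_assoc, ← hm, ← hw i]
      rw [hAL]; ring
    · rintro ⟨y, rfl⟩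
      exact ⟨ρ y, hcomm y⟩
  have hidx : f.range.index = A.det.natAbs := by
    rw [← AddSubgroup.index_comap_of_surjective _ hρ, hcomap]
    have hinj : Function.Injective AL := by
      rw [← LinearMap.ker_eq_bot, LinearMap.ker_eq_bot']
      intro v hv
      by_contra hne
      exact hA (Matrix.exists_mulVec_eq_zero_iff.1 ⟨v, hne, hv⟩)
    let bN : Module.Basis ι ℤ (LinearMap.range AL) :=
      (Pi.basisFun ℤ ι).map (LinearEquiv.ofInjective AL hinj)
    have h := Submodule.natAbs_det_basis_change (Pi.basisFun ℤ ι) (LinearMap.range AL) bN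
    rw [AddSubgroup.index, show ((ι → ℤ) ⧸ AL.toAddMonoidHom.range) = ((ι → ℤ) ⧸ LinearMap.range AL) from rfl, ← h,
      Module.Basis.det_apply]
    congr 1
    rw [← Matrix.det_transpose A, ← Matrix.det_transpose (Module.Basis.toMatrix _ _)]
    congr 1
    ext i j
    simp [bN, Module.Basis.toMatrix_apply, hAL, Matrix.mulVec_single]
  have h1 := AddSubgroup.card_mul_index f.ker
  rw [AddSubgroup.index_ker, ← AddSubgroup.card_mul_index f.range, hidx, mul_comm (Nat.card f.ker)] at h1
  exact mul_left_cancel₀ Nat.card_pos.ne' h1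

end CfsgLib.Chev.Springer
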