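import Mathlib

/-!
Eigenvectors of integer matrices of finite order modulo a prime power.
-/

set_option autoImplicit false
set_option maxHeartbeats 1000000

namespace CfsgLib.Chev.Springer

universe u

open Matrix Polynomial

variable {r : ℕ} [Fact r.Prime] {d e : ℕ}

/-- The multiplicity of a primitive root modulo `r` of a product of cyclotomic polynomials. -/
theorem exists_cyclotomic_pow_dvd {ζ : ZMod r} (hζ : IsPrimitiveRoot ζ d) (he : 0 < e)
    (hre : ¬ r ∣ e) (hrd : ¬ r ∣ d) :
    ∀ N : ℕ, ∀ p : ℤ[X], p.natDegree = N → p.Monic → (∀ μ : ℂ, aeval μ p = 0 → μ ^ e = 1) →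
      ∃ t : ℕ, rootMultiplicity ζ (p.map (Int.castRingHom (ZMod r))) = t ∧ cyclotomic d ℤ ^ t ∣ p := by
  intro N
  induction N using Nat.strong_induction_on with
  | _ N ih =>
    intro p hN hp hroot
    rcases Nat.eq_zero_or_pos N with h0 | hpos
    · refine ⟨0, ?_, by simp⟩
      rw [hp.natDegree_eq_zero.1 (hN.trans h0), Polynomial.map_one]
      exact rootMultiplicity_eq_zero (by simp [IsRoot])
    · obtain ⟨μ, hμ⟩ := IsAlgClosed.exists_aeval_eq_zero ℂ p (by
        rw [degree_eq_natDegree hp.ne_zero, hN]; exact_mod_cast hpos.ne')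
      have hμe := hroot μ hμ
      set k := orderOf μ with hk
      have hke : k ∣ e := orderOf_dvd_of_pow_eq_one hμe
      have hk0 : 0 < k := Nat.pos_of_dvd_of_pos hke he
      have hdvd : cyclotomic k ℤ ∣ p := by
        rw [cyclotomic_eq_minpoly (IsPrimitiveRoot.orderOf μ) hk0]
        exact minpoly.isIntegrallyClosed_dvd ((IsPrimitiveRoot.orderOf μ).isIntegral hk0) hμ
      obtain ⟨p', hp'⟩ := hdvd
      have hp'm : p'.Monic := (cyclotomic.monic k ℤ).of_mul_monic_left (hp' ▸ hp)
      have hdeg : p'.natDegree < N := by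
        rw [← hN, hp', (cyclotomic.monic k ℤ).natDegree_mul hp'm, natDegree_cyclotomic]
        have := Nat.totient_pos.2 hk0
        omega
      obtain ⟨t, ht, htd⟩ := ih _ hdeg p' rfl hp'm fun ν hν => hroot ν (by rw [hp', map_mul, hν, mul_zero])
      have hmul : rootMultiplicity ζ (p.map (Int.castRingHom (ZMod r))) =
          rootMultiplicity ζ (cyclotomic k (ZMod r)) + t := by
        rw [hp', Polynomial.map_mul, map_cyclotomic_int, rootMultiplicity_mul
          (mul_ne_zero (cyclotomic_ne_zero k _) (hp'm.map _).ne_zero), ht]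
      haveI hkr : NeZero (k : ZMod r) :=
        ⟨by rw [ne_eq, CharP.cast_eq_zero_iff (ZMod r) r]; exact fun h => hre (h.trans hke)⟩
      by_cases hkd : k = d
      · refine ⟨t + 1, ?_, ?_⟩
        · rw [hmul, add_comm]
          congr 1
          refine le_antisymm (rootMultiplicity_le_one_of_separable (separable_cyclotomic k _) ζ) ?_
          refine (rootMultiplicity_pos (cyclotomic_ne_zero k _)).2 ?_
          rw [hkd] at hkr ⊢
          exact isRoot_cyclotomic_iff.2 hζ
        · rw [hp', hkd, pow_succ', ← hkd]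
          exact mul_dvd_mul_left _ (hkd ▸ htd)
      · refine ⟨t, ?_, hp' ▸ htd.mul_left _⟩
        rw [hmul, rootMultiplicity_eq_zero, zero_add]
        exact fun h => hkd ((isRoot_cyclotomic_iff.1 h).unique hζ)

variable {ι : Type*} [Fintype ι] [DecidableEq ι]

lemma charpoly_root_pow (R : Matrix ι ι ℤ) (hR : R ^ e = 1) (μ : ℂ) (h : aeval μ R.charpoly = 0) :
    μ ^ e = 1 := by
  cases isEmpty_or_nonempty ι
  · rw [Matrix.charpoly, Matrix.det_isEmpty, map_one] at h
    exact absurd h one_ne_zero
  have h1 : μ ∈ spectrum ℂ ((Int.castRingHom ℂ).mapMatrix R) := by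
    rw [Matrix.mem_spectrum_iff_isRoot_charpoly, IsRoot.def]
    show eval μ ((R.map (Int.castRingHom ℂ)).charpoly) = 0
    rw [Matrix.charpoly_map, eval_map, ← h, aeval_def]
    rfl
  have h2 := spectrum.pow_mem_pow ((Int.castRingHom ℂ).mapMatrix R) e h1
  rw [← map_pow, hR, map_one, spectrum.one_eq] at h2
  exact h2

/-- The eigenvectors for an eigenvalue of order `d` form a free module, whose rank is at most the
multiplicity of the cyclotomic polynomial. -/
theorem eigen_free (R : Matrix ι ι ℤ) (hR : R ^ e = 1) (he : 0 < e) (hre : ¬ r ∣ e) (hrd : ¬ r ∣ d)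
    (hd : 0 < d) (q : ℕ) (hq : orderOf (q : ZMod r) = d) {v : ℕ} (hv : 0 < v)
    (hqv : (q : ZMod (r ^ v)) ^ d = 1) :
    ∃ n t : ℕ, Nonempty ({w : ι → ZMod (r ^ v) //
        R.map (Int.cast : ℤ → ZMod (r ^ v)) *ᵥ w = (q : ZMod (r ^ v)) • w} ≃ (Fin n → ZMod (r ^ v))) ∧
      (∀ (H : Type u) [Group H] (f : H →* Multiplicative (ι → ZMod (r ^ v))), Function.Injective f →
        (∀ h, R.map (Int.cast : ℤ → ZMod (r ^ v)) *ᵥ (f h).toAdd = (q : ZMod (r ^ v)) • (f h).toAdd) →
        Nat.card H = (r ^ v) ^ n → Nonempty (H ≃* (Fin n → Multiplicative (ZMod (r ^ v))))) ∧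
      n ≤ t ∧ cyclotomic d ℤ ^ t ∣ R.charpoly := by
  classical
  set m := r ^ v with hm
  have hrp : r.Prime := Fact.out
  haveI : NeZero m := ⟨by rw [hm]; exact pow_ne_zero _ hrp.ne_zero⟩
  haveI : Fact (1 < m) := ⟨Nat.one_lt_pow hv.ne' hrp.one_lt⟩
  have hrm : r ∣ m := dvd_pow_self r hv.ne'
  have hunit : ∀ a : ZMod m, ¬ r ∣ a.val → IsUnit a := fun a ha => by
    rw [← ZMod.natCast_zmod_val a, ZMod.isUnit_iff_coprime]
    exact Nat.Coprime.pow_right _ ((hrp.coprime_iff_not_dvd.2 ha).symm)
  haveI : IsLocalRing (ZMod m) := IsLocalRing.of_isUnit_or_isUnit_one_sub_self fun a => by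
    by_cases h : r ∣ a.val
    · refine Or.inr (hunit _ fun h' => ?_)
      let cr := ZMod.castHom hrm (ZMod r)
      have ha : cr a = 0 := by
        rw [← ZMod.natCast_zmod_val a, map_natCast, CharP.cast_eq_zero_iff (ZMod r) r]; exact h
      have h1 : cr (1 - a) = 0 := by
        rw [← ZMod.natCast_zmod_val (1 - a), map_natCast, CharP.cast_eq_zero_iff (ZMod r) r]; exact h'
      rw [map_sub, map_one, ha, sub_zero] at h1
      exact one_ne_zero h1
    · exact Or.inl (hunit a h)
  set Rm : Matrix ι ι (ZMod m) := (Int.castRingHom (ZMod m)).mapMatrix R with hRm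
  set S : Module.End (ZMod m) (ι → ZMod m) := ((q : ZMod m) ^ (d - 1)) • Matrix.toLinAlgEquiv' Rm with hS
  set E := e * d with hE
  have hSE : S ^ E = 1 := by
    rw [hS, _root_.smul_pow, ← map_pow, hRm, ← map_pow]
    rw [show R ^ E = 1 by rw [hE, pow_mul, hR, one_pow], map_one, map_one, ← pow_mul,
      show (d - 1) * E = d * ((d - 1) * e) by rw [hE]; ring, pow_mul, hqv, one_pow, one_smul]
  have hqq : (q : ZMod m) ^ (d - 1) * (q : ZMod m) = 1 := by rw [← pow_succ, Nat.sub_add_cancel hd, hqv]
  obtain ⟨c, hc⟩ : ∃ c : ZMod m, c * (E : ZMod m) = 1 := by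
    have h : IsUnit (E : ZMod m) := by
      rw [ZMod.isUnit_iff_coprime]
      refine Nat.Coprime.pow_right _ (hrp.coprime_iff_not_dvd.2 ?_).symm
      rw [hE]
      exact fun h => (hrp.dvd_mul.1 h).elim hre hrd
    exact ⟨_, h.val_inv_mul⟩
  set π : Module.End (ZMod m) (ι → ZMod m) := c • ∑ i ∈ Finset.range E, S ^ i with hπ
  have hSπ : S * π = π := by
    have h := mul_geom_sum S E
    rw [hSE, sub_self, sub_mul, one_mul, sub_eq_zero] at h
    rw [hπ, mul_smul_comm, h]
  set K : Submodule (ZMod m) (ι → ZMod m) :=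
    LinearMap.ker (Matrix.toLinAlgEquiv' Rm - (q : ZMod m) • 1) with hK
  have hKmem : ∀ w, w ∈ K ↔ Rm *ᵥ w = (q : ZMod m) • w := fun w => by
    rw [hK, LinearMap.mem_ker, LinearMap.sub_apply, sub_eq_zero, Matrix.toLinAlgEquiv'_apply]
    rfl
  have hSapp : ∀ x, (q : ZMod m) • S x = Rm *ᵥ x := fun x => by
    rw [hS, LinearMap.smul_apply, smul_smul, mul_comm, hqq, one_smul, Matrix.toLinAlgEquiv'_apply]
  have hπK : ∀ w, π w ∈ K := fun w => by
    rw [hKmem]
    have h : (q : ZMod m) • S (π w) = (q : ZMod m) • π w := by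
      rw [← Module.End.mul_apply, hSπ]
    rw [hSapp] at h
    exact h
  have hπid : ∀ w ∈ K, π w = w := fun w hw => by
    have hSw : ∀ i : ℕ, (S ^ i) w = w := by
      intro i
      induction i with
      | zero => rfl
      | succ i ih =>
        rw [pow_succ', Module.End.mul_apply, ih, hS, LinearMap.smul_apply, Matrix.toLinAlgEquiv'_apply,
          (hKmem w).1 hw, smul_smul, hqq, one_smul]
    rw [hπ, LinearMap.smul_apply, LinearMap.sum_apply, Finset.sum_congr rfl fun i _ => hSw i,
      Finset.sum_const, Finset.card_range, ← Nat.cast_smul_eq_nsmul (ZMod m), smul_smul, hc, one_smul]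
  haveI : Module.Finite (ZMod m) K := Module.Finite.of_finite
  haveI : Module.Projective (ZMod m) K := Module.Projective.of_split K.subtype (π.codRestrict K hπK)
    (LinearMap.ext fun w => Subtype.ext (hπid w w.2))
  haveI : Module.Free (ZMod m) K := Module.free_of_flat_of_isLocalRing
  set n := Module.finrank (ZMod m) K with hn
  let b : Module.Basis (Fin n) (ZMod m) K := Module.finBasis (ZMod m) K
  -- reduction modulo r
  set ζ : ZMod r := (q : ZMod r) with hζ'
  have hζ : IsPrimitiveRoot ζ d := hq ▸ IsPrimitiveRoot.orderOf ζ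
  let cr := ZMod.castHom hrm (ZMod r)
  set Rr : Matrix ι ι (ZMod r) := (Int.castRingHom (ZMod r)).mapMatrix R with hRr
  let f : Module.End (ZMod r) (ι → ZMod r) := Matrix.toLin' Rr
  have hcrR : Rm.map cr = Rr := Matrix.ext fun i j => map_intCast cr _
  let B : Fin n → Module.End.eigenspace f ζ := fun i => ⟨cr ∘ (b i : ι → ZMod m), by
    rw [Module.End.mem_eigenspace_iff, Matrix.toLin'_apply]
    funext j
    rw [← hcrR, ← RingHom.map_mulVec, (hKmem _).1 (b i).2, Pi.smul_apply, smul_eq_mul, map_mul,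
      map_natCast]
    rfl⟩
  have hli : LinearIndependent (ZMod r) B := by
    rw [Fintype.linearIndependent_iff]
    intro g hg i
    let C : Fin n → ZMod m := fun j => ((g j).val : ZMod m)
    have hC : ∀ j, cr (C j) = g j := fun j => by
      rw [map_natCast, ZMod.natCast_zmod_val]
    set k : K := ∑ j, C j • b j with hk
    have hk0 : ∀ l : ι, ∃ w : ZMod m, (k : ι → ZMod m) l = (r : ZMod m) * w := by
      intro l
      have h1 : cr ((k : ι → ZMod m) l) = 0 := by
        have h2 := congrFun (congrArg Subtype.val hg) l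
        simp only [Submodule.coe_sum, Submodule.coe_smul, Finset.sum_apply, Pi.smul_apply, smul_eq_mul,
          Submodule.coe_zero, Pi.zero_apply] at h2
        rw [hk]
        simp only [Submodule.coe_sum, Submodule.coe_smul, Finset.sum_apply, Pi.smul_apply, smul_eq_mul,
          map_sum, map_mul, hC]
        exact h2
      rw [← ZMod.natCast_zmod_val ((k : ι → ZMod m) l), map_natCast,
        CharP.cast_eq_zero_iff (ZMod r) r] at h1
      obtain ⟨w, hw⟩ := h1
      exact ⟨w, by rw [← ZMod.natCast_zmod_val ((k : ι → ZMod m) l), hw, Nat.cast_mul]⟩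
    choose w hw using hk0
    have hkw : k = (r : ZMod m) • ⟨π w, hπK w⟩ := by
      refine Subtype.ext ?_
      rw [Submodule.coe_smul, ← map_smul, ← hπid _ k.2]
      congr 1
      funext l
      exact hw l
    have h3 := congrArg (fun z => b.repr z i) hkw
    simp only [hk, b.repr_sum_self, map_smul, Finsupp.smul_apply, smul_eq_mul] at h3
    rw [← hC i, h3, map_mul, map_natCast, (CharP.cast_eq_zero_iff (ZMod r) r r).2 dvd_rfl, zero_mul]
  obtain ⟨t, ht, htd⟩ := exists_cyclotomic_pow_dvd hζ he hre hrd _ R.charpoly rfl R.charpoly_monic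
    (charpoly_root_pow R hR)
  let eK : {w : ι → ZMod m // R.map (Int.cast : ℤ → ZMod m) *ᵥ w = (q : ZMod m) • w} ≃ K :=
    Equiv.subtypeEquivRight fun w => ((hKmem w).symm : _)
  refine ⟨n, t, ⟨eK.trans b.equivFun.toEquiv⟩, ?_, ?_, htd⟩
  · intro H _ F hFinj hF hcard
    let F' : H →* Multiplicative (Fin n → ZMod m) :=
      MonoidHom.mk' (fun h => Multiplicative.ofAdd (b.equivFun ⟨(F h).toAdd, (hKmem _).2 (hF h)⟩))
        fun h h' => by
          rw [← ofAdd_add, ← map_add]
          congr 2
          exact Subtype.ext (congrArg Multiplicative.toAdd (map_mul F h h'))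
    have hF'inj : Function.Injective F' := fun h h' hh =>
      hFinj (Multiplicative.toAdd.injective
        (congrArg Subtype.val (b.equivFun.injective (Multiplicative.ofAdd.injective hh))))
    haveI : Finite H := Finite.of_injective F' hF'inj
    have hbij : Function.Bijective F' := (Nat.bijective_iff_injective_and_card F').2 ⟨hF'inj, by
      rw [hcard, Nat.card_congr Multiplicative.toAdd, Nat.card_fun, Nat.card_fin, Nat.card_zmod]⟩
    exact ⟨(MulEquiv.ofBijective F' hbij).trans
      (MulEquiv.funMultiplicative _ _)⟩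
  · rw [← ht, ← Matrix.charpoly_map]
    have h1 := hli.fintype_card_le_finrank
    rw [Fintype.card_fin] at h1
    refine h1.trans ((f.finrank_eigenspace_le ζ).trans (le_of_eq ?_))
    rw [Matrix.charpoly_toLin']
    rfl

end CfsgLib.Chev.Springer
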