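import Mathlib
import Cfsg.Agent.Lib.Chev.SpringerTorus
import Cfsg.Agent.Lib.Chev.SylowEigen

/-!
Sylow subgroups for primes not dividing the order of the Weyl group.
-/

set_option autoImplicit false
set_option maxHeartbeats 2000000

namespace CfsgLib.Chev.Springer

open Cfsg.Lie Matrix Polynomial

/-- Fusion in the diagonal subgroup by one monomial element for all elements at once. -/
theorem diagonal_fusion_all {D : ChevalleyDatum} (g : Good D) (hc : HasComm D) {F : Type*} [Field F]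
    [Fintype F] {x : GL D.Idx F} (hx : x ∈ D.group F) :
    ∃ n ∈ D.monomialSubgroup F, ∀ h₁ h₂, h₁ ∈ D.diagonalSubgroup F → h₂ ∈ D.diagonalSubgroup F →
      x * h₁ * x⁻¹ = h₂ → n * h₁ * n⁻¹ = h₂ := by
  obtain ⟨b, hb, n, hn, π, -, hπ, u, hu, rfl⟩ := g.exists_canonical hc hx
  refine ⟨n, hn, fun h₁ h₂ h1 h2 he => ?_⟩
  obtain ⟨v, hv, h, hh, rfl⟩ := g.mem_borel.1 hb
  have hu1 : h₁⁻¹ * u * h₁ ∈ rootGen D F (minusSet π) := by
    have := (Subgroup.mem_normalizer_iff.1
      (g.diagonal_le_normalizer_rootGen (minusSet π) (inv_mem h1)) u).1 hu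
    rwa [inv_inv] at this
  have hk : n * h₁ * n⁻¹ ∈ D.diagonalSubgroup F := g.diag_conj hn h1
  have hv2 : h₂ * v * h₂⁻¹ ∈ D.posUnipotent F :=
    (Subgroup.mem_normalizer_iff.1 (g.diagonal_le_normalizer_pos h2) v).1 hv
  have e : (v * (h * (n * h₁ * n⁻¹))) * n * (h₁⁻¹ * u * h₁) =
      (h₂ * v * h₂⁻¹ * (h₂ * h)) * n * u := by
    have e2 : v * h * n * u * h₁ = h₂ * (v * h * n * u) := mul_inv_eq_iff_eq_mul.1 he
    calc (v * (h * (n * h₁ * n⁻¹))) * n * (h₁⁻¹ * u * h₁) = v * h * n * u * h₁ := by group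
      _ = h₂ * (v * h * n * u) := e2
      _ = _ := by group
  obtain ⟨e3, -⟩ := g.canonical_unique
    (g.mem_borel.2 ⟨v, hv, _, mul_mem hh hk, rfl⟩) (g.mem_borel.2 ⟨_, hv2, _, mul_mem h2 hh, rfl⟩)
    hπ hu1 hu e
  have h3 : v⁻¹ * (h₂ * v * h₂⁻¹) ∈ D.posUnipotent F ⊓ D.diagonalSubgroup F := by
    refine Subgroup.mem_inf.2 ⟨mul_mem (inv_mem hv) hv2, ?_⟩
    have : v⁻¹ * (h₂ * v * h₂⁻¹) = h * (n * h₁ * n⁻¹) * (h₂ * h)⁻¹ := by
      rw [eq_mul_inv_iff_mul_eq, mul_assoc v⁻¹, inv_mul_eq_iff_eq_mul]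
      exact e3.symm
    rw [this]
    exact mul_mem (mul_mem hh hk) (inv_mem (mul_mem h2 hh))
  rw [g.pos_inf_diagonal, Subgroup.mem_bot, inv_mul_eq_one] at h3
  rw [← h3] at e3
  have e4 : h * (n * h₁ * n⁻¹) = h₂ * h := mul_left_cancel e3
  rw [g.diagonal_comm h2 hh] at e4
  exact mul_left_cancel e4

/-- A Sylow subgroup of order `(r ^ v) ^ a` for a prime not dividing the Weyl group is homocyclic of
rank `a`, provided that `a` bounds the multiplicities of the cyclotomic polynomial in the Weyl group. -/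
theorem sylow_homocyclic {D : ChevalleyDatum} (g : Good D) (hc : HasComm D)
    (F : Type*) [Field F] [Fintype F] (q : ℕ) (hF : Fintype.card F = q) {r : ℕ} [Fact r.Prime]
    (hrq : ¬ r ∣ q) (hrW : ¬ r ∣ Nat.card g.weyl) (v a : ℕ) (hv : 0 < v)
    (hvv : v = (q ^ orderOf (q : ZMod r) - 1).factorization r)
    (ha : (Nat.card ↥(D.group F)).factorization r = a * v)
    (hbound : ∀ π ∈ g.weyl, ∀ t : ℕ,
      cyclotomic (orderOf (q : ZMod r)) ℤ ^ t ∣ (g.coMat π).charpoly → t ≤ a)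
    (P : Sylow r ↥(D.group F)) :
    Nonempty (↥(P : Subgroup ↥(D.group F)) ≃* (Fin a → Multiplicative (ZMod (r ^ v)))) := by
  classical
  set p := ringChar F
  haveI : Fact p.Prime := ⟨CharP.char_is_prime F p⟩
  have hrp : r.Prime := Fact.out
  set d := orderOf (q : ZMod r) with hd
  have hq0 : (q : ZMod r) ≠ 0 := by rwa [ne_eq, CharP.cast_eq_zero_iff (ZMod r) r]
  have hdr : d ∣ r - 1 := orderOf_dvd_of_pow_eq_one (ZMod.pow_card_sub_one_eq_one hq0)
  have hd0 : 0 < d := Nat.pos_of_dvd_of_pos hdr (Nat.sub_pos_of_lt hrp.one_lt)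
  have hrd : ¬ r ∣ d := fun h => by
    have := Nat.le_of_dvd hd0 h
    have := Nat.le_of_dvd (Nat.sub_pos_of_lt hrp.one_lt) hdr
    omega
  haveI : NeZero d := ⟨hd0.ne'⟩
  let L := FiniteField.Extension F p d
  haveI : Fintype L := Fintype.ofFinite L
  have hL : Fintype.card L = q ^ d := by
    rw [← Nat.card_eq_fintype_card, FiniteField.natCard_extension, Nat.card_eq_fintype_card, hF]
  have hq2 : 2 ≤ q := hF ▸ Fintype.one_lt_card
  let ι : F →+* L := algebraMap F L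
  let φ : L →+* L := (FiniteField.Extension.frob F p d).toRingEquiv.toRingHom
  have hφ : ∀ z : L, φ z = z ^ q := fun z => by
    rw [← hF, ← Nat.card_eq_fintype_card]; exact FiniteField.Extension.frob_apply ..
  have hφι : ∀ a : F, φ (ι a) = ι a := fun a => by
    rw [hφ, ← map_pow, ← hF, FiniteField.pow_card]
  obtain ⟨γ, hγ⟩ := IsCyclic.exists_generator (α := Lˣ)
  set M : ℕ := q ^ d - 1 with hMdef
  have hqd : 1 < q ^ d := Nat.one_lt_pow hd0.ne' (by omega)
  have hγo : orderOf γ = M := by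
    rw [orderOf_eq_card_of_forall_mem_zpowers hγ, Nat.card_units, Nat.card_eq_fintype_card, hL]
  set m := r ^ v with hm
  haveI : NeZero m := ⟨pow_ne_zero _ hrp.ne_zero⟩
  obtain ⟨M', hM'⟩ : m ∣ M := by rw [hm, hvv]; exact Nat.ordProj_dvd _ _
  have hM'0 : 0 < M' := Nat.pos_of_ne_zero fun h => by rw [h, mul_zero] at hM'; omega
  have hM'r : ¬ r ∣ M' := fun h => by
    have h1 : r ^ (v + 1) ∣ M := by
      rw [hM', pow_succ]
      exact mul_dvd_mul_left _ h
    rw [hrp.pow_dvd_iff_le_factorization (by omega), ← hvv] at h1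
    omega
  have hqv : (q : ZMod m) ^ d = 1 := by
    rw [← Nat.cast_pow, show q ^ d = M + 1 by omega, Nat.cast_add, Nat.cast_one,
      (CharP.cast_eq_zero_iff (ZMod m) m M).2 ⟨M', hM'⟩, zero_add]
  have hrM : r ∣ M := hM' ▸ (dvd_pow_self r hv.ne').trans (dvd_mul_right m M')
  have hQr : ((Fintype.card L : ℕ) : ZMod r) = 1 := by
    rw [hL, show q ^ d = M + 1 by omega, Nat.cast_add, (CharP.cast_eq_zero_iff (ZMod r) r M).2 hrM,
      zero_add, Nat.cast_one]
  set δ := γ ^ M' with hδ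
  have hδo : orderOf δ = m := by
    rw [hδ, orderOf_pow_of_dvd hM'0.ne' (by rw [hγo, hM']; exact dvd_mul_left _ _), hγo, hM',
      Nat.mul_div_cancel _ hM'0]
  have hδz : ∀ x y : ℤ, δ ^ x = δ ^ y ↔ (x : ZMod m) = (y : ZMod m) := fun x y => by
    rw [ZMod.intCast_eq_intCast_iff_dvd_sub, ← hδo, orderOf_dvd_iff_zpow_eq_one, _root_.zpow_sub,
      mul_inv_eq_one]
    exact ⟨fun h => h.symm, fun h => h.symm⟩
  have hroot : ∀ (z : Lˣ) (k : ℕ), z ^ r ^ k = 1 → ∃ a : ℤ, δ ^ a = z := by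
    intro z k hz
    obtain ⟨i, rfl⟩ := Subgroup.mem_zpowers_iff.1 (hγ z)
    rw [← zpow_natCast, ← _root_.zpow_mul, ← orderOf_dvd_iff_zpow_eq_one, hγo, hM', Nat.cast_mul] at hz
    have hco : IsCoprime (M' : ℤ) ((r ^ k : ℕ) : ℤ) := by
      rw [Int.isCoprime_iff_nat_coprime, Int.natAbs_natCast, Int.natAbs_natCast]
      exact Nat.Coprime.pow_right _ ((hrp.coprime_iff_not_dvd.2 hM'r).symm)
    obtain ⟨b, hb⟩ := hco.dvd_of_dvd_mul_right ((dvd_mul_left _ _).trans hz)
    exact ⟨b, by rw [hδ, ← zpow_natCast, ← _root_.zpow_mul, hb]⟩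
  -- conjugate the Sylow subgroup into the diagonal subgroup
  let G' : ↥(D.group F) →* ↥(D.group L) :=
    ((scalarGL D ι).comp (D.group F).subtype).codRestrict (D.group L) fun y => g.scalarGL_mem ι y.2
  set P' := (P : Subgroup ↥(D.group F)).map G' with hP'
  have hP'p : IsPGroup r P' := P.2.map G'
  have hindex : ¬ r ∣ ((D.diagonalSubgroup L).subgroupOf (D.group L)).index := by
    intro hdvd
    set T' := (D.diagonalSubgroup L).subgroupOf (D.group L)
    have h1 := T'.card_mul_index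
    rw [Nat.card_congr (Subgroup.subgroupOfEquivOfLe g.diagonal_le_group).toEquiv,
      g.card_group hc, g.card_borel hc] at h1
    have h2 : T'.index = Fintype.card L ^ (D.nroots / 2) * g.weylSum {i | i < D.rank} (Fintype.card L) :=
      Nat.eq_of_mul_eq_mul_left (Nat.card_pos (α := ↥(D.diagonalSubgroup L))) (h1.trans (by ring))
    rw [h2, ← CharP.cast_eq_zero_iff (ZMod r) r, Nat.cast_mul, Nat.cast_pow, hQr, one_pow, one_mul,
      Good.weylSum, ← g.weyl_eq_wJ, Nat.cast_sum] at hdvd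
    simp only [Nat.cast_pow, hQr, one_pow, Finset.sum_const, nsmul_eq_mul, mul_one] at hdvd
    rw [CharP.cast_eq_zero_iff (ZMod r) r] at hdvd
    refine hrW ?_
    rwa [Nat.card_eq_fintype_card, Fintype.card_subtype]
  obtain ⟨cc, hcc⟩ := hP'p.nonempty_fixed_point_of_prime_not_dvd_card
    (↥(D.group L) ⧸ (D.diagonalSubgroup L).subgroupOf (D.group L)) hindex
  obtain ⟨⟨gc, hgc⟩, rfl⟩ := QuotientGroup.mk_surjective cc
  let Θ : ↥(P : Subgroup ↥(D.group F)) →* GL D.Idx L :=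
    (MulAut.conj gc⁻¹).toMonoidHom.comp
      ((scalarGL D ι).comp ((D.group F).subtype.comp (P : Subgroup ↥(D.group F)).subtype))
  have hΘv : ∀ y : ↥(P : Subgroup ↥(D.group F)), Θ y = gc⁻¹ * scalarGL D ι (y : ↥(D.group F)) * gc := fun y => by
    show gc⁻¹ * scalarGL D ι (y : ↥(D.group F)) * gc⁻¹⁻¹ = _
    rw [inv_inv]
  have hΘinj : Function.Injective Θ := fun a b h =>
    Subtype.ext (Subtype.ext (scalarGL_injective ι ((MulEquiv.injective (MulAut.conj gc⁻¹)) h)))
  have hΘd : ∀ y, Θ y ∈ D.diagonalSubgroup L := by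
    intro y
    have h := hcc ⟨G' y, Subgroup.mem_map_of_mem _ y.2⟩
    change (QuotientGroup.mk (G' y * ⟨gc, hgc⟩) : ↥(D.group L) ⧸ _) = QuotientGroup.mk ⟨gc, hgc⟩ at h
    rw [eq_comm, QuotientGroup.eq, Subgroup.mem_subgroupOf] at h
    rw [hΘv]
    simpa [mul_assoc, G'] using h
  -- the exponents
  have hexp : ∀ y, ∃ a : Fin D.rank → ℤ, ∀ c, torHom D L c = Θ y →
      ∀ u : Fin D.nroots, rootVal c u = δ ^ (∑ i, g.coVec u i * a i) := by
    intro y
    have hd' := hΘd y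
    rw [g.diagonal_eq_range] at hd'
    obtain ⟨c, hct⟩ := hd'
    obtain ⟨k, hk⟩ := P.2 y
    have hcr : ∀ j : Fin D.rank, ∃ a : ℤ, δ ^ a = rootVal c (D.simple j) := fun j => by
      refine hroot _ k ?_
      have h1 : torHom D L (c ^ r ^ k) = torHom D L 1 := by
        rw [map_one, map_pow, hct, ← map_pow, hk, map_one]
      rw [← rootVal_pow, g.rootVal_eq_of_torHom h1 (g.simple_lt j.2), rootVal_one]
    choose a ha using hcr
    refine ⟨a, fun c' hc' u => ?_⟩
    rw [g.rootVal_eq_of_torHom (hc'.trans hct.symm) u.2, g.rootVal_eq_prod c u.2, zpow_finsum]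
    refine Finset.prod_congr rfl fun j _ => ?_
    rw [← ha j, ← _root_.zpow_mul, mul_comm]
    rfl
  choose ex hex using hexp
  have hsum : ∀ (j : Fin D.rank) (k : Fin D.rank → ℤ), ∑ i, g.coVec (g.sroot j) i * k i = k j := by
    intro j k
    simp [g.coVec_sroot]
  have hexj : ∀ y c, torHom D L c = Θ y → ∀ j : Fin D.rank, rootVal c (D.simple j) = δ ^ ex y j := by
    intro y c hc' j
    rw [show D.simple j = ((g.sroot j : Fin D.nroots) : ℕ) from rfl, hex y c hc', hsum]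
  have hdt : ∀ y, ∃ c, torHom D L c = Θ y := fun y => by
    have hd' := hΘd y
    rw [g.diagonal_eq_range] at hd'
    exact hd'
  choose ct hct using hdt
  let f : ↥(P : Subgroup ↥(D.group F)) →* Multiplicative (Fin D.rank → ZMod m) :=
    MonoidHom.mk' (fun y => Multiplicative.ofAdd fun j => (ex y j : ZMod m)) fun y y' => by
      rw [← ofAdd_add]
      congr 1
      funext j
      rw [Pi.add_apply, ← Int.cast_add, ← hδz, _root_.zpow_add, ← hexj y _ (hct y), ← hexj y' _ (hct y'),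
        ← rootVal_mul, ← hexj (y * y') (ct y * ct y') (by rw [map_mul, map_mul, hct, hct])]
  have hfinj : Function.Injective f := fun y y' h => hΘinj <| by
    rw [← hct y, ← hct y']
    refine g.torHom_eq_of_simple fun j => ?_
    rw [hexj y _ (hct y), hexj y' _ (hct y'), hδz]
    exact congrFun (Multiplicative.ofAdd.injective h) j
  -- the twist
  have hφm : ∀ {z : GL D.Idx L}, z ∈ D.group L → scalarGL D φ z ∈ D.group L := fun hz => g.scalarGL_mem φ hz
  have hφx : ∀ y : GL D.Idx F, scalarGL D φ (scalarGL D ι y) = scalarGL D ι y := fun y =>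
    Units.ext (Matrix.ext fun i j => hφι _)
  set af := gc⁻¹ * scalarGL D φ gc with haf
  obtain ⟨n, hn, hnt⟩ := diagonal_fusion_all g hc (inv_mem (mul_mem (inv_mem hgc) (hφm hgc)) : af⁻¹ ∈ D.group L)
  obtain ⟨π, hπw, hπ⟩ := g.exists_acts hn
  set R := g.coMat π⁻¹ with hR
  have hφval : ∀ (e : Fin D.rank → Lˣ) (u : ℕ),
      rootVal (fun i => Units.map (φ : L →* L) (e i)) u = rootVal e u ^ q := by
    intro e u
    simp only [rootVal, ← Finset.prod_pow]
    refine Finset.prod_congr rfl fun i _ => ?_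
    rw [show Units.map (φ : L →* L) (e i) = e i ^ q from Units.ext (by simp [hφ]), ← zpow_natCast (e i) q,
      ← zpow_natCast _ q, ← _root_.zpow_mul, ← _root_.zpow_mul, mul_comm]
  have hfR : ∀ y, R.map (Int.cast : ℤ → ZMod m) *ᵥ (f y).toAdd = (q : ZMod m) • (f y).toAdd := by
    intro y
    funext j
    show ∑ t, ((R j t : ℤ) : ZMod m) * ((ex y t : ℤ) : ZMod m) = (q : ZMod m) * ((ex y j : ℤ) : ZMod m)
    rw [Finset.sum_congr rfl fun t _ => (Int.cast_mul (R j t) (ex y t)).symm, ← Int.cast_sum,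
      ← Int.cast_natCast q, ← Int.cast_mul, ← hδz]
    have h1 : scalarGL D φ (torHom D L (ct y)) = af⁻¹ * torHom D L (ct y) * af := by
      rw [hct, hΘv, map_mul, map_mul, map_inv, hφx, haf]
      group
    have h2 : n * torHom D L (ct y) * n⁻¹ = scalarGL D φ (torHom D L (ct y)) :=
      hnt _ _ (g.torHom_mem _) (by rw [scalarGL_torHom]; exact g.torHom_mem _) (by rw [h1, inv_inv])
    have h := g.rootVal_conj hπ (c := ct y) (h2.trans (scalarGL_torHom φ (ct y))) (π⁻¹ (g.sroot j))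
    rw [show π (π⁻¹ (g.sroot j)) = g.sroot j from π.apply_symm_apply _, hφval, hex y _ (hct y), hsum,
      hex y _ (hct y), ← zpow_natCast, ← _root_.zpow_mul] at h
    rw [hR, mul_comm (q : ℤ), h]
    rfl
  have hπ' := inv_mem hπw
  have hRe : R ^ orderOf (⟨π⁻¹, hπ'⟩ : ↥g.weyl) = 1 := by
    rw [hR, ← g.coMat_pow hπ', show (π⁻¹) ^ orderOf (⟨π⁻¹, hπ'⟩ : ↥g.weyl) =
      ((⟨π⁻¹, hπ'⟩ : ↥g.weyl) ^ orderOf (⟨π⁻¹, hπ'⟩ : ↥g.weyl) : ↥g.weyl).1 from rfl, pow_orderOf_eq_one]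
    exact g.coMat_one
  obtain ⟨k, t, ⟨eK⟩, hiso, hkt, htd⟩ := eigen_free R hRe (orderOf_pos _)
    (fun h => hrW (h.trans (orderOf_dvd_natCard _))) hrd hd0 q hd.symm hv hqv
  have hka : k ≤ a := hkt.trans (hbound _ hπ' t htd)
  have hcardP : Nat.card ↥(P : Subgroup ↥(D.group F)) = m ^ a := by
    rw [P.card_eq_multiplicity, ha, hm, ← pow_mul, mul_comm]
  have hle : m ^ a ≤ m ^ k := by
    rw [← hcardP]
    refine le_trans (Nat.card_le_card_of_injective (fun y =>
      (⟨(f y).toAdd, hfR y⟩ : {w : Fin D.rank → ZMod m //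
        R.map (Int.cast : ℤ → ZMod m) *ᵥ w = (q : ZMod m) • w})) fun y y' h =>
      hfinj (Multiplicative.toAdd.injective (congrArg Subtype.val h))) (le_of_eq ?_)
    rw [Nat.card_congr eK, Nat.card_fun, Nat.card_fin, Nat.card_zmod]
  obtain rfl : k = a := le_antisymm hka ((Nat.pow_le_pow_iff_right (Nat.one_lt_pow hv.ne' hrp.one_lt)).1 hle)
  exact hiso _ f hfinj hfR hcardP

end CfsgLib.Chev.Springer
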