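import Mathlib
import Cfsg.Agent.Lib.Chev.SylowHomocyclic
import Cfsg.Agent.Lib.Chev.OrderTables
import Cfsg.Agent.Lib.Chev.WeylTables

/-!
Bounds on the multiplicities of cyclotomic factors of Weyl group elements of type D₄, E₆ and E₇.
-/

set_option autoImplicit false
set_option maxHeartbeats 1000000
set_option maxRecDepth 100000

namespace CfsgLib.Chev.Springer

open Cfsg.Lie Matrix Polynomial

variable {n : ℕ}

/-- A quasi-idempotent of trace two is a product of a column and a row. -/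
theorem exists_outer (T : Matrix (Fin n) (Fin n) ℤ) (h2 : T * T = (2 : ℤ) • T) (htr : T.trace = 2) :
    ∃ v f x : Fin n → ℤ, T = vecMulVec v f ∧ f ⬝ᵥ v = 2 ∧ f ⬝ᵥ x = 1 := by
  classical
  set S : Submodule ℤ (Fin n → ℤ) := LinearMap.range (Matrix.toLin' T) with hS
  let b := Module.Free.chooseBasis ℤ S
  let gr : (Fin n → ℤ) →ₗ[ℤ] S := (Matrix.toLin' T).rangeRestrict
  have hgS : gr.comp S.subtype = (2 : ℤ) • LinearMap.id := by
    refine LinearMap.ext fun s => Subtype.ext ?_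
    obtain ⟨w, hw⟩ := s.2
    show Matrix.toLin' T (s : Fin n → ℤ) = (2 : ℤ) • (s : Fin n → ℤ)
    rw [← hw, ← LinearMap.comp_apply, ← Matrix.toLin'_mul, h2, map_smul, LinearMap.smul_apply]
  have htrS := LinearMap.trace_comp_comm' gr S.subtype
  rw [hgS, map_smul, LinearMap.trace_id, show S.subtype.comp gr = Matrix.toLin' T from
    LinearMap.ext fun w => rfl, Matrix.trace_toLin'_eq, htr, smul_eq_mul] at htrS
  have hr : Module.finrank ℤ S = 1 := by omega
  let b1 : Module.Basis (Fin 1) ℤ S := Module.finBasisOfFinrankEq ℤ S hr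
  obtain ⟨x, hx⟩ : ∃ x, gr x = b1 0 := (Matrix.toLin' T).surjective_rangeRestrict (b1 0)
  refine ⟨(b1 0 : S), fun j => b1.repr (gr (Pi.single j 1)) 0, x, ?_, ?_, ?_⟩
  · ext i j
    have h := congrArg (fun s : S => (s : Fin n → ℤ) i) (b1.sum_repr (gr (Pi.single j 1)))
    simp only [Fin.sum_univ_one, Submodule.coe_smul, Pi.smul_apply, smul_eq_mul] at h
    rw [vecMulVec_apply, mul_comm, h]
    show T i j = Matrix.toLin' T (Pi.single j 1) i
    simp
  · have hlin : ∀ w : Fin n → ℤ, (fun j => b1.repr (gr (Pi.single j 1)) 0) ⬝ᵥ w = b1.repr (gr w) 0 := by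
      intro w
      have hw : ∑ j, w j • (Pi.single j 1 : Fin n → ℤ) = w := by
        funext i; simp [Finset.sum_apply, Pi.single_apply]
      conv_rhs => rw [← hw]
      simp only [map_sum, map_smul, Finsupp.coe_finsetSum, Finset.sum_apply, Finsupp.smul_apply, smul_eq_mul]
      exact Finset.sum_congr rfl fun j _ => mul_comm _ _
    rw [hlin]
    have h := LinearMap.congr_fun hgS (b1 0)
    simp only [LinearMap.comp_apply, LinearMap.smul_apply, LinearMap.id_apply, Submodule.subtype_apply] at h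
    rw [h, map_smul, Finsupp.smul_apply, b1.repr_self, Finsupp.single_eq_same, smul_eq_mul, mul_one]
  · have hw : ∑ j, x j • (Pi.single j 1 : Fin n → ℤ) = x := by
      funext i; simp [Finset.sum_apply, Pi.single_apply]
    have h : b1.repr (gr (∑ j, x j • (Pi.single j 1 : Fin n → ℤ))) 0 = 1 := by
      rw [hw, hx, b1.repr_self, Finsupp.single_eq_same]
    refine Eq.trans ?_ h
    simp only [map_sum, map_smul, Finsupp.coe_finsetSum, Finset.sum_apply, Finsupp.smul_apply, smul_eq_mul]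
    exact Finset.sum_congr rfl fun j _ => mul_comm _ _

/-- Positive definiteness from a square decomposition. -/
theorem quad_pos (C L L' : Matrix (Fin n) (Fin n) ℤ) (D : Fin n → ℤ) {m c : ℤ} (hm : 0 < m) (hc : c ≠ 0)
    (hD : ∀ i, 0 < D i) (hL : m • C = Lᵀ * diagonal D * L) (hL' : L' * L = c • 1)
    {v : Fin n → ℤ} (hv : v ≠ 0) : 0 < v ⬝ᵥ (C *ᵥ v) := by
  have h : m * (v ⬝ᵥ (C *ᵥ v)) = ∑ i, D i * (L *ᵥ v) i ^ 2 := by
    rw [← smul_eq_mul, ← dotProduct_smul, ← Matrix.smul_mulVec, hL, ← Matrix.mulVec_mulVec,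
      ← Matrix.mulVec_mulVec, Matrix.dotProduct_mulVec, Matrix.vecMul_transpose]
    simp only [dotProduct, Matrix.mulVec_diagonal]
    exact Finset.sum_congr rfl fun i _ => by ring
  refine pos_of_mul_pos_right (h ▸ ?_) hm.le
  obtain ⟨i, hi⟩ : ∃ i, (L *ᵥ v) i ≠ 0 := by
    by_contra hall
    push Not at hall
    refine hv ?_
    have h0 : (L' * L) *ᵥ v = 0 := by
      rw [← Matrix.mulVec_mulVec, show L *ᵥ v = 0 from funext hall, Matrix.mulVec_zero]
    rw [hL', Matrix.smul_mulVec, Matrix.one_mulVec, smul_eq_zero] at h0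
    exact h0.resolve_left hc
  exact Finset.sum_pos' (fun j _ => mul_nonneg (hD j).le (sq_nonneg _))
    ⟨i, Finset.mem_univ _, mul_pos (hD i) (by positivity)⟩

/-- The data of a rank one correction of minus the identity that preserves the form. -/
theorem outer_data (C N : Matrix (Fin n) (Fin n) ℤ) {p : ℤ} (hN : N * C = p • 1) (hCs : C.IsSymm)
    (hCd : ∀ i, Even (C i i)) (hpos : ∀ v : Fin n → ℤ, v ≠ 0 → 0 < v ⬝ᵥ (C *ᵥ v))
    (T : Matrix (Fin n) (Fin n) ℤ) (h2 : T * T = (2 : ℤ) • T) (htr : T.trace = 2) (hsym : (C * T).IsSymm) :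
    ∃ (v f x : Fin n → ℤ) (j : ℤ), T = vecMulVec v f ∧ f ⬝ᵥ v = 2 ∧ f ⬝ᵥ x = 1 ∧ 0 < j ∧
      C *ᵥ v = j • f ∧ j * (f ⬝ᵥ (N *ᵥ f)) = 2 * p := by
  obtain ⟨v, f, x, hT, hfv, hfx⟩ := exists_outer T h2 htr
  have hv : v ≠ 0 := fun h => by rw [h, dotProduct_zero] at hfv; omega
  have hpair : ∀ a b, (C *ᵥ v) a * f b = (C *ᵥ v) b * f a := by
    intro a b
    have h := hsym.apply b a
    rw [hT, mul_vecMulVec, vecMulVec_apply, vecMulVec_apply] at h
    exact h
  have hk : ∀ a, (C *ᵥ v) a * 2 = (v ⬝ᵥ (C *ᵥ v)) * f a := by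
    intro a
    rw [← hfv]
    simp only [dotProduct, Finset.mul_sum, Finset.sum_mul]
    exact Finset.sum_congr rfl fun b _ => by
      rw [← mul_assoc, hpair a b]
      ring
  obtain ⟨j, hj⟩ : Even (v ⬝ᵥ (C *ᵥ v)) := by
    have h : ((v ⬝ᵥ (C *ᵥ v) : ℤ) : ZMod 2) = 0 := by
      simp only [dotProduct, Matrix.mulVec, Finset.mul_sum, Int.cast_sum, Int.cast_mul]
      rw [← Fintype.sum_prod_type']
      refine Finset.sum_ninvolution Prod.swap (fun z => ?_) (fun z hz => ?_) (fun z => Finset.mem_univ _)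
        (fun z => Prod.swap_swap z)
      · show _ + ((v z.2 : ℤ) : ZMod 2) * (((C z.2 z.1 : ℤ) : ZMod 2) * ((v z.1 : ℤ) : ZMod 2)) = 0
        rw [hCs.apply z.1 z.2]
        ring_nf
        rw [show (2 : ZMod 2) = 0 from rfl, mul_zero]
      · intro he
        refine hz ?_
        rw [show z.2 = z.1 from congrArg Prod.fst he,
          (ZMod.intCast_eq_zero_iff_even (n := C z.1 z.1)).2 (hCd z.1), zero_mul, mul_zero]
    exact ZMod.intCast_eq_zero_iff_even.1 h
  have hj0 : 0 < j := by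
    have := hpos v hv
    omega
  have hCv : C *ᵥ v = j • f := funext fun a => by
    have h := hk a
    rw [hj] at h
    show _ = j * f a
    linarith
  refine ⟨v, f, x, j, hT, hfv, hfx, hj0, hCv, ?_⟩
  have h := congrArg (fun w => f ⬝ᵥ (N *ᵥ w)) hCv
  simp only [Matrix.mulVec_smul, dotProduct_smul, Matrix.mulVec_mulVec, hN, Matrix.smul_mulVec,
    Matrix.one_mulVec, smul_eq_mul, hfv] at h
  rw [← h]
  ring

/-- The matrix of a fundamental reflection. -/
def simpleRefl (D : ChevalleyDatum) (i : Fin D.rank) : Matrix (Fin D.rank) (Fin D.rank) ℤ :=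
  Matrix.of fun j t => (if j = t then 1 else 0) - if i = t then D.cartan i (D.simple j) else 0

section Weyl

variable {D : ChevalleyDatum} (g : Good D)

lemma coMat_rperm (i : Fin D.rank) : g.coMat (g.rperm i) = simpleRefl D i := by
  ext j t
  show g.co (D.reflectRoot i (D.simple j)) t = _
  rw [g.co_refl i.2 (g.simple_lt j.2) t.2, g.co_simple j.2 t.2]
  exact congrArg₂ (· - ·) (if_congr Fin.ext_iff.symm rfl rfl) (if_congr Fin.ext_iff.symm rfl rfl)

/-- A vector fixed modulo `p` by all fundamental reflections is fixed by the Weyl group. -/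
theorem coMat_fixed {p : ℕ} (u : Fin D.rank → ZMod p)
    (hu' : ∀ i : Fin D.rank, u ᵥ* (simpleRefl D i).map (Int.cast : ℤ → ZMod p) = u) :
    ∀ π ∈ g.weyl, u ᵥ* (g.coMat π).map (Int.cast : ℤ → ZMod p) = u := by
  intro π hπ
  have hu : ∀ i : Fin D.rank, u ᵥ* (g.coMat (g.rperm i)).map (Int.cast : ℤ → ZMod p) = u := fun i => by
    rw [coMat_rperm]; exact hu' i
  have hmm : ∀ A B : Matrix (Fin D.rank) (Fin D.rank) ℤ,
      (A * B).map (Int.cast : ℤ → ZMod p) = A.map (Int.cast : ℤ → ZMod p) * B.map (Int.cast : ℤ → ZMod p) :=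
    fun A B => Matrix.map_mul (f := Int.castRingHom (ZMod p))
  induction hπ using Subgroup.closure_induction_left with
  | one => rw [g.coMat_one, Matrix.map_one _ Int.cast_zero Int.cast_one, Matrix.vecMul_one]
  | mul_left x hx y _ ih =>
    obtain ⟨i, rfl⟩ := hx
    rw [g.coMat_mul (Subgroup.subset_closure ⟨i, rfl⟩), hmm, ← Matrix.vecMul_vecMul, ih, hu]
  | inv_mul_cancel x hx y _ ih =>
    obtain ⟨i, rfl⟩ := hx
    rw [g.rperm_inv, g.coMat_mul (Subgroup.subset_closure ⟨i, rfl⟩), hmm, ← Matrix.vecMul_vecMul, ih, hu]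

/-- A form preserved by the fundamental reflections is preserved by the Weyl group. -/
theorem coMat_form (C : Matrix (Fin D.rank) (Fin D.rank) ℤ)
    (hC' : ∀ i : Fin D.rank, simpleRefl D i * C * (simpleRefl D i)ᵀ = C) :
    ∀ π ∈ g.weyl, g.coMat π * C * (g.coMat π)ᵀ = C := by
  intro π hπ
  have hC : ∀ i : Fin D.rank, g.coMat (g.rperm i) * C * (g.coMat (g.rperm i))ᵀ = C := fun i => by
    rw [coMat_rperm]; exact hC' i
  have key : ∀ (i : Fin D.rank) (y : Equiv.Perm (Fin D.nroots)),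
      g.coMat y * C * (g.coMat y)ᵀ = C → g.coMat (g.rperm i * y) * C * (g.coMat (g.rperm i * y))ᵀ = C := by
    intro i y ih
    rw [g.coMat_mul (Subgroup.subset_closure ⟨i, rfl⟩), Matrix.transpose_mul,
      show g.coMat y * g.coMat (g.rperm i) * C * ((g.coMat (g.rperm i))ᵀ * (g.coMat y)ᵀ) =
        g.coMat y * (g.coMat (g.rperm i) * C * (g.coMat (g.rperm i))ᵀ) * (g.coMat y)ᵀ by
        simp only [mul_assoc], hC, ih]
  induction hπ using Subgroup.closure_induction_left with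
  | one => rw [g.coMat_one, Matrix.transpose_one, mul_one, one_mul]
  | mul_left x hx y _ ih =>
    obtain ⟨i, rfl⟩ := hx
    exact key i y ih
  | inv_mul_cancel x hx y _ ih =>
    obtain ⟨i, rfl⟩ := hx
    rw [g.rperm_inv]
    exact key i y ih

/-- A fixed vector modulo `p` makes the characteristic polynomial vanish at one modulo `p`. -/
theorem charpoly_one_dvd {p : ℕ} [Fact p.Prime] {u : Fin D.rank → ZMod p} (hu0 : u ≠ 0)
    {M : Matrix (Fin D.rank) (Fin D.rank) ℤ} (hu : u ᵥ* M.map (Int.cast : ℤ → ZMod p) = u) :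
    (p : ℤ) ∣ M.charpoly.eval 1 := by
  rw [← ZMod.intCast_zmod_eq_zero_iff_dvd, Matrix.eval_charpoly,
    ← eq_intCast (Int.castRingHom (ZMod p)), RingHom.map_det]
  refine Matrix.exists_vecMul_eq_zero_iff.1 ⟨u, hu0, ?_⟩
  rw [map_sub, Matrix.vecMul_sub, sub_eq_zero, show (Int.castRingHom (ZMod p)).mapMatrix M =
    M.map (Int.cast : ℤ → ZMod p) from rfl, hu,
    show (Int.castRingHom (ZMod p)).mapMatrix (Matrix.scalar (Fin D.rank) (1 : ℤ)) = 1 by
      rw [map_one, map_one], Matrix.vecMul_one]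

lemma coMat_pow_one {π : Equiv.Perm (Fin D.nroots)} (hπ : π ∈ g.weyl) :
    ∃ e : ℕ, 0 < e ∧ g.coMat π ^ e = 1 := by
  refine ⟨orderOf (⟨π, hπ⟩ : ↥g.weyl), orderOf_pos _, ?_⟩
  rw [← g.coMat_pow hπ, show π ^ orderOf (⟨π, hπ⟩ : ↥g.weyl) =
    ((⟨π, hπ⟩ : ↥g.weyl) ^ orderOf (⟨π, hπ⟩ : ↥g.weyl) : ↥g.weyl).1 from rfl, pow_orderOf_eq_one]
  exact g.coMat_one

/-- The excess multiplicity leaves at most one linear factor, with root a sign. -/
theorem charpoly_split {π : Equiv.Perm (Fin D.nroots)} (hπ : π ∈ g.weyl) {d t : ℕ} (hd : 0 < d)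
    (hd1 : d ≠ 1) (h : cyclotomic d ℤ ^ t ∣ (g.coMat π).charpoly) (hle : D.rank ≤ d.totient * t + 1) :
    (g.coMat π).charpoly = cyclotomic d ℤ ^ t ∨
      ∃ c : ℤ, (c = 1 ∨ c = -1) ∧ (g.coMat π).charpoly = cyclotomic d ℤ ^ t * (X - C c) := by
  obtain ⟨w, hw⟩ := h
  have hwm : w.Monic := ((cyclotomic.monic d ℤ).pow t).of_mul_monic_left (hw ▸ Matrix.charpoly_monic _)
  have hdeg := congrArg natDegree hw
  rw [Matrix.charpoly_natDegree_eq_dim, Fintype.card_fin, ((cyclotomic.monic d ℤ).pow t).natDegree_mul hwm,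
    (cyclotomic.monic d ℤ).natDegree_pow, natDegree_cyclotomic, mul_comm] at hdeg
  rcases Nat.eq_zero_or_pos w.natDegree with h0 | h0
  · left
    rw [hw, hwm.natDegree_eq_zero.1 h0, mul_one]
  · right
    have h1 : w = X + C (w.coeff 0) := hwm.eq_X_add_C (by omega)
    refine ⟨-w.coeff 0, ?_, by rw [map_neg, sub_neg_eq_add, ← h1]; exact hw⟩
    obtain ⟨e, he, hMe⟩ := coMat_pow_one g hπ
    have hu : IsUnit (g.coMat π).det := by
      have := congrArg Matrix.det hMe
      rw [Matrix.det_pow, Matrix.det_one] at this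
      exact IsUnit.of_pow_eq_one this he.ne'
    rw [Matrix.det_eq_sign_charpoly_coeff, hw, mul_coeff_zero] at hu
    have h2 := Int.isUnit_iff.1 (isUnit_of_mul_isUnit_right (isUnit_of_mul_isUnit_right hu))
    omega

/-- A matrix of finite order is annihilated by the squarefree part of its characteristic polynomial. -/
theorem aeval_eq_zero_of_charpoly_dvd {π : Equiv.Perm (Fin D.nroots)} (hπ : π ∈ g.weyl) (p : ℤ[X]) {k : ℕ}
    (hk : k ≠ 0) (hp : (g.coMat π).charpoly ∣ p ^ k) : aeval (g.coMat π) p = 0 := by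
  obtain ⟨e, he, hMe⟩ := coMat_pow_one g hπ
  set M := g.coMat π
  set MQ := (Int.castRingHom ℚ).mapMatrix M with hMQ
  have hsq : Squarefree (minpoly ℚ MQ) :=
    Squarefree.squarefree_of_dvd (minpoly.dvd ℚ MQ (p := X ^ e - C 1) (by
      rw [map_sub, map_pow, aeval_X, aeval_C, map_one, hMQ, ← map_pow, hMe, map_one, sub_self]))
      ((separable_X_pow_sub_C (1 : ℚ) (by exact_mod_cast he.ne') one_ne_zero).squarefree)
  have hd : minpoly ℚ MQ ∣ p.map (Int.castRingHom ℚ) := by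
    rw [← hsq.dvd_pow_iff_dvd hk, ← Polynomial.map_pow]
    refine (Matrix.minpoly_dvd_charpoly MQ).trans ?_
    rw [show MQ.charpoly = M.charpoly.map (Int.castRingHom ℚ) from Matrix.charpoly_map M _]
    exact Polynomial.map_dvd _ hp
  have h0 : aeval MQ (p.map (Int.castRingHom ℚ)) = 0 :=
    aeval_eq_zero_of_dvd_aeval_eq_zero hd (minpoly.aeval ℚ MQ)
  apply Matrix.map_injective (Int.cast_injective (α := ℚ))
  show (aeval M p).map (Int.cast : ℤ → ℚ) = (0 : Matrix (Fin D.rank) (Fin D.rank) ℤ).map (Int.cast : ℤ → ℚ)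
  rw [Matrix.map_zero _ Int.cast_zero, ← h0,
    show (aeval M p).map (Int.cast : ℤ → ℚ) = (Int.castRingHom ℚ).mapMatrix (aeval M p) from rfl,
    aeval_def, aeval_def, eval₂_map, hom_eval₂, hMQ]
  congr 1
  exact RingHom.ext_int _ _

end Weyl

lemma trace_eq_coeff {m : ℕ} (M : Matrix (Fin m) (Fin m) ℤ) (hm : 0 < m) :
    M.trace = -M.charpoly.coeff (m - 1) := by
  haveI : Nonempty (Fin m) := ⟨⟨0, hm⟩⟩
  rw [Matrix.trace_eq_neg_charpoly_coeff, Fintype.card_fin]

theorem exists_fix_D4 {π : Equiv.Perm (Fin chevD4.nroots)} (hπ : π ∈ goodD4.weyl) :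
    (2 : ℤ) ∣ (goodD4.coMat π).charpoly.eval 1 :=
  charpoly_one_dvd (p := 2)
    (u := fun i => if i.val = 0 ∨ i.val = 2 then 1 else 0) (by decide +kernel)
    (coMat_fixed goodD4 _ (by decide +kernel) π hπ)

theorem bound_D4 {π : Equiv.Perm (Fin chevD4.nroots)} (hπ : π ∈ goodD4.weyl) {d t : ℕ}
    (hd : d = 3 ∨ d = 6) (h : cyclotomic d ℤ ^ t ∣ (goodD4.coMat π).charpoly) : t ≤ 1 := by
  by_contra ht
  have h2 : cyclotomic d ℤ ^ 2 ∣ (goodD4.coMat π).charpoly := (pow_dvd_pow _ (by omega)).trans h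
  have hφ : d.totient = 2 := by rcases hd with rfl | rfl <;> decide
  have hr : chevD4.rank = 4 := by decide +kernel
  rcases charpoly_split goodD4 hπ (by omega) (by omega) h2 (by omega) with h3 | ⟨c, -, h3⟩
  · have h4 := exists_fix_D4 hπ
    rw [h3, eval_pow] at h4
    rcases hd with rfl | rfl
    · rw [cyclotomic_three] at h4; norm_num at h4
    · rw [cyclotomic_six] at h4; norm_num at h4
  · have h5 := congrArg natDegree h3
    rw [Matrix.charpoly_natDegree_eq_dim, Fintype.card_fin, ((cyclotomic.monic d ℤ).pow 2).natDegree_mul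
      (monic_X_sub_C c), natDegree_pow, natDegree_cyclotomic, natDegree_X_sub_C] at h5
    omega

lemma dual_sum {n : ℕ} (N : List (List ℤ)) (f : Fin n → ℤ) :
    f ⬝ᵥ (listMat n N *ᵥ f) = ∑ a, ∑ b, f a * (nth 0 (nth [] N a.val) b.val * f b) := by
  simp only [dotProduct, Matrix.mulVec, Finset.mul_sum]
  rfl

/-- The dual form of E₆ is even and a square modulo three. -/
theorem dualE6 (f : Fin 6 → ℤ) : ∃ a b s : ℤ, f ⬝ᵥ (listMat 6
    [[4, 3, 5, 6, 4, 2], [3, 6, 6, 9, 6, 3], [5, 6, 10, 12, 8, 4], [6, 9, 12, 18, 12, 6],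
      [4, 6, 8, 12, 10, 5], [2, 3, 4, 6, 5, 4]] *ᵥ f) = 2 * a ∧ 2 * a = 3 * b + s ^ 2 := by
  refine ⟨2 * f 0 ^ 2 + 3 * f 0 * f 1 + 5 * f 0 * f 2 + 6 * f 0 * f 3 + 4 * f 0 * f 4 + 2 * f 0 * f 5 +
      3 * f 1 ^ 2 + 6 * f 1 * f 2 + 9 * f 1 * f 3 + 6 * f 1 * f 4 + 3 * f 1 * f 5 +
      5 * f 2 ^ 2 + 12 * f 2 * f 3 + 8 * f 2 * f 4 + 4 * f 2 * f 5 +
      9 * f 3 ^ 2 + 12 * f 3 * f 4 + 6 * f 3 * f 5 + 5 * f 4 ^ 2 + 5 * f 4 * f 5 + 2 * f 5 ^ 2,
    f 0 ^ 2 + 2 * f 0 * f 1 + 2 * f 0 * f 2 + 4 * f 0 * f 3 + 2 * f 0 * f 4 +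
      2 * f 1 ^ 2 + 4 * f 1 * f 2 + 6 * f 1 * f 3 + 4 * f 1 * f 4 + 2 * f 1 * f 5 +
      2 * f 2 ^ 2 + 8 * f 2 * f 3 + 4 * f 2 * f 4 +
      6 * f 3 ^ 2 + 8 * f 3 * f 4 + 4 * f 3 * f 5 + 3 * f 4 ^ 2 + 2 * f 4 * f 5,
    f 0 + 2 * f 2 + f 4 + 2 * f 5, ?_, by ring⟩
  rw [dual_sum]
  simp [Fin.sum_univ_succ, nth_eq]
  ring

/-- The dual form of E₇ is minus a square modulo four. -/
theorem dualE7 (f : Fin 7 → ℤ) : ∃ a s : ℤ, f ⬝ᵥ (listMat 7
    [[4, 4, 6, 8, 6, 4, 2], [4, 7, 8, 12, 9, 6, 3], [6, 8, 12, 16, 12, 8, 4], [8, 12, 16, 24, 18, 12, 6],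
      [6, 9, 12, 18, 15, 10, 5], [4, 6, 8, 12, 10, 8, 4], [2, 3, 4, 6, 5, 4, 3]] *ᵥ f) = 4 * a - s ^ 2 := by
  refine ⟨f 0 ^ 2 + 2 * f 0 * f 1 + 3 * f 0 * f 2 + 4 * f 0 * f 3 + 3 * f 0 * f 4 + 2 * f 0 * f 5 + f 0 * f 6 +
      2 * f 1 ^ 2 + 4 * f 1 * f 2 + 6 * f 1 * f 3 + 5 * f 1 * f 4 + 3 * f 1 * f 5 + 2 * f 1 * f 6 +
      3 * f 2 ^ 2 + 8 * f 2 * f 3 + 6 * f 2 * f 4 + 4 * f 2 * f 5 + 2 * f 2 * f 6 +
      6 * f 3 ^ 2 + 9 * f 3 * f 4 + 6 * f 3 * f 5 + 3 * f 3 * f 6 +
      4 * f 4 ^ 2 + 5 * f 4 * f 5 + 3 * f 4 * f 6 + 2 * f 5 ^ 2 + 2 * f 5 * f 6 + f 6 ^ 2,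
    f 1 + f 4 + f 6, ?_⟩
  rw [dual_sum]
  simp [Fin.sum_univ_succ, nth_eq]
  ring

theorem bound_E6 {π : Equiv.Perm (Fin chevE6.nroots)} (hπ : π ∈ goodE6.weyl) {d t : ℕ}
    (h : cyclotomic d ℤ ^ t ∣ (goodE6.coMat π).charpoly) :
    (d = 2 → t ≤ 4) ∧ (d = 4 → t ≤ 2) ∧ (d = 6 → t ≤ 2) := by
  classical
  have hr : chevE6.rank = 6 := by decide +kernel
  have h3 : (3 : ℤ) ∣ (goodE6.coMat π).charpoly.eval 1 :=
    charpoly_one_dvd (p := 3)
      (u := fun i => if i.val = 0 ∨ i.val = 4 then 1 else if i.val = 2 ∨ i.val = 5 then 2 else 0)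
      (by decide +kernel) (coMat_fixed goodE6 _ (by decide +kernel) π hπ)
  refine ⟨fun hd => ?_, fun hd => ?_, fun hd => ?_⟩
  · subst hd
    by_contra ht
    rcases charpoly_split goodE6 hπ (by norm_num) (by norm_num) ((pow_dvd_pow _ (show 5 ≤ t by omega)).trans h)
      (by rw [hr, show (2 : ℕ).totient = 1 by decide]) with h4 | ⟨c, hc, h4⟩
    · have h5 := congrArg natDegree h4
      rw [Matrix.charpoly_natDegree_eq_dim, Fintype.card_fin, natDegree_pow, natDegree_cyclotomic, hr,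
        show (2 : ℕ).totient = 1 by decide] at h5
      omega
    · rcases hc with rfl | rfl
      swap
      · rw [h4, eval_mul, eval_pow, cyclotomic_two] at h3
        norm_num at h3
      set M := goodE6.coMat π with hM
      have hsq := aeval_eq_zero_of_charpoly_dvd goodE6 hπ (X ^ 2 - 1) (k := 5) (by norm_num) (by
        rw [h4, cyclotomic_two, map_one, show ((X : ℤ[X]) ^ 2 - 1) ^ 5 = (X + 1) ^ 5 * (X - 1) * (X - 1) ^ 4 by ring]
        exact dvd_mul_right _ _)
      rw [map_sub, map_pow, aeval_X, map_one, sub_eq_zero, sq] at hsq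
      have htrM : M.trace = -4 := by
        rw [trace_eq_coeff M (by omega), h4, hr, cyclotomic_two, map_one]
        rw [show ((X : ℤ[X]) + 1) ^ 5 * (X - 1) =
          X ^ 6 + C 4 * X ^ 5 + C 5 * X ^ 4 - C 5 * X ^ 2 - C 4 * X - 1 by
            simp only [map_ofNat]; ring]
        simp [coeff_X, coeff_one, coeff_C_mul, coeff_X_pow]
      have hform := coMat_form goodE6 (cartanMat chevE6) (by decide +kernel) π hπ
      set T := Mᵀ + 1 with hT
      have hX : Mᵀ * Mᵀ = 1 := by rw [← Matrix.transpose_mul, hsq, Matrix.transpose_one]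
      have hCM : cartanMat chevE6 * Mᵀ = M * cartanMat chevE6 := by
        calc cartanMat chevE6 * Mᵀ = M * M * cartanMat chevE6 * Mᵀ := by rw [hsq, one_mul]
          _ = M * (M * cartanMat chevE6 * Mᵀ) := by simp only [mul_assoc]
          _ = M * cartanMat chevE6 := by rw [hform]
      have hCs : (cartanMat chevE6).IsSymm := by unfold Matrix.IsSymm; decide +kernel
      let N : Matrix (Fin chevE6.rank) (Fin chevE6.rank) ℤ :=
        listMat _ [[4, 3, 5, 6, 4, 2], [3, 6, 6, 9, 6, 3], [5, 6, 10, 12, 8, 4], [6, 9, 12, 18, 12, 6],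
          [4, 6, 8, 12, 10, 5], [2, 3, 4, 6, 5, 4]]
      obtain ⟨v, f, x, j, hTv, hfv, hfx, hj0, hCv, hjN⟩ := outer_data (cartanMat chevE6) N (p := 3)
        (by decide +kernel) hCs (by decide +kernel)
        (fun v hv => quad_pos _
          (listMat _ [[2, 0, -1, 0, 0, 0], [0, 2, 0, -1, 0, 0], [0, 0, 3, -2, 0, 0], [0, 0, 0, 5, -6, 0],
            [0, 0, 0, 0, 4, -5], [0, 0, 0, 0, 0, 1]])
          (listMat _ [[30, 0, 10, 4, 6, 30], [0, 30, 0, 6, 9, 45], [0, 0, 20, 8, 12, 60], [0, 0, 0, 12, 18, 90],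
            [0, 0, 0, 0, 15, 75], [0, 0, 0, 0, 0, 60]])
          (fun i => nth 0 [30, 30, 10, 2, 3, 45] i.val) (m := 60) (c := 60) (by norm_num) (by norm_num)
          (by decide +kernel) (by decide +kernel) (by decide +kernel) hv)
        T (by rw [hT, mul_add, add_mul, hX, mul_one, one_mul, two_smul]; abel)
        (by rw [hT, Matrix.trace_add, Matrix.trace_transpose, htrM, Matrix.trace_one, Fintype.card_fin, hr]; norm_num)
        (by
          show (cartanMat chevE6 * T)ᵀ = _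
          rw [hT, mul_add, Matrix.transpose_add, Matrix.transpose_mul, Matrix.transpose_transpose, hCs.eq,
            ← hCM, mul_one, hCs.eq])
      -- the dual form is even and a square modulo three
      obtain ⟨a, b, s, hwa, hab⟩ : ∃ a b s : ℤ, f ⬝ᵥ (N *ᵥ f) = 2 * a ∧ 2 * a = 3 * b + s ^ 2 := dualE6 f
      rw [← hwa] at hab
      have hNeven : Even (f ⬝ᵥ (N *ᵥ f)) := ⟨a, by rw [hwa]; ring⟩
      have hN3' : ((f ⬝ᵥ (N *ᵥ f) : ℤ) : ZMod 3) ≠ 2 := by
        rw [hab]
        push_cast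
        rw [show (3 : ZMod 3) = 0 from rfl, zero_mul, zero_add]
        generalize (s : ZMod 3) = x
        revert x
        decide
      generalize hw : f ⬝ᵥ (N *ᵥ f) = w at hjN hNeven hN3'
      have hwd : w ∣ 6 := ⟨j, by rw [mul_comm]; exact hjN.symm.trans (by norm_num)⟩
      have hw0 : 0 < w := pos_of_mul_pos_right (by rw [hjN]; norm_num) hj0.le
      have hw6 : w ≤ 6 := Int.le_of_dvd (by norm_num) hwd
      obtain ⟨hj1, -⟩ : j = 1 ∧ w = 6 := by
        interval_cases w <;> first | (exfalso; revert hNeven hN3' hwd; decide) | (exact ⟨by omega, rfl⟩)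
      subst hj1
      rw [one_smul] at hCv
      -- the radical vector forces the dual vector to vanish modulo three
      set u : Fin chevE6.rank → ℤ := fun i => nth 0 [1, 0, 2, 0, 1, 2] i.val with hu
      have huM : ∀ i, (((Mᵀ *ᵥ u) i : ℤ) : ZMod 3) = ((u i : ℤ) : ZMod 3) := by
        intro i
        have h6 := coMat_fixed goodE6 (p := 3) (fun i => ((u i : ℤ) : ZMod 3)) (by decide +kernel) π hπ
        rw [Matrix.mulVec_transpose]
        refine Eq.trans ?_ (congrFun h6 i)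
        simp only [Matrix.vecMul, dotProduct, Int.cast_sum, Int.cast_mul]
        rfl
      have hCu : ∀ i, (((cartanMat chevE6 *ᵥ u) i : ℤ) : ZMod 3) = 0 := by decide +kernel
      have hTu : ∀ i, ((T *ᵥ u) i : ZMod 3) = 2 * ((u i : ℤ) : ZMod 3) := fun i => by
        rw [hT, Matrix.add_mulVec, Matrix.one_mulVec, Pi.add_apply, Int.cast_add, huM]
        ring
      have hTu' : ∀ i, (T *ᵥ u) i = v i * (f ⬝ᵥ u) := fun i => by
        rw [hTv, Matrix.vecMulVec_mulVec]
        simp [mul_comm]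
      have hfu : ((f ⬝ᵥ u : ℤ) : ZMod 3) ≠ 0 := fun h0 => by
        have h7 := (hTu ⟨0, by omega⟩).symm.trans (by rw [hTu', Int.cast_mul, h0, mul_zero])
        exact absurd h7 (by decide +kernel : ¬ 2 * (((nth 0 [1, 0, 2, 0, 1, 2] 0 : ℤ)) : ZMod 3) = 0)
      have hf3 : ∀ i, ((f i : ℤ) : ZMod 3) = 0 := by
        intro i
        have h7 : (((cartanMat chevE6 *ᵥ (T *ᵥ u)) i : ℤ) : ZMod 3) = 0 := by
          simp only [Matrix.mulVec, dotProduct, Int.cast_sum, Int.cast_mul] at hTu hCu ⊢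
          simp only [hTu]
          rw [Finset.sum_congr rfl fun b _ => mul_left_comm _ _ _, ← Finset.mul_sum, hCu, mul_zero]
        rw [hTv, Matrix.vecMulVec_mulVec, Matrix.mulVec_smul, hCv] at h7
        simp only [Pi.smul_apply, MulOpposite.smul_eq_mul_unop, MulOpposite.unop_op, smul_eq_mul, Int.cast_mul] at h7
        rcases mul_eq_zero.1 h7 with h8 | h8
        · first | exact h8 | exact absurd h8 hfu
        · first | exact h8 | exact absurd h8 hfu
      have h9 := congrArg (Int.cast : ℤ → ZMod 3) hfx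
      simp only [dotProduct, Int.cast_sum, Int.cast_mul, hf3, zero_mul, Finset.sum_const_zero, Int.cast_one] at h9
      exact zero_ne_one h9
  · subst hd
    by_contra ht
    rcases charpoly_split goodE6 hπ (by norm_num) (by norm_num) ((pow_dvd_pow _ (show 3 ≤ t by omega)).trans h)
      (by rw [hr, show (4 : ℕ).totient = 2 by decide]; omega) with h4 | ⟨c, -, h4⟩
    · rw [h4, eval_pow, show cyclotomic 4 ℤ = X ^ 2 + 1 by
        haveI : Fact (Nat.Prime 2) := ⟨Nat.prime_two⟩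
        rw [show (4 : ℕ) = 2 ^ (1 + 1) by norm_num, cyclotomic_prime_pow_eq_geom_sum Nat.prime_two]
        simp [Finset.sum_range_succ, add_comm]] at h3
      norm_num at h3
    · have h5 := congrArg natDegree h4
      rw [Matrix.charpoly_natDegree_eq_dim, Fintype.card_fin, ((cyclotomic.monic 4 ℤ).pow 3).natDegree_mul
        (monic_X_sub_C c), natDegree_pow, natDegree_cyclotomic, natDegree_X_sub_C, hr,
        show (4 : ℕ).totient = 2 by decide] at h5
      omega
  · subst hd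
    by_contra ht
    rcases charpoly_split goodE6 hπ (by norm_num) (by norm_num) ((pow_dvd_pow _ (show 3 ≤ t by omega)).trans h)
      (by rw [hr, show (6 : ℕ).totient = 2 by decide]; omega) with h4 | ⟨c, -, h4⟩
    · rw [h4, eval_pow, cyclotomic_six] at h3
      norm_num at h3
    · have h5 := congrArg natDegree h4
      rw [Matrix.charpoly_natDegree_eq_dim, Fintype.card_fin, ((cyclotomic.monic 6 ℤ).pow 3).natDegree_mul
        (monic_X_sub_C c), natDegree_pow, natDegree_cyclotomic, natDegree_X_sub_C, hr,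
        show (6 : ℕ).totient = 2 by decide] at h5
      omega

theorem bound_E7 {π : Equiv.Perm (Fin chevE7.nroots)} (hπ : π ∈ goodE7.weyl) {t : ℕ}
    (h : cyclotomic 4 ℤ ^ t ∣ (goodE7.coMat π).charpoly) : t ≤ 2 := by
  classical
  by_contra ht
  have hr : chevE7.rank = 7 := by decide +kernel
  have h4e : cyclotomic 4 ℤ = X ^ 2 + 1 := by
    haveI : Fact (Nat.Prime 2) := ⟨Nat.prime_two⟩
    rw [show (4 : ℕ) = 2 ^ (1 + 1) by norm_num, cyclotomic_prime_pow_eq_geom_sum Nat.prime_two]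
    simp [Finset.sum_range_succ, add_comm]
  rcases charpoly_split goodE7 hπ (by norm_num) (by norm_num) ((pow_dvd_pow _ (show 3 ≤ t by omega)).trans h)
    (by rw [hr, show (4 : ℕ).totient = 2 by decide]) with h4 | ⟨c, hc, h4⟩
  · have h5 := congrArg natDegree h4
    rw [Matrix.charpoly_natDegree_eq_dim, Fintype.card_fin, natDegree_pow, natDegree_cyclotomic, hr,
      show (4 : ℕ).totient = 2 by decide] at h5
    omega
  set M := goodE7.coMat π with hM
  have hcc : c * c = 1 := by rcases hc with rfl | rfl <;> norm_num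
  have hmin := aeval_eq_zero_of_charpoly_dvd goodE7 hπ ((X ^ 2 + 1) * (X - C c)) (k := 3) (by norm_num) (by
    rw [h4, h4e, mul_pow]
    exact mul_dvd_mul_left _ (dvd_pow_self _ three_ne_zero))
  rw [map_mul, map_add, map_sub, map_pow, aeval_X, aeval_C, map_one] at hmin
  have hform := coMat_form goodE7 (cartanMat chevE7) (by decide +kernel) π hπ
  set Y := Mᵀ with hY
  set T := Y * Y + 1 with hT
  have hYT : Y * T = c • T := by
    have h5 := congrArg Matrix.transpose hmin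
    simp only [Matrix.transpose_mul, Matrix.transpose_sub, Matrix.transpose_add, Matrix.transpose_pow,
      Matrix.transpose_zero, Matrix.transpose_one, Algebra.algebraMap_eq_smul_one, Matrix.transpose_smul,
      ← hY, sub_mul, smul_mul_assoc, one_mul] at h5
    rw [sub_eq_zero, sq] at h5
    rw [hT]
    exact h5
  have hY2T : Y * Y * T = T := by rw [mul_assoc, hYT, mul_smul_comm, hYT, smul_smul, hcc, one_smul]
  have hY4 : Y * Y * (Y * Y) = 1 := by
    have h5 := hY2T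
    rw [hT, mul_add, mul_one, add_comm (Y * Y) 1] at h5
    exact add_right_cancel h5
  have htr : T.trace = 2 := by
    have htrM : (M * M).trace = -5 := by
      have hev : ∀ k : ℤ, (M * M).charpoly.eval (k ^ 2) = ((X + 1 : ℤ[X]) ^ 6 * (X - 1)).eval (k ^ 2) := by
        intro k
        rw [Matrix.eval_charpoly,
          show Matrix.scalar (Fin chevE7.rank) (k ^ 2) - M * M =
              (Matrix.scalar (Fin chevE7.rank) k - M) * -(Matrix.scalar (Fin chevE7.rank) (-k) - M) by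
            rw [map_neg, neg_sub, sub_neg_eq_add, sub_mul, mul_add, mul_add, ← map_mul, ← sq k,
              (Matrix.scalar_commute k (fun r => mul_comm k r) M).eq]
            abel,
          Matrix.det_mul, Matrix.det_neg, ← Matrix.eval_charpoly, ← Matrix.eval_charpoly, h4, h4e,
          Fintype.card_fin, hr]
        simp only [eval_mul, eval_pow, eval_add, eval_sub, eval_X, eval_one, eval_C]
        linear_combination (-(k ^ 2 + 1) ^ 6) * hcc
      have hP : (M * M).charpoly = (X + 1 : ℤ[X]) ^ 6 * (X - 1) := by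
        refine Polynomial.eq_of_infinite_eval_eq _ _ (Set.Infinite.mono ?_
          (Set.infinite_range_of_injective (f := fun k : ℕ => ((k : ℤ)) ^ 2) fun a b h => ?_))
        · rintro _ ⟨k, rfl⟩
          exact hev k
        · exact_mod_cast (pow_left_inj₀ (Int.natCast_nonneg a) (Int.natCast_nonneg b) two_ne_zero).1 h
      rw [trace_eq_coeff (M * M) (by omega), hP, hr,
        show ((X : ℤ[X]) + 1) ^ 6 * (X - 1) =
          X ^ 7 + C 5 * X ^ 6 + C 9 * X ^ 5 + C 5 * X ^ 4 - C 5 * X ^ 3 - C 9 * X ^ 2 - C 5 * X - 1 by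
            simp only [map_ofNat]; ring]
      simp [coeff_X, coeff_one, coeff_C_mul, coeff_X_pow]
    rw [hT, Matrix.trace_add, hY, ← Matrix.transpose_mul, Matrix.trace_transpose, htrM, Matrix.trace_one,
      Fintype.card_fin, hr]
    norm_num
  have hT2 : T * T = (2 : ℤ) • T := by
    conv_lhs => rw [hT, add_mul, ← hT, hY2T, one_mul]
    rw [two_smul]
  have hCs : (cartanMat chevE7).IsSymm := by unfold Matrix.IsSymm; decide +kernel
  have hCY : cartanMat chevE7 = M * cartanMat chevE7 * Y := hform.symm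
  have hsym : (cartanMat chevE7 * T).IsSymm := by
    have hinv : Mᵀ * Mᵀ * (Mᵀ * Mᵀ) = 1 := hY4
    have h6 : cartanMat chevE7 * (Y * Y) = M * M * cartanMat chevE7 := by
      calc cartanMat chevE7 * (Y * Y) = M * cartanMat chevE7 * Y * (Y * Y) := by conv_lhs => rw [hCY]
        _ = M * (M * cartanMat chevE7 * Y) * Y * (Y * Y) := by conv_lhs => rw [hCY]
        _ = M * M * cartanMat chevE7 * (Y * Y * (Y * Y)) := by simp only [mul_assoc]
        _ = M * M * cartanMat chevE7 := by rw [hY4, mul_one]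
    show (cartanMat chevE7 * T)ᵀ = _
    rw [hT, mul_add, mul_one, Matrix.transpose_add, Matrix.transpose_mul, Matrix.transpose_mul, hY,
      Matrix.transpose_transpose, hCs.eq, ← hY, ← h6]
  let N : Matrix (Fin chevE7.rank) (Fin chevE7.rank) ℤ :=
    listMat _ [[4, 4, 6, 8, 6, 4, 2], [4, 7, 8, 12, 9, 6, 3], [6, 8, 12, 16, 12, 8, 4], [8, 12, 16, 24, 18, 12, 6],
      [6, 9, 12, 18, 15, 10, 5], [4, 6, 8, 12, 10, 8, 4], [2, 3, 4, 6, 5, 4, 3]]
  obtain ⟨v, f, x, j, hTv, hfv, hfx, hj0, hCv, hjN⟩ := outer_data (cartanMat chevE7) N (p := 2)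
    (by decide +kernel) hCs (by decide +kernel)
    (fun v hv => quad_pos _
      (listMat _ [[2, 0, -1, 0, 0, 0, 0], [0, 2, 0, -1, 0, 0, 0], [0, 0, 3, -2, 0, 0, 0], [0, 0, 0, 5, -6, 0, 0],
        [0, 0, 0, 0, 4, -5, 0], [0, 0, 0, 0, 0, 3, -4], [0, 0, 0, 0, 0, 0, 1]])
      (listMat _ [[30, 0, 10, 4, 6, 10, 40], [0, 30, 0, 6, 9, 15, 60], [0, 0, 20, 8, 12, 20, 80],
        [0, 0, 0, 12, 18, 30, 120], [0, 0, 0, 0, 15, 25, 100], [0, 0, 0, 0, 0, 20, 80], [0, 0, 0, 0, 0, 0, 60]])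
      (fun i => nth 0 [30, 30, 10, 2, 3, 5, 40] i.val) (m := 60) (c := 60) (by norm_num) (by norm_num)
      (by decide +kernel) (by decide +kernel) (by decide +kernel) hv)
    T hT2 htr hsym
  have hN4 : ((f ⬝ᵥ (N *ᵥ f) : ℤ) : ZMod 4) = 0 ∨ ((f ⬝ᵥ (N *ᵥ f) : ℤ) : ZMod 4) = 3 := by
    obtain ⟨a, s, h7⟩ : ∃ a s : ℤ, f ⬝ᵥ (N *ᵥ f) = 4 * a - s ^ 2 := dualE7 f
    rw [h7]
    push_cast
    rw [show (4 : ZMod 4) = 0 from rfl, zero_mul, zero_sub]
    generalize (s : ZMod 4) = x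
    revert x
    decide
  generalize hw : f ⬝ᵥ (N *ᵥ f) = w at hjN hN4
  have hwd : w ∣ 4 := ⟨j, by rw [mul_comm]; exact hjN.symm.trans (by norm_num)⟩
  have hw0 : 0 < w := pos_of_mul_pos_right (by rw [hjN]; norm_num) hj0.le
  have hw4 : w ≤ 4 := Int.le_of_dvd (by norm_num) hwd
  obtain ⟨hj1, -⟩ : j = 1 ∧ w = 4 := by
    interval_cases w <;> first | (exfalso; revert hN4 hwd; decide) | (exact ⟨by omega, rfl⟩)
  subst hj1
  rw [one_smul] at hCv
  -- parity of the diagonal
  have hCYT : cartanMat chevE7 * T = cartanMat chevE7 * (Y * Y) + cartanMat chevE7 := by rw [hT, mul_add, mul_one]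
  have hpar : ∀ i, Even ((cartanMat chevE7 * T) i i) := by
    intro i
    have h6 : Yᵀ * (cartanMat chevE7 * T) = cartanMat chevE7 * Y + Mᵀᵀ * cartanMat chevE7 := by
      rw [hCYT, mul_add, hY, Matrix.transpose_transpose]
      congr 1
      rw [← mul_assoc (cartanMat chevE7), ← hY, ← mul_assoc M, ← mul_assoc M, ← hCY]
    have h7 : Yᵀ * (cartanMat chevE7 * T) = c • (cartanMat chevE7 * T) := by
      have h8 : cartanMat chevE7 * T = Tᵀ * cartanMat chevE7 := by
        rw [← hsym.eq, Matrix.transpose_mul, hCs.eq]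
      rw [h8, ← mul_assoc, ← Matrix.transpose_mul,
        show T * Y = Y * T by rw [hT, add_mul, mul_add, one_mul, mul_one, mul_assoc], hYT,
        Matrix.transpose_smul, smul_mul_assoc]
    have h9 := congrArg (fun A : Matrix (Fin chevE7.rank) (Fin chevE7.rank) ℤ => A i i) (h7.symm.trans h6)
    simp only [Matrix.smul_apply, smul_eq_mul, Matrix.add_apply] at h9
    have h10 : (Mᵀᵀ * cartanMat chevE7) i i = (cartanMat chevE7 * Y) i i := by
      rw [Matrix.transpose_transpose, hY, ← Matrix.transpose_apply (M * cartanMat chevE7) i i,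
        Matrix.transpose_mul, hCs.eq]
    rw [h10] at h9
    exact ⟨c * (cartanMat chevE7 * Y) i i, by
      calc (cartanMat chevE7 * T) i i = c * c * (cartanMat chevE7 * T) i i := by rw [hcc, one_mul]
        _ = _ := by rw [mul_assoc, h9]; ring⟩
  have hf2 : ∀ i, ((f i : ℤ) : ZMod 2) = 0 := by
    intro i
    have h6 := (ZMod.intCast_eq_zero_iff_even).2 (hpar i)
    rw [hTv, mul_vecMulVec, hCv, vecMulVec_apply, Int.cast_mul] at h6
    exact mul_self_eq_zero.1 h6
  have h9 := congrArg (Int.cast : ℤ → ZMod 2) hfx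
  simp only [dotProduct, Int.cast_sum, Int.cast_mul, hf2, zero_mul, Finset.sum_const_zero, Int.cast_one] at h9
  exact zero_ne_one h9

end CfsgLib.Chev.Springer
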