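import Mathlib
import Cfsg.Agent.Lib.Chev.SylowBound
import Cfsg.Agent.Lib.Chev.BorelTitsWeights

/-!
Weyl group elements of type E₆ with a twelfth root of unity as eigenvalue: the characteristic
polynomial is Φ₁₂Φ₃ and only the identity fixes an eigenvector modulo a prime not dividing the
order of the Weyl group.
-/

set_option autoImplicit false
set_option maxHeartbeats 1000000
set_option maxRecDepth 100000

namespace CfsgLib.Chev.Springer

open Cfsg.Lie Matrix Polynomial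

theorem cyclotomic_twelve : cyclotomic 12 ℤ = X ^ 4 - X ^ 2 + 1 := by
  rw [show (12 : ℕ) = 6 * 2 by norm_num, ← cyclotomic_expand_eq_cyclotomic Nat.prime_two (by norm_num),
    cyclotomic_six]
  simp only [map_add, map_sub, map_pow, map_one, expand_X]
  ring

section Vectors

variable {n : ℕ}

/-- A nonzero vector killed by `Φ₁₂(M)` has four independent images. -/
theorem indep_four (M : Matrix (Fin n) (Fin n) ℤ) {x : Fin n → ℤ} (hx : x ≠ 0)
    (hk : aeval M (cyclotomic 12 ℤ) *ᵥ x = 0) :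
    ∀ a : Fin 4 → ℤ, (∑ i : Fin 4, a i • ((M ^ (i : ℕ)) *ᵥ x)) = 0 → a = 0 := by
  intro a ha
  set p : ℤ[X] := ∑ i : Fin 4, C (a i) * X ^ (i : ℕ) with hp
  have hpx : aeval M p *ᵥ x = 0 := by
    rw [hp, map_sum, Matrix.sum_mulVec, ← ha]
    refine Finset.sum_congr rfl fun i _ => ?_
    rw [map_mul, map_pow, aeval_X, aeval_C, ← Algebra.smul_def, Matrix.smul_mulVec]
  have hcoeff : ∀ i : Fin 4, p.coeff i = a i := fun i => by
    rw [hp, finsetSum_coeff, Finset.sum_eq_single i]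
    · rw [coeff_C_mul_X_pow, if_pos rfl]
    · intro j _ hj
      rw [coeff_C_mul_X_pow, if_neg fun h => hj (Fin.ext h).symm]
    · simp
  suffices h0 : p = 0 by
    funext i
    rw [← hcoeff, h0, coeff_zero, Pi.zero_apply]
  by_contra hp0
  set φ : ℤ →+* ℚ := Int.castRingHom ℚ
  set MQ := φ.mapMatrix M
  set xQ : Fin n → ℚ := fun i => (x i : ℚ)
  have hmap : ∀ f : ℤ[X], aeval MQ (f.map φ) *ᵥ xQ = fun i => (((aeval M f *ᵥ x) i : ℤ) : ℚ) := by
    intro f
    have h : aeval MQ (f.map φ) = φ.mapMatrix (aeval M f) := by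
      rw [aeval_def, aeval_def, eval₂_map, hom_eval₂]
      congr 1
      exact RingHom.ext_int _ _
    rw [h]
    funext i
    simp [Matrix.mulVec, dotProduct, xQ, φ]
  have hdeg : (p.map φ).natDegree < 4 := by
    refine lt_of_le_of_lt natDegree_map_le (Nat.lt_succ_of_le ?_)
    rw [hp]
    refine natDegree_sum_le_of_forall_le _ _ fun i _ => ?_
    exact (natDegree_C_mul_X_pow_le _ _).trans (by have := i.2; omega)
  have hcop : IsCoprime (cyclotomic 12 ℚ) (p.map φ) :=
    (cyclotomic.irreducible_rat (by norm_num)).coprime_iff_not_dvd.2 fun h => absurd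
      (natDegree_le_of_dvd h ((Polynomial.map_ne_zero_iff Int.cast_injective).2 hp0))
      (by rw [natDegree_cyclotomic, show (12 : ℕ).totient = 4 by decide]; omega)
  obtain ⟨u, w, huw⟩ := hcop
  have h1 : aeval MQ (u * cyclotomic 12 ℚ + w * p.map φ) *ᵥ xQ = xQ := by rw [huw, map_one, Matrix.one_mulVec]
  rw [map_add, map_mul, map_mul, Matrix.add_mulVec, ← Matrix.mulVec_mulVec, ← Matrix.mulVec_mulVec,
    hmap p, hpx, ← map_cyclotomic_int 12 ℚ, hmap, hk] at h1
  simp only [Pi.zero_apply, Int.cast_zero] at h1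
  rw [show (fun _ : Fin n => (0 : ℚ)) = 0 from rfl, Matrix.mulVec_zero, Matrix.mulVec_zero, add_zero] at h1
  exact hx (funext fun i => by
    have e : (x i : ℚ) = 0 := (congrFun h1 i).symm
    exact_mod_cast e)

/-- A quadratic form of a symmetric matrix with even diagonal is even. -/
theorem quad_even (C : Matrix (Fin n) (Fin n) ℤ) (hCs : C.IsSymm) (hCd : ∀ i, Even (C i i)) (v : Fin n → ℤ) :
    Even (v ⬝ᵥ (C *ᵥ v)) := by
  have h : ((v ⬝ᵥ (C *ᵥ v) : ℤ) : ZMod 2) = 0 := by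
    simp only [dotProduct, Matrix.mulVec, Finset.mul_sum, Int.cast_sum, Int.cast_mul]
    rw [← Fintype.sum_prod_type']
    refine Finset.sum_ninvolution Prod.swap (fun z => ?_) (fun z hz => ?_) (fun z => Finset.mem_univ _)
      (fun z => Prod.swap_swap z)
    · show _ + ((v z.2 : ℤ) : ZMod 2) * (((C z.2 z.1 : ℤ) : ZMod 2) * ((v z.1 : ℤ) : ZMod 2)) = 0
      rw [hCs.apply z.1 z.2]
      ring_nf
      rw [show (2 : ZMod 2) = 0 from rfl, mul_zero]
    · intro he
      refine hz ?_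
      rw [show z.2 = z.1 from congrArg Prod.fst he,
        (ZMod.intCast_eq_zero_iff_even (n := C z.1 z.1)).2 (hCd z.1), zero_mul, mul_zero]
  exact ZMod.intCast_eq_zero_iff_even.1 h

end Vectors

abbrev CE6 : Matrix (Fin chevE6.rank) (Fin chevE6.rank) ℤ := cartanMat chevE6

theorem CE6_symm : CE6.IsSymm := by unfold Matrix.IsSymm; decide +kernel

theorem CE6_pos {v : Fin chevE6.rank → ℤ} (hv : v ≠ 0) : 0 < v ⬝ᵥ (CE6 *ᵥ v) :=
  quad_pos _
    (listMat _ [[2, 0, -1, 0, 0, 0], [0, 2, 0, -1, 0, 0], [0, 0, 3, -2, 0, 0], [0, 0, 0, 5, -6, 0],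
      [0, 0, 0, 0, 4, -5], [0, 0, 0, 0, 0, 1]])
    (listMat _ [[30, 0, 10, 4, 6, 30], [0, 30, 0, 6, 9, 45], [0, 0, 20, 8, 12, 60], [0, 0, 0, 12, 18, 90],
      [0, 0, 0, 0, 15, 75], [0, 0, 0, 0, 0, 60]])
    (fun i => nth 0 [30, 30, 10, 2, 3, 45] i.val) (m := 60) (c := 60) (by norm_num) (by norm_num)
    (by decide +kernel) (by decide +kernel) (by decide +kernel) hv

theorem CE6_connected : ∀ p : Fin chevE6.rank → Bool, (∀ i j, CE6 i j ≠ 0 → p i = p j) →
    ∀ i j, p i = p j := by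
  intro p hp
  have h0 : 0 < chevE6.rank := by decide +kernel
  have g1 : CE6 ⟨0, by decide +kernel⟩ ⟨2, by decide +kernel⟩ ≠ 0 := by decide +kernel
  have g2 : CE6 ⟨2, by decide +kernel⟩ ⟨3, by decide +kernel⟩ ≠ 0 := by decide +kernel
  have g3 : CE6 ⟨3, by decide +kernel⟩ ⟨1, by decide +kernel⟩ ≠ 0 := by decide +kernel
  have g4 : CE6 ⟨3, by decide +kernel⟩ ⟨4, by decide +kernel⟩ ≠ 0 := by decide +kernel
  have g5 : CE6 ⟨4, by decide +kernel⟩ ⟨5, by decide +kernel⟩ ≠ 0 := by decide +kernel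
  have e1 := hp _ _ g1
  have e2 := hp _ _ g2
  have e3 := hp _ _ g3
  have e4 := hp _ _ g4
  have e5 := hp _ _ g5
  have hr : chevE6.rank = 6 := by decide +kernel
  have hpath : ∀ i : Fin chevE6.rank, p i = p ⟨0, h0⟩ := by
    rintro ⟨iv, hi⟩
    rcases (show iv = 0 ∨ iv = 1 ∨ iv = 2 ∨ iv = 3 ∨ iv = 4 ∨ iv = 5 by omega) with
      rfl | rfl | rfl | rfl | rfl | rfl
    · rfl
    · exact ((e1.trans e2).trans e3).symm
    · exact e1.symm
    · exact (e1.trans e2).symm
    · exact ((e1.trans e2).trans e4).symm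
    · exact (((e1.trans e2).trans e4).trans e5).symm
  intro i j
  rw [hpath i, hpath j]

/-- E₆ is indecomposable: an integral self-adjoint idempotent is zero or one. -/
theorem idem_trivial (P : Matrix (Fin chevE6.rank) (Fin chevE6.rank) ℤ) (h2 : P * P = P)
    (hs : (P * CE6).IsSymm) : P = 0 ∨ P = 1 := by
  have hdiag : ∀ k, CE6 k k = 2 := by decide +kernel
  have hPC : CE6 * Pᵀ = P * CE6 := by
    have h := hs.eq
    rwa [Matrix.transpose_mul, CE6_symm.eq] at h
  have hrow : ∀ i, P i = 0 ∨ P i = (1 : Matrix (Fin chevE6.rank) (Fin chevE6.rank) ℤ) i := by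
    intro i
    set a := P i
    set b := ((1 : Matrix (Fin chevE6.rank) (Fin chevE6.rank) ℤ) - P) i
    have hqa : a ⬝ᵥ (CE6 *ᵥ a) = (P * CE6 * Pᵀ) i i := by
      rw [Matrix.mul_assoc, Matrix.mul_apply, dotProduct]
      exact Finset.sum_congr rfl fun k _ => rfl
    have hqb : b ⬝ᵥ (CE6 *ᵥ b) = ((((1 : Matrix (Fin chevE6.rank) (Fin chevE6.rank) ℤ) - P) * CE6 * ((1 : Matrix (Fin chevE6.rank) (Fin chevE6.rank) ℤ) - P)ᵀ : Matrix (Fin chevE6.rank) (Fin chevE6.rank) ℤ)) i i := by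
      rw [Matrix.mul_assoc, Matrix.mul_apply, dotProduct]
      exact Finset.sum_congr rfl fun k _ => rfl
    have hPP : P * CE6 * Pᵀ = P * CE6 := by rw [Matrix.mul_assoc, hPC, ← Matrix.mul_assoc, h2]
    have hsum : a ⬝ᵥ (CE6 *ᵥ a) + b ⬝ᵥ (CE6 *ᵥ b) = 2 := by
      rw [hqa, hqb, ← Matrix.add_apply, Matrix.transpose_sub, Matrix.transpose_one, sub_mul, one_mul,
        mul_sub, mul_one, sub_mul, hPP, hPC, sub_self, sub_zero, add_sub_cancel]
      exact hdiag i
    have hd : ∀ k, Even (CE6 k k) := by decide +kernel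
    obtain ⟨ka, hka⟩ := quad_even _ CE6_symm hd a
    obtain ⟨kb, hkb⟩ := quad_even _ CE6_symm hd b
    by_cases ha : a = 0
    · exact Or.inl ha
    · refine Or.inr ?_
      have hb : b = 0 := by
        by_contra hb
        have := CE6_pos ha
        have := CE6_pos hb
        omega
      exact (sub_eq_zero.1 hb).symm
  let p : Fin chevE6.rank → Bool := fun i => decide (P i i = 1)
  have hP : ∀ i k, P i k = if p i then (1 : Matrix (Fin chevE6.rank) (Fin chevE6.rank) ℤ) i k else 0 := by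
    intro i k
    rcases hrow i with h | h
    · rw [show p i = false by simp [p, h]]
      simp [h]
    · rw [show p i = true by simp [p, h]]
      simp [h]
  have hpc : ∀ i j, CE6 i j ≠ 0 → p i = p j := by
    intro i j hij
    have h := hs.apply i j
    have e : ∀ i j, (P * CE6) i j = if p i then CE6 i j else 0 := by
      intro i j
      rw [Matrix.mul_apply]
      simp only [hP, Matrix.one_apply]
      cases p i <;> simp
    rw [e, e, CE6_symm.apply i j] at h
    cases hi : p i <;> cases hj : p j <;> simp [hi, hj] at h <;> first | rfl | exact absurd h hij | exact absurd h.symm hij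
  rcases Nat.eq_zero_or_pos chevE6.rank with h0 | h0
  · exact absurd h0 (by decide +kernel)
  · cases hp0 : p ⟨0, h0⟩
    · left; ext i k; rw [hP, CE6_connected p hpc i ⟨0, h0⟩, hp0]; rfl
    · right; ext i k; rw [hP, CE6_connected p hpc i ⟨0, h0⟩, hp0]; rfl

variable {π : Equiv.Perm (Fin chevE6.nroots)}

theorem form_E6 (hπ : π ∈ goodE6.weyl) : goodE6.coMat π * CE6 * (goodE6.coMat π)ᵀ = CE6 :=
  coMat_form goodE6 (cartanMat chevE6) (by decide +kernel) π hπ

theorem form_E6_pow (hπ : π ∈ goodE6.weyl) (k : ℕ) :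
    goodE6.coMat π ^ k * CE6 * (goodE6.coMat π ^ k)ᵀ = CE6 := by
  rw [← goodE6.coMat_pow hπ]; exact form_E6 (pow_mem hπ k)

/-- `Φ₁₂ ∣ charpoly` excludes `M⁶ = 1`. -/
theorem pow_six_ne_one (h : cyclotomic 12 ℤ ∣ (goodE6.coMat π).charpoly) : goodE6.coMat π ^ 6 ≠ 1 := by
  intro h6
  obtain ⟨μ, hμ⟩ : ∃ μ : ℂ, IsPrimitiveRoot μ 12 := ⟨_, Complex.isPrimitiveRoot_exp 12 (by norm_num)⟩
  have h0 : aeval μ (goodE6.coMat π).charpoly = 0 := by
    obtain ⟨w, hw⟩ := h
    rw [hw, map_mul, aeval_def, ← eval_map, map_cyclotomic, (isRoot_cyclotomic_iff.2 hμ : eval μ _ = 0), zero_mul]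
  have := hμ.dvd_of_pow_eq_one 6 (charpoly_root_pow _ h6 μ h0)
  omega

/-- The characteristic polynomial is `Φ₁₂Φ₃`. -/
theorem charpoly_E6 (hπ : π ∈ goodE6.weyl) (h : cyclotomic 12 ℤ ∣ (goodE6.coMat π).charpoly) :
    (goodE6.coMat π).charpoly = cyclotomic 12 ℤ * cyclotomic 3 ℤ := by
  classical
  set M := goodE6.coMat π with hM
  have hr : chevE6.rank = 6 := by decide +kernel
  have h6ne := pow_six_ne_one h
  obtain ⟨w, hw⟩ := h
  have hwm : w.Monic := (cyclotomic.monic 12 ℤ).of_mul_monic_left (hw ▸ Matrix.charpoly_monic _)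
  have hdeg : w.natDegree = 2 := by
    have h1 := congrArg natDegree hw
    rw [Matrix.charpoly_natDegree_eq_dim, Fintype.card_fin, hr, (cyclotomic.monic 12 ℤ).natDegree_mul hwm,
      natDegree_cyclotomic, show (12 : ℕ).totient = 4 by decide] at h1
    omega
  set b := w.coeff 1
  set c := w.coeff 0
  have hwe : w = X ^ 2 + C b * X + C c := by
    conv_lhs => rw [hwm.as_sum, hdeg]
    simp [Finset.sum_range_succ, b, c]
    ring
  obtain ⟨e, he, hMe⟩ := coMat_pow_one goodE6 hπ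
  have hc : c = 1 ∨ c = -1 := by
    have hu : IsUnit M.det := by
      have := congrArg Matrix.det hMe
      rw [Matrix.det_pow, Matrix.det_one] at this
      exact IsUnit.of_pow_eq_one this he.ne'
    rw [Matrix.det_eq_sign_charpoly_coeff, hw, mul_coeff_zero] at hu
    exact Int.isUnit_iff.1 (isUnit_of_mul_isUnit_right (isUnit_of_mul_isUnit_right hu))
  have hb : -2 ≤ b ∧ b ≤ 2 := by
    obtain ⟨μ, hμ⟩ := IsAlgClosed.exists_aeval_eq_zero ℂ w (by
      rw [degree_eq_natDegree hwm.ne_zero, hdeg]; norm_num)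
    have hroot : ∀ z : ℂ, aeval z w = 0 → ‖z‖ = 1 := fun z hz => by
      refine Complex.norm_eq_one_of_pow_eq_one (charpoly_root_pow M hMe z ?_) he.ne'
      rw [hw, map_mul, hz, mul_zero]
    have h2 : aeval (-(b : ℂ) - μ) w = 0 := by
      rw [hwe] at hμ ⊢
      simp only [map_add, map_mul, map_pow, map_intCast, aeval_X, aeval_C, algebraMap_int_eq, eq_intCast] at hμ ⊢
      linear_combination hμ
    have h3 : ‖(b : ℂ)‖ ≤ 2 := by
      calc ‖(b : ℂ)‖ = ‖μ + (-(b : ℂ) - μ)‖ := by rw [add_sub_cancel, norm_neg]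
        _ ≤ ‖μ‖ + ‖-(b : ℂ) - μ‖ := norm_add_le _ _
        _ = 2 := by rw [hroot μ hμ, hroot _ h2]; norm_num
    rw [Complex.norm_intCast] at h3
    exact abs_le.1 (by exact_mod_cast h3)
  have h3 : (3 : ℤ) ∣ 1 + b + c := by
    have h1 : (3 : ℤ) ∣ M.charpoly.eval 1 :=
      charpoly_one_dvd (p := 3)
        (u := fun i => if i.val = 0 ∨ i.val = 4 then 1 else if i.val = 2 ∨ i.val = 5 then 2 else 0)
        (by decide +kernel) (coMat_fixed goodE6 _ (by decide +kernel) π hπ)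
    rw [hw, cyclotomic_twelve, hwe] at h1
    simpa using h1
  have hcase : (b = 1 ∧ c = 1) ∨ (b = -2 ∧ c = 1) ∨ (b = 0 ∧ c = -1) := by omega
  rcases hcase with hgood | hbad
  · rw [hw, hwe, hgood.1, hgood.2, cyclotomic_three]; simp
  exfalso
  have hdvd : w ∣ (X ^ 2 - 1) ^ 2 ∧ (w.eval 1 = 0) := by
    rcases hbad with ⟨hb', hc'⟩ | ⟨hb', hc'⟩
    · refine ⟨⟨(X + 1) ^ 2, ?_⟩, by rw [hwe, hb', hc']; norm_num⟩
      rw [hwe, hb', hc']; simp only [map_neg, map_ofNat, map_one]; ring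
    · refine ⟨⟨X ^ 2 - 1, ?_⟩, by rw [hwe, hb', hc']; norm_num⟩
      rw [hwe, hb', hc']; simp only [map_neg, map_zero, map_one]; ring
  have hkill := aeval_eq_zero_of_charpoly_dvd goodE6 hπ (cyclotomic 12 ℤ * (X ^ 2 - 1)) (k := 2) (by norm_num) (by
    rw [← hM, hw, mul_pow]
    exact mul_dvd_mul (dvd_pow_self _ two_ne_zero) hdvd.1)
  set P := M ^ 4 - M ^ 2 + 1 with hP
  have hPp : aeval M (cyclotomic 12 ℤ) = P := by rw [cyclotomic_twelve]; simp [hP]
  rw [map_mul, hPp, map_sub, map_pow, aeval_X, map_one, ← hM] at hkill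
  have hP2 : P * M ^ 2 = P := by rwa [mul_sub, mul_one, sub_eq_zero] at hkill
  have hP4 : P * M ^ 4 = P := by rw [show (4 : ℕ) = 2 + 2 by rfl, pow_add, ← mul_assoc, hP2, hP2]
  have hPP : P * P = P := by
    conv_lhs => arg 2; rw [hP]
    rw [mul_add, mul_sub, hP4, hP2, sub_self, zero_add, mul_one]
  have hsymm : (P * CE6).IsSymm := by
    have hPC : P * CE6 = M ^ 4 * (CE6 * Pᵀ) := by
      have f2 := form_E6_pow hπ 2
      have f4 := form_E6_pow hπ 4
      rw [← hM] at f2 f4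
      rw [hP, Matrix.transpose_add, Matrix.transpose_sub, Matrix.transpose_one, mul_add CE6, mul_sub CE6, mul_one,
        mul_add, mul_sub, ← mul_assoc (M ^ 4), ← mul_assoc (M ^ 4), f4]
      rw [show M ^ 4 * CE6 * (M ^ 2)ᵀ = M ^ 2 * CE6 by
        conv_rhs => rw [← f2]
        simp only [← mul_assoc, ← pow_add]]
      rw [add_mul, sub_mul, one_mul]
      abel
    have hkey : P * CE6 = P * CE6 * Pᵀ := by
      calc P * CE6 = P * (P * CE6) := by rw [← mul_assoc, hPP]
        _ = P * M ^ 4 * (CE6 * Pᵀ) := by rw [hPC, mul_assoc]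
        _ = P * CE6 * Pᵀ := by rw [hP4, mul_assoc]
    show (P * CE6)ᵀ = P * CE6
    rw [hkey, Matrix.transpose_mul, Matrix.transpose_mul, Matrix.transpose_transpose, CE6_symm.eq, mul_assoc]
  rcases idem_trivial P hPP hsymm with h0 | h1
  · have hdet : M.charpoly.eval 1 = 0 := by rw [hw, eval_mul, hdvd.2, mul_zero]
    rw [Matrix.eval_charpoly] at hdet
    obtain ⟨u, hu0, hu⟩ := Matrix.exists_mulVec_eq_zero_iff.2 hdet
    rw [map_one, Matrix.sub_mulVec, Matrix.one_mulVec, sub_eq_zero] at hu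
    have hk : ∀ k : ℕ, M ^ k *ᵥ u = u := fun k => by
      induction k with
      | zero => rw [pow_zero, Matrix.one_mulVec]
      | succ k ih => rw [pow_succ, ← Matrix.mulVec_mulVec, ← hu, ih]
    have hPu : P *ᵥ u = u := by
      rw [hP, Matrix.add_mulVec, Matrix.sub_mulVec, hk, hk, sub_self, zero_add, Matrix.one_mulVec]
    rw [h0, Matrix.zero_mulVec] at hPu
    exact hu0 hPu.symm
  · refine h6ne ?_
    rw [h1, one_mul] at hP2
    rw [show (6 : ℕ) = 2 * 3 by rfl, pow_mul, hP2, one_pow]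

/-- The facts on `T = 1 - M⁶` that are used. -/
theorem T_facts (hπ : π ∈ goodE6.weyl) (h : cyclotomic 12 ℤ ∣ (goodE6.coMat π).charpoly) :
    let M := goodE6.coMat π
    M ^ 12 = 1 ∧ aeval M (cyclotomic 12 ℤ) * (1 - M ^ 6) = 0 ∧
      aeval M (cyclotomic 3 ℤ) * (1 + M ^ 6) = 0 ∧ (1 - M ^ 6) * (1 - M ^ 6) = (2 : ℤ) • (1 - M ^ 6) := by
  intro M
  have hch := charpoly_E6 hπ h
  have hz : ∀ p : ℤ[X], cyclotomic 12 ℤ * cyclotomic 3 ℤ ∣ p → aeval M p = 0 := fun p hp =>
    aeval_eq_zero_of_dvd_aeval_eq_zero (hch ▸ hp) (Matrix.aeval_self_charpoly M)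
  have h12 : M ^ 12 = 1 := by
    have e := hz (X ^ 12 - 1) ⟨(X ^ 2 + 1) * (X - 1) * (X ^ 3 + 1), by
      rw [cyclotomic_twelve, cyclotomic_three]; ring⟩
    rwa [map_sub, map_pow, aeval_X, map_one, sub_eq_zero] at e
  refine ⟨h12, ?_, ?_, ?_⟩
  · have e := hz (cyclotomic 12 ℤ * (1 - X ^ 6)) ⟨-((X - 1) * (X ^ 3 + 1)), by
      rw [cyclotomic_twelve, cyclotomic_three]; ring⟩
    simpa [map_mul, map_sub, map_pow] using e
  · have e := hz (cyclotomic 3 ℤ * (1 + X ^ 6)) ⟨X ^ 2 + 1, by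
      rw [cyclotomic_twelve, cyclotomic_three]; ring⟩
    simpa [map_mul, map_add, map_pow] using e
  · rw [sub_mul, one_mul, mul_sub, mul_one, ← pow_add, h12, two_smul]
    abel

/-- No root is orthogonal to the four dimensional eigenspace. -/
theorem root_T_ne_zero (hπ : π ∈ goodE6.weyl) (h : cyclotomic 12 ℤ ∣ (goodE6.coMat π).charpoly)
    (α : Fin chevE6.nroots) : goodE6.coVec α ᵥ* (1 - goodE6.coMat π ^ 6) ≠ 0 := by
  classical
  intro hα
  obtain ⟨h12, hΦ, hS3, hTT⟩ := T_facts hπ h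
  set M := goodE6.coMat π with hM
  set a := goodE6.coVec α with ha
  set b := a ᵥ* M with hb
  have hs6 : a ᵥ* M ^ 6 = a := by
    rw [Matrix.vecMul_sub, Matrix.vecMul_one, sub_eq_zero] at hα; exact hα.symm
  have h3a : a ᵥ* aeval M (cyclotomic 3 ℤ) = 0 := by
    set N := aeval M (cyclotomic 3 ℤ) with hN
    have hc : N * M ^ 6 = M ^ 6 * N := by
      have e := congrArg (aeval M) (mul_comm (cyclotomic 3 ℤ) ((X : ℤ[X]) ^ 6))
      rwa [map_mul, map_mul, map_pow, aeval_X] at e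
    have e1 : a ᵥ* N + a ᵥ* N = 0 := by
      have e2 : a ᵥ* (N * (1 + M ^ 6)) = 0 := by rw [hS3, Matrix.vecMul_zero]
      rwa [mul_add, mul_one, hc, Matrix.vecMul_add, ← Matrix.vecMul_vecMul a (M ^ 6) N, hs6] at e2
    funext i
    have := congrFun e1 i
    simp only [Pi.add_apply, Pi.zero_apply] at this ⊢
    omega
  have hbM : b ᵥ* M = -a - b := by
    rw [cyclotomic_three, map_add, map_add, map_pow, aeval_X, map_one, Matrix.vecMul_add, Matrix.vecMul_add,
      Matrix.vecMul_one, sq, ← Matrix.vecMul_vecMul, ← hb] at h3a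
    rw [← sub_eq_zero, ← h3a]; abel
  have hiso : ∀ x y : Fin chevE6.rank → ℤ, (x ᵥ* M) ⬝ᵥ (CE6 *ᵥ (y ᵥ* M)) = x ⬝ᵥ (CE6 *ᵥ y) := by
    intro x y
    rw [← Matrix.mulVec_transpose M y, Matrix.mulVec_mulVec, Matrix.dotProduct_mulVec, Matrix.vecMul_vecMul,
      ← mul_assoc, form_E6 hπ, ← Matrix.dotProduct_mulVec]
  have haa : a ⬝ᵥ (CE6 *ᵥ a) = 2 := by
    obtain ⟨l, i, h1, -⟩ := goodE6.exists_word_simple α.2
    have hw : goodE6.wperm l (goodE6.sroot i) = α := Fin.ext h1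
    have e := form_E6 (goodE6.wperm_mem l)
    rw [ha, ← hw, goodE6.coVec_apply (goodE6.wperm_mem l),
      ← Matrix.mulVec_transpose (goodE6.coMat _) (goodE6.coVec _)]
    rw [Matrix.mulVec_mulVec, Matrix.mulVec_transpose, Matrix.dotProduct_mulVec, Matrix.vecMul_vecMul,
      ← mul_assoc, e, goodE6.coVec_sroot, ← Matrix.dotProduct_mulVec]
    clear h1 hw e
    revert i
    decide +kernel
  have hbb : b ⬝ᵥ (CE6 *ᵥ b) = 2 := by rw [hb, hiso, haa]
  have hab : a ⬝ᵥ (CE6 *ᵥ b) = -1 ∧ b ⬝ᵥ (CE6 *ᵥ a) = -1 := by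
    have e := hiso b b
    rw [hbM, hbb] at e
    have hsy : b ⬝ᵥ (CE6 *ᵥ a) = a ⬝ᵥ (CE6 *ᵥ b) := by
      rw [Matrix.dotProduct_mulVec, ← Matrix.mulVec_transpose, CE6_symm.eq, dotProduct_comm]
    simp only [Matrix.mulVec_sub, Matrix.mulVec_neg, sub_dotProduct, neg_dotProduct, dotProduct_sub,
      dotProduct_neg, haa, hbb, hsy] at e
    omega
  set S := 1 + M ^ 6 with hS
  set Q := vecMulVec (CE6 *ᵥ a) ((2 : ℤ) • a + b) + vecMulVec (CE6 *ᵥ b) (a + (2 : ℤ) • b) with hQ
  have hbs : b ᵥ* M ^ 6 = b := by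
    rw [hb, Matrix.vecMul_vecMul, show M * M ^ 6 = M ^ 6 * M from (pow_succ' M 6).symm.trans (pow_succ M 6),
      ← Matrix.vecMul_vecMul, hs6]
  have haS : a ᵥ* S = (2 : ℤ) • a := by rw [hS, Matrix.vecMul_add, Matrix.vecMul_one, hs6, two_smul]
  have hbS : b ᵥ* S = (2 : ℤ) • b := by rw [hS, Matrix.vecMul_add, Matrix.vecMul_one, hbs, two_smul]
  have hSC : ∀ x, x ᵥ* M ^ 6 = x → S *ᵥ (CE6 *ᵥ x) = (2 : ℤ) • (CE6 *ᵥ x) := by
    intro x hx
    have e : M ^ 6 *ᵥ (CE6 *ᵥ x) = CE6 *ᵥ x := by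
      conv_lhs => rw [← hx]
      rw [← Matrix.mulVec_transpose (M ^ 6) x, Matrix.mulVec_mulVec, Matrix.mulVec_mulVec, form_E6_pow hπ]
    rw [hS, Matrix.add_mulVec, Matrix.one_mulVec, e, two_smul]
  have hQS : Q * S = (2 : ℤ) • Q := by
    rw [hQ, add_mul, vecMulVec_mul, vecMulVec_mul, Matrix.add_vecMul, Matrix.add_vecMul, Matrix.smul_vecMul,
      Matrix.smul_vecMul, haS, hbS]
    ext i j
    simp [vecMulVec_apply]; ring
  have hSQ : S * Q = (2 : ℤ) • Q := by
    rw [hQ, mul_add, mul_vecMulVec, mul_vecMulVec, hSC a hs6, hSC b hbs]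
    ext i j
    simp [vecMulVec_apply]; ring
  have hQa : Q *ᵥ (CE6 *ᵥ a) = (3 : ℤ) • (CE6 *ᵥ a) := by
    rw [hQ, Matrix.add_mulVec, Matrix.vecMulVec_mulVec, Matrix.vecMulVec_mulVec]
    simp only [add_dotProduct, smul_dotProduct, haa, hab.2]
    funext i; simp; ring
  have hQb : Q *ᵥ (CE6 *ᵥ b) = (3 : ℤ) • (CE6 *ᵥ b) := by
    rw [hQ, Matrix.add_mulVec, Matrix.vecMulVec_mulVec, Matrix.vecMulVec_mulVec]
    simp only [add_dotProduct, smul_dotProduct, hbb, hab.1]
    funext i; simp; ring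
  have hS2 : S * S = (2 : ℤ) • S := by
    rw [hS, add_mul, one_mul, mul_add, mul_one, ← pow_add, h12, two_smul]
    abel
  set Δ := (3 : ℤ) • S - (2 : ℤ) • Q with hΔ
  have hΔS : Δ * S = (2 : ℤ) • Δ := by
    rw [hΔ, sub_mul, smul_mul_assoc, smul_mul_assoc, hS2, hQS, smul_sub]
    simp only [smul_smul]; norm_num
  have hΔa : Δ *ᵥ (CE6 *ᵥ a) = 0 := by
    rw [hΔ, Matrix.sub_mulVec, Matrix.smul_mulVec, Matrix.smul_mulVec, hQa, hSC a hs6]
    simp only [smul_smul]; norm_num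
  have hΔb : Δ *ᵥ (CE6 *ᵥ b) = 0 := by
    rw [hΔ, Matrix.sub_mulVec, Matrix.smul_mulVec, Matrix.smul_mulVec, hQb, hSC b hbs]
    simp only [smul_smul]; norm_num
  -- a root system A₂ and four eigenvectors leave no room
  obtain ⟨i₀, hi₀⟩ : ∃ i, ((1 : Matrix (Fin chevE6.rank) (Fin chevE6.rank) ℤ) - M ^ 6) i ≠ 0 := by
    by_contra hall
    push Not at hall
    exact pow_six_ne_one h (sub_eq_zero.1 (funext hall : (1 - M ^ 6) = 0)).symm
  set y := ((1 : Matrix (Fin chevE6.rank) (Fin chevE6.rank) ℤ) - M ^ 6) i₀ with hy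
  have hTΦ : (1 - M ^ 6) * aeval M (cyclotomic 12 ℤ) = 0 := by
    rw [← hΦ]
    have e := congrArg (aeval M) (mul_comm (1 - (X : ℤ[X]) ^ 6) (cyclotomic 12 ℤ))
    rwa [map_mul, map_mul, map_sub, map_one, map_pow, aeval_X] at e
  have hTS : (1 - M ^ 6) * S = 0 := by
    rw [hS, sub_mul, one_mul, mul_add, mul_one, ← pow_add, h12]
    abel
  have hyk : aeval Mᵀ (cyclotomic 12 ℤ) *ᵥ y = 0 := by
    have e : aeval Mᵀ (cyclotomic 12 ℤ) = (aeval M (cyclotomic 12 ℤ))ᵀ := by
      rw [cyclotomic_twelve]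
      simp [Matrix.transpose_pow]
    rw [e, Matrix.mulVec_transpose]
    funext k
    exact congrFun (congrFun hTΦ i₀) k
  have hyS : y ᵥ* S = 0 := by
    funext k; exact congrFun (congrFun hTS i₀) k
  have hΔ0 : Δ = 0 := by
    by_contra hne
    obtain ⟨i₁, hi₁⟩ : ∃ i, Δ i ≠ 0 := by
      by_contra hall; push Not at hall; exact hne (funext hall)
    set z := Δ i₁
    have hzS : z ᵥ* S = (2 : ℤ) • z := by funext k; exact congrFun (congrFun hΔS i₁) k
    have hza : z ⬝ᵥ (CE6 *ᵥ a) = 0 := congrFun hΔa i₁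
    have hzb : z ⬝ᵥ (CE6 *ᵥ b) = 0 := congrFun hΔb i₁
    let L : (Fin 4 ⊕ Fin 3 → ℤ) →ₗ[ℤ] (Fin chevE6.rank → ℤ) :=
      Fintype.linearCombination ℤ (Sum.elim (fun i : Fin 4 => (Mᵀ ^ (i : ℕ)) *ᵥ y) ![a, b, z])
    have hLinj : Function.Injective L := by
      rw [injective_iff_map_eq_zero]
      intro c hc
      simp only [L, Fintype.linearCombination_apply, Fintype.sum_sum_type, Sum.elim_inl, Sum.elim_inr,
        Fin.sum_univ_three, Matrix.cons_val_zero, Matrix.cons_val_one, Matrix.cons_val_two,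
        Matrix.head_cons, Matrix.tail_cons] at hc
      have hys : ∀ k : ℕ, ((Mᵀ ^ k) *ᵥ y) ᵥ* S = 0 := fun k => by
        rw [← Matrix.transpose_pow, Matrix.mulVec_transpose, Matrix.vecMul_vecMul,
          show M ^ k * S = S * M ^ k by rw [hS, mul_add, add_mul, mul_one, one_mul, ← pow_add, ← pow_add, add_comm k],
          ← Matrix.vecMul_vecMul, hyS, Matrix.zero_vecMul]
      have hsum : (c (Sum.inr 0) • a + c (Sum.inr 1) • b + c (Sum.inr 2) • z) = 0 := by
        have e := congrArg (fun x => x ᵥ* S) hc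
        simp only [Matrix.add_vecMul, Matrix.sum_vecMul, Matrix.smul_vecMul, hys, smul_zero, Finset.sum_const_zero,
          zero_add, haS, hbS, hzS, Matrix.zero_vecMul] at e
        funext k
        have := congrFun e k
        simp only [Pi.add_apply, Pi.smul_apply, smul_eq_mul, Pi.zero_apply] at this ⊢
        linarith
      have ea := congrArg (fun x => x ⬝ᵥ (CE6 *ᵥ a)) hsum
      have eb := congrArg (fun x => x ⬝ᵥ (CE6 *ᵥ b)) hsum
      simp only [add_dotProduct, smul_dotProduct, haa, hbb, hab.1, hab.2, hza, hzb, smul_eq_mul,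
        zero_dotProduct] at ea eb
      have c0 : c (Sum.inr 0) = 0 := by omega
      have c1 : c (Sum.inr 1) = 0 := by omega
      rw [c0, c1, zero_smul, zero_smul, zero_add, zero_add, smul_eq_zero] at hsum
      have c2 : c (Sum.inr 2) = 0 := hsum.resolve_right hi₁
      rw [c0, c1, c2] at hc
      simp only [zero_smul, add_zero] at hc
      have hl := indep_four Mᵀ (by rwa [hy]) hyk _ hc
      funext x
      rcases x with i | i
      · exact congrFun hl i
      · fin_cases i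
        · exact c0
        · exact c1
        · exact c2
    have := LinearMap.finrank_le_finrank_of_injective hLinj
    simp only [Module.finrank_fintype_fun_eq_card, Fintype.card_sum, Fintype.card_fin] at this
    rw [show chevE6.rank = 6 by decide +kernel] at this
    omega
  set P := Q - S with hP
  have h2P : (2 : ℤ) • P = S := by
    rw [hΔ, sub_eq_zero] at hΔ0
    rw [hP, smul_sub, ← hΔ0, ← sub_smul]
    norm_num
  have hPP : P * P = P := by
    refine smul_right_injective _ (show (4 : ℤ) ≠ 0 by norm_num) ?_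
    show (4 : ℤ) • (P * P) = (4 : ℤ) • P
    have e := hS2
    rw [← h2P, smul_mul_smul_comm, smul_smul] at e
    exact e
  have hPsym : (P * CE6).IsSymm := by
    show (P * CE6)ᵀ = P * CE6
    refine smul_right_injective _ (show (2 : ℤ) ≠ 0 by norm_num) ?_
    show (2 : ℤ) • (P * CE6)ᵀ = (2 : ℤ) • (P * CE6)
    rw [← Matrix.transpose_smul, ← smul_mul_assoc, h2P, hS, add_mul, one_mul, Matrix.transpose_add, CE6_symm.eq,
      Matrix.transpose_mul, CE6_symm.eq]
    congr 1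
    calc CE6 * (M ^ 6)ᵀ = M ^ 6 * (M ^ 6 * CE6 * (M ^ 6)ᵀ) := by
          rw [← mul_assoc, ← mul_assoc, ← pow_add, h12, one_mul]
      _ = M ^ 6 * CE6 := by rw [form_E6_pow hπ]
  rcases idem_trivial P hPP hPsym with h0 | h1
  · rw [← h2P, h0, smul_zero, Matrix.vecMul_zero] at haS
    rw [eq_comm, smul_eq_zero] at haS
    rw [haS.resolve_left (by norm_num), Matrix.mulVec_zero, dotProduct_zero] at haa
    omega
  · refine pow_six_ne_one h ?_
    rw [h1, hS, two_smul] at h2P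
    exact (add_left_cancel h2P).symm

/-- A Weyl element fixing a regular vector is the identity. -/
theorem eq_one_of_regular {D : ChevalleyDatum} (g : Good D) {w : Equiv.Perm (Fin D.nroots)} (hw : w ∈ g.weyl)
    (c : Fin D.rank → ℝ) (hc : ∀ u, g.lam c u ≠ 0) (hfix : ∀ u, g.lam c (w u) = g.lam c u) : w = 1 := by
  obtain ⟨l, hl⟩ := g.exists_dominant c
  set c' := g.twist l c with hc'
  have hne : ∀ u, g.lam c' u ≠ 0 := fun u => by rw [hc', g.lam_twist]; exact hc _
  have hsign : ∀ u, half D ≤ u.val → 0 < g.lam c' u := fun u hu =>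
    lt_of_le_of_ne (g.lam_pos_nonneg hl hu) (hne u).symm
  have hpos : ∀ u, 0 < g.lam c' u → half D ≤ u.val := by
    intro u hu
    by_contra hneg
    have h1 := hsign (g.nroot u) ((g.nroot_pos_iff u).2 (Nat.not_le.1 hneg))
    have h2 : g.lam c' (g.nroot u) = - g.lam c' u := by
      rw [Good.lam, Good.lam, ← Finset.sum_neg_distrib]
      exact Finset.sum_congr rfl fun q _ => by
        rw [show (g.nroot u).val = D.neg u.val from rfl, g.co_neg u.2 q.2, Int.cast_neg, mul_neg]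
    linarith
  have h1 : (g.wperm l)⁻¹ * w * g.wperm l = 1 := by
    refine g.eq_one_of_pos (mul_mem (mul_mem (inv_mem (g.wperm_mem l)) hw) (g.wperm_mem l)) fun u hu => hpos _ ?_
    have e : g.lam c' (((g.wperm l)⁻¹ * w * g.wperm l) u) = g.lam c' u := by
      simp only [hc', g.lam_twist, Equiv.Perm.mul_apply]
      rw [Equiv.Perm.inv_def, Equiv.apply_symm_apply, hfix]
    rw [e]; exact hsign u hu
  rwa [mul_assoc, inv_mul_eq_one, eq_comm, mul_eq_right] at h1

/-- Only the identity fixes an eigenvector for a primitive twelfth root modulo `r`. -/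
theorem stab_E6 (hπ : π ∈ goodE6.weyl) (h : cyclotomic 12 ℤ ∣ (goodE6.coMat π).charpoly) {r : ℕ} [Fact r.Prime]
    (hrW : ¬ r ∣ Nat.card goodE6.weyl) {q : ZMod r} (hq6 : q ^ 6 = -1)
    {v : Fin chevE6.rank → ZMod r} (hv : v ≠ 0)
    (hRv : (goodE6.coMat π).map (Int.cast : ℤ → ZMod r) *ᵥ v = q • v)
    {ρ₀ : Equiv.Perm (Fin chevE6.nroots)} (hρ₀ : ρ₀ ∈ goodE6.weyl)
    (hρ₀v : (goodE6.coMat ρ₀).map (Int.cast : ℤ → ZMod r) *ᵥ v = v) : ρ₀ = 1 := by
  classical
  set M := goodE6.coMat π with hM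
  have hmm : ∀ A A' : Matrix (Fin chevE6.rank) (Fin chevE6.rank) ℤ,
      (A * A').map (Int.cast : ℤ → ZMod r) = A.map (Int.cast : ℤ → ZMod r) * A'.map (Int.cast : ℤ → ZMod r) :=
    fun A A' => Matrix.map_mul (f := Int.castRingHom (ZMod r))
  set G : Subgroup (Equiv.Perm (Fin chevE6.nroots)) :=
    { carrier := {ρ | ρ ∈ goodE6.weyl ∧ (goodE6.coMat ρ).map (Int.cast : ℤ → ZMod r) *ᵥ v = v}
      mul_mem' := fun {a b} ha hb => ⟨mul_mem ha.1 hb.1, by
        rw [goodE6.coMat_mul ha.1, hmm, ← Matrix.mulVec_mulVec, ha.2, hb.2]⟩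
      one_mem' := ⟨one_mem _, by
        rw [goodE6.coMat_one, Matrix.map_one _ Int.cast_zero Int.cast_one, Matrix.one_mulVec]⟩
      inv_mem' := fun {a} ha => ⟨inv_mem ha.1, by
        conv_lhs => rw [← ha.2]
        rw [Matrix.mulVec_mulVec, ← hmm, (goodE6.coMat_inv_mul ha.1).1,
          Matrix.map_one _ Int.cast_zero Int.cast_one, Matrix.one_mulVec]⟩ } with hG
  set E : Matrix (Fin chevE6.rank) (Fin chevE6.rank) ℤ := ∑ ρ : G, goodE6.coMat ρ with hE
  set n : ℤ := (Fintype.card G : ℤ) with hn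
  have hnr : (n : ZMod r) ≠ 0 := by
    rw [hn, Int.cast_natCast, ne_eq, CharP.cast_eq_zero_iff (ZMod r) r]
    refine fun hdvd => hrW (hdvd.trans ?_)
    rw [← Nat.card_eq_fintype_card]
    exact Subgroup.card_dvd_of_le fun ρ hρ => hρ.1
  have hq0 : q ≠ 0 := fun h0 => by
    rw [h0, zero_pow (by norm_num), zero_eq_neg] at hq6
    exact one_ne_zero hq6
  have hconj : ∀ ρ : G, π * ρ * π⁻¹ ∈ G := fun ρ => by
    refine ⟨mul_mem (mul_mem hπ ρ.2.1) (inv_mem hπ), ?_⟩
    rw [goodE6.coMat_mul (mul_mem hπ ρ.2.1), goodE6.coMat_mul hπ, hmm, hmm, ← hM, ← Matrix.mulVec_mulVec,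
      ← Matrix.mulVec_mulVec, hRv, Matrix.mulVec_smul, ρ.2.2, ← hRv, Matrix.mulVec_mulVec, ← hmm, hM,
      (goodE6.coMat_inv_mul hπ).1, Matrix.map_one _ Int.cast_zero Int.cast_one, Matrix.one_mulVec]
  have hEM : E * M = M * E := by
    rw [hE, Finset.sum_mul, Finset.mul_sum]
    refine Fintype.sum_bijective (fun ρ : G => (⟨π * ρ * π⁻¹, hconj ρ⟩ : G))
      ((Finite.injective_iff_bijective).1 fun a b e => Subtype.ext (by simpa using congrArg Subtype.val e)) _ _
      fun ρ => ?_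
    show goodE6.coMat ρ * M = M * goodE6.coMat (π * ρ * π⁻¹)
    rw [goodE6.coMat_mul (mul_mem hπ ρ.2.1), goodE6.coMat_mul hπ, hM, ← mul_assoc, (goodE6.coMat_inv_mul hπ).2,
      one_mul]
  have hfix : ∀ σ : G, goodE6.coMat σ * E = E := fun σ => by
    rw [hE, Finset.mul_sum]
    refine Fintype.sum_bijective (fun ρ : G => ρ * σ) (Group.mulRight_bijective σ) _ _ fun ρ => ?_
    rw [Subgroup.coe_mul, goodE6.coMat_mul ρ.2.1]
  have hEE : E * E = n • E := by
    conv_lhs => arg 1; rw [hE]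
    rw [Finset.sum_mul, Finset.sum_congr rfl fun σ _ => hfix σ, Finset.sum_const, Finset.card_univ, hn,
      natCast_zsmul]
  obtain ⟨-, hΦ, -, hTT⟩ := T_facts hπ h
  set T := 1 - M ^ 6 with hT
  have hET : E * T = T * E := by
    rw [hT, mul_sub, sub_mul, mul_one, one_mul, ((Commute.pow_right hEM 6) : Commute E (M ^ 6)).eq]
  set F := E * T with hF
  set Δ := n • T - F with hΔ
  have hFF : F * F = (2 * n) • F := by
    rw [hF, mul_assoc, ← mul_assoc T, ← hET, mul_assoc E T T, ← mul_assoc E E, hEE, hTT, mul_smul_comm,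
      smul_mul_assoc, smul_smul]
  have hFΔ : F * Δ = 0 := by
    rw [hΔ, mul_sub, hFF, mul_smul_comm, hF, mul_assoc, hTT, mul_smul_comm, smul_smul, mul_comm n, sub_self]
  have hcomm : ∀ X' : Matrix (Fin chevE6.rank) (Fin chevE6.rank) ℤ, X' = F ∨ X' = Δ →
      Commute X' M ∧ aeval M (cyclotomic 12 ℤ) * X' = 0 := by
    have hTM : Commute T M := (Commute.one_left M).sub_left ((Commute.refl M).pow_left 6)
    have hFM : Commute F M := Commute.mul_left hEM hTM
    have hΦF : aeval M (cyclotomic 12 ℤ) * F = 0 := by rw [hET, ← mul_assoc, hΦ, zero_mul]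
    rintro X' (rfl | rfl)
    · exact ⟨hFM, hΦF⟩
    · exact ⟨(hTM.smul_left n).sub_left hFM, by rw [hΔ, mul_sub, mul_smul_comm, hΦ, hΦF, smul_zero, sub_zero]⟩
  have hFne : F ≠ 0 := by
    intro h0
    have e1 : F.map (Int.cast : ℤ → ZMod r) *ᵥ v = ((n : ZMod r) * 2) • v := by
      have ev : E.map (Int.cast : ℤ → ZMod r) *ᵥ v = (n : ZMod r) • v := by
        rw [show E.map (Int.cast : ℤ → ZMod r) = (Int.castRingHom (ZMod r)).mapMatrix E from rfl, hE, map_sum,
          Matrix.sum_mulVec]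
        rw [Finset.sum_congr rfl fun (ρ : G) _ => (show (Int.castRingHom (ZMod r)).mapMatrix (goodE6.coMat ρ) *ᵥ v = v
          from ρ.2.2), Finset.sum_const, Finset.card_univ, hn, Int.cast_natCast, Nat.cast_smul_eq_nsmul]
      have hk : ∀ k : ℕ, (M ^ k).map (Int.cast : ℤ → ZMod r) *ᵥ v = q ^ k • v := fun k => by
        induction k with
        | zero => rw [pow_zero, Matrix.map_one _ Int.cast_zero Int.cast_one, Matrix.one_mulVec, pow_zero, one_smul]
        | succ k ih => rw [pow_succ, hmm, ← Matrix.mulVec_mulVec, hRv, Matrix.mulVec_smul, ih, smul_smul, pow_succ']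
      rw [hF, hmm, ← Matrix.mulVec_mulVec, hT, Matrix.map_sub _ Int.cast_sub,
        Matrix.map_one _ Int.cast_zero Int.cast_one, Matrix.sub_mulVec, Matrix.one_mulVec, hk, hq6, neg_smul,
        one_smul, sub_neg_eq_add, Matrix.mulVec_add, ev, mul_two, add_smul]
    rw [h0, Matrix.map_zero _ Int.cast_zero, Matrix.zero_mulVec, eq_comm, smul_eq_zero, mul_eq_zero] at e1
    rcases e1 with (e1 | e1) | e1
    · exact hnr e1
    · refine hrW ?_
      rw [card_weylE6]
      rw [← Nat.cast_ofNat, CharP.cast_eq_zero_iff (ZMod r) r] at e1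
      exact e1.trans (by norm_num)
    · exact hv e1
  have hΔ0 : Δ = 0 := by
    by_contra hne
    obtain ⟨i, hi⟩ : ∃ i, Δ.col i ≠ 0 := by
      by_contra hall; push Not at hall
      exact hne (Matrix.ext fun a b => congrFun (hall b) a)
    obtain ⟨j, hj⟩ : ∃ j, F.col j ≠ 0 := by
      by_contra hall; push Not at hall
      exact hFne (Matrix.ext fun a b => congrFun (hall b) a)
    have hkill : ∀ X', X' = F ∨ X' = Δ → ∀ k, aeval M (cyclotomic 12 ℤ) *ᵥ X'.col k = 0 := fun X' hX k => by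
      funext a
      exact congrFun (congrFun (hcomm X' hX).2 a) k
    have hFx : ∀ k : ℕ, F *ᵥ (M ^ k *ᵥ Δ.col i) = 0 := fun k => by
      rw [Matrix.mulVec_mulVec, ((hcomm F (Or.inl rfl)).1.pow_right k).eq, ← Matrix.mulVec_mulVec]
      rw [show F *ᵥ Δ.col i = 0 from funext fun a => congrFun (congrFun hFΔ a) i, Matrix.mulVec_zero]
    have hFy : ∀ k : ℕ, F *ᵥ (M ^ k *ᵥ F.col j) = (2 * n) • (M ^ k *ᵥ F.col j) := fun k => by
      rw [Matrix.mulVec_mulVec, ((hcomm F (Or.inl rfl)).1.pow_right k).eq, ← Matrix.mulVec_mulVec,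
        show F *ᵥ F.col j = (2 * n) • F.col j from funext fun a => congrFun (congrFun hFF a) j,
        Matrix.mulVec_smul]
    let L : (Fin 4 ⊕ Fin 4 → ℤ) →ₗ[ℤ] (Fin chevE6.rank → ℤ) :=
      Fintype.linearCombination ℤ (Sum.elim (fun k : Fin 4 => M ^ (k : ℕ) *ᵥ Δ.col i)
        (fun k : Fin 4 => M ^ (k : ℕ) *ᵥ F.col j))
    have hLinj : Function.Injective L := by
      rw [injective_iff_map_eq_zero]
      intro c hc
      simp only [L, Fintype.linearCombination_apply, Fintype.sum_sum_type, Sum.elim_inl, Sum.elim_inr] at hc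
      have e := congrArg (fun x => F *ᵥ x) hc
      simp only [Matrix.mulVec_add, Matrix.mulVec_sum, Matrix.mulVec_smul, hFx, hFy, smul_zero,
        Finset.sum_const_zero, zero_add, Matrix.mulVec_zero] at e
      rw [Finset.sum_congr rfl fun k _ => smul_comm (c (Sum.inr k)) (2 * n) _, ← Finset.smul_sum, smul_eq_zero] at e
      have hn0 : (2 * n) ≠ 0 := mul_ne_zero two_ne_zero (by
        intro h0; rw [h0, Int.cast_zero] at hnr; exact hnr rfl)
      have e' := e.resolve_left hn0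
      have hb := indep_four M hj (hkill F (Or.inl rfl) j) _ e'
      rw [e', add_zero] at hc
      have ha := indep_four M hi (hkill Δ (Or.inr rfl) i) _ hc
      funext x
      rcases x with k | k
      · exact congrFun ha k
      · exact congrFun hb k
    have := LinearMap.finrank_le_finrank_of_injective hLinj
    simp only [Module.finrank_fintype_fun_eq_card, Fintype.card_sum, Fintype.card_fin] at this
    rw [show chevE6.rank = 6 by decide +kernel] at this
    omega
  have hρT : goodE6.coMat ρ₀ * T = T := by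
    have hn0 : n ≠ 0 := by intro h0; rw [h0, Int.cast_zero] at hnr; exact hnr rfl
    refine smul_right_injective _ hn0 ?_
    show n • (goodE6.coMat ρ₀ * T) = n • T
    rw [← mul_smul_comm, sub_eq_zero.1 hΔ0, hF, ← mul_assoc, hfix ⟨ρ₀, hρ₀, hρ₀v⟩]
  -- a regular vector in the image of T
  let p : Fin chevE6.nroots → ℤ[X] := fun u => ∑ j : Fin chevE6.rank, C ((goodE6.coVec u ᵥ* T) j) * X ^ (j : ℕ)
  have hp : ∀ u, p u ≠ 0 := by
    intro u h0
    refine root_T_ne_zero hπ h u ?_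
    funext j
    have e := congrArg (fun f : ℤ[X] => f.coeff (j : ℕ)) h0
    simp only [p, finsetSum_coeff, coeff_C_mul_X_pow, coeff_zero] at e
    rw [Finset.sum_eq_single j (fun b _ hb => if_neg fun he => hb (Fin.ext he).symm) (by simp), if_pos rfl] at e
    exact e
  obtain ⟨t, ht⟩ : ∃ t : ℤ, t ∉ (Finset.univ.biUnion fun u => (p u).roots.toFinset) :=
    Infinite.exists_notMem_finset _
  set k : Fin chevE6.rank → ℤ := fun j => t ^ (j : ℕ) with hk
  have hlam : ∀ u, goodE6.lam (fun q => (((T *ᵥ k) q : ℤ) : ℝ)) u = (((p u).eval t : ℤ) : ℝ) := by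
    intro u
    have e : (p u).eval t = goodE6.coVec u ⬝ᵥ (T *ᵥ k) := by
      rw [Matrix.dotProduct_mulVec]
      simp only [p, eval_finsetSum, eval_mul, eval_C, eval_pow, eval_X, dotProduct, hk]
    rw [e, Good.lam]
    simp only [dotProduct, Int.cast_sum, Int.cast_mul]
    exact Finset.sum_congr rfl fun q _ => mul_comm _ _
  refine eq_one_of_regular goodE6 hρ₀ (fun q => (((T *ᵥ k) q : ℤ) : ℝ)) (fun u h0 => ht ?_) fun u => ?_
  · rw [hlam, Int.cast_eq_zero] at h0
    exact Finset.mem_biUnion.2 ⟨u, Finset.mem_univ _, Multiset.mem_toFinset.2 ((mem_roots (hp u)).2 h0)⟩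
  · rw [hlam, hlam]
    congr 1
    simp only [p, goodE6.coVec_apply hρ₀, Matrix.vecMul_vecMul, hρT]

end CfsgLib.Chev.Springer
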