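import Mathlib
import Cfsg.Prelude.Def_Classical

/-!
The elementary subgroup of a split orthogonal group: a reduction to monomial elements on the last
hyperbolic plane, and the bound on the commutator subgroup.
-/

set_option autoImplicit false

open scoped commutatorElement Matrix

namespace CfsgLib.Chev.OE

/-- The paired coordinate. -/
def st {m : ℕ} (a : Bool × Fin m) : Bool × Fin m := (!a.1, a.2)

@[simp] lemma st_st {m : ℕ} (a : Bool × Fin m) : st (st a) = a := by simp [st]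

@[simp] lemma st_snd {m : ℕ} (a : Bool × Fin m) : (st a).2 = a.2 := rfl

lemma st_ne {m : ℕ} (a : Bool × Fin m) : st a ≠ a := by
  rcases a with ⟨b, i⟩; cases b <;> simp [st]

lemma ne_of_snd {m : ℕ} {a b : Bool × Fin m} (h : a.2 ≠ b.2) : a ≠ b := fun e => h (congrArg _ e)

/-- Coordinates: hyperbolic pairs and at most one further coordinate. -/
structure Coord (ι : Type) [Fintype ι] [DecidableEq ι] (m : ℕ) where
  p : Bool × Fin m → ι
  inj : Function.Injective p
  Z : Finset ι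
  mem_Z : ∀ k, k ∈ Z ↔ ∀ a, p a ≠ k
  card_Z : ∀ z ∈ Z, ∀ z' ∈ Z, z = z'

variable {ι : Type} [Fintype ι] [DecidableEq ι] {m : ℕ} (C : Coord ι m) {F : Type*} [Field F]

/-- The split quadratic form. -/
def qf (v : ι → F) : F :=
  (∑ i : Fin m, v (C.p (false, i)) * v (C.p (true, i))) + ∑ k ∈ C.Z, v k ^ 2

/-- Its polar form. -/
def pol (u v : ι → F) : F :=
  (∑ i : Fin m, (u (C.p (false, i)) * v (C.p (true, i)) + u (C.p (true, i)) * v (C.p (false, i)))) +
    ∑ k ∈ C.Z, 2 * u k * v k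

lemma p_notMem (a : Bool × Fin m) : C.p a ∉ C.Z := fun h => (C.mem_Z _).1 h a rfl

lemma Z_ne {z : ι} (hz : z ∈ C.Z) (a : Bool × Fin m) : C.p a ≠ z := (C.mem_Z z).1 hz a

lemma qf_add (u v : ι → F) : qf C (u + v) = qf C u + qf C v + pol C u v := by
  simp only [qf, pol, Pi.add_apply]
  rw [Finset.sum_congr rfl (fun i (_ : i ∈ Finset.univ) => show
      (u (C.p (false, i)) + v (C.p (false, i))) * (u (C.p (true, i)) + v (C.p (true, i))) =
      u (C.p (false, i)) * u (C.p (true, i)) + v (C.p (false, i)) * v (C.p (true, i)) +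
        (u (C.p (false, i)) * v (C.p (true, i)) + u (C.p (true, i)) * v (C.p (false, i))) by ring),
    Finset.sum_congr rfl (fun k (_ : k ∈ C.Z) => show
      (u k + v k) ^ 2 = u k ^ 2 + v k ^ 2 + 2 * u k * v k by ring)]
  simp only [Finset.sum_add_distrib]
  ring

lemma pol_comm (u v : ι → F) : pol C u v = pol C v u := by
  simp only [pol]
  congr 1 <;> exact Finset.sum_congr rfl fun k _ => by ring

lemma pol_add (u v w : ι → F) : pol C u (v + w) = pol C u v + pol C u w := by
  simp only [pol, Pi.add_apply, mul_add, Finset.sum_add_distrib]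
  ring

lemma pol_smul (c : F) (u v : ι → F) : pol C u (c • v) = c * pol C u v := by
  simp only [pol, Pi.smul_apply, smul_eq_mul, mul_add, Finset.mul_sum]
  congr 1 <;> exact Finset.sum_congr rfl fun k _ => by ring

lemma pol_single (u : ι → F) (a : Bool × Fin m) :
    pol C u (Pi.single (C.p a) 1) = u (C.p (st a)) := by
  obtain ⟨b, i⟩ := a
  rw [pol, Finset.sum_eq_zero (s := C.Z) (fun k hk => by
    rw [Pi.single_eq_of_ne (Z_ne C hk (b, i)).symm, mul_zero]), add_zero, Finset.sum_eq_single i]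
  · cases b <;> simp [st, Pi.single_apply, C.inj.eq_iff]
  · intro j _ hj
    simp [Pi.single_apply, C.inj.eq_iff, hj]
  · simp



lemma pol_single_Z (u : ι → F) {z : ι} (hz : z ∈ C.Z) : pol C u (Pi.single z 1) = 2 * u z := by
  rw [pol, Finset.sum_eq_zero (s := Finset.univ) (fun i _ => by
    simp [Pi.single_eq_of_ne (Z_ne C hz _)]), zero_add, Finset.sum_eq_single z]
  · simp
  · intro k _ hk
    simp [Pi.single_eq_of_ne hk]
  · exact fun h => absurd hz h

lemma qf_single (c : F) (a : Bool × Fin m) : qf C (c • (Pi.single (C.p a) 1 : ι → F)) = 0 := by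
  rw [qf]
  refine (congrArg₂ (· + ·) (Finset.sum_eq_zero fun i _ => ?_)
    (Finset.sum_eq_zero fun k hk => ?_)).trans (add_zero 0)
  · obtain ⟨β, j⟩ := a
    cases β <;> simp [Pi.single_apply, C.inj.eq_iff]
  · simp [Pi.single_eq_of_ne (Z_ne C hk a).symm]

lemma qf_single_Z (c : F) {z : ι} (hz : z ∈ C.Z) : qf C (c • (Pi.single z 1 : ι → F)) = c ^ 2 := by
  rw [qf, Finset.sum_eq_zero (s := Finset.univ) (fun i _ => by
    simp [Pi.single_eq_of_ne (Z_ne C hz _)]), zero_add, Finset.sum_eq_single z]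
  · simp
  · intro k _ hk
    simp [Pi.single_eq_of_ne hk]
  · exact fun h => absurd hz h

/-- The isometry group of the form. -/
abbrev OG (F : Type*) [Field F] : Subgroup (GL ι F) := Cfsg.isometryGroup F (qf C (F := F))

variable {C}

lemma mem_OG {g : GL ι F} :
    g ∈ OG C F ↔ ∀ v, qf C ((g : Matrix ι ι F) *ᵥ v) = qf C v :=
  ⟨fun h v => h v v, fun h v _ => h v⟩

lemma pol_act {g : GL ι F} (hg : g ∈ OG C F) (u v : ι → F) :
    pol C ((g : Matrix ι ι F) *ᵥ u) ((g : Matrix ι ι F) *ᵥ v) = pol C u v := by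
  have h := mem_OG.1 hg (u + v)
  rw [Matrix.mulVec_add, qf_add, qf_add, mem_OG.1 hg u, mem_OG.1 hg v] at h
  linear_combination h

lemma act_mul (g h : GL ι F) (v : ι → F) :
    ((g * h : GL ι F) : Matrix ι ι F) *ᵥ v = (g : Matrix ι ι F) *ᵥ ((h : Matrix ι ι F) *ᵥ v) := by
  rw [Units.val_mul, Matrix.mulVec_mulVec]

lemma mat_ext {A B : Matrix ι ι F} (h : ∀ v, A *ᵥ v = B *ᵥ v) : A = B :=
  Matrix.ext_of_mulVec_single fun i => h _

/-! ### Elementary elements -/

variable (C)

/-- `1 + t A + t² B`. -/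
def uMat (A B : Matrix ι ι ℤ) (F : Type*) [Field F] (t : F) : Matrix ι ι F :=
  1 + t • A.map (Int.cast : ℤ → F) + t ^ 2 • B.map (Int.cast : ℤ → F)

/-- The linear coefficient of a long elementary element. -/
def longA (a b : Bool × Fin m) : Matrix ι ι ℤ :=
  Matrix.single (C.p b) (C.p (st a)) 1 - Matrix.single (C.p a) (C.p (st b)) 1

/-- The linear coefficient of a short elementary element. -/
def shortA (a : Bool × Fin m) (z : ι) : Matrix ι ι ℤ :=
  Matrix.single z (C.p (st a)) 1 - Matrix.single (C.p a) z 2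

/-- The quadratic coefficient of a short elementary element. -/
def shortB (a : Bool × Fin m) : Matrix ι ι ℤ := Matrix.single (C.p a) (C.p (st a)) (-1)

omit [Fintype ι] in
lemma single_map (i j : ι) (c : ℤ) :
    (Matrix.single i j c).map (Int.cast : ℤ → F) = Matrix.single i j (c : F) := by
  ext a b
  simp only [Matrix.map_apply, Matrix.single_apply]
  split_ifs <;> simp

lemma single_act (i j : ι) (c : F) (v : ι → F) :
    Matrix.single i j c *ᵥ v = (c * v j) • (Pi.single i 1 : ι → F) := by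
  ext a
  rw [Matrix.single_mulVec, Pi.smul_apply, Function.update_apply, Pi.single_apply]
  split_ifs <;> simp

lemma long_act (a b : Bool × Fin m) (t : F) (v : ι → F) :
    uMat (longA C a b) 0 F t *ᵥ v = v + (t * v (C.p (st a))) • (Pi.single (C.p b) 1 : ι → F)
      + (-(t * v (C.p (st b)))) • (Pi.single (C.p a) 1 : ι → F) := by
  simp only [uMat, longA, Matrix.map_sub _ Int.cast_sub, single_map, Int.cast_one,
    Matrix.map_zero _ Int.cast_zero, smul_zero, add_zero, Matrix.add_mulVec, Matrix.one_mulVec,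
    Matrix.smul_mulVec, Matrix.sub_mulVec, single_act, one_mul, smul_sub, smul_smul, neg_smul]
  abel

lemma short_act (a : Bool × Fin m) (z : ι) (t : F) (v : ι → F) :
    uMat (shortA C a z) (shortB C a) F t *ᵥ v = v + (t * v (C.p (st a))) • (Pi.single z 1 : ι → F)
      + (-(2 * t * v z + t ^ 2 * v (C.p (st a)))) • (Pi.single (C.p a) 1 : ι → F) := by
  simp only [uMat, shortA, shortB, Matrix.map_sub _ Int.cast_sub, Int.cast_neg,
    single_map, Int.cast_one, Int.cast_ofNat, Matrix.add_mulVec, Matrix.one_mulVec,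
    Matrix.smul_mulVec, Matrix.sub_mulVec, single_act, neg_mul, one_mul, smul_sub,
    smul_neg, smul_smul, neg_smul, add_smul]
  module

lemma uMat_zero (A B : Matrix ι ι ℤ) : uMat A B F 0 = 1 := by simp [uMat]

lemma long_mul {a b : Bool × Fin m} (hab : a.2 ≠ b.2) (s t : F) :
    uMat (longA C a b) 0 F s * uMat (longA C a b) 0 F t = uMat (longA C a b) 0 F (s + t) := by
  refine mat_ext fun v => ?_
  rw [← Matrix.mulVec_mulVec, long_act, long_act, long_act]
  simp only [Pi.add_apply, Pi.smul_apply, Pi.single_apply, C.inj.eq_iff,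
    ne_of_snd (a := st a) (b := b) (by simpa using hab), st_ne,
    ne_of_snd (a := st b) (b := a) (by simpa using hab.symm), if_false, smul_eq_mul, mul_zero,
    add_zero]
  module

lemma short_mul {a : Bool × Fin m} {z : ι} (hz : z ∈ C.Z) (s t : F) :
    uMat (shortA C a z) (shortB C a) F s * uMat (shortA C a z) (shortB C a) F t =
      uMat (shortA C a z) (shortB C a) F (s + t) := by
  refine mat_ext fun v => ?_
  rw [← Matrix.mulVec_mulVec, short_act, short_act, short_act]
  simp only [Pi.add_apply, Pi.smul_apply, Pi.single_apply, C.inj.eq_iff, st_ne,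
    Z_ne C hz, (Z_ne C hz _).symm, if_false, if_true, smul_eq_mul, mul_zero, mul_one, add_zero]
  module

/-- A matrix is elementary. -/
def IsElem (M : Matrix ι ι F) : Prop :=
  (∃ a b : Bool × Fin m, a.2 ≠ b.2 ∧ ∃ t : F, M = uMat (longA C a b) 0 F t) ∨
  (∃ a, ∃ z ∈ C.Z, ∃ t : F, M = uMat (shortA C a z) (shortB C a) F t)

/-- The elementary subgroup. -/
def EO (F : Type*) [Field F] : Subgroup (GL ι F) :=
  Subgroup.closure {g : GL ι F | IsElem C (g : Matrix ι ι F)}

variable {C}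

lemma long_mem {a b : Bool × Fin m} (hab : a.2 ≠ b.2) (t : F) :
    ∃ u ∈ EO C F, (u : Matrix ι ι F) = uMat (longA C a b) 0 F t :=
  ⟨⟨uMat (longA C a b) 0 F t, uMat (longA C a b) 0 F (-t), by rw [long_mul C hab, add_neg_cancel, uMat_zero],
    by rw [long_mul C hab, neg_add_cancel, uMat_zero]⟩,
    Subgroup.subset_closure (Or.inl ⟨a, b, hab, t, rfl⟩), rfl⟩

lemma short_mem (a : Bool × Fin m) {z : ι} (hz : z ∈ C.Z) (t : F) :
    ∃ u ∈ EO C F, (u : Matrix ι ι F) = uMat (shortA C a z) (shortB C a) F t :=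
  ⟨⟨uMat (shortA C a z) (shortB C a) F t, uMat (shortA C a z) (shortB C a) F (-t), by rw [short_mul C hz, add_neg_cancel, uMat_zero],
    by rw [short_mul C hz, neg_add_cancel, uMat_zero]⟩,
    Subgroup.subset_closure (Or.inr ⟨a, z, hz, t, rfl⟩), rfl⟩

theorem EO_le : EO C F ≤ OG C F := by
  refine (Subgroup.closure_le _).2 fun g hg => mem_OG.2 fun v => ?_
  rcases hg with ⟨a, b, hab, t, hM⟩ | ⟨a, z, hz, t, hM⟩
  · rw [hM, long_act, qf_add, qf_add, qf_single, qf_single, pol_smul, pol_smul, pol_single,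
      pol_single]
    simp only [Pi.add_apply, Pi.smul_apply, Pi.single_apply, C.inj.eq_iff,
      ne_of_snd (a := st a) (b := b) (by simpa using hab), if_false, smul_eq_mul, mul_zero,
      add_zero]
    ring
  · rw [hM, short_act, qf_add, qf_add, qf_single, qf_single_Z C _ hz, pol_smul, pol_smul,
      pol_single, pol_single_Z C _ hz]
    simp only [Pi.add_apply, Pi.smul_apply, Pi.single_apply, Z_ne C hz, if_false, smul_eq_mul,
      mul_zero, add_zero]
    ring

/-! ### Reduction -/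

/-- The basis vector of a paired coordinate. -/
abbrev bv (C : Coord ι m) (F : Type*) [Field F] (a : Bool × Fin m) : ι → F := Pi.single (C.p a) 1

/-- `g` fixes the first `n` hyperbolic pairs. -/
def Fixes (C : Coord ι m) (n : ℕ) (g : GL ι F) : Prop :=
  ∀ a : Bool × Fin m, (a.2 : ℕ) < n → (g : Matrix ι ι F) *ᵥ bv C F a = bv C F a

lemma fixes_one (n : ℕ) : Fixes C n (1 : GL ι F) := fun a _ => by
  rw [Units.val_one, Matrix.one_mulVec]

lemma fixes_mul {n : ℕ} {g h : GL ι F} (hg : Fixes C n g) (hh : Fixes C n h) :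
    Fixes C n (g * h) := fun a ha => by rw [act_mul, hh a ha, hg a ha]

lemma low_zero {x : GL ι F} (hx : x ∈ OG C F) {n : ℕ} (hf : Fixes C n x) {v : ι → F}
    (hv : ∀ c : Bool × Fin m, (c.2 : ℕ) < n → v (C.p c) = 0) (c : Bool × Fin m)
    (hc : (c.2 : ℕ) < n) : ((x : Matrix ι ι F) *ᵥ v) (C.p c) = 0 := by
  have := pol_act hx v (bv C F (st c))
  rw [hf (st c) hc, pol_single, pol_single, st_st] at this
  rw [this, hv c hc]

lemma long_fix {a b c : Bool × Fin m} {t : F} {u : GL ι F}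
    (hu : (u : Matrix ι ι F) = uMat (longA C a b) 0 F t) (h1 : c ≠ st a) (h2 : c ≠ st b) :
    (u : Matrix ι ι F) *ᵥ bv C F c = bv C F c := by
  rw [hu, long_act]
  simp [Pi.single_eq_of_ne (show C.p (st a) ≠ C.p c from fun e => h1 (C.inj e).symm),
    Pi.single_eq_of_ne (show C.p (st b) ≠ C.p c from fun e => h2 (C.inj e).symm)]

lemma long_fixes {a b : Bool × Fin m} {t : F} {u : GL ι F}
    (hu : (u : Matrix ι ι F) = uMat (longA C a b) 0 F t) {n : ℕ} (h1 : n ≤ (a.2 : ℕ))
    (h2 : n ≤ (b.2 : ℕ)) : Fixes C n u := fun c hc =>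
  long_fix hu (ne_of_snd fun e => by simp [e] at hc; omega)
    (ne_of_snd fun e => by simp [e] at hc; omega)

lemma short_fix {a c : Bool × Fin m} {z : ι} (hz : z ∈ C.Z) {t : F} {u : GL ι F}
    (hu : (u : Matrix ι ι F) = uMat (shortA C a z) (shortB C a) F t) (h1 : c ≠ st a) :
    (u : Matrix ι ι F) *ᵥ bv C F c = bv C F c := by
  rw [hu, short_act]
  simp [Pi.single_eq_of_ne (show C.p (st a) ≠ C.p c from fun e => h1 (C.inj e).symm),
    Pi.single_eq_of_ne (Z_ne C hz c).symm]

/-- Clearing all coordinates outside one pair. -/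
lemma clear (a : Bool × Fin m) {w : ι → F} (hw : w (C.p (st a)) ≠ 0)
    (hlow : ∀ c : Bool × Fin m, c.2 < a.2 → w (C.p c) = 0) :
    ∃ h ∈ EO C F, Fixes C (a.2 : ℕ) h ∧ (h : Matrix ι ι F) *ᵥ bv C F a = bv C F a ∧
      ((h : Matrix ι ι F) *ᵥ w) (C.p (st a)) = w (C.p (st a)) ∧
      ∀ k, k ≠ C.p a → k ≠ C.p (st a) → ((h : Matrix ι ι F) *ᵥ w) k = 0 := by
  suffices key : ∀ s : Finset ι, ∃ h ∈ EO C F, Fixes C (a.2 : ℕ) h ∧
      (h : Matrix ι ι F) *ᵥ bv C F a = bv C F a ∧
      ((h : Matrix ι ι F) *ᵥ w) (C.p (st a)) = w (C.p (st a)) ∧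
      (∀ c : Bool × Fin m, c.2 < a.2 → ((h : Matrix ι ι F) *ᵥ w) (C.p c) = 0) ∧
      ∀ k ∈ s, k ≠ C.p a → k ≠ C.p (st a) → ((h : Matrix ι ι F) *ᵥ w) k = 0 by
    obtain ⟨h, h1, h2, h3, h4, -, h6⟩ := key Finset.univ
    exact ⟨h, h1, h2, h3, h4, fun k => h6 k (Finset.mem_univ k)⟩
  intro s
  induction s using Finset.induction with
  | empty =>
    exact ⟨1, one_mem _, fixes_one _, by rw [Units.val_one, Matrix.one_mulVec], by simp, by simpa using hlow, by simp⟩
  | @insert k s _ ih =>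
    obtain ⟨h, hE, hF, ha, hst, hlo, hs⟩ := ih
    set y := (h : Matrix ι ι F) *ᵥ w with hy
    by_cases hk : k = C.p a ∨ k = C.p (st a) ∨ y k = 0
    · refine ⟨h, hE, hF, ha, hst, hlo, fun j hj hj1 hj2 => ?_⟩
      rcases Finset.mem_insert.1 hj with rfl | hj
      · rcases hk with e | e | e
        · exact absurd e hj1
        · exact absurd e hj2
        · exact e
      · exact hs j hj hj1 hj2
    push Not at hk
    obtain ⟨hk1, hk2, hk3⟩ := hk
    obtain ⟨u, huE, huF, hua, huk, huo⟩ : ∃ u ∈ EO C F, Fixes C (a.2 : ℕ) u ∧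
        (u : Matrix ι ι F) *ᵥ bv C F a = bv C F a ∧ ((u : Matrix ι ι F) *ᵥ y) k = 0 ∧
        ∀ j, j ≠ k → j ≠ C.p a → ((u : Matrix ι ι F) *ᵥ y) j = y j := by
      by_cases hZ : k ∈ C.Z
      · obtain ⟨u, hu, he⟩ := short_mem a hZ (-(y k / y (C.p (st a))))
        refine ⟨u, hu, fun c hc => short_fix hZ he (ne_of_snd fun e => ?_),
          short_fix hZ he (st_ne a).symm, ?_, ?_⟩
        · simp [e] at hc
        · rw [he, short_act]
          simp [Pi.single_eq_of_ne hk1, hst, neg_mul, div_mul_cancel₀ _ hw]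
        · intro j h1 h2
          rw [he, short_act]
          simp [Pi.single_eq_of_ne h1, Pi.single_eq_of_ne h2]
      · obtain ⟨b, rfl⟩ : ∃ b, C.p b = k := by
          by_contra hno
          exact hZ ((C.mem_Z k).2 fun b hb => hno ⟨b, hb⟩)
        have hne : a.2 ≠ b.2 := by
          intro e
          rcases a with ⟨α, i⟩; rcases b with ⟨β, j⟩
          obtain rfl : i = j := e
          cases α <;> cases β <;> simp_all [st]
        have hle : (a.2 : ℕ) ≤ b.2 := by
          by_contra hlt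
          exact hk3 (hlo b (by omega))
        obtain ⟨u, hu, he⟩ := long_mem (C := C) hne (-(y (C.p b) / y (C.p (st a))))
        refine ⟨u, hu, long_fixes he le_rfl hle,
          long_fix he (st_ne a).symm (ne_of_snd hne), ?_, ?_⟩
        · rw [he, long_act]
          simp [Pi.single_eq_of_ne hk1, hst, neg_mul, div_mul_cancel₀ _ hw]
        · intro j h1 h2
          rw [he, long_act]
          simp [Pi.single_eq_of_ne h1, Pi.single_eq_of_ne h2]
    have hsa : C.p (st a) ≠ C.p a := fun e => st_ne a (C.inj e)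
    refine ⟨u * h, mul_mem huE hE, fixes_mul huF hF, by rw [act_mul, ha, hua], ?_, ?_, ?_⟩
    · rw [act_mul, ← hy, huo _ hk2.symm hsa, hst]
    · intro c hc
      rw [act_mul, ← hy, huo, hlo c hc]
      · intro e
        exact hk3 (e ▸ hlo c hc)
      · exact fun e => absurd (congrArg Prod.snd (C.inj e)) (ne_of_lt hc)
    · intro j hj hj1 hj2
      rw [act_mul, ← hy]
      rcases Finset.mem_insert.1 hj with rfl | hj
      · exact huk
      · by_cases e : j = k
        · exact e ▸ huk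
        · rw [huo j e hj1]
          exact hs j hj hj1 hj2

lemma eq_of_supp {u : ι → F} (a : Bool × Fin m)
    (h : ∀ k, k ≠ C.p a → k ≠ C.p (st a) → u k = 0) :
    u = u (C.p a) • bv C F a + u (C.p (st a)) • bv C F (st a) := by
  have hsa : C.p (st a) ≠ C.p a := fun e => st_ne a (C.inj e)
  ext k
  by_cases h1 : k = C.p a
  · subst h1
    simp [Pi.single_eq_of_ne hsa.symm]
  by_cases h2 : k = C.p (st a)
  · subst h2
    simp [Pi.single_eq_of_ne hsa]
  simp [h k h1 h2, Pi.single_eq_of_ne h1, Pi.single_eq_of_ne h2]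

lemma qf_pair (a : Bool × Fin m) (c d : F) :
    qf C (c • bv C F a + d • bv C F (st a)) = c * d := by
  rw [qf_add, qf_single, qf_single, pol_smul, pol_single, st_st]
  simp [mul_comm]

/-- A singular vector with non-zero coordinate is moved onto its basis line. -/
lemma to_line (a : Bool × Fin m) {w : ι → F} (hw : w (C.p (st a)) ≠ 0) (hq : qf C w = 0)
    (hlow : ∀ c : Bool × Fin m, c.2 < a.2 → w (C.p c) = 0) :
    ∃ h ∈ EO C F, Fixes C (a.2 : ℕ) h ∧ (h : Matrix ι ι F) *ᵥ bv C F a = bv C F a ∧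
      (h : Matrix ι ι F) *ᵥ w = w (C.p (st a)) • bv C F (st a) := by
  obtain ⟨h, hE, hF, ha, hst, hs⟩ := clear a hw hlow
  refine ⟨h, hE, hF, ha, ?_⟩
  have he := eq_of_supp a hs
  have h0 := mem_OG.1 (EO_le hE) w
  rw [hq, he, qf_pair, hst] at h0
  rw [he, hst, (mul_eq_zero.1 h0).resolve_right hw, zero_smul, zero_add]

lemma exists_coord {w : ι → F} (hne : w ≠ 0) (hq : qf C w = 0) {i : Fin m}
    (hi : w (C.p (false, i)) = 0) : ∃ b : Bool × Fin m, b ≠ (false, i) ∧ w (C.p b) ≠ 0 := by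
  by_contra hno
  push Not at hno
  have hp : ∀ b, w (C.p b) = 0 := fun b => by
    by_cases e : b = (false, i)
    · exact e ▸ hi
    · exact hno b e
  refine hne (funext fun k => ?_)
  by_cases hk : k ∈ C.Z
  · rw [qf, Finset.sum_eq_zero (fun j _ => by rw [hp, zero_mul]), zero_add,
      Finset.sum_eq_single k (fun j hj hjk => absurd (C.card_Z j hj k hk) hjk)
        (fun h => absurd hk h)] at hq
    simpa using hq
  · obtain ⟨b, rfl⟩ : ∃ b, C.p b = k := by
      by_contra h
      exact hk ((C.mem_Z k).2 fun b hb => h ⟨b, hb⟩)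
    exact hp b

lemma low_vec (a : Bool × Fin m) {n : ℕ} (hn : n ≤ (a.2 : ℕ)) (c : Bool × Fin m)
    (hc : (c.2 : ℕ) < n) : bv C F a (C.p c) = 0 :=
  Pi.single_eq_of_ne (fun e => by
    have := congrArg Prod.snd (C.inj e)
    simp [this] at hc
    omega) 1

/-- A singular vector can be moved onto a basis vector. -/
lemma reach {n : ℕ} (hn : n + 1 < m) {w : ι → F} (hne : w ≠ 0) (hq : qf C w = 0)
    (hlow : ∀ c : Bool × Fin m, (c.2 : ℕ) < n → w (C.p c) = 0) :
    ∃ h ∈ EO C F, Fixes C n h ∧ (h : Matrix ι ι F) *ᵥ w = bv C F (false, ⟨n, by omega⟩) := by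
  set e : Bool × Fin m := (false, ⟨n, by omega⟩) with he
  set f : Bool × Fin m := (true, ⟨n, by omega⟩) with hf
  set e' : Bool × Fin m := (false, ⟨n + 1, hn⟩) with he'
  have hef : e.2 ≠ e'.2 := by simp [he, he']
  have hstf : st f = e := rfl
  have step : ∀ {w : ι → F}, qf C w = 0 →
      (∀ c : Bool × Fin m, (c.2 : ℕ) < n → w (C.p c) = 0) →
      ∀ u ∈ EO C F, Fixes C n u → qf C ((u : Matrix ι ι F) *ᵥ w) = 0 ∧
        ∀ c : Bool × Fin m, (c.2 : ℕ) < n → ((u : Matrix ι ι F) *ᵥ w) (C.p c) = 0 :=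
    fun hq hl u hu hF => ⟨(mem_OG.1 (EO_le hu) _).trans hq, low_zero (EO_le hu) hF hl⟩
  have h3 : ∀ {w : ι → F}, qf C w = 0 → (∀ c : Bool × Fin m, (c.2 : ℕ) < n → w (C.p c) = 0) →
      w (C.p e) ≠ 0 →
      ∃ h ∈ EO C F, Fixes C n h ∧ (h : Matrix ι ι F) *ᵥ w = bv C F e := by
    intro w hq hl hw
    obtain ⟨h, hE, hF, -, hw'⟩ := to_line f (w := w) (by rwa [hstf]) hq fun c hc => hl c hc
    rw [hstf] at hw'
    set c := w (C.p e) with hc
    obtain ⟨u1, hu1, e1⟩ := long_mem (C := C) (a := f) (b := e') (by simp [hf, he']) c⁻¹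
    obtain ⟨u2, hu2, e2⟩ := long_mem (C := C) (a := st e') (b := e) hef.symm (1 - c)
    obtain ⟨u3, hu3, e3⟩ := long_mem (C := C) (a := f) (b := e') (by simp [hf, he']) (-1 : F)
    refine ⟨u3 * (u2 * (u1 * h)), mul_mem hu3 (mul_mem hu2 (mul_mem hu1 hE)),
      fixes_mul (long_fixes e3 le_rfl (by simp [he'])) (fixes_mul
        (long_fixes e2 (by simp [he', st]) le_rfl) (fixes_mul
          (long_fixes e1 le_rfl (by simp [he'])) hF)), ?_⟩
    have n1 : C.p e ≠ C.p (st e') := fun h => hef (by simpa using congrArg Prod.snd (C.inj h))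
    have n2 : C.p e' ≠ C.p e := fun h => hef (congrArg Prod.snd (C.inj h)).symm
    have n3 : C.p (st e) ≠ C.p e := fun h => st_ne e (C.inj h)
    have n4 : C.p (st e) ≠ C.p e' := fun h => hef (by simpa using congrArg Prod.snd (C.inj h))
    have n5 : C.p (st e') ≠ C.p e' := fun h => st_ne e' (C.inj h)
    have n6 : C.p (st e') ≠ C.p e := n1.symm
    rw [act_mul, act_mul, act_mul, hw', e1, e2, e3, long_act, long_act, long_act]
    simp only [st_st, hstf, Pi.add_apply, Pi.smul_apply, Pi.single_eq_same, smul_eq_mul, mul_zero,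
      mul_one, Pi.single_eq_of_ne n2, Pi.single_eq_of_ne n3, Pi.single_eq_of_ne n4,
      Pi.single_eq_of_ne n5, Pi.single_eq_of_ne n6, Pi.single_eq_of_ne n2.symm,
      Pi.single_eq_of_ne (show C.p e ≠ C.p f from fun h => by simpa [he, hf] using C.inj h),
      add_zero, zero_add, neg_zero, zero_smul, inv_mul_cancel₀ hw, Pi.zero_apply]
    module
  have h2 : ∀ {w : ι → F}, qf C w = 0 → (∀ c : Bool × Fin m, (c.2 : ℕ) < n → w (C.p c) = 0) →
      ∀ b : Bool × Fin m, n < (b.2 : ℕ) → w (C.p b) ≠ 0 →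
      ∃ h ∈ EO C F, Fixes C n h ∧ (h : Matrix ι ι F) *ᵥ w = bv C F e := by
    intro w hq hl b hb hw
    by_cases hwe : w (C.p e) = 0
    · have hbe : (st b).2 ≠ e.2 := fun h => by
        have := congrArg Fin.val h
        simp [he] at this
        omega
      obtain ⟨u, hu, eu⟩ := long_mem (C := C) hbe (1 : F)
      have huF : Fixes C n u := long_fixes eu (by simp; omega) le_rfl
      obtain ⟨h, hE, hF, hh⟩ := h3 (step hq hl u hu huF).1 (step hq hl u hu huF).2 (by
        have n1 : C.p e ≠ C.p (st b) := fun h => hbe (congrArg Prod.snd (C.inj h)).symm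
        rw [eu, long_act, st_st]
        simp [hwe, Pi.single_eq_of_ne n1, hw])
      exact ⟨h * u, mul_mem hE hu, fixes_mul hF huF, by rw [act_mul, hh]⟩
    · exact h3 hq hl hwe
  by_cases hwe : w (C.p e) = 0
  · obtain ⟨b, hb, hwb⟩ := exists_coord hne hq hwe
    rcases Nat.lt_trichotomy (b.2 : ℕ) n with hlt | heq | hgt
    · exact absurd (hlow b hlt) hwb
    · have hbf : b = f := by
        rcases b with ⟨β, j, hj⟩
        obtain rfl : j = n := heq
        cases β
        · exact absurd rfl hb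
        · rfl
      subst hbf
      obtain ⟨u, hu, eu⟩ := long_mem (C := C) hef (1 : F)
      have huF : Fixes C n u := long_fixes eu le_rfl (by simp [he'])
      by_cases hw' : w (C.p e') = 0
      · obtain ⟨h, hE, hF, hh⟩ := h2 (step hq hlow u hu huF).1 (step hq hlow u hu huF).2 e'
          (by simp [he']) (by
            have n1 : C.p e' ≠ C.p e := fun h => hef (congrArg Prod.snd (C.inj h)).symm
            rw [eu, long_act]
            simp [hw', Pi.single_eq_of_ne n1, show st e = f from rfl, hwb])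
        exact ⟨h * u, mul_mem hE hu, fixes_mul hF huF, by rw [act_mul, hh]⟩
      · exact h2 hq hlow e' (by simp [he']) hw'
    · exact h2 hq hlow b hgt hwb
  · exact h3 hq hlow hwe

lemma act_ne_zero (g : GL ι F) {v : ι → F} (hv : v ≠ 0) : (g : Matrix ι ι F) *ᵥ v ≠ 0 := fun h => by
  refine hv ?_
  have := congrArg (fun y => ((g⁻¹ : GL ι F) : Matrix ι ι F) *ᵥ y) h
  simpa [← act_mul] using this

lemma bv_ne_zero (a : Bool × Fin m) : bv C F a ≠ 0 := fun h => by
  simpa using congrFun h (C.p a)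

/-- One more pair. -/
lemma fix_step {n : ℕ} (hn : n + 1 < m) {x : GL ι F} (hx : x ∈ OG C F) (hf : Fixes C n x) :
    ∃ h ∈ EO C F, Fixes C (n + 1) (h * x) := by
  set e : Bool × Fin m := (false, ⟨n, by omega⟩) with he
  have hq : qf C (bv C F e) = 0 := by simpa using qf_single C (1 : F) e
  obtain ⟨h1, h1E, h1F, h1e⟩ := reach hn (act_ne_zero x (bv_ne_zero e))
    ((mem_OG.1 hx _).trans hq) (low_zero hx hf fun c hc => low_vec e le_rfl c hc)
  have hx1 : h1 * x ∈ OG C F := mul_mem (EO_le h1E) hx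
  have hf1 := fixes_mul h1F hf
  have hxe : ((h1 * x : GL ι F) : Matrix ι ι F) *ᵥ bv C F e = bv C F e := by rw [act_mul, h1e]
  set y := ((h1 * x : GL ι F) : Matrix ι ι F) *ᵥ bv C F (st e) with hy
  have hyf : y (C.p (st e)) = 1 := by
    have := pol_act hx1 (bv C F (st e)) (bv C F e)
    rw [hxe, pol_single, pol_single] at this
    rw [← hy] at this
    rw [this]
    simp
  obtain ⟨h2, h2E, h2F, h2e, h2y⟩ := to_line e (w := y) (by rw [hyf]; exact one_ne_zero)
    ((mem_OG.1 hx1 _).trans (by simpa using qf_single C (1 : F) (st e)))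
    (fun c hc => low_zero hx1 hf1 (fun d hd => low_vec (st e) le_rfl d hd) c hc)
  refine ⟨h2 * h1, mul_mem h2E h1E, fun a ha => ?_⟩
  rw [mul_assoc, act_mul]
  rcases Nat.lt_succ_iff_lt_or_eq.1 ha with ha | ha
  · rw [hf1 a ha, h2F a ha]
  · rcases a with ⟨β, j, hj⟩
    obtain rfl : j = n := ha
    cases β
    · rw [hxe, h2e]
    · show (h2 : Matrix ι ι F) *ᵥ y = _
      rw [h2y, hyf, one_smul]
      rfl

lemma reduce (x : GL ι F) (hx : x ∈ OG C F) :
    ∀ n, n + 1 ≤ m → ∃ h ∈ EO C F, Fixes C n (h * x) := by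
  intro n
  induction n with
  | zero => exact fun _ => ⟨1, one_mem _, fun a ha => absurd ha (Nat.not_lt_zero _)⟩
  | succ n ih =>
    intro hn
    obtain ⟨h, hE, hF⟩ := ih (by omega)
    obtain ⟨h', hE', hF'⟩ := fix_step (by omega) (mul_mem (EO_le hE) hx) hF
    exact ⟨h' * h, mul_mem hE' hE, by rwa [mul_assoc]⟩

/-! ### The monomial elements of the last plane -/

/-- Diagonal entries of a monomial element. -/
def dfun (C : Coord ι m) (l : Fin m) (c μ : F) (k : ι) : F :=
  if k = C.p (false, l) then c else if k = C.p (true, l) then c⁻¹ else if k ∈ C.Z then μ else 1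

lemma dfun_p (l : Fin m) (c μ : F) (a : Bool × Fin m) :
    dfun C l c μ (C.p a) = if a.2 = l then (bif a.1 then c⁻¹ else c) else 1 := by
  obtain ⟨β, j⟩ := a
  by_cases h : j = l
  · subst h
    cases β <;> simp [dfun, C.inj.eq_iff, p_notMem]
  · simp [dfun, C.inj.eq_iff, p_notMem, h]

lemma dfun_Z (l : Fin m) (c μ : F) {z : ι} (hz : z ∈ C.Z) : dfun C l c μ z = μ := by
  simp [dfun, hz, (Z_ne C hz _).symm]

lemma dfun_pair {l : Fin m} {c : F} (hc : c ≠ 0) (μ : F) (a : Bool × Fin m) :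
    dfun C l c μ (C.p a) * dfun C l c μ (C.p (st a)) = 1 := by
  rw [dfun_p, dfun_p, st_snd]
  obtain ⟨β, j⟩ := a
  by_cases h : j = l
  · cases β <;> simp [h, st, hc]
  · simp [h]

/-- A diagonal element of the last plane. -/
def IsD (C : Coord ι m) (l : Fin m) (g : GL ι F) (c μ : F) : Prop :=
  c ≠ 0 ∧ μ ^ 2 = 1 ∧ (g : Matrix ι ι F) = Matrix.diagonal (dfun C l c μ)

lemma isD_act {l : Fin m} {g : GL ι F} {c μ : F} (hg : IsD C l g c μ) (v : ι → F) (k : ι) :
    ((g : Matrix ι ι F) *ᵥ v) k = dfun C l c μ k * v k := by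
  rw [hg.2.2, Matrix.mulVec_diagonal]

lemma isD_one (l : Fin m) : IsD C l (1 : GL ι F) 1 1 := by
  refine ⟨one_ne_zero, one_pow 2, ?_⟩
  rw [Units.val_one, ← Matrix.diagonal_one]
  congr 1
  funext k
  simp [dfun]

lemma isD_mul {l : Fin m} {g g' : GL ι F} {c μ c' μ' : F} (h : IsD C l g c μ)
    (h' : IsD C l g' c' μ') : IsD C l (g * g') (c * c') (μ * μ') := by
  refine ⟨mul_ne_zero h.1 h'.1, by rw [mul_pow, h.2.1, h'.2.1, one_mul], ?_⟩
  rw [Units.val_mul, h.2.2, h'.2.2, Matrix.diagonal_mul_diagonal]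
  congr 1
  funext k
  simp only [dfun]
  split_ifs <;> simp [mul_inv, mul_comm]

lemma isD_inv {l : Fin m} {g : GL ι F} {c μ : F} (h : IsD C l g c μ) :
    IsD C l g⁻¹ c⁻¹ μ := by
  refine ⟨inv_ne_zero h.1, h.2.1, ?_⟩
  refine (Units.inv_eq_of_mul_eq_one_right ?_)
  rw [h.2.2, Matrix.diagonal_mul_diagonal, ← Matrix.diagonal_one]
  congr 1
  funext k
  simp only [dfun]
  split_ifs <;> simp [h.1, ← pow_two, h.2.1]

lemma isD_unique {l : Fin m} {g g' : GL ι F} {c μ : F} (h : IsD C l g c μ)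
    (h' : IsD C l g' c μ) : g = g' := Units.ext (h.2.2.trans h'.2.2.symm)

lemma isD_comm {l : Fin m} {g g' : GL ι F} {c μ c' μ' : F} (h : IsD C l g c μ)
    (h' : IsD C l g' c' μ') : g * g' = g' * g :=
  isD_unique (isD_mul h h') (by rw [mul_comm c, mul_comm μ]; exact isD_mul h' h)

/-- The exchanged coordinate. -/
def rho (l : Fin m) (a : Bool × Fin m) : Bool × Fin m := if a.2 = l then st a else a

/-- The exchange of the last hyperbolic pair. -/
def sperm (C : Coord ι m) (l : Fin m) : Equiv.Perm ι :=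
  Equiv.swap (C.p (false, l)) (C.p (true, l))

lemma sperm_p (l : Fin m) (a : Bool × Fin m) : sperm C l (C.p a) = C.p (rho l a) := by
  obtain ⟨β, j⟩ := a
  by_cases h : j = l
  · subst h
    cases β <;> simp [sperm, rho, st]
  · rw [sperm, Equiv.swap_apply_of_ne_of_ne (fun e => by simpa [h] using C.inj e)
      (fun e => by simpa [h] using C.inj e), rho, if_neg h]

lemma sperm_Z (l : Fin m) {z : ι} (hz : z ∈ C.Z) : sperm C l z = z :=
  Equiv.swap_apply_of_ne_of_ne (Z_ne C hz _).symm (Z_ne C hz _).symm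

lemma sperm_sperm (l : Fin m) (k : ι) : sperm C l (sperm C l k) = k :=
  Equiv.swap_apply_self _ _ _

lemma rho_snd (l : Fin m) (a : Bool × Fin m) : (rho l a).2 = a.2 := by
  rw [rho]; split_ifs <;> simp

lemma rho_st (l : Fin m) (a : Bool × Fin m) : rho l (st a) = st (rho l a) := by
  by_cases h : a.2 = l <;> simp [rho, h]

lemma rho_rho (l : Fin m) (a : Bool × Fin m) : rho l (rho l a) = a := by
  by_cases h : a.2 = l <;> simp [rho, h]

lemma swapMat_act (σ : Equiv.Perm ι) (v : ι → F) :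
    (1 : Matrix ι ι F).submatrix σ id *ᵥ v = fun k => v (σ k) := by
  funext k
  simp [Matrix.mulVec, dotProduct, Matrix.one_apply]

lemma exists_swap (C : Coord ι m) (l : Fin m) (F : Type*) [Field F] :
    ∃ s : GL ι F, (∀ v k, ((s : Matrix ι ι F) *ᵥ v) k = v (sperm C l k)) ∧ s * s = 1 := by
  set M := (1 : Matrix ι ι F).submatrix (sperm C l) id with hM
  have hMM : M * M = 1 := mat_ext fun v => by
    rw [← Matrix.mulVec_mulVec, swapMat_act, swapMat_act, Matrix.one_mulVec]
    funext k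
    simp [sperm_sperm]
  exact ⟨⟨M, M, hMM, hMM⟩, fun v k => congrFun (swapMat_act _ v) k, Units.ext hMM⟩

lemma swap_mem_OG {l : Fin m} {s : GL ι F}
    (hs : ∀ v k, ((s : Matrix ι ι F) *ᵥ v) k = v (sperm C l k)) : s ∈ OG C F := by
  refine mem_OG.2 fun v => ?_
  simp only [qf, hs]
  congr 1
  · refine Finset.sum_congr rfl fun i _ => ?_
    rw [sperm_p, sperm_p]
    by_cases h : i = l
    · simp [rho, h, st, mul_comm]
    · simp [rho, h]
  · exact Finset.sum_congr rfl fun k hk => by rw [sperm_Z l hk]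

lemma conj_EO {g : GL ι F}
    (h : ∀ u : GL ι F, IsElem C (u : Matrix ι ι F) → g * u * g⁻¹ ∈ EO C F)
    {x : GL ι F} (hx : x ∈ EO C F) : g * x * g⁻¹ ∈ EO C F := by
  refine Subgroup.closure_induction (p := fun y _ => g * y * g⁻¹ ∈ EO C F) h (by simp)
    (fun y z _ _ hy hz => ?_) (fun y _ hy => ?_) hx
  · rw [show g * (y * z) * g⁻¹ = g * y * g⁻¹ * (g * z * g⁻¹) by group]
    exact mul_mem hy hz
  · rw [show g * y⁻¹ * g⁻¹ = (g * y * g⁻¹)⁻¹ by group]
    exact inv_mem hy

lemma conj_of_eq {g u u' : GL ι F}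
    (h : ∀ v, (g : Matrix ι ι F) *ᵥ ((u : Matrix ι ι F) *ᵥ v) =
      (u' : Matrix ι ι F) *ᵥ ((g : Matrix ι ι F) *ᵥ v)) : g * u * g⁻¹ = u' := by
  rw [mul_inv_eq_iff_eq_mul]
  exact Units.ext (mat_ext fun v => by rw [act_mul, act_mul]; exact h v)

theorem swap_conj {l : Fin m} {s : GL ι F}
    (hs : ∀ v k, ((s : Matrix ι ι F) *ᵥ v) k = v (sperm C l k)) {x : GL ι F} (hx : x ∈ EO C F) :
    s * x * s⁻¹ ∈ EO C F := by
  refine conj_EO (fun u hu => ?_) hx
  have key : ∀ (j : ι) (k : ι), (Pi.single j 1 : ι → F) (sperm C l k) =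
      (Pi.single (sperm C l j) 1 : ι → F) k := fun j k => by
    simp only [Pi.single_apply]
    refine if_congr ⟨fun h => by rw [← h, sperm_sperm], fun h => by rw [h, sperm_sperm]⟩ rfl rfl
  rcases hu with ⟨a, b, hab, t, hM⟩ | ⟨a, z, hz, t, hM⟩
  · obtain ⟨u', hu', he⟩ := long_mem (C := C) (a := rho l a) (b := rho l b)
      (by rwa [rho_snd, rho_snd]) t
    rw [conj_of_eq (u' := u') fun v => ?_]
    · exact hu'
    funext k
    rw [hs, hM, he, long_act, long_act]
    simp only [Pi.add_apply, Pi.smul_apply, hs, key, sperm_p, ← rho_st, smul_eq_mul]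
    simp [rho_rho]
  · obtain ⟨u', hu', he⟩ := short_mem (C := C) (rho l a) hz t
    rw [conj_of_eq (u' := u') fun v => ?_]
    · exact hu'
    funext k
    rw [hs, hM, he, short_act, short_act]
    simp only [Pi.add_apply, Pi.smul_apply, hs, key, sperm_p, ← rho_st, smul_eq_mul, sperm_Z l hz]
    simp [rho_rho]

theorem diag_conj {l : Fin m} {g : GL ι F} {c μ : F} (hg : IsD C l g c μ) {x : GL ι F}
    (hx : x ∈ EO C F) : g * x * g⁻¹ ∈ EO C F := by
  refine conj_EO (fun u hu => ?_) hx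
  have hd := dfun_pair (C := C) (l := l) hg.1 μ
  rcases hu with ⟨a, b, hab, t, hM⟩ | ⟨a, z, hz, t, hM⟩
  · obtain ⟨u', hu', he⟩ := long_mem (C := C) hab
      (t * dfun C l c μ (C.p a) * dfun C l c μ (C.p b))
    rw [conj_of_eq (u' := u') fun v => ?_]
    · exact hu'
    funext k
    rw [isD_act hg, hM, he, long_act, long_act]
    simp only [Pi.add_apply, Pi.smul_apply, Pi.single_apply, isD_act hg, smul_eq_mul]
    have ha := hd a
    have hb := hd b
    split_ifs with h1 h2 h2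
    · exact absurd (C.inj (h1.symm.trans h2)) (ne_of_snd hab).symm
    · subst h1
      linear_combination -(t * v (C.p (st a)) * dfun C l c μ (C.p b)) * ha
    · subst h2
      linear_combination (t * v (C.p (st b)) * dfun C l c μ (C.p a)) * hb
    · ring
  · obtain ⟨u', hu', he⟩ := short_mem (C := C) a hz (t * μ * dfun C l c μ (C.p a))
    rw [conj_of_eq (u' := u') fun v => ?_]
    · exact hu'
    funext k
    rw [isD_act hg, hM, he, short_act, short_act]
    simp only [Pi.add_apply, Pi.smul_apply, Pi.single_apply, isD_act hg, smul_eq_mul,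
      dfun_Z l c μ hz]
    have ha := hd a
    have hμ := hg.2.1
    split_ifs with h1 h2 h2
    · exact absurd (h2.symm.trans h1) (Z_ne C hz a)
    · subst h1
      rw [dfun_Z l c μ hz]
      linear_combination -(t * μ * v (C.p (st a))) * ha
    · subst h2
      linear_combination (2 * t * dfun C l c μ (C.p a) * v z +
        t ^ 2 * dfun C l c μ (C.p a) * v (C.p (st a))) * hμ +
        (t ^ 2 * μ ^ 2 * dfun C l c μ (C.p a) * v (C.p (st a))) * ha
    · ring

/-! ### The torus -/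

lemma hyp_torus {a b : Bool × Fin m} (hab : a.2 ≠ b.2) {t : F} (ht : t ≠ 0) :
    ∃ u ∈ EO C F, ∀ (v : ι → F) (k : ι), ((u : Matrix ι ι F) *ᵥ v) k =
      (if k = C.p a ∨ k = C.p b then t
        else if k = C.p (st a) ∨ k = C.p (st b) then t⁻¹ else 1) * v k := by
  obtain ⟨x1, m1, e1⟩ := long_mem (C := C) hab t
  obtain ⟨x2, m2, e2⟩ := long_mem (C := C) (a := st b) (b := st a) hab.symm (-t⁻¹)
  obtain ⟨x3, m3, e3⟩ := long_mem (C := C) hab (-1 : F)
  obtain ⟨x4, m4, e4⟩ := long_mem (C := C) (a := st b) (b := st a) hab.symm (1 : F)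
  have hq1 : C.p a ≠ C.p b := fun h => hab (congrArg Prod.snd (C.inj h))
  have hq2 : C.p (st a) ≠ C.p a := fun h => st_ne a (C.inj h)
  have hq3 : C.p (st b) ≠ C.p b := fun h => st_ne b (C.inj h)
  have hq4 : C.p (st a) ≠ C.p b := fun h => hab (by simpa using congrArg Prod.snd (C.inj h))
  have hq5 : C.p (st b) ≠ C.p a := fun h => hab.symm (by simpa using congrArg Prod.snd (C.inj h))
  have hq6 : C.p (st a) ≠ C.p (st b) := fun h => hab (by simpa using congrArg Prod.snd (C.inj h))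
  refine ⟨(x1 * x2 * x1) * (x3 * x4 * x3),
    mul_mem (mul_mem (mul_mem m1 m2) m1) (mul_mem (mul_mem m3 m4) m3), fun v k => ?_⟩
  simp only [act_mul, e1, e2, e3, e4, long_act, st_st, Pi.add_apply, Pi.smul_apply, smul_eq_mul,
    Pi.single_apply, hq1, hq1.symm, hq2, hq2.symm, hq3, hq3.symm, hq4, hq4.symm, hq5, hq5.symm,
    hq6, hq6.symm, if_false, if_true]
  by_cases ka : k = C.p a
  · subst ka
    simp [hq1, hq2.symm, hq5.symm]
    field_simp
    ring
  by_cases kb : k = C.p b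
  · subst kb
    simp [ka, hq4.symm, hq3.symm]
    field_simp
    ring
  by_cases ka' : k = C.p (st a)
  · subst ka'
    simp [ka, kb, hq6]
    field_simp
    ring
  by_cases kb' : k = C.p (st b)
  · subst kb'
    simp [ka, kb, ka']
    field_simp
    ring
  simp [ka, kb, ka', kb']

theorem isD_sq_mem {l k₀ : Fin m} (hk : k₀ ≠ l) {g : GL ι F} {c : F} (hc : c ≠ 0)
    (hg : IsD C l g (c ^ 2) 1) : g ∈ EO C F := by
  obtain ⟨u, hu, he⟩ := hyp_torus (C := C) (a := (false, l)) (b := (false, k₀)) hk.symm hc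
  obtain ⟨u', hu', he'⟩ := hyp_torus (C := C) (a := (false, l)) (b := (true, k₀)) hk.symm hc
  have : g = u * u' := Units.ext (mat_ext fun v => by
    funext k
    rw [isD_act hg, act_mul, he, he']
    simp only [dfun, st, Bool.not_false, Bool.not_true]
    have h1 : C.p (false, l) ≠ C.p (true, l) := fun h => by simpa using C.inj h
    have h2 : ∀ β β', C.p (β, l) ≠ C.p (β', k₀) := fun β β' h => hk
      (congrArg Prod.snd (C.inj h)).symm
    have h3 : C.p (false, k₀) ≠ C.p (true, k₀) := fun h => by simpa using C.inj h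
    by_cases k1 : k = C.p (false, l)
    · subst k1
      simp [sq, mul_assoc]
    by_cases k2 : k = C.p (true, l)
    · subst k2
      simp [h1.symm, h2, sq, mul_inv, mul_assoc]
    by_cases k3 : k = C.p (false, k₀)
    · subst k3
      simp [(h2 _ _).symm, h3, h3.symm, p_notMem, hc]
    by_cases k4 : k = C.p (true, k₀)
    · subst k4
      simp [(h2 _ _).symm, h3, h3.symm, p_notMem, hc]
    simp [k1, k2, k3, k4])
  rw [this]
  exact mul_mem hu hu'

/-! ### The last step and the commutator subgroup -/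

lemma last_step {l : Fin m} (hl : (l : ℕ) + 1 = m) {x : GL ι F} (hx : x ∈ OG C F)
    (hf : Fixes C (l : ℕ) x)
    (hxe : ((x : Matrix ι ι F) *ᵥ bv C F (false, l)) (C.p (false, l)) ≠ 0) :
    ∃ h ∈ EO C F, ∃ c μ, IsD C l (h * x) c μ := by
  set e : Bool × Fin m := (false, l) with he
  set f : Bool × Fin m := (true, l) with hf'
  set w := (x : Matrix ι ι F) *ᵥ bv C F e with hw
  have hq : ∀ a, qf C (bv C F a) = 0 := fun a => by simpa using qf_single C (1 : F) a
  have hlow : ∀ a : Bool × Fin m, a.2 = l → ∀ c : Bool × Fin m, (c.2 : ℕ) < l →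
      bv C F a (C.p c) = 0 := fun a ha => low_vec a (by rw [ha])
  obtain ⟨h1, h1E, h1F, -, h1w⟩ := to_line f (w := w) hxe ((mem_OG.1 hx _).trans (hq e))
    (fun d hd => low_zero hx hf (hlow e rfl) d hd)
  set c := w (C.p (st f)) with hc
  have hxc : ((h1 * x : GL ι F) : Matrix ι ι F) *ᵥ bv C F e = c • bv C F e := by
    rw [act_mul, h1w]; rfl
  have hx1 : h1 * x ∈ OG C F := mul_mem (EO_le h1E) hx
  have hf1 : Fixes C (l : ℕ) (h1 * x) := fixes_mul h1F hf
  set y := ((h1 * x : GL ι F) : Matrix ι ι F) *ᵥ bv C F f with hy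
  have hyf : c * y (C.p f) = 1 := by
    have := pol_act hx1 (bv C F f) (bv C F e)
    rw [hxc, pol_smul, pol_single, pol_single, ← hy] at this
    simpa [he, hf', st] using this
  obtain ⟨h2, h2E, h2F, h2e, h2y⟩ := to_line e (w := y)
    (show y (C.p f) ≠ 0 from right_ne_zero_of_mul_eq_one hyf) ((mem_OG.1 hx1 _).trans (hq f))
    (fun d hd => low_zero hx1 hf1 (hlow f rfl) d hd)
  set g := h2 * (h1 * x) with hg
  have hgO : g ∈ OG C F := mul_mem (EO_le h2E) hx1
  have hgF : Fixes C (l : ℕ) g := fixes_mul h2F hf1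
  have hge : (g : Matrix ι ι F) *ᵥ bv C F e = c • bv C F e := by
    rw [act_mul, hxc, Matrix.mulVec_smul, h2e]
  have hgf : (g : Matrix ι ι F) *ᵥ bv C F f = c⁻¹ • bv C F f := by
    rw [act_mul, ← hy, h2y]
    show y (C.p f) • bv C F f = _
    rw [eq_inv_of_mul_eq_one_right hyf]
  have hc0 : c ≠ 0 := hxe
  have hZ : ∀ z ∈ C.Z, ∃ μ : F, μ ^ 2 = 1 ∧
      (g : Matrix ι ι F) *ᵥ Pi.single z 1 = μ • (Pi.single z 1 : ι → F) := by
    intro z hz
    set u := (g : Matrix ι ι F) *ᵥ Pi.single z 1 with hu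
    have hp : ∀ a, u (C.p a) = 0 := by
      intro a
      by_cases ha : (a.2 : ℕ) < l
      · exact low_zero hgO hgF (fun c _ => Pi.single_eq_of_ne (Z_ne C hz c) 1) a ha
      · obtain ⟨β, j⟩ := a
        obtain rfl : j = l := Fin.ext (by have := j.2; simp at ha; omega)
        cases β
        · have := pol_act hgO (Pi.single z 1) (bv C F f)
          rw [hgf, pol_smul, pol_single, pol_single, ← hu,
            Pi.single_eq_of_ne (Z_ne C hz _)] at this
          simpa [hf', st, hc0] using this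
        · have := pol_act hgO (Pi.single z 1) (bv C F e)
          rw [hge, pol_smul, pol_single, pol_single, ← hu,
            Pi.single_eq_of_ne (Z_ne C hz _)] at this
          simpa [he, st, hc0] using this
    have hu' : u = u z • (Pi.single z 1 : ι → F) := by
      funext k
      by_cases hk : k ∈ C.Z
      · rw [C.card_Z k hk z hz]
        simp
      · obtain ⟨a, rfl⟩ : ∃ a, C.p a = k := by
          by_contra h
          exact hk ((C.mem_Z k).2 fun a ha => h ⟨a, ha⟩)
        simp [hp, Pi.single_eq_of_ne (Z_ne C hz a)]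
    refine ⟨u z, ?_, hu'⟩
    have h := mem_OG.1 hgO (Pi.single z 1)
    rw [← hu, hu', qf_single_Z C _ hz] at h
    exact h.trans (by simpa using qf_single_Z C (1 : F) hz)
  obtain ⟨μ, hμ, hμZ⟩ : ∃ μ : F, μ ^ 2 = 1 ∧ ∀ z ∈ C.Z,
      (g : Matrix ι ι F) *ᵥ Pi.single z 1 = μ • (Pi.single z 1 : ι → F) := by
    by_cases h : ∃ z, z ∈ C.Z
    · obtain ⟨z, hz⟩ := h
      obtain ⟨μ, h1, h2⟩ := hZ z hz
      exact ⟨μ, h1, fun z' hz' => C.card_Z z hz z' hz' ▸ h2⟩
    · exact ⟨1, one_pow 2, fun z hz => absurd ⟨z, hz⟩ h⟩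
  refine ⟨h2 * h1, mul_mem h2E h1E, c, μ, hc0, hμ, ?_⟩
  rw [mul_assoc, ← hg]
  refine Matrix.ext_of_mulVec_single fun k => ?_
  rw [Matrix.diagonal_mulVec_single, mul_one]
  by_cases hk : k ∈ C.Z
  · rw [hμZ k hk, dfun_Z l c μ hk]
    simp [← Pi.single_smul]
  · obtain ⟨a, rfl⟩ : ∃ a, C.p a = k := by
      by_contra h
      exact hk ((C.mem_Z k).2 fun a ha => h ⟨a, ha⟩)
    rw [dfun_p]
    by_cases ha : (a.2 : ℕ) < l
    · rw [if_neg (fun h => by simp [h] at ha)]
      exact hgF a ha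
    · obtain ⟨β, j⟩ := a
      obtain rfl : j = l := Fin.ext (by have := j.2; simp at ha; omega)
      cases β
      · exact hge.trans (by simp [he, ← Pi.single_smul])
      · exact hgf.trans (by simp [hf', ← Pi.single_smul])

/-- Every isometry is an elementary one times a monomial one. -/
lemma decompose {l : Fin m} (hl : (l : ℕ) + 1 = m) {s : GL ι F}
    (hs : ∀ v k, ((s : Matrix ι ι F) *ᵥ v) k = v (sperm C l k)) (hss : s * s = 1)
    {x : GL ι F} (hx : x ∈ OG C F) :
    ∃ h ∈ EO C F, ∃ d c μ, IsD C l d c μ ∧ (x = h * d ∨ x = h * (s * d)) := by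
  obtain ⟨h0, h0E, h0F⟩ := reduce x hx l (by omega)
  set y := h0 * x with hy
  have hyO : y ∈ OG C F := mul_mem (EO_le h0E) hx
  by_cases hye : ((y : Matrix ι ι F) *ᵥ bv C F (false, l)) (C.p (false, l)) = 0
  · have hfix : Fixes C (l : ℕ) s := by
      intro a ha
      funext k
      have hr : sperm C l (C.p a) = C.p a := by
        rw [sperm_p, rho, if_neg (fun e => by simp [e] at ha)]
      rw [hs]
      simp only [bv, Pi.single_apply]
      exact if_congr ⟨fun e => by rw [← hr, ← e, sperm_sperm], fun e => by rw [e, hr]⟩ rfl rfl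
    have hne : (((s * y : GL ι F) : Matrix ι ι F) *ᵥ bv C F (false, l)) (C.p (false, l)) ≠ 0 := by
      rw [act_mul, hs, sperm_p, rho, if_pos rfl]
      obtain ⟨b, hb, hwb⟩ := exists_coord (act_ne_zero y (bv_ne_zero (C := C) (false, l)))
        ((mem_OG.1 hyO _).trans (by simpa using qf_single C (1 : F) (false, l))) hye
      rcases b with ⟨β, j⟩
      by_cases hj : (j : ℕ) < l
      · exact absurd (low_zero hyO h0F (fun d hd => low_vec _ le_rfl d hd) (β, j) hj) hwb
      · obtain rfl : j = l := Fin.ext (by have := j.2; omega)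
        cases β
        · exact absurd rfl hb
        · exact hwb
    obtain ⟨h, hE, c, μ, hd⟩ := last_step hl (mul_mem (swap_mem_OG hs) hyO)
      (fixes_mul hfix h0F) hne
    have hs' : s⁻¹ = s := inv_eq_of_mul_eq_one_right hss
    refine ⟨h0⁻¹ * (s * h⁻¹ * s⁻¹), mul_mem (inv_mem h0E) (swap_conj hs (inv_mem hE)),
      _, c, μ, hd, Or.inr ?_⟩
    rw [hs', hy]
    simp only [mul_assoc]
    rw [← mul_assoc s s, hss, one_mul, inv_mul_cancel_left, ← mul_assoc s s, hss, one_mul,
      inv_mul_cancel_left]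
  · obtain ⟨h, hE, c, μ, hd⟩ := last_step hl hyO h0F hye
    exact ⟨h0⁻¹ * h⁻¹, mul_mem (inv_mem h0E) (inv_mem hE), _, c, μ, hd, Or.inl (by
      rw [hy]; group)⟩

/-- The commutator subgroup of the isometry group lies in the elementary subgroup. -/
theorem commutator_le {l k₀ : Fin m} (hl : (l : ℕ) + 1 = m) (hk : k₀ ≠ l) :
    ⁅OG C F, OG C F⁆ ≤ EO C F := by
  obtain ⟨s, hs, hss⟩ := exists_swap C l F
  have hs' : s⁻¹ = s := inv_eq_of_mul_eq_one_right hss
  have hsd : ∀ {d : GL ι F} {c μ : F}, IsD C l d c μ → IsD C l (s * d * s) c⁻¹ μ := by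
    intro d c μ hd
    refine ⟨inv_ne_zero hd.1, hd.2.1, mat_ext fun v => funext fun k => ?_⟩
    rw [act_mul, act_mul, hs, isD_act hd, hs, sperm_sperm, Matrix.mulVec_diagonal]
    congr 1
    simp only [dfun, inv_inv, sperm]
    rcases eq_or_ne k (C.p (false, l)) with rfl | h1
    · simp [C.inj.eq_iff]
    rcases eq_or_ne k (C.p (true, l)) with rfl | h2
    · simp [C.inj.eq_iff]
    simp [h1, h2, Equiv.swap_apply_of_ne_of_ne h1 h2]
  have sq : ∀ {g : GL ι F} {c μ : F}, IsD C l g c μ → g * g ∈ EO C F := fun {g c μ} hg =>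
    isD_sq_mem hk hg.1 (by rw [pow_two, ← hg.2.1, pow_two]; exact isD_mul hg hg)
  have hτ : ∀ {τ : GL ι F}, (∃ d c μ, IsD C l d c μ ∧ (τ = d ∨ τ = s * d)) →
      ∀ x ∈ EO C F, τ * x * τ⁻¹ ∈ EO C F := by
    rintro τ ⟨d, c, μ, hd, rfl | rfl⟩ x hx
    · exact diag_conj hd hx
    · rw [show s * d * x * (s * d)⁻¹ = s * (d * x * d⁻¹) * s⁻¹ by group]
      exact swap_conj hs (diag_conj hd hx)
  have hmon : ∀ {τ τ' : GL ι F}, (∃ d c μ, IsD C l d c μ ∧ (τ = d ∨ τ = s * d)) →
      (∃ d c μ, IsD C l d c μ ∧ (τ' = d ∨ τ' = s * d)) → ⁅τ, τ'⁆ ∈ EO C F := by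
    have hd1 : ∀ {d d' : GL ι F} {c μ c' μ' : F}, IsD C l d c μ → IsD C l d' c' μ' →
        ⁅s * d, d'⁆ ∈ EO C F := by
      intro d d' c μ c' μ' hd hd'
      have e : s * d' * s = s * d' * s := rfl
      have h1 := hsd hd'
      have h2 := isD_inv hd'
      have e1 : ⁅s * d, d'⁆ = s * d' * s * d'⁻¹ := by
        rw [commutatorElement_def, mul_inv_rev, hs', mul_assoc s d d', isD_comm hd hd']
        group
      have e2 : s * d' * s = d'⁻¹ * ((s * d' * s) * d') := by
        rw [← mul_assoc, ← isD_comm h1 h2]; group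
      have h3 : IsD C l ((s * d' * s) * d') 1 1 := by
        have := isD_mul h1 hd'
        rwa [inv_mul_cancel₀ hd'.1, ← pow_two, hd'.2.1] at this
      rw [e1, e2, isD_unique h3 (isD_one l), mul_one]
      exact sq h2
    rintro τ τ' ⟨d, c, μ, hd, rfl | rfl⟩ ⟨d', c', μ', hd', rfl | rfl⟩
    · rw [commutatorElement_def, isD_comm hd hd']
      simp
    · rw [← commutatorElement_inv]
      exact inv_mem (hd1 hd' hd)
    · exact hd1 hd hd'
    · have h1 := hsd hd
      have e1 : ⁅s * d, s * d'⁆ = s * d * s * (d' * d⁻¹) * (s * d'⁻¹ * s) := by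
        rw [commutatorElement_def, mul_inv_rev, mul_inv_rev, hs']; group
      have h2 := hsd (isD_inv hd')
      rw [inv_inv] at h2
      have h3 : IsD C l (s * d * s * (s * d'⁻¹ * s)) (c⁻¹ * c') (μ * μ') := isD_mul h1 h2
      have h4 := isD_mul hd' (isD_inv hd)
      have e2 : s * d * s * (d' * d⁻¹) * (s * d'⁻¹ * s) =
          (d' * d⁻¹) * (s * d * s * (s * d'⁻¹ * s)) := by
        rw [isD_comm h1 h4, mul_assoc]
      have e3 : d' * d⁻¹ = s * d * s * (s * d'⁻¹ * s) :=
        isD_unique (by rw [mul_comm c⁻¹, mul_comm μ]; exact h4) h3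
      rw [e1, e2, ← e3]
      exact sq h4
  rw [Subgroup.commutator_le]
  intro x hx y hy
  obtain ⟨h, hE, d, c, μ, hd, he⟩ := decompose hl hs hss hx
  obtain ⟨h', hE', d', c', μ', hd', he'⟩ := decompose hl hs hss hy
  obtain ⟨τ, hτ1, rfl⟩ : ∃ τ, (∃ d c μ, IsD C l d c μ ∧ (τ = d ∨ τ = s * d)) ∧ x = h * τ := by
    rcases he with he | he
    · exact ⟨d, ⟨d, c, μ, hd, Or.inl rfl⟩, he⟩
    · exact ⟨s * d, ⟨d, c, μ, hd, Or.inr rfl⟩, he⟩
  obtain ⟨τ', hτ2, rfl⟩ : ∃ τ, (∃ d c μ, IsD C l d c μ ∧ (τ = d ∨ τ = s * d)) ∧ y = h' * τ := by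
    rcases he' with he' | he'
    · exact ⟨d', ⟨d', c', μ', hd', Or.inl rfl⟩, he'⟩
    · exact ⟨s * d', ⟨d', c', μ', hd', Or.inr rfl⟩, he'⟩
  rw [show ⁅h * τ, h' * τ'⁆ =
      h * (τ * h' * τ⁻¹) * ⁅τ, τ'⁆ * (τ' * h⁻¹ * τ'⁻¹) * h'⁻¹ by
    simp only [commutatorElement_def]; group]
  exact mul_mem (mul_mem (mul_mem (mul_mem hE (hτ hτ1 _ hE')) (hmon hτ1 hτ2))
    (hτ hτ2 _ (inv_mem hE))) (inv_mem hE')

end CfsgLib.Chev.OE
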