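import Mathlib
import Cfsg.Agent.Lib.Chev.OrthElem
import Cfsg.Agent.Lib.Chev.RootMat
import Cfsg.Agent.Lib.Chev.SimpleTables

/-!
The natural representation of a Chevalley group of orthogonal type, from kernel-checked tables.
-/

set_option autoImplicit false

open scoped commutatorElement Matrix

namespace CfsgLib.Chev.OE

open Cfsg.Lie

variable {ι : Type} [Fintype ι] [DecidableEq ι]

/-- All rows of the first `n` columns are below `n`. -/
noncomputable def okM (n : ℕ) (A : ℕ → SVec) : Bool :=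
  allR (fun j => allR (fun p => Nat.blt p.1 n) (A j)) (upto n)

/-- Equality of the first `n` columns. -/
noncomputable def eqM (n : ℕ) (A B : ℕ → SVec) : Bool :=
  allR (fun j => vEq (A j) (B j)) (upto n)

/-- The product of the matrices of a word. -/
noncomputable def prodW (Lt : ℕ → ℕ → SVec) (w : List ℕ) : ℕ → SVec :=
  List.rec (fun j => [(j, (1 : ℤ))]) (fun a _ ih => fun j => sapp (Lt a) (ih j)) w

/-- All suffix products stay in range. -/
noncomputable def okW (n : ℕ) (Lt : ℕ → ℕ → SVec) (w : List ℕ) : Bool :=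
  List.rec (okM n (prodW Lt [])) (fun a v ih => ih && okM n (prodW Lt (a :: v))) w

/-- An indexing of the coordinates by `0, …, n - 1`. -/
structure Num (ι : Type) (n : ℕ) where
  e : ι → ℕ
  inj : Function.Injective e
  lt : ∀ i, e i < n
  surj : ∀ j < n, ∃ i, e i = j

variable {n : ℕ} (N : Num ι n) {F : Type*} [Field F]

/-- A sparse integer matrix over a field. -/
noncomputable def sm (A : ℕ → SVec) (F : Type*) [Field F] : Matrix ι ι F :=
  (smat N.e A).map (Int.cast : ℤ → F)

variable {N}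

lemma sm_mul {A B : ℕ → SVec} (hB : okM n B = true) :
    sm N A F * sm N B F = sm N (fun j => sapp A (B j)) F := by
  have h : smat N.e A * smat N.e B = smat N.e fun j => sapp A (B j) := by
    ext i j
    rw [smat_mul_apply N.e N.inj A B i j fun p hp => ?_]
    · rfl
    exact N.surj _ (by simpa [Nat.blt, Nat.ble_eq] using allR_true (allR_upto hB (N.lt j)) hp)
  rw [sm, sm, sm, ← h]
  exact (Matrix.map_mul (f := Int.castRingHom F)).symm

lemma sm_add (A B : ℕ → SVec) : sm N (fun j => appR (A j) (B j)) F = sm N A F + sm N B F := by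
  ext i j
  simp [sm, smat, appR_eq, coef_append]

lemma sm_neg (A : ℕ → SVec) : sm N (fun j => vsmul (-1) (A j)) F = -sm N A F := by
  ext i j
  simp [sm, smat, coef_vsmul]

lemma sm_nil : sm N (fun _ => []) F = 0 := by
  ext i j
  simp [sm, smat, coef_nil]

lemma sm_eq {A B : ℕ → SVec} (h : eqM n A B = true) : sm N A F = sm N B F := by
  ext i j
  simp [sm, smat, vEq_sound (allR_upto h (N.lt j))]

/-! ### The checks -/

variable (D : ChevalleyDatum)

/-- The tables of a representation: the images of the coordinates and the coefficients of the root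
elements. -/
structure Tab where
  Lt : ℕ → ℕ → SVec
  UA : ℕ → ℕ → SVec
  UB : ℕ → ℕ → SVec

/-- The image of a column of a coefficient matrix of `x_r(t)`. -/
noncomputable def ycol (T : Tab) (r k c : ℕ) : ℕ → SVec :=
  fun j => sapp (fun s => T.Lt s j) (rcol D r k c)

/-- The conjugation identity of one root and one coordinate. -/
noncomputable def checkPair (n : ℕ) (T : Tab) (r c : ℕ) : Bool :=
  let A := T.UA r
  let B := T.UB r
  let L := T.Lt c
  let Y1 := ycol D T r 1 c
  let Y2 := ycol D T r 2 c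
  let Y3 := ycol D T r 3 c
  okM n Y1 && okM n Y2 && okM n Y3 &&
  eqM n (fun j => sapp A (L j)) (fun j => appR (sapp L (A j)) (Y1 j)) &&
  eqM n (fun j => sapp B (L j)) (fun j => appR (sapp L (B j)) (appR (sapp Y1 (A j)) (Y2 j))) &&
  eqM n (fun _ => []) (fun j => appR (sapp Y1 (B j)) (appR (sapp Y2 (A j)) (Y3 j))) &&
  eqM n (fun _ => []) (fun j => appR (sapp Y2 (B j)) (sapp Y3 (A j))) &&
  eqM n (fun _ => []) (fun j => sapp Y3 (B j))

/-- The conjugation identities of one root. -/
noncomputable def checkRoot (n : ℕ) (T : Tab) (r : ℕ) : Bool :=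
  okM n (T.UA r) && okM n (T.UB r) &&
  allR (fun c => checkPair D n T r c) (upto (D.rank + D.nroots))

/-- The coordinates are in range. -/
noncomputable def checkL (n : ℕ) (T : Tab) : Bool :=
  allR (fun c => okM n (T.Lt c)) (upto (D.rank + D.nroots))

/-- A root element not commuting with a coordinate. -/
noncomputable def checkWit (n : ℕ) (T : Tab) (r c i j : ℕ) : Bool :=
  let S : ℕ → SVec := fun k => appR (T.UA r k) (T.UB r k)
  okM n S && Nat.blt r D.nroots && Nat.blt c (D.rank + D.nroots) && Nat.blt i n && Nat.blt j n &&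
  (let d := coef (appR (sapp S (T.Lt c j)) (vsmul (-1) (sapp (T.Lt c) (S j)))) i
   Int.beq' d 1 || Int.beq' d (-1))

/-- A signed matrix unit as a product of coordinates. -/
noncomputable def unitOK (n : ℕ) (T : Tab) (q : ℕ × ℕ × Bool × List ℕ) : Bool :=
  Nat.blt q.1 n && Nat.blt q.2.1 n && okW n T.Lt q.2.2.2 &&
  allR (fun a => Nat.blt a (D.rank + D.nroots)) q.2.2.2 &&
  eqM n (prodW T.Lt q.2.2.2)
    (fun j => bif Nat.beq j q.2.1 then [(q.1, bif q.2.2.1 then (-1 : ℤ) else 1)] else [])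

/-- The units connect every coordinate to `b₀`. -/
noncomputable def unitsOK (n : ℕ) (T : Tab) (us : List (ℕ × ℕ × Bool × List ℕ)) (b₀ : ℕ) : Bool :=
  allR (fun q => unitOK D n T q) us &&
  allR (fun i => anyR (fun q => Nat.beq q.1 i && !Nat.beq q.2.1 i &&
    (Nat.beq q.2.1 b₀ || Nat.beq i b₀)) us) (upto n)

variable {D} (N)

/-- The representation of the coordinate module. -/
noncomputable def lv (T : Tab) (v : D.Idx → F) : Matrix ι ι F :=
  ∑ a, v a • sm N (T.Lt (ix D a)) F

/-- The root elements in the representation. -/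
noncomputable def uM (T : Tab) (r : ℕ) (F : Type*) [Field F] (t : F) : Matrix ι ι F :=
  uMat (smat N.e (T.UA r)) (smat N.e (T.UB r)) F t

variable {N}

lemma ycol_eq (hs : shapeOK D = true) (T : Tab) {r : ℕ} (hr : r < D.nroots) (k : ℕ) (c : D.Idx) :
    sm N (ycol D T r k (ix D c)) F = ∑ a, (rmat D r k a c : F) • sm N (T.Lt (ix D a)) F := by
  ext i j
  simp only [Matrix.sum_apply, Matrix.smul_apply, sm, Matrix.map_apply, smat, Matrix.of_apply,
    ycol, smul_eq_mul, rmat, ← Int.cast_mul, ← Int.cast_sum]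
  congr 1
  rw [coef_sapp, ← sum_coef_mul (ix D) (ix_injective D) _
    (fun p hp => rcol_lt hs hr k _ p hp) (fun s => coef (T.Lt s (N.e j)) (N.e i))]

theorem uM_lv (hs : shapeOK D = true) {T : Tab} (hL : checkL D n T = true) {r : ℕ}
    (hr : r < D.nroots) (hc : checkRoot D n T r = true) (t : F) (v : D.Idx → F) :
    uM N T r F t * lv N T v = lv N T (D.x F r t *ᵥ v) * uM N T r F t := by
  simp only [checkRoot, Bool.and_eq_true] at hc
  obtain ⟨⟨hA, hB⟩, hpairs⟩ := hc
  have hlt : ∀ a : D.Idx, ix D a < D.rank + D.nroots := by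
    rintro (a | a) <;> simp only [ix_inl, ix_inr] <;> omega
  have key : ∀ c : D.Idx, uM N T r F t * sm N (T.Lt (ix D c)) F =
      (∑ a, D.x F r t a c • sm N (T.Lt (ix D a)) F) * uM N T r F t := by
    intro c
    have hp := allR_upto hpairs (hlt c)
    simp only [checkPair, Bool.and_eq_true] at hp
    obtain ⟨⟨⟨⟨⟨⟨⟨o1, o2⟩, o3⟩, e1⟩, e2⟩, e3⟩, e4⟩, e5⟩ := hp
    have hLc := allR_upto hL (hlt c)
    have e1' := sm_eq (N := N) (F := F) e1
    have e2' := sm_eq (N := N) (F := F) e2
    have e3' := sm_eq (N := N) (F := F) e3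
    have e4' := sm_eq (N := N) (F := F) e4
    have e5' := sm_eq (N := N) (F := F) e5
    simp only [sm_add, sm_nil, ← sm_mul hLc, ← sm_mul hA, ← sm_mul hB] at e1' e2' e3' e4' e5'
    have hsum : ∑ a, D.x F r t a c • sm N (T.Lt (ix D a)) F = sm N (T.Lt (ix D c)) F +
        t • sm N (ycol D T r 1 (ix D c)) F + t ^ 2 • sm N (ycol D T r 2 (ix D c)) F +
        t ^ 3 • sm N (ycol D T r 3 (ix D c)) F := by
      simp only [ycol_eq hs T hr, x_eq hs hr, Matrix.add_apply, Matrix.smul_apply, Matrix.map_apply,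
        smul_eq_mul, add_smul, mul_smul, Finset.sum_add_distrib, Finset.smul_sum]
      congr 3
      rw [Finset.sum_eq_single c (fun a _ ha => by rw [Matrix.one_apply_ne ha, zero_smul])
        (by simp), Matrix.one_apply_eq, one_smul]
    rw [hsum, uM, uMat]
    change (1 + t • sm N (T.UA r) F + t ^ 2 • sm N (T.UB r) F) * _ = _ *
      (1 + t • sm N (T.UA r) F + t ^ 2 • sm N (T.UB r) F)
    simp only [mul_add, add_mul, one_mul, mul_one, smul_mul_assoc, mul_smul_comm, smul_smul,
      e1', e2', smul_add]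
    have z3 : t ^ 3 • (sm N (ycol D T r 1 (ix D c)) F * sm N (T.UB r) F +
        (sm N (ycol D T r 2 (ix D c)) F * sm N (T.UA r) F + sm N (ycol D T r 3 (ix D c)) F)) =
        0 := by rw [← e3', smul_zero]
    have z4 : t ^ 4 • (sm N (ycol D T r 2 (ix D c)) F * sm N (T.UB r) F +
        sm N (ycol D T r 3 (ix D c)) F * sm N (T.UA r) F) = 0 := by rw [← e4', smul_zero]
    have z5 : t ^ 5 • (sm N (ycol D T r 3 (ix D c)) F * sm N (T.UB r) F) = 0 := by
      rw [← e5', smul_zero]
    rw [← sub_eq_zero]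
    calc _ = -((t ^ 3 • (sm N (ycol D T r 1 (ix D c)) F * sm N (T.UB r) F +
          (sm N (ycol D T r 2 (ix D c)) F * sm N (T.UA r) F + sm N (ycol D T r 3 (ix D c)) F))) +
          t ^ 4 • (sm N (ycol D T r 2 (ix D c)) F * sm N (T.UB r) F +
            sm N (ycol D T r 3 (ix D c)) F * sm N (T.UA r) F) +
          t ^ 5 • (sm N (ycol D T r 3 (ix D c)) F * sm N (T.UB r) F)) := by module
      _ = 0 := by rw [z3, z4, z5]; simp
  simp only [lv, Finset.mul_sum, mul_smul_comm, key, Matrix.mulVec, dotProduct, Finset.sum_smul,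
    Finset.sum_mul, Finset.smul_sum, smul_mul_assoc, smul_smul]
  rw [Finset.sum_comm]
  exact Finset.sum_congr rfl fun a _ => Finset.sum_congr rfl fun c _ => by rw [mul_comm]

theorem wit_ne {T : Tab} (hL : checkL D n T = true) {r c i j : ℕ}
    (hw : checkWit D n T r c i j = true) :
    r < D.nroots ∧ ∃ v : D.Idx → F, uM N T r F 1 * lv N T v ≠ lv N T v * uM N T r F 1 := by
  simp only [checkWit, Bool.and_eq_true, Bool.or_eq_true, Nat.blt, Nat.ble_eq, Int.beq'_eq] at hw
  obtain ⟨⟨⟨⟨⟨hS, hr⟩, hc⟩, hi⟩, hj⟩, hd⟩ := hw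
  refine ⟨by omega, ?_⟩
  obtain ⟨cc, rfl⟩ := mem_range_ix D (m := c) (by omega)
  obtain ⟨i', rfl⟩ := N.surj i (by omega)
  obtain ⟨j', rfl⟩ := N.surj j (by omega)
  refine ⟨Pi.single cc 1, fun h => ?_⟩
  have hlv : lv N T (Pi.single cc (1 : F)) = sm N (T.Lt (ix D cc)) F := by
    simp [lv, Pi.single_apply, ite_smul]
  set S : ℕ → SVec := fun k => appR (T.UA r k) (T.UB r k) with hSd
  have hu : uM N T r F 1 = 1 + sm N S F := by
    rw [hSd, sm_add, uM, uMat, one_pow, one_smul, one_smul, add_assoc]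
    rfl
  rw [hlv, hu, add_mul, mul_add, one_mul, mul_one, add_right_inj,
    sm_mul (allR_upto hL hc), sm_mul hS] at h
  have h2 := congrFun (congrFun h i') j'
  simp only [sm, Matrix.map_apply, smat, Matrix.of_apply] at h2
  have hd' : coef (sapp S (T.Lt (ix D cc) (N.e j'))) (N.e i') -
      coef (sapp (T.Lt (ix D cc)) (S (N.e j'))) (N.e i') = 1 ∨
      coef (sapp S (T.Lt (ix D cc) (N.e j'))) (N.e i') -
      coef (sapp (T.Lt (ix D cc)) (S (N.e j'))) (N.e i') = -1 := by
    simpa [hSd, appR_eq, coef_append, coef_vsmul, sub_eq_add_neg] using hd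
  rcases hd' with e | e <;>
  · have := congrArg (Int.cast : ℤ → F) e
    rw [Int.cast_sub, h2, sub_self] at this
    simp at this

theorem scalar_of_commute {T : Tab} (hL : checkL D n T = true)
    {us : List (ℕ × ℕ × Bool × List ℕ)} {b₀ : ℕ} (hus : unitsOK D n T us b₀ = true)
    (hb : b₀ < n) {M : Matrix ι ι F}
    (hM : ∀ v : D.Idx → F, M * lv N T v = lv N T v * M) : ∃ c : F, M = c • 1 := by
  simp only [unitsOK, Bool.and_eq_true] at hus
  obtain ⟨h1, h2⟩ := hus
  obtain ⟨b, rfl⟩ := N.surj b₀ hb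
  have hW : ∀ w : List ℕ, okW n T.Lt w = true →
      allR (fun a => Nat.blt a (D.rank + D.nroots)) w = true →
      okM n (prodW T.Lt w) = true ∧ Commute M (sm N (prodW T.Lt w) F) := by
    intro w
    induction w with
    | nil =>
      intro h _
      refine ⟨h, ?_⟩
      have : sm N (prodW T.Lt []) F = 1 := by
        ext i j
        simp [sm, smat, prodW, coef_cons, coef_nil, Matrix.one_apply, N.inj.eq_iff, eq_comm]
      rw [this]
      exact Commute.one_right M
    | cons a w ih =>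
      intro h ha
      have h' : (okW n T.Lt w && okM n (prodW T.Lt (a :: w))) = true := h
      rw [Bool.and_eq_true] at h'
      have ha' : (Nat.blt a (D.rank + D.nroots) &&
          allR (fun a => Nat.blt a (D.rank + D.nroots)) w) = true := ha
      rw [Bool.and_eq_true, Nat.blt, Nat.ble_eq] at ha'
      obtain ⟨ihok, ihc⟩ := ih h'.1 ha'.2
      refine ⟨h'.2, ?_⟩
      rw [show prodW T.Lt (a :: w) = fun j => sapp (T.Lt a) (prodW T.Lt w j) from rfl,
        ← sm_mul ihok]
      refine Commute.mul_right ?_ ihc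
      obtain ⟨aa, rfl⟩ := mem_range_ix D (m := a) (by omega)
      have := hM (Pi.single aa 1)
      simpa [lv, Pi.single_apply, ite_smul, Commute, SemiconjBy] using this
  have key : ∀ i : ι, (∀ j, j ≠ i → M j i = 0) ∧ M i i = M b b := by
    intro i
    obtain ⟨q, hq, hqf⟩ : ∃ q ∈ us, (Nat.beq q.1 (N.e i) && !Nat.beq q.2.1 (N.e i) &&
        (Nat.beq q.2.1 (N.e b) || Nat.beq (N.e i) (N.e b))) = true := by
      have := allR_upto h2 (N.lt i)
      rw [anyR_eq, List.any_eq_true] at this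
      exact this
    simp only [Bool.and_eq_true, Bool.or_eq_true, Bool.not_eq_true', ← Bool.not_eq_true,
      Nat.beq_eq] at hqf
    have hu := allR_true h1 hq
    simp only [unitOK, Bool.and_eq_true, Nat.blt, Nat.ble_eq] at hu
    obtain ⟨⟨⟨⟨-, hq2⟩, hok⟩, hin⟩, heq⟩ := hu
    obtain ⟨k, hk⟩ := N.surj q.2.1 (by omega)
    set σ : F := if q.2.2.1 then -1 else 1 with hσ
    have hσ0 : σ ≠ 0 := by rw [hσ]; split_ifs <;> simp
    have hsing : sm N (prodW T.Lt q.2.2.2) F = Matrix.single i k σ := by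
      rw [sm_eq heq]
      ext x y
      simp only [sm, Matrix.map_apply, smat, Matrix.of_apply, Matrix.single_apply, ← hk, hqf.1.1,
        hσ]
      by_cases hy : k = y
      · subst hy
        rw [show Nat.beq (N.e k) (N.e k) = true from Nat.beq_eq.symm ▸ rfl]
        simp only [cond_true, coef_cons, coef_nil, N.inj.eq_iff, and_true]
        by_cases hx : i = x <;> cases q.2.2.1 <;> simp [hx]
      · have : Nat.beq (N.e y) (N.e k) = false := by
          rw [← Bool.not_eq_true, Nat.beq_eq, N.inj.eq_iff]; exact fun h => hy h.symm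
        simp [this, coef_nil, hy]
    have hc := (hW _ hok hin).2
    rw [hsing] at hc
    have hne : k ≠ i := fun e => hqf.1.2 (by rw [← hk, e])
    refine ⟨fun j hj => ?_, ?_⟩
    · have := congrFun (congrFun hc.eq j) k
      rw [Matrix.mul_single_apply_same, Matrix.single_mul_apply_of_ne _ _ _ _ _ hj] at this
      exact (mul_eq_zero.1 this).resolve_right hσ0
    · have := congrFun (congrFun hc.eq i) k
      rw [Matrix.mul_single_apply_same, Matrix.single_mul_apply_same, mul_comm σ] at this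
      have e := mul_right_cancel₀ hσ0 this
      rcases hqf.2 with h | h
      · rw [e, N.inj (hk.trans h)]
      · rw [N.inj h]
  refine ⟨M b b, ?_⟩
  ext j i
  by_cases hji : j = i
  · subst hji
    simp [(key j).2]
  · simp [(key i).1 j hji, hji]

/-! ### The quotient -/

/-- The group generated by the root elements of the representation maps onto the Chevalley group
with kernel the centre. -/
theorem exists_hom (g : Good D) (hsimp : IsSimpleGroup ↥(D.group F) ∧
      ¬ IsMulCommutative ↥(D.group F))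
    (hs : shapeOK D = true) {T : Tab} (hL : checkL D n T = true)
    (hroot : allR (fun r => checkRoot D n T r) (upto D.nroots) = true)
    {r₀ c₀ i₀ j₀ : ℕ} (hw : checkWit D n T r₀ c₀ i₀ j₀ = true)
    {us : List (ℕ × ℕ × Bool × List ℕ)} {b₀ : ℕ} (hus : unitsOK D n T us b₀ = true) (hb : b₀ < n)
    (uG : ℕ → F → GL ι F) (hu : ∀ r < D.nroots, ∀ t : F, (uG r t : Matrix ι ι F) = uM N T r F t)
    {E : Subgroup (GL ι F)} (hE : E = Subgroup.closure {y | ∃ r < D.nroots, ∃ t, y = uG r t}) :
    ∃ φ : ↥E →* ↥(D.group F), Function.Surjective φ ∧ φ.ker = Subgroup.center ↥E ∧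
      ∀ y : ↥E, φ y = 1 → ∃ c : F, ((y : GL ι F) : Matrix ι ι F) = c • 1 := by
  set S : Set (GL ι F × GL D.Idx F) :=
    {p | ∃ r < D.nroots, ∃ t, p = (uG r t, g.xG r t)} with hS
  set Γ : Subgroup (GL ι F × GL D.Idx F) := Subgroup.closure S with hΓ
  have hinv : ∀ p ∈ Γ, ∀ v, (p.1 : Matrix ι ι F) * lv N T v =
      lv N T ((p.2 : Matrix D.Idx D.Idx F) *ᵥ v) * (p.1 : Matrix ι ι F) := by
    intro p hp
    refine Subgroup.closure_induction (p := fun p _ => ∀ v, (p.1 : Matrix ι ι F) * lv N T v =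
      lv N T ((p.2 : Matrix D.Idx D.Idx F) *ᵥ v) * (p.1 : Matrix ι ι F)) ?_ ?_ ?_ ?_ hp
    · rintro p ⟨r, hr, t, rfl⟩ v
      rw [hu r hr]
      exact uM_lv hs hL hr (allR_upto hroot hr) t v
    · intro v; simp
    · intro p q _ _ hp hq v
      rw [Prod.fst_mul, Prod.snd_mul, Units.val_mul, Units.val_mul, mul_assoc, hq, ← mul_assoc, hp,
        mul_assoc, Matrix.mulVec_mulVec]
    · intro p _ hp v
      have := hp (((p.2⁻¹ : GL D.Idx F) : Matrix D.Idx D.Idx F) *ᵥ v)
      rw [Matrix.mulVec_mulVec, Units.mul_inv, Matrix.one_mulVec] at this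
      rw [Prod.fst_inv, Prod.snd_inv]
      calc _ = (↑p.1⁻¹ : Matrix ι ι F) * (lv N T v * ↑p.1) * ↑p.1⁻¹ := by
            simp [mul_assoc]
        _ = _ := by rw [← this]; simp [mul_assoc]
  have hfst : Γ.map (MonoidHom.fst _ _) = E := by
    rw [hΓ, MonoidHom.map_closure, hE]
    congr 1
    ext y
    constructor
    · rintro ⟨p, ⟨r, hr, t, rfl⟩, rfl⟩; exact ⟨r, hr, t, rfl⟩
    · rintro ⟨r, hr, t, rfl⟩; exact ⟨_, ⟨r, hr, t, rfl⟩, rfl⟩
  have hsnd : Γ.map (MonoidHom.snd _ _) = D.group F := by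
    refine le_antisymm ?_ (g.group_le fun r hr t => ?_)
    · rw [hΓ, MonoidHom.map_closure, Subgroup.closure_le]
      rintro _ ⟨p, ⟨r, hr, t, rfl⟩, rfl⟩
      exact g.xG_mem_group hr t
    · exact ⟨_, Subgroup.subset_closure ⟨r, hr, t, rfl⟩, rfl⟩
  let p₁ : ↥Γ →* ↥E := ((MonoidHom.fst _ _).comp Γ.subtype).codRestrict E fun p =>
    hfst ▸ ⟨p.1, p.2, rfl⟩
  let p₂ : ↥Γ →* ↥(D.group F) := ((MonoidHom.snd _ _).comp Γ.subtype).codRestrict _ fun p =>
    hsnd ▸ ⟨p.1, p.2, rfl⟩
  have hs1 : Function.Surjective p₁ := fun y => by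
    have hy := y.2
    simp only [← hfst, Subgroup.mem_map] at hy
    obtain ⟨p, hp, he⟩ := hy
    exact ⟨⟨p, hp⟩, Subtype.ext he⟩
  have hs2 : Function.Surjective p₂ := fun y => by
    have hy := y.2
    simp only [← hsnd, Subgroup.mem_map] at hy
    obtain ⟨p, hp, he⟩ := hy
    exact ⟨⟨p, hp⟩, Subtype.ext he⟩
  have htriv : p₁.ker ≤ p₂.ker := by
    have := hsimp.1
    rcases Subgroup.Normal.eq_bot_or_eq_top (Subgroup.Normal.map p₁.normal_ker p₂ hs2) with h | h
    · rwa [Subgroup.map_eq_bot_iff] at h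
    exfalso
    obtain ⟨hr₀, v, hne⟩ := wit_ne (F := F) (N := N) hL hw
    obtain ⟨p, hp1, hp2⟩ : (⟨g.xG r₀ 1, g.xG_mem_group hr₀ 1⟩ : ↥(D.group F)) ∈
        p₁.ker.map p₂ := h ▸ Subgroup.mem_top _
    refine hne ?_
    have e1 : ((p : GL ι F × GL D.Idx F)).1 = 1 := congrArg Subtype.val (MonoidHom.mem_ker.1 hp1)
    have e2 : ((p : GL ι F × GL D.Idx F)).2 = g.xG r₀ 1 := congrArg Subtype.val hp2
    have h1 := hinv p p.2 v
    rw [e1, e2, Units.val_one, one_mul, mul_one] at h1
    have h2 := hinv (uG r₀ 1, g.xG r₀ 1) (Subgroup.subset_closure ⟨r₀, hr₀, 1, rfl⟩) v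
    rw [← h1, hu r₀ hr₀] at h2
    exact h2
  obtain ⟨σ, hσ⟩ := hs1.hasRightInverse
  let φ : ↥E →* ↥(D.group F) := MonoidHom.liftOfSurjective p₁ hs1 ⟨p₂, htriv⟩
  have hφ : ∀ p, φ (p₁ p) = p₂ p := MonoidHom.liftOfRightInverse_comp_apply _ _ _ _
  have hker : ∀ y : ↥E, φ y = 1 → ∃ c : F, ((y : GL ι F) : Matrix ι ι F) = c • 1 := by
    intro y hy
    obtain ⟨p, rfl⟩ := hs1 y
    rw [hφ] at hy
    refine scalar_of_commute (N := N) hL hus hb fun v => ?_
    have h1 := hinv p p.2 v
    rw [show ((p : GL ι F × GL D.Idx F)).2 = 1 from congrArg Subtype.val hy, Units.val_one,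
      Matrix.one_mulVec] at h1
    exact h1
  refine ⟨φ, fun y => ?_, ?_, hker⟩
  · obtain ⟨p, rfl⟩ := hs2 y
    exact ⟨p₁ p, hφ p⟩
  · refine le_antisymm (fun y hy => ?_) (fun y hy => ?_)
    · obtain ⟨c, hc⟩ := hker y (MonoidHom.mem_ker.1 hy)
      refine Subgroup.mem_center_iff.2 fun z => Subtype.ext (Units.ext ?_)
      simp [hc]
    · rw [MonoidHom.mem_ker]
      have hφs : Function.Surjective φ := fun z => by
        obtain ⟨p, rfl⟩ := hs2 z
        exact ⟨p₁ p, hφ p⟩
      have hz : φ y ∈ Subgroup.center ↥(D.group F) := Subgroup.mem_center_iff.2 fun z => by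
        obtain ⟨z', rfl⟩ := hφs z
        rw [← map_mul, ← map_mul, Subgroup.mem_center_iff.1 hy z']
      have := hsimp.1
      rcases Subgroup.Normal.eq_bot_or_eq_top
        (inferInstance : (Subgroup.center ↥(D.group F)).Normal) with h | h
      · rwa [h, Subgroup.mem_bot] at hz
      · exfalso
        exact hsimp.2 ⟨⟨fun a b => (Subgroup.mem_center_iff.1 (h ▸ Subgroup.mem_top b) a)⟩⟩

end CfsgLib.Chev.OE
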