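import Cfsg.Agent.Lib.Chev.E6F4Groups

/-!
The subgroups of type F4 with parameters in the prime field: isomorphism with the Chevalley group of
type F4 over the field with two elements, and membership in the twisted group.
-/

set_option autoImplicit false
set_option maxRecDepth 100000
set_option linter.unusedSimpArgs false

namespace CfsgLib.Chev.F4InE6

open Cfsg.Lie CfsgLib.Chev CfsgLib.Chev.E6C CfsgLib.Classical Matrix

variable {K : Type*} [Field K]

lemma xMat_map' {F L : Type*} [Field F] [Field L] (f : F →+* L) (D : ChevalleyDatum)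
    (r : Fin D.nroots) (t : F) : (D.xMat F r t).map f = D.xMat L r (f t) := by
  ext row col
  rw [Matrix.map_apply]
  rcases col with i | s <;> rcases row with i' | u <;>
    simp only [ChevalleyDatum.xMat, Matrix.of_apply] <;>
    split_ifs <;> simp [map_list_sum, List.map_map, Function.comp_def]

lemma map_xG {F L : Type*} [Field F] [Field L] (f : F →+* L) {r : ℕ} (hr : r < 72) (t : F) :
    Matrix.GeneralLinearGroup.map f (goodE6.xG r t) = goodE6.xG r (f t) := by
  refine Units.ext ?_
  show (Units.val (goodE6.xG r t)).map f = _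
  have hr' : r < chevE6.nroots := hr
  rw [goodE6.coe_xG, goodE6.coe_xG, ChevalleyDatum.x, dif_pos hr', ChevalleyDatum.x, dif_pos hr',
    xMat_map']

lemma map_gl_injective {n : Type*} [Fintype n] [DecidableEq n] {F L : Type*} [Field F] [Field L]
    (f : F →+* L) : Function.Injective (Matrix.GeneralLinearGroup.map (n := n) f) := fun a b h => by
  refine Units.ext (Matrix.ext fun i j => f.injective ?_)
  exact congrFun (congrFun (congrArg (fun x : GL n L => (x : Matrix n n L)) h) i) j

variable [CharP K 2] {ω : Kˣ} (hω : ω ^ 3 = 1)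

/-- The generators with parameter one, from the orbits of the simple roots. -/
lemma orb_roots : ∀ o : Fin chevF4.rank,
    ((GraphE6.orbT o).map fun i => (goodE6.sroot i : ℕ)) = gensT.getD o.val [] ∧
      ((GraphE6.orbT o).map fun i => (goodE6.nroot (goodE6.sroot i) : ℕ)) =
        gensT.getD (o.val + 4) [] := by decide +kernel

lemma gens_split : ∀ l ∈ gensT, ∃ o : Fin chevF4.rank,
    l = gensT.getD o.val [] ∨ l = gensT.getD (o.val + 4) [] := by decide +kernel

lemma xList_eq {F : Type*} [Field F] (e : Fin chevE6.rank → Fin chevE6.nroots)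
    (o : Fin chevF4.rank) (c : F) :
    goodE6.xList e (GraphE6.orbT o) (fun _ => c) =
      xWord ((GraphE6.orbT o).map fun i => (e i : ℕ)) (fun _ => c) := by
  rw [Good.xList, xWord, List.map_map]; rfl

lemma map_xWord {F L : Type*} [Field F] [Field L] (f : F →+* L) {l : List ℕ}
    (hl : ∀ r ∈ l, r < 72) (c : F) :
    Matrix.GeneralLinearGroup.map f (xWord l fun _ => c) = xWord l fun _ => f c := by
  induction l with
  | nil => simp [xWord]
  | cons r l ih =>
    show Matrix.GeneralLinearGroup.map f (goodE6.xG r c * xWord l fun _ => c) =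
      goodE6.xG r (f c) * xWord l fun _ => f c
    rw [map_mul, map_xG f (hl r List.mem_cons_self),
      ih fun x hx => hl x (List.mem_cons_of_mem _ hx)]

omit [CharP K 2] in
lemma chi_zero : chi hω 0 = fun _ => (1 : K) := by
  funext r; simp [chi]

lemma HH_zero :
    ((GraphE6.triA (ZMod 2)).G1).map (Matrix.GeneralLinearGroup.map (ZMod.castHom (dvd_refl 2) K)) =
      HH hω 0 := by
  have hlt : ∀ l ∈ gensT, ∀ r ∈ l, r < 72 := fun l hl r hr => (gens_lt hl r hr).1
  have hmem : ∀ o : Fin chevF4.rank,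
      gensT.getD o.val [] ∈ gensT ∧ gensT.getD (o.val + 4) [] ∈ gensT := by decide +kernel
  rw [(GraphE6.triA (ZMod 2)).G1_def, HH, pairs, MonoidHom.map_closure, MonoidHom.map_closure,
    Set.image_image]
  refine le_antisymm ((Subgroup.closure_le _).2 ?_) ((Subgroup.closure_le _).2 ?_)
  · rintro _ ⟨x, ⟨(o : Fin chevF4.rank), t, (ht : ∀ i ∈ GraphE6.orbT o, t (GraphE6.triS.pi i) = t i), hx⟩, rfl⟩
    have key : ∀ e : Fin chevE6.rank → Fin chevE6.nroots, ∀ l ∈ gensT,
        ((GraphE6.orbT o).map fun i => (e i : ℕ)) = l → x = goodE6.xList e (GraphE6.orbT o) t →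
        Matrix.GeneralLinearGroup.map (ZMod.castHom (dvd_refl 2) K) x ∈ Subgroup.closure
          ((fun l => xWord l (chi hω 0)) '' {l | l ∈ gensT}) := by
      intro e l hl he hx
      rw [show x = goodE6.xList e (GraphE6.orbT o) t from hx, goodE6.xList_congr (e := e) (u := fun _ => t (GraphE6.rep o))
        (GraphE6.const_on_orb ht), xList_eq, he, map_xWord _ (hlt l hl)]
      rcases (by decide : ∀ c : ZMod 2, c = 0 ∨ c = 1) (t (GraphE6.rep o)) with hc | hc
      · rw [hc, map_zero]
        have h1 : xWord l (fun _ => (0 : K)) = 1 := List.prod_eq_one fun y hy => by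
          obtain ⟨r, -, rfl⟩ := List.mem_map.1 hy
          exact goodE6.xG_zero r
        rw [h1]; exact one_mem _
      · rw [hc, map_one]
        exact Subgroup.subset_closure ⟨l, hl, by rw [chi_zero]⟩
    rcases hx with hx | hx
    · exact key _ _ (hmem o).1 (orb_roots o).1 hx
    · exact key _ _ (hmem o).2 (orb_roots o).2 hx
  · rintro _ ⟨l, hl, rfl⟩
    obtain ⟨o, ho | ho⟩ := gens_split l hl
    · refine Subgroup.subset_closure
        ⟨goodE6.xList goodE6.sroot (GraphE6.orbT o) fun _ => 1,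
          ⟨o, fun _ => 1, fun _ _ => rfl, Or.inl rfl⟩, ?_⟩
      rw [xList_eq, (orb_roots o).1, ← ho, map_xWord _ (hlt l hl), map_one, chi_zero]
      rfl
    · refine Subgroup.subset_closure
        ⟨goodE6.xList (fun i => goodE6.nroot (goodE6.sroot i)) (GraphE6.orbT o) fun _ => 1,
          ⟨o, fun _ => 1, fun _ _ => rfl, Or.inr rfl⟩, ?_⟩
      rw [xList_eq, (orb_roots o).2, ← ho, map_xWord _ (hlt l hl), map_one, chi_zero]
      rfl

lemma HH_zero_equiv : Nonempty (↥(HH hω 0) ≃* ↥(chevF4.group (ZMod 2))) :=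
  ⟨((MulEquiv.subgroupCongr (HH_zero hω).symm).trans
      (Subgroup.equivMapOfInjective _ _ (map_gl_injective _)).symm).trans
    ((MulEquiv.subgroupCongr GraphE6.fixed_eq.symm).trans (GraphE6.fixedEquiv (ZMod 2)))⟩

lemma gens_shape : ∀ l ∈ gensT,
    (∃ r ∈ [e6p2, e6m2, e6p4, e6m4], l = [r] ∧ eT r = 0) ∨
      ∃ rs ∈ [(e6p1, e6p6), (e6m1, e6m6), (e6p3, e6p5), (e6m3, e6m5)],
        (l = [rs.2, rs.1] ∨ l = [rs.1, rs.2]) ∧ eT rs.2 % 3 = 2 * eT rs.1 % 3 ∧
          eT rs.1 % 3 = 2 * eT rs.2 % 3 := by decide +kernel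

lemma HH_le_twisted (i : ℕ) : HH hω i ≤ twistedE6 K 2 := by
  rw [HH, pairs, MonoidHom.map_closure, Set.image_image, Subgroup.closure_le]
  rintro _ ⟨l, hl, rfl⟩
  show xWord l (chi hω i) ∈ twistedE6 K 2
  have hx : ∀ (r : ℕ) (t : K), chevE6.x K r t = (goodE6.xG r t : Matrix chevE6.Idx chevE6.Idx K) :=
    fun r t => (goodE6.coe_xG r t).symm
  have hpair : ∀ rs ∈ [(e6p1, e6p6), (e6m1, e6m6), (e6p3, e6p5), (e6m3, e6m5)], ∀ s : K,
      goodE6.xG rs.1 s * goodE6.xG rs.2 (s ^ 2) ∈ twistedE6 K 2 := by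
    intro rs hrs s
    refine Subgroup.subset_closure ⟨[(rs.1, s), (rs.2, s ^ 2)], Or.inr ⟨s, rs, hrs, rfl⟩, ?_⟩
    simp [ChevalleyDatum.wordMat, hx]
  have hchi : ∀ a b : ℕ, eT b % 3 = 2 * eT a % 3 → chi hω i b = chi hω i a ^ 2 := by
    intro a b h
    simp only [chi]
    rw [← Units.val_pow_eq_pow_val, ← pow_mul, pow_mod hω (i * eT b), pow_mod hω (_ * 2)]
    congr 2
    rw [Nat.mul_mod, h, ← Nat.mul_mod]
    congr 1
    ring
  rcases gens_shape l hl with ⟨r, hr, rfl, he⟩ | ⟨rs, hrs, hl', he1, he2⟩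
  · refine Subgroup.subset_closure ⟨[(r, (1 : K))], Or.inl ⟨1, one_pow _, r, hr, rfl⟩, ?_⟩
    simp [ChevalleyDatum.wordMat, hx, xWord, chi, he]
  · have hm := hpair rs hrs (chi hω i rs.1)
    rw [← hchi _ _ he1] at hm
    have hneg : ∀ r (t : K), (goodE6.xG r t)⁻¹ = goodE6.xG r t := fun r t => by
      refine inv_eq_of_mul_eq_one_right ?_
      rw [goodE6.xG_add, CharTwo.add_self_eq_zero, goodE6.xG_zero]
    rcases hl' with rfl | rfl
    · have h2 := inv_mem hm
      rw [_root_.mul_inv_rev, hneg, hneg] at h2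
      simpa [xWord] using h2
    · simpa [xWord] using hm

/-- Three non-conjugate subgroups of type F4. -/
theorem exists_three {K : Type*} [Field K] [Fintype K] (hK : Fintype.card K = 4) :
    ∃ H : Fin 3 → Subgroup (twistedE6 K 2),
      (∀ i, Nonempty ((H i) ≃* chevF4.group (ZMod 2))) ∧
      (∀ i j, i ≠ j → ∀ g : (twistedE6 K 2), (H i).map (MulAut.conj g).toMonoidHom ≠ H j) := by
  have : CharP K 2 := by
    refine CharTwo.of_one_ne_zero_of_two_eq_zero one_ne_zero ?_
    have h : ((Fintype.card K : ℕ) : K) = 0 := FiniteField.cast_card_eq_zero K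
    rw [hK] at h
    exact mul_self_eq_zero.1 (show (2 : K) * 2 = 0 by rw [← h]; norm_num)
  classical
  obtain ⟨u, hu, hu1⟩ : ∃ u : Kˣ, u ≠ 1 ∧ u ^ 3 = 1 := by
    obtain ⟨u, hu⟩ : ∃ u : Kˣ, u ≠ 1 := by
      refine Fintype.exists_ne_of_one_lt_card ?_ 1
      rw [Fintype.card_units, hK]; norm_num
    refine ⟨u, hu, Units.ext ?_⟩
    have h := FiniteField.pow_card_sub_one_eq_one (u : K) (Units.ne_zero u)
    rw [hK] at h
    simpa using h
  have hcube : ∀ a : K, a ≠ 0 → a ^ 3 = 1 := fun a ha => by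
    have h := FiniteField.pow_card_sub_one_eq_one a ha
    rw [hK] at h
    simpa using h
  refine ⟨fun i => (HH hu1 i.val).subgroupOf (twistedE6 K 2), fun i => ?_, fun i j hij g hg => ?_⟩
  · obtain ⟨a⟩ := HH_equiv hu1 i.val
    obtain ⟨b⟩ := HH_zero_equiv hu1
    exact ⟨((Subgroup.subgroupOfEquivOfLe (HH_le_twisted hu1 i.val)).trans a).trans b⟩
  · have hle : twistedE6 K 2 ≤ chevE6.group K := by
      refine (Subgroup.closure_le _).2 ?_
      rintro y ⟨w, -, hy⟩
      have hy' : y = (w.map fun p => goodE6.xG p.1 p.2).prod := by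
        refine Units.ext ?_
        rw [hy, ← Units.coeHom_apply, map_list_prod, List.map_map, ChevalleyDatum.wordMat]
        congr 1
      rw [hy']
      refine Subgroup.list_prod_mem _ fun x hx => ?_
      obtain ⟨p, -, rfl⟩ := List.mem_map.1 hx
      by_cases hp : p.1 < chevE6.nroots
      · exact goodE6.xG_mem_group hp _
      · have h1 : goodE6.xG p.1 p.2 = (1 : GL chevE6.Idx K) := Units.ext (by
          rw [goodE6.coe_xG, ChevalleyDatum.x, dif_neg hp]; rfl)
        rw [h1]; exact one_mem _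
    have h := congrArg (Subgroup.map (twistedE6 K 2).subtype) hg
    rw [Subgroup.map_map] at h
    have e : (twistedE6 K 2).subtype.comp (MulAut.conj g).toMonoidHom =
        (MulAut.conj (g : GL chevE6.Idx K)).toMonoidHom.comp (twistedE6 K 2).subtype := rfl
    rw [e, ← Subgroup.map_map, Subgroup.map_subgroupOf_eq_of_le (HH_le_twisted hu1 _),
      Subgroup.map_subgroupOf_eq_of_le (HH_le_twisted hu1 _)] at h
    have h2 := HH_not_conj hu1 hcube (hle g.2) h
    have hord : orderOf u = 3 := orderOf_eq_prime hu1 hu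
    rw [pow_inj_mod, hord] at h2
    exact hij (Fin.ext (by omega))

end CfsgLib.Chev.F4InE6
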