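import Cfsg.Agent.Lib.Chev.E6FiClasses
import Cfsg.Agent.Lib.InvChar.SporO7Iso
import Cfsg.Agent.Lib.Classical.OrthOutOdd

/-!
The subgroup on eight generators of the presented Fischer group is the orthogonal group in dimension
seven over three elements; its three classes in the twisted group of type E6.
-/

set_option autoImplicit false
set_option maxRecDepth 100000

namespace CfsgLib.Chev.FiInE6

open CfsgLib.InvChar CfsgLib.InvChar.Coset Cfsg.Lie

/-- The eight generators give the orthogonal group modulo centre. -/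
theorem sub_equiv_pOmega : Nonempty (↥(lettersClosure SporFi22.gen FiC.emb) ≃*
    Cfsg.POmega (ZMod 3) (Cfsg.quadFormOdd 3 (ZMod 3))) := by
  haveI : Finite SporO7.Pre := SporO7.card_le.1
  obtain ⟨⟨e⟩, hc⟩ := SporO7.exists_iso
  obtain ⟨ψ, hψ⟩ := SporO7.exists_hom (subGen SporFi22.gen FiC.emb)
    (SporFi22.rels_subGen _ _ (by decide +kernel))
  have hrange : ψ.range = lettersClosure SporFi22.gen FiC.emb := by
    rw [MonoidHom.range_eq_map, ← SporO7.closure_gen, MonoidHom.map_closure, lettersClosure,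
      ← Set.image_comp]
    refine congrArg Subgroup.closure (Set.ext fun y => ⟨?_, ?_⟩)
    · rintro ⟨i, hi, rfl⟩; exact ⟨i, hi, by rw [Function.comp_apply, hψ i hi]⟩
    · rintro ⟨i, hi, rfl⟩; exact ⟨i, hi, by rw [Function.comp_apply, hψ i hi]⟩
  have hidx := (lettersClosure SporFi22.gen FiC.emb).card_mul_index
  rw [SporFi22.index_bcdefghi, SporFi22.card_eq.1] at hidx
  have hinj : Function.Injective ψ :=
    (card_eq_and_injective ψ (by norm_num) ⟨inferInstance, hc.le⟩ (by rw [hrange]; omega)).2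
  exact ⟨(MulEquiv.subgroupCongr hrange.symm).trans ((MonoidHom.ofInjective hinj).symm.trans e)⟩

/-- The centre is trivial. -/
theorem pOmega_equiv_omega : Nonempty (Cfsg.POmega (ZMod 3) (Cfsg.quadFormOdd 3 (ZMod 3)) ≃*
    ↥(Cfsg.Omega (ZMod 3) (Cfsg.quadFormOdd 3 (ZMod 3)))) :=
  ⟨(QuotientGroup.quotientMulEquivOfEq SporO7.card_omega.2).trans QuotientGroup.quotientBot⟩

/-- Three classes. -/
theorem exists_three_omega {K : Type*} [Field K] [Fintype K] (hK : Fintype.card K = 4) :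
    ∃ H : Fin 3 → Subgroup (twistedE6 K 2),
      (∀ i, Nonempty ((H i) ≃* Cfsg.Omega (ZMod 3) (Cfsg.quadFormOdd 3 (ZMod 3)))) ∧
      (∀ i j, i ≠ j → ∀ g : (twistedE6 K 2),
        (H i).map (MulAut.conj g).toMonoidHom ≠ H j) := by
  obtain ⟨hchar, hcube, ω, hω, h1⟩ := four_setup hK
  haveI := hchar
  obtain ⟨e⟩ := sub_equiv_pOmega
  obtain ⟨f⟩ := pOmega_equiv_omega
  have hout : Nat.card (Cfsg.Out (Cfsg.POmega (ZMod 3) (Cfsg.quadFormOdd 3 (ZMod 3)))) = 2 := by
    haveI : Fact (Nat.Prime 3) := ⟨Nat.prime_three⟩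
    obtain ⟨o⟩ := CfsgLib.Classical.out_pOmegaOdd (F := ZMod 3) (p := 3) (f := 1) (m := 3) le_rfl
      (by rw [ZMod.card, pow_one]) (by norm_num) le_rfl
    rw [Nat.card_congr o.toEquiv]
    simp
  have hS : ∀ k, 1 ≤ k → k < 9 → SporFi22.gen k ∈ lettersClosure SporFi22.gen FiC.emb := by
    intro k hk hk'
    have h := mem_lettersClosure SporFi22.gen FiC.emb (r := [k])
      ((by decide : ∀ k < 9, 1 ≤ k → [k] ∈ FiC.emb.map fun x => [x]) k hk' hk)
    simpa [wprod] using h
  obtain ⟨H, hiso, hconj⟩ := exists_three_sub hω h1 hcube hS (sq_inner_of_equiv e hout)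
  exact ⟨H, fun i => ⟨((hiso i).some.trans e).trans f⟩, hconj⟩

end CfsgLib.Chev.FiInE6
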