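import Mathlib
import Cfsg.Agent.Lib.Chev.FixedFrob
import Cfsg.Agent.Lib.Chev.RootLattice

/-!
Elements fixed by a field endomorphism in an adjoint group: up to a torus element with rational
root values they come from the fixed field, so a power does.
-/

set_option autoImplicit false
set_option maxHeartbeats 1000000

namespace CfsgLib.Chev

open Cfsg.Lie Matrix

lemma powMap_smul_one {G : Type*} [CommGroup G] {ι : Type*} [Fintype ι] [DecidableEq ι] (m : ℕ) (v : ι → G) :
    powMap ((m : ℤ) • (1 : Matrix ι ι ℤ)) v = fun j => v j ^ m := by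
  funext j
  rw [powMap_apply, Finset.prod_eq_single j (fun i _ h => by simp [Matrix.one_apply_ne h]) (by simp)]
  simp

lemma powMap_map {G H : Type*} [CommGroup G] [CommGroup H] (f : G →* H) {ι : Type*} [Fintype ι]
    (M : Matrix ι ι ℤ) (v : ι → G) :
    powMap M (fun i => f (v i)) = fun j => f (powMap M v j) := by
  funext j
  simp [powMap_apply, map_prod, map_zpow]

variable {D : ChevalleyDatum}

namespace Good

variable (g : Good D)
include g

variable {F L : Type*} [Field F] [Field L]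

lemma rootVal_simple (c : Fin D.rank → Fˣ) (j : Fin D.rank) :
    rootVal c (D.simple j) = powMap (cartanMat D) c j := rfl

/-- A fixed element is rational up to a torus element with rational root values. -/
theorem fixed_decomp (hc : HasComm D) (ι : F →+* L) (φ : L →+* L) (hφ : ∀ x, φ x = x → ∃ a, ι a = x)
    {y : GL D.Idx L} (hy : y ∈ D.group L) (hfix : scalarGL D φ y = y) :
    ∃ x ∈ D.group F, ∃ c : Fin D.rank → Lˣ, (∀ r < D.nroots, ∃ a, ι a = (rootVal c r : L)) ∧
      y = scalarGL D ι x * torHom D L c := by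
  obtain ⟨b₀, hb₀, n, hn, π, hπw, hπ, u, hu, rfl⟩ := g.exists_canonical hc hy
  obtain ⟨l, hl⟩ := g.exists_wperm hπw
  have hnl : g.Acts (g.wordN (F := L) l) π := hl ▸ g.acts_wordN l
  have hd := g.monomial_same_acts hn (g.wordN_mem (F := L) l) hπ hnl
  set b := b₀ * (n * (g.wordN (F := L) l)⁻¹) with hb
  have hbm : b ∈ D.borelSubgroup L := mul_mem hb₀ (Subgroup.mem_sup_right hd)
  have he : b₀ * n * u = b * g.wordN l * u := by rw [hb]; group
  rw [he] at hfix hy ⊢
  rw [map_mul, map_mul, g.scalarGL_wordN] at hfix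
  obtain ⟨hbf, huf⟩ := g.canonical_unique (g.scalarGL_borel φ hbm) hbm hnl
    (g.scalarGL_rootGen φ _ (Subgroup.mem_map_of_mem _ hu)) hu hfix
  obtain ⟨v, hv, h, hh, hvh⟩ := g.mem_borel.1 hbm
  rw [← hvh, map_mul] at hbf
  have hsplit : v⁻¹ * scalarGL D φ v = h * (scalarGL D φ h)⁻¹ := by
    rw [eq_mul_inv_iff_mul_eq, mul_assoc, hbf, inv_mul_cancel_left]
  have h3 : v⁻¹ * scalarGL D φ v ∈ D.posUnipotent L ⊓ D.diagonalSubgroup L :=
    Subgroup.mem_inf.2 ⟨mul_mem (inv_mem hv) (g.scalarGL_pos φ hv),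
      hsplit ▸ mul_mem hh (inv_mem (g.scalarGL_diag φ hh))⟩
  rw [g.pos_inf_diagonal, Subgroup.mem_bot, inv_mul_eq_one] at h3
  rw [← h3] at hbf
  have hhf : scalarGL D φ h = h := mul_left_cancel hbf
  obtain ⟨v₀, hv₀, ev⟩ := g.pos_fixed_range hc ι φ hφ hv h3.symm
  obtain ⟨u₀, hu₀, eu⟩ := g.pos_fixed_range hc ι φ hφ (g.minus_le_pos _ hu) huf
  set w := g.wordN (F := L) l * u with hw
  rw [g.diagonal_eq_range] at hh
  obtain ⟨c, rfl⟩ := hh
  have hcr : ∀ r < D.nroots, ∃ a, ι a = (rootVal c r : L) := by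
    intro r hr
    rw [scalarGL_torHom] at hhf
    refine hφ _ ?_
    have e := g.rootVal_eq_of_torHom hhf hr
    refine Eq.trans ?_ (congrArg Units.val e)
    simp [rootVal, map_prod, Units.coe_prod, map_zpow, Units.val_zpow_eq_zpow_val, map_zpow₀]
  obtain ⟨w₀, hw₀, ew⟩ : ∃ w₀ ∈ D.group F, scalarGL D ι w₀ = w :=
    ⟨g.wordN l * u₀, mul_mem (g.monomial_le_group (g.wordN_mem l)) hu₀,
      by rw [map_mul, g.scalarGL_wordN, eu]⟩
  -- conjugating a rational element by the torus element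
  have hconj : ∀ x ∈ D.group F, ∃ x' ∈ D.group F,
      torHom D L c * scalarGL D ι x * (torHom D L c)⁻¹ = scalarGL D ι x' := by
    suffices D.group F ≤ ((D.group F).map (scalarGL D ι)).comap
        ((MulAut.conj (torHom D L c)).toMonoidHom.comp (scalarGL D ι)) by
      intro x hx
      obtain ⟨x', hx', e⟩ := this hx
      exact ⟨x', hx', e.symm⟩
    refine g.group_le fun r hr t => ?_
    obtain ⟨a, ha⟩ := hcr r hr
    refine ⟨g.xG r (a * t), g.xG_mem_group hr _, ?_⟩
    show scalarGL D ι (g.xG r (a * t)) = torHom D L c * scalarGL D ι (g.xG r t) * (torHom D L c)⁻¹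
    rw [g.scalarGL_xG ι hr, g.scalarGL_xG ι hr, g.conj_rootVal c hr, map_mul, ha]
  obtain ⟨w₁, hw₁, ew₁⟩ := hconj w₀ hw₀
  refine ⟨v₀ * w₁, mul_mem hv₀ hw₁, c, hcr, ?_⟩
  rw [map_mul, ev, ← ew₁, ew, ← hvh, hw]
  group

/-- A suitable power of a fixed element is rational. -/
theorem fixed_pow_range (hc : HasComm D) {B : Matrix (Fin D.rank) (Fin D.rank) ℤ} {m : ℕ}
    (hB : B * cartanMat D = (m : ℤ) • 1) (ι : F →+* L) (φ : L →+* L)
    (hφ : ∀ x, φ x = x → ∃ a, ι a = x) {y : GL D.Idx L} (hy : y ∈ D.group L) (hfix : scalarGL D φ y = y) :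
    ∃ x ∈ D.group F, scalarGL D ι x = y ^ m := by
  obtain ⟨x, hx, c, hcr, rfl⟩ := g.fixed_decomp hc ι φ hφ hy hfix
  have hconj : D.group F ≤ ((D.group F).map (scalarGL D ι)).comap
      ((MulAut.conj (torHom D L c)).toMonoidHom.comp (scalarGL D ι)) := by
    refine g.group_le fun r hr t => ?_
    obtain ⟨a, ha⟩ := hcr r hr
    refine ⟨g.xG r (a * t), g.xG_mem_group hr _, ?_⟩
    show scalarGL D ι (g.xG r (a * t)) = torHom D L c * scalarGL D ι (g.xG r t) * (torHom D L c)⁻¹
    rw [g.scalarGL_xG ι hr, g.scalarGL_xG ι hr, g.conj_rootVal c hr, map_mul, ha]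
  have hpow : ∀ k : ℕ, ∃ x' ∈ D.group F,
      (scalarGL D ι x * torHom D L c) ^ k = scalarGL D ι x' * torHom D L c ^ k := by
    intro k
    induction k with
    | zero => exact ⟨1, one_mem _, by simp⟩
    | succ k ih =>
      obtain ⟨x', hx', e⟩ := ih
      obtain ⟨x'', hx'', e'⟩ := hconj hx'
      refine ⟨x * x'', mul_mem hx hx'', ?_⟩
      rw [pow_succ', e, pow_succ', map_mul, e']
      show _ = scalarGL D ι x * (torHom D L c * scalarGL D ι x' * (torHom D L c)⁻¹) * _
      group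
  obtain ⟨x', hx', e⟩ := hpow m
  choose a ha using fun j : Fin D.rank => hcr _ (g.simple_lt j.2)
  have ha0 : ∀ j, a j ≠ 0 := fun j h0 => (rootVal c (D.simple j)).ne_zero (by rw [← ha j, h0, map_zero])
  set c₀ := powMap B (fun j => Units.mk0 (a j) (ha0 j))
  have ht : scalarGL D ι (torHom D F c₀) = torHom D L c ^ m := by
    rw [scalarGL_torHom, ← map_pow]
    refine g.torHom_eq_of_simple fun j => ?_
    rw [rootVal_pow, g.rootVal_simple, ← powMap_map (Units.map (ι : F →* L)) B, ← MonoidHom.comp_apply, ← powMap_mul, hB,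
      powMap_smul_one]
    exact congrArg (fun z : Lˣ => z ^ m) (Units.ext (ha j))
  refine ⟨x' * torHom D F c₀, mul_mem hx' (g.diagonal_le_group (g.torHom_mem c₀)), ?_⟩
  rw [map_mul, ht, e]

end Good

end CfsgLib.Chev
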