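import Mathlib
import Cfsg.Agent.Lib.Chev.SpringerTorusAlg

/-!
Torsion of the kernel of an integer matrix modulo `M`.
-/

set_option autoImplicit false

namespace CfsgLib.Chev.Springer

open Matrix Polynomial

variable {ι : Type*} [Fintype ι] [DecidableEq ι]

/-- The kernel of a matrix modulo `n`. -/
noncomputable def kerMod (A : Matrix ι ι ℤ) (n : ℕ) : AddSubgroup (ι → ZMod n) :=
  (Matrix.toLin' (A.map (Int.cast : ℤ → ZMod n))).toAddMonoidHom.ker

lemma mem_kerMod {A : Matrix ι ι ℤ} {n : ℕ} {w : ι → ZMod n} :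
    w ∈ kerMod A n ↔ A.map (Int.cast : ℤ → ZMod n) *ᵥ w = 0 := Iff.rfl

lemma intCast_mem_kerMod {A : Matrix ι ι ℤ} {n : ℕ} {w : ι → ℤ} :
    (fun i => (w i : ZMod n)) ∈ kerMod A n ↔ ∀ j, (((A *ᵥ w) j : ℤ) : ZMod n) = 0 := by
  rw [mem_kerMod, funext_iff]
  exact forall_congr' fun j => by simp [Matrix.mulVec, dotProduct]

/-- Multiplication by `m` from residues modulo `s` to residues modulo `s * m`. -/
noncomputable def scaleUp (s m : ℕ) : ZMod s →+ ZMod (s * m) :=
  ZMod.lift s ⟨(AddMonoidHom.mulLeft (m : ZMod (s * m))).comp (Int.castAddHom (ZMod (s * m))), by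
    show (m : ZMod (s * m)) * ((s : ℤ) : ZMod (s * m)) = 0
    rw [Int.cast_natCast, ← Nat.cast_mul, mul_comm m, ZMod.natCast_self]⟩

lemma scaleUp_intCast (s m : ℕ) (k : ℤ) : scaleUp s m (k : ZMod s) = (m : ZMod (s * m)) * k := by
  rw [scaleUp, ZMod.lift_coe]
  rfl

lemma scaleUp_injective (s : ℕ) {m : ℕ} (hm : 0 < m) : Function.Injective (scaleUp s m) := by
  refine (injective_iff_map_eq_zero _).2 fun z hz => ?_
  obtain ⟨k, rfl⟩ := ZMod.intCast_surjective z
  rw [scaleUp_intCast, ← Int.cast_natCast m, ← Int.cast_mul, ZMod.intCast_zmod_eq_zero_iff_dvd, Nat.cast_mul,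
    mul_comm (s : ℤ), mul_dvd_mul_iff_left (by exact_mod_cast hm.ne')] at hz
  exact (ZMod.intCast_zmod_eq_zero_iff_dvd _ _).2 hz

lemma scaleUp_mem_kerMod (A : Matrix ι ι ℤ) (s : ℕ) {m : ℕ} (hm : 0 < m) (w : ι → ZMod s) :
    (fun i => scaleUp s m (w i)) ∈ kerMod A (s * m) ↔ w ∈ kerMod A s := by
  obtain ⟨k, rfl⟩ : ∃ k : ι → ℤ, (fun i => (k i : ZMod s)) = w :=
    ⟨fun i => (ZMod.intCast_surjective (w i)).choose, funext fun i => (ZMod.intCast_surjective (w i)).choose_spec⟩
  rw [show (fun i => scaleUp s m (k i : ZMod s)) = fun i => (((m • k) i : ℤ) : ZMod (s * m)) from funext fun i => by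
    simp [scaleUp_intCast], intCast_mem_kerMod, intCast_mem_kerMod]
  refine forall_congr' fun j => ?_
  rw [Matrix.mulVec_smul, Pi.smul_apply, nsmul_eq_mul, ← map_eq_zero_iff _ (scaleUp_injective s hm),
    scaleUp_intCast, Int.cast_mul, Int.cast_natCast]

/-- A prime whose square does not divide the determinant gives at most one line in the kernel. -/
theorem card_kerMod_prime (A : Matrix ι ι ℤ) {s : ℕ} [Fact s.Prime] (hA : A.det ≠ 0)
    (h : ¬ (s : ℤ) ^ 2 ∣ A.det) : Nat.card (kerMod A s) ≤ s := by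
  classical
  have hs := (Fact.out : s.Prime)
  set N := A.det.natAbs with hN
  by_cases hsN : s ∣ N
  · obtain ⟨m, hm⟩ := hsN
    have hm0 : 0 < m := Nat.pos_of_ne_zero fun h0 => by
      rw [h0, mul_zero, hN, Int.natAbs_eq_zero] at hm; exact hA hm
    haveI : NeZero (s * m) := ⟨Nat.mul_ne_zero hs.ne_zero hm0.ne'⟩
    let j : kerMod A s →+ kerMod A (s * m) :=
      { toFun := fun w => ⟨fun i => scaleUp s m (w.1 i), (scaleUp_mem_kerMod A s hm0 _).2 w.2⟩
        map_zero' := Subtype.ext (funext fun i => by simp)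
        map_add' := fun a b => Subtype.ext (funext fun i => by simp) }
    have hj : Function.Injective j := fun a b e =>
      Subtype.ext (funext fun i => scaleUp_injective s hm0 (congrFun (congrArg Subtype.val e) i))
    have hd : Nat.card (kerMod A s) ∣ N := by
      have hc : Nat.card (kerMod A (s * m)) = N := card_ker_mod A hA (by
        rw [← hm, hN]; exact Int.dvd_natAbs.2 dvd_rfl)
      rw [← hc]
      exact AddSubgroup.card_dvd_of_injective j hj
    set Ks := LinearMap.ker (Matrix.toLin' (A.map (Int.cast : ℤ → ZMod s)))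
    rw [show Nat.card (kerMod A s) = Nat.card Ks from rfl, Module.natCard_eq_pow_finrank (K := ZMod s),
      Nat.card_zmod] at hd ⊢
    refine le_of_le_of_eq (Nat.pow_le_pow_right hs.pos ?_) (pow_one s)
    by_contra h2
    refine h ?_
    rw [← Nat.cast_pow, Int.natCast_dvd]
    exact (pow_dvd_pow s (show 2 ≤ _ by omega)).trans hd
  · have hu : IsUnit (A.map (Int.cast : ℤ → ZMod s)).det := by
      rw [show A.map (Int.cast : ℤ → ZMod s) = (Int.castRingHom (ZMod s)).mapMatrix A from rfl, ← RingHom.map_det,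
        isUnit_iff_ne_zero, eq_intCast, ne_eq, ZMod.intCast_zmod_eq_zero_iff_dvd, Int.natCast_dvd]
      exact hsN
    have : Subsingleton (kerMod A s) := ⟨fun a b => Subtype.ext
      (Matrix.mulVec_injective_iff_isUnit.2 ((Matrix.isUnit_iff_isUnit_det _).2 hu)
        ((mem_kerMod.1 a.2).trans (mem_kerMod.1 b.2).symm))⟩
    rw [Nat.card_of_subsingleton (0 : kerMod A s)]
    exact hs.one_lt.le

/-- The `s`-torsion of the kernel modulo `M`. -/
theorem card_torsion_kerMod_le (A : Matrix ι ι ℤ) (M : ℕ) [NeZero M] {s : ℕ} [Fact s.Prime] :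
    Nat.card {z : kerMod A M // s • z = 0} ≤ Nat.card (kerMod A s) := by
  classical
  have hs := (Fact.out : s.Prime)
  by_cases hsM : s ∣ M
  · obtain ⟨m, rfl⟩ := hsM
    have hm0 : 0 < m := Nat.pos_of_ne_zero fun h0 => NeZero.ne (s * m) (by rw [h0, mul_zero])
    have hsurj : ∀ z : {z : kerMod A (s * m) // s • z = 0}, ∀ i, ∃ w : ZMod s, scaleUp s m w = z.1.1 i := by
      intro z i
      have h1 : s • z.1.1 i = 0 := congrFun (congrArg Subtype.val z.2) i
      obtain ⟨k, hk⟩ := ZMod.intCast_surjective (z.1.1 i)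
      rw [← hk, nsmul_eq_mul, ← Int.cast_natCast s, ← Int.cast_mul, ZMod.intCast_zmod_eq_zero_iff_dvd,
        Nat.cast_mul, mul_dvd_mul_iff_left (by exact_mod_cast hs.ne_zero)] at h1
      obtain ⟨t, ht⟩ := h1
      exact ⟨(t : ZMod s), by rw [scaleUp_intCast, ← hk, ht, Int.cast_mul, Int.cast_natCast]⟩
    choose w hw using hsurj
    refine Nat.card_le_card_of_injective (fun z => ⟨w z, (scaleUp_mem_kerMod A s hm0 _).1 (by
      rw [show (fun i => scaleUp s m (w z i)) = z.1.1 from funext (hw z)]; exact z.1.2)⟩) fun a b e => ?_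
    refine Subtype.ext (Subtype.ext (funext fun i => ?_))
    rw [← hw a i, ← hw b i, show w a = w b from congrArg Subtype.val e]
  · refine Nat.card_le_card_of_injective (fun _ => 0) fun a b _ => Subtype.ext (Subtype.ext (funext fun i => ?_))
    have h0 : ∀ z : {z : kerMod A M // s • z = 0}, z.1.1 i = 0 := fun z => by
      have h1 : s • z.1.1 i = 0 := congrFun (congrArg Subtype.val z.2) i
      rw [nsmul_eq_mul] at h1
      exact (((ZMod.isUnit_iff_coprime s M).2 (hs.coprime_iff_not_dvd.2 hsM)).mul_right_eq_zero).1 h1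
    rw [h0, h0]

/-- At most `s` eigenvectors modulo a prime `s` not dividing `d`, when the characteristic polynomial
divides `X ^ d - 1`. -/
theorem card_kerMod_separable (R : Matrix ι ι ℤ) {d : ℕ} (hR : R.charpoly ∣ X ^ d - 1)
    {s : ℕ} [Fact s.Prime] (hsd : ¬ s ∣ d) (q : ℤ) :
    Nat.card (kerMod (Matrix.scalar ι q - R) s) ≤ s := by
  classical
  set f : Module.End (ZMod s) (ι → ZMod s) := Matrix.toLin' (R.map (Int.cast : ℤ → ZMod s))
  have hle : Module.finrank (ZMod s) (f.eigenspace (q : ZMod s)) ≤ 1 := by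
    refine (LinearMap.finrank_eigenspace_le f _).trans ?_
    refine rootMultiplicity_le_one_of_separable (Separable.of_dvd (f := (X ^ d - 1 : (ZMod s)[X])) ?_ ?_) _
    · exact X_pow_sub_one_separable_iff.2 (by rwa [ne_eq, CharP.cast_eq_zero_iff (ZMod s) s])
    · rw [Matrix.charpoly_toLin', show R.map (Int.cast : ℤ → ZMod s) = R.map (Int.castRingHom (ZMod s)) from rfl,
        Matrix.charpoly_map]
      have h := Polynomial.map_dvd (Int.castRingHom (ZMod s)) hR
      simpa using h
  have he : Nat.card (kerMod (Matrix.scalar ι q - R) s) = Nat.card (f.eigenspace (q : ZMod s)) :=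
    Nat.card_congr (Equiv.subtypeEquivRight fun u => by
      rw [mem_kerMod, Module.End.mem_eigenspace_iff, Matrix.toLin'_apply,
        show (Matrix.scalar ι q - R).map (Int.cast : ℤ → ZMod s) =
          (Int.castRingHom (ZMod s)).mapMatrix (Matrix.scalar ι q - R) from rfl, map_sub, Matrix.sub_mulVec,
        sub_eq_zero, show (Int.castRingHom (ZMod s)).mapMatrix (Matrix.scalar ι q) =
          Matrix.scalar ι (q : ZMod s) from Matrix.ext fun a b => by
            simp [Matrix.scalar_apply, Matrix.diagonal_apply, apply_ite (Int.cast : ℤ → ZMod s)],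
        show Matrix.scalar ι (q : ZMod s) *ᵥ u = (q : ZMod s) • u from funext fun a => by
          simp [Matrix.scalar_apply, Matrix.mulVec_diagonal]]
      exact eq_comm)
  rw [he, Module.natCard_eq_pow_finrank (K := ZMod s), Nat.card_zmod]
  exact le_of_le_of_eq (Nat.pow_le_pow_right (Fact.out : s.Prime).pos hle) (pow_one s)

end CfsgLib.Chev.Springer
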