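import Mathlib
import Cfsg.Agent.Lib.Chev.StTorus
import Cfsg.Agent.Lib.Chev.TorusChar

/-!
Steinberg's group as a functor of the field.
-/

set_option autoImplicit false

namespace CfsgLib.Chev

open Cfsg.Lie

variable {D : ChevalleyDatum} {F L K : Type*} [Field F] [Field L] [Field K]

section Gen

variable (f : F →+* L)

/-- The image of a generator. -/
noncomputable def stMapGen : Fin D.nroots × F → D.SteinbergGroup L :=
  fun p => PresentedGroup.mk (D.steinbergRels L) (D.stX p.1 (f p.2))

lemma lift_stMapGen_stX (r : ℕ) (t : F) :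
    FreeGroup.lift (stMapGen f) (D.stX r t) = PresentedGroup.mk (D.steinbergRels L) (D.stX r (f t)) := by
  unfold ChevalleyDatum.stX
  split_ifs with h
  · rw [FreeGroup.lift_apply_of]
    simp [stMapGen, ChevalleyDatum.stX, h]
  · rw [map_one, map_one]

lemma lift_stMapGen_stWord (w : List (ℕ × F)) :
    FreeGroup.lift (stMapGen (D := D) f) (D.stWord w) =
      PresentedGroup.mk (D.steinbergRels L) (D.stWord (w.map fun p => (p.1, f p.2))) := by
  rw [ChevalleyDatum.stWord, ChevalleyDatum.stWord, map_list_prod, map_list_prod, List.map_map,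
    List.map_map, List.map_map]
  exact congrArg List.prod (List.map_congr_left fun p _ => lift_stMapGen_stX f p.1 p.2)

lemma lift_stMapGen_stH (r : ℕ) (t : F) :
    FreeGroup.lift (stMapGen (D := D) f) (D.stH r t) = PresentedGroup.mk (D.steinbergRels L) (D.stH r (f t)) := by
  rw [ChevalleyDatum.stH, ChevalleyDatum.stH, lift_stMapGen_stWord]
  simp [ChevalleyDatum.hWord, ChevalleyDatum.nWord]

lemma stMapGen_rels : ∀ x ∈ D.steinbergRels F, FreeGroup.lift (stMapGen f) x = 1 := by
  rintro x ((⟨r, a, b, hr, rfl⟩ | ⟨r, s, t, u, hr, hs, hsr, hneg, rfl⟩) | ⟨r, a, b, hr, ha, hb, rfl⟩)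
  · rw [map_mul, map_mul, map_inv, lift_stMapGen_stX, lift_stMapGen_stX, lift_stMapGen_stX, map_add,
      ← map_mul, ← map_inv, ← map_mul]
    exact PresentedGroup.one_of_mem (Or.inl (Or.inl ⟨r, f a, f b, hr, rfl⟩))
  · have hw : (D.commWord F r s t u).map (fun p => (p.1, f p.2)) = D.commWord L r s (f t) (f u) := by
      simp [ChevalleyDatum.commWord, List.map_map, Function.comp_def]
    simp only [map_mul, map_inv, lift_stMapGen_stX, lift_stMapGen_stWord, hw]
    simp only [← map_inv, ← map_mul]
    exact PresentedGroup.one_of_mem (Or.inl (Or.inr ⟨r, s, f t, f u, hr, hs, hsr, hneg, rfl⟩))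
  · rw [map_mul, map_mul, map_inv, lift_stMapGen_stH, lift_stMapGen_stH, lift_stMapGen_stH, map_mul,
      ← map_mul, ← map_inv, ← map_mul]
    exact PresentedGroup.one_of_mem (Or.inr ⟨r, f a, f b, hr,
      (map_ne_zero f).2 ha, (map_ne_zero f).2 hb, rfl⟩)

end Gen

/-- The map of Steinberg groups induced by a field homomorphism. -/
noncomputable def stMap (f : F →+* L) : D.SteinbergGroup F →* D.SteinbergGroup L :=
  PresentedGroup.toGroup (stMapGen_rels f)

lemma stMap_mk (f : F →+* L) (r : ℕ) (t : F) :
    stMap f (PresentedGroup.mk (D.steinbergRels F) (D.stX r t)) =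
      PresentedGroup.mk (D.steinbergRels L) (D.stX r (f t)) :=
  lift_stMapGen_stX f r t

lemma stMap_comp (f : F →+* L) (h : L →+* K) :
    (stMap h).comp (stMap (D := D) f) = stMap (h.comp f) := by
  refine MonoidHom.eq_of_eqOn_dense (closure_gen_eq_top (D.steinbergRels F)) ?_
  rintro _ ⟨r, -, t, rfl⟩
  rw [MonoidHom.comp_apply, stMap_mk, stMap_mk, stMap_mk, RingHom.comp_apply]

variable (g : Good D) (hc : HasComm D)

lemma stMap_y (f : F →+* L) (r : ℕ) (t : F) :
    stMap f ((stData g hc F).y r t) = (stData g hc L).y r (f t) := stMap_mk f r t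

lemma stMap_hY (f : F →+* L) (r : ℕ) (t : Fˣ) :
    stMap f ((stData g hc F).hY r t) = (stData g hc L).hY r (Units.map (f : F →* L) t) := by
  simp [StData.hY, StData.nY, map_mul, stMap_y g hc]

/-- Compatibility with the map onto the Chevalley group. -/
lemma θ_stMap (f : F →+* L) (z : D.SteinbergGroup F) :
    (stData g hc L).θ (stMap f z) = scalarGL D f ((stData g hc F).θ z) := by
  suffices h : (stData g hc L).θ.comp (stMap f) = (scalarGL D f).comp (stData g hc F).θ from
    DFunLike.congr_fun h z
  refine MonoidHom.eq_of_eqOn_dense (closure_gen_eq_top (D.steinbergRels F)) ?_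
  rintro _ ⟨r, hr, t, rfl⟩
  rw [MonoidHom.comp_apply, MonoidHom.comp_apply, stMap_mk]
  rw [show PresentedGroup.mk (D.steinbergRels L) (D.stX r (f t)) = (stData g hc L).y r (f t) from rfl,
    (stData g hc L).θy r hr,
    show PresentedGroup.mk (D.steinbergRels F) (D.stX r t) = (stData g hc F).y r t from rfl,
    (stData g hc F).θy r hr, g.scalarGL_xG f hr]

end CfsgLib.Chev
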