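import Mathlib
import Cfsg.Agent.Lib.Chev.StMap
import Cfsg.Agent.Lib.Chev.StEmb
import Cfsg.Agent.Lib.Chev.KerTorsion
import Cfsg.Agent.Lib.Chev.E6Coxeter
import Cfsg.Agent.Lib.Chev.FixedTorusPow

/-!
In E₆ a twelfth-root torus meets the Chevalley group in a subgroup without elements of order
three: a lift to Steinberg's group would give a torus element fixed by the twisted endomorphism.
-/

set_option autoImplicit false
set_option maxHeartbeats 1000000
set_option maxRecDepth 100000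

namespace CfsgLib.Chev.Springer

open Cfsg.Lie Matrix Polynomial

/-- Three times the inverse of the Cartan matrix. -/
noncomputable def triE6 : Matrix (Fin chevE6.rank) (Fin chevE6.rank) ℤ :=
  listMat _ [[4, 3, 5, 6, 4, 2], [3, 6, 6, 9, 6, 3], [5, 6, 10, 12, 8, 4], [6, 9, 12, 18, 12, 6],
    [4, 6, 8, 12, 10, 5], [2, 3, 4, 6, 5, 4]]

theorem triE6_mul : triE6 * CE6 = (3 : ℤ) • 1 := by decide +kernel

/-- The vector orthogonal to the root lattice modulo three. -/
noncomputable def uE6 : Fin chevE6.rank → ℤ := fun i => nth 0 [1, 0, 2, 0, 1, 2] i.val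

theorem uE6_fixed {π : Equiv.Perm (Fin chevE6.nroots)} (hπ : π ∈ goodE6.weyl) :
    (fun i => (uE6 i : ZMod 3)) ᵥ* (goodE6.coMat π).map (Int.cast : ℤ → ZMod 3) = fun i => (uE6 i : ZMod 3) :=
  coMat_fixed goodE6 _ (by decide +kernel) π hπ

theorem uE6_ne : (fun i => (uE6 i : ZMod 3)) ≠ 0 := by decide +kernel

theorem uE6_kernel : CE6.map (Int.cast : ℤ → ZMod 3) *ᵥ (fun i => (uE6 i : ZMod 3)) = 0 := by decide +kernel

variable {L : Type*} [Field L]

/-- The torus action of a monomial element. -/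
theorem conj_torHom_E6 {n : GL chevE6.Idx L} (hn : n ∈ chevE6.monomialSubgroup L)
    {π : Equiv.Perm (Fin chevE6.nroots)} (hπw : π ∈ goodE6.weyl) (hπ : goodE6.Acts n π)
    (c : Fin chevE6.rank → Lˣ) :
    n * torHom chevE6 L c * n⁻¹ = torHom chevE6 L (powMap (goodE6.coMat π) c) := by
  have hd : n * torHom chevE6 L c * n⁻¹ ∈ chevE6.diagonalSubgroup L := goodE6.diag_conj hn (goodE6.torHom_mem c)
  rw [goodE6.diagonal_eq_range] at hd
  obtain ⟨c', hc'⟩ := hd
  rw [← hc']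
  refine goodE6.torHom_eq_of_simple fun j => ?_
  have h := goodE6.rootVal_conj hπ hc'.symm (π⁻¹ (goodE6.sroot j))
  rw [show π (π⁻¹ (goodE6.sroot j)) = goodE6.sroot j from π.apply_symm_apply _] at h
  have hYC : goodE6.coMat π * CE6 = CE6 * (goodE6.coMat π⁻¹)ᵀ := by
    calc goodE6.coMat π * CE6 = goodE6.coMat π * CE6 * (goodE6.coMat π⁻¹ * goodE6.coMat π)ᵀ := by
          rw [(goodE6.coMat_inv_mul hπw).1, Matrix.transpose_one, mul_one]
      _ = goodE6.coMat π * CE6 * (goodE6.coMat π)ᵀ * (goodE6.coMat π⁻¹)ᵀ := by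
          rw [Matrix.transpose_mul, mul_assoc (goodE6.coMat π * CE6)]
      _ = CE6 * (goodE6.coMat π⁻¹)ᵀ := by rw [form_E6 hπw]
  rw [show chevE6.simple j = ((goodE6.sroot j : Fin chevE6.nroots) : ℕ) from rfl, h,
    goodE6.rootVal_eq_prod c (π⁻¹ (goodE6.sroot j)).2]
  show _ = powMap (cartanMat chevE6) (powMap (goodE6.coMat π) c) j
  rw [← MonoidHom.comp_apply, ← powMap_mul, hYC, powMap_mul, MonoidHom.comp_apply, powMap_apply]
  exact Finset.prod_congr rfl fun i _ => rfl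

/-- The kernel of `torHom` for E₆. -/
theorem card_torHom_ker_E6 [Fintype L] :
    Nat.card (torHom chevE6 L).ker = Nat.gcd (Fintype.card L - 1) 3 := by
  have h2 := Subgroup.card_eq_card_quotient_mul_card_subgroup (torHom chevE6 L).ker
  rw [Nat.card_congr (QuotientGroup.quotientKerEquivRange (torHom chevE6 L)).toEquiv,
    ← goodE6.diagonal_eq_range, Nat.card_fun, Nat.card_units, Nat.card_eq_fintype_card (α := L),
    Nat.card_eq_fintype_card (α := Fin chevE6.rank), Fintype.card_fin, ← card_diagonalE6, mul_comm] at h2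
  exact (Nat.eq_of_mul_eq_mul_left Nat.card_pos h2).symm

/-- No element of order three in the torus of the Chevalley group over the small field. -/
theorem no_three {F : Type*} [Field F] [Fintype L] (ι : F →+* L) (φ : L →+* L) (q : ℕ)
    (hφ : ∀ z, φ z = z ^ q) (hφι : ∀ a, φ (ι a) = ι a) (h27 : 27 ∣ Fintype.card L - 1)
    {gc : GL chevE6.Idx L} (hgc : gc ∈ chevE6.group L)
    {n : GL chevE6.Idx L} (hn : n ∈ chevE6.monomialSubgroup L)
    {π : Equiv.Perm (Fin chevE6.nroots)} (hπw : π ∈ goodE6.weyl) (hπ : goodE6.Acts n π)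
    (hafn : gc⁻¹ * scalarGL chevE6 φ gc * n ∈ chevE6.diagonalSubgroup L)
    (hq1 : ((q : ℤ) : ZMod 3) = 1) (h3 : (3 : ℤ) ∣ (goodE6.coMat π).charpoly.eval (q : ℤ))
    (h9 : ¬ (3 : ℤ) ^ 2 ∣ (goodE6.coMat π).charpoly.eval (q : ℤ))
    {y : ↥(chevE6.group F)} (hy : y ^ 3 = 1)
    (hyd : gc⁻¹ * scalarGL chevE6 ι y * gc ∈ chevE6.diagonalSubgroup L) : y = 1 := by
  classical
  haveI : Fact (Nat.Prime 3) := ⟨Nat.prime_three⟩
  set g := goodE6
  have hc : HasComm chevE6 := hasComm_of_mem (by simp)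
  have hlink : g.Linked := linked_of_mem (by simp) _
  set S := stData g hc L
  set SF := stData g hc F
  obtain ⟨Φ, hle, hθ, hΦs⟩ := S.exists_torus_hom hlink (stData_R3 g hc)
  set M := Fintype.card L - 1
  have hkerc : Nat.card (torHom chevE6 L).ker = 3 := by
    rw [card_torHom_ker_E6, Nat.gcd_comm]
    exact Nat.gcd_eq_left ((by norm_num : 3 ∣ 27).trans h27)
  -- the kernel of the map onto the Chevalley group
  have hker : ∀ z, S.θ z = 1 → ∃ c ∈ (torHom chevE6 L).ker, Φ c = z := fun z hz => by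
    obtain ⟨c, hc'⟩ := hle (S.ker_le_HY hlink (MonoidHom.mem_ker.2 hz))
    exact ⟨c, MonoidHom.mem_ker.2 (by rw [← hθ, hc', hz]), hc'⟩
  have hcen : Subgroup.center (chevE6.SteinbergGroup L) = (torHom chevE6 L).ker.map Φ := by
    rw [← S.ker_eq_center hlink, S.θG_ker]
    refine le_antisymm (fun z hz => ?_) ?_
    · obtain ⟨c, hc1, rfl⟩ := hker z (MonoidHom.mem_ker.1 hz)
      exact ⟨c, hc1, rfl⟩
    · rintro _ ⟨c, hc1, rfl⟩
      rw [MonoidHom.mem_ker, hθ]
      exact hc1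
  have hcard : Nat.card (Subgroup.center (chevE6.SteinbergGroup L)) = 3 := by
    rw [st_card_centerE6]
    exact Nat.gcd_eq_left ((by norm_num : 3 ∣ 27).trans h27)
  have hΦinj : Function.Injective Φ := by
    rw [hcen] at hcard
    haveI : Finite ↥((torHom chevE6 L).ker.map Φ) := Nat.finite_of_card_ne_zero (by omega)
    have hb := ((Nat.bijective_iff_surjective_and_card _).2
      ⟨MonoidHom.subgroupMap_surjective Φ (torHom chevE6 L).ker, hkerc.trans hcard.symm⟩).1
    refine (injective_iff_map_eq_one _).2 fun c hc1 => ?_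
    have hcK : c ∈ (torHom chevE6 L).ker := MonoidHom.mem_ker.2 (by rw [← hθ, hc1, map_one])
    exact congrArg Subtype.val (@hb ⟨c, hcK⟩ 1 (Subtype.ext (by simpa using hc1)))
  have hk3 : ∀ z, S.θ z = 1 → z ^ 3 = 1 ∧ z ∈ Subgroup.center (chevE6.SteinbergGroup L) := fun z hz => by
    obtain ⟨c, hcK, rfl⟩ := hker z hz
    refine ⟨?_, hcen ▸ Subgroup.mem_map_of_mem Φ hcK⟩
    have h := pow_card_eq_one' (G := ↥(torHom chevE6 L).ker) (x := ⟨c, hcK⟩)
    rw [hkerc] at h
    rw [← map_pow, show c ^ 3 = 1 from congrArg Subtype.val h, map_one]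
  -- the endomorphism on the torus
  have hφΦ : ∀ e, stMap φ (Φ e) = Φ (fun i => e i ^ q) := by
    intro e
    have h : (stMap φ).comp Φ = Φ.comp (powMonoidHom q) := by
      refine MonoidHom.pi_ext fun i t => ?_
      rw [MonoidHom.comp_apply, MonoidHom.comp_apply, hΦs, stMap_hY g hc, powMonoidHom_apply,
        show (Pi.mulSingle i t : Fin chevE6.rank → Lˣ) ^ q = Pi.mulSingle i (t ^ q) from
          funext fun k => by simp [Pi.mulSingle_apply, ite_pow], hΦs]
      congr 1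
      exact Units.ext (by simp [hφ])
    exact DFunLike.congr_fun h e
  have hιfix : ∀ z : chevE6.SteinbergGroup F, stMap φ (stMap ι z) = stMap ι z := fun z => by
    rw [← MonoidHom.comp_apply, stMap_comp, show φ.comp ι = ι from RingHom.ext hφι]
  have hlift : ∀ {K : Type _} [Field K] (z : GL chevE6.Idx K), z ∈ chevE6.group K →
      ∃ w, (stData g hc K).θ w = z := fun z hz => by
    obtain ⟨w, hw⟩ := (stData g hc _).θG_surjective ⟨z, hz⟩
    exact ⟨w, congrArg Subtype.val hw⟩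
  obtain ⟨gh, hgh⟩ := hlift gc hgc
  obtain ⟨nh, hnh⟩ := hlift n (g.monomial_le_group hn)
  obtain ⟨yh, hyh⟩ := SF.θG_surjective y
  have hyh' : SF.θ yh = (y : GL chevE6.Idx F) := congrArg Subtype.val hyh
  set z₀ := gh⁻¹ * stMap ι yh * gh with hz₀
  have hz₀θ : S.θ z₀ = gc⁻¹ * scalarGL chevE6 ι y * gc := by
    rw [hz₀, map_mul, map_mul, map_inv, hgh, θ_stMap g hc, hyh']
  have hrange : ∀ z, S.θ z ∈ chevE6.diagonalSubgroup L → ∃ e, Φ e = z := by
    intro z hz
    rw [g.diagonal_eq_range] at hz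
    obtain ⟨e, he⟩ := hz
    obtain ⟨c, -, hc'⟩ := hker ((Φ e)⁻¹ * z) (by rw [map_mul, map_inv, hθ, he, inv_mul_cancel])
    exact ⟨e * c, by rw [map_mul, hc', mul_inv_cancel_left]⟩
  obtain ⟨e₀, he₀⟩ := hrange z₀ (hz₀θ ▸ hyd)
  set ah := gh⁻¹ * stMap φ gh with hah
  obtain ⟨a, ha⟩ := hrange (ah * nh) (by
    rw [map_mul, hah, map_mul, map_inv, hgh, θ_stMap g hc, hgh, hnh]; exact hafn)
  have hφz : stMap φ z₀ = nh * z₀ * nh⁻¹ := by
    have e1 : stMap φ z₀ = ah⁻¹ * z₀ * ah := by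
      rw [hz₀, map_mul, map_mul, map_inv, hιfix, hah]; group
    have e2 : ah = Φ a * nh⁻¹ := by rw [ha]; group
    rw [e1, e2, ← he₀]
    calc (Φ a * nh⁻¹)⁻¹ * Φ e₀ * (Φ a * nh⁻¹) = nh * ((Φ a)⁻¹ * Φ e₀ * Φ a) * nh⁻¹ := by group
      _ = _ := by rw [← map_inv, ← map_mul, ← map_mul, mul_right_comm, inv_mul_cancel, one_mul]
  -- the two actions agree on cubes
  have hcube : ∀ e, nh * Φ (e ^ 3) * nh⁻¹ = Φ (powMap (g.coMat π) (e ^ 3)) := by
    intro e
    set k := nh * Φ e * nh⁻¹ * (Φ (powMap (g.coMat π) e))⁻¹ with hk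
    obtain ⟨hk1, hk2⟩ := hk3 k (by
      rw [hk, map_mul, map_mul, map_mul, map_inv, map_inv, hθ, hθ, hnh, conj_torHom_E6 hn hπw hπ,
        mul_inv_cancel])
    have h : nh * Φ e * nh⁻¹ = k * Φ (powMap (g.coMat π) e) := by rw [hk]; group
    rw [map_pow, map_pow, map_pow, ← conj_pow, h, (show Commute k (Φ (powMap (g.coMat π) e)) from (Subgroup.mem_center_iff.1 hk2 _).symm).mul_pow, hk1, one_mul]
  -- the exponents of the torus element
  have he9 : ∀ i, e₀ i ^ 9 = 1 := by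
    intro i
    have h1 : e₀ ^ 3 ∈ (torHom chevE6 L).ker := by
      rw [MonoidHom.mem_ker, map_pow, ← hθ, he₀, hz₀θ]
      have := congrArg (fun z : ↥(chevE6.group F) => (z : GL chevE6.Idx F)) hy
      simp only [SubmonoidClass.coe_pow, OneMemClass.coe_one] at this
      rw [show gc⁻¹ * scalarGL chevE6 ι y * gc = gc⁻¹ * scalarGL chevE6 ι y * gc⁻¹⁻¹ by rw [inv_inv],
        conj_pow, ← map_pow, this, map_one, mul_one, inv_inv, inv_mul_cancel]
    have h2 := congrArg Subtype.val (pow_card_eq_one' (G := ↥(torHom chevE6 L).ker) (x := ⟨_, h1⟩))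
    rw [hkerc] at h2
    have h3 := congrFun h2 i
    simp only [SubmonoidClass.coe_pow, Pi.pow_apply, OneMemClass.coe_one, Pi.one_apply] at h3
    rw [← h3, ← pow_mul]
  obtain ⟨γ, hγ⟩ := IsCyclic.exists_generator (α := Lˣ)
  obtain ⟨m, hm⟩ := h27
  have hM0 : 0 < M := Nat.sub_pos_of_lt Fintype.one_lt_card
  have hm0 : 0 < m := Nat.pos_of_ne_zero fun h0 => by rw [h0, mul_zero] at hm; omega
  set δ := γ ^ (3 * m) with hδ
  have hγo : orderOf γ = M := by
    rw [orderOf_eq_card_of_forall_mem_zpowers hγ, Nat.card_units, Nat.card_eq_fintype_card]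
  have hδo : orderOf δ = 9 := by
    rw [hδ, orderOf_pow_of_dvd (by omega) (by rw [hγo]; exact ⟨9, by omega⟩), hγo,
      show M = 3 * m * 9 by omega, Nat.mul_div_cancel_left _ (by omega)]
  have hδz : ∀ x z : ℤ, δ ^ x = δ ^ z ↔ (x : ZMod 9) = (z : ZMod 9) := fun x z => by
    rw [ZMod.intCast_eq_intCast_iff_dvd_sub, ← hδo, orderOf_dvd_iff_zpow_eq_one, _root_.zpow_sub,
      mul_inv_eq_one]
    exact ⟨fun h => h.symm, fun h => h.symm⟩
  have hex : ∀ i, ∃ w : ℤ, δ ^ w = e₀ i := by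
    intro i
    obtain ⟨k, hk⟩ := Subgroup.mem_zpowers_iff.1 (hγ (e₀ i))
    have h := he9 i
    rw [← hk, ← zpow_natCast, ← _root_.zpow_mul, ← orderOf_dvd_iff_zpow_eq_one, hγo,
      show (M : ℤ) = (3 * (m : ℤ)) * 9 by omega, Nat.cast_ofNat, mul_dvd_mul_iff_right (by norm_num)] at h
    obtain ⟨w, hw⟩ := h
    exact ⟨w, by rw [hδ, ← zpow_natCast, ← _root_.zpow_mul, ← hk, hw]; push_cast; rfl⟩
  choose w hw using hex
  set Y := g.coMat π
  have hfix : ∀ j, (((Matrix.scalar _ (q : ℤ) - Yᵀ) *ᵥ w) j : ZMod 9) = 0 := by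
    intro j
    have hcubes : e₀ = (fun i => (γ ^ m) ^ w i) ^ 3 := funext fun i => by
      rw [Pi.pow_apply, ← hw i, hδ, ← zpow_natCast ((γ ^ m) ^ w i), ← _root_.zpow_mul, ← zpow_natCast γ,
        ← zpow_natCast γ, ← _root_.zpow_mul, ← _root_.zpow_mul]
      congr 1
      push_cast; ring
    have e : Φ (fun i => e₀ i ^ q) = Φ (powMap Y e₀) := by
      rw [← hφΦ, he₀, hφz, ← he₀, hcubes]
      exact hcube _
    have e' := congrFun (hΦinj e) j
    rw [powMap_apply] at e'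
    simp only [← hw, ← zpow_natCast, ← _root_.zpow_mul, ← zpow_finsum, hδz] at e'
    rw [Matrix.sub_mulVec, Pi.sub_apply, Int.cast_sub, sub_eq_zero]
    refine Eq.trans ?_ (e'.trans ?_)
    · rw [Matrix.scalar_apply, Matrix.mulVec_diagonal, mul_comm]
    · rw [Matrix.mulVec, dotProduct]
      congr 1
      exact Finset.sum_congr rfl fun i _ => mul_comm _ _
  -- the exponents vanish modulo three
  set A := Matrix.scalar _ (q : ℤ) - Yᵀ with hA
  have hdet : A.det = Y.charpoly.eval (q : ℤ) := by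
    rw [hA, ← Matrix.charpoly_transpose, Matrix.eval_charpoly]
  have hA0 : A.det ≠ 0 := fun h0 => h9 (by rw [← hdet, h0]; exact dvd_zero _)
  have hw3 : ∀ i, (3 : ℤ) ∣ w i := by
    intro i
    have hd : ∀ j, (9 : ℤ) ∣ (A *ᵥ w) j := fun j => (ZMod.intCast_zmod_eq_zero_iff_dvd _ 9).1 (hfix j)
    have h1 : (9 : ℤ) ∣ A.det * w i := by
      have e : A.det * w i = (A.adjugate *ᵥ (A *ᵥ w)) i := by
        rw [Matrix.mulVec_mulVec, Matrix.adjugate_mul, Matrix.smul_mulVec, Matrix.one_mulVec]; rfl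
      rw [e]
      show (9 : ℤ) ∣ ∑ j, A.adjugate i j * (A *ᵥ w) j
      exact Finset.dvd_sum fun j _ => (hd j).mul_left _
    obtain ⟨N', hN'⟩ := h3
    rw [hdet, hN', show (9 : ℤ) = 3 * 3 by norm_num, mul_assoc, mul_dvd_mul_iff_left (by norm_num)] at h1
    refine (Int.prime_three.dvd_mul.1 h1).resolve_left fun h => h9 ?_
    rw [hN', pow_two]
    exact mul_dvd_mul_left _ h
  choose w' hw' using hw3
  have hwK : (fun i => (w' i : ZMod 3)) ∈ kerMod A 3 := intCast_mem_kerMod.2 fun j => by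
    have h := (ZMod.intCast_zmod_eq_zero_iff_dvd _ 9).1 (hfix j)
    rw [show w = (3 : ℤ) • w' from funext hw', Matrix.mulVec_smul, Pi.smul_apply, smul_eq_mul,
      show ((9 : ℕ) : ℤ) = 3 * 3 by norm_num, mul_dvd_mul_iff_left (by norm_num)] at h
    exact (ZMod.intCast_zmod_eq_zero_iff_dvd _ 3).2 h
  -- the kernel modulo three is the line of `uE6`
  have hCw : ∀ j, (((CE6 *ᵥ w') j : ℤ) : ZMod 3) = 0 := by
    set u : Fin chevE6.rank → ZMod 3 := fun i => (uE6 i : ZMod 3) with hu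
    have hmap : A.map (Int.cast : ℤ → ZMod 3) =
        Matrix.scalar (Fin chevE6.rank) ((q : ℤ) : ZMod 3) - (Y.map (Int.cast : ℤ → ZMod 3))ᵀ := by
      rw [show A.map (Int.cast : ℤ → ZMod 3) = (Int.castRingHom (ZMod 3)).mapMatrix A from rfl, hA, map_sub]
      refine congrArg₂ (· - ·) (Matrix.ext fun a b => ?_) (Matrix.transpose_map).symm
      rcases eq_or_ne a b with rfl | hab
      · simp
      · simp [hab]
    have hmulA : A.map (Int.cast : ℤ → ZMod 3) *ᵥ u = (((q : ℤ) : ZMod 3) - 1) • u := by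
      rw [hmap, Matrix.sub_mulVec, Matrix.mulVec_transpose, uE6_fixed hπw, sub_smul, one_smul]
      congr 1
      funext a
      simp [Matrix.scalar_apply, Matrix.mulVec_diagonal]
    have hcount := card_kerMod_prime A (s := 3) hA0 (by rw [hdet]; exact_mod_cast h9)
    have huK : u ∈ kerMod A 3 := by rw [mem_kerMod, hmulA, hq1, sub_self, zero_smul]
    have hu0 : u ≠ 0 := uE6_ne
    have hsub : Function.Surjective (fun t : ZMod 3 => (⟨t • u, by
        rw [mem_kerMod, Matrix.mulVec_smul, mem_kerMod.1 huK, smul_zero]⟩ : kerMod A 3)) := by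
      haveI : Finite (kerMod A 3) := inferInstance
      refine ((Nat.bijective_iff_injective_and_card _).2 ⟨fun a b e => smul_left_injective _ hu0
        (congrArg Subtype.val e), ?_⟩).2
      refine le_antisymm (Nat.card_le_card_of_injective (fun t : ZMod 3 => (⟨t • u, by
        rw [mem_kerMod, Matrix.mulVec_smul, mem_kerMod.1 huK, smul_zero]⟩ : kerMod A 3)) fun a b e =>
          smul_left_injective _ hu0 (congrArg Subtype.val e)) (hcount.trans (by rw [Nat.card_zmod]))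
    obtain ⟨t, ht⟩ := hsub ⟨_, hwK⟩
    intro j
    have e : (fun i => (w' i : ZMod 3)) = t • u := (congrArg Subtype.val ht).symm
    have e2 : (((CE6 *ᵥ w') j : ℤ) : ZMod 3) = (CE6.map (Int.cast : ℤ → ZMod 3) *ᵥ fun i => (w' i : ZMod 3)) j := by
      simp [Matrix.mulVec, dotProduct]
    rw [e2, e, Matrix.mulVec_smul, uE6_kernel, smul_zero, Pi.zero_apply]
  -- the element is trivial
  have hz1 : torHom chevE6 L e₀ = 1 := by
    rw [g.torHom_eq_one_iff]
    funext j
    rw [powMap_apply, Pi.one_apply]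
    simp only [← hw, ← _root_.zpow_mul, ← zpow_finsum]
    rw [← _root_.zpow_zero δ, hδz, Int.cast_zero, ZMod.intCast_zmod_eq_zero_iff_dvd]
    obtain ⟨t, ht⟩ := (ZMod.intCast_zmod_eq_zero_iff_dvd _ 3).1 (hCw j)
    refine ⟨t, ?_⟩
    rw [Nat.cast_ofNat, show (9 : ℤ) * t = 3 * (3 * t) by ring,
      show (3 : ℤ) * t = (CE6 *ᵥ w') j by rw [ht]; norm_num, Matrix.mulVec, dotProduct, Finset.mul_sum]
    refine Finset.sum_congr rfl fun i _ => ?_
    rw [hw', CE6_symm.apply i j]; ring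
  rw [← hθ, he₀, hz₀θ] at hz1
  refine Subtype.ext (scalarGL_injective ι ?_)
  rw [OneMemClass.coe_one, map_one]
  calc scalarGL chevE6 ι y = gc * (gc⁻¹ * scalarGL chevE6 ι y * gc) * gc⁻¹ := by group
    _ = 1 := by rw [hz1, mul_one, mul_inv_cancel]

end CfsgLib.Chev.Springer
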