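import Cfsg.Agent.Lib.Chev.SLInvolMain
import Cfsg.Agent.Lib.Chev.Good
import Cfsg.Agent.Lib.Chev.CommGood

/-!
Kernel checks for the classes of involutions of type E6 in characteristic two.
-/

set_option autoImplicit false
set_option maxRecDepth 100000

namespace CfsgLib.Chev.SLInvol

open Cfsg.Lie

/-- The order of the coordinates. -/
def ordE6 : List ℕ := [0, 5, 4, 2, 1, 3]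

/-- The nodes: representatives of the sets of pairwise orthogonal roots. -/
def nodesE6 : List (List ℕ) := [
  [],
  [71],
  [60, 71],
  [44, 60, 71],
  [39, 44, 60, 71]]

/-- Transitions out of node 0. -/
def transE6_0 : List (ℕ × List ℕ × ℕ) := [
  (71, [], 1),
  (70, [1], 1),
  (69, [1, 3, 1], 1),
  (68, [1, 3, 4, 3, 1], 1),
  (67, [1, 3, 4, 5, 4, 3, 1], 1),
  (66, [1, 2, 3, 1, 2], 1),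
  (65, [1, 2, 3, 4, 3, 1, 2], 1),
  (64, [1, 2, 3, 4, 5, 4, 3, 1, 2], 1),
  (63, [3, 1, 2, 3, 4, 3, 1, 2, 3], 1),
  (62, [3, 1, 2, 3, 4, 5, 4, 3, 1, 2, 3], 1),
  (61, [4, 3, 1, 2, 3, 4, 5, 4, 3, 1, 2, 3, 4], 1),
  (55, [0, 1, 2, 3, 1, 2, 0], 1),
  (54, [0, 1, 2, 3, 4, 3, 1, 2, 0], 1),
  (53, [0, 1, 2, 3, 4, 5, 4, 3, 1, 2, 0], 1),
  (52, [0, 3, 1, 2, 3, 4, 3, 1, 2, 0, 3], 1),
  (51, [0, 3, 1, 2, 3, 4, 5, 4, 3, 1, 2, 0, 3], 1),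
  (50, [0, 4, 3, 1, 2, 3, 4, 5, 4, 3, 1, 2, 0, 3, 4], 1),
  (49, [2, 0, 3, 1, 2, 3, 4, 3, 1, 2, 0, 3, 2], 1),
  (48, [2, 0, 3, 1, 2, 3, 4, 5, 4, 3, 1, 2, 0, 3, 2], 1),
  (47, [2, 0, 4, 3, 1, 2, 3, 4, 5, 4, 3, 1, 2, 0, 3, 2, 4], 1),
  (46, [3, 2, 0, 4, 3, 1, 2, 3, 4, 5, 4, 3, 1, 2, 0, 3, 2, 4, 3], 1),
  (0, [1, 3, 2, 0, 4, 3, 1, 2, 3, 4, 5, 4, 3, 1, 2, 0, 3, 2, 4, 3, 1], 1),
  (60, [1, 3, 1, 2, 3, 4, 3, 1, 2, 3], 1),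
  (59, [1, 3, 1, 2, 3, 4, 5, 4, 3, 1, 2, 3], 1),
  (58, [1, 4, 3, 1, 2, 3, 4, 5, 4, 3, 1, 2, 3, 4], 1),
  (45, [0, 1, 3, 1, 2, 3, 4, 3, 1, 2, 0, 3], 1),
  (44, [0, 1, 3, 1, 2, 3, 4, 5, 4, 3, 1, 2, 0, 3], 1),
  (43, [0, 1, 4, 3, 1, 2, 3, 4, 5, 4, 3, 1, 2, 0, 3, 4], 1),
  (41, [1, 2, 0, 3, 1, 2, 3, 4, 3, 1, 2, 0, 3, 2], 1),
  (40, [1, 2, 0, 3, 1, 2, 3, 4, 5, 4, 3, 1, 2, 0, 3, 2], 1),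
  (39, [1, 2, 0, 4, 3, 1, 2, 3, 4, 5, 4, 3, 1, 2, 0, 3, 2, 4], 1),
  (1, [1, 3, 2, 0, 4, 3, 1, 2, 3, 4, 5, 4, 3, 1, 2, 0, 3, 2, 4, 3], 1),
  (25, [3, 2, 0, 4, 3, 1, 2, 3, 4, 5, 4, 3, 1, 2, 0, 3, 2, 4, 3, 1], 1),
  (57, [1, 3, 1, 4, 3, 1, 2, 3, 4, 5, 4, 3, 1, 2, 3, 4], 1),
  (42, [0, 1, 3, 1, 4, 3, 1, 2, 3, 4, 5, 4, 3, 1, 2, 0, 3, 4], 1),
  (38, [1, 2, 0, 3, 1, 2, 0, 3, 2, 4, 3, 1, 2, 0, 3, 2], 1),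
  (37, [1, 2, 0, 3, 1, 2, 0, 3, 2, 4, 5, 4, 3, 1, 2, 0, 3, 2], 1),
  (2, [1, 3, 1, 2, 0, 4, 3, 1, 2, 3, 4, 5, 4, 3, 1, 2, 0, 3, 2, 4], 1),
  (32, [3, 1, 2, 0, 4, 3, 1, 2, 3, 4, 5, 4, 3, 1, 2, 0, 3, 2, 4, 3], 1),
  (24, [1, 2, 0, 4, 3, 1, 2, 3, 4, 5, 4, 3, 1, 2, 0, 3, 2, 4, 3, 1], 1),
  (36, [1, 2, 0, 3, 1, 2, 0, 3, 4, 3, 1, 2, 0, 3, 2, 4, 3, 1], 1),
  (3, [1, 3, 2, 0, 4, 3, 1, 2, 0, 3, 2, 4, 5, 4, 3, 1, 2, 0, 3, 2], 1),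
  (34, [1, 2, 0, 4, 3, 1, 2, 0, 3, 2, 4, 5, 4, 3, 1, 2, 0, 3, 2, 4], 1),
  (31, [3, 1, 2, 0, 4, 3, 1, 2, 0, 3, 2, 4, 5, 4, 3, 1, 2, 0, 3, 2, 4, 3], 1),
  (23, [1, 2, 0, 3, 1, 2, 0, 3, 4, 5, 4, 3, 1, 2, 0, 3, 2, 4, 3, 1], 1),
  (4, [1, 3, 2, 0, 4, 3, 1, 2, 3, 5, 4, 3, 1, 2, 0, 3, 2, 4, 3, 1], 1),
  (35, [1, 2, 0, 3, 1, 2, 0, 3, 5, 4, 3, 1, 2, 0, 3, 2, 4, 3, 1, 5], 1),
  (33, [1, 2, 0, 4, 3, 1, 2, 0, 3, 5, 4, 3, 1, 2, 0, 3, 2, 4, 3, 1, 5, 4], 1),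
  (30, [3, 1, 2, 0, 4, 3, 1, 2, 0, 3, 5, 4, 3, 1, 2, 0, 3, 2, 4, 3, 1, 5, 4, 3], 1),
  (22, [1, 2, 0, 3, 1, 2, 0, 3, 4, 3, 1, 2, 0, 3, 2, 4, 5, 4, 3, 1], 1),
  (56, [1, 2, 3, 1, 2, 4, 3, 1, 2, 3, 4, 5, 4, 3, 1, 2, 3, 4], 1),
  (5, [1, 2, 3, 1, 2, 0, 4, 3, 1, 2, 3, 4, 5, 4, 3, 1, 2, 0, 3, 4], 1),
  (29, [1, 2, 0, 3, 1, 4, 3, 1, 2, 3, 4, 5, 4, 3, 1, 2, 0, 3, 2, 4], 1),
  (28, [2, 3, 1, 2, 0, 3, 4, 3, 1, 2, 3, 4, 5, 4, 3, 1, 2, 0, 3, 2, 4, 3], 1),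
  (21, [0, 1, 3, 4, 3, 1, 2, 3, 4, 5, 4, 3, 1, 2, 0, 3, 2, 4, 3, 1], 1),
  (6, [1, 2, 3, 2, 0, 4, 3, 1, 2, 0, 3, 2, 4, 5, 4, 3, 1, 2, 0, 3], 1),
  (27, [2, 3, 1, 2, 0, 4, 3, 1, 2, 0, 3, 2, 4, 3, 5, 4, 3, 1, 2, 0, 3, 2, 4, 3], 1),
  (20, [0, 1, 3, 1, 2, 0, 3, 4, 3, 5, 4, 3, 1, 2, 0, 3, 2, 4, 3, 1], 1),
  (7, [1, 2, 3, 2, 0, 4, 3, 1, 2, 5, 4, 3, 1, 2, 0, 3, 2, 4, 3, 1], 1),
  (26, [2, 3, 1, 2, 0, 4, 3, 1, 2, 0, 3, 5, 4, 3, 1, 2, 0, 3, 2, 4, 3, 1, 5, 4, 3, 2], 1),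
  (19, [0, 1, 3, 1, 2, 0, 3, 4, 3, 1, 2, 0, 3, 2, 4, 5, 4, 3, 1, 2], 1),
  (8, [1, 3, 1, 2, 0, 3, 4, 3, 1, 2, 0, 3, 2, 4, 5, 4, 3, 1, 2, 0], 1),
  (18, [0, 1, 2, 3, 2, 0, 4, 3, 2, 5, 4, 3, 1, 2, 0, 3, 2, 4, 3, 1], 1),
  (9, [1, 3, 1, 2, 0, 3, 4, 3, 1, 5, 4, 3, 1, 2, 0, 3, 2, 4, 3, 1], 1),
  (17, [0, 1, 2, 3, 2, 0, 4, 3, 1, 2, 0, 3, 2, 4, 5, 4, 3, 1, 2, 3], 1),
  (10, [1, 3, 2, 4, 3, 1, 2, 3, 4, 5, 4, 3, 1, 2, 0, 3, 2, 4, 3, 1], 1),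
  (16, [0, 1, 2, 3, 1, 2, 0, 4, 3, 1, 2, 3, 4, 5, 4, 3, 1, 2, 3, 4], 1),
  (15, [0, 1, 2, 3, 1, 2, 4, 3, 1, 2, 3, 4, 5, 4, 3, 1, 2, 0, 3, 4], 1),
  (14, [0, 1, 2, 0, 3, 1, 2, 4, 3, 1, 2, 3, 4, 5, 4, 3, 1, 2, 0, 3, 2, 4], 1),
  (13, [0, 2, 3, 1, 2, 0, 3, 2, 4, 3, 1, 2, 3, 4, 5, 4, 3, 1, 2, 0, 3, 2, 4, 3], 1),
  (12, [0, 2, 3, 1, 2, 0, 4, 3, 1, 2, 0, 3, 2, 4, 3, 1, 5, 4, 3, 1, 2, 0, 3, 2, 4, 3], 1),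
  (11, [0, 2, 3, 1, 2, 0, 4, 3, 1, 2, 0, 3, 5, 4, 3, 1, 2, 0, 3, 2, 4, 3, 1, 5, 4, 3, 2, 0], 1)]

/-- Transitions out of node 1. -/
def transE6_1 : List (ℕ × List ℕ × ℕ) := [
  (60, [], 2),
  (59, [5], 2),
  (58, [4, 5, 4], 2),
  (57, [3, 4, 5, 4, 3], 2),
  (56, [2, 3, 4, 5, 4, 3, 2], 2),
  (45, [0], 2),
  (41, [0, 2, 0], 2),
  (38, [0, 2, 3, 2, 0], 2),
  (36, [0, 2, 3, 4, 3, 2, 0], 2),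
  (11, [0, 2, 3, 4, 5, 4, 3, 2, 0], 2),
  (44, [0, 5], 2),
  (40, [0, 2, 0, 5], 2),
  (37, [0, 2, 3, 2, 0, 5], 2),
  (12, [0, 2, 3, 5, 4, 3, 2, 0], 2),
  (35, [0, 2, 3, 4, 3, 2, 0, 5], 2),
  (43, [0, 4, 5, 4], 2),
  (39, [0, 2, 0, 4, 5, 4], 2),
  (13, [0, 2, 4, 5, 4, 3, 2, 0], 2),
  (34, [0, 2, 4, 3, 2, 0, 5, 4], 2),
  (33, [0, 2, 3, 2, 0, 4, 5, 4], 2),
  (42, [0, 3, 4, 5, 4, 3], 2),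
  (14, [0, 3, 4, 5, 4, 3, 2, 0], 2),
  (32, [0, 3, 2, 0, 4, 5, 4, 3], 2),
  (31, [0, 3, 2, 4, 3, 2, 0, 5, 4, 3], 2),
  (30, [0, 2, 0, 3, 4, 5, 4, 3], 2),
  (15, [2, 3, 4, 5, 4, 3, 2, 0], 2),
  (29, [2, 0, 3, 4, 5, 4, 3, 2], 2),
  (28, [2, 0, 3, 2, 0, 4, 5, 4, 3, 2], 2),
  (27, [2, 0, 3, 2, 4, 3, 2, 0, 5, 4, 3, 2], 2),
  (26, [0, 2, 3, 4, 5, 4, 3, 2], 2)]

/-- Transitions out of node 2. -/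
def transE6_2 : List (ℕ × List ℕ × ℕ) := [
  (44, [], 3),
  (43, [4], 3),
  (42, [3, 4, 3], 3),
  (40, [2], 3),
  (37, [2, 3, 2], 3),
  (27, [2, 3, 4, 3, 2], 3),
  (39, [2, 4], 3),
  (28, [2, 4, 3, 2], 3),
  (34, [2, 3, 2, 4], 3),
  (29, [3, 4, 3, 2], 3),
  (32, [3, 2, 4, 3], 3),
  (31, [2, 3, 4, 3], 3)]

/-- Transitions out of node 3. -/
def transE6_3 : List (ℕ × List ℕ × ℕ) := [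
  (39, [], 4),
  (32, [3], 4)]

/-- Transitions out of node 4. -/
def transE6_4 : List (ℕ × List ℕ × ℕ) := []

/-- The transitions. -/
def transE6 : List (List (ℕ × List ℕ × ℕ)) := [
  transE6_0,
  transE6_1,
  transE6_2,
  transE6_3,
  transE6_4]

/-- The representatives. -/
def repsE6 : List (List ℕ) := [[71], [68, 66], [55, 65, 67]]

/-- The moves of the nodes onto the representatives. -/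
def movesE6 : List (List (List ℕ × List ℕ) × ℕ) := [
  ([], 3),
  ([([], [])], 0),
  ([([], [1, 3, 4, 3, 1])], 1),
  ([([], [0, 2, 1, 3, 1, 0])], 2),
  ([([], [0, 2, 1, 3, 1, 0]), ([63, 51, 47, 25], [0, 1, 2, 0, 3, 2, 4, 3, 2, 0, 5, 4, 3, 1, 2, 0])], 2)]

theorem slE6_block0 : slBlock chevE6 dataE6 36 0 = true := by decide +kernel

theorem slE6_block1 : slBlock chevE6 dataE6 36 1 = true := by decide +kernel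

theorem slE6 : SLFacts chevE6 dataE6 sdataE6 where
  good := goodE6
  comm := hasComm_of_mem (by simp)
  lie := checksE6
  struc := structChecksE6
  ord := by decide +kernel
  sl := by
    refine slOK_intro _ _ (m := 36) (k := 2) (by decide +kernel) (by norm_num) fun c hc => ?_
    interval_cases c
    · exact slE6_block0
    · exact slE6_block1

theorem levelsE6 : ordLevels chevE6 dataE6 ordE6 0 = true := by decide +kernel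

theorem transE6_ok : ∀ i < nodesE6.length, transOK chevE6 sdataE6 nodesE6 transE6 i = true := by
  decide +kernel

theorem movesE6_ok : ∀ i < nodesE6.length, termOK chevE6 sdataE6 nodesE6 repsE6 movesE6 i = true := by
  decide +kernel

/-- Every involution is conjugate to a representative. -/
theorem classesE6 {F : Type*} [Field F] [CharP F 2] [Fintype F] {x : GL chevE6.Idx F}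
    (hx : x ∈ chevE6.group F) (ho : orderOf x = 2) :
    ∃ R ∈ repsE6, InvolMono.GConj x (prodOne slE6.good F R) :=
  slE6.classes (fun u hu hu2 => slE6.hU_abelian levelsE6 u hu hu2) (N := nodesE6) (T := transE6) (M := movesE6) rfl (by decide)
    transE6_ok movesE6_ok hx ho

end CfsgLib.Chev.SLInvol
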