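import Cfsg.Agent.Lib.Chev.E6SLData

/-!
Ranks of the representatives of type E6.
-/

set_option autoImplicit false
set_option maxRecDepth 100000

namespace CfsgLib.Chev.SLInvol

open Cfsg.Lie

/-- Certificate. -/
def rkE6_0U : List (List ℕ) := [[0, 21, 54, 56], [52], [53], [54], [55], [56], [57], [58], [59], [60], [61], [67], [68], [69], [70], [71], [72], [73], [74], [75], [76], [77], [22], [23], [24], [25], [26], [27], [28], [29], [30], [31], [32], [33], [34], [35], [36], [37], [38], [39], [40], [41], [42], [43], [44], [45], [46], [47], [48], [49], [50], [51], [1], [2], [3], [4], [5], [6], [7], [8], [9], [10], [62], [63], [64], [65], [66], [11], [12], [13], [14], [15], [16], [17], [18], [19], [20], [21]]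

/-- Certificate. -/
def rkE6_0W : List (List ℕ) := [[6], [7], [8], [9], [10], [11], [12], [13], [14], [15], [16], [22], [23], [24], [25], [26], [27], [28], [29], [30], [31], [1], [5], [0], [21], [2], [3], [4], [17], [18], [19], [20], [32], [33], [34], [35], [36], [37], [38], [39], [40], [41], [42], [43], [44], [45], [46], [47], [48], [49], [50], [51], [52], [53], [54], [55], [56], [57], [58], [59], [60], [61], [62], [63], [64], [65], [66], [67], [68], [69], [70], [71], [72], [73], [74], [75], [76], [77]]

/-- Certificate. -/
def rkE6_0B : List (List ℕ) := [[0, 3, 5, 77], [52], [53], [54], [55], [56], [57], [58], [59], [60], [61], [67], [68], [69], [70], [71], [72], [73], [74], [75], [76], [77], [22], [23], [24], [25], [26], [27], [28], [29], [30], [31], [32], [33], [34], [35], [36], [37], [38], [39], [40], [41], [42], [43], [44], [45], [46], [47], [48], [49], [50], [51], [1], [2], [3], [4], [5], [6], [7], [8], [9], [10], [62], [63], [64], [65], [66], [11], [12], [13], [14], [15], [16], [17], [18], [19], [20], [21]]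

/-- Certificate. -/
def rkE6_0C : List (List ℕ) := [[23], [21], [25], [26], [27], [22], [0], [1], [2], [3], [4], [5], [6], [7], [8], [9], [10], [28], [29], [30], [31], [24], [11], [12], [13], [14], [15], [16], [17], [18], [19], [20], [32], [33], [34], [35], [36], [37], [38], [39], [40], [41], [42], [43], [44], [45], [46], [47], [48], [49], [50], [51], [52], [53], [54], [55], [56], [57], [58], [59], [60], [61], [62], [63], [64], [65], [66], [67], [68], [69], [70], [71], [72], [73], [74], [75], [76], [77]]

theorem rankE6_0 : rankOK chevE6 [71] 22 rkE6_0U rkE6_0W rkE6_0B rkE6_0C = true := by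
  decide +kernel

/-- Certificate. -/
def rkE6_1U : List (List ℕ) := [[75], [1, 31, 35, 42, 75], [0, 1, 30, 31, 35], [34], [35], [42], [43], [44], [46], [47], [51], [54], [55], [58], [60], [61], [62], [63], [64], [65], [67], [68], [70], [73], [66], [69], [71], [2, 24, 77], [76], [77], [72], [74], [32], [33], [3, 25, 37], [4, 26, 40], [36], [37], [38], [39], [40], [41], [5], [6, 27, 48], [7], [45], [8, 28, 49], [9], [48], [49], [50], [10], [52], [53], [11, 29, 56], [12], [56], [57], [13], [59], [14], [15], [16], [17], [18], [19], [24], [20], [21], [25], [22], [26], [30], [23], [31], [27], [28], [29]]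

/-- Certificate. -/
def rkE6_1W : List (List ℕ) := [[11], [9], [6], [7], [8], [10], [12], [13], [14], [15], [16], [17], [18], [19], [20], [21], [22], [23], [25], [28], [32], [36], [39], [41], [27], [34], [35], [43], [46], [54], [0], [0, 4], [31], [33], [2, 4], [26], [1], [34, 37], [38], [0, 4, 5], [35, 40], [30], [42], [24], [44], [45], [3], [47], [43, 48], [46, 49], [50], [51], [52], [53], [27, 29], [55], [54, 56], [57], [58], [59], [60], [61], [62], [63], [64], [65], [66], [67], [68], [69], [70], [71], [72], [73], [74], [75], [76], [77]]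

/-- Certificate. -/
def rkE6_1B : List (List ℕ) := [[0, 1, 2, 5, 72], [0, 1, 4, 5, 74], [27, 29, 66], [34, 37, 69], [35, 40, 71], [42], [43, 48, 75], [44], [46, 49, 76], [47], [51], [54, 56, 77], [55], [58], [60], [61], [62], [63], [64], [65], [67], [68], [70], [73], [66], [69], [71], [75], [76], [77], [72], [74], [32], [33], [3], [4], [36], [37], [38], [39], [40], [41], [5], [6], [7], [45], [8], [9], [48], [49], [50], [10], [52], [53], [11], [12], [56], [57], [13], [59], [14], [15], [16], [17], [18], [19], [24], [20], [21], [25], [22], [26], [30], [23], [31], [0], [28], [29]]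

/-- Certificate. -/
def rkE6_1C : List (List ℕ) := [[30], [36], [30, 31, 34], [46], [30, 31], [31, 39], [2], [3], [4], [1], [5], [0], [6], [7], [8], [9], [10], [11], [12], [13], [14], [15], [16], [17], [43], [18], [35], [24], [19], [24, 54], [41], [32], [20], [33], [25], [26], [21], [25, 37], [38], [22], [26, 40], [23], [42], [27], [44], [45], [28], [47], [27, 48], [28, 49], [50], [51], [52], [53], [29], [55], [29, 56], [57], [58], [59], [60], [61], [62], [63], [64], [65], [66], [67], [68], [69], [70], [71], [72], [73], [74], [75], [76], [77]]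

theorem rankE6_1 : rankOK chevE6 [68, 66] 32 rkE6_1U rkE6_1W rkE6_1B rkE6_1C = true := by
  decide +kernel

/-- Certificate. -/
def rkE6_2U : List (List ℕ) := [[65], [21, 22, 29, 32, 33], [20, 21, 22, 32, 42], [69], [22, 29, 65], [42], [43], [44], [45], [46], [49], [51], [53], [54], [56], [58], [0, 23, 24, 57, 60, 64], [66], [68], [1, 25, 26, 67, 71, 76], [2, 27, 39], [3, 28, 40], [75], [47], [50], [55], [57], [59], [60], [61], [70], [72], [73], [71], [74], [4, 30, 41], [76], [77], [38], [39], [40], [41], [5, 34, 48], [6, 31, 62], [7, 35, 63], [8], [9], [23, 36, 64], [48], [10], [24, 64], [11], [52], [12], [13], [25, 37, 67], [14], [26, 67], [15], [27], [28], [29, 33], [62], [63], [64], [16], [17], [67], [18], [19], [30], [33], [31], [32, 33], [34], [35], [36], [37]]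

/-- Certificate. -/
def rkE6_2W : List (List ℕ) := [[6], [7], [8], [11], [9], [13], [23], [24], [14], [25], [15], [29], [17], [32], [18], [37], [27], [30], [34], [38], [22], [10], [12, 22], [26], [16, 26], [33], [19, 33], [20], [21], [4], [35], [43], [5], [3], [42], [44], [16, 26, 28], [19, 33, 36], [0, 4], [20, 39], [21, 40], [35, 41], [2, 5], [31], [1], [45], [46], [16, 26, 28, 47], [42, 48], [49], [16, 26, 28, 50], [51], [52], [53], [54], [19, 33, 36, 55], [56], [19, 33, 36, 57], [58], [59], [60], [61], [43, 62], [44, 63], [16, 26, 28, 64], [65], [66], [19, 33, 36, 67], [68], [69], [70], [71], [72], [73], [74], [75], [76], [77]]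

/-- Certificate. -/
def rkE6_2B : List (List ℕ) := [[16, 26, 28, 47, 50, 64, 76], [19, 33, 36, 55, 57, 67, 77], [20, 39, 59], [21, 40, 60], [35, 41, 70], [42, 48, 74], [43, 62, 72], [44, 63, 75], [45], [46], [49], [51], [53], [54], [56], [58], [65], [66], [68], [69], [1, 2, 5, 61], [0, 1, 4, 73], [0, 4, 61, 71], [47, 64, 76], [50, 64], [55, 67, 77], [57, 67], [59], [60], [61, 71], [70], [72], [71, 73], [71], [74], [75], [76], [77], [38], [39], [40], [41], [5], [6], [7], [8], [9], [23], [48], [10], [24], [11], [52], [12], [13], [25], [14], [26], [15], [27], [28], [29], [62], [63], [64], [0], [17], [67], [18], [3], [30], [33], [31], [32], [34], [22], [36], [37]]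

/-- Certificate. -/
def rkE6_2C : List (List ℕ) := [[29, 38], [44], [32, 42], [33], [29], [32], [0], [1], [2], [4], [21], [3], [20, 22], [5], [8], [10], [23, 24], [12], [14], [25, 26], [27], [28], [20], [6], [7], [9], [23], [16], [24, 36], [11], [17], [43], [13], [25], [18], [30], [26, 37], [15], [19], [27, 39], [28, 40], [30, 41], [34], [31], [35], [45], [46], [36, 47], [34, 48], [49], [36, 50], [51], [52], [53], [54], [37, 55], [56], [37, 57], [58], [59], [60], [61], [31, 62], [35, 63], [36, 64], [65], [66], [37, 67], [68], [69], [70], [71], [72], [73], [74], [75], [76], [77]]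

theorem rankE6_2 : rankOK chevE6 [55, 65, 67] 38 rkE6_2U rkE6_2W rkE6_2B rkE6_2C = true := by
  decide +kernel

end CfsgLib.Chev.SLInvol
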