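import Mathlib
import Cfsg.Agent.Lib.Chev.SpringerTorus
import Cfsg.Agent.Lib.Chev.SylowEigen
import Cfsg.Agent.Lib.Chev.E6NoThree

/-!
The self-centralising cyclic torus of E₆ of order Φ₁₂Φ₃ divided by gcd(3, q − 1).
-/

set_option autoImplicit false
set_option maxHeartbeats 2000000
set_option maxRecDepth 100000

namespace CfsgLib.Chev.Springer

open Cfsg.Lie Matrix Polynomial

theorem cyclotomic_product_dvd : cyclotomic 12 ℤ * cyclotomic 3 ℤ ∣ X ^ 12 - 1 :=
  ⟨(X ^ 2 + 1) * (X - 1) * (X ^ 3 + 1), by rw [cyclotomic_twelve, cyclotomic_three]; ring⟩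

/-- A twelfth primitive eigenvalue modulo `r` puts `Φ₁₂` into the characteristic polynomial. -/
theorem cyclotomic_dvd_of_eigen {n : ℕ} (R : Matrix (Fin n) (Fin n) ℤ) {e : ℕ} (he : 0 < e) (hRe : R ^ e = 1)
    {r : ℕ} [Fact r.Prime] (hre : ¬ r ∣ e) (hr12 : ¬ r ∣ 12) {ζ : ZMod r} (hζ : IsPrimitiveRoot ζ 12)
    {v : Fin n → ZMod r} (hv : v ≠ 0) (hRv : R.map (Int.cast : ℤ → ZMod r) *ᵥ v = ζ • v) :
    cyclotomic 12 ℤ ∣ R.charpoly := by
  obtain ⟨t, ht, htd⟩ := exists_cyclotomic_pow_dvd hζ he hre hr12 _ _ rfl R.charpoly_monic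
    (fun μ hμ => charpoly_root_pow R hRe μ hμ)
  have hroot : IsRoot (R.map (Int.cast : ℤ → ZMod r)).charpoly ζ := by
    rw [IsRoot.def, Matrix.eval_charpoly]
    refine Matrix.exists_mulVec_eq_zero_iff.1 ⟨v, hv, ?_⟩
    rw [Matrix.sub_mulVec, hRv, sub_eq_zero]
    funext a
    simp [Matrix.scalar_apply, Matrix.mulVec_diagonal]
  rw [show R.map (Int.cast : ℤ → ZMod r) = R.map (Int.castRingHom (ZMod r)) from rfl, Matrix.charpoly_map] at hroot
  have hpos : 0 < t := ht ▸ (rootMultiplicity_pos (R.charpoly_monic.map _).ne_zero).2 hroot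
  exact (dvd_pow_self _ hpos.ne').trans htd

/-- The torus. -/
theorem exists_torus_E6 (F : Type*) [Field F] [Fintype F] (q : ℕ) (hF : Fintype.card F = q) :
    ∃ H : Subgroup ↥(chevE6.group F), IsCyclic ↥H ∧
      Nat.card ↥H = (q ^ 4 - q ^ 2 + 1) * (q ^ 2 + q + 1) / Nat.gcd 3 (q - 1) ∧
      Subgroup.centralizer (H : Set ↥(chevE6.group F)) = H := by
  have hc : HasComm chevE6 := hasComm_of_mem (by simp)
  have hq2' : 2 ≤ q := hF ▸ Fintype.one_lt_card
  have hq24 : q ^ 2 ≤ q ^ 4 := Nat.pow_le_pow_right (by omega) (by norm_num)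
  set P := q ^ 4 - q ^ 2 + 1 with hP
  have hPz : (P : ℤ) = (q : ℤ) ^ 4 - (q : ℤ) ^ 2 + 1 := by
    rw [hP, Nat.cast_add, Nat.cast_sub hq24]; push_cast; ring
  have hP1 : 1 < P := by
    have : q ^ 2 < q ^ 4 := Nat.pow_lt_pow_right (by omega) (by norm_num)
    omega
  obtain ⟨r, hrp, hrP⟩ := Nat.exists_prime_and_dvd hP1.ne'
  haveI : Fact r.Prime := ⟨hrp⟩
  have hrz : (q : ZMod r) ^ 4 - (q : ZMod r) ^ 2 + 1 = 0 := by
    have h : (((P : ℤ)) : ZMod r) = 0 := by
      rw [Int.cast_natCast, CharP.cast_eq_zero_iff (ZMod r) r]; exact hrP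
    rw [hPz] at h; simpa using h
  have hnot : ∀ s : ℕ, s = 2 ∨ s = 3 ∨ s = 5 → r ≠ s := by
    rintro s hs rfl
    have h2 : ∀ x : ZMod 2, x ^ 4 - x ^ 2 + 1 ≠ 0 := by decide
    have h3 : ∀ x : ZMod 3, x ^ 4 - x ^ 2 + 1 ≠ 0 := by decide
    have h5 : ∀ x : ZMod 5, x ^ 4 - x ^ 2 + 1 ≠ 0 := by decide
    rcases hs with rfl | rfl | rfl
    exacts [h2 _ hrz, h3 _ hrz, h5 _ hrz]
  have hr2 := hnot 2 (Or.inl rfl)
  have hr3 := hnot 3 (Or.inr (Or.inl rfl))
  have hr5 := hnot 5 (Or.inr (Or.inr rfl))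
  have hsmall : ∀ s : ℕ, s.Prime → r ∣ s → r = s := fun s hs h => (Nat.prime_dvd_prime_iff_eq hrp hs).1 h
  have hr12 : ¬ r ∣ 12 := fun h => by
    rw [show (12 : ℕ) = 2 * 2 * 3 by rfl, hrp.dvd_mul, hrp.dvd_mul] at h
    rcases h with (h | h) | h
    exacts [hr2 (hsmall 2 Nat.prime_two h), hr2 (hsmall 2 Nat.prime_two h), hr3 (hsmall 3 Nat.prime_three h)]
  have hrW : ¬ r ∣ Nat.card goodE6.weyl := by
    rw [card_weylE6]
    intro h
    have h' : r ∣ 2 ^ 7 * 3 ^ 4 * 5 := h.trans (by norm_num)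
    rw [hrp.dvd_mul, hrp.dvd_mul] at h'
    rcases h' with (h' | h') | h'
    exacts [hr2 (hsmall 2 Nat.prime_two (hrp.dvd_of_dvd_pow h')),
      hr3 (hsmall 3 Nat.prime_three (hrp.dvd_of_dvd_pow h')), hr5 (hsmall 5 Nat.prime_five h')]
  haveI : NeZero ((12 : ℕ) : ZMod r) := ⟨by rwa [ne_eq, CharP.cast_eq_zero_iff (ZMod r) r]⟩
  have hζ : IsPrimitiveRoot (((q : ℤ)) : ZMod r) 12 := by
    rw [← isRoot_cyclotomic_iff, IsRoot.def, ← map_cyclotomic_int, cyclotomic_twelve]
    simpa using hrz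
  have hr12q : r ∣ q ^ 12 - 1 := by
    rw [← CharP.cast_eq_zero_iff (ZMod r) r, Nat.cast_sub (Nat.one_le_pow _ _ (by omega))]
    have := hζ.pow_eq_one
    push_cast at this ⊢
    rw [this, sub_self]
  have hrG : r ∣ Nat.card ↥(chevE6.group F) := by
    have h := card_groupE6 F
    rw [hF] at h
    refine ((hrp.dvd_mul.1 (?_ : r ∣ (q - 1).gcd 3 * Nat.card ↥(chevE6.group F))).resolve_left fun h' =>
      hr3 (hsmall 3 Nat.prime_three (h'.trans (Nat.gcd_dvd_right _ _))))
    rw [h]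
    exact hr12q.mul_left _
  classical
  haveI hgf : Finite ↥(chevE6.group F) := inferInstance
  set d := 36 with hd36
  set p := ringChar F
  haveI : Fact p.Prime := ⟨CharP.char_is_prime F p⟩
  haveI : NeZero d := ⟨by omega⟩
  let L := FiniteField.Extension F p d
  haveI : Fintype L := Fintype.ofFinite L
  have hL : Fintype.card L = q ^ d := by
    rw [← Nat.card_eq_fintype_card, FiniteField.natCard_extension, Nat.card_eq_fintype_card, hF]
  have hq2 : 2 ≤ q := hF ▸ Fintype.one_lt_card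
  let ι : F →+* L := algebraMap F L
  let φ : L →+* L := (FiniteField.Extension.frob F p d).toRingEquiv.toRingHom
  have hφ : ∀ z : L, φ z = z ^ q := fun z => by
    rw [← hF, ← Nat.card_eq_fintype_card]; exact FiniteField.Extension.frob_apply ..
  have hφι : ∀ a : F, φ (ι a) = ι a := fun a => by
    rw [hφ, ← map_pow, ← hF, FiniteField.pow_card]
  have hfix : ∀ z : L, φ z = z → ∃ a, ι a = z := fun z hz => by
    by_contra hne
    push Not at hne
    have hP0 : (Polynomial.X ^ q - Polynomial.X : L[X]) ≠ 0 := FiniteField.X_pow_card_sub_X_ne_zero L (by omega)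
    have hsub : insert z (Finset.univ.image ι) ⊆ (Polynomial.X ^ q - Polynomial.X : L[X]).roots.toFinset := by
      intro w hw
      rw [Multiset.mem_toFinset, Polynomial.mem_roots hP0]
      rcases Finset.mem_insert.1 hw with rfl | hw
      · simp [← hφ, hz]
      · obtain ⟨a, -, rfl⟩ := Finset.mem_image.1 hw
        simp [← hφ, hφι]
    have h1 := (Finset.card_le_card hsub).trans (Multiset.toFinset_card_le _) |>.trans (Polynomial.card_roots' _)
    rw [FiniteField.X_pow_card_sub_X_natDegree_eq L (by omega), Finset.card_insert_of_notMem (by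
      simpa using hne), Finset.card_image_of_injective _ ι.injective, Finset.card_univ, hF] at h1
    omega
  obtain ⟨γ, hγ⟩ := IsCyclic.exists_generator (α := Lˣ)
  set M : ℕ := q ^ d - 1 with hMdef
  have hqd : 1 < q ^ d := Nat.one_lt_pow (by omega) (by omega)
  haveI : NeZero M := ⟨by omega⟩
  have hγo : orderOf γ = M := by
    rw [orderOf_eq_card_of_forall_mem_zpowers hγ, Nat.card_units, Nat.card_eq_fintype_card, hL]
  have hMcast : (M : ℤ) = (q : ℤ) ^ d - 1 := by rw [hMdef, Nat.cast_sub hqd.le]; push_cast; ring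
  have hzz : ∀ a b : ℤ, γ ^ a = γ ^ b ↔ (a : ZMod M) = (b : ZMod M) := fun a b => by
    rw [ZMod.intCast_eq_intCast_iff_dvd_sub, ← hγo, orderOf_dvd_iff_zpow_eq_one, _root_.zpow_sub,
      mul_inv_eq_one]
    exact ⟨fun h => h.symm, fun h => h.symm⟩
  have hM12 : q ^ 12 - 1 ∣ M := by
    rw [hMdef, hd36, show q ^ 36 = (q ^ 12) ^ 3 by rw [← pow_mul]]
    simpa using Nat.sub_dvd_pow_sub_pow (q ^ 12) 1 3
  have hrM : r ∣ M := hr12q.trans hM12
  have hr1 : 1 < r := hrp.one_lt
  have hQr : ((Fintype.card L : ℕ) : ZMod r) = 1 := by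
    rw [hL, show q ^ d = M + 1 by omega, Nat.cast_add, (CharP.cast_eq_zero_iff (ZMod r) r M).2 hrM,
      zero_add, Nat.cast_one]
  -- an element of order r
  obtain ⟨x, hx⟩ := exists_prime_orderOf_dvd_card' (G := ↥(chevE6.group F)) r hrG
  set xh : ↥(chevE6.group L) := ⟨scalarGL chevE6 ι x, goodE6.scalarGL_mem ι x.2⟩ with hxh
  have hxr : xh ^ r = 1 := by
    refine Subtype.ext ?_
    show scalarGL chevE6 ι x ^ r = 1
    rw [← map_pow, ← SubmonoidClass.coe_pow, ← hx, pow_orderOf_eq_one, OneMemClass.coe_one, map_one]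
  have hindex : ¬ r ∣ ((chevE6.diagonalSubgroup L).subgroupOf (chevE6.group L)).index := by
    intro hdvd
    set T' := (chevE6.diagonalSubgroup L).subgroupOf (chevE6.group L)
    have h1 := T'.card_mul_index
    rw [Nat.card_congr (Subgroup.subgroupOfEquivOfLe goodE6.diagonal_le_group).toEquiv,
      goodE6.card_group hc, goodE6.card_borel hc] at h1
    have h2 : T'.index = Fintype.card L ^ (chevE6.nroots / 2) * goodE6.weylSum {i | i < chevE6.rank} (Fintype.card L) :=
      Nat.eq_of_mul_eq_mul_left (Nat.card_pos (α := ↥(chevE6.diagonalSubgroup L))) (h1.trans (by ring))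
    rw [h2, ← CharP.cast_eq_zero_iff (ZMod r) r, Nat.cast_mul, Nat.cast_pow, hQr, one_pow, one_mul,
      Good.weylSum, ← goodE6.weyl_eq_wJ, Nat.cast_sum] at hdvd
    simp only [Nat.cast_pow, hQr, one_pow, Finset.sum_const, nsmul_eq_mul, mul_one] at hdvd
    rw [CharP.cast_eq_zero_iff (ZMod r) r] at hdvd
    refine hrW ?_
    rwa [Nat.card_eq_fintype_card, Fintype.card_subtype]
  obtain ⟨⟨gc, hgc⟩, hmem⟩ := exists_conj_mem _ hxr hindex
  have htd : gc⁻¹ * scalarGL chevE6 ι x * gc ∈ chevE6.diagonalSubgroup L := Subgroup.mem_subgroupOf.1 hmem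
  let Θ : ↥(chevE6.group F) →* GL chevE6.Idx L :=
    (MulAut.conj gc⁻¹).toMonoidHom.comp ((scalarGL chevE6 ι).comp (chevE6.group F).subtype)
  have hΘv : ∀ y : ↥(chevE6.group F), Θ y = gc⁻¹ * scalarGL chevE6 ι y * gc := fun y => by
    show gc⁻¹ * scalarGL chevE6 ι y * gc⁻¹⁻¹ = _
    rw [inv_inv]
  have hΘinj : Function.Injective Θ := fun a b h =>
    Subtype.ext (scalarGL_injective ι ((MulEquiv.injective (MulAut.conj gc⁻¹)) h))
  have hdiag := htd
  rw [goodE6.diagonal_eq_range] at hdiag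
  obtain ⟨c, hct⟩ := hdiag
  -- the exponents of every torus element
  have hexp : ∀ e : Fin chevE6.rank → Lˣ, ∃ k : Fin chevE6.rank → ℤ,
      ∀ u : Fin chevE6.nroots, rootVal e u = γ ^ (∑ i, goodE6.coVec u i * k i) := by
    intro e
    choose k hk using fun j : Fin chevE6.rank => Subgroup.mem_zpowers_iff.1 (hγ (rootVal e (chevE6.simple j)))
    refine ⟨k, fun u => ?_⟩
    rw [goodE6.rootVal_eq_prod e u.2, zpow_finsum]
    refine Finset.prod_congr rfl fun j _ => ?_
    rw [← hk j, ← _root_.zpow_mul, mul_comm]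
    rfl
  obtain ⟨k, hk⟩ := hexp c
  have hsum : ∀ (j : Fin chevE6.rank) (k : Fin chevE6.rank → ℤ), ∑ i, goodE6.coVec (goodE6.sroot j) i * k i = k j := by
    intro j k
    simp [goodE6.coVec_sroot]
  have hcr : ∀ u : Fin chevE6.nroots, rootVal c u ^ r = 1 := by
    intro u
    have h1 : torHom chevE6 L (c ^ r) = torHom chevE6 L 1 := by
      rw [map_one, map_pow, hct, show gc⁻¹ * scalarGL chevE6 ι x * gc = Θ x from (hΘv x).symm, ← map_pow, ← hx,
        pow_orderOf_eq_one, map_one]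
    rw [← rootVal_pow, goodE6.rootVal_eq_of_torHom h1 u.2, rootVal_one]
  obtain ⟨m, hm⟩ := hrM
  have hm0 : 0 < m := Nat.pos_of_ne_zero fun h => by rw [h, mul_zero] at hm; omega
  have hka : ∀ j, ∃ a : ℤ, (m : ℤ) * a = k j := by
    intro j
    have h1 := hcr (goodE6.sroot j)
    rw [hk, hsum, ← zpow_natCast, ← _root_.zpow_mul, ← _root_.zpow_zero γ, hzz, Int.cast_zero,
      ZMod.intCast_zmod_eq_zero_iff_dvd] at h1
    obtain ⟨b, hb⟩ := h1
    rw [hm, Nat.cast_mul] at hb
    exact ⟨b, mul_right_cancel₀ (b := (r : ℤ)) (by exact_mod_cast (Fact.out : r.Prime).ne_zero) (by rw [hb]; ring)⟩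
  choose a ha using hka
  set v : Fin chevE6.rank → ZMod r := fun j => (a j : ZMod r) with hv
  have hval : ∀ u : Fin chevE6.nroots, rootVal c u = γ ^ ((m : ℤ) * ∑ i, goodE6.coVec u i * a i) := by
    intro u
    rw [hk, Finset.mul_sum]
    congr 1
    exact Finset.sum_congr rfl fun i _ => by rw [← ha i]; ring
  have hmr : ∀ z z' : ℤ, γ ^ ((m : ℤ) * z) = γ ^ ((m : ℤ) * z') ↔ (z : ZMod r) = (z' : ZMod r) := by
    intro z z'
    rw [hzz, ZMod.intCast_eq_intCast_iff_dvd_sub, ZMod.intCast_eq_intCast_iff_dvd_sub, ← mul_sub, hm,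
      Nat.cast_mul, mul_comm (r : ℤ), mul_dvd_mul_iff_left (by exact_mod_cast hm0.ne')]
  have hvec : ∀ (ρ : Equiv.Perm (Fin chevE6.nroots)) (j : Fin chevE6.rank),
      ((goodE6.coMat ρ).map (Int.cast : ℤ → ZMod r) *ᵥ v) j =
        ((∑ i, goodE6.coVec (ρ (goodE6.sroot j)) i * a i : ℤ) : ZMod r) := by
    intro ρ j
    show ∑ t, ((goodE6.coMat ρ j t : ℤ) : ZMod r) * v t = _
    rw [Int.cast_sum]
    exact Finset.sum_congr rfl fun i _ => by rw [Int.cast_mul]; rfl
  have hv0 : v ≠ 0 := by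
    intro h0
    have h1 : torHom chevE6 L c = 1 := by
      rw [← map_one (torHom chevE6 L)]
      refine goodE6.torHom_eq_of_simple fun j => ?_
      rw [show chevE6.simple j = ((goodE6.sroot j : Fin chevE6.nroots) : ℕ) from rfl, hval, hsum, rootVal_one,
        ← _root_.zpow_zero γ, ← mul_zero (m : ℤ), hmr, Int.cast_zero]
      exact congrFun h0 j
    rw [h1, eq_comm, show gc⁻¹ * scalarGL chevE6 ι x * gc = Θ x from (hΘv x).symm, ← map_one Θ] at hct
    rw [hΘinj hct, orderOf_one] at hx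
    omega
  -- the Frobenius twist
  have hφm : ∀ {z : GL chevE6.Idx L}, z ∈ chevE6.group L → scalarGL chevE6 φ z ∈ chevE6.group L := fun hz => goodE6.scalarGL_mem φ hz
  have hφx : ∀ y : GL chevE6.Idx F, scalarGL chevE6 φ (scalarGL chevE6 ι y) = scalarGL chevE6 ι y := fun y =>
    Units.ext (Matrix.ext fun i j => hφι _)
  set af := gc⁻¹ * scalarGL chevE6 φ gc with haf
  have hafm : af ∈ chevE6.group L := mul_mem (inv_mem hgc) (hφm hgc)
  have hφt : scalarGL chevE6 φ (torHom chevE6 L c) = af⁻¹ * torHom chevE6 L c * af := by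
    rw [hct, map_mul, map_mul, map_inv, hφx, haf]
    group
  obtain ⟨n, hn, hnt⟩ := goodE6.diagonal_fusion hc (goodE6.torHom_mem c)
    (show scalarGL chevE6 φ (torHom chevE6 L c) ∈ chevE6.diagonalSubgroup L by rw [scalarGL_torHom]; exact goodE6.torHom_mem _)
    (inv_mem hafm) (by rw [hφt, inv_inv])
  obtain ⟨π, hπw, hπ⟩ := goodE6.exists_acts hn
  set R := goodE6.coMat π⁻¹ with hR
  have hφval : ∀ (e : Fin chevE6.rank → Lˣ) (u : ℕ),
      rootVal (fun i => Units.map (φ : L →* L) (e i)) u = rootVal e u ^ q := by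
    intro e u
    simp only [rootVal, ← Finset.prod_pow]
    refine Finset.prod_congr rfl fun i _ => ?_
    rw [show Units.map (φ : L →* L) (e i) = e i ^ q from Units.ext (by simp [hφ]), ← zpow_natCast (e i) q,
      ← zpow_natCast _ q, ← _root_.zpow_mul, ← _root_.zpow_mul, mul_comm]
  have hRv : R.map (Int.cast : ℤ → ZMod r) *ᵥ v = ((q : ℤ) : ZMod r) • v := by
    funext j
    rw [Pi.smul_apply, smul_eq_mul, hR, hvec, show ((q : ℤ) : ZMod r) * v j = (((q : ℤ) * a j : ℤ) : ZMod r) by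
      rw [Int.cast_mul], ← hmr]
    have h := goodE6.rootVal_conj hπ (c := c) (hnt.trans (scalarGL_torHom φ c)) (π⁻¹ (goodE6.sroot j))
    rw [show π (π⁻¹ (goodE6.sroot j)) = goodE6.sroot j from π.apply_symm_apply _, hφval, hval, hsum, hval,
      ← zpow_natCast, ← _root_.zpow_mul] at h
    rw [← h]
    congr 1
    ring
  have hπ' := inv_mem hπw
  have hmm : ∀ A A' : Matrix (Fin chevE6.rank) (Fin chevE6.rank) ℤ,
      (A * A').map (Int.cast : ℤ → ZMod r) = A.map (Int.cast : ℤ → ZMod r) * A'.map (Int.cast : ℤ → ZMod r) :=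
    fun A A' => Matrix.map_mul (f := Int.castRingHom (ZMod r))
  have hq0 : ((q : ℤ) : ZMod r) ≠ 0 := hζ.ne_zero (by norm_num)
  have hπv : (goodE6.coMat π).map (Int.cast : ℤ → ZMod r) *ᵥ v = (((q : ℤ) : ZMod r))⁻¹ • v := by
    refine smul_right_injective (Fin chevE6.rank → ZMod r) hq0 ?_
    show ((q : ℤ) : ZMod r) • _ = ((q : ℤ) : ZMod r) • _
    rw [← Matrix.mulVec_smul, ← hRv, Matrix.mulVec_mulVec, ← hmm, hR, (goodE6.coMat_inv_mul hπw).2,
      Matrix.map_one _ Int.cast_zero Int.cast_one, Matrix.one_mulVec, smul_smul, mul_inv_cancel₀ hq0, one_smul]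
  have hdvdchar : ∀ ρ ∈ goodE6.weyl, ∀ ζ : ZMod r, IsPrimitiveRoot ζ 12 →
      (goodE6.coMat ρ).map (Int.cast : ℤ → ZMod r) *ᵥ v = ζ • v →
      cyclotomic 12 ℤ ∣ (goodE6.coMat ρ).charpoly := by
    intro ρ hρ ζ hζ' he'
    refine cyclotomic_dvd_of_eigen _ (orderOf_pos (⟨ρ, hρ⟩ : ↥goodE6.weyl)) ?_
      (fun h => hrW (h.trans (orderOf_dvd_natCard _))) hr12 hζ' hv0 he'
    rw [← goodE6.coMat_pow hρ, show ρ ^ orderOf (⟨ρ, hρ⟩ : ↥goodE6.weyl) =
      ((⟨ρ, hρ⟩ : ↥goodE6.weyl) ^ orderOf (⟨ρ, hρ⟩ : ↥goodE6.weyl) : ↥goodE6.weyl).1 from rfl, pow_orderOf_eq_one]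
    exact goodE6.coMat_one
  have hchar : R.charpoly = cyclotomic 12 ℤ * cyclotomic 3 ℤ :=
    charpoly_E6 hπ' (hdvdchar _ hπ' _ hζ hRv)
  have hcharπ : (goodE6.coMat π).charpoly = cyclotomic 12 ℤ * cyclotomic 3 ℤ :=
    charpoly_E6 hπw (hdvdchar _ hπw _ hζ.inv hπv)
  have hq6 : (((q : ℤ) : ZMod r)) ^ 6 = -1 := by
    push_cast
    linear_combination ((q : ZMod r) ^ 2 + 1) * hrz
  have hstab : ∀ ρ ∈ goodE6.weyl, (goodE6.coMat ρ).map (Int.cast : ℤ → ZMod r) *ᵥ v = v → ρ = 1 :=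
    fun ρ hρ hρv => stab_E6 hπ' (hdvdchar _ hπ' _ hζ hRv) hrW hq6 hv0 hRv hρ hρv
  have hne : ∀ u : Fin chevE6.nroots, rootVal c u ≠ 1 := by
    intro u h1
    rw [hval, ← _root_.zpow_zero γ, ← mul_zero (m : ℤ), hmr, Int.cast_zero] at h1
    obtain ⟨s, hs, hsu, hsfix⟩ := goodE6.exists_reflection u
    have := hstab s hs (hsfix _ v (by rw [← h1, Int.cast_sum]; simp [hv]))
    rw [this, Equiv.Perm.one_apply] at hsu
    exact goodE6.neg_ne u.2 (congrArg Fin.val hsu).symm
  have hcentral : ∀ {y : GL chevE6.Idx L}, y ∈ chevE6.group L → y * torHom chevE6 L c = torHom chevE6 L c * y →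
      y ∈ chevE6.diagonalSubgroup L := by
    intro y hy hcy
    refine goodE6.centralizer_regular_stab hc (c := c) (fun u hu => hne ⟨u, hu⟩) ?_ hy hcy
    intro _ ρ hρw _ hρfix
    refine hstab ρ hρw (funext fun j => ?_)
    rw [hvec, hv]
    have h := hρfix (goodE6.sroot j)
    rw [hval, hval, hmr, hsum] at h
    exact h
  have hafn : af * n ∈ chevE6.diagonalSubgroup L := by
    refine hcentral (mul_mem hafm (goodE6.monomial_le_group hn)) ?_
    have h1 : n * torHom chevE6 L c = af⁻¹ * torHom chevE6 L c * af * n := by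
      rw [← hφt, ← hnt]; group
    rw [mul_assoc, h1]; group
  have hkey : ∀ {z : GL chevE6.Idx L}, z ∈ chevE6.diagonalSubgroup L →
      (scalarGL chevE6 φ (gc * z * gc⁻¹) = gc * z * gc⁻¹ ↔ scalarGL chevE6 φ z = n * z * n⁻¹) := by
    intro z hz
    have hgg : scalarGL chevE6 φ gc = gc * af := by rw [haf]; group
    have hz2 : af⁻¹ * z * af = n * z * n⁻¹ := by
      have h := goodE6.diagonal_comm hafn hz
      calc af⁻¹ * z * af = n * ((af * n)⁻¹ * (z * (af * n))) * n⁻¹ := by group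
        _ = n * z * n⁻¹ := by rw [← h, inv_mul_cancel_left]
    rw [map_mul, map_mul, map_inv, hgg, ← hz2]
    constructor
    · intro h
      calc scalarGL chevE6 φ z = af⁻¹ * (gc⁻¹ * (gc * af * scalarGL chevE6 φ z * (gc * af)⁻¹) * gc) * af := by group
        _ = af⁻¹ * z * af := by rw [h]; group
    · intro h; rw [h]; group
  -- the exponent group
  set N : ℕ := P * (q ^ 2 + q + 1) with hNdef
  have hN0 : 0 < N := by positivity
  have hNev : (cyclotomic 12 ℤ * cyclotomic 3 ℤ).eval (q : ℤ) = (N : ℤ) := by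
    rw [eval_mul, cyclotomic_twelve, cyclotomic_three, hNdef, Nat.cast_mul, hPz]
    simp
  set A : Matrix (Fin chevE6.rank) (Fin chevE6.rank) ℤ := Matrix.scalar _ (q : ℤ) - R with hA
  have hdet : A.det = (N : ℤ) := by rw [hA, ← hNev, ← hchar, Matrix.eval_charpoly]
  have hA0 : A.det ≠ 0 := by rw [hdet]; exact_mod_cast hN0.ne'
  have hNM : N ∣ M := by
    refine Nat.dvd_trans ?_ hM12
    rw [← Int.natCast_dvd_natCast, Nat.cast_sub (Nat.one_le_pow _ _ (by omega)), ← hNev]
    have h := Polynomial.eval_dvd cyclotomic_product_dvd (x := (q : ℤ))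
    simpa using h
  have hKcard : Nat.card (kerMod A M) = N := by
    rw [kerMod, card_ker_mod A hA0 (by rw [hdet]; exact Int.natCast_dvd_natCast.2 hNM), hdet, Int.natAbs_natCast]
  have h9 : ∀ x : ZMod 9, (x ^ 4 - x ^ 2 + 1) * (x ^ 2 + x + 1) ≠ 0 := by decide
  have hN2 : ¬ 2 ∣ N := by
    have h : ∀ x : ZMod 2, (x ^ 4 - x ^ 2 + 1) * (x ^ 2 + x + 1) ≠ 0 := by decide
    intro hd
    rw [← CharP.cast_eq_zero_iff (ZMod 2) 2, ← Int.cast_natCast, hNdef, Nat.cast_mul, hPz] at hd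
    push_cast at hd
    exact h _ hd
  have hN9 : ¬ 9 ∣ N := by
    intro hd
    rw [← CharP.cast_eq_zero_iff (ZMod 9) 9, ← Int.cast_natCast, hNdef, Nat.cast_mul, hPz] at hd
    push_cast at hd
    exact h9 _ hd
  have hN3 : 3 ∣ N ↔ q % 3 = 1 := by
    have h : ∀ x : ZMod 3, (x ^ 4 - x ^ 2 + 1) * (x ^ 2 + x + 1) = 0 ↔ x = 1 := by decide
    rw [← CharP.cast_eq_zero_iff (ZMod 3) 3, ← Int.cast_natCast, hNdef, Nat.cast_mul, hPz]
    push_cast
    rw [h, ← Nat.cast_one (R := ZMod 3), ZMod.natCast_eq_natCast_iff']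
  have hKcyc : IsCyclic (Multiplicative (kerMod A M)) := by
    haveI : Finite (Multiplicative (kerMod A M)) := inferInstanceAs (Finite (kerMod A M))
    refine isCyclic_of_prime_torsion fun s hs => ?_
    haveI : Fact s.Prime := ⟨hs⟩
    refine le_trans (le_trans (le_of_eq ?_) (card_torsion_kerMod_le A M (s := s))) ?_
    · exact Nat.card_congr (Equiv.subtypeEquiv Multiplicative.toAdd fun z => Iff.rfl)
    · by_cases hs12 : s ∣ 12
      · refine card_kerMod_prime A hA0 fun h => ?_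
        rw [hdet, ← Nat.cast_pow, Int.natCast_dvd_natCast] at h
        rw [show (12 : ℕ) = 2 * 2 * 3 by rfl, hs.dvd_mul, hs.dvd_mul] at hs12
        rcases hs12 with (h' | h') | h'
        · rw [(Nat.prime_dvd_prime_iff_eq hs Nat.prime_two).1 h'] at h; exact hN2 ((dvd_pow_self 2 two_ne_zero).trans h)
        · rw [(Nat.prime_dvd_prime_iff_eq hs Nat.prime_two).1 h'] at h; exact hN2 ((dvd_pow_self 2 two_ne_zero).trans h)
        · rw [(Nat.prime_dvd_prime_iff_eq hs Nat.prime_three).1 h'] at h; exact hN9 h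
      · exact card_kerMod_separable R (hchar ▸ cyclotomic_product_dvd) hs12 (q : ℤ)
  have hKmem : ∀ κ : Fin chevE6.rank → ℤ, (fun j => (κ j : ZMod M)) ∈ kerMod A M ↔
      ∀ j, (((q : ℤ) * κ j : ℤ) : ZMod M) = ((∑ i, goodE6.coVec (π⁻¹ (goodE6.sroot j)) i * κ i : ℤ) : ZMod M) := by
    intro κ
    rw [intCast_mem_kerMod]
    refine forall_congr' fun j => ?_
    rw [hA, Matrix.sub_mulVec, Pi.sub_apply, Int.cast_sub, sub_eq_zero, Matrix.scalar_apply, Matrix.mulVec_diagonal]
    rfl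
  -- the centraliser of x
  set C : Subgroup ↥(chevE6.group F) := (chevE6.diagonalSubgroup L).comap Θ with hC
  have hdt : ∀ y : C, ∃ e, torHom chevE6 L e = Θ y := fun y => by
    have h : Θ y ∈ chevE6.diagonalSubgroup L := y.2
    rw [goodE6.diagonal_eq_range] at h
    exact h
  choose et het using hdt
  choose ex hex using fun y : C => hexp (et y)
  have hexj : ∀ (y : C) (e : Fin chevE6.rank → Lˣ), torHom chevE6 L e = Θ y → ∀ j : Fin chevE6.rank,
      rootVal e (chevE6.simple j) = γ ^ ex y j := by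
    intro y e he' j
    rw [goodE6.rootVal_eq_of_torHom (he'.trans (het y).symm) (goodE6.simple_lt j.2),
      show chevE6.simple j = ((goodE6.sroot j : Fin chevE6.nroots) : ℕ) from rfl, hex, hsum]
  have hexK : ∀ y : C, (fun j => (ex y j : ZMod M)) ∈ kerMod A M := by
    intro y
    rw [hKmem]
    intro j
    have h1 : scalarGL chevE6 φ (torHom chevE6 L (et y)) = n * torHom chevE6 L (et y) * n⁻¹ := by
      rw [← hkey (goodE6.torHom_mem _), het, hΘv,
        show gc * (gc⁻¹ * scalarGL chevE6 ι (y : ↥(chevE6.group F)) * gc) * gc⁻¹ = scalarGL chevE6 ι (y : ↥(chevE6.group F)) by group]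
      exact hφx _
    rw [scalarGL_torHom] at h1
    have h := goodE6.rootVal_conj hπ h1.symm (π⁻¹ (goodE6.sroot j))
    rw [show π (π⁻¹ (goodE6.sroot j)) = goodE6.sroot j from π.apply_symm_apply _, hφval, hex, hsum, hex,
      ← zpow_natCast, ← _root_.zpow_mul, mul_comm, hzz] at h
    exact h
  let f : C →* Multiplicative (kerMod A M) :=
    MonoidHom.mk' (fun y => Multiplicative.ofAdd ⟨_, hexK y⟩) fun y y' => by
      rw [← ofAdd_add]
      congr 1
      refine Subtype.ext (funext fun j => ?_)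
      show ((ex (y * y') j : ℤ) : ZMod M) = (ex y j : ZMod M) + (ex y' j : ZMod M)
      rw [← Int.cast_add, ← hzz, _root_.zpow_add, ← hexj y _ (het y), ← hexj y' _ (het y'),
        ← rootVal_mul, ← hexj (y * y') (et y * et y') (by rw [map_mul, het, het, Subgroup.coe_mul, map_mul])]
  have hfinj : Function.Injective f := fun y y' h => Subtype.ext <| hΘinj <| by
    rw [← het y, ← het y']
    refine goodE6.torHom_eq_of_simple fun j => ?_
    rw [hexj y _ (het y), hexj y' _ (het y'), hzz]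
    exact congrFun (congrArg Subtype.val (Multiplicative.ofAdd.injective h)) j
  haveI : IsCyclic ↥C := isCyclic_of_injective f hfinj
  have h9K : ∀ z : Multiplicative (kerMod A M), z ^ 9 ∈ f.range := by
    intro z
    obtain ⟨w, hw⟩ := z
    set κ : Fin chevE6.rank → ℤ := fun j => ((w j).val : ℤ) with hκ
    have hκw : (fun j => (κ j : ZMod M)) = w := funext fun j => by simp [hκ]
    set e := powMap triE6 fun j => γ ^ κ j with he
    have hev : ∀ j : Fin chevE6.rank, rootVal e (chevE6.simple j) = γ ^ (3 * κ j) := by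
      intro j
      rw [goodE6.rootVal_simple, he, ← MonoidHom.comp_apply, ← powMap_mul, show triE6 * cartanMat chevE6 = ((3 : ℕ) : ℤ) • 1 from triE6_mul,
        powMap_smul_one]
      show (γ ^ κ j) ^ 3 = γ ^ (3 * κ j)
      rw [← zpow_natCast, ← _root_.zpow_mul, mul_comm, Nat.cast_ofNat]
    have hevu : ∀ u : Fin chevE6.nroots, rootVal e u = γ ^ (∑ i, goodE6.coVec u i * (3 * κ i)) := by
      intro u
      rw [goodE6.rootVal_eq_prod e u.2, zpow_finsum]
      refine Finset.prod_congr rfl fun j _ => ?_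
      rw [hev j, ← _root_.zpow_mul, mul_comm]
      rfl
    have hfixz : scalarGL chevE6 φ (torHom chevE6 L e) = n * torHom chevE6 L e * n⁻¹ := by
      rw [conj_torHom_E6 hn hπw hπ, scalarGL_torHom]
      refine goodE6.torHom_eq_of_simple fun j => ?_
      have h := goodE6.rootVal_conj hπ (conj_torHom_E6 hn hπw hπ e) (π⁻¹ (goodE6.sroot j))
      rw [show π (π⁻¹ (goodE6.sroot j)) = goodE6.sroot j from π.apply_symm_apply _, hevu] at h
      rw [hφval, hev, ← zpow_natCast, ← _root_.zpow_mul]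
      refine Eq.trans ((hzz _ _).2 ?_) h.symm
      have hk := (hKmem κ).1 (hκw ▸ hw) j
      simp only [Int.cast_mul, Int.cast_sum, Int.cast_natCast, Int.cast_ofNat] at hk ⊢
      rw [mul_assoc, mul_comm (κ j : ZMod M), hk, Finset.mul_sum]
      exact Finset.sum_congr rfl fun i _ => by ring
    have hfixg := (hkey (goodE6.torHom_mem e)).2 hfixz
    obtain ⟨x₁, hx₁, hx₁e⟩ := goodE6.fixed_pow_range hc triE6_mul ι φ hfix
      (mul_mem (mul_mem hgc (goodE6.diagonal_le_group (goodE6.torHom_mem e))) (inv_mem hgc)) hfixg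
    have hΘx : Θ ⟨x₁, hx₁⟩ = torHom chevE6 L (e ^ 3) := by
      rw [hΘv]
      show gc⁻¹ * scalarGL chevE6 ι x₁ * gc = _
      rw [hx₁e, conj_pow, map_pow]
      group
    have hmem : (⟨x₁, hx₁⟩ : ↥(chevE6.group F)) ∈ C := show Θ _ ∈ _ from hΘx ▸ goodE6.torHom_mem _
    refine ⟨⟨_, hmem⟩, Multiplicative.toAdd.injective (Subtype.ext (funext fun j => ?_))⟩
    show ((ex ⟨_, hmem⟩ j : ℤ) : ZMod M) = 9 • w j
    have h := hexj ⟨_, hmem⟩ _ hΘx.symm j
    rw [rootVal_pow, hev, ← zpow_natCast, ← _root_.zpow_mul, hzz] at h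
    rw [← h, ← congrFun hκw j, nsmul_eq_mul]
    push_cast
    ring
  haveI : Finite (Multiplicative (kerMod A M)) := inferInstanceAs (Finite (kerMod A M))
  have hcardK : Nat.card (Multiplicative (kerMod A M)) = N :=
    (Nat.card_congr Multiplicative.toAdd).trans hKcard
  have hkN : Nat.card C ∣ N := hcardK ▸ Subgroup.card_dvd_of_injective f hfinj
  have hNk : N / N.gcd 9 ∣ Nat.card C := by
    have h := Subgroup.card_dvd_of_le (show (powMonoidHom 9 : Multiplicative (kerMod A M) →* _).range ≤ f.range by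
      rintro _ ⟨z, rfl⟩; exact h9K z)
    rwa [IsCyclic.card_powMonoidHom_range, hcardK, Nat.card_congr (MonoidHom.ofInjective hfinj).toEquiv.symm] at h
  have hCcard : Nat.card C = N / Nat.gcd 3 (q - 1) := by
    by_cases h1 : q % 3 = 1
    · obtain ⟨N', hN'⟩ := hN3.2 h1
      have hN'3 : ¬ 3 ∣ N' := fun h => hN9 (by rw [hN', show (9 : ℕ) = 3 * 3 by rfl]; exact mul_dvd_mul_left _ h)
      have hg9 : N.gcd 9 = 3 := by
        rw [hN', show (9 : ℕ) = 3 * 3 by rfl, Nat.gcd_mul_left,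
          Nat.Coprime.gcd_eq_one ((Nat.prime_three.coprime_iff_not_dvd.2 hN'3).symm), mul_one]
      rw [show Nat.gcd 3 (q - 1) = 3 from Nat.gcd_eq_left (by omega), hN', Nat.mul_div_cancel_left _ (by norm_num)]
      rw [hg9, hN', Nat.mul_div_cancel_left _ (by norm_num)] at hNk
      rw [hN'] at hkN
      obtain ⟨j, hj⟩ := hNk
      have hj3 : j ∣ 3 := by
        rw [hj, mul_comm 3 N'] at hkN
        exact (Nat.mul_dvd_mul_iff_left (Nat.pos_of_ne_zero fun h0 => by simp [h0] at hN')).1 hkN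
      rcases (Nat.dvd_prime Nat.prime_three).1 hj3 with rfl | rfl
      · rw [hj, mul_one]
      · exfalso
        haveI : Fact (Nat.Prime 3) := ⟨Nat.prime_three⟩
        obtain ⟨y, hy⟩ := exists_prime_orderOf_dvd_card' (G := ↥C) 3 (hj ▸ dvd_mul_left 3 N')
        have h27 : 27 ∣ Fintype.card L - 1 := by
          rw [hL]
          have h36 : ∀ x : ZMod 27, x.val % 3 = 1 → x ^ 36 = 1 := by decide +kernel
          rw [← CharP.cast_eq_zero_iff (ZMod 27) 27, Nat.cast_sub hqd.le, hd36, Nat.cast_pow, Nat.cast_one,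
            h36 _ (by rw [ZMod.val_natCast]; omega), sub_self]
        have hev3 : (goodE6.coMat π).charpoly.eval (q : ℤ) = (N : ℤ) := by rw [hcharπ, hNev]
        have hafn' : gc⁻¹ * scalarGL chevE6 φ gc * n ∈ chevE6.diagonalSubgroup L := hafn
        have hy1 := no_three ι φ q hφ hφι h27 hgc hn hπw hπ hafn'
          (by push_cast; rw [← Nat.cast_one (R := ZMod 3), ZMod.natCast_eq_natCast_iff']; exact h1)
          (by rw [hev3]; exact Int.natCast_dvd_natCast.2 (hN3.2 h1))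
          (by rw [hev3, show ((3 : ℤ)) ^ 2 = ((9 : ℕ) : ℤ) by norm_num, Int.natCast_dvd_natCast]; exact hN9)
          (y := (y : ↥(chevE6.group F))) (by rw [← Subgroup.coe_pow, ← hy, pow_orderOf_eq_one]; rfl)
          (by rw [← hΘv]; exact y.2)
        rw [show y = 1 from Subtype.ext hy1, orderOf_one] at hy
        omega
    · have hn3 : ¬ 3 ∣ N := fun h => h1 (hN3.1 h)
      have hg1 : Nat.gcd 3 (q - 1) = 1 := Nat.prime_three.coprime_iff_not_dvd.2 (fun h => h1 (by omega))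
      have hg9 : N.gcd 9 = 1 := by
        rw [show (9 : ℕ) = 3 ^ 2 by rfl]
        exact ((Nat.prime_three.coprime_iff_not_dvd.2 hn3).symm.pow_right 2).gcd_eq_one
      rw [hg1, Nat.div_one]
      rw [hg9, Nat.div_one] at hNk
      exact Nat.dvd_antisymm hkN hNk
  refine ⟨C, inferInstance, hCcard, le_antisymm ?_ ?_⟩
  · intro z hz
    have hxC : x ∈ C := show Θ x ∈ _ by rw [hΘv]; exact htd
    have hzx : x * z = z * x := Subgroup.mem_centralizer_iff.1 hz x hxC
    show Θ z ∈ chevE6.diagonalSubgroup L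
    have hΘm : Θ z ∈ chevE6.group L := by
      rw [hΘv]; exact mul_mem (mul_mem (inv_mem hgc) (goodE6.scalarGL_mem ι z.2)) hgc
    refine hcentral hΘm ?_
    rw [show torHom chevE6 L c = Θ x from hct.trans (hΘv x).symm, ← map_mul, ← map_mul, hzx]
  · intro z hz
    refine Subgroup.mem_centralizer_iff.2 fun y hy => hΘinj ?_
    rw [map_mul, map_mul]
    exact goodE6.diagonal_comm hy hz

end CfsgLib.Chev.Springer
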