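import Mathlib
import Cfsg.Agent.Lib.Chev.E6Coxeter
import Cfsg.Agent.Lib.Chev.WeylTables

/-!
Weyl group of type E₇: an element with eigenvalues of orders twelve (modulo thirteen) and four
(modulo five) does not exist, and the stabiliser of an eigenvector of order twelve has no element
of order five.
-/

set_option autoImplicit false
set_option maxHeartbeats 1000000
set_option maxRecDepth 100000

namespace CfsgLib.Chev.Springer

open Cfsg.Lie Matrix Polynomial

section Vectors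

variable {n : ℕ}

/-- A nonzero vector killed by `Φ₅(M)` has four independent images. -/
theorem indep_five (M : Matrix (Fin n) (Fin n) ℤ) {x : Fin n → ℤ} (hx : x ≠ 0)
    (hk : aeval M (cyclotomic 5 ℤ) *ᵥ x = 0) :
    ∀ a : Fin 4 → ℤ, (∑ i : Fin 4, a i • ((M ^ (i : ℕ)) *ᵥ x)) = 0 → a = 0 := by
  intro a ha
  set p : ℤ[X] := ∑ i : Fin 4, C (a i) * X ^ (i : ℕ) with hp
  have hpx : aeval M p *ᵥ x = 0 := by
    rw [hp, map_sum, Matrix.sum_mulVec, ← ha]
    refine Finset.sum_congr rfl fun i _ => ?_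
    rw [map_mul, map_pow, aeval_X, aeval_C, ← Algebra.smul_def, Matrix.smul_mulVec]
  have hcoeff : ∀ i : Fin 4, p.coeff i = a i := fun i => by
    rw [hp, finsetSum_coeff, Finset.sum_eq_single i]
    · rw [coeff_C_mul_X_pow, if_pos rfl]
    · intro j _ hj
      rw [coeff_C_mul_X_pow, if_neg fun h => hj (Fin.ext h).symm]
    · simp
  suffices h0 : p = 0 by
    funext i
    rw [← hcoeff, h0, coeff_zero, Pi.zero_apply]
  by_contra hp0
  set φ : ℤ →+* ℚ := Int.castRingHom ℚ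
  set MQ := φ.mapMatrix M
  set xQ : Fin n → ℚ := fun i => (x i : ℚ)
  have hmap : ∀ f : ℤ[X], aeval MQ (f.map φ) *ᵥ xQ = fun i => (((aeval M f *ᵥ x) i : ℤ) : ℚ) := by
    intro f
    have h : aeval MQ (f.map φ) = φ.mapMatrix (aeval M f) := by
      rw [aeval_def, aeval_def, eval₂_map, hom_eval₂]
      congr 1
      exact RingHom.ext_int _ _
    rw [h]
    funext i
    simp [Matrix.mulVec, dotProduct, xQ, φ]
  have hdeg : (p.map φ).natDegree < 4 := by
    refine lt_of_le_of_lt natDegree_map_le (Nat.lt_succ_of_le ?_)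
    rw [hp]
    refine natDegree_sum_le_of_forall_le _ _ fun i _ => ?_
    exact (natDegree_C_mul_X_pow_le _ _).trans (by have := i.2; omega)
  have hcop : IsCoprime (cyclotomic 5 ℚ) (p.map φ) :=
    (cyclotomic.irreducible_rat (by norm_num)).coprime_iff_not_dvd.2 fun h => absurd
      (natDegree_le_of_dvd h ((Polynomial.map_ne_zero_iff Int.cast_injective).2 hp0))
      (by rw [natDegree_cyclotomic, show (5 : ℕ).totient = 4 by decide]; omega)
  obtain ⟨u, w, huw⟩ := hcop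
  have h1 : aeval MQ (u * cyclotomic 5 ℚ + w * p.map φ) *ᵥ xQ = xQ := by rw [huw, map_one, Matrix.one_mulVec]
  rw [map_add, map_mul, map_mul, Matrix.add_mulVec, ← Matrix.mulVec_mulVec, ← Matrix.mulVec_mulVec,
    hmap p, hpx, ← map_cyclotomic_int 5 ℚ, hmap, hk] at h1
  simp only [Pi.zero_apply, Int.cast_zero] at h1
  rw [show (fun _ : Fin n => (0 : ℚ)) = 0 from rfl, Matrix.mulVec_zero, Matrix.mulVec_zero, add_zero] at h1
  exact hx (funext fun i => by
    have e : (x i : ℚ) = 0 := (congrFun h1 i).symm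
    exact_mod_cast e)

end Vectors

variable {π : Equiv.Perm (Fin chevE7.nroots)}

/-- The characteristic polynomial of the cube. -/
theorem charpoly_cube {n : ℕ} (hn : n = 7) (M : Matrix (Fin n) (Fin n) ℤ) {c : ℤ} (hc : c = 1 ∨ c = -1)
    (h : M.charpoly = (X ^ 6 + 1) * (X - C c)) : (M ^ 3).charpoly = (X ^ 2 + 1) ^ 3 * (X - C c) := by
  classical
  have hc3 : c ^ 3 = c := by rcases hc with rfl | rfl <;> norm_num
  obtain ⟨ω, hω⟩ : ∃ ω : ℂ, IsPrimitiveRoot ω 3 := ⟨_, Complex.isPrimitiveRoot_exp 3 (by norm_num)⟩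
  have hsum : 1 + ω + ω ^ 2 = 0 := by
    have := hω.geom_sum_eq_zero (by norm_num)
    simpa [Finset.sum_range_succ] using this
  set φ := Int.castRingHom ℂ
  set MC := φ.mapMatrix M with hMC
  have hfac : ∀ z : ℂ, Matrix.scalar (Fin n) (z ^ 3) - MC ^ 3 =
      (Matrix.scalar (Fin n) z - MC) * (Matrix.scalar (Fin n) (ω * z) - MC) * (Matrix.scalar (Fin n) (ω ^ 2 * z) - MC) := by
    intro z
    have key : ((X : ℂ[X]) - C (z : ℂ)) * (X - C (ω * z)) * (X - C (ω ^ 2 * z)) = X ^ 3 - C (z ^ 3) := by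
      have h3 : ω ^ 3 = 1 := hω.pow_eq_one
      have e1 : C (ω * z) + C (ω ^ 2 * z) + C z = (0 : ℂ[X]) := by
        rw [← map_add, ← map_add, ← map_zero C]
        exact congrArg C (by linear_combination z * hsum)
      have e2 : C z * C (ω * z) + C z * C (ω ^ 2 * z) + C (ω * z) * C (ω ^ 2 * z) = (0 : ℂ[X]) := by
        rw [← map_mul, ← map_mul, ← map_mul, ← map_add, ← map_add, ← map_zero C]
        exact congrArg C (by linear_combination z ^ 2 * hsum + z ^ 2 * h3)
      have e3 : C z * C (ω * z) * C (ω ^ 2 * z) = C (z ^ 3) := by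
        rw [← map_mul, ← map_mul]
        exact congrArg C (by linear_combination z ^ 3 * h3)
      linear_combination (-(X : ℂ[X]) ^ 2) * e1 + (X : ℂ[X]) * e2 - e3
    have h1 := congrArg (aeval MC) key
    have hsc : ∀ x : ℂ, algebraMap ℂ (Matrix (Fin n) (Fin n) ℂ) x = Matrix.scalar (Fin n) x := fun x => rfl
    rw [map_mul, map_mul, map_sub, map_sub, map_sub, map_sub, map_pow, aeval_X, aeval_C, aeval_C, aeval_C,
      aeval_C, hsc, hsc, hsc, hsc] at h1
    rw [← neg_sub (MC ^ 3), ← h1, ← neg_mul, ← neg_mul, neg_sub]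
    noncomm_ring
  have hev : ∀ k : ℤ, (M ^ 3).charpoly.eval (k ^ 3) = (((X : ℤ[X]) ^ 2 + 1) ^ 3 * (X - C c)).eval (k ^ 3) := by
    intro k
    apply Int.cast_injective (α := ℂ)
    have e : ∀ z : ℂ, (Matrix.scalar (Fin n) z - MC).det = (z ^ 6 + 1) * (z - (c : ℂ)) := by
      intro z
      rw [← Matrix.eval_charpoly, hMC, RingHom.mapMatrix_apply, Matrix.charpoly_map, h]
      simp [φ]
    have e2 := congrArg Matrix.det (hfac (k : ℂ))
    rw [Matrix.det_mul, Matrix.det_mul, e, e, e, ← Matrix.eval_charpoly, hMC, ← map_pow, RingHom.mapMatrix_apply,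
      Matrix.charpoly_map, ← Int.cast_pow, eval_intCast_map] at e2
    refine e2.trans ?_
    simp only [eval_mul, eval_pow, eval_add, eval_sub, eval_X, eval_one, eval_C]
    push_cast
    have h3 : ω ^ 3 = 1 := hω.pow_eq_one
    have h6 : (ω * (k : ℂ)) ^ 6 = (k : ℂ) ^ 6 := by linear_combination (k : ℂ) ^ 6 * (ω ^ 3 + 1) * h3
    have h6' : (ω ^ 2 * (k : ℂ)) ^ 6 = (k : ℂ) ^ 6 := by
      linear_combination (k : ℂ) ^ 6 * (ω ^ 9 + ω ^ 6 + ω ^ 3 + 1) * h3
    have hprod : ((k : ℂ) - c) * (ω * k - c) * (ω ^ 2 * k - c) = (k : ℂ) ^ 3 - c := by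
      have hcc : (c : ℂ) ^ 3 = c := by exact_mod_cast hc3
      linear_combination (k : ℂ) ^ 3 * h3 - (k : ℂ) ^ 2 * c * ω * hsum - (k : ℂ) ^ 2 * c * (ω - 1) * 0 +
        (k : ℂ) * c ^ 2 * hsum - hcc + (-(k : ℂ) ^ 2 * c) * 0
    rw [h6, h6', ← hprod]
    ring
  refine Polynomial.eq_of_infinite_eval_eq _ _ (Set.Infinite.mono ?_
    (Set.infinite_range_of_injective (f := fun k : ℕ => ((k : ℤ)) ^ 3) fun a b h => ?_))
  · rintro _ ⟨k, rfl⟩
    exact hev k
  · exact_mod_cast (pow_left_inj₀ (Int.natCast_nonneg a) (Int.natCast_nonneg b) three_ne_zero).1 h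

/-- Eigenvalues of orders twelve modulo thirteen and four modulo five do not occur together. -/
theorem no_twelve_four (hπ : π ∈ goodE7.weyl) (h : cyclotomic 12 ℤ ∣ (goodE7.coMat π).charpoly)
    (h5 : (5 : ℤ) ∣ (goodE7.coMat π).charpoly.eval 2) : False := by
  classical
  set M := goodE7.coMat π with hM
  have hr : chevE7.rank = 7 := by decide +kernel
  obtain ⟨w, hw⟩ := h
  have hwm : w.Monic := (cyclotomic.monic 12 ℤ).of_mul_monic_left (hw ▸ Matrix.charpoly_monic _)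
  have hdeg : w.natDegree = 3 := by
    have h1 := congrArg natDegree hw
    rw [Matrix.charpoly_natDegree_eq_dim, Fintype.card_fin, hr, (cyclotomic.monic 12 ℤ).natDegree_mul hwm,
      natDegree_cyclotomic, show (12 : ℕ).totient = 4 by decide] at h1
    omega
  obtain ⟨e, he, hMe⟩ := coMat_pow_one goodE7 hπ
  have hroot : ∀ z : ℂ, aeval z w = 0 → ‖z‖ = 1 := fun z hz => by
    refine Complex.norm_eq_one_of_pow_eq_one (charpoly_root_pow M hMe z ?_) he.ne'
    rw [hw, map_mul, hz, mul_zero]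
  -- a rational root
  obtain ⟨c, hc, hwc⟩ : ∃ c : ℤ, (c = 1 ∨ c = -1) ∧ w.eval c = 0 := by
    obtain ⟨x, hx⟩ : ∃ x : ℝ, aeval x w = 0 := by
      have hev : ∀ x : ℝ, aeval x w = x ^ 3 + (w.coeff 2 : ℝ) * x ^ 2 + (w.coeff 1 : ℝ) * x + (w.coeff 0 : ℝ) := by
        intro x
        rw [aeval_eq_sum_range, hdeg]
        simp [Finset.sum_range_succ, show w.coeff 3 = 1 by rw [← hdeg]; exact hwm, zsmul_eq_mul]
        ring
      set K : ℝ := |(w.coeff 2 : ℝ)| + |(w.coeff 1 : ℝ)| + |(w.coeff 0 : ℝ)| + 1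
      have hK : 1 ≤ K := by
        have := abs_nonneg (w.coeff 2 : ℝ); have := abs_nonneg (w.coeff 1 : ℝ); have := abs_nonneg (w.coeff 0 : ℝ)
        simp only [K]; linarith
      have hcont : ContinuousOn (fun x : ℝ => aeval x w) (Set.Icc (-K) K) :=
        (Polynomial.continuous_aeval w).continuousOn
      have hb2 := abs_le.1 (le_refl |(w.coeff 2 : ℝ)|)
      have hb1 := abs_le.1 (le_refl |(w.coeff 1 : ℝ)|)
      have hb0 := abs_le.1 (le_refl |(w.coeff 0 : ℝ)|)
      have hp : 0 ≤ aeval K w := by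
        rw [hev]
        nlinarith [mul_le_mul_of_nonneg_left hK (abs_nonneg (w.coeff 1 : ℝ)), mul_le_mul_of_nonneg_left hK (abs_nonneg (w.coeff 0 : ℝ)),
          mul_nonneg (sub_nonneg.2 hK) (abs_nonneg (w.coeff 0 : ℝ))]
      have hm : aeval (-K) w ≤ 0 := by
        rw [hev]
        nlinarith [mul_le_mul_of_nonneg_left hK (abs_nonneg (w.coeff 1 : ℝ)), mul_le_mul_of_nonneg_left hK (abs_nonneg (w.coeff 0 : ℝ)),
          mul_nonneg (sub_nonneg.2 hK) (abs_nonneg (w.coeff 0 : ℝ))]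
      obtain ⟨x, -, hx⟩ := intermediate_value_Icc (by linarith) hcont ⟨hm, hp⟩
      exact ⟨x, hx⟩
    have hxC : aeval (x : ℂ) w = 0 := by
      rw [show (x : ℂ) = algebraMap ℝ ℂ x from rfl, aeval_algebraMap_apply, hx, map_zero]
    have hn := hroot _ hxC
    rw [Complex.norm_real, Real.norm_eq_abs, abs_eq (zero_le_one' ℝ)] at hn
    rcases hn with rfl | rfl
    · exact ⟨1, Or.inl rfl, by
        have : aeval ((1 : ℤ) : ℝ) w = 0 := by simpa using hx
        rwa [show ((1 : ℤ) : ℝ) = algebraMap ℤ ℝ 1 from rfl, aeval_algebraMap_apply, map_eq_zero_iff _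
          Int.cast_injective, coe_aeval_eq_eval] at this⟩
    · exact ⟨-1, Or.inr rfl, by
        have : aeval ((-1 : ℤ) : ℝ) w = 0 := by simpa using hx
        rwa [show ((-1 : ℤ) : ℝ) = algebraMap ℤ ℝ (-1) from rfl, aeval_algebraMap_apply, map_eq_zero_iff _
          Int.cast_injective, coe_aeval_eq_eval] at this⟩
  obtain ⟨w₂, hw₂⟩ := dvd_iff_isRoot.2 (show IsRoot w c from hwc)
  have hw₂m : w₂.Monic := (monic_X_sub_C c).of_mul_monic_left (hw₂ ▸ hwm)
  have hdeg₂ : w₂.natDegree = 2 := by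
    have h1 := congrArg natDegree hw₂
    rw [hdeg, (monic_X_sub_C c).natDegree_mul hw₂m, natDegree_X_sub_C] at h1
    omega
  set b := w₂.coeff 1
  set a := w₂.coeff 0
  have hwe : w₂ = X ^ 2 + C b * X + C a := by
    conv_lhs => rw [hw₂m.as_sum, hdeg₂]
    simp [Finset.sum_range_succ, b, a]
    ring
  obtain ⟨μ, hμ⟩ := IsAlgClosed.exists_aeval_eq_zero ℂ w₂ (by
    rw [degree_eq_natDegree hw₂m.ne_zero, hdeg₂]; norm_num)
  have h2 : aeval (-(b : ℂ) - μ) w₂ = 0 := by
    rw [hwe] at hμ ⊢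
    simp only [map_add, map_mul, map_pow, aeval_X, aeval_C, algebraMap_int_eq, eq_intCast, map_intCast] at hμ ⊢
    linear_combination hμ
  have hn1 : ‖μ‖ = 1 := hroot _ (by rw [hw₂, map_mul, hμ, mul_zero])
  have hn2 : ‖-(b : ℂ) - μ‖ = 1 := hroot _ (by rw [hw₂, map_mul, h2, mul_zero])
  have hμa : μ * (-(b : ℂ) - μ) = (a : ℂ) := by
    rw [hwe] at hμ
    simp only [map_add, map_mul, map_pow, aeval_X, aeval_C, algebraMap_int_eq, eq_intCast, map_intCast] at hμ
    linear_combination -hμ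
  have ha : a = 1 ∨ a = -1 := by
    have := congrArg norm hμa
    rw [norm_mul, hn1, hn2, mul_one, Complex.norm_intCast, eq_comm] at this
    have hz : |a| = 1 := by exact_mod_cast this
    exact (abs_eq zero_le_one).1 hz
  have hb : -2 ≤ b ∧ b ≤ 2 := by
    have h3 : ‖(b : ℂ)‖ ≤ 2 := by
      calc ‖(b : ℂ)‖ = ‖μ + (-(b : ℂ) - μ)‖ := by rw [add_sub_cancel, norm_neg]
        _ ≤ ‖μ‖ + ‖-(b : ℂ) - μ‖ := norm_add_le _ _
        _ = 2 := by rw [hn1, hn2]; norm_num
    rw [Complex.norm_intCast] at h3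
    exact abs_le.1 (by exact_mod_cast h3)
  have hb0 : a = -1 → b = 0 := by
    intro ha1
    rw [ha1] at hμa
    have hμ0 : μ ≠ 0 := fun h0 => by rw [h0, norm_zero] at hn1; exact zero_ne_one hn1
    have hconj : (starRingEnd ℂ) μ = μ⁻¹ := (Complex.inv_eq_conj hn1).symm
    have hbeq : (b : ℂ) = (starRingEnd ℂ) μ - μ := by
      rw [hconj]
      field_simp
      push_cast at hμa
      linear_combination -hμa
    have := congrArg Complex.re hbeq
    simp at this
    exact_mod_cast this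
  have hev : (5 : ℤ) ∣ 13 * ((2 - c) * (4 + 2 * b + a)) := by
    rw [hw, hw₂, hwe, cyclotomic_twelve] at h5
    simpa [mul_comm b] using h5
  have hgood : b = 0 ∧ a = 1 := by
    rcases ha with ha | ha
    · rw [ha] at hev
      rcases hc with rfl | rfl <;> refine ⟨?_, ha⟩ <;> omega
    · rw [ha, hb0 ha] at hev
      rcases hc with rfl | rfl <;> omega
  refine absurd (bound_E7 (t := 3) (pow_mem hπ 3) ?_) (by norm_num)
  have h4e : cyclotomic 4 ℤ = X ^ 2 + 1 := by
    haveI : Fact (Nat.Prime 2) := ⟨Nat.prime_two⟩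
    rw [show (4 : ℕ) = 2 ^ (1 + 1) by norm_num, cyclotomic_prime_pow_eq_geom_sum Nat.prime_two]
    simp [Finset.sum_range_succ, add_comm]
  rw [goodE7.coMat_pow hπ, ← hM, h4e, charpoly_cube hr M hc (by
    rw [hw, hw₂, hwe, hgood.1, hgood.2, cyclotomic_twelve]
    simp only [map_zero, map_one]
    ring)]
  exact dvd_mul_right _ _

/-- No element of order five fixes an eigenvector of order twelve. -/
theorem stab_five (hπ : π ∈ goodE7.weyl) (h : cyclotomic 12 ℤ ∣ (goodE7.coMat π).charpoly) {r : ℕ} [Fact r.Prime]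
    (hrW : ¬ r ∣ Nat.card goodE7.weyl) (hr12 : ¬ r ∣ 12) {q : ZMod r} (hζ : IsPrimitiveRoot q 12)
    {v : Fin chevE7.rank → ZMod r} (hv : v ≠ 0)
    (hRv : (goodE7.coMat π).map (Int.cast : ℤ → ZMod r) *ᵥ v = q • v)
    {ρ₀ : Equiv.Perm (Fin chevE7.nroots)} (hρ₀ : ρ₀ ∈ goodE7.weyl)
    (hρ₀v : (goodE7.coMat ρ₀).map (Int.cast : ℤ → ZMod r) *ᵥ v = v) (h5 : ρ₀ ^ 5 = 1) : ρ₀ = 1 := by
  classical
  set M := goodE7.coMat π with hM
  have hr7 : chevE7.rank = 7 := by decide +kernel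
  have hmm : ∀ A A' : Matrix (Fin chevE7.rank) (Fin chevE7.rank) ℤ,
      (A * A').map (Int.cast : ℤ → ZMod r) = A.map (Int.cast : ℤ → ZMod r) * A'.map (Int.cast : ℤ → ZMod r) :=
    fun A A' => Matrix.map_mul (f := Int.castRingHom (ZMod r))
  set G : Subgroup (Equiv.Perm (Fin chevE7.nroots)) :=
    { carrier := {ρ | ρ ∈ goodE7.weyl ∧ (goodE7.coMat ρ).map (Int.cast : ℤ → ZMod r) *ᵥ v = v}
      mul_mem' := fun {a b} ha hb => ⟨mul_mem ha.1 hb.1, by
        rw [goodE7.coMat_mul ha.1, hmm, ← Matrix.mulVec_mulVec, ha.2, hb.2]⟩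
      one_mem' := ⟨one_mem _, by
        rw [goodE7.coMat_one, Matrix.map_one _ Int.cast_zero Int.cast_one, Matrix.one_mulVec]⟩
      inv_mem' := fun {a} ha => ⟨inv_mem ha.1, by
        conv_lhs => rw [← ha.2]
        rw [Matrix.mulVec_mulVec, ← hmm, (goodE7.coMat_inv_mul ha.1).1,
          Matrix.map_one _ Int.cast_zero Int.cast_one, Matrix.one_mulVec]⟩ } with hG
  set E : Matrix (Fin chevE7.rank) (Fin chevE7.rank) ℤ := ∑ ρ : G, goodE7.coMat ρ with hE
  set n : ℤ := (Fintype.card G : ℤ) with hn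
  have hnr : (n : ZMod r) ≠ 0 := by
    rw [hn, Int.cast_natCast, ne_eq, CharP.cast_eq_zero_iff (ZMod r) r]
    refine fun hdvd => hrW (hdvd.trans ?_)
    rw [← Nat.card_eq_fintype_card]
    exact Subgroup.card_dvd_of_le fun ρ hρ => hρ.1
  have hconj : ∀ ρ : G, π * ρ * π⁻¹ ∈ G := fun ρ => by
    refine ⟨mul_mem (mul_mem hπ ρ.2.1) (inv_mem hπ), ?_⟩
    rw [goodE7.coMat_mul (mul_mem hπ ρ.2.1), goodE7.coMat_mul hπ, hmm, hmm, ← hM, ← Matrix.mulVec_mulVec,
      ← Matrix.mulVec_mulVec, hRv, Matrix.mulVec_smul, ρ.2.2, ← hRv, Matrix.mulVec_mulVec, ← hmm, hM,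
      (goodE7.coMat_inv_mul hπ).1, Matrix.map_one _ Int.cast_zero Int.cast_one, Matrix.one_mulVec]
  have hEM : Commute E M := by
    show E * M = M * E
    rw [hE, Finset.sum_mul, Finset.mul_sum]
    refine Fintype.sum_bijective (fun ρ : G => (⟨π * ρ * π⁻¹, hconj ρ⟩ : G))
      ((Finite.injective_iff_bijective).1 fun a b e => Subtype.ext (by simpa using congrArg Subtype.val e)) _ _
      fun ρ => ?_
    show goodE7.coMat ρ * M = M * goodE7.coMat (π * ρ * π⁻¹)
    rw [goodE7.coMat_mul (mul_mem hπ ρ.2.1), goodE7.coMat_mul hπ, hM, ← mul_assoc, (goodE7.coMat_inv_mul hπ).2,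
      one_mul]
  have hfix : ∀ σ : G, goodE7.coMat σ * E = E := fun σ => by
    rw [hE, Finset.mul_sum]
    refine Fintype.sum_bijective (fun ρ : G => ρ * σ) (Group.mulRight_bijective σ) _ _ fun ρ => ?_
    rw [Subgroup.coe_mul, goodE7.coMat_mul ρ.2.1]
  -- the part of order twelve of the fixed lattice
  obtain ⟨Ψ, hΨ⟩ := h
  have hΨq : (Ψ.map (Int.castRingHom (ZMod r))).eval q ≠ 0 := by
    intro h0
    obtain ⟨e, he, hMe⟩ := coMat_pow_one goodE7 hπ
    have hMo : M ^ orderOf (⟨π, hπ⟩ : ↥goodE7.weyl) = 1 := by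
      rw [hM, ← goodE7.coMat_pow hπ, show π ^ orderOf (⟨π, hπ⟩ : ↥goodE7.weyl) =
        ((⟨π, hπ⟩ : ↥goodE7.weyl) ^ orderOf (⟨π, hπ⟩ : ↥goodE7.weyl) : ↥goodE7.weyl).1 from rfl, pow_orderOf_eq_one]
      exact goodE7.coMat_one
    obtain ⟨t, ht, htd⟩ := exists_cyclotomic_pow_dvd hζ (orderOf_pos (⟨π, hπ⟩ : ↥goodE7.weyl))
      (fun hd => hrW (hd.trans (orderOf_dvd_natCard _))) hr12 _ _ rfl M.charpoly_monic
      (fun μ hμ => charpoly_root_pow M hMo μ hμ)
    have hΨm : Ψ.Monic := (cyclotomic.monic 12 ℤ).of_mul_monic_left (hΨ ▸ M.charpoly_monic)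
    rw [hΨ, Polynomial.map_mul, map_cyclotomic_int, rootMultiplicity_mul
      (mul_ne_zero (cyclotomic_ne_zero 12 _) (hΨm.map _).ne_zero)] at ht
    have h1 := (rootMultiplicity_pos (hΨm.map (Int.castRingHom (ZMod r))).ne_zero).2 h0
    haveI : NeZero ((12 : ℕ) : ZMod r) := ⟨by rwa [ne_eq, CharP.cast_eq_zero_iff (ZMod r) r]⟩
    have h2 := (rootMultiplicity_pos (cyclotomic_ne_zero 12 (ZMod r))).2 (isRoot_cyclotomic_iff.2 hζ)
    have h3 : 2 ≤ t := by omega
    have h4 := natDegree_le_of_dvd ((pow_dvd_pow _ h3).trans htd) M.charpoly_monic.ne_zero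
    rw [natDegree_pow, natDegree_cyclotomic, Matrix.charpoly_natDegree_eq_dim, Fintype.card_fin, hr7,
      show (12 : ℕ).totient = 4 by decide] at h4
    omega
  set Z := E * aeval M Ψ with hZ
  have hΦZ : aeval M (cyclotomic 12 ℤ) * Z = 0 := by
    have hcomm : Commute (aeval M (cyclotomic 12 ℤ)) E := by
      refine Polynomial.induction_on' (cyclotomic 12 ℤ) (fun f g hf hg => by rw [map_add]; exact hf.add_left hg) fun k x => ?_
      rw [aeval_monomial]
      exact (Algebra.commute_algebraMap_left x E).mul_left (hEM.symm.pow_left k)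
    rw [hZ, ← mul_assoc, hcomm.eq, mul_assoc, ← map_mul, ← hΨ, Matrix.aeval_self_charpoly, mul_zero]
  have hev : E.map (Int.cast : ℤ → ZMod r) *ᵥ v = (n : ZMod r) • v := by
    rw [show E.map (Int.cast : ℤ → ZMod r) = (Int.castRingHom (ZMod r)).mapMatrix E from rfl, hE, map_sum,
      Matrix.sum_mulVec]
    rw [Finset.sum_congr rfl fun (ρ : G) _ => (show (Int.castRingHom (ZMod r)).mapMatrix (goodE7.coMat ρ) *ᵥ v = v
      from ρ.2.2), Finset.sum_const, Finset.card_univ, hn, Int.cast_natCast, Nat.cast_smul_eq_nsmul]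
  have hΨv : (aeval M Ψ).map (Int.cast : ℤ → ZMod r) *ᵥ v = (Ψ.map (Int.castRingHom (ZMod r))).eval q • v := by
    suffices hall : ∀ f : ℤ[X], (aeval M f).map (Int.cast : ℤ → ZMod r) *ᵥ v = (f.map (Int.castRingHom (ZMod r))).eval q • v from hall Ψ
    intro f
    induction f using Polynomial.induction_on' with
    | add f g hf hg =>
      rw [map_add, Matrix.map_add _ Int.cast_add, Matrix.add_mulVec, hf, hg, Polynomial.map_add, eval_add, add_smul]
    | monomial k x =>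
      have hk : ∀ k : ℕ, (M ^ k).map (Int.cast : ℤ → ZMod r) *ᵥ v = q ^ k • v := fun k => by
        induction k with
        | zero => rw [pow_zero, Matrix.map_one _ Int.cast_zero Int.cast_one, Matrix.one_mulVec, pow_zero, one_smul]
        | succ k ih => rw [pow_succ, hmm, ← Matrix.mulVec_mulVec, hRv, Matrix.mulVec_smul, ih, smul_smul, pow_succ']
      rw [aeval_monomial, map_monomial, eval_monomial, ← Algebra.smul_def, Matrix.map_smul', Matrix.smul_mulVec, hk,
        smul_smul]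
      · rfl
      · exact fun x y => Int.cast_mul x y
  obtain ⟨j, hj⟩ : ∃ j, Z.col j ≠ 0 := by
    by_contra hall; push Not at hall
    have h0 : Z = 0 := Matrix.ext fun a b => congrFun (hall b) a
    have e := congrArg (fun A : Matrix _ _ ℤ => A.map (Int.cast : ℤ → ZMod r) *ᵥ v) h0
    simp only [hZ, hmm, ← Matrix.mulVec_mulVec, hΨv, Matrix.mulVec_smul, hev, smul_smul,
      Matrix.map_zero _ Int.cast_zero, Matrix.zero_mulVec] at e
    rw [smul_eq_zero, mul_eq_zero] at e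
    rcases e with (e | e) | e
    exacts [hΨq e, hnr e, hv e]
  set P := goodE7.coMat ρ₀ with hP
  have hPZ : P * Z = Z := by rw [hZ, ← mul_assoc, hfix ⟨ρ₀, hρ₀, hρ₀v⟩]
  have hkill : aeval M (cyclotomic 12 ℤ) *ᵥ Z.col j = 0 := funext fun a => congrFun (congrFun hΦZ a) j
  -- the moved part
  refine goodE7.coMat_eq_one hρ₀ (sub_eq_zero.1 ?_)
  by_contra hne
  obtain ⟨i, hi⟩ : ∃ i, (P - 1).col i ≠ 0 := by
    by_contra hall; push Not at hall
    exact hne (Matrix.ext fun a b => congrFun (hall b) a)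
  have hP5 : P ^ 5 = 1 := by rw [hP, ← goodE7.coMat_pow hρ₀, h5, goodE7.coMat_one]
  set S5 : Matrix (Fin chevE7.rank) (Fin chevE7.rank) ℤ := P ^ 4 + P ^ 3 + P ^ 2 + P + 1 with hS5
  have hS5P : S5 * (P - 1) = 0 := by
    have : S5 * (P - 1) = P ^ 5 - 1 := by rw [hS5]; noncomm_ring
    rw [this, hP5, sub_self]
  have hΦ5 : aeval P (cyclotomic 5 ℤ) = S5 := by
    haveI : Fact (Nat.Prime 5) := ⟨Nat.prime_five⟩
    rw [cyclotomic_prime, hS5]
    simp [Finset.sum_range_succ]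
    abel
  set y := (P - 1).col i with hy
  have hyk : aeval P (cyclotomic 5 ℤ) *ᵥ y = 0 := funext fun a => by
    rw [hΦ5, hy]; exact congrFun (congrFun hS5P a) i
  have hPM : ∀ k : ℕ, P *ᵥ (M ^ k *ᵥ Z.col j) = M ^ k *ᵥ Z.col j := fun k => by
    have hMZ : M ^ k *ᵥ Z.col j = (E * (aeval M Ψ * M ^ k)).col j := by
      have hc' : Commute (aeval M Ψ) (M ^ k) := by
        refine Polynomial.induction_on' Ψ (fun f g hf hg => by rw [map_add]; exact hf.add_left hg) fun k' x => ?_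
        rw [aeval_monomial]
        exact (Algebra.commute_algebraMap_left x _).mul_left ((Commute.refl M).pow_pow k' k)
      rw [hc'.eq, ← mul_assoc, (hEM.pow_right k).eq, mul_assoc, ← hZ]
      rfl
    rw [hMZ]
    exact funext fun a => congrFun (congrFun (show P * (E * (aeval M Ψ * M ^ k)) = E * (aeval M Ψ * M ^ k) by
      rw [← mul_assoc, hfix ⟨ρ₀, hρ₀, hρ₀v⟩]) a) j
  have hfive : ∀ x : Fin chevE7.rank → ℤ, P *ᵥ x = x → aeval P (cyclotomic 5 ℤ) *ᵥ x = (5 : ℤ) • x := by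
    intro x hx
    have hp : ∀ k : ℕ, P ^ k *ᵥ x = x := fun k => by
      induction k with
      | zero => rw [pow_zero, Matrix.one_mulVec]
      | succ k ih => rw [pow_succ, ← Matrix.mulVec_mulVec, hx, ih]
    rw [hΦ5, hS5]
    simp only [Matrix.add_mulVec, hp, Matrix.one_mulVec, hx]
    module
  have hkillk : ∀ k : ℕ, aeval P (cyclotomic 5 ℤ) *ᵥ (P ^ k *ᵥ y) = 0 := fun k => by
    rw [Matrix.mulVec_mulVec, show aeval P (cyclotomic 5 ℤ) * P ^ k = P ^ k * aeval P (cyclotomic 5 ℤ) by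
      simpa using ((Commute.all (cyclotomic 5 ℤ) (X ^ k)).map (aeval P : ℤ[X] →ₐ[ℤ] _)).eq, ← Matrix.mulVec_mulVec, hyk,
      Matrix.mulVec_zero]
  let Lm : (Fin 4 ⊕ Fin 4 → ℤ) →ₗ[ℤ] (Fin chevE7.rank → ℤ) :=
    Fintype.linearCombination ℤ (Sum.elim (fun k : Fin 4 => M ^ (k : ℕ) *ᵥ Z.col j)
      (fun k : Fin 4 => P ^ (k : ℕ) *ᵥ y))
  have hLinj : Function.Injective Lm := by
    rw [injective_iff_map_eq_zero]
    intro c hc
    simp only [Lm, Fintype.linearCombination_apply, Fintype.sum_sum_type, Sum.elim_inl, Sum.elim_inr] at hc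
    have e := congrArg (fun x => aeval P (cyclotomic 5 ℤ) *ᵥ x) hc
    simp only [Matrix.mulVec_add, Matrix.mulVec_sum, Matrix.mulVec_smul, hkillk, smul_zero,
      Finset.sum_const_zero, add_zero, Matrix.mulVec_zero] at e
    rw [Finset.sum_congr rfl fun (k : Fin 4) _ => congrArg (c (Sum.inl k) • ·) (hfive _ (hPM k)),
      Finset.sum_congr rfl fun k _ => smul_comm (c (Sum.inl k)) (5 : ℤ) _, ← Finset.smul_sum, smul_eq_zero] at e
    have e' := e.resolve_left (by norm_num)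
    have ha := indep_four M hj hkill _ e'
    rw [e', zero_add] at hc
    have hb := indep_five P hi hyk _ hc
    funext x
    rcases x with k | k
    · exact congrFun ha k
    · exact congrFun hb k
  have := LinearMap.finrank_le_finrank_of_injective hLinj
  simp only [Module.finrank_fintype_fun_eq_card, Fintype.card_sum, Fintype.card_fin] at this
  omega

end CfsgLib.Chev.Springer
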