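import Mathlib
import Cfsg.Agent.Lib.Chev.E7TwelveFour

/-!
Inner products of roots in E₇: counting the roots orthogonal to a root or to a pair of roots, and
bounding the roots in a three dimensional subspace.
-/

set_option autoImplicit false
set_option maxHeartbeats 1000000
set_option maxRecDepth 100000

namespace CfsgLib.Chev.Springer

open Cfsg.Lie Matrix Polynomial

abbrev CE7 : Matrix (Fin chevE7.rank) (Fin chevE7.rank) ℤ := cartanMat chevE7

/-- Twice the inverse of the Cartan matrix. -/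
noncomputable def duoE7 : Matrix (Fin chevE7.rank) (Fin chevE7.rank) ℤ :=
  listMat _ [[4, 4, 6, 8, 6, 4, 2], [4, 7, 8, 12, 9, 6, 3], [6, 8, 12, 16, 12, 8, 4], [8, 12, 16, 24, 18, 12, 6],
    [6, 9, 12, 18, 15, 10, 5], [4, 6, 8, 12, 10, 8, 4], [2, 3, 4, 6, 5, 4, 3]]

theorem duoE7_mul : duoE7 * CE7 = (2 : ℤ) • 1 ∧ CE7 * duoE7 = (2 : ℤ) • 1 := by decide +kernel

theorem CE7_symm : CE7.IsSymm := by unfold Matrix.IsSymm; decide +kernel

theorem CE7_pos {v : Fin chevE7.rank → ℤ} (hv : v ≠ 0) : 0 < v ⬝ᵥ (CE7 *ᵥ v) :=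
  quad_pos _
    (listMat _ [[2, 0, -1, 0, 0, 0, 0], [0, 2, 0, -1, 0, 0, 0], [0, 0, 3, -2, 0, 0, 0], [0, 0, 0, 5, -6, 0, 0],
      [0, 0, 0, 0, 4, -5, 0], [0, 0, 0, 0, 0, 3, -4], [0, 0, 0, 0, 0, 0, 1]])
    (listMat _ [[30, 0, 10, 4, 6, 10, 40], [0, 30, 0, 6, 9, 15, 60], [0, 0, 20, 8, 12, 20, 80],
      [0, 0, 0, 12, 18, 30, 120], [0, 0, 0, 0, 15, 25, 100], [0, 0, 0, 0, 0, 20, 80], [0, 0, 0, 0, 0, 0, 60]])
    (fun i => nth 0 [30, 30, 10, 2, 3, 5, 40] i.val) (m := 60) (c := 60) (by norm_num) (by norm_num)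
    (by decide +kernel) (by decide +kernel) (by decide +kernel) hv

theorem form_E7 {π : Equiv.Perm (Fin chevE7.nroots)} (hπ : π ∈ goodE7.weyl) :
    goodE7.coMat π * CE7 * (goodE7.coMat π)ᵀ = CE7 :=
  coMat_form goodE7 (cartanMat chevE7) (by decide +kernel) π hπ

/-- The invariant form. -/
def ipV (a b : Fin chevE7.rank → ℤ) : ℤ := a ⬝ᵥ (CE7 *ᵥ b)

theorem ipV_comm (a b : Fin chevE7.rank → ℤ) : ipV a b = ipV b a := by
  rw [ipV, ipV, Matrix.dotProduct_mulVec, ← Matrix.mulVec_transpose, CE7_symm.eq, dotProduct_comm]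

theorem ipV_add_left (a b c : Fin chevE7.rank → ℤ) : ipV (a + b) c = ipV a c + ipV b c := add_dotProduct _ _ _

theorem ipV_smul_left (n : ℤ) (a c : Fin chevE7.rank → ℤ) : ipV (n • a) c = n * ipV a c := smul_dotProduct _ _ _

theorem ipV_neg_left (a c : Fin chevE7.rank → ℤ) : ipV (-a) c = -ipV a c := neg_dotProduct _ _

theorem ipV_sub_left (a b c : Fin chevE7.rank → ℤ) : ipV (a - b) c = ipV a c - ipV b c := sub_dotProduct _ _ _

theorem ipV_zero_left (c : Fin chevE7.rank → ℤ) : ipV 0 c = 0 := zero_dotProduct _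

theorem ipV_sum_left {ι : Type*} (s : Finset ι) (a : ι → Fin chevE7.rank → ℤ) (c : Fin chevE7.rank → ℤ) :
    ipV (∑ i ∈ s, a i) c = ∑ i ∈ s, ipV (a i) c := sum_dotProduct _ _ _

theorem ipV_add_right (a b c : Fin chevE7.rank → ℤ) : ipV a (b + c) = ipV a b + ipV a c := by
  rw [ipV_comm, ipV_add_left, ipV_comm b, ipV_comm c]

theorem ipV_sub_right (a b c : Fin chevE7.rank → ℤ) : ipV a (b - c) = ipV a b - ipV a c := by
  rw [ipV_comm, ipV_sub_left, ipV_comm b, ipV_comm c]

theorem ipV_neg_right (a c : Fin chevE7.rank → ℤ) : ipV a (-c) = -ipV a c := by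
  rw [ipV_comm, ipV_neg_left, ipV_comm]

theorem ipV_smul_right (n : ℤ) (a c : Fin chevE7.rank → ℤ) : ipV a (n • c) = n * ipV a c := by
  rw [ipV_comm, ipV_smul_left, ipV_comm]

theorem eq_zero_of_ipV_self {a : Fin chevE7.rank → ℤ} (h : ipV a a = 0) : a = 0 :=
  by_contra fun ha => (CE7_pos ha).ne' h

theorem ipV_vecMul {π : Equiv.Perm (Fin chevE7.nroots)} (hπ : π ∈ goodE7.weyl) (a b : Fin chevE7.rank → ℤ) :
    ipV (a ᵥ* goodE7.coMat π) (b ᵥ* goodE7.coMat π) = ipV a b := by
  rw [ipV, ipV, ← Matrix.mulVec_transpose (goodE7.coMat π) b, Matrix.mulVec_mulVec, Matrix.dotProduct_mulVec,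
    Matrix.vecMul_vecMul, ← mul_assoc, form_E7 hπ, ← Matrix.dotProduct_mulVec]

/-- The inner product of two roots. -/
noncomputable def ipR (u v : Fin chevE7.nroots) : ℤ := ipV (goodE7.coVec u) (goodE7.coVec v)

theorem ipR_comm (u v : Fin chevE7.nroots) : ipR u v = ipR v u := ipV_comm _ _

theorem ipR_apply {π : Equiv.Perm (Fin chevE7.nroots)} (hπ : π ∈ goodE7.weyl) (u v : Fin chevE7.nroots) :
    ipR (π u) (π v) = ipR u v := by
  rw [ipR, ipR, goodE7.coVec_apply hπ, goodE7.coVec_apply hπ, ipV_vecMul hπ]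

theorem ipR_nroot_left (u v : Fin chevE7.nroots) : ipR (goodE7.nroot u) v = -ipR u v := by
  rw [ipR, ipR, goodE7.coVec_nroot, ipV_neg_left]

theorem ipR_self (u : Fin chevE7.nroots) : ipR u u = 2 := by
  obtain ⟨l, i, h1, -⟩ := goodE7.exists_word_simple u.2
  have hw : goodE7.wperm l (goodE7.sroot i) = u := Fin.ext h1
  rw [← hw, ipR_apply (goodE7.wperm_mem l), ipR, goodE7.coVec_sroot]
  clear h1 hw
  revert i
  decide +kernel

theorem ipR_eq_two {u v : Fin chevE7.nroots} (h : ipR u v = 2) : u = v := by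
  refine goodE7.coVec_injective (sub_eq_zero.1 (eq_zero_of_ipV_self ?_))
  have h' := h
  have h2 := ipR_self u
  have h3 := ipR_self v
  simp only [ipR] at h' h2 h3
  rw [ipV_sub_left, ipV_comm _ (_ - _), ipV_comm _ (_ - _), ipV_sub_left, ipV_sub_left,
    ipV_comm (goodE7.coVec v) (goodE7.coVec u), h', h2, h3]
  norm_num

theorem ipR_eq_neg_two {u v : Fin chevE7.nroots} (h : ipR u v = -2) : u = goodE7.nroot v :=
  ipR_eq_two (by rw [ipR_comm, ipR_nroot_left, ipR_comm, h, neg_neg])

theorem ipR_abs (u v : Fin chevE7.nroots) : -2 ≤ ipR u v ∧ ipR u v ≤ 2 := by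
  have h0 : ∀ a : Fin chevE7.rank → ℤ, 0 ≤ ipV a a := fun a => by
    rcases eq_or_ne a 0 with rfl | ha
    · rw [ipV_zero_left]
    · exact (CE7_pos ha).le
  have h1 := h0 (goodE7.coVec u - goodE7.coVec v)
  have h2 := h0 (goodE7.coVec u + goodE7.coVec v)
  have h3 := ipR_self u
  have h4 := ipR_self v
  simp only [ipR] at h3 h4 ⊢
  rw [ipV_sub_left, ipV_comm _ (_ - _), ipV_comm _ (_ - _), ipV_sub_left, ipV_sub_left,
    ipV_comm (goodE7.coVec v) (goodE7.coVec u), h3, h4] at h1
  rw [ipV_add_left, ipV_comm _ (_ + _), ipV_comm _ (_ + _), ipV_add_left, ipV_add_left,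
    ipV_comm (goodE7.coVec v) (goodE7.coVec u), h3, h4] at h2
  omega

/-- The Cartan integers of a root. -/
theorem cartan_vec (u : Fin chevE7.nroots) :
    CE7 *ᵥ goodE7.coVec u = fun i : Fin chevE7.rank => chevE7.cartan i u := by
  funext i
  rw [goodE7.cartan_eq_sum u.2 i.2, Finset.sum_range]
  rw [Matrix.mulVec, dotProduct]
  exact Finset.sum_congr rfl fun j _ => mul_comm (cartanMat chevE7 i j) (goodE7.coVec u j)

/-- The sum of the squares of all rows of Cartan integers. -/
theorem frame : (∑ u : Fin chevE7.nroots, vecMulVec (fun i : Fin chevE7.rank => chevE7.cartan i u)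
    (fun i : Fin chevE7.rank => chevE7.cartan i u)) = (36 : ℤ) • CE7 := by
  decide +kernel

theorem frame_ip (a b : Fin chevE7.rank → ℤ) :
    ∑ u : Fin chevE7.nroots, ipV (goodE7.coVec u) a * ipV (goodE7.coVec u) b = 36 * ipV a b := by
  have h : ∀ (u : Fin chevE7.nroots) (x : Fin chevE7.rank → ℤ),
      ipV (goodE7.coVec u) x = (fun i : Fin chevE7.rank => chevE7.cartan i u) ⬝ᵥ x := fun u x => by
    rw [ipV_comm, ipV, cartan_vec, dotProduct_comm]
  calc ∑ u : Fin chevE7.nroots, ipV (goodE7.coVec u) a * ipV (goodE7.coVec u) b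
      = a ⬝ᵥ ((∑ u : Fin chevE7.nroots, vecMulVec (fun i : Fin chevE7.rank => chevE7.cartan i u)
          (fun i : Fin chevE7.rank => chevE7.cartan i u)) *ᵥ b) := by
        rw [Matrix.sum_mulVec, dotProduct_sum]
        refine Finset.sum_congr rfl fun u _ => ?_
        rw [Matrix.vecMulVec_mulVec, h, h, op_smul_eq_smul, dotProduct_smul, dotProduct_comm a, smul_eq_mul]
        ring
    _ = 36 * ipV a b := by
        rw [frame, Matrix.smul_mulVec, dotProduct_smul, smul_eq_mul]; rfl

theorem nroot_ne (u : Fin chevE7.nroots) : goodE7.nroot u ≠ u := fun h =>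
  goodE7.neg_ne u.2 (congrArg Fin.val h)

/-- Sixty roots are orthogonal to a root. -/
theorem card_orth_one (a : Fin chevE7.nroots) :
    (Finset.univ.filter fun u => ipR u a = 0).card = 60 := by
  classical
  have hn : Fintype.card (Fin chevE7.nroots) = 126 := by rw [Fintype.card_fin]; decide +kernel
  have hsum : ∑ u : Fin chevE7.nroots, (1 - ipR u a * ipR u a) = 54 := by
    rw [Finset.sum_sub_distrib]
    have := frame_ip (goodE7.coVec a) (goodE7.coVec a)
    simp only [ipR] at this ⊢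
    rw [this, show ipV (goodE7.coVec a) (goodE7.coVec a) = ipR a a from rfl, ipR_self]
    simp [hn]
  have hpt : ∀ u, (if ipR u a = 0 then (1 : ℤ) else 0) =
      (1 - ipR u a * ipR u a) + (if u ∈ ({a, goodE7.nroot a} : Finset _) then 3 else 0) := by
    intro u
    by_cases hu : u ∈ ({a, goodE7.nroot a} : Finset _)
    · rw [if_pos hu]
      simp only [Finset.mem_insert, Finset.mem_singleton] at hu
      rcases hu with rfl | rfl
      · rw [ipR_self, if_neg (by norm_num)]; norm_num
      · rw [ipR_nroot_left, ipR_self, if_neg (by norm_num)]; norm_num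
    · rw [if_neg hu]
      simp only [Finset.mem_insert, Finset.mem_singleton, not_or] at hu
      obtain ⟨h1, h2⟩ := ipR_abs u a
      have h3 : ipR u a ≠ 2 := fun h => hu.1 (ipR_eq_two h)
      have h4 : ipR u a ≠ -2 := fun h => hu.2 (ipR_eq_neg_two h)
      generalize ipR u a = x at *
      interval_cases x <;> simp_all
  have h := Finset.sum_congr rfl fun u (_ : u ∈ (Finset.univ : Finset (Fin chevE7.nroots))) => hpt u
  rw [Finset.sum_boole, Finset.sum_add_distrib, hsum, Finset.sum_ite_mem, Finset.univ_inter, Finset.sum_const,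
    Finset.card_insert_of_notMem (by simpa using (nroot_ne a).symm), Finset.card_singleton] at h
  norm_num at h
  exact_mod_cast h

/-- Thirty roots are orthogonal to two roots with inner product minus one. -/
theorem card_orth_two {a b : Fin chevE7.nroots} (hab : ipR a b = -1) :
    (Finset.univ.filter fun u => ipR u a = 0 ∧ ipR u b = 0).card = 30 := by
  classical
  have hn : Fintype.card (Fin chevE7.nroots) = 126 := by rw [Fintype.card_fin]; decide +kernel
  have hsum : ∑ u : Fin chevE7.nroots, (1 - (ipR u a * ipR u a + ipR u a * ipR u b + ipR u b * ipR u b)) = 18 := by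
    simp only [Finset.sum_sub_distrib, Finset.sum_add_distrib]
    simp only [ipR] at hab ⊢
    rw [frame_ip, frame_ip, frame_ip, hab, show ipV (goodE7.coVec a) (goodE7.coVec a) = ipR a a from rfl,
      show ipV (goodE7.coVec b) (goodE7.coVec b) = ipR b b from rfl, ipR_self, ipR_self]
    simp [hn]
  obtain ⟨c, hc⟩ : ∃ c, goodE7.coVec c = goodE7.coVec a + goodE7.coVec b := by
    obtain ⟨s, hs, hsa, hsfix⟩ := goodE7.exists_reflection a
    refine ⟨s b, sub_eq_zero.1 (eq_zero_of_ipV_self ?_)⟩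
    have e1 : goodE7.coVec a ᵥ* goodE7.coMat s = -goodE7.coVec a := by
      rw [← goodE7.coVec_apply hs, hsa, goodE7.coVec_nroot]
    have e2 : ∀ z, ipV (goodE7.coVec a) z = 0 → ipV (goodE7.coVec b ᵥ* goodE7.coMat s) z = ipV (goodE7.coVec b) z := by
      intro z hz
      have h1 := hsfix ℤ (CE7 *ᵥ z) (by simpa [ipV, dotProduct] using hz)
      rw [ipV, ipV, ← Matrix.dotProduct_mulVec]
      congr 1
    set w := goodE7.coVec b ᵥ* goodE7.coMat s with hw
    rw [goodE7.coVec_apply hs, ← hw]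
    have hww : ipV w w = 2 := by rw [hw, ipV_vecMul hs]; exact ipR_self b
    have hab' : ipV (goodE7.coVec a) (goodE7.coVec b) = -1 := hab
    have hba' : ipV (goodE7.coVec b) (goodE7.coVec a) = -1 := (ipV_comm _ _).trans hab'
    have hbb : ipV (goodE7.coVec b) (goodE7.coVec b) = 2 := ipR_self b
    have haa : ipV (goodE7.coVec a) (goodE7.coVec a) = 2 := ipR_self a
    have hwa : ipV w (goodE7.coVec a) = 1 := by
      have h0 := ipV_vecMul hs (goodE7.coVec b) (goodE7.coVec a)
      rw [e1, ← hw, ipV_neg_right, hba'] at h0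
      omega
    have hz := e2 (goodE7.coVec a + (2 : ℤ) • goodE7.coVec b) (by
      rw [ipV_add_right, ipV_smul_right, haa, hab']; norm_num)
    rw [ipV_add_right, ipV_smul_right, ipV_add_right, ipV_smul_right, hwa, hbb, hba'] at hz
    simp only [ipV_sub_left, ipV_sub_right, ipV_add_left, ipV_add_right, hww, hwa, haa, hbb, hab', hba',
      ipV_comm (goodE7.coVec a) w, ipV_comm (goodE7.coVec b) w]
    omega
  have hipc : ∀ u, ipR u c = ipR u a + ipR u b := fun u => by
    rw [ipR_comm, ipR, hc, ipV_add_left, ipR_comm u a, ipR_comm u b]; rfl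
  have hac : ipR a c = 1 := by rw [hipc, ipR_self, hab]; norm_num
  have hbc : ipR b c = 1 := by rw [hipc, ipR_comm b a, hab, ipR_self]; norm_num
  set S : Finset (Fin chevE7.nroots) :=
    {a, goodE7.nroot a, b, goodE7.nroot b, c, goodE7.nroot c} with hS
  have hScard : S.card = 6 := by
    have hne : ∀ {x y : Fin chevE7.nroots}, (ipR x a ≠ ipR y a ∨ ipR x b ≠ ipR y b) → x ≠ y := by
      rintro x _ h rfl; simp at h
    have ha1 := ipR_self a
    have hb1 := ipR_self b
    have hba : ipR b a = -1 := by rw [ipR_comm, hab]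
    have hca : ipR c a = 1 := by rw [ipR_comm, hac]
    have hcb : ipR c b = 1 := by rw [ipR_comm, hbc]
    simp only [hS]
    rw [Finset.card_insert_of_notMem, Finset.card_insert_of_notMem, Finset.card_insert_of_notMem,
      Finset.card_insert_of_notMem, Finset.card_insert_of_notMem, Finset.card_singleton] <;>
    · simp only [Finset.mem_insert, Finset.mem_singleton, not_or]
      refine ?_
      repeat' constructor
      all_goals exact hne (by simp only [ipR_nroot_left, ha1, hb1, hab, hba, hca, hcb]; omega)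
  have hpt : ∀ u, (if ipR u a = 0 ∧ ipR u b = 0 then (1 : ℤ) else 0) =
      (1 - (ipR u a * ipR u a + ipR u a * ipR u b + ipR u b * ipR u b)) + (if u ∈ S then 2 else 0) := by
    intro u
    by_cases hu : u ∈ S
    · rw [if_pos hu]
      simp only [hS, Finset.mem_insert, Finset.mem_singleton] at hu
      rcases hu with e | e | e | e | e | e <;> rw [e] <;>
        simp [ipR_nroot_left, ipR_self, hab, ipR_comm b a, ipR_comm c a, ipR_comm c b, hac, hbc]
    · rw [if_neg hu]
      simp only [hS, Finset.mem_insert, Finset.mem_singleton, not_or] at hu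
      obtain ⟨n1, n2, n3, n4, n5, n6⟩ := hu
      obtain ⟨h1, h2⟩ := ipR_abs u a
      obtain ⟨h1', h2'⟩ := ipR_abs u b
      have h3 : ipR u a ≠ 2 := fun h => n1 (ipR_eq_two h)
      have h4 : ipR u a ≠ -2 := fun h => n2 (ipR_eq_neg_two h)
      have h5 : ipR u b ≠ 2 := fun h => n3 (ipR_eq_two h)
      have h6 : ipR u b ≠ -2 := fun h => n4 (ipR_eq_neg_two h)
      have h7 : ipR u a + ipR u b ≠ 2 := fun h => n5 (ipR_eq_two ((hipc u).trans h))
      have h8 : ipR u a + ipR u b ≠ -2 := fun h => n6 (ipR_eq_neg_two ((hipc u).trans h))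
      generalize ipR u a = x at *
      generalize ipR u b = y at *
      interval_cases x <;> interval_cases y <;> simp_all
  have h := Finset.sum_congr rfl fun u (_ : u ∈ (Finset.univ : Finset (Fin chevE7.nroots))) => hpt u
  rw [Finset.sum_boole, Finset.sum_add_distrib, hsum, Finset.sum_ite_mem, Finset.univ_inter, Finset.sum_const,
    hScard] at h
  norm_num at h
  exact_mod_cast h

/-- Solutions of the dual quadratic equation. -/
theorem count_three : ∀ a ∈ ([-1, 0, 1] : List ℤ), ∀ b ∈ ([-1, 0, 1] : List ℤ), ∀ c ∈ ([-1, 0, 1] : List ℤ),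
    8 + 2 * a * b * c - 2 * a * a - 2 * b * b - 2 * c * c ≠ 0 →
    ((Finset.Icc (-2 : ℤ) 2 ×ˢ Finset.Icc (-2 : ℤ) 2 ×ˢ Finset.Icc (-2 : ℤ) 2).filter fun x =>
      x.1 * x.1 * (4 - c * c) + x.2.1 * x.2.1 * (4 - b * b) + x.2.2 * x.2.2 * (4 - a * a) +
        2 * x.1 * x.2.1 * (b * c - 2 * a) + 2 * x.1 * x.2.2 * (a * c - 2 * b) + 2 * x.2.1 * x.2.2 * (a * b - 2 * c) =
        2 * (8 + 2 * a * b * c - 2 * a * a - 2 * b * b - 2 * c * c)).card ≤ 12 := by
  decide +kernel

theorem count_two : ∀ a ∈ ([-1, 0, 1] : List ℤ),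
    ((Finset.Icc (-2 : ℤ) 2 ×ˢ Finset.Icc (-2 : ℤ) 2).filter fun x =>
      2 * x.1 * x.1 - 2 * a * x.1 * x.2 + 2 * x.2 * x.2 = 2 * (4 - a * a)).card ≤ if a = 0 then 4 else 6 := by
  decide +kernel

/-- An integral family is independent. -/
def IndepZ {ι : Type*} [Fintype ι] (a : ι → Fin chevE7.rank → ℤ) : Prop :=
  ∀ t : ι → ℤ, ∑ i, t i • a i = 0 → t = 0

/-- Roots in the span of three independent roots. -/
theorem card_span_three {a : Fin 3 → Fin chevE7.nroots} (ha : IndepZ fun i => goodE7.coVec (a i))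
    (S : Finset (Fin chevE7.nroots))
    (hS : ∀ u ∈ S, ∃ n : ℤ, n ≠ 0 ∧ ∃ t : Fin 3 → ℤ, n • goodE7.coVec u = ∑ i, t i • goodE7.coVec (a i)) :
    S.card ≤ 12 := by
  classical
  set x := ipR (a 0) (a 1) with hx
  set y := ipR (a 0) (a 2) with hy
  set z := ipR (a 1) (a 2) with hz
  have hone : ∀ i j, i ≠ j → ipR (a i) (a j) ∈ ([-1, 0, 1] : List ℤ) := by
    intro i j hij
    have hij' : a i ≠ a j ∧ a i ≠ goodE7.nroot (a j) := by
      constructor <;> intro he
      · have := congrFun (ha (Pi.single i 1 - Pi.single j 1) (by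
          simp [sub_smul, Finset.sum_sub_distrib, Pi.single_apply, ite_smul, he])) i
        simp [hij] at this
      · have := congrFun (ha (Pi.single i 1 + Pi.single j 1) (by
          simp [add_smul, Finset.sum_add_distrib, Pi.single_apply, ite_smul, he, goodE7.coVec_nroot])) i
        simp [hij] at this
    obtain ⟨h1, h2⟩ := ipR_abs (a i) (a j)
    have h3 : ipR (a i) (a j) ≠ 2 := fun h => hij'.1 (ipR_eq_two h)
    have h4 : ipR (a i) (a j) ≠ -2 := fun h => hij'.2 (ipR_eq_neg_two h)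
    simp only [List.mem_cons, List.not_mem_nil, or_false]
    omega
  have hgram : ∀ (t : Fin 3 → ℤ) (j : Fin 3), ipV (∑ i, t i • goodE7.coVec (a i)) (goodE7.coVec (a j)) =
      ∑ i, t i * ipR (a i) (a j) := fun t j => by
    rw [ipV_sum_left]; exact Finset.sum_congr rfl fun i _ => ipV_smul_left _ _ _
  have hdet : 8 + 2 * x * y * z - 2 * x * x - 2 * y * y - 2 * z * z ≠ 0 := by
    intro h0
    set t : Fin 3 → ℤ := ![4 - z * z, y * z - 2 * x, x * z - 2 * y] with ht
    have e0 : (∑ i, t i • goodE7.coVec (a i)) = 0 := by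
      refine eq_zero_of_ipV_self ?_
      rw [ipV_comm, ipV_sum_left]
      simp only [ipV_smul_left, ipV_comm (goodE7.coVec _) (∑ _, _), hgram]
      simp only [Fin.sum_univ_three, ipR_self, ipR_comm (a 1) (a 0), ipR_comm (a 2) (a 0), ipR_comm (a 2) (a 1),
        ← hx, ← hy, ← hz, ht, Matrix.cons_val_zero, Matrix.cons_val_one, Matrix.cons_val_two, Matrix.head_cons,
        Matrix.tail_cons]
      linear_combination (4 - z * z) * h0
    have hz' := congrFun (ha t e0) 0
    have := hone 1 2 (by decide)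
    rw [← hz] at this
    simp only [List.mem_cons, List.not_mem_nil, or_false] at this
    rcases this with h | h | h <;> simp [ht, h] at hz'
  let f : Fin chevE7.nroots → ℤ × ℤ × ℤ := fun u => (ipR u (a 0), ipR u (a 1), ipR u (a 2))
  refine le_trans (le_of_eq (Finset.card_image_of_injOn (f := f) ?_).symm) (le_trans (Finset.card_le_card ?_)
    (count_three x (hone 0 1 (by decide)) y (hone 0 2 (by decide)) z (hone 1 2 (by decide)) hdet))
  · intro u hu v hv he
    obtain ⟨n, hn, t, ht⟩ := hS u hu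
    obtain ⟨m, hm, s, hs⟩ := hS v hv
    refine goodE7.coVec_injective (smul_right_injective _ (mul_ne_zero hn hm) (sub_eq_zero.1 ?_))
    set w := (n * m) • goodE7.coVec u - (n * m) • goodE7.coVec v
    have hw : w = ∑ i, (m * t i - n * s i) • goodE7.coVec (a i) := by
      simp only [w, sub_smul, Finset.sum_sub_distrib, mul_smul, ← Finset.smul_sum, ← ht, ← hs]
      rw [smul_comm n m]
    have hperp : ∀ j, ipV w (goodE7.coVec (a j)) = 0 := by
      intro j
      have e := congrArg (fun p : ℤ × ℤ × ℤ => ![p.1, p.2.1, p.2.2] j) he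
      have e' : ipR u (a j) = ipR v (a j) := by fin_cases j <;> simpa [f] using e
      simp only [w, ipV_sub_left, ipV_smul_left]
      simp only [ipR] at e'
      rw [e', sub_self]
    refine eq_zero_of_ipV_self ?_
    nth_rewrite 2 [hw]
    rw [ipV_comm, ipV_sum_left]
    exact Finset.sum_eq_zero fun i _ => by rw [ipV_smul_left, ipV_comm, hperp, mul_zero]
  · intro p hp
    obtain ⟨u, hu, rfl⟩ := Finset.mem_image.1 hp
    obtain ⟨n, hn, t, ht⟩ := hS u hu
    simp only [f, Finset.mem_filter, Finset.mem_product, Finset.mem_Icc]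
    refine ⟨⟨ipR_abs _ _, ipR_abs _ _, ipR_abs _ _⟩, ?_⟩
    have e : ∀ j, n * ipR u (a j) = ∑ i, t i * ipR (a i) (a j) := fun j => by
      rw [← hgram, ← ht, ipV_smul_left]; rfl
    have e00 := e 0
    have e01 := e 1
    have e02 := e 2
    have euu : n * (n * ipR u u) = ∑ j, t j * (n * ipR u (a j)) := by
      rw [ipR, ← ipV_smul_left, ipV_comm, ← ipV_smul_left, ht, ipV_sum_left]
      refine Finset.sum_congr rfl fun j _ => ?_
      rw [← ht, ipV_smul_left, ipV_comm, ipV_smul_left]; rfl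
    rw [ipR_self] at euu
    simp only [Fin.sum_univ_three, ipR_self, ipR_comm (a 1) (a 0), ipR_comm (a 2) (a 0), ipR_comm (a 2) (a 1),
      ← hx, ← hy, ← hz] at e00 e01 e02 euu
    refine mul_left_cancel₀ (mul_ne_zero hn hn) ?_
    generalize ipR u (a 0) = p0 at *
    generalize ipR u (a 1) = p1 at *
    generalize ipR u (a 2) = p2 at *
    linear_combination
      (n * p0 * (4 - z * z) + n * p1 * (y * z - 2 * x) + n * p2 * (x * z - 2 * y)) * e00 +
      (n * p0 * (y * z - 2 * x) + n * p1 * (4 - y * y) + n * p2 * (x * y - 2 * z)) * e01 +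
      (n * p0 * (x * z - 2 * y) + n * p1 * (x * y - 2 * z) + n * p2 * (4 - x * x)) * e02 -
      (8 + 2 * x * y * z - 2 * x * x - 2 * y * y - 2 * z * z) * euu

/-- Roots in the span of two roots, neither equal nor opposite. -/
theorem card_span_two {a b : Fin chevE7.nroots} (hab : a ≠ b) (hab' : a ≠ goodE7.nroot b)
    (S : Finset (Fin chevE7.nroots))
    (hS : ∀ u ∈ S, ∃ n : ℤ, n ≠ 0 ∧ ∃ t s : ℤ, n • goodE7.coVec u = t • goodE7.coVec a + s • goodE7.coVec b) :
    S.card ≤ if ipR a b = 0 then 4 else 6 := by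
  classical
  set x := ipR a b with hx
  have hx' : x ∈ ([-1, 0, 1] : List ℤ) := by
    obtain ⟨h1, h2⟩ := ipR_abs a b
    have h3 : x ≠ 2 := fun h => hab (ipR_eq_two h)
    have h4 : x ≠ -2 := fun h => hab' (ipR_eq_neg_two h)
    simp only [List.mem_cons, List.not_mem_nil, or_false]
    omega
  let f : Fin chevE7.nroots → ℤ × ℤ := fun u => (ipR u a, ipR u b)
  refine le_trans (le_of_eq (Finset.card_image_of_injOn (f := f) ?_).symm) (le_trans (Finset.card_le_card ?_)
    (count_two x hx'))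
  · intro u hu v hv he
    obtain ⟨n, hn, t, s, ht⟩ := hS u hu
    obtain ⟨m, hm, t', s', ht'⟩ := hS v hv
    refine goodE7.coVec_injective (smul_right_injective _ (mul_ne_zero hn hm) (sub_eq_zero.1 ?_))
    set w := (n * m) • goodE7.coVec u - (n * m) • goodE7.coVec v
    have hw : w = (m * t - n * t') • goodE7.coVec a + (m * s - n * s') • goodE7.coVec b := by
      simp only [w, mul_smul, sub_smul]
      rw [smul_comm n m, ht, ht', smul_add, smul_add]
      abel
    simp only [f, Prod.mk.injEq, ipR] at he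
    have p1 : ipV w (goodE7.coVec a) = 0 := by simp only [w, ipV_sub_left, ipV_smul_left, he.1, sub_self]
    have p2 : ipV w (goodE7.coVec b) = 0 := by simp only [w, ipV_sub_left, ipV_smul_left, he.2, sub_self]
    refine eq_zero_of_ipV_self ?_
    nth_rewrite 2 [hw]
    rw [ipV_comm, ipV_add_left, ipV_smul_left, ipV_smul_left, ipV_comm, p1, ipV_comm, p2]
    ring
  · intro p hp
    obtain ⟨u, hu, rfl⟩ := Finset.mem_image.1 hp
    obtain ⟨n, hn, t, s, ht⟩ := hS u hu
    simp only [f, Finset.mem_filter, Finset.mem_product, Finset.mem_Icc]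
    refine ⟨⟨ipR_abs _ _, ipR_abs _ _⟩, ?_⟩
    have e : ∀ v, n * ipR u v = t * ipR a v + s * ipR b v := fun v => by
      simp only [ipR]; rw [← ipV_smul_left, ht, ipV_add_left, ipV_smul_left, ipV_smul_left]
    have e0 := e a
    have e1 := e b
    have e2 := e u
    rw [ipR_self, ipR_comm a u, ipR_comm b u] at e2
    rw [ipR_self, ipR_comm b a, ← hx] at e0
    rw [ipR_self, ← hx] at e1
    refine mul_left_cancel₀ (mul_ne_zero hn hn) ?_
    generalize ipR u a = p0 at *
    generalize ipR u b = p1 at *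
    linear_combination n * (2 * p0 - x * p1) * e0 + n * (2 * p1 - x * p0) * e1 - n * (4 - x * x) * e2

end CfsgLib.Chev.Springer
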