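import Mathlib
import Cfsg.Agent.Lib.Chev.E7RootPairs

/-!
Weyl group elements of type E₇ with a twelfth root of unity as eigenvalue modulo a prime: the
roots killed by the eigenvector are three orthogonal pairs permuted cyclically.
-/

set_option autoImplicit false
set_option maxHeartbeats 1000000
set_option maxRecDepth 100000

namespace CfsgLib.Chev.Springer

open Cfsg.Lie Matrix Polynomial

theorem rank_E7 : chevE7.rank = 7 := by decide +kernel

theorem nroots_E7 : chevE7.nroots = 126 := by decide +kernel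

/-- The multiples of twelve: orbits without small periods. -/
theorem dvd_card_of_periods {α : Type*} [DecidableEq α] [Fintype α] (σ : Equiv.Perm α) :
    ∀ s : Finset α, (∀ x ∈ s, σ x ∈ s) → (∀ x ∈ s, ∀ k : ℕ, (σ ^ k) x = x → 12 ∣ k) → 12 ∣ s.card := by
  intro s
  induction s using Finset.strongInduction with
  | H s ih =>
    intro hinv hper
    rcases s.eq_empty_or_nonempty with rfl | ⟨x, hx⟩
    · simp
    set p := Function.minimalPeriod (σ : α → α) x
    set O := (Finset.range p).image fun k => (σ : α → α)^[k] x with hO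
    have hmemO : ∀ z, z ∈ O ↔ z ∈ Function.periodicOrbit (σ : α → α) x := by
      intro z
      simp [hO, p, Function.periodicOrbit, eq_comm]
    have hp : 0 < p := Function.minimalPeriod_pos_of_mem_periodicPts (σ.injective.mem_periodicPts x)
    have hcard : O.card = p := by
      rw [hO, Finset.card_image_of_injOn, Finset.card_range]
      intro a ha b hb e
      exact Function.iterate_injOn_Iio_minimalPeriod (Finset.mem_range.1 ha) (Finset.mem_range.1 hb) e
    have hsub : O ⊆ s := by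
      intro z hz
      obtain ⟨k, -, rfl⟩ := Finset.mem_image.1 hz
      clear hz
      induction k with
      | zero => exact hx
      | succ k ihk =>
        rw [Function.iterate_succ_apply']
        exact hinv _ ihk
    have h12 : 12 ∣ p := hper x hx p (by
      rw [Equiv.Perm.coe_pow]; exact Function.iterate_minimalPeriod)
    rw [← Finset.card_sdiff_add_card_eq_card hsub, hcard]
    refine dvd_add (ih _ (Finset.sdiff_ssubset hsub ⟨_, Finset.mem_image.2 ⟨0, Finset.mem_range.2 hp, rfl⟩⟩)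
      (fun z hz => ?_) fun z hz => hper z (Finset.mem_sdiff.1 hz).1) h12
    obtain ⟨hz1, hz2⟩ := Finset.mem_sdiff.1 hz
    refine Finset.mem_sdiff.2 ⟨hinv z hz1, fun h => hz2 ?_⟩
    obtain ⟨k, hk, hke⟩ := Finset.mem_image.1 h
    rcases k with _ | k
    · refine Finset.mem_image.2 ⟨p - 1, Finset.mem_range.2 (by omega), σ.injective ?_⟩
      rw [← Function.iterate_succ_apply' σ (p - 1) x, Nat.succ_eq_add_one, Nat.sub_add_cancel hp,
        Function.iterate_minimalPeriod, ← hke]
      rfl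
    · rw [Function.iterate_succ_apply'] at hke
      exact Finset.mem_image.2 ⟨k, Finset.mem_range.2 (by have := Finset.mem_range.1 hk; omega), σ.injective hke⟩

/-- Two orthogonal independent families fit into the rank. -/
theorem indep_orth_sum {ι κ : Type*} [Fintype ι] [Fintype κ] {a : ι → Fin chevE7.rank → ℤ}
    {b : κ → Fin chevE7.rank → ℤ} (ha : IndepZ a) (hb : IndepZ b) (h : ∀ i j, ipV (a i) (b j) = 0) :
    IndepZ (Sum.elim a b) := by
  intro t ht
  rw [Fintype.sum_sum_type] at ht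
  simp only [Sum.elim_inl, Sum.elim_inr] at ht
  set A := ∑ i, t (Sum.inl i) • a i
  set B := ∑ j, t (Sum.inr j) • b j
  have hAB : ipV A B = 0 := by
    simp only [A, B]
    rw [ipV_sum_left]
    refine Finset.sum_eq_zero fun i _ => ?_
    rw [ipV_smul_left, ipV_comm, ipV_sum_left, Finset.sum_eq_zero (fun j _ => by
      rw [ipV_smul_left, ipV_comm, h, mul_zero]), mul_zero]
  have hA : A = 0 := by
    refine eq_zero_of_ipV_self ?_
    have e : B = -A := eq_neg_of_add_eq_zero_right ht
    rw [e, ipV_neg_right] at hAB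
    omega
  have hA' := ha _ hA
  have hB' := hb _ (by rw [hA, zero_add] at ht; exact ht)
  funext x
  rcases x with i | j
  exacts [congrFun hA' i, congrFun hB' j]

theorem card_le_seven {ι : Type*} [Fintype ι] {a : ι → Fin chevE7.rank → ℤ} (ha : IndepZ a) :
    Fintype.card ι ≤ 7 := by
  classical
  let L := Fintype.linearCombination ℤ a
  have hinj : Function.Injective L := by
    rw [injective_iff_map_eq_zero]
    intro t ht
    exact ha t (by simpa [L, Fintype.linearCombination_apply] using ht)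
  have := LinearMap.finrank_le_finrank_of_injective hinj
  simpa [Module.finrank_fintype_fun_eq_card, rank_E7] using this

/-- Seven independent vectors span rationally. -/
theorem span_seven {ι : Type*} [Fintype ι] (hι : Fintype.card ι = 7) {a : ι → Fin chevE7.rank → ℤ} (ha : IndepZ a)
    (x : Fin chevE7.rank → ℤ) : ∃ n : ℤ, n ≠ 0 ∧ ∃ t : ι → ℤ, n • x = ∑ i, t i • a i := by
  classical
  by_contra hne
  push Not at hne
  have h : IndepZ (Sum.elim (fun _ : Unit => x) a) := by
    intro t ht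
    rw [Fintype.sum_sum_type, Finset.univ_unique, Finset.sum_singleton] at ht
    simp only [Sum.elim_inl, Sum.elim_inr] at ht
    have h0 : t (Sum.inl ()) = 0 := by
      by_contra h0
      refine hne _ h0 (fun i => -t (Sum.inr i)) ?_
      rw [show t (Sum.inl ()) • x = _ from eq_neg_of_add_eq_zero_left ht, ← Finset.sum_neg_distrib]
      simp [neg_smul]
    rw [show (default : Unit) = () from rfl, h0, zero_smul, zero_add] at ht
    have h1 := ha _ ht
    funext y
    rcases y with u | i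
    exacts [h0, congrFun h1 i]
  have := card_le_seven h
  simp [hι] at this

variable {π : Equiv.Perm (Fin chevE7.nroots)}

theorem apply_nroot (hπ : π ∈ goodE7.weyl) (u : Fin chevE7.nroots) : π (goodE7.nroot u) = goodE7.nroot (π u) := by
  refine goodE7.coVec_injective ?_
  rw [goodE7.coVec_apply hπ, goodE7.coVec_nroot, goodE7.coVec_nroot, goodE7.coVec_apply hπ, Matrix.neg_vecMul]

/-- An element negating a root and fixing its orthogonal space is the reflection. -/
theorem refl_formula {a : Fin chevE7.nroots} {s : Equiv.Perm (Fin chevE7.nroots)} (hs : s ∈ goodE7.weyl)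
    (hsa : s a = goodE7.nroot a)
    (hsfix : ∀ (S : Type) [CommRing S] (k : Fin chevE7.rank → S), (∑ i, (goodE7.coVec a i : S) * k i) = 0 →
        (goodE7.coMat s).map (Int.cast : ℤ → S) *ᵥ k = k) (b : Fin chevE7.nroots) :
    goodE7.coVec (s b) = goodE7.coVec b - ipR b a • goodE7.coVec a := by
  set w := goodE7.coVec (s b) with hw
  have hwa : ipV w (goodE7.coVec a) = -ipR b a := by
    have h := ipR_apply hs b a
    rw [hsa, ipR_comm, ipR_nroot_left, ipR_comm] at h
    show ipR (s b) a = _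
    omega
  set x := ipR b a with hx
  set D := w - (goodE7.coVec b - x • goodE7.coVec a) with hD
  have hDa : ipV D (goodE7.coVec a) = 0 := by
    rw [hD, ipV_sub_left, ipV_sub_left, ipV_smul_left, hwa, show ipV (goodE7.coVec b) (goodE7.coVec a) = x from rfl,
      show ipV (goodE7.coVec a) (goodE7.coVec a) = 2 from ipR_self a]
    ring
  have e2 : ipV w D = ipV (goodE7.coVec b) D := by
    have h1 := hsfix ℤ (CE7 *ᵥ D) (by
      rw [ipV_comm] at hDa; simpa [ipV, dotProduct] using hDa)
    rw [hw, goodE7.coVec_apply hs, ipV, ipV, ← Matrix.dotProduct_mulVec]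
    congr 1
  refine sub_eq_zero.1 (eq_zero_of_ipV_self ?_)
  show ipV D D = 0
  nth_rewrite 1 [hD]
  rw [ipV_sub_left, ipV_sub_left, ipV_smul_left, e2, ipV_comm (goodE7.coVec a) D, hDa]
  ring

/-- The reflection of a root, on vectors. -/
theorem exists_refl_vec (a : Fin chevE7.nroots) :
    ∃ s ∈ goodE7.weyl, s a = goodE7.nroot a ∧
      (∀ (S : Type) [CommRing S] (k : Fin chevE7.rank → S), (∑ i, (goodE7.coVec a i : S) * k i) = 0 →
        (goodE7.coMat s).map (Int.cast : ℤ → S) *ᵥ k = k) ∧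
      ∀ b, goodE7.coVec (s b) = goodE7.coVec b - ipR b a • goodE7.coVec a := by
  obtain ⟨s, hs, hsa, hsfix⟩ := goodE7.exists_reflection a
  exact ⟨s, hs, hsa, hsfix, refl_formula hs hsa hsfix⟩

theorem pair_indep {a b : Fin chevE7.nroots} (h1 : a ≠ b) (h2 : a ≠ goodE7.nroot b) {t s : ℤ}
    (h : t • goodE7.coVec a + s • goodE7.coVec b = 0) : t = 0 ∧ s = 0 := by
  have h3 : ipR a b ≠ 2 := fun e => h1 (ipR_eq_two e)
  have h4 : ipR a b ≠ -2 := fun e => h2 (ipR_eq_neg_two e)
  obtain ⟨h5, h6⟩ := ipR_abs a b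
  have ea := congrArg (fun z => ipV z (goodE7.coVec a)) h
  have eb := congrArg (fun z => ipV z (goodE7.coVec b)) h
  simp only [ipV_add_left, ipV_smul_left, ipV_zero_left,
    show ipV (goodE7.coVec a) (goodE7.coVec a) = 2 from ipR_self a,
    show ipV (goodE7.coVec b) (goodE7.coVec b) = 2 from ipR_self b,
    show ipV (goodE7.coVec a) (goodE7.coVec b) = ipR a b from rfl,
    show ipV (goodE7.coVec b) (goodE7.coVec a) = ipR a b from ipR_comm b a] at ea eb
  generalize ipR a b = x at *
  interval_cases x <;> omega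

variable {r : ℕ} {v : Fin chevE7.rank → ZMod r}

/-- The value of a vector at the eigenvector. -/
def dotMod (v : Fin chevE7.rank → ZMod r) (a : Fin chevE7.rank → ℤ) : ZMod r :=
  (fun i => (a i : ZMod r)) ⬝ᵥ v

theorem dotMod_vecMul (A : Matrix (Fin chevE7.rank) (Fin chevE7.rank) ℤ) (a : Fin chevE7.rank → ℤ) :
    dotMod v (a ᵥ* A) = dotMod (A.map (Int.cast : ℤ → ZMod r) *ᵥ v) a := by
  rw [dotMod, dotMod, Matrix.dotProduct_mulVec]
  congr 1
  funext i
  simp [Matrix.vecMul, dotProduct]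

theorem dotMod_smul_vec (c : ZMod r) (a : Fin chevE7.rank → ℤ) : dotMod (c • v) a = c * dotMod v a :=
  dotProduct_smul _ _ _

/-- The roots killed by the vector. -/
noncomputable def killed (v : Fin chevE7.rank → ZMod r) : Finset (Fin chevE7.nroots) := by
  classical exact Finset.univ.filter fun u => dotMod v (goodE7.coVec u) = 0

theorem mem_killed {u : Fin chevE7.nroots} : u ∈ killed v ↔ dotMod v (goodE7.coVec u) = 0 := by
  classical simp [killed]

section Prime

variable [Fact r.Prime] {q : ZMod r}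

theorem killed_apply (hπ : π ∈ goodE7.weyl)
    (hRv : (goodE7.coMat π).map (Int.cast : ℤ → ZMod r) *ᵥ v = q • v) (hq : q ≠ 0) (u : Fin chevE7.nroots) :
    π u ∈ killed v ↔ u ∈ killed v := by
  rw [mem_killed, mem_killed, goodE7.coVec_apply hπ, dotMod_vecMul, hRv, dotMod_smul_vec, mul_eq_zero]
  simp [hq]

theorem period_free (hπ : π ∈ goodE7.weyl)
    (hRv : (goodE7.coMat π).map (Int.cast : ℤ → ZMod r) *ᵥ v = q • v) (hζ : IsPrimitiveRoot q 12)
    {u : Fin chevE7.nroots} (hu : u ∉ killed v) (k : ℕ) (hk : (π ^ k) u = u) : 12 ∣ k := by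
  refine hζ.dvd_of_pow_eq_one k ?_
  have e : ∀ k : ℕ, dotMod v (goodE7.coVec ((π ^ k) u)) = q ^ k * dotMod v (goodE7.coVec u) := by
    intro k
    induction k with
    | zero => simp
    | succ k ih =>
      rw [pow_succ', Equiv.Perm.mul_apply, goodE7.coVec_apply hπ, dotMod_vecMul, hRv, dotMod_smul_vec, ih, pow_succ']
      ring
  have h := e k
  rw [hk] at h
  exact mul_right_cancel₀ (fun h0 => hu (mem_killed.2 h0)) (by rw [one_mul]; exact h.symm)

/-- Four independent vectors fixed by the stabiliser and orthogonal to the killed roots. -/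
theorem exists_plane (hπ : π ∈ goodE7.weyl) (h : cyclotomic 12 ℤ ∣ (goodE7.coMat π).charpoly)
    (hrW : ¬ r ∣ Nat.card goodE7.weyl) (hr12 : ¬ r ∣ 12) (hζ : IsPrimitiveRoot q 12) (hv : v ≠ 0)
    (hRv : (goodE7.coMat π).map (Int.cast : ℤ → ZMod r) *ᵥ v = q • v) :
    ∃ w : Fin 4 → Fin chevE7.rank → ℤ, IndepZ w ∧
      (∀ k, w k ᵥ* aeval (goodE7.coMat π) (cyclotomic 12 ℤ) = 0) ∧
      (∀ u ∈ killed v, ∀ k, ipV (goodE7.coVec u) (w k) = 0) ∧
      ∀ ρ ∈ goodE7.weyl, (goodE7.coMat ρ).map (Int.cast : ℤ → ZMod r) *ᵥ v = v →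
        ∀ k, w k ᵥ* goodE7.coMat ρ = w k := by
  classical
  set M := goodE7.coMat π with hM
  have hmm : ∀ A A' : Matrix (Fin chevE7.rank) (Fin chevE7.rank) ℤ,
      (A * A').map (Int.cast : ℤ → ZMod r) = A.map (Int.cast : ℤ → ZMod r) * A'.map (Int.cast : ℤ → ZMod r) :=
    fun A A' => Matrix.map_mul (f := Int.castRingHom (ZMod r))
  set G : Subgroup (Equiv.Perm (Fin chevE7.nroots)) :=
    { carrier := {ρ | ρ ∈ goodE7.weyl ∧ (goodE7.coMat ρ).map (Int.cast : ℤ → ZMod r) *ᵥ v = v}
      mul_mem' := fun {a b} ha hb => ⟨mul_mem ha.1 hb.1, by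
        rw [goodE7.coMat_mul ha.1, hmm, ← Matrix.mulVec_mulVec, ha.2, hb.2]⟩
      one_mem' := ⟨one_mem _, by
        rw [goodE7.coMat_one, Matrix.map_one _ Int.cast_zero Int.cast_one, Matrix.one_mulVec]⟩
      inv_mem' := fun {a} ha => ⟨inv_mem ha.1, by
        conv_lhs => rw [← ha.2]
        rw [Matrix.mulVec_mulVec, ← hmm, (goodE7.coMat_inv_mul ha.1).1,
          Matrix.map_one _ Int.cast_zero Int.cast_one, Matrix.one_mulVec]⟩ } with hG
  set E : Matrix (Fin chevE7.rank) (Fin chevE7.rank) ℤ := ∑ ρ : G, goodE7.coMat ρ with hE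
  set n : ℤ := (Fintype.card G : ℤ) with hn
  have hnr : (n : ZMod r) ≠ 0 := by
    rw [hn, Int.cast_natCast, ne_eq, CharP.cast_eq_zero_iff (ZMod r) r]
    refine fun hdvd => hrW (hdvd.trans ?_)
    rw [← Nat.card_eq_fintype_card]
    exact Subgroup.card_dvd_of_le fun ρ hρ => hρ.1
  have hconj : ∀ ρ : G, π * ρ * π⁻¹ ∈ G := fun ρ => by
    refine ⟨mul_mem (mul_mem hπ ρ.2.1) (inv_mem hπ), ?_⟩
    rw [goodE7.coMat_mul (mul_mem hπ ρ.2.1), goodE7.coMat_mul hπ, hmm, hmm, ← hM, ← Matrix.mulVec_mulVec,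
      ← Matrix.mulVec_mulVec, hRv, Matrix.mulVec_smul, ρ.2.2, ← hRv, Matrix.mulVec_mulVec, ← hmm, hM,
      (goodE7.coMat_inv_mul hπ).1, Matrix.map_one _ Int.cast_zero Int.cast_one, Matrix.one_mulVec]
  have hEM : Commute E M := by
    show E * M = M * E
    rw [hE, Finset.sum_mul, Finset.mul_sum]
    refine Fintype.sum_bijective (fun ρ : G => (⟨π * ρ * π⁻¹, hconj ρ⟩ : G))
      ((Finite.injective_iff_bijective).1 fun a b e => Subtype.ext (by simpa using congrArg Subtype.val e)) _ _
      fun ρ => ?_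
    show goodE7.coMat ρ * M = M * goodE7.coMat (π * ρ * π⁻¹)
    rw [goodE7.coMat_mul (mul_mem hπ ρ.2.1), goodE7.coMat_mul hπ, hM, ← mul_assoc, (goodE7.coMat_inv_mul hπ).2,
      one_mul]
  have hfix : ∀ σ : G, goodE7.coMat σ * E = E := fun σ => by
    rw [hE, Finset.mul_sum]
    refine Fintype.sum_bijective (fun ρ : G => ρ * σ) (Group.mulRight_bijective σ) _ _ fun ρ => ?_
    rw [Subgroup.coe_mul, goodE7.coMat_mul ρ.2.1]
  obtain ⟨Ψ, hΨ⟩ := h
  have hΨq : (Ψ.map (Int.castRingHom (ZMod r))).eval q ≠ 0 := by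
    intro h0
    have hMo : M ^ orderOf (⟨π, hπ⟩ : ↥goodE7.weyl) = 1 := by
      rw [hM, ← goodE7.coMat_pow hπ, show π ^ orderOf (⟨π, hπ⟩ : ↥goodE7.weyl) =
        ((⟨π, hπ⟩ : ↥goodE7.weyl) ^ orderOf (⟨π, hπ⟩ : ↥goodE7.weyl) : ↥goodE7.weyl).1 from rfl, pow_orderOf_eq_one]
      exact goodE7.coMat_one
    obtain ⟨t, ht, htd⟩ := exists_cyclotomic_pow_dvd hζ (orderOf_pos (⟨π, hπ⟩ : ↥goodE7.weyl))
      (fun hd => hrW (hd.trans (orderOf_dvd_natCard _))) hr12 _ _ rfl M.charpoly_monic
      (fun μ hμ => charpoly_root_pow M hMo μ hμ)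
    have hΨm : Ψ.Monic := (cyclotomic.monic 12 ℤ).of_mul_monic_left (hΨ ▸ M.charpoly_monic)
    rw [hΨ, Polynomial.map_mul, map_cyclotomic_int, rootMultiplicity_mul
      (mul_ne_zero (cyclotomic_ne_zero 12 _) (hΨm.map _).ne_zero)] at ht
    have h1 := (rootMultiplicity_pos (hΨm.map (Int.castRingHom (ZMod r))).ne_zero).2 h0
    haveI : NeZero ((12 : ℕ) : ZMod r) := ⟨by rwa [ne_eq, CharP.cast_eq_zero_iff (ZMod r) r]⟩
    have h2 := (rootMultiplicity_pos (cyclotomic_ne_zero 12 (ZMod r))).2 (isRoot_cyclotomic_iff.2 hζ)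
    have h3 : 2 ≤ t := by omega
    have h4 := natDegree_le_of_dvd ((pow_dvd_pow _ h3).trans htd) M.charpoly_monic.ne_zero
    rw [natDegree_pow, natDegree_cyclotomic, Matrix.charpoly_natDegree_eq_dim, Fintype.card_fin, rank_E7,
      show (12 : ℕ).totient = 4 by decide] at h4
    omega
  set Z := E * aeval M Ψ with hZ
  have hcommE : ∀ f : ℤ[X], Commute (aeval M f) E := by
    intro f
    refine Polynomial.induction_on' f (fun f g hf hg => by rw [map_add]; exact hf.add_left hg) fun k x => ?_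
    rw [aeval_monomial]
    exact (Algebra.commute_algebraMap_left x E).mul_left (hEM.symm.pow_left k)
  have hΦZ : aeval M (cyclotomic 12 ℤ) * Z = 0 := by
    rw [hZ, ← mul_assoc, (hcommE _).eq, mul_assoc, ← map_mul, ← hΨ, Matrix.aeval_self_charpoly, mul_zero]
  have hev : E.map (Int.cast : ℤ → ZMod r) *ᵥ v = (n : ZMod r) • v := by
    rw [show E.map (Int.cast : ℤ → ZMod r) = (Int.castRingHom (ZMod r)).mapMatrix E from rfl, hE, map_sum,
      Matrix.sum_mulVec]
    rw [Finset.sum_congr rfl fun (ρ : G) _ => (show (Int.castRingHom (ZMod r)).mapMatrix (goodE7.coMat ρ) *ᵥ v = v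
      from ρ.2.2), Finset.sum_const, Finset.card_univ, hn, Int.cast_natCast, Nat.cast_smul_eq_nsmul]
  have hΨv : ∀ f : ℤ[X],
      (aeval M f).map (Int.cast : ℤ → ZMod r) *ᵥ v = (f.map (Int.castRingHom (ZMod r))).eval q • v := by
    intro f
    induction f using Polynomial.induction_on' with
    | add f g hf hg =>
      rw [map_add, Matrix.map_add _ Int.cast_add, Matrix.add_mulVec, hf, hg, Polynomial.map_add, eval_add, add_smul]
    | monomial k x =>
      have hk : ∀ k : ℕ, (M ^ k).map (Int.cast : ℤ → ZMod r) *ᵥ v = q ^ k • v := fun k => by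
        induction k with
        | zero => rw [pow_zero, Matrix.map_one _ Int.cast_zero Int.cast_one, Matrix.one_mulVec, pow_zero, one_smul]
        | succ k ih => rw [pow_succ, hmm, ← Matrix.mulVec_mulVec, hRv, Matrix.mulVec_smul, ih, smul_smul, pow_succ']
      rw [aeval_monomial, map_monomial, eval_monomial, ← Algebra.smul_def, Matrix.map_smul', Matrix.smul_mulVec, hk,
        smul_smul]
      · rfl
      · exact fun x y => Int.cast_mul x y
  obtain ⟨j, hj⟩ : ∃ j, Z.col j ≠ 0 := by
    by_contra hall; push Not at hall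
    have h0 : Z = 0 := Matrix.ext fun a b => congrFun (hall b) a
    have e := congrArg (fun A : Matrix _ _ ℤ => A.map (Int.cast : ℤ → ZMod r) *ᵥ v) h0
    simp only [hZ, hmm, ← Matrix.mulVec_mulVec, hΨv, Matrix.mulVec_smul, hev, smul_smul,
      Matrix.map_zero _ Int.cast_zero, Matrix.zero_mulVec] at e
    rw [smul_eq_zero, mul_eq_zero] at e
    rcases e with (e | e) | e
    exacts [hΨq e, hnr e, hv e]
  set z := Z.col j with hz
  have hzfix : ∀ σ : G, goodE7.coMat σ *ᵥ z = z := fun σ => by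
    funext a
    exact congrFun (congrFun (show goodE7.coMat σ * Z = Z by rw [hZ, ← mul_assoc, hfix σ]) a) j
  have hzkill : aeval M (cyclotomic 12 ℤ) *ᵥ z = 0 := funext fun a => congrFun (congrFun hΦZ a) j
  set y := duoE7 *ᵥ z with hy
  have hCy : CE7 *ᵥ y = (2 : ℤ) • z := by
    rw [hy, Matrix.mulVec_mulVec, duoE7_mul.2, Matrix.smul_mulVec, Matrix.one_mulVec]
  have hCinj : ∀ x : Fin chevE7.rank → ℤ, CE7 *ᵥ x = 0 → x = 0 := fun x hx =>
    eq_zero_of_ipV_self (by rw [ipV, hx, dotProduct_zero])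
  have hformk : ∀ k : ℕ, M ^ k * CE7 * (M ^ k)ᵀ = CE7 := fun k => by
    rw [hM, ← goodE7.coMat_pow hπ]; exact form_E7 (pow_mem hπ k)
  have hMinj : ∀ (k : ℕ) (x : Fin chevE7.rank → ℤ), M ^ k *ᵥ x = 0 → x = 0 := fun k x hx => by
    have e := congrArg (fun t => goodE7.coMat (π ^ k)⁻¹ *ᵥ t) hx
    simpa [hM, ← goodE7.coMat_pow hπ, (goodE7.coMat_inv_mul (pow_mem hπ k)).1] using e
  -- fixed by the stabiliser
  have hyfix : ∀ σ : G, y ᵥ* goodE7.coMat σ = y := fun σ => by
    rw [← Matrix.mulVec_transpose]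
    refine sub_eq_zero.1 (hCinj _ ?_)
    have e1 : goodE7.coMat σ *ᵥ (CE7 *ᵥ ((goodE7.coMat σ)ᵀ *ᵥ y)) = CE7 *ᵥ y := by
      rw [Matrix.mulVec_mulVec, Matrix.mulVec_mulVec, form_E7 σ.2.1]
    have e2 : goodE7.coMat σ *ᵥ (CE7 *ᵥ y) = CE7 *ᵥ y := by rw [hCy, Matrix.mulVec_smul, hzfix]
    have h1 := congrArg (fun t => goodE7.coMat (σ : Equiv.Perm _)⁻¹ *ᵥ t) (e1.trans e2.symm)
    simp only [Matrix.mulVec_mulVec, ← mul_assoc, (goodE7.coMat_inv_mul σ.2.1).1, one_mul] at h1
    rw [← Matrix.mulVec_mulVec] at h1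
    rw [Matrix.mulVec_sub, sub_eq_zero]
    exact h1
  have hwfix : ∀ (k : ℕ) (σ : G), (y ᵥ* M ^ k) ᵥ* goodE7.coMat σ = y ᵥ* M ^ k := by
    intro k
    induction k with
    | zero => intro σ; rw [pow_zero, Matrix.vecMul_one]; exact hyfix σ
    | succ k ih =>
      intro σ
      have hσ : goodE7.coMat (π⁻¹ * σ * π) = M * goodE7.coMat σ * goodE7.coMat π⁻¹ := by
        rw [goodE7.coMat_mul (mul_mem (inv_mem hπ) σ.2.1), goodE7.coMat_mul (inv_mem hπ), ← hM, mul_assoc]
      have hmem : π⁻¹ * σ * π ∈ G := by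
        refine ⟨mul_mem (mul_mem (inv_mem hπ) σ.2.1) hπ, ?_⟩
        have hinv : (goodE7.coMat π⁻¹).map (Int.cast : ℤ → ZMod r) *ᵥ v = q⁻¹ • v := by
          refine smul_right_injective (Fin chevE7.rank → ZMod r) (hζ.ne_zero (by norm_num)) ?_
          show q • _ = q • _
          rw [← Matrix.mulVec_smul, ← hRv, Matrix.mulVec_mulVec, ← hmm, hM, (goodE7.coMat_inv_mul hπ).1,
            Matrix.map_one _ Int.cast_zero Int.cast_one, Matrix.one_mulVec, smul_smul,
            mul_inv_cancel₀ (hζ.ne_zero (by norm_num)), one_smul]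
        rw [hσ, hmm, hmm, ← Matrix.mulVec_mulVec, hinv, Matrix.mulVec_smul, ← Matrix.mulVec_mulVec, σ.2.2, hRv,
          smul_smul, inv_mul_cancel₀ (hζ.ne_zero (by norm_num)), one_smul]
      have e := ih ⟨_, hmem⟩
      have e3 := congrArg (fun t => t ᵥ* M) e
      simp only [hσ, Matrix.vecMul_vecMul] at e3
      rw [Matrix.vecMul_vecMul, pow_succ, mul_assoc]
      rw [show M ^ k * (M * goodE7.coMat σ * goodE7.coMat π⁻¹) * M = M ^ k * (M * goodE7.coMat σ) * (goodE7.coMat π⁻¹ * M) by
        noncomm_ring, hM, (goodE7.coMat_inv_mul hπ).1, mul_one] at e3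
      exact e3
  have hkill0 : y ᵥ* aeval M (cyclotomic 12 ℤ) = 0 := by
    refine hCinj _ (hMinj 4 _ ?_)
    have hk : ∀ i ≤ 4, M ^ 4 *ᵥ (CE7 *ᵥ (y ᵥ* M ^ i)) = M ^ (4 - i) *ᵥ (CE7 *ᵥ y) := fun i hi => by
      rw [← Matrix.mulVec_transpose]
      simp only [Matrix.mulVec_mulVec]
      congr 1
      conv_rhs => rw [← hformk i]
      rw [← mul_assoc, ← mul_assoc, ← mul_assoc, ← pow_add, Nat.sub_add_cancel hi]
    rw [cyclotomic_twelve, map_add, map_sub, map_pow, map_pow, aeval_X, map_one, Matrix.vecMul_add,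
      Matrix.vecMul_sub, Matrix.mulVec_add, Matrix.mulVec_sub, Matrix.mulVec_add, Matrix.mulVec_sub,
      hk 4 le_rfl, hk 2 (by norm_num)]
    have hk0 := hk 0 (by norm_num)
    rw [pow_zero] at hk0
    rw [hk0]
    simp only [Nat.sub_self, Nat.sub_zero, show (4 - 2 : ℕ) = 2 from rfl, pow_zero, Matrix.one_mulVec]
    rw [hCy]
    have := congrArg (fun t => (2 : ℤ) • t) hzkill
    rw [cyclotomic_twelve] at this
    simp only [map_add, map_sub, map_pow, aeval_X, map_one, Matrix.add_mulVec, Matrix.sub_mulVec,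
      Matrix.one_mulVec, smul_add, smul_sub, smul_zero, ← Matrix.mulVec_smul] at this
    rw [← this]; abel
  refine ⟨fun k => y ᵥ* M ^ (k : ℕ), ?_, ?_, ?_, fun ρ hρ hρv k => hwfix k ⟨ρ, hρ, hρv⟩⟩
  · -- independent
    intro t ht
    refine indep_four Mᵀ (x := y) ?_ ?_ t ?_
    · intro h0; rw [h0, Matrix.mulVec_zero] at hCy
      exact hj ((smul_eq_zero.1 hCy.symm).resolve_left (by norm_num))
    · rw [show aeval Mᵀ (cyclotomic 12 ℤ) = (aeval M (cyclotomic 12 ℤ))ᵀ by
        rw [cyclotomic_twelve]; simp [Matrix.transpose_pow], Matrix.mulVec_transpose, hkill0]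
    · rw [← ht]
      refine Finset.sum_congr rfl fun i _ => ?_
      rw [← Matrix.transpose_pow, Matrix.mulVec_transpose]
  · intro k
    have hkill : ∀ f : ℤ[X], Commute (M ^ (k : ℕ)) (aeval M f) := fun f => by
      refine Polynomial.induction_on' f (fun f g hf hg => by rw [map_add]; exact hf.add_right hg) fun i x => ?_
      rw [aeval_monomial]
      exact (Algebra.commute_algebraMap_right x _).mul_right ((Commute.refl M).pow_pow k i)
    rw [Matrix.vecMul_vecMul, (hkill _).eq, ← Matrix.vecMul_vecMul]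
    have hk0 : y ᵥ* aeval M (cyclotomic 12 ℤ) = 0 := hkill0
    rw [hk0, Matrix.zero_vecMul]
  · intro u hu k
    obtain ⟨s, hs, hsa, hsfix, -⟩ := exists_refl_vec u
    have hsv : (goodE7.coMat s).map (Int.cast : ℤ → ZMod r) *ᵥ v = v := hsfix _ v (mem_killed.1 hu)
    have e := hwfix k ⟨s, hs, hsv⟩
    have h1 := ipV_vecMul hs (goodE7.coVec u) (y ᵥ* M ^ (k : ℕ))
    rw [← goodE7.coVec_apply hs, hsa, goodE7.coVec_nroot, e, ipV_neg_left] at h1
    show ipV (goodE7.coVec u) (y ᵥ* M ^ (k : ℕ)) = 0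
    omega

/-- Pairwise orthogonal roots are independent. -/
theorem indep_of_orth {ι : Type*} [Fintype ι] {a : ι → Fin chevE7.nroots}
    (h : ∀ i j, i ≠ j → ipR (a i) (a j) = 0) : IndepZ fun i => goodE7.coVec (a i) := by
  classical
  intro t ht
  funext j
  have e := congrArg (fun z => ipV z (goodE7.coVec (a j))) ht
  simp only [ipV_sum_left, ipV_smul_left, ipV_zero_left] at e
  rw [Finset.sum_eq_single j (fun i _ hij => by
      rw [show ipV (goodE7.coVec (a i)) (goodE7.coVec (a j)) = 0 from h i j hij, mul_zero]) (by simp),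
    show ipV (goodE7.coVec (a j)) (goodE7.coVec (a j)) = 2 from ipR_self _] at e
  show t j = 0
  omega

/-- Four orthogonal roots leave no room for the plane. -/
theorem four_orth_false {w : Fin 4 → Fin chevE7.rank → ℤ} (hwi : IndepZ w) {x y z u : Fin chevE7.nroots}
    (hw : ∀ p ∈ [x, y, z, u], ∀ k, ipV (goodE7.coVec p) (w k) = 0) (hxy : ipR x y = 0) (hxz : ipR x z = 0)
    (hyz : ipR y z = 0) (hux : ipR u x = 0) (huy : ipR u y = 0) (huz : ipR u z = 0) : False := by
  have h4 : IndepZ fun i => goodE7.coVec (![x, y, z, u] i) := by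
    refine indep_of_orth fun i j hij => ?_
    have hyx := (ipR_comm y x).trans hxy
    have hzx := (ipR_comm z x).trans hxz
    have hzy := (ipR_comm z y).trans hyz
    have hxu := (ipR_comm x u).trans hux
    have hyu := (ipR_comm y u).trans huy
    have hzu := (ipR_comm z u).trans huz
    fin_cases i <;> fin_cases j <;> first | exact absurd rfl hij | assumption
  have := card_le_seven (indep_orth_sum h4 hwi (fun i k => by
    fin_cases i <;> exact hw _ (by simp) k))
  simp at this

/-- Three orthogonal pairs permuted cyclically. -/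
theorem exists_triangle (hπ : π ∈ goodE7.weyl) (h : cyclotomic 12 ℤ ∣ (goodE7.coMat π).charpoly)
    (hrW : ¬ r ∣ Nat.card goodE7.weyl) (hr12 : ¬ r ∣ 12) (hζ : IsPrimitiveRoot q 12) (hv : v ≠ 0)
    (hRv : (goodE7.coMat π).map (Int.cast : ℤ → ZMod r) *ᵥ v = q • v) :
    ∃ a : Fin chevE7.nroots, a ∈ killed v ∧ ipR a (π a) = 0 ∧ ipR a (π (π a)) = 0 ∧ ipR (π a) (π (π a)) = 0 ∧
      (π (π (π a)) = a ∨ π (π (π a)) = goodE7.nroot a) ∧
      ∀ u ∈ killed v, u ∈ ({a, goodE7.nroot a, π a, goodE7.nroot (π a), π (π a), goodE7.nroot (π (π a))} : Finset _) := by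
  classical
  obtain ⟨w, hwi, -, hworth, -⟩ := exists_plane hπ h hrW hr12 hζ hv hRv
  have hq : q ≠ 0 := hζ.ne_zero (by norm_num)
  set Δ := killed v with hΔ
  have hinv : ∀ u, π u ∈ Δ ↔ u ∈ Δ := killed_apply hπ hRv hq
  have hnn : ∀ {u}, u ∈ Δ → goodE7.nroot u ∈ Δ := fun {u} hu => by
    rw [hΔ, mem_killed, goodE7.coVec_nroot]
    have := mem_killed.1 hu
    simp only [dotMod] at this ⊢
    rw [show (fun i => (((-goodE7.coVec u) i : ℤ) : ZMod r)) = -fun i => ((goodE7.coVec u i : ℤ) : ZMod r) from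
      funext fun i => by simp, neg_dotProduct, this, neg_zero]
  have hfree : ∀ s : Finset (Fin chevE7.nroots), (∀ x ∈ s, π x ∈ s) → Disjoint s Δ → 12 ∣ s.card :=
    fun s hs hd => dvd_card_of_periods π s hs fun x hx =>
      period_free hπ hRv hζ (Finset.disjoint_left.1 hd hx)
  -- the killed roots number six modulo twelve
  have hmod : Δ.card % 12 = 6 := by
    have h1 := hfree Δᶜ (fun x hx => by rw [Finset.mem_compl, hinv]; exact Finset.mem_compl.1 hx)
      disjoint_compl_left
    rw [Finset.card_compl, Fintype.card_fin] at h1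
    have h3 : chevE7.nroots = 126 := nroots_E7
    have h2' := Δ.card_le_univ
    rw [Fintype.card_fin] at h2'
    omega
  obtain ⟨a₀, ha₀⟩ : Δ.Nonempty := Finset.card_pos.1 (by omega)
  obtain ⟨a₁, ha₁, hne1, hne2⟩ : ∃ a₁ ∈ Δ, a₀ ≠ a₁ ∧ a₀ ≠ goodE7.nroot a₁ := by
    by_contra hall
    push Not at hall
    have hsub : Δ ⊆ {a₀, goodE7.nroot a₀} := fun u hu => by
      rw [Finset.mem_insert, Finset.mem_singleton]
      by_cases he : a₀ = u
      · exact Or.inl he.symm
      · exact Or.inr (by rw [hall u hu he, goodE7.nroot_nroot])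
    have := (Finset.card_le_card hsub).trans Finset.card_le_two
    omega
  by_cases hspan : ∀ u ∈ Δ, ∃ n : ℤ, n ≠ 0 ∧ ∃ t s : ℤ,
      n • goodE7.coVec u = t • goodE7.coVec a₀ + s • goodE7.coVec a₁
  · exfalso
    have hle := card_span_two hne1 hne2 Δ hspan
    have hx : ipR a₀ a₁ ≠ 0 := fun h0 => by rw [if_pos h0] at hle; omega
    obtain ⟨b, hb, hbsp⟩ : ∃ b, ipR a₀ b = -1 ∧ (ipR a₀ a₁ = -1 ∧ b = a₁ ∨ ipR a₀ a₁ = 1 ∧ b = goodE7.nroot a₁) := by
      obtain ⟨h1, h2⟩ := ipR_abs a₀ a₁
      have h3 : ipR a₀ a₁ ≠ 2 := fun e => hne1 (ipR_eq_two e)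
      have h4 : ipR a₀ a₁ ≠ -2 := fun e => hne2 (ipR_eq_neg_two e)
      rcases (show ipR a₀ a₁ = -1 ∨ ipR a₀ a₁ = 1 by omega) with h5 | h5
      · exact ⟨a₁, h5, Or.inl ⟨h5, rfl⟩⟩
      · exact ⟨goodE7.nroot a₁, by rw [ipR_comm, ipR_nroot_left, ipR_comm, h5], Or.inr ⟨h5, rfl⟩⟩
    set O := Finset.univ.filter fun u => ipR u a₀ = 0 ∧ ipR u b = 0 with hO
    have hperp : ∀ u ∈ O, ∀ δ ∈ Δ, ipR u δ = 0 := by
      intro u hu δ hδ
      obtain ⟨h1, h2⟩ := (Finset.mem_filter.1 hu).2
      have h2' : ipR u a₁ = 0 := by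
        rcases hbsp with ⟨-, rfl⟩ | ⟨-, rfl⟩
        · exact h2
        · rw [ipR_comm, ipR_nroot_left, ipR_comm, neg_eq_zero] at h2; exact h2
      obtain ⟨n, hn, t, s, hts⟩ := hspan δ hδ
      refine (mul_eq_zero.1 (show n * ipR u δ = 0 from ?_)).resolve_left hn
      simp only [ipR] at h1 h2' ⊢
      rw [← ipV_smul_right, hts, ipV_add_right, ipV_smul_right, ipV_smul_right, h1, h2']
      ring
    have hbΔ : b ∈ Δ := by rcases hbsp with ⟨-, rfl⟩ | ⟨-, rfl⟩; exacts [ha₁, hnn ha₁]
    have h1 := hfree O (fun u hu => Finset.mem_filter.2 ⟨Finset.mem_univ _, by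
        constructor
        · rw [show a₀ = π (π⁻¹ a₀) from (π.apply_symm_apply _).symm, ipR_apply hπ]
          exact hperp u hu _ ((hinv _).1 (by rw [show π (π⁻¹ a₀) = a₀ from π.apply_symm_apply _]; exact ha₀))
        · rw [show b = π (π⁻¹ b) from (π.apply_symm_apply _).symm, ipR_apply hπ]
          exact hperp u hu _ ((hinv _).1 (by rw [show π (π⁻¹ b) = b from π.apply_symm_apply _]; exact hbΔ))⟩)
      (Finset.disjoint_left.2 fun u hu hu' => by
        have := hperp u hu u hu'; rw [ipR_self] at this; omega)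
    rw [hO, card_orth_two hb] at h1
    omega
  push Not at hspan
  obtain ⟨a₂, ha₂, ha₂'⟩ := hspan
  set A : Fin 3 → Fin chevE7.nroots := ![a₀, a₁, a₂] with hA
  have hAi : IndepZ fun i => goodE7.coVec (A i) := by
    intro t ht
    simp only [Fin.sum_univ_three, hA, Matrix.cons_val_zero, Matrix.cons_val_one, Matrix.cons_val_two,
      Matrix.head_cons, Matrix.tail_cons] at ht
    have h2 : t 2 = 0 := by
      by_contra h2
      refine ha₂' (t 2) h2 (-t 0) (-t 1) ?_
      rw [show t 2 • goodE7.coVec a₂ = _ from eq_neg_of_add_eq_zero_right ht, neg_smul, neg_smul]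
      abel
    rw [h2, zero_smul, add_zero] at ht
    obtain ⟨h0, h1⟩ := pair_indep hne1 hne2 ht
    funext i; fin_cases i
    exacts [h0, h1, h2]
  have hAΔ : ∀ i, A i ∈ Δ := fun i => by fin_cases i; exacts [ha₀, ha₁, ha₂]
  have hall : ∀ u ∈ Δ, ∃ n : ℤ, n ≠ 0 ∧ ∃ t : Fin 3 → ℤ, n • goodE7.coVec u = ∑ i, t i • goodE7.coVec (A i) := by
    intro u hu
    by_contra hne
    push Not at hne
    have h4 : IndepZ (Sum.elim (fun _ : Unit => goodE7.coVec u) fun i => goodE7.coVec (A i)) := by
      intro t ht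
      rw [Fintype.sum_sum_type, Finset.univ_unique, Finset.sum_singleton] at ht
      simp only [Sum.elim_inl, Sum.elim_inr] at ht
      have h0 : t (Sum.inl ()) = 0 := by
        by_contra h0
        refine hne _ h0 (fun i => -t (Sum.inr i)) ?_
        rw [show t (Sum.inl ()) • goodE7.coVec u = _ from eq_neg_of_add_eq_zero_left ht, ← Finset.sum_neg_distrib]
        simp [neg_smul]
      rw [show (default : Unit) = () from rfl, h0, zero_smul, zero_add] at ht
      have h1 := hAi _ ht
      funext y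
      rcases y with z | i
      exacts [h0, congrFun h1 i]
    have := card_le_seven (indep_orth_sum h4 hwi (fun i k => by
      rcases i with z | i
      exacts [hworth u hu k, hworth _ (hAΔ i) k]))
    simp at this
  have hc6 : Δ.card = 6 := by
    have := card_span_three hAi Δ hall
    omega
  -- the six roots
  set S : Finset (Fin chevE7.nroots) :=
    (Finset.univ.image A) ∪ Finset.univ.image (fun i => goodE7.nroot (A i)) with hS
  have hsep : ∀ i j, i ≠ j → A i ≠ A j ∧ A i ≠ goodE7.nroot (A j) := by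
    intro i j hij
    constructor <;> intro he
    · have := congrFun (hAi (Pi.single i 1 - Pi.single j 1) (by
        simp [sub_smul, Finset.sum_sub_distrib, Pi.single_apply, ite_smul, he])) i
      simp [hij] at this
    · have := congrFun (hAi (Pi.single i 1 + Pi.single j 1) (by
        simp [add_smul, Finset.sum_add_distrib, Pi.single_apply, ite_smul, he, goodE7.coVec_nroot])) i
      simp [hij] at this
  have hSΔ : S = Δ := by
    refine Finset.eq_of_subset_of_card_le (fun u hu => ?_) ?_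
    · rcases Finset.mem_union.1 hu with hu | hu <;> obtain ⟨i, -, rfl⟩ := Finset.mem_image.1 hu
      exacts [hAΔ i, hnn (hAΔ i)]
    · have hinjA : Function.Injective A := fun i j e => by_contra fun hij => (hsep i j hij).1 e
      rw [hc6, hS, Finset.card_union_of_disjoint, Finset.card_image_of_injective _ hinjA,
        Finset.card_image_of_injective _ (fun i j e => hinjA (by
          have := congrArg goodE7.nroot e; rwa [goodE7.nroot_nroot, goodE7.nroot_nroot] at this))]
      · simp
      · rw [Finset.disjoint_left]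
        intro u hu hu'
        obtain ⟨i, -, rfl⟩ := Finset.mem_image.1 hu
        obtain ⟨j, -, hj⟩ := Finset.mem_image.1 hu'
        rcases eq_or_ne i j with rfl | hij
        · exact nroot_ne _ hj
        · exact (hsep i j hij).2 hj.symm
  have hmemS : ∀ u ∈ Δ, ∃ i, u = A i ∨ u = goodE7.nroot (A i) := fun u hu => by
    rw [← hSΔ] at hu
    rcases Finset.mem_union.1 hu with hu | hu <;> obtain ⟨i, -, rfl⟩ := Finset.mem_image.1 hu
    exacts [⟨i, Or.inl rfl⟩, ⟨i, Or.inr rfl⟩]
  have horth : ∀ i j, i ≠ j → ipR (A i) (A j) = 0 := by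
    intro i j hij
    by_contra hx
    obtain ⟨s, hs, -, hsfix, hsvec⟩ := exists_refl_vec (A i)
    have hsΔ : s (A j) ∈ Δ := by
      rw [hΔ, mem_killed, goodE7.coVec_apply hs, dotMod_vecMul, hsfix _ v (mem_killed.1 (hAΔ i))]
      exact mem_killed.1 (hAΔ j)
    obtain ⟨k, hk⟩ := hmemS _ hsΔ
    have e := hsvec (A j)
    rw [ipR_comm (A j)] at e
    rcases hk with hk | hk
    · rw [hk] at e
      have h1 := hAi (Pi.single k 1 - Pi.single j 1 + Pi.single i (ipR (A i) (A j))) (by
        simp [add_smul, sub_smul, Finset.sum_add_distrib, Finset.sum_sub_distrib, Pi.single_apply, ite_smul, e])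
      have h2 := congrFun h1 i
      have h3 := congrFun h1 j
      rcases eq_or_ne k j with rfl | hkj
      · simp [hij] at h2; exact hx h2
      · simp [hij.symm, hkj.symm] at h3
    · rw [hk, goodE7.coVec_nroot] at e
      have h1 := hAi (Pi.single k 1 + Pi.single j 1 - Pi.single i (ipR (A i) (A j))) (by
        simp [add_smul, sub_smul, Finset.sum_add_distrib, Finset.sum_sub_distrib, Pi.single_apply, ite_smul]
        rw [← neg_neg (goodE7.coVec (A k)), e]; rw [← zsmul_eq_mul]; abel)
      have h2 := congrFun h1 i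
      have h3 := congrFun h1 j
      rcases eq_or_ne k j with rfl | hkj
      · simp [hij.symm] at h3
      · simp [hij.symm, hkj.symm] at h3
  have hdich : ∀ x ∈ Δ, ∀ y ∈ Δ, x = y ∨ x = goodE7.nroot y ∨ ipR x y = 0 := by
    intro x hx y hy
    obtain ⟨i, hi⟩ := hmemS x hx
    obtain ⟨j, hj⟩ := hmemS y hy
    rcases eq_or_ne i j with rfl | hij
    · rcases hi with rfl | rfl <;> rcases hj with rfl | rfl
      exacts [Or.inl rfl, Or.inr (Or.inl (goodE7.nroot_nroot _).symm), Or.inr (Or.inl rfl), Or.inl rfl]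
    · refine Or.inr (Or.inr ?_)
      have hr : ∀ p p', ipR p (goodE7.nroot p') = -ipR p p' := fun p p' => by
        rw [ipR_comm, ipR_nroot_left, ipR_comm]
      rcases hi with rfl | rfl <;> rcases hj with rfl | rfl <;>
        simp only [ipR_nroot_left, hr, horth i j hij, neg_zero]
  have hfour : ∀ x ∈ Δ, (Δ.filter fun u => ipR u x = 0).card = 4 := by
    intro x hx
    have hsplit : Δ.filter (fun u => ¬ ipR u x = 0) = {x, goodE7.nroot x} := by
      ext u
      simp only [Finset.mem_filter, Finset.mem_insert, Finset.mem_singleton]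
      constructor
      · rintro ⟨hu, hne⟩
        rcases hdich u hu x hx with e | e | e
        exacts [Or.inl e, Or.inr e, absurd e hne]
      · rintro (rfl | rfl)
        · exact ⟨hx, by rw [ipR_self]; norm_num⟩
        · exact ⟨hnn hx, by rw [ipR_nroot_left, ipR_self]; norm_num⟩
    have := Finset.card_filter_add_card_filter_not (s := Δ) (fun u => ipR u x = 0)
    rw [hsplit, Finset.card_pair (nroot_ne x).symm] at this
    omega
  -- no pair is fixed
  have hmove : ∀ x ∈ Δ, π x ≠ x ∧ π x ≠ goodE7.nroot x := by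
    intro x hx
    suffices hh : ¬ (π x = x ∨ π x = goodE7.nroot x) from not_or.1 hh
    intro hfix
    set O := (Finset.univ.filter fun u => ipR u x = 0) \ Δ with hO
    have h1 := hfree O (fun u hu => by
      obtain ⟨hu1, hu2⟩ := Finset.mem_sdiff.1 hu
      refine Finset.mem_sdiff.2 ⟨Finset.mem_filter.2 ⟨Finset.mem_univ _, ?_⟩, fun hc => hu2 ((hinv u).1 hc)⟩
      have e := ipR_apply hπ u x
      rw [(Finset.mem_filter.1 hu1).2] at e
      rcases hfix with h' | h' <;> rw [h'] at e
      · exact e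
      · rw [ipR_comm, ipR_nroot_left, neg_eq_zero, ipR_comm] at e; exact e)
      (Finset.sdiff_disjoint)
    have h2 := Finset.card_sdiff_add_card_inter (Finset.univ.filter fun u => ipR u x = 0) Δ
    rw [← hO, card_orth_one, Finset.inter_comm, Finset.inter_filter, Finset.inter_univ, hfour x hx] at h2
    omega
  set b := π a₀ with hb
  set c := π b with hc
  have hbΔ : b ∈ Δ := (hinv _).2 ha₀
  have hcΔ : c ∈ Δ := (hinv _).2 hbΔ
  have hab : ipR a₀ b = 0 := by
    rcases hdich _ ha₀ _ hbΔ with e | e | e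
    · exact absurd e.symm (hmove _ ha₀).1
    · exact absurd (show π a₀ = goodE7.nroot a₀ from ((congrArg goodE7.nroot e).trans (goodE7.nroot_nroot b)).symm) (hmove _ ha₀).2
    · exact e
  have hbc : ipR b c = 0 := (ipR_apply hπ a₀ b).trans hab
  -- three orthogonal killed roots exhaust
  have hexh : ∀ x ∈ Δ, ∀ y ∈ Δ, ∀ z ∈ Δ, ipR x y = 0 → ipR x z = 0 → ipR y z = 0 → ∀ u ∈ Δ,
      u ∈ ({x, goodE7.nroot x, y, goodE7.nroot y, z, goodE7.nroot z} : Finset _) := by
    intro x hx y hy z hz hxy hxz hyz u hu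
    by_contra hne
    simp only [Finset.mem_insert, Finset.mem_singleton, not_or] at hne
    obtain ⟨u1, u2, u3, u4, u5, u6⟩ := hne
    have o1 : ipR u x = 0 := by rcases hdich u hu x hx with e | e | e; exacts [absurd e u1, absurd e u2, e]
    have o2 : ipR u y = 0 := by rcases hdich u hu y hy with e | e | e; exacts [absurd e u3, absurd e u4, e]
    have o3 : ipR u z = 0 := by rcases hdich u hu z hz with e | e | e; exacts [absurd e u5, absurd e u6, e]
    refine four_orth_false hwi (fun p hp k => hworth p ?_ k) hxy hxz hyz o1 o2 o3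
    simp only [List.mem_cons, List.not_mem_nil, or_false] at hp
    rcases hp with rfl | rfl | rfl | rfl <;> assumption
  have hac : ipR a₀ c = 0 := by
    by_contra hne
    have hπb : c = a₀ ∨ c = goodE7.nroot a₀ := by
      rcases hdich _ hcΔ _ ha₀ with e | e | e
      exacts [Or.inl e, Or.inr e, absurd ((ipR_comm _ _).trans e) hne]
    obtain ⟨d, hd, d1, d2, d3, d4⟩ : ∃ d ∈ Δ, d ≠ a₀ ∧ d ≠ goodE7.nroot a₀ ∧ d ≠ b ∧ d ≠ goodE7.nroot b := by
      by_contra hh
      push Not at hh
      have := (Finset.card_le_card (show Δ ⊆ {a₀, goodE7.nroot a₀, b, goodE7.nroot b} from fun u hu => by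
        simp only [Finset.mem_insert, Finset.mem_singleton]
        rcases eq_or_ne u a₀ with e | n1
        · exact Or.inl e
        rcases eq_or_ne u (goodE7.nroot a₀) with e | n2
        · exact Or.inr (Or.inl e)
        rcases eq_or_ne u b with e | n3
        · exact Or.inr (Or.inr (Or.inl e))
        exact Or.inr (Or.inr (Or.inr (hh u hu n1 n2 n3))))).trans Finset.card_le_four
      omega
    have o1 : ipR a₀ d = 0 := by
      rcases hdich d hd a₀ ha₀ with e | e | e
      exacts [absurd e d1, absurd e d2, (ipR_comm _ _).trans e]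
    have o2 : ipR b d = 0 := by
      rcases hdich d hd b hbΔ with e | e | e
      exacts [absurd e d3, absurd e d4, (ipR_comm _ _).trans e]
    have hm := hexh a₀ ha₀ b hbΔ d hd hab o1 o2 (π d) ((hinv _).2 hd)
    simp only [Finset.mem_insert, Finset.mem_singleton] at hm
    have hpa : π (goodE7.nroot a₀) = goodE7.nroot b := apply_nroot hπ a₀
    have hpb : π (goodE7.nroot b) = goodE7.nroot c := apply_nroot hπ b
    rcases hm with e | e | e | e | e | e
    · rcases hπb with h' | h'
      · exact d3 (π.injective (e.trans h'.symm))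
      · exact d4 (π.injective (by rw [hpb, h', goodE7.nroot_nroot]; exact e))
    · rcases hπb with h' | h'
      · exact d4 (π.injective (by rw [hpb, h']; exact e))
      · exact d3 (π.injective (e.trans h'.symm))
    · exact d1 (π.injective e)
    · exact d2 (π.injective (e.trans hpa.symm))
    · exact (hmove d hd).1 e
    · exact (hmove d hd).2 e
  have hsix := hexh a₀ ha₀ b hbΔ c hcΔ hab hac hbc
  refine ⟨a₀, ha₀, hab, hac, hbc, ?_, hsix⟩
  have hd : π c ∈ Δ := (hinv _).2 hcΔ
  have hm := hsix _ hd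
  simp only [Finset.mem_insert, Finset.mem_singleton] at hm
  have h1 : ipR b (π c) = 0 := (ipR_apply hπ a₀ c).trans hac
  have h2 : ipR c (π c) = 0 := (ipR_apply hπ b c).trans hbc
  rcases hm with e | e | e | e | e | e
  · exact Or.inl e
  · exact Or.inr e
  all_goals exfalso
  all_goals rw [e] at h1 h2
  all_goals simp only [ipR_self, ipR_comm b (goodE7.nroot _), ipR_comm c (goodE7.nroot _), ipR_nroot_left] at h1 h2
  all_goals omega

end Prime

end CfsgLib.Chev.Springer
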