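import Mathlib
import Cfsg.Agent.Lib.Chev.E7DeltaRoots

/-!
The Weyl group element of type E₇ with characteristic polynomial Φ₁₂Φ₆Φ₂, obtained by twisting
with a reflection in a killed root.
-/

set_option autoImplicit false
set_option maxHeartbeats 1000000
set_option maxRecDepth 100000

namespace CfsgLib.Chev.Springer

open Cfsg.Lie Matrix Polynomial

/-- A cyclotomic polynomial killing a nonzero vector divides the characteristic polynomial. -/
theorem dvd_charpoly_of_kill {n : ℕ} (M : Matrix (Fin n) (Fin n) ℤ) {d : ℕ} (hd : 0 < d) {y : Fin n → ℤ}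
    (hy : y ≠ 0) (hk : y ᵥ* aeval M (cyclotomic d ℤ) = 0) : cyclotomic d ℤ ∣ M.charpoly := by
  set φ : ℤ →+* ℚ := Int.castRingHom ℚ
  refine (map_dvd_map φ Int.cast_injective (cyclotomic.monic d ℤ)).1 ?_
  rw [map_cyclotomic_int]
  by_contra hnd
  obtain ⟨u, w, huw⟩ := (cyclotomic.irreducible_rat hd).coprime_iff_not_dvd.2 hnd
  set MQ := φ.mapMatrix M with hMQ
  set yQ : Fin n → ℚ := fun i => (y i : ℚ)
  have hmap : ∀ f : ℤ[X], yQ ᵥ* aeval MQ (f.map φ) = fun i => (((y ᵥ* aeval M f) i : ℤ) : ℚ) := by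
    intro f
    have h : aeval MQ (f.map φ) = φ.mapMatrix (aeval M f) := by
      rw [aeval_def, aeval_def, eval₂_map, hom_eval₂]
      congr 1
      exact RingHom.ext_int _ _
    rw [h]
    funext i
    simp [Matrix.vecMul, dotProduct, yQ, φ]
  have hcomm : u * cyclotomic d ℚ + w * M.charpoly.map φ = cyclotomic d ℚ * u + M.charpoly.map φ * w := by ring
  rw [hcomm] at huw
  have h1 : yQ ᵥ* aeval MQ (cyclotomic d ℚ * u + M.charpoly.map φ * w) = yQ := by
    rw [huw, map_one, Matrix.vecMul_one]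
  rw [map_add, map_mul, map_mul, Matrix.vecMul_add, ← Matrix.vecMul_vecMul, ← Matrix.vecMul_vecMul,
    hmap M.charpoly, Matrix.aeval_self_charpoly, ← map_cyclotomic_int d ℚ, hmap, hk, Matrix.vecMul_zero] at h1
  simp only [Pi.zero_apply, Int.cast_zero] at h1
  rw [show (fun _ : Fin n => (0 : ℚ)) = 0 from rfl, Matrix.zero_vecMul, Matrix.zero_vecMul, add_zero] at h1
  exact hy (funext fun i => by
    have e : (y i : ℚ) = 0 := (congrFun h1 i).symm
    exact_mod_cast e)

/-- The reflection given by a word moving a fundamental root to the given one. -/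
theorem refl_word {D : ChevalleyDatum} (g : Good D) {l : List (Fin D.rank)} {i : Fin D.rank} {α : Fin D.nroots}
    (h1 : (g.wperm l (g.sroot i) : ℕ) = (α : ℕ)) :
    g.wperm l * g.rperm i * (g.wperm l)⁻¹ ∈ g.weyl ∧ (g.wperm l * g.rperm i * (g.wperm l)⁻¹) α = g.nroot α ∧
      ∀ (S : Type) [CommRing S] (k : Fin D.rank → S), (∑ i, (g.coVec α i : S) * k i) = 0 →
        (g.coMat (g.wperm l * g.rperm i * (g.wperm l)⁻¹)).map (Int.cast : ℤ → S) *ᵥ k = k := by
  set u := g.wperm l with hu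
  have hum : u ∈ g.weyl := g.wperm_mem l
  have hui : u (g.sroot i) = α := Fin.ext h1
  have hr : g.rperm i ∈ g.weyl := Subgroup.subset_closure ⟨i, rfl⟩
  refine ⟨mul_mem (mul_mem hum hr) (inv_mem hum), ?_, fun S _ k hk => ?_⟩
  · rw [← hui, Equiv.Perm.mul_apply, Equiv.Perm.mul_apply, Equiv.Perm.inv_def, Equiv.symm_apply_apply,
      g.rperm_sroot]
    refine g.coVec_injective ?_
    rw [g.coVec_apply hum, g.coVec_nroot, g.coVec_nroot, g.coVec_apply hum, Matrix.neg_vecMul]
  · rw [g.coMat_mul (mul_mem hum hr), g.coMat_mul hum]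
    have hmm : ∀ A B : Matrix (Fin D.rank) (Fin D.rank) ℤ,
        (A * B).map (Int.cast : ℤ → S) = A.map (Int.cast : ℤ → S) * B.map (Int.cast : ℤ → S) :=
      fun A B => Matrix.map_mul (f := Int.castRingHom S)
    set y := (g.coMat u).map (Int.cast : ℤ → S) *ᵥ k with hy
    have hyi : y i = 0 := by
      rw [← hk, hy]
      show ∑ t, ((g.coMat u i t : ℤ) : S) * k t = _
      refine Finset.sum_congr rfl fun t _ => ?_
      rw [g.coMat_row, hui]
    have hry : (g.coMat (g.rperm i)).map (Int.cast : ℤ → S) *ᵥ y = y := by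
      funext j
      show ∑ t, ((g.coMat (g.rperm i) j t : ℤ) : S) * y t = y j
      have e : ∀ t, g.coMat (g.rperm i) j t = (if j = t then 1 else 0) - if i = t then D.cartan i (g.sroot j) else 0 := by
        intro t
        show g.co (D.reflectRoot i (D.simple j)) t = _
        rw [g.co_refl i.2 (g.simple_lt j.2) t.2, g.co_simple j.2 t.2]
        exact congrArg₂ (· - ·) (if_congr Fin.ext_iff.symm rfl rfl) (if_congr Fin.ext_iff.symm rfl rfl)
      simp only [e, Int.cast_sub, sub_mul, Finset.sum_sub_distrib, apply_ite (Int.cast : ℤ → S), Int.cast_one,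
        Int.cast_zero, ite_mul, one_mul, zero_mul, Finset.sum_ite_eq, Finset.mem_univ, if_true, hyi, mul_zero, sub_zero]
    rw [hmm, hmm, ← Matrix.mulVec_mulVec, ← Matrix.mulVec_mulVec, ← hy, hry, hy, Matrix.mulVec_mulVec, ← hmm,
      (g.coMat_inv_mul hum).1, Matrix.map_one _ Int.cast_zero Int.cast_one, Matrix.one_mulVec]

variable {π : Equiv.Perm (Fin chevE7.nroots)}

/-- The setting: three orthogonal killed roots, the last one sent to the negative of the first. -/
structure Turn (π : Equiv.Perm (Fin chevE7.nroots)) (a : Fin chevE7.nroots) : Prop where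
  mem : π ∈ goodE7.weyl
  ab : ipR a (π a) = 0
  ac : ipR a (π (π a)) = 0
  bc : ipR (π a) (π (π a)) = 0
  turn : π (π (π a)) = goodE7.nroot a

/-- The twist by the reflection in the first root. -/
theorem turn_twist {r : ℕ} [Fact r.Prime] {v : Fin chevE7.rank → ZMod r} {q : ZMod r}
    (hπ : π ∈ goodE7.weyl) (hRv : (goodE7.coMat π).map (Int.cast : ℤ → ZMod r) *ᵥ v = q • v)
    {a : Fin chevE7.nroots} (ha : a ∈ killed v) (hab : ipR a (π a) = 0) (hac : ipR a (π (π a)) = 0)
    (hbc : ipR (π a) (π (π a)) = 0) (h3 : π (π (π a)) = a) {s : Equiv.Perm (Fin chevE7.nroots)}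
    (hs : s ∈ goodE7.weyl) (hsa : s a = goodE7.nroot a)
    (hsfix : ∀ (S : Type) [CommRing S] (k : Fin chevE7.rank → S), (∑ i, (goodE7.coVec a i : S) * k i) = 0 →
        (goodE7.coMat s).map (Int.cast : ℤ → S) *ᵥ k = k) :
    Turn (s * π) a ∧ (goodE7.coMat (s * π)).map (Int.cast : ℤ → ZMod r) *ᵥ v = q • v := by
  have hsvec := refl_formula hs hsa hsfix
  have hfixb : ∀ u, ipR a u = 0 → s u = u := fun u hu => goodE7.coVec_injective (by
    rw [hsvec, ipR_comm, hu, zero_smul, sub_zero])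
  have e1 : (s * π) a = π a := by rw [Equiv.Perm.mul_apply]; exact hfixb _ hab
  have e2 : (s * π) (π a) = π (π a) := by rw [Equiv.Perm.mul_apply]; exact hfixb _ hac
  have e3 : (s * π) (π (π a)) = goodE7.nroot a := by rw [Equiv.Perm.mul_apply, h3, hsa]
  refine ⟨⟨mul_mem hs hπ, ?_, ?_, ?_, ?_⟩, ?_⟩
  · rw [e1]; exact hab
  · rw [e1, e2]; exact hac
  · rw [e1, e2]; exact hbc
  · rw [e1, e2, e3]
  · rw [goodE7.coMat_mul hs,
      show (goodE7.coMat π * goodE7.coMat s).map (Int.cast : ℤ → ZMod r) =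
        (goodE7.coMat π).map (Int.cast : ℤ → ZMod r) * (goodE7.coMat s).map (Int.cast : ℤ → ZMod r) from
        Matrix.map_mul (f := Int.castRingHom (ZMod r)), ← Matrix.mulVec_mulVec, hsfix _ v (mem_killed.1 ha), hRv]

variable {a : Fin chevE7.nroots}

/-- The characteristic polynomial of a turn. -/
theorem charpoly_turn (T : Turn π a) (h : cyclotomic 12 ℤ ∣ (goodE7.coMat π).charpoly) :
    (goodE7.coMat π).charpoly = cyclotomic 12 ℤ * (X ^ 3 + 1) := by
  set M := goodE7.coMat π with hM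
  set A := goodE7.coVec a with hA
  set B := goodE7.coVec (π a) with hB
  set C' := goodE7.coVec (π (π a)) with hC
  have eA : A ᵥ* M = B := (goodE7.coVec_apply T.mem a).symm
  have eB : B ᵥ* M = C' := (goodE7.coVec_apply T.mem _).symm
  have eC : C' ᵥ* M = -A := by
    rw [hC, hM, ← goodE7.coVec_apply T.mem, T.turn, goodE7.coVec_nroot]
  have haa : ipV A A = 2 := ipR_self a
  have hba : ipV B A = 0 := (ipV_comm _ _).trans T.ab
  have hca : ipV C' A = 0 := (ipV_comm _ _).trans T.ac
  have h6 : cyclotomic 6 ℤ ∣ M.charpoly := by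
    refine dvd_charpoly_of_kill M (by norm_num) (y := A + B) (fun h0 => ?_) ?_
    · have e := congrArg (fun z => ipV z A) h0
      simp only [ipV_add_left, ipV_zero_left, haa, hba] at e
      omega
    · rw [cyclotomic_six, map_add, map_sub, map_pow, aeval_X, map_one, Matrix.vecMul_add, Matrix.vecMul_sub,
        Matrix.vecMul_one, sq, ← Matrix.vecMul_vecMul, Matrix.add_vecMul, eA, eB, Matrix.add_vecMul, eB, eC]
      abel
  have h2 : cyclotomic 2 ℤ ∣ M.charpoly := by
    refine dvd_charpoly_of_kill M (by norm_num) (y := A - B + C') (fun h0 => ?_) ?_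
    · have e := congrArg (fun z => ipV z A) h0
      simp only [ipV_add_left, ipV_sub_left, ipV_zero_left, haa, hba, hca] at e
      omega
    · rw [cyclotomic_two, map_add, aeval_X, map_one, Matrix.vecMul_add, Matrix.vecMul_one, Matrix.add_vecMul,
        Matrix.sub_vecMul, eA, eB, eC]
      abel
  set φ : ℤ →+* ℚ := Int.castRingHom ℚ
  have hX : (cyclotomic 12 ℤ * cyclotomic 6 ℤ * cyclotomic 2 ℤ) = cyclotomic 12 ℤ * (X ^ 3 + 1) := by
    rw [cyclotomic_six, cyclotomic_two]; ring
  rw [← hX]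
  have hm : (cyclotomic 12 ℤ * cyclotomic 6 ℤ * cyclotomic 2 ℤ).Monic :=
    ((cyclotomic.monic _ _).mul (cyclotomic.monic _ _)).mul (cyclotomic.monic _ _)
  have hdvd : cyclotomic 12 ℤ * cyclotomic 6 ℤ * cyclotomic 2 ℤ ∣ M.charpoly := by
    refine (map_dvd_map φ Int.cast_injective hm).1 ?_
    rw [Polynomial.map_mul, Polynomial.map_mul, map_cyclotomic_int, map_cyclotomic_int, map_cyclotomic_int]
    refine IsCoprime.mul_dvd (IsCoprime.mul_left (cyclotomic.isCoprime_rat (by norm_num))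
      (cyclotomic.isCoprime_rat (by norm_num))) (IsCoprime.mul_dvd (cyclotomic.isCoprime_rat (by norm_num)) ?_ ?_) ?_
    · rw [← map_cyclotomic_int 12 ℚ]; exact Polynomial.map_dvd φ h
    · rw [← map_cyclotomic_int 6 ℚ]; exact Polynomial.map_dvd φ h6
    · rw [← map_cyclotomic_int 2 ℚ]; exact Polynomial.map_dvd φ h2
  refine eq_of_monic_of_dvd_of_natDegree_le hm M.charpoly_monic hdvd ?_
  rw [Matrix.charpoly_natDegree_eq_dim, Fintype.card_fin, rank_E7, ((cyclotomic.monic 12 ℤ).mul
    (cyclotomic.monic 6 ℤ)).natDegree_mul (cyclotomic.monic 2 ℤ), (cyclotomic.monic 12 ℤ).natDegree_mul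
    (cyclotomic.monic 6 ℤ), natDegree_cyclotomic, natDegree_cyclotomic, natDegree_cyclotomic]
  decide

/-- The vectors killed by `M³ + 1` come from the three roots. -/
theorem double_mem_span (T : Turn π a) (h : cyclotomic 12 ℤ ∣ (goodE7.coMat π).charpoly)
    {w : Fin 4 → Fin chevE7.rank → ℤ} (hwi : IndepZ w)
    (hwk : ∀ k, w k ᵥ* aeval (goodE7.coMat π) (cyclotomic 12 ℤ) = 0)
    (hworth : ∀ p ∈ [a, π a, π (π a)], ∀ k, ipV (goodE7.coVec p) (w k) = 0)
    {x : Fin chevE7.rank → ℤ} (hx : x ᵥ* aeval (goodE7.coMat π) (X ^ 3 + 1 : ℤ[X]) = 0) :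
    (2 : ℤ) • x = ipV x (goodE7.coVec a) • goodE7.coVec a + ipV x (goodE7.coVec (π a)) • goodE7.coVec (π a) +
      ipV x (goodE7.coVec (π (π a))) • goodE7.coVec (π (π a)) := by
  set M := goodE7.coMat π with hM
  set A := goodE7.coVec a with hA
  set B := goodE7.coVec (π a) with hB
  set C' := goodE7.coVec (π (π a)) with hC
  have eA : A ᵥ* M = B := (goodE7.coVec_apply T.mem a).symm
  have eB : B ᵥ* M = C' := (goodE7.coVec_apply T.mem _).symm
  have eC : C' ᵥ* M = -A := by
    rw [hC, hM, ← goodE7.coVec_apply T.mem, T.turn, goodE7.coVec_nroot]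
  have hkill3 : ∀ y, y = A ∨ y = B ∨ y = C' → y ᵥ* aeval M (X ^ 3 + 1 : ℤ[X]) = 0 := by
    intro y hy
    rw [map_add, map_pow, aeval_X, map_one, Matrix.vecMul_add, Matrix.vecMul_one, pow_succ, pow_succ, pow_one,
      ← Matrix.vecMul_vecMul, ← Matrix.vecMul_vecMul]
    rcases hy with rfl | rfl | rfl
    · rw [eA, eB, eC]; abel
    · rw [eB, eC, Matrix.neg_vecMul, eA]; abel
    · rw [eC, Matrix.neg_vecMul, eA, Matrix.neg_vecMul, eB]; abel
  have hab' : ipV A B = 0 := T.ab
  have hac' : ipV A C' = 0 := T.ac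
  have hbc' : ipV B C' = 0 := T.bc
  have hbasis : IndepZ (Sum.elim w fun i : Fin 3 => goodE7.coVec (![a, π a, π (π a)] i)) := by
    refine indep_orth_sum hwi (indep_of_orth fun i j hij => ?_) fun k i => ?_
    · have e1 := (ipR_comm (π a) a).trans T.ab
      have e2 := (ipR_comm (π (π a)) a).trans T.ac
      have e3 := (ipR_comm (π (π a)) (π a)).trans T.bc
      have e4 := T.ab
      have e5 := T.ac
      have e6 := T.bc
      fin_cases i <;> fin_cases j <;> first | exact absurd rfl hij | assumption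
    · rw [ipV_comm]
      fin_cases i <;> exact hworth _ (by simp) k
  obtain ⟨n, hn, t, ht⟩ := span_seven (by simp) hbasis x
  rw [Fintype.sum_sum_type, Fin.sum_univ_three] at ht
  simp only [Sum.elim_inl, Sum.elim_inr, Matrix.cons_val_zero, Matrix.cons_val_one, Matrix.cons_val_two,
    Matrix.head_cons, Matrix.tail_cons, ← hA, ← hB, ← hC] at ht
  set W := ∑ k, t (Sum.inl k) • w k with hW
  have hW3 : W ᵥ* aeval M (X ^ 3 + 1 : ℤ[X]) = 0 := by
    have e := congrArg (fun z => z ᵥ* aeval M (X ^ 3 + 1 : ℤ[X])) ht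
    simp only [Matrix.smul_vecMul, hx, smul_zero, Matrix.add_vecMul, hkill3 A (Or.inl rfl),
      hkill3 B (Or.inr (Or.inl rfl)), hkill3 C' (Or.inr (Or.inr rfl)), add_zero] at e
    exact e.symm
  have hW12 : W ᵥ* aeval M (cyclotomic 12 ℤ) = 0 := by
    rw [hW, Matrix.sum_vecMul]
    exact Finset.sum_eq_zero fun k _ => by rw [Matrix.smul_vecMul, hwk, smul_zero]
  have hW0 : W = 0 := by
    have hid : (2 : ℤ[X]) = cyclotomic 12 ℤ * (X ^ 2 + 1) - (X ^ 3 + 1) * (X ^ 3 - 1) := by
      rw [cyclotomic_twelve]; ring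
    have e := congrArg (fun f : ℤ[X] => W ᵥ* aeval M f) hid
    simp only [map_sub, map_mul, Matrix.vecMul_sub, ← Matrix.vecMul_vecMul, hW12, hW3, Matrix.zero_vecMul,
      sub_zero] at e
    rw [show (2 : ℤ[X]) = 1 + 1 by norm_num, map_add, map_one, Matrix.vecMul_add, Matrix.vecMul_one] at e
    funext i
    have := congrFun e i
    simp only [Pi.add_apply, Pi.zero_apply] at this ⊢
    omega
  rw [hW0, zero_add] at ht
  refine smul_right_injective _ hn ?_
  show n • _ = n • _
  have haa : ipV A A = 2 := ipR_self _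
  have hbb : ipV B B = 2 := ipR_self _
  have hcc : ipV C' C' = 2 := ipR_self _
  have ea := congrArg (fun z => ipV z A) ht
  have eb := congrArg (fun z => ipV z B) ht
  have ec := congrArg (fun z => ipV z C') ht
  simp only [ipV_add_left, ipV_smul_left, haa, hbb, hcc, hab', hac', hbc', ipV_comm B A, ipV_comm C' A,
    ipV_comm C' B, mul_zero, add_zero, zero_add] at ea eb ec
  rw [smul_comm, ht, smul_add, smul_add, smul_add, smul_add, smul_smul, smul_smul, smul_smul, smul_smul, smul_smul,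
    smul_smul, ea, eb, ec]
  module

/-- A vector killed on the three roots has order dividing four times `Φ₁₂(q)`. -/
theorem four_mul_kill (T : Turn π a) (h : cyclotomic 12 ℤ ∣ (goodE7.coMat π).charpoly)
    {w : Fin 4 → Fin chevE7.rank → ℤ} (hwi : IndepZ w)
    (hwk : ∀ k, w k ᵥ* aeval (goodE7.coMat π) (cyclotomic 12 ℤ) = 0)
    (hworth : ∀ p ∈ [a, π a, π (π a)], ∀ k, ipV (goodE7.coVec p) (w k) = 0)
    {m : ℕ} (κ : Fin chevE7.rank → ZMod m) (q : ℤ)
    (hκ : (goodE7.coMat π).map (Int.cast : ℤ → ZMod m) *ᵥ κ = (q : ZMod m) • κ)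
    (hκ0 : ∀ p ∈ [a, π a, π (π a)], dotMod κ (goodE7.coVec p) = 0) (j : Fin chevE7.rank) :
    ((4 * (cyclotomic 12 ℤ).eval q : ℤ) : ZMod m) * κ j = 0 := by
  set M := goodE7.coMat π with hM
  have hch := charpoly_turn T h
  rw [← hM] at hch
  set e : Fin chevE7.rank → ℤ := Pi.single j 1 with he
  have hdote : dotMod κ e = κ j := by
    rw [dotMod, he, show (fun i => (((Pi.single j 1 : Fin chevE7.rank → ℤ) i : ℤ) : ZMod m)) =
      Pi.single j 1 from funext fun i => by rcases eq_or_ne i j with rfl | hij <;> simp [*], single_dotProduct, one_mul]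
  have hev : ∀ (f : ℤ[X]) (x : Fin chevE7.rank → ℤ),
      dotMod κ (x ᵥ* aeval M f) = ((f.eval q : ℤ) : ZMod m) * dotMod κ x := by
    intro f
    induction f using Polynomial.induction_on' with
    | add f g hf hg =>
      intro x
      rw [map_add, Matrix.vecMul_add, eval_add, Int.cast_add, add_mul, ← hf, ← hg]
      simp [dotMod, dotProduct, add_mul, Finset.sum_add_distrib]
    | monomial k c =>
      have hk : ∀ (k : ℕ) (x : Fin chevE7.rank → ℤ), dotMod κ (x ᵥ* M ^ k) = (q : ZMod m) ^ k * dotMod κ x := by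
        intro k
        induction k with
        | zero => intro x; simp
        | succ k ih =>
          intro x
          rw [pow_succ, ← Matrix.vecMul_vecMul, dotMod_vecMul, hκ, dotMod_smul_vec, ih, pow_succ]
          ring
      intro x
      rw [aeval_monomial, ← Algebra.smul_def, Matrix.vecMul_smul, eval_monomial]
      have hs : dotMod κ (c • (x ᵥ* M ^ k)) = (c : ZMod m) * dotMod κ (x ᵥ* M ^ k) := by
        simp [dotMod, dotProduct, Finset.mul_sum, mul_assoc]
      rw [hs, hk]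
      push_cast
      ring
  have hCH : ∀ x : Fin chevE7.rank → ℤ,
      (x ᵥ* aeval M (cyclotomic 12 ℤ * (X ^ 2 + 1))) ᵥ* aeval M (X ^ 3 + 1 : ℤ[X]) = 0 := by
    intro x
    rw [Matrix.vecMul_vecMul, ← map_mul, show cyclotomic 12 ℤ * (X ^ 2 + 1) * (X ^ 3 + 1) =
      M.charpoly * (X ^ 2 + 1) by rw [hch]; ring, map_mul, Matrix.aeval_self_charpoly, zero_mul, Matrix.vecMul_zero]
  -- the part in the span of the three roots
  set y1 := e ᵥ* aeval M (cyclotomic 12 ℤ * (X ^ 2 + 1)) with hy1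
  have h1 : 2 * dotMod κ y1 = 0 := by
    have e2 := double_mem_span T h hwi hwk hworth (hCH e)
    have := congrArg (dotMod κ) e2
    simp only [List.mem_cons, List.not_mem_nil, or_false, forall_eq_or_imp, forall_eq] at hκ0
    obtain ⟨z1, z2, z3⟩ := hκ0
    simp only [dotMod, dotProduct, Pi.add_apply, Pi.smul_apply, smul_eq_mul, Int.cast_add, Int.cast_mul,
      Int.cast_ofNat, add_mul, mul_assoc, Finset.sum_add_distrib, ← Finset.mul_sum] at this z1 z2 z3 ⊢
    rw [z1, z2, z3] at this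
    simpa [hy1] using this
  set y2 := e ᵥ* aeval M ((X ^ 3 + 1) * (X ^ 3 - 1) : ℤ[X]) with hy2
  have h2 : (((cyclotomic 12 ℤ).eval q : ℤ) : ZMod m) * dotMod κ y2 = 0 := by
    rw [← hev, hy2, Matrix.vecMul_vecMul, ← map_mul, show ((X : ℤ[X]) ^ 3 + 1) * (X ^ 3 - 1) * cyclotomic 12 ℤ =
      M.charpoly * (X ^ 3 - 1) by rw [hch]; ring, map_mul, Matrix.aeval_self_charpoly, zero_mul, Matrix.vecMul_zero]
    simp [dotMod, dotProduct]
  have hid : (2 : ℤ[X]) = cyclotomic 12 ℤ * (X ^ 2 + 1) - (X ^ 3 + 1) * (X ^ 3 - 1) := by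
    rw [cyclotomic_twelve]; ring
  have h3 : 2 * κ j = dotMod κ y1 - dotMod κ y2 := by
    rw [hy1, hy2, hev, hev, ← hdote, ← sub_mul, ← Int.cast_sub, ← eval_sub, ← hid]
    simp
  push_cast
  linear_combination (((cyclotomic 12 ℤ).eval q : ℤ) : ZMod m) * 2 * h3 +
    (((cyclotomic 12 ℤ).eval q : ℤ) : ZMod m) * h1 - 2 * h2

/-- Fixing the plane and the three roots forces the identity. -/
theorem eq_one_of_fix_plane (T : Turn π a) {w : Fin 4 → Fin chevE7.rank → ℤ} (hwi : IndepZ w)
    (hworth : ∀ p ∈ [a, π a, π (π a)], ∀ k, ipV (goodE7.coVec p) (w k) = 0)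
    {ρ : Equiv.Perm (Fin chevE7.nroots)} (hρ : ρ ∈ goodE7.weyl) (hρw : ∀ k, w k ᵥ* goodE7.coMat ρ = w k)
    (hρa : ρ a = a) (hρb : ρ (π a) = π a) (hρc : ρ (π (π a)) = π (π a)) : ρ = 1 := by
  have hbasis : IndepZ (Sum.elim w fun i : Fin 3 => goodE7.coVec (![a, π a, π (π a)] i)) := by
    refine indep_orth_sum hwi (indep_of_orth fun i j hij => ?_) fun k i => ?_
    · have e1 := (ipR_comm (π a) a).trans T.ab
      have e2 := (ipR_comm (π (π a)) a).trans T.ac
      have e3 := (ipR_comm (π (π a)) (π a)).trans T.bc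
      have e4 := T.ab
      have e5 := T.ac
      have e6 := T.bc
      fin_cases i <;> fin_cases j <;> first | exact absurd rfl hij | assumption
    · rw [ipV_comm]
      fin_cases i <;> exact hworth _ (by simp) k
  refine goodE7.coMat_eq_one hρ (Matrix.ext_of_single_vecMul fun i => ?_)
  rw [Matrix.vecMul_one]
  obtain ⟨n, hn, t, ht⟩ := span_seven (by simp) hbasis (Pi.single i 1)
  refine smul_right_injective _ hn ?_
  show n • _ = n • _
  rw [← Matrix.smul_vecMul, ht, Matrix.sum_vecMul]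
  refine Finset.sum_congr rfl fun b _ => ?_
  rw [Matrix.smul_vecMul]
  rcases b with k | k
  · rw [Sum.elim_inl, hρw]
  · rw [Sum.elim_inr, ← goodE7.coVec_apply hρ]
    fin_cases k <;> simp [hρa, hρb, hρc]

end CfsgLib.Chev.Springer
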