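import Mathlib

/-!
Scalars solving Lang's equations for the E₇ torus.
-/

set_option autoImplicit false

namespace CfsgLib.Chev.Springer

/-- The scalars needed for the twist. -/
theorem exists_lang_data {L : Type*} [Field L] {γ : Lˣ} (hγ : ∀ x, x ∈ Subgroup.zpowers γ) {q M : ℕ}
    (hq : 2 ≤ q) (hM : M + 1 = q ^ 48) (hγo : orderOf γ = M) (hodd : Even q → (-1 : L) = 1)
    (Φ : L →+* L) (hΦ : ∀ x, Φ x = x ^ q ^ 3)
    (k : Lˣ) (hk : (∏ i ∈ Finset.range 16, k ^ ((q ^ 3) ^ i)) = 1) :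
    ∃ μ ν : Lˣ, ∃ z : L, (μ : L) ^ q ^ 3 = (k : L) * μ ∧ (ν : L) ^ q ^ 3 = -(ν : L) ∧
      (z ^ q ^ 3) ^ q ^ 3 = z ∧ z - z ^ q ^ 3 = ((ν⁻¹ : Lˣ) : L) := by
  set Q := q ^ 3 with hQ
  clear_value Q
  have hQ2 : 2 ≤ Q := hQ ▸ hq.trans (Nat.le_self_pow (show 3 ≠ 0 by omega) q)
  set G := ∑ i ∈ Finset.range 16, Q ^ i with hG
  have hMG : (M : ℤ) = (G : ℤ) * ((Q : ℤ) - 1) := by
    rw [hG]; push_cast
    rw [geom_sum_mul]
    have h : ((M : ℤ) + 1) = ((q ^ 48 : ℕ) : ℤ) := by exact_mod_cast hM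
    rw [show ((Q : ℤ)) ^ 16 = ((q ^ 48 : ℕ) : ℤ) by rw [hQ]; push_cast; ring]
    omega
  have hMG' : M = G * (Q - 1) := by
    have h : ((G * (Q - 1) : ℕ) : ℤ) = (M : ℤ) := by
      rw [Nat.cast_mul, Nat.cast_sub (by omega), hMG]; simp
    omega
  clear_value G
  have hG0 : 0 < G := hG ▸ Finset.sum_pos (fun i _ => pow_pos (by omega) _) (by simp)
  have hM0 : 0 < M := by rw [hMG']; exact Nat.mul_pos hG0 (by omega)
  -- the scalar μ
  obtain ⟨t, ht⟩ := Subgroup.mem_zpowers_iff.1 (hγ k)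
  have htd : ((Q : ℤ) - 1) ∣ t := by
    rw [Finset.prod_pow_eq_pow_sum, ← hG, ← ht, ← zpow_natCast, ← _root_.zpow_mul,
      ← orderOf_dvd_iff_zpow_eq_one, hγo, hMG] at hk
    rw [mul_comm t] at hk
    exact (mul_dvd_mul_iff_left (by exact_mod_cast hG0.ne')).1 hk
  obtain ⟨s, hs⟩ := htd
  have hμ : ((γ ^ s : Lˣ) : L) ^ Q = (k : L) * ((γ ^ s : Lˣ) : L) := by
    rw [← Units.val_pow_eq_pow_val, ← Units.val_mul]
    refine congrArg Units.val ?_
    have e : s * (Q : ℤ) = t + s := by rw [hs]; ring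
    have h1 : γ ^ (s * (Q : ℤ)) = γ ^ (t + s) := by rw [e]
    rw [_root_.zpow_mul, zpow_natCast, _root_.zpow_add, ht] at h1
    exact h1
  -- an element of the quadratic extension of the fixed field
  obtain ⟨R, hR⟩ : Q * Q - 1 ∣ M := by
    rw [show M = (Q * Q) ^ 8 - 1 by
      rw [hQ, show (q ^ 3 * q ^ 3) ^ 8 = q ^ 48 by ring]; omega]
    simpa using Nat.sub_dvd_pow_sub_pow (Q * Q) 1 8
  rcases Nat.even_or_odd q with he | ho
  · have h1 : (-1 : L) = 1 := hodd he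
    have hneg : ∀ y : L, -y = y := fun y => by rw [← neg_one_mul, h1, one_mul]
    set w : Lˣ := γ ^ R with hw
    have hwo : orderOf w = Q * Q - 1 := by
      have hR0 : R ≠ 0 := fun h0 => by rw [h0, mul_zero] at hR; omega
      rw [hw, orderOf_pow_of_dvd hR0 (by rw [hγo, hR]; exact dvd_mul_left _ _), hγo, hR,
        Nat.mul_div_cancel _ (Nat.pos_of_ne_zero hR0)]
    have hw2 : ((w : L) ^ Q) ^ Q = w := by
      rw [← pow_mul, show Q * Q = Q * Q - 1 + 1 by have := Nat.mul_le_mul hQ2 hQ2; omega, pow_succ, ← hwo,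
        ← Units.val_pow_eq_pow_val, pow_orderOf_eq_one, Units.val_one, one_mul]
    have hwne : (w : L) ^ Q ≠ w := fun h => by
      have h' : w ^ (Q - 1) = 1 := by
        refine mul_right_cancel (b := w) ?_
        rw [← pow_succ, show Q - 1 + 1 = Q by omega, one_mul]
        exact Units.ext (by rw [Units.val_pow_eq_pow_val]; exact h)
      have := Nat.le_of_dvd (by omega) (orderOf_dvd_of_pow_eq_one h')
      rw [hwo] at this
      have : 2 * Q ≤ Q * Q := Nat.mul_le_mul_right _ hQ2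
      omega
    set S : L := (w : L) + (w : L) ^ Q with hS
    have hS0 : S ≠ 0 := fun h => hwne (by
      rw [hS, add_eq_zero_iff_eq_neg, hneg] at h; exact h.symm)
    refine ⟨γ ^ s, 1, (w : L) / S, hμ, by simp [h1], ?_, ?_⟩
    · have hSQ : S ^ Q = S := by
        rw [← hΦ, hS, map_add, hΦ, hΦ, hw2, add_comm]
      rw [div_pow, div_pow, hSQ, hSQ, hw2]
    · have hSQ : S ^ Q = S := by
        rw [← hΦ, hS, map_add, hΦ, hΦ, hw2, add_comm]
      rw [inv_one, Units.val_one, div_pow, hSQ, ← sub_div, sub_eq_add_neg, hneg, div_self hS0]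
  · have hQo : Odd Q := hQ ▸ ho.pow
    obtain ⟨h', hh'⟩ : 2 ∣ G := by
      rw [hG, ← CharP.cast_eq_zero_iff (ZMod 2) 2, Nat.cast_sum]
      have h1 : (Q : ZMod 2) = 1 := by
        rw [← Nat.cast_one (R := ZMod 2), ZMod.natCast_eq_natCast_iff', Nat.odd_iff.1 hQo]
      simp [h1]
      decide
    have hh0 : 0 < h' := by omega
    set η : Lˣ := γ ^ (h' * (Q - 1)) with hη
    have hη2 : η ^ 2 = 1 := by
      rw [hη, ← pow_mul, show h' * (Q - 1) * 2 = M by rw [hMG', hh']; ring, ← hγo, pow_orderOf_eq_one]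
    have hη1 : η ≠ 1 := fun h => by
      have h2 := Nat.le_of_dvd (Nat.mul_pos hh0 (by omega)) (orderOf_dvd_of_pow_eq_one h)
      rw [hγo, hMG', hh', mul_assoc] at h2
      have : 0 < h' * (Q - 1) := Nat.mul_pos hh0 (by omega)
      omega
    have hηm : (η : L) = -1 := by
      have h := congrArg Units.val hη2
      rw [Units.val_pow_eq_pow_val, Units.val_one] at h
      exact (sq_eq_one_iff.1 h).resolve_left fun h' => hη1 (Units.ext h')
    have h20 : (2 : L) ≠ 0 := fun h => hη1 (Units.ext (by rw [hηm, Units.val_one]; linear_combination -h))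
    set ν : Lˣ := γ ^ h' with hν
    have hνQ : (ν : L) ^ Q = -(ν : L) := by
      rw [show Q = Q - 1 + 1 by omega, pow_succ, ← Units.val_pow_eq_pow_val,
        show ν ^ (Q - 1) = η by rw [hν, hη, ← pow_mul], hηm, neg_one_mul]
    have h2Q : (2 : L) ^ Q = 2 := by rw [← hΦ, map_ofNat]
    refine ⟨γ ^ s, ν, ((ν⁻¹ : Lˣ) : L) / 2, hμ, hνQ, ?_, ?_⟩
    · rw [div_pow, div_pow, h2Q, h2Q, Units.val_inv_eq_inv_val, inv_pow, inv_pow, hνQ, hQo.neg_pow, hνQ, neg_neg]
    · rw [div_pow, h2Q, Units.val_inv_eq_inv_val, inv_pow, hνQ]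
      field_simp
      ring


/-- The norm onto the units of the fixed field is surjective and the automorphism has order sixteen. -/
theorem norm_data {L : Type*} [Field L] {γ : Lˣ} (hγ : ∀ x, x ∈ Subgroup.zpowers γ) {q M : ℕ}
    (hq : 2 ≤ q) (hM : M + 1 = q ^ 48) (hγo : orderOf γ = M) :
    (∀ i, 0 < i → i < 16 → ∃ x : L, x ^ (q ^ 3) ^ i ≠ x) ∧
      ∀ s : Lˣ, s ^ q ^ 3 = s → ∃ w : Lˣ, (∏ i ∈ Finset.range 16, w ^ ((q ^ 3) ^ i)) = s := by
  refine ⟨fun i hi hi' => ⟨(γ : L), fun h => ?_⟩, fun s hs => ?_⟩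
  · have hlt : (q ^ 3) ^ i < q ^ 48 := by
      rw [← pow_mul]; exact Nat.pow_lt_pow_right (by omega) (by omega)
    have h1 : 1 < (q ^ 3) ^ i := Nat.one_lt_pow (by omega) (Nat.one_lt_pow (by norm_num) (by omega))
    have h' : γ ^ ((q ^ 3) ^ i - 1) = 1 := by
      refine mul_right_cancel (b := γ) ?_
      rw [← pow_succ, Nat.sub_add_cancel h1.le, one_mul]
      exact Units.ext (by rw [Units.val_pow_eq_pow_val]; exact h)
    have := Nat.le_of_dvd (by omega) (orderOf_dvd_of_pow_eq_one h')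
    omega
  · set Q := q ^ 3 with hQ
    clear_value Q
    have hQ2 : 2 ≤ Q := hQ ▸ hq.trans (Nat.le_self_pow (show 3 ≠ 0 by omega) q)
    obtain ⟨t, ht⟩ := Subgroup.mem_zpowers_iff.1 (hγ s)
    set G := ∑ i ∈ Finset.range 16, Q ^ i with hG
    have hMG : (M : ℤ) = (G : ℤ) * ((Q : ℤ) - 1) := by
      rw [hG]; push_cast
      rw [geom_sum_mul]
      have h : ((M : ℤ) + 1) = ((q ^ 48 : ℕ) : ℤ) := by exact_mod_cast hM
      rw [show ((Q : ℤ)) ^ 16 = ((q ^ 48 : ℕ) : ℤ) by rw [hQ]; push_cast; ring]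
      omega
    clear_value G
    have hG : (G : ℤ) ∣ t := by
      have h : γ ^ (t * ((Q : ℤ) - 1)) = 1 := by
        rw [_root_.zpow_mul, ht, _root_.zpow_sub, zpow_natCast, _root_.zpow_one, hs, mul_inv_cancel]
      rw [← orderOf_dvd_iff_zpow_eq_one, hγo, hMG] at h
      exact (mul_dvd_mul_iff_right (by omega)).1 h
    obtain ⟨u, hu⟩ := hG
    refine ⟨γ ^ u, ?_⟩
    rw [Finset.prod_pow_eq_pow_sum, ← ‹G = ∑ i ∈ Finset.range 16, Q ^ i›, ← zpow_natCast, ← _root_.zpow_mul,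
      mul_comm, ← hu, ht]

end CfsgLib.Chev.Springer
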