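import Mathlib
import Cfsg.Agent.Lib.Chev.SpringerTorus

/-!
Two commuting semisimple elements of coprime prime orders have a common conjugate in the split torus,
provided the second prime does not divide the stabiliser of the first element in the Weyl group:
the fixed points of the first on the flags are counted modulo the second prime.
-/

set_option autoImplicit false
set_option maxHeartbeats 1000000

namespace CfsgLib.Chev

open Cfsg.Lie Matrix

/-- Commuting elements of coprime orders into an abelian subgroup of prime power index. -/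
theorem exists_conj_pair {G : Type*} [Group G] [Finite G] (T : Subgroup G) (hT : IsMulCommutative T)
    {p r s : ℕ} [Fact r.Prime] [Fact s.Prime] (hidx : ∃ k, T.index = p ^ k) (hpr : ¬ r ∣ p) (hps : ¬ s ∣ p)
    {x z : G} (hx : x ^ r = 1) (hz : z ^ s = 1) (hxz : Commute x z) :
    ∃ a : G, a⁻¹ * x * a ∈ T ∧ a⁻¹ * z * a ∈ T := by
  obtain ⟨k, hk⟩ := hidx
  obtain ⟨a, ha⟩ := Springer.exists_conj_mem T hx (fun h => hpr ((Fact.out : r.Prime).dvd_of_dvd_pow (hk ▸ h)))
  set H := Subgroup.centralizer ({a⁻¹ * x * a} : Set G) with hH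
  have hTH : T ≤ H := fun t ht => Subgroup.mem_centralizer_singleton_iff.2
    (Subtype.ext_iff.1 (hT.is_comm.comm ⟨t, ht⟩ ⟨_, ha⟩))
  have hzH : a⁻¹ * z * a ∈ H := Subgroup.mem_centralizer_singleton_iff.2 (by
    calc a⁻¹ * z * a * (a⁻¹ * x * a) = a⁻¹ * (z * x) * a := by group
      _ = a⁻¹ * (x * z) * a := by rw [hxz.eq]
      _ = _ := by group)
  obtain ⟨⟨b, hb⟩, hbm⟩ := Springer.exists_conj_mem (T.subgroupOf H) (x := (⟨_, hzH⟩ : H)) (r := s)
    (Subtype.ext (by
      show (a⁻¹ * z * a) ^ s = 1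
      rw [show a⁻¹ * z * a = a⁻¹ * z * a⁻¹⁻¹ by rw [inv_inv], conj_pow, hz, mul_one, mul_inv_cancel]))
    (fun h => hps ((Fact.out : s.Prime).dvd_of_dvd_pow (n := k)
      (hk ▸ h.trans (Subgroup.relIndex_dvd_index_of_le hTH))))
  refine ⟨a * b, ?_, ?_⟩
  · have e : b * (a⁻¹ * x * a) = a⁻¹ * x * a * b := Subgroup.mem_centralizer_singleton_iff.1 hb
    rwa [show (a * b)⁻¹ * x * (a * b) = a⁻¹ * x * a by
      calc (a * b)⁻¹ * x * (a * b) = b⁻¹ * (a⁻¹ * x * a * b) := by group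
        _ = _ := by rw [← e, inv_mul_cancel_left]]
  · rw [show (a * b)⁻¹ * z * (a * b) = b⁻¹ * (a⁻¹ * z * a) * b by group]
    exact Subgroup.mem_subgroupOf.1 hbm

variable {D : ChevalleyDatum}

namespace Good

variable (g : Good D)
include g

variable {L : Type*} [Field L]

/-- A positive unipotent element fixed by enough torus elements is trivial. -/
theorem pos_fixed_eq_one_family (hc : HasComm D) {x : GL D.Idx L} (hx : x ∈ D.posUnipotent L)
    (h : ∀ r < D.nroots, ∃ e : Fin D.rank → Lˣ, rootVal e r ≠ 1 ∧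
      torHom D L e * x * (torHom D L e)⁻¹ = x) : x = 1 := by
  rw [g.posUnipotent_eq] at hx
  obtain ⟨t, rfl⟩ := g.exists_xProd hc le_rfl hx
  have hz : ∀ r, half D ≤ r → r < D.nroots → t r = 0 := fun r h1 h2 => by
    obtain ⟨c, hne, he⟩ := h r h2
    have e : torHom D L c * g.xProd t (half D) * (torHom D L c)⁻¹ =
        g.xProd (fun r => (rootVal c r : L) * t r) (half D) := by
      show (MulAut.conj (torHom D L c)).toMonoidHom _ = _
      rw [xProd, map_list_prod, List.map_map, xProd]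
      refine congrArg List.prod (List.map_congr_left fun r hr => ?_)
      rw [List.mem_range'_1] at hr
      exact g.torHom_conj_xG c (by omega) (t r)
    rw [e] at he
    have h3 := g.xProd_inj le_rfl he h1 h2
    by_contra ht
    exact hne (Units.ext ((mul_eq_right₀ ht).1 h3))
  refine List.prod_eq_one fun y hy => ?_
  obtain ⟨r, hr, rfl⟩ := List.mem_map.1 hy
  rw [List.mem_range'_1] at hr
  rw [hz r hr.1 (by omega)]
  exact g.xG_zero r

/-- The unipotent elements of a cell commuting with a torus element number one modulo `s`. -/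
theorem card_minus_centralizer_modEq [Finite L] (hc : HasComm D) {s : ℕ} [Fact s.Prime]
    (hroot : ∀ r < D.nroots, ∃ e : Fin D.rank → Lˣ, e ^ s = 1 ∧ rootVal e r ≠ 1)
    (c : Fin D.rank → Lˣ) (π : Equiv.Perm (Fin D.nroots)) :
    Nat.card {u : GL D.Idx L // u ∈ rootGen D L (minusSet π) ∧ Commute u (torHom D L c)} ≡ 1 [MOD s] := by
  set X := {u : GL D.Idx L // u ∈ rootGen D L (minusSet π) ∧ Commute u (torHom D L c)}
  let P := (powMonoidHom s : (Fin D.rank → Lˣ) →* _).ker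
  have hmem : ∀ (e : P) (u : X), torHom D L e.1 * u.1 * (torHom D L e.1)⁻¹ ∈ rootGen D L (minusSet π) ∧
      Commute (torHom D L e.1 * u.1 * (torHom D L e.1)⁻¹) (torHom D L c) := fun e u => by
    refine ⟨(Subgroup.mem_normalizer_iff.1
      (g.diagonal_le_normalizer_rootGen (minusSet π) (g.torHom_mem e.1)) u.1).1 u.2.1, ?_⟩
    have hc' : Commute (torHom D L e.1) (torHom D L c) := (Commute.all e.1 c).map (torHom D L)
    exact (hc'.mul_left u.2.2).mul_left hc'.inv_left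
  letI : MulAction P X :=
    { smul := fun e u => ⟨_, hmem e u⟩
      one_smul := fun u => Subtype.ext (by
        show torHom D L ((1 : P) : Fin D.rank → Lˣ) * u.1 * (torHom D L ((1 : P) : Fin D.rank → Lˣ))⁻¹ = u.1
        rw [OneMemClass.coe_one, map_one, one_mul, inv_one, mul_one])
      mul_smul := fun a b u => Subtype.ext (by
        show torHom D L ((a * b : P) : Fin D.rank → Lˣ) * u.1 * (torHom D L ((a * b : P) : Fin D.rank → Lˣ))⁻¹ =
          torHom D L a.1 * (torHom D L b.1 * u.1 * (torHom D L b.1)⁻¹) * (torHom D L a.1)⁻¹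
        rw [Subgroup.coe_mul, map_mul]; group) }
  have hP : IsPGroup s P := fun e => ⟨1, Subtype.ext (by
    rw [pow_one, SubmonoidClass.coe_pow]; exact MonoidHom.mem_ker.1 e.2)⟩
  haveI : Fintype L := Fintype.ofFinite L
  haveI : Finite X := inferInstance
  refine (hP.card_modEq_card_fixedPoints X).trans ?_
  rw [Nat.card_eq_one_iff_unique.2 ⟨⟨fun a b => Subtype.ext (Subtype.ext ?_)⟩,
    ⟨⟨⟨1, one_mem _, Commute.one_left _⟩, fun e => Subtype.ext (by
      show torHom D L e.1 * (1 : GL D.Idx L) * (torHom D L e.1)⁻¹ = 1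
      rw [mul_one, mul_inv_cancel])⟩⟩⟩]
  have hone : ∀ a : MulAction.fixedPoints P X, a.1.1 = 1 := fun a =>
    g.pos_fixed_eq_one_family hc (g.minus_le_pos π a.1.2.1) fun r hr => by
      obtain ⟨e, he, hne⟩ := hroot r hr
      exact ⟨e, hne, congrArg Subtype.val (a.2 (⟨e, MonoidHom.mem_ker.2 he⟩ : P))⟩
  rw [hone a, hone b]

/-- The element commutes with `t` up to the unipotent radical exactly on the cells of the stabiliser. -/
theorem conj_mem_coset_iff (hc : HasComm D) {c : Fin D.rank → Lˣ} {b n u : GL D.Idx L}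
    (hb : b ∈ D.borelSubgroup L) (hn : n ∈ D.monomialSubgroup L) {π : Equiv.Perm (Fin D.nroots)}
    (hπ : g.Acts n π) (hu : u ∈ rootGen D L (minusSet π)) :
    (torHom D L c)⁻¹ * ((b * n * u) * torHom D L c * (b * n * u)⁻¹) ∈ D.posUnipotent L ↔
      Commute u (torHom D L c) ∧ ∀ s : Fin D.nroots, rootVal c (π s) = rootVal c s := by
  set t := torHom D L c with ht
  have htm : t ∈ D.diagonalSubgroup L := g.torHom_mem c
  set w := u * t * u⁻¹ * t⁻¹ with hw
  have hwm : w ∈ rootGen D L (minusSet π) := by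
    rw [hw, show u * t * u⁻¹ * t⁻¹ = u * (t * u⁻¹ * t⁻¹) by group]
    exact mul_mem hu ((Subgroup.mem_normalizer_iff.1
      (g.diagonal_le_normalizer_rootGen (minusSet π) htm) u⁻¹).1 (inv_mem hu))
  have htn : n * t * n⁻¹ ∈ D.diagonalSubgroup L := g.diag_conj hn htm
  -- conjugation invariance by the Borel subgroup
  have hinv : ∀ {b y : GL D.Idx L}, b ∈ D.borelSubgroup L → t⁻¹ * y ∈ D.posUnipotent L →
      t⁻¹ * (b * y * b⁻¹) ∈ D.posUnipotent L := by
    intro b y hb hy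
    obtain ⟨v, hv, h, hh, rfl⟩ := g.mem_borel.1 hb
    have hconj : ∀ {a z : GL D.Idx L}, a ∈ D.diagonalSubgroup L → z ∈ D.posUnipotent L →
        a * z * a⁻¹ ∈ D.posUnipotent L := fun ha hz =>
      (Subgroup.mem_normalizer_iff.1 (g.diagonal_le_normalizer_pos ha) _).1 hz
    have e : t⁻¹ * (v * h * y * (v * h)⁻¹) = (t⁻¹ * v * t⁻¹⁻¹) * (h * (t⁻¹ * y) * h⁻¹) * v⁻¹ := by
      have hht : h * t⁻¹ = t⁻¹ * h := g.diagonal_comm hh (inv_mem htm)
      rw [← mul_assoc h, hht]; group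
    rw [e]
    exact mul_mem (mul_mem (hconj (inv_mem htm) hv) (hconj hh hy)) (inv_mem hv)
  have hbn : b * n * u * t * (b * n * u)⁻¹ = b * (n * w * n⁻¹ * (n * t * n⁻¹)) * b⁻¹ := by rw [hw]; group
  rw [hbn]
  constructor
  · intro h
    have h1 : t⁻¹ * (n * w * n⁻¹ * (n * t * n⁻¹)) ∈ D.posUnipotent L := by
      have := hinv (inv_mem hb) h
      rwa [show b⁻¹ * (b * (n * w * n⁻¹ * (n * t * n⁻¹)) * b⁻¹) * b⁻¹⁻¹ = n * w * n⁻¹ * (n * t * n⁻¹) by group] at this
    have hB : n * w * n⁻¹ ∈ D.borelSubgroup L := by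
      have e : n * w * n⁻¹ = t * (t⁻¹ * (n * w * n⁻¹ * (n * t * n⁻¹))) * (n * t * n⁻¹)⁻¹ := by group
      rw [e]
      exact mul_mem (mul_mem (Subgroup.mem_sup_right htm) (Subgroup.mem_sup_left h1))
        (inv_mem (Subgroup.mem_sup_right htn))
    have hw1 : n * w * n⁻¹ = 1 := by
      have h2 : n * w * n⁻¹ ∈ D.borelSubgroup L ⊓ D.negUnipotent L :=
        Subgroup.mem_inf.2 ⟨hB, g.conj_minus_le hπ hwm⟩
      rwa [g.borel_inf_neg, Subgroup.mem_bot] at h2
    rw [hw1, one_mul] at h1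
    have h3 : t⁻¹ * (n * t * n⁻¹) ∈ D.posUnipotent L ⊓ D.diagonalSubgroup L :=
      Subgroup.mem_inf.2 ⟨h1, mul_mem (inv_mem htm) htn⟩
    rw [g.pos_inf_diagonal, Subgroup.mem_bot, inv_mul_eq_one] at h3
    refine ⟨?_, fun s => g.rootVal_conj hπ h3.symm s⟩
    rw [conj_eq_one_iff, hw] at hw1
    exact mul_inv_eq_iff_eq_mul.1 (mul_inv_eq_one.1 hw1)
  · rintro ⟨hcomm, hstab⟩
    have hw1 : w = 1 := by rw [hw, hcomm.eq]; group
    have hnt : n * t * n⁻¹ = t := by
      rw [g.diagonal_eq_range] at htn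
      obtain ⟨c', hc'⟩ := htn
      rw [← hc', ht]
      refine g.torHom_eq_of_simple fun j => ?_
      have h := g.rootVal_conj hπ hc'.symm (π⁻¹ (g.sroot j))
      rw [← hstab (π⁻¹ (g.sroot j)), show π (π⁻¹ (g.sroot j)) = g.sroot j from π.apply_symm_apply _] at h
      exact h
    refine hinv hb ?_
    rw [hw1, mul_one, mul_inv_cancel, one_mul, hnt, inv_mul_cancel]
    exact one_mem _

/-- Two commuting elements of coprime prime orders are conjugate into the split torus. -/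
theorem exists_conj_torus_pair [Fintype L] (hc : HasComm D) {p k : ℕ} (hL : Fintype.card L = p ^ k)
    {r s : ℕ} [Fact r.Prime] [Fact s.Prime] (hpr : ¬ r ∣ p) (hps : ¬ s ∣ p)
    (hroot : ∀ r < D.nroots, ∃ e : Fin D.rank → Lˣ, e ^ s = 1 ∧ rootVal e r ≠ 1)
    {c : Fin D.rank → Lˣ} (hcr : torHom D L c ^ r = 1)
    (hst : ¬ s ∣ Nat.card {ρ : g.weyl // ∀ u : Fin D.nroots, rootVal c (ρ.1 u) = rootVal c u})
    {z : GL D.Idx L} (hz : z ∈ D.group L) (hzs : z ^ s = 1) (hcz : Commute (torHom D L c) z) :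
    ∃ a ∈ D.group L, a⁻¹ * torHom D L c * a ∈ D.diagonalSubgroup L ∧ a⁻¹ * z * a ∈ D.diagonalSubgroup L := by
  classical
  set G := ↥(D.group L)
  set t := torHom D L c with ht
  set B := (D.borelSubgroup L).subgroupOf (D.group L) with hB
  have hconjU : ∀ {b y : GL D.Idx L}, b ∈ D.borelSubgroup L → t⁻¹ * y ∈ D.posUnipotent L →
      t⁻¹ * (b * y * b⁻¹) ∈ D.posUnipotent L := by
    intro b y hb hy
    obtain ⟨v, hv, h, hh, rfl⟩ := g.mem_borel.1 hb
    have htm : t ∈ D.diagonalSubgroup L := g.torHom_mem c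
    have hconj : ∀ {a z : GL D.Idx L}, a ∈ D.diagonalSubgroup L → z ∈ D.posUnipotent L →
        a * z * a⁻¹ ∈ D.posUnipotent L := fun ha hz =>
      (Subgroup.mem_normalizer_iff.1 (g.diagonal_le_normalizer_pos ha) _).1 hz
    have e : t⁻¹ * (v * h * y * (v * h)⁻¹) = (t⁻¹ * v * t⁻¹⁻¹) * (h * (t⁻¹ * y) * h⁻¹) * v⁻¹ := by
      have hht : h * t⁻¹ = t⁻¹ * h := g.diagonal_comm hh (inv_mem htm)
      rw [← mul_assoc h, hht]; group
    rw [e]
    exact mul_mem (mul_mem (hconj (inv_mem htm) hv) (hconj hh hy)) (inv_mem hv)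
  -- the flags on which `t` has the given value
  let P : G ⧸ B → Prop := fun x => ∀ a : G, QuotientGroup.mk a = x →
    t⁻¹ * ((a : GL D.Idx L)⁻¹ * t * (a : GL D.Idx L)) ∈ D.posUnipotent L
  have hPmk : ∀ a : G, P (QuotientGroup.mk a) ↔ t⁻¹ * ((a : GL D.Idx L)⁻¹ * t * a) ∈ D.posUnipotent L := by
    intro a
    refine ⟨fun h => h a rfl, fun h a' ha' => ?_⟩
    have hb : a'⁻¹ * a ∈ B := QuotientGroup.eq.1 ha'
    have hb' : (a' : GL D.Idx L)⁻¹ * (a : GL D.Idx L) ∈ D.borelSubgroup L := Subgroup.mem_subgroupOf.1 hb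
    have := hconjU hb' h
    rwa [show (a' : GL D.Idx L)⁻¹ * a * ((a : GL D.Idx L)⁻¹ * t * a) * ((a' : GL D.Idx L)⁻¹ * a)⁻¹ =
      (a' : GL D.Idx L)⁻¹ * t * a' by group] at this
  set Y := {x : G ⧸ B // P x}
  -- the count
  let S := {a : G // t⁻¹ * ((a : GL D.Idx L) * t * (a : GL D.Idx L)⁻¹) ∈ D.posUnipotent L}
  have hSY : Nat.card S = Nat.card B * Nat.card Y := by
    rw [← Nat.card_prod]
    refine Nat.card_congr (((Equiv.inv G).subtypeEquiv (p := fun a : G => t⁻¹ * ((a : GL D.Idx L) * t * (a : GL D.Idx L)⁻¹) ∈ D.posUnipotent L)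
      (q := fun a : G => P (QuotientGroup.mk a)) fun a => by
        rw [hPmk, Equiv.inv_apply, Subgroup.coe_inv, inv_inv]).trans
      ((QuotientGroup.preimageMkEquivSubgroupProdSet B {x | P x})))
  let Stab := {ρ : g.weyl // ∀ u : Fin D.nroots, rootVal c (ρ.1 u) = rootVal c u}
  choose word hword using fun w : ↥g.weyl => g.exists_wperm w.2
  have hn : ∀ w : ↥g.weyl, g.Acts (g.wordN (word w) : GL D.Idx L) w.1 := fun w => by
    have := g.acts_wordN (F := L) (word w)
    rwa [hword w] at this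
  let e : ↥(D.borelSubgroup L) × (Σ w : Stab, {u : GL D.Idx L // u ∈ rootGen D L (minusSet w.1.1) ∧ Commute u t}) → S :=
    fun p => ⟨⟨(p.1 : GL D.Idx L) * g.wordN (word p.2.1.1) * p.2.2.1,
      mul_mem (mul_mem (g.borel_le_group p.1.2) (g.monomial_le_group (g.wordN_mem _)))
        (g.posUnipotent_le_group (g.minus_le_pos _ p.2.2.2.1))⟩,
      (g.conj_mem_coset_iff hc p.1.2 (g.wordN_mem _) (hn _) p.2.2.2.1).2 ⟨p.2.2.2.2, p.2.1.2⟩⟩
  have hbij : Function.Bijective e := by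
    refine ⟨?_, fun x => ?_⟩
    · rintro ⟨b, ⟨w, hw⟩, u⟩ ⟨b', ⟨w', hw'⟩, u'⟩ h
      have h' : (b : GL D.Idx L) * g.wordN (word w) * u.1 = (b' : GL D.Idx L) * g.wordN (word w') * u'.1 :=
        congrArg (fun a : S => ((a.1 : G) : GL D.Idx L)) h
      have h1 := g.canonical_coset hc b.2 b'.2 (g.wordN_mem _) (g.wordN_mem _)
        (Subgroup.mem_sup_left (g.minus_le_pos _ u.2.1)) (Subgroup.mem_sup_left (g.minus_le_pos _ u'.2.1)) h'
      have h2 := g.acts_unique (g.acts_mul (g.acts_inv (hn w)) (hn w')) (g.acts_diagonal h1)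
      obtain rfl : w = w' := Subtype.ext (inv_mul_eq_one.1 h2)
      obtain ⟨e1, e2⟩ := g.canonical_unique b.2 b'.2 (hn w) u.2.1 u'.2.1 h'
      rw [Subtype.ext e1, Subtype.ext e2]
    · obtain ⟨b, hb, n, hnm, π, hπw, hπ, u, hu, he⟩ := g.exists_canonical hc x.1.2
      have hx := x.2
      rw [he] at hx
      obtain ⟨hcu, hst'⟩ := (g.conj_mem_coset_iff hc hb hnm hπ hu).1 hx
      let w : ↥g.weyl := ⟨π, hπw⟩
      have hd := g.monomial_same_acts hnm (g.wordN_mem (F := L) (word w)) hπ (hn w)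
      refine ⟨(⟨b * (n * (g.wordN (F := L) (word w))⁻¹), mul_mem hb (Subgroup.mem_sup_right hd)⟩,
        ⟨⟨w, hst'⟩, ⟨u, hu, hcu⟩⟩), Subtype.ext (Subtype.ext ?_)⟩
      show b * (n * (g.wordN (F := L) (word w))⁻¹) * g.wordN (word w) * u = _
      rw [he]; group
  have hcard : Nat.card Y = ∑ w : Stab, Nat.card {u : GL D.Idx L // u ∈ rootGen D L (minusSet w.1.1) ∧ Commute u t} := by
    have h := hSY
    rw [← Nat.card_eq_of_bijective e hbij, Nat.card_prod, Nat.card_sigma, hB,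
      Nat.card_congr (Subgroup.subgroupOfEquivOfLe g.borel_le_group).toEquiv] at h
    exact (Nat.eq_of_mul_eq_mul_left Nat.card_pos h).symm
  have hYs : ¬ s ∣ Nat.card Y := fun hd => by
    refine hst ?_
    rw [← CharP.cast_eq_zero_iff (ZMod s) s] at hd ⊢
    rw [hcard, Nat.cast_sum, Finset.sum_congr rfl fun w _ => ((ZMod.natCast_eq_natCast_iff _ _ _).2
      (g.card_minus_centralizer_modEq hc hroot c w.1.1)), Finset.sum_const, Finset.card_univ, nsmul_eq_mul,
      Nat.cast_one, mul_one] at hd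
    rwa [Nat.card_eq_fintype_card]
  -- the action of `z`
  let zG : G := ⟨z, hz⟩
  have hzP : ∀ x : G ⧸ B, P x → P (zG • x) := by
    intro x
    obtain ⟨a, rfl⟩ := QuotientGroup.mk_surjective x
    rw [MulAction.Quotient.smul_mk, hPmk, hPmk, smul_eq_mul, Subgroup.coe_mul,
      show (zG : GL D.Idx L) = z from rfl,
      show (z * (a : GL D.Idx L))⁻¹ * t * (z * a) = (a : GL D.Idx L)⁻¹ * (z⁻¹ * t * z) * a by group,
      mul_assoc z⁻¹, hcz.eq, inv_mul_cancel_left]
    exact id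
  have hzs' : zG ^ s = 1 := Subtype.ext hzs
  let Z := Subgroup.zpowers zG
  have hmem : ∀ (a : Z) (x : Y), P ((a : G) • x.1) := by
    rintro ⟨a, ha⟩ x
    obtain ⟨i, rfl⟩ := ((isOfFinOrder_of_finite zG).mem_powers_iff_mem_zpowers.2 ha)
    show P (zG ^ i • x.1)
    induction i with
    | zero => rw [pow_zero, one_smul]; exact x.2
    | succ i ih => rw [pow_succ', mul_smul]; exact hzP _ (ih (Subgroup.mem_zpowers_iff.2 ⟨i, zpow_natCast zG i⟩))
  letI : MulAction Z Y :=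
    { smul := fun a x => ⟨(a : G) • x.1, hmem a x⟩
      one_smul := fun x => Subtype.ext (one_smul G x.1)
      mul_smul := fun a b x => Subtype.ext (mul_smul (a : G) (b : G) x.1) }
  have hZp : IsPGroup s Z := fun a => ⟨1, Subtype.ext (by
    obtain ⟨i, hi⟩ := Subgroup.mem_zpowers_iff.1 a.2
    rw [pow_one, SubmonoidClass.coe_pow, ← hi, ← zpow_natCast, ← _root_.zpow_mul, mul_comm,
      _root_.zpow_mul, zpow_natCast, hzs', _root_.one_zpow, OneMemClass.coe_one])⟩
  obtain ⟨⟨x, hx⟩, hxfix⟩ := hZp.nonempty_fixed_point_of_prime_not_dvd_card Y hYs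
  obtain ⟨a, rfl⟩ := QuotientGroup.mk_surjective x
  have hza : zG • (QuotientGroup.mk a : G ⧸ B) = QuotientGroup.mk a :=
    congrArg Subtype.val (hxfix ⟨zG, Subgroup.mem_zpowers zG⟩)
  rw [MulAction.Quotient.smul_mk, eq_comm, QuotientGroup.eq, Subgroup.mem_subgroupOf] at hza
  have hzB : (a : GL D.Idx L)⁻¹ * z * a ∈ D.borelSubgroup L := by
    rw [mul_assoc]; exact hza
  have htB : (a : GL D.Idx L)⁻¹ * t * a ∈ D.borelSubgroup L := by
    have h := mul_mem (Subgroup.mem_sup_right (g.torHom_mem c) : t ∈ D.borelSubgroup L)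
      (Subgroup.mem_sup_left ((hPmk a).1 hx) : t⁻¹ * ((a : GL D.Idx L)⁻¹ * t * a) ∈ D.borelSubgroup L)
    rwa [mul_inv_cancel_left] at h
  set T := (D.diagonalSubgroup L).subgroupOf (D.borelSubgroup L)
  have hTc : IsMulCommutative T := ⟨⟨fun a b => Subtype.ext (Subtype.ext
    (g.diagonal_comm (Subgroup.mem_subgroupOf.1 a.2) (Subgroup.mem_subgroupOf.1 b.2)))⟩⟩
  have hidx : ∃ m, T.index = p ^ m := by
    have h1 := T.card_mul_index
    rw [Nat.card_congr (Subgroup.subgroupOfEquivOfLe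
      (show D.diagonalSubgroup L ≤ D.borelSubgroup L from le_sup_right)).toEquiv, g.card_borel hc, hL,
      ← pow_mul] at h1
    exact ⟨k * (D.nroots / 2), Nat.eq_of_mul_eq_mul_left (Nat.card_pos (α := ↥(D.diagonalSubgroup L)))
      (h1.trans (by ring))⟩
  have hcj : ∀ y : GL D.Idx L, ∀ m : ℕ, ((a : GL D.Idx L)⁻¹ * y * a) ^ m = (a : GL D.Idx L)⁻¹ * y ^ m * a := fun y m => by
    rw [show (a : GL D.Idx L)⁻¹ * y * a = (a : GL D.Idx L)⁻¹ * y * (a : GL D.Idx L)⁻¹⁻¹ by rw [inv_inv],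
      conj_pow, inv_inv]
  obtain ⟨⟨b, hb⟩, hbt, hbz⟩ := exists_conj_pair T hTc hidx hpr hps
    (x := (⟨_, htB⟩ : ↥(D.borelSubgroup L))) (z := ⟨_, hzB⟩)
    (Subtype.ext (by show ((a : GL D.Idx L)⁻¹ * t * a) ^ r = 1; rw [hcj, hcr, mul_one, inv_mul_cancel]))
    (Subtype.ext (by show ((a : GL D.Idx L)⁻¹ * z * a) ^ s = 1; rw [hcj, hzs, mul_one, inv_mul_cancel]))
    (Subtype.ext (by
      show ((a : GL D.Idx L)⁻¹ * t * a) * ((a : GL D.Idx L)⁻¹ * z * a) =
        ((a : GL D.Idx L)⁻¹ * z * a) * ((a : GL D.Idx L)⁻¹ * t * a)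
      calc _ = (a : GL D.Idx L)⁻¹ * (t * z) * a := by group
        _ = (a : GL D.Idx L)⁻¹ * (z * t) * a := by rw [hcz.eq]
        _ = _ := by group))
  refine ⟨(a : GL D.Idx L) * b, mul_mem a.2 (g.borel_le_group hb), ?_, ?_⟩
  · have h := Subgroup.mem_subgroupOf.1 hbt
    simpa [mul_assoc] using h
  · have h := Subgroup.mem_subgroupOf.1 hbz
    simpa [mul_assoc] using h

end Good

end CfsgLib.Chev
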