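import Mathlib
import Cfsg.Agent.Lib.Chev.E7TwelveFour
import Cfsg.Agent.Lib.Chev.TorusFusePair
import Cfsg.Agent.Lib.Chev.SylowHomocyclic

/-!
The group of type E₇ over two elements has no element of order 65.
-/

set_option autoImplicit false
set_option maxHeartbeats 2000000
set_option maxRecDepth 100000

namespace CfsgLib.Chev.Springer

open Cfsg.Lie Matrix Polynomial

theorem cartan_not_dvd_five : ∀ r : Fin chevE7.nroots, ∃ i : Fin chevE7.rank,
    ¬ (5 : ℤ) ∣ chevE7.cartan i r := by decide +kernel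

theorem two_pow_twelve : (2 : ZMod 13) ^ 12 = 1 ∧ ∀ l : Fin 12, 0 < l.val → (2 : ZMod 13) ^ l.val ≠ 1 := by
  decide

variable (F : Type*) [Field F] [Fintype F]

/-- No element of order 65. -/
theorem no_order_65 (hF : Fintype.card F = 2) (y : ↥(chevE7.group F)) : orderOf y ≠ 65 := by
  intro hy
  classical
  set g := goodE7
  have hc : HasComm chevE7 := hasComm_of_mem (by simp)
  haveI : Fact (Nat.Prime 13) := ⟨by norm_num⟩
  haveI : Fact (Nat.Prime 5) := ⟨by norm_num⟩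
  set p := ringChar F with hp
  haveI : Fact p.Prime := ⟨CharP.char_is_prime F p⟩
  haveI : NeZero (12 : ℕ) := ⟨by norm_num⟩
  let L := FiniteField.Extension F p 12
  haveI : Fintype L := Fintype.ofFinite L
  have hL : Fintype.card L = 2 ^ 12 := by
    rw [← Nat.card_eq_fintype_card, FiniteField.natCard_extension, Nat.card_eq_fintype_card, hF]
  let ι : F →+* L := algebraMap F L
  let φ : L →+* L := (FiniteField.Extension.frob F p 12).toRingEquiv.toRingHom
  have hφ : ∀ z : L, φ z = z ^ 2 := fun z => by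
    rw [← hF, ← Nat.card_eq_fintype_card]; exact FiniteField.Extension.frob_apply ..
  have hφι : ∀ a : F, φ (ι a) = ι a := fun a => by
    rw [hφ, ← map_pow, ← hF, FiniteField.pow_card]
  obtain ⟨γ, hγ⟩ := IsCyclic.exists_generator (α := Lˣ)
  have hγo : orderOf γ = 4095 := by
    rw [orderOf_eq_card_of_forall_mem_zpowers hγ, Nat.card_units, Nat.card_eq_fintype_card, hL]; norm_num
  have hδ : ∀ r m : ℕ, 4095 = m * r → 0 < m → ∀ a b : ℤ, (γ ^ m) ^ a = (γ ^ m) ^ b ↔ (a : ZMod r) = (b : ZMod r) := by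
    intro r m hrm hm a b
    have ho : orderOf (γ ^ m) = r := by
      rw [orderOf_pow_of_dvd hm.ne' (by rw [hγo, hrm]; exact dvd_mul_right _ _), hγo, hrm,
        Nat.mul_div_cancel_left _ hm]
    rw [ZMod.intCast_eq_intCast_iff_dvd_sub, ← ho, orderOf_dvd_iff_zpow_eq_one, _root_.zpow_sub, mul_inv_eq_one]
    exact ⟨fun h => h.symm, fun h => h.symm⟩
  -- a torus element of prime order and its exponents
  have hvec : ∀ r m : ℕ, 4095 = m * r → 0 < m → ∀ e : Fin chevE7.rank → Lˣ, torHom chevE7 L e ^ r = 1 →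
      ∃ a : Fin chevE7.rank → ℤ, ∀ u : Fin chevE7.nroots, rootVal e u = (γ ^ m) ^ (∑ i, g.coVec u i * a i) := by
    intro r m hrm hm e he
    have hroot : ∀ j : Fin chevE7.rank, ∃ a : ℤ, (γ ^ m) ^ a = rootVal e (chevE7.simple j) := by
      intro j
      have h1 : rootVal e (chevE7.simple j) ^ r = 1 := by
        rw [← rootVal_pow, g.rootVal_eq_of_torHom (show torHom chevE7 L (e ^ r) = torHom chevE7 L 1 by
          rw [map_pow, he, map_one]) (g.simple_lt j.2), rootVal_one]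
      obtain ⟨k, hk⟩ := Subgroup.mem_zpowers_iff.1 (hγ (rootVal e (chevE7.simple j)))
      rw [← hk, ← zpow_natCast, ← _root_.zpow_mul, ← orderOf_dvd_iff_zpow_eq_one, hγo, hrm, Nat.cast_mul] at h1
      have hr0 : (r : ℤ) ≠ 0 := by
        intro h0; rw [Int.natCast_eq_zero.1 h0, mul_zero] at hrm; omega
      obtain ⟨a, ha⟩ := (mul_dvd_mul_iff_right hr0).1 h1
      exact ⟨a, by rw [← zpow_natCast, ← _root_.zpow_mul, ← hk, ha]⟩
    choose a ha using hroot
    refine ⟨a, fun u => ?_⟩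
    rw [g.rootVal_eq_prod e u.2, zpow_finsum]
    refine Finset.prod_congr rfl fun j _ => ?_
    rw [← ha j, ← _root_.zpow_mul, mul_comm]
    rfl
  have hsum : ∀ (j : Fin chevE7.rank) (k : Fin chevE7.rank → ℤ), ∑ i, g.coVec (g.sroot j) i * k i = k j := by
    intro j k
    simp [g.coVec_sroot]
  have hφval : ∀ (e : Fin chevE7.rank → Lˣ) (u : ℕ),
      rootVal (fun i => Units.map (φ : L →* L) (e i)) u = rootVal e u ^ 2 := by
    intro e u
    simp only [rootVal, ← Finset.prod_pow]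
    refine Finset.prod_congr rfl fun i _ => ?_
    rw [show Units.map (φ : L →* L) (e i) = e i ^ 2 from Units.ext (by simp [hφ]), ← zpow_natCast (e i) 2,
      ← zpow_natCast _ 2, ← _root_.zpow_mul, ← _root_.zpow_mul, mul_comm]
  have heig : ∀ r m : ℕ, 4095 = m * r → 0 < m → ∀ (e : Fin chevE7.rank → Lˣ) (a : Fin chevE7.rank → ℤ)
      (n : GL chevE7.Idx L) (π : Equiv.Perm (Fin chevE7.nroots)), g.Acts n π →
      n * torHom chevE7 L e * n⁻¹ = scalarGL chevE7 φ (torHom chevE7 L e) →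
      (∀ u : Fin chevE7.nroots, rootVal e u = (γ ^ m) ^ (∑ i, g.coVec u i * a i)) →
      (g.coMat π⁻¹).map (Int.cast : ℤ → ZMod r) *ᵥ (fun j => (a j : ZMod r)) = (2 : ZMod r) • fun j => (a j : ZMod r) := by
    intro r m hrm hm e a n π hπ hn ha
    funext j
    show ∑ t, ((g.coMat π⁻¹ j t : ℤ) : ZMod r) * ((a t : ℤ) : ZMod r) = (2 : ZMod r) * ((a j : ℤ) : ZMod r)
    rw [Finset.sum_congr rfl fun t _ => (Int.cast_mul (g.coMat π⁻¹ j t) (a t)).symm, ← Int.cast_sum,
      show (2 : ZMod r) * ((a j : ℤ) : ZMod r) = ((2 * a j : ℤ) : ZMod r) by push_cast; rfl, ← hδ r m hrm hm]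
    have h := g.rootVal_conj hπ (c := e) (hn.trans (scalarGL_torHom φ e)) (π⁻¹ (g.sroot j))
    rw [show π (π⁻¹ (g.sroot j)) = g.sroot j from π.apply_symm_apply _, hφval, ha, hsum, ha,
      ← zpow_natCast, ← _root_.zpow_mul, Nat.cast_ofNat, mul_comm (a j)] at h
    rw [h]
    rfl
  have hne : ∀ r m : ℕ, 1 < r → ∀ (e : Fin chevE7.rank → Lˣ) (a : Fin chevE7.rank → ℤ), 4095 = m * r → 0 < m →
      (∀ u : Fin chevE7.nroots, rootVal e u = (γ ^ m) ^ (∑ i, g.coVec u i * a i)) →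
      torHom chevE7 L e ≠ 1 → (fun j => (a j : ZMod r)) ≠ 0 := by
    intro r m _ e a hrm hm ha he h0
    refine he ?_
    rw [← map_one (torHom chevE7 L)]
    refine g.torHom_eq_of_simple fun j => ?_
    rw [show chevE7.simple j = ((g.sroot j : Fin chevE7.nroots) : ℕ) from rfl, ha, hsum, rootVal_one,
      ← _root_.zpow_zero (γ ^ m), hδ r m hrm hm, Int.cast_zero]
    exact congrFun h0 j
  have hW : Nat.card g.weyl = 2903040 := card_weylE7 g
  have hW13 : ¬ 13 ∣ Nat.card g.weyl := by rw [hW]; norm_num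
  have hζ : IsPrimitiveRoot (2 : ZMod 13) 12 := by
    refine (IsPrimitiveRoot.iff (by norm_num)).2 ⟨two_pow_twelve.1, fun l hl hl' => ?_⟩
    exact two_pow_twelve.2 ⟨l, hl'⟩ hl
  have hcyc : ∀ π ∈ g.weyl, ∀ v : Fin chevE7.rank → ZMod 13, v ≠ 0 →
      (g.coMat π).map (Int.cast : ℤ → ZMod 13) *ᵥ v = (2 : ZMod 13) • v → cyclotomic 12 ℤ ∣ (g.coMat π).charpoly := by
    intro π hπ v hv hRv
    obtain ⟨t, ht, htd⟩ := exists_cyclotomic_pow_dvd hζ (orderOf_pos (⟨π, hπ⟩ : ↥g.weyl))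
      (fun hd => hW13 (hd.trans (orderOf_dvd_natCard _))) (by norm_num) _ _ rfl (g.coMat π).charpoly_monic
      (fun μ hμ => charpoly_root_pow _ (by
        rw [← g.coMat_pow hπ, show π ^ orderOf (⟨π, hπ⟩ : ↥g.weyl) =
          ((⟨π, hπ⟩ : ↥g.weyl) ^ orderOf (⟨π, hπ⟩ : ↥g.weyl) : ↥g.weyl).1 from rfl, pow_orderOf_eq_one]
        exact g.coMat_one) μ hμ)
    have hroot : IsRoot ((g.coMat π).map (Int.cast : ℤ → ZMod 13)).charpoly 2 := by
      rw [IsRoot.def, Matrix.eval_charpoly]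
      refine Matrix.exists_mulVec_eq_zero_iff.1 ⟨v, hv, ?_⟩
      rw [Matrix.sub_mulVec, hRv, sub_eq_zero]
      funext a
      simp [Matrix.scalar_apply, Matrix.mulVec_diagonal]
    rw [show (g.coMat π).map (Int.cast : ℤ → ZMod 13) = (g.coMat π).map (Int.castRingHom (ZMod 13)) from rfl,
      Matrix.charpoly_map] at hroot
    have hpos : 0 < t := ht ▸ (rootMultiplicity_pos ((g.coMat π).charpoly_monic.map _).ne_zero).2 hroot
    exact (dvd_pow_self _ hpos.ne').trans htd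
  -- the element of order thirteen in the torus
  set x := y ^ 5 with hx
  set z := y ^ 13 with hz
  have hxo : x ^ 13 = 1 := by rw [hx, ← pow_mul, ← hy.trans (by norm_num : 65 = 5 * 13), pow_orderOf_eq_one]
  have hzo : z ^ 5 = 1 := by rw [hz, ← pow_mul, ← hy.trans (by norm_num : 65 = 13 * 5), pow_orderOf_eq_one]
  have hx1 : x ≠ 1 := fun h => by
    have := orderOf_dvd_of_pow_eq_one h; rw [hy] at this; norm_num at this
  have hz1 : z ≠ 1 := fun h => by
    have := orderOf_dvd_of_pow_eq_one h; rw [hy] at this; norm_num at this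
  let G' : ↥(chevE7.group F) →* ↥(chevE7.group L) :=
    ((scalarGL chevE7 ι).comp (chevE7.group F).subtype).codRestrict (chevE7.group L) fun w => g.scalarGL_mem ι w.2
  have hindex : ¬ 13 ∣ ((chevE7.diagonalSubgroup L).subgroupOf (chevE7.group L)).index := by
    intro hdvd
    set T' := (chevE7.diagonalSubgroup L).subgroupOf (chevE7.group L)
    have h1 := T'.card_mul_index
    rw [Nat.card_congr (Subgroup.subgroupOfEquivOfLe g.diagonal_le_group).toEquiv,
      g.card_group hc, g.card_borel hc] at h1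
    have h2 : T'.index = Fintype.card L ^ (chevE7.nroots / 2) * g.weylSum {i | i < chevE7.rank} (Fintype.card L) :=
      Nat.eq_of_mul_eq_mul_left (Nat.card_pos (α := ↥(chevE7.diagonalSubgroup L))) (h1.trans (by ring))
    have hQ : ((Fintype.card L : ℕ) : ZMod 13) = 1 := by rw [hL, Nat.cast_pow]; exact two_pow_twelve.1
    rw [h2, ← CharP.cast_eq_zero_iff (ZMod 13) 13, Nat.cast_mul, Nat.cast_pow, hQ, one_pow, one_mul,
      Good.weylSum, ← g.weyl_eq_wJ, Nat.cast_sum] at hdvd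
    simp only [Nat.cast_pow, hQ, one_pow, Finset.sum_const, nsmul_eq_mul, mul_one] at hdvd
    rw [CharP.cast_eq_zero_iff (ZMod 13) 13] at hdvd
    refine hW13 ?_
    rwa [Nat.card_eq_fintype_card, Fintype.card_subtype]
  obtain ⟨⟨g0, hg0⟩, hmem⟩ := exists_conj_mem _ (show (G' x) ^ 13 = 1 by rw [← map_pow, hxo, map_one]) hindex
  have htd : g0⁻¹ * scalarGL chevE7 ι x * g0 ∈ chevE7.diagonalSubgroup L := Subgroup.mem_subgroupOf.1 hmem
  have hφx : ∀ w : GL chevE7.Idx F, scalarGL chevE7 φ (scalarGL chevE7 ι w) = scalarGL chevE7 ι w := fun w =>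
    Units.ext (Matrix.ext fun i j => hφι _)
  have hinj : ∀ (a : GL chevE7.Idx L) (w : ↥(chevE7.group F)), a⁻¹ * scalarGL chevE7 ι w * a = 1 → w = 1 := by
    intro a w hw
    refine Subtype.ext (scalarGL_injective ι ?_)
    rw [OneMemClass.coe_one, map_one]
    calc scalarGL chevE7 ι w = a * (a⁻¹ * scalarGL chevE7 ι w * a) * a⁻¹ := by group
      _ = 1 := by rw [hw, mul_one, mul_inv_cancel]
  have hpow : ∀ (a : GL chevE7.Idx L) (w : ↥(chevE7.group F)) (k : ℕ), w ^ k = 1 →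
      (a⁻¹ * scalarGL chevE7 ι w * a) ^ k = 1 := by
    intro a w k hw
    rw [show a⁻¹ * scalarGL chevE7 ι w * a = a⁻¹ * scalarGL chevE7 ι w * a⁻¹⁻¹ by rw [inv_inv], conj_pow,
      ← map_pow, show ((w : GL chevE7.Idx F) ^ k) = 1 from congrArg Subtype.val hw, map_one, mul_one, mul_inv_cancel]
  rw [g.diagonal_eq_range] at htd
  obtain ⟨c, hct⟩ := htd
  obtain ⟨a, ha⟩ := hvec 13 315 (by norm_num) (by norm_num) c (hct ▸ hpow g0 x 13 hxo)
  set v : Fin chevE7.rank → ZMod 13 := fun j => (a j : ZMod 13)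
  have hv : v ≠ 0 := hne 13 315 (by norm_num) c a (by norm_num) (by norm_num) ha
    (fun h => hx1 (hinj g0 x (hct ▸ h)))
  -- one monomial element for the twist
  have htwist : ∀ gc ∈ chevE7.group L, ∃ n ∈ chevE7.monomialSubgroup L, ∀ (w : ↥(chevE7.group F)) (e : Fin chevE7.rank → Lˣ),
      torHom chevE7 L e = gc⁻¹ * scalarGL chevE7 ι w * gc →
      n * torHom chevE7 L e * n⁻¹ = scalarGL chevE7 φ (torHom chevE7 L e) := by
    intro gc hgc
    set af := gc⁻¹ * scalarGL chevE7 φ gc with haf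
    obtain ⟨n, hn, hnt⟩ := diagonal_fusion_all g hc
      (inv_mem (mul_mem (inv_mem hgc) (g.scalarGL_mem φ hgc)) : af⁻¹ ∈ chevE7.group L)
    refine ⟨n, hn, fun w e he => hnt _ _ (g.torHom_mem _) (by rw [scalarGL_torHom]; exact g.torHom_mem _) ?_⟩
    rw [inv_inv, he, map_mul, map_mul, map_inv, hφx, haf]
    group
  obtain ⟨n₀, hn₀, hn₀t⟩ := htwist g0 hg0
  obtain ⟨π₀, hπ₀w, hπ₀⟩ := g.exists_acts hn₀
  have hR₀ := heig 13 315 (by norm_num) (by norm_num) c a n₀ π₀ hπ₀ (hn₀t x c hct) ha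
  have hst : ¬ 5 ∣ Nat.card {ρ : g.weyl // ∀ u : Fin chevE7.nroots, rootVal c (ρ.1 u) = rootVal c u} := by
    intro hd
    let H : Subgroup g.weyl :=
      { carrier := {ρ | ∀ u : Fin chevE7.nroots, rootVal c (ρ.1 u) = rootVal c u}
        one_mem' := fun u => rfl
        mul_mem' := fun {p q} hp hq u => (hp (q.1 u)).trans (hq u)
        inv_mem' := fun {p} hp u => by
          have h := hp ((p⁻¹ : ↥g.weyl).1 u)
          rw [show p.1 ((p⁻¹ : ↥g.weyl).1 u) = u from p.1.apply_symm_apply u] at h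
          exact h.symm }
    obtain ⟨ρ, hρ⟩ := exists_prime_orderOf_dvd_card' (G := H) 5 hd
    have h5 : ρ.1.1 ^ 5 = 1 := congrArg (fun w : H => w.1.1) (hρ ▸ pow_orderOf_eq_one ρ)
    have hfix : (g.coMat ρ.1.1).map (Int.cast : ℤ → ZMod 13) *ᵥ v = v := by
      funext j
      show ∑ t, ((g.coMat ρ.1.1 j t : ℤ) : ZMod 13) * ((a t : ℤ) : ZMod 13) = ((a j : ℤ) : ZMod 13)
      rw [Finset.sum_congr rfl fun t _ => (Int.cast_mul (g.coMat ρ.1.1 j t) (a t)).symm, ← Int.cast_sum,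
        ← hδ 13 315 (by norm_num) (by norm_num)]
      have h := ρ.2 (g.sroot j)
      rw [ha, ha, hsum] at h
      rw [← h]
      rfl
    have h1 := stab_five (inv_mem hπ₀w) (hcyc _ (inv_mem hπ₀w) v hv hR₀) hW13 (by norm_num) hζ hv hR₀ ρ.1.2 hfix h5
    rw [show ρ = 1 from Subtype.ext (Subtype.ext h1), orderOf_one] at hρ
    exact absurd hρ (by norm_num)
  have hroot5 : ∀ r < chevE7.nroots, ∃ e : Fin chevE7.rank → Lˣ, e ^ 5 = 1 ∧ rootVal e r ≠ 1 := by
    intro r hr
    obtain ⟨i, hi⟩ := cartan_not_dvd_five ⟨r, hr⟩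
    refine ⟨Pi.mulSingle i (γ ^ 819), ?_, ?_⟩
    · have h : (γ ^ 819) ^ 5 = 1 := by
        rw [← pow_mul, show 819 * 5 = orderOf γ by rw [hγo], pow_orderOf_eq_one]
      funext k
      rcases eq_or_ne k i with rfl | hk
      · simp [h]
      · simp [hk]
    · intro h1
      refine hi ?_
      have : rootVal (Pi.mulSingle i (γ ^ 819)) r = (γ ^ 819) ^ chevE7.cartan i r := by
        rw [rootVal, Finset.prod_eq_single i (fun b _ hb => by simp [hb]) (by simp), Pi.mulSingle_eq_same]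
      rw [this, ← _root_.zpow_zero (γ ^ 819), hδ 5 819 (by norm_num) (by norm_num), Int.cast_zero,
        ZMod.intCast_zmod_eq_zero_iff_dvd] at h1
      exact h1
  set zh := g0⁻¹ * scalarGL chevE7 ι z * g0 with hzh
  have hzm : zh ∈ chevE7.group L := mul_mem (mul_mem (inv_mem hg0) (g.scalarGL_mem ι z.2)) hg0
  have hcz : Commute (torHom chevE7 L c) zh := by
    have hxz : Commute x z := (Commute.refl y).pow_pow 5 13
    rw [hct, hzh]
    calc g0⁻¹ * scalarGL chevE7 ι x * g0 * (g0⁻¹ * scalarGL chevE7 ι z * g0)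
        = g0⁻¹ * scalarGL chevE7 ι ((x * z : ↥(chevE7.group F)) : GL chevE7.Idx F) * g0 := by
          rw [Subgroup.coe_mul, map_mul]; group
      _ = g0⁻¹ * scalarGL chevE7 ι ((z * x : ↥(chevE7.group F)) : GL chevE7.Idx F) * g0 := by rw [hxz.eq]
      _ = _ := by rw [Subgroup.coe_mul, map_mul]; group
  obtain ⟨g1, hg1, ht1, hz2⟩ := g.exists_conj_torus_pair hc (p := 2) (k := 12) hL
    (r := 13) (s := 5) (by norm_num) (by norm_num) hroot5 (hct ▸ hpow g0 x 13 hxo) hst hzm (hpow g0 z 5 hzo) hcz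
  set gc := g0 * g1 with hgc
  have e1 : g1⁻¹ * torHom chevE7 L c * g1 = gc⁻¹ * scalarGL chevE7 ι x * gc := by rw [hct, hgc]; group
  have e2 : g1⁻¹ * zh * g1 = gc⁻¹ * scalarGL chevE7 ι z * gc := by rw [hzh, hgc]; group
  rw [e1, g.diagonal_eq_range] at ht1
  rw [e2, g.diagonal_eq_range] at hz2
  obtain ⟨cx, hcx⟩ := ht1
  obtain ⟨cz, hcz'⟩ := hz2
  obtain ⟨n, hn, hnt⟩ := htwist gc (mul_mem hg0 hg1)
  obtain ⟨π, hπw, hπ⟩ := g.exists_acts hn
  obtain ⟨ax, hax⟩ := hvec 13 315 (by norm_num) (by norm_num) cx (hcx ▸ hpow gc x 13 hxo)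
  obtain ⟨az, haz⟩ := hvec 5 819 (by norm_num) (by norm_num) cz (hcz' ▸ hpow gc z 5 hzo)
  have hRx := heig 13 315 (by norm_num) (by norm_num) cx ax n π hπ (hnt x cx hcx) hax
  have hRz := heig 5 819 (by norm_num) (by norm_num) cz az n π hπ (hnt z cz hcz') haz
  have hvx := hne 13 315 (by norm_num) cx ax (by norm_num) (by norm_num) hax (fun h => hx1 (hinj gc x (hcx ▸ h)))
  have hvz := hne 5 819 (by norm_num) cz az (by norm_num) (by norm_num) haz (fun h => hz1 (hinj gc z (hcz' ▸ h)))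
  refine no_twelve_four (inv_mem hπw) (hcyc _ (inv_mem hπw) _ hvx hRx) ?_
  rw [show (5 : ℤ) = ((5 : ℕ) : ℤ) by norm_num, ← ZMod.intCast_zmod_eq_zero_iff_dvd, Matrix.eval_charpoly,
    ← eq_intCast (Int.castRingHom (ZMod 5)), RingHom.map_det]
  refine Matrix.exists_mulVec_eq_zero_iff.1 ⟨_, hvz, ?_⟩
  rw [map_sub, Matrix.sub_mulVec, sub_eq_zero, show (Int.castRingHom (ZMod 5)).mapMatrix (g.coMat π⁻¹) =
    (g.coMat π⁻¹).map (Int.cast : ℤ → ZMod 5) from rfl, hRz]
  funext b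
  rw [show (Int.castRingHom (ZMod 5)).mapMatrix (Matrix.scalar (Fin chevE7.rank) (2 : ℤ)) =
    Matrix.scalar (Fin chevE7.rank) (2 : ZMod 5) from Matrix.ext fun p q => by
      rcases eq_or_ne p q with rfl | h
      · rw [RingHom.mapMatrix_apply, Matrix.map_apply, Matrix.scalar_apply, Matrix.scalar_apply,
          Matrix.diagonal_apply_eq, Matrix.diagonal_apply_eq, map_ofNat]
      · rw [RingHom.mapMatrix_apply, Matrix.map_apply, Matrix.scalar_apply, Matrix.scalar_apply,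
          Matrix.diagonal_apply_ne _ h, Matrix.diagonal_apply_ne _ h, map_zero]]
  simp [Matrix.scalar_apply, Matrix.mulVec_diagonal]

end CfsgLib.Chev.Springer
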