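import Mathlib
import Cfsg.Agent.Lib.Chev.E7RootPairs
import Cfsg.Agent.Lib.Chev.TwistIso

/-!
Orthogonal roots of E₇ have commuting root subgroups.
-/

set_option autoImplicit false
set_option maxRecDepth 100000

namespace CfsgLib.Chev.Springer

open Cfsg.Lie Matrix

/-- The rows of `duoE7`. -/
def duoRows : List (List ℤ) :=
  [[4, 4, 6, 8, 6, 4, 2], [4, 7, 8, 12, 9, 6, 3], [6, 8, 12, 16, 12, 8, 4], [8, 12, 16, 24, 18, 12, 6],
    [6, 9, 12, 18, 15, 10, 5], [4, 6, 8, 12, 10, 8, 4], [2, 3, 4, 6, 5, 4, 3]]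

/-- Twice the inner product, computed from the Cartan integers. -/
noncomputable def ipPack (r s : ℕ) : ℤ :=
  List.rec (0 : ℤ) (fun i _ ih => List.rec (0 : ℤ) (fun j _ ih' =>
      nth 0 (nth [] duoRows i) j * fcartan chevE7 j r + ih') (upto 7) * fcartan chevE7 i s + ih) (upto 7)

theorem orth_table : allR (fun r => allR (fun s => !(Int.beq' (ipPack r s) 0) ||
    (Nat.beq (fterms chevE7 r s).length 0 && !(Nat.beq s r) && !(Nat.beq s (fneg chevE7 r))))
    (upto 126)) (upto 126) = true := by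
  decide +kernel

theorem two_ipR_eq_ipPack (u v : Fin chevE7.nroots) : 2 * ipR u v = ipPack u v := by
  have hpack := goodE7.lie.pack
  set cu : Fin chevE7.rank → ℤ := fun i => chevE7.cartan i u with hcu
  have h1 : duoE7 *ᵥ cu = (2 : ℤ) • goodE7.coVec u := by
    rw [hcu, ← cartan_vec, Matrix.mulVec_mulVec, duoE7_mul.1, Matrix.smul_mulVec, Matrix.one_mulVec]
  rw [ipR, ipV, cartan_vec, ← smul_eq_mul (2 : ℤ), ← smul_dotProduct, ← h1]
  have h7 : chevE7.rank = 7 := by decide +kernel
  simp only [dotProduct, Matrix.mulVec, hcu]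
  calc ∑ i : Fin chevE7.rank, (∑ j : Fin chevE7.rank, duoE7 i j * chevE7.cartan j u) * chevE7.cartan i v
      = ∑ i ∈ Finset.range chevE7.rank, (∑ j ∈ Finset.range chevE7.rank,
          nth 0 (nth [] duoRows i) j * fcartan chevE7 j u) * fcartan chevE7 i v := by
        rw [Finset.sum_range]
        refine Finset.sum_congr rfl fun i _ => ?_
        rw [Finset.sum_range, cartan_eq hpack i.2 v.2]
        refine congrArg (· * _) (Finset.sum_congr rfl fun j _ => ?_)
        rw [cartan_eq hpack j.2 u.2]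
        rfl
    _ = _ := by
        rw [h7]
        simp only [Finset.sum_range_succ, Finset.sum_range_zero, ipPack,
          show upto 7 = [0, 1, 2, 3, 4, 5, 6] from rfl]
        ring

/-- Orthogonal roots commute. -/
theorem orth_commute {L : Type*} [Field L] {u v : Fin chevE7.nroots} (h : ipR u v = 0) (t t' : L) :
    Commute (goodE7.xG (u : ℕ) t) (goodE7.xG (v : ℕ) t') := by
  have hu : (u : ℕ) < 126 := lt_of_lt_of_eq u.2 (by decide +kernel)
  have hv : (v : ℕ) < 126 := lt_of_lt_of_eq v.2 (by decide +kernel)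
  have h1 := allR_upto (allR_upto orth_table hu) hv
  rw [← two_ipR_eq_ipPack, h, mul_zero] at h1
  simp only [Bool.or_eq_true, Bool.and_eq_true, Bool.not_eq_true', ← Bool.not_eq_true, Nat.beq_eq,
    Int.beq'_eq, not_true_eq_false, false_or] at h1
  exact goodE7.xG_commute_check (hasComm_of_mem (by simp)) u.2 v.2
    ⟨h1.1.2, h1.2, List.length_eq_zero_iff.1 h1.1.1⟩ t t'

end CfsgLib.Chev.Springer
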