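import Cfsg.Agent.Lib.Chev.SLInvolMain
import Cfsg.Agent.Lib.Chev.Good
import Cfsg.Agent.Lib.Chev.CommGood

/-!
Kernel checks for the classes of involutions of type E7 in characteristic two.
-/

set_option autoImplicit false
set_option maxRecDepth 100000

namespace CfsgLib.Chev.SLInvol

open Cfsg.Lie

/-- The order of the coordinates. -/
def ordE7 : List ℕ := [6, 0, 5, 4, 2, 1, 3]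

/-- The nodes: representatives of the sets of pairwise orthogonal roots. -/
def nodesE7 : List (List ℕ) := [
  [],
  [125],
  [92, 125],
  [87, 92, 125],
  [63, 92, 125],
  [78, 87, 92, 125],
  [73, 87, 92, 125],
  [66, 87, 92, 125],
  [63, 87, 92, 125],
  [73, 78, 87, 92, 125],
  [66, 78, 87, 92, 125],
  [63, 78, 87, 92, 125],
  [66, 73, 87, 92, 125],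
  [63, 73, 87, 92, 125],
  [63, 66, 87, 92, 125],
  [66, 73, 78, 87, 92, 125],
  [63, 73, 78, 87, 92, 125],
  [63, 66, 78, 87, 92, 125],
  [63, 66, 73, 87, 92, 125],
  [63, 66, 73, 78, 87, 92, 125]]

/-- Transitions out of node 0. -/
def transE7_0 : List (ℕ × List ℕ × ℕ) := [
  (125, [], 1),
  (124, [0], 1),
  (123, [0, 2, 0], 1),
  (122, [0, 2, 3, 2, 0], 1),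
  (121, [0, 2, 3, 4, 3, 2, 0], 1),
  (120, [0, 2, 3, 4, 5, 4, 3, 2, 0], 1),
  (119, [0, 2, 3, 4, 5, 6, 5, 4, 3, 2, 0], 1),
  (118, [0, 1, 2, 3, 1, 2, 0], 1),
  (117, [0, 1, 2, 3, 4, 3, 1, 2, 0], 1),
  (116, [0, 1, 2, 3, 4, 5, 4, 3, 1, 2, 0], 1),
  (115, [0, 1, 2, 3, 4, 5, 6, 5, 4, 3, 1, 2, 0], 1),
  (114, [0, 3, 1, 2, 3, 4, 3, 1, 2, 0, 3], 1),
  (113, [0, 3, 1, 2, 3, 4, 5, 4, 3, 1, 2, 0, 3], 1),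
  (112, [0, 3, 1, 2, 3, 4, 5, 6, 5, 4, 3, 1, 2, 0, 3], 1),
  (111, [0, 4, 3, 1, 2, 3, 4, 5, 4, 3, 1, 2, 0, 3, 4], 1),
  (110, [0, 4, 3, 1, 2, 3, 4, 5, 6, 5, 4, 3, 1, 2, 0, 3, 4], 1),
  (109, [0, 5, 4, 3, 1, 2, 3, 4, 5, 6, 5, 4, 3, 1, 2, 0, 3, 4, 5], 1),
  (108, [2, 0, 3, 1, 2, 3, 4, 3, 1, 2, 0, 3, 2], 1),
  (107, [2, 0, 3, 1, 2, 3, 4, 5, 4, 3, 1, 2, 0, 3, 2], 1),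
  (106, [2, 0, 3, 1, 2, 3, 4, 5, 6, 5, 4, 3, 1, 2, 0, 3, 2], 1),
  (105, [2, 0, 4, 3, 1, 2, 3, 4, 5, 4, 3, 1, 2, 0, 3, 2, 4], 1),
  (104, [2, 0, 4, 3, 1, 2, 3, 4, 5, 6, 5, 4, 3, 1, 2, 0, 3, 2, 4], 1),
  (103, [2, 0, 5, 4, 3, 1, 2, 3, 4, 5, 6, 5, 4, 3, 1, 2, 0, 3, 2, 4, 5], 1),
  (102, [3, 2, 0, 4, 3, 1, 2, 3, 4, 5, 4, 3, 1, 2, 0, 3, 2, 4, 3], 1),
  (101, [3, 2, 0, 4, 3, 1, 2, 3, 4, 5, 6, 5, 4, 3, 1, 2, 0, 3, 2, 4, 3], 1),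
  (100, [3, 2, 0, 5, 4, 3, 1, 2, 3, 4, 5, 6, 5, 4, 3, 1, 2, 0, 3, 2, 4, 3, 5], 1),
  (99, [4, 3, 2, 0, 5, 4, 3, 1, 2, 3, 4, 5, 6, 5, 4, 3, 1, 2, 0, 3, 2, 4, 3, 5, 4], 1),
  (98, [1, 3, 2, 0, 4, 3, 1, 2, 3, 4, 5, 4, 3, 1, 2, 0, 3, 2, 4, 3, 1], 1),
  (97, [1, 3, 2, 0, 4, 3, 1, 2, 3, 4, 5, 6, 5, 4, 3, 1, 2, 0, 3, 2, 4, 3, 1], 1),
  (96, [1, 3, 2, 0, 5, 4, 3, 1, 2, 3, 4, 5, 6, 5, 4, 3, 1, 2, 0, 3, 2, 4, 3, 1, 5], 1),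
  (95, [1, 4, 3, 2, 0, 5, 4, 3, 1, 2, 3, 4, 5, 6, 5, 4, 3, 1, 2, 0, 3, 2, 4, 3, 1, 5, 4], 1),
  (94, [3, 1, 4, 3, 2, 0, 5, 4, 3, 1, 2, 3, 4, 5, 6, 5, 4, 3, 1, 2, 0, 3, 2, 4, 3, 1, 5, 4, 3], 1),
  (93, [2, 3, 1, 4, 3, 2, 0, 5, 4, 3, 1, 2, 3, 4, 5, 6, 5, 4, 3, 1, 2, 0, 3, 2, 4, 3, 1, 5, 4, 3, 2], 1),
  (0, [0, 2, 3, 1, 4, 3, 2, 0, 5, 4, 3, 1, 2, 3, 4, 5, 6, 5, 4, 3, 1, 2, 0, 3, 2, 4, 3, 1, 5, 4, 3, 2, 0], 1),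
  (92, [0, 2, 0, 3, 1, 2, 3, 4, 3, 1, 2, 0, 3, 2], 1),
  (91, [0, 2, 0, 3, 1, 2, 3, 4, 5, 4, 3, 1, 2, 0, 3, 2], 1),
  (90, [0, 2, 0, 3, 1, 2, 3, 4, 5, 6, 5, 4, 3, 1, 2, 0, 3, 2], 1),
  (89, [0, 2, 0, 4, 3, 1, 2, 3, 4, 5, 4, 3, 1, 2, 0, 3, 2, 4], 1),
  (88, [0, 2, 0, 4, 3, 1, 2, 3, 4, 5, 6, 5, 4, 3, 1, 2, 0, 3, 2, 4], 1),
  (87, [0, 2, 0, 5, 4, 3, 1, 2, 3, 4, 5, 6, 5, 4, 3, 1, 2, 0, 3, 2, 4, 5], 1),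
  (86, [0, 3, 2, 0, 4, 3, 1, 2, 3, 4, 5, 4, 3, 1, 2, 0, 3, 2, 4, 3], 1),
  (85, [0, 3, 2, 0, 4, 3, 1, 2, 3, 4, 5, 6, 5, 4, 3, 1, 2, 0, 3, 2, 4, 3], 1),
  (84, [0, 3, 2, 0, 5, 4, 3, 1, 2, 3, 4, 5, 6, 5, 4, 3, 1, 2, 0, 3, 2, 4, 3, 5], 1),
  (83, [0, 4, 3, 2, 0, 5, 4, 3, 1, 2, 3, 4, 5, 6, 5, 4, 3, 1, 2, 0, 3, 2, 4, 3, 5, 4], 1),
  (77, [0, 1, 3, 2, 0, 4, 3, 1, 2, 3, 4, 5, 4, 3, 1, 2, 0, 3, 2, 4, 3, 1], 1),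
  (76, [0, 1, 3, 2, 0, 4, 3, 1, 2, 3, 4, 5, 6, 5, 4, 3, 1, 2, 0, 3, 2, 4, 3, 1], 1),
  (75, [0, 1, 3, 2, 0, 5, 4, 3, 1, 2, 3, 4, 5, 6, 5, 4, 3, 1, 2, 0, 3, 2, 4, 3, 1, 5], 1),
  (74, [0, 1, 4, 3, 2, 0, 5, 4, 3, 1, 2, 3, 4, 5, 6, 5, 4, 3, 1, 2, 0, 3, 2, 4, 3, 1, 5, 4], 1),
  (73, [0, 3, 1, 4, 3, 2, 0, 5, 4, 3, 1, 2, 3, 4, 5, 6, 5, 4, 3, 1, 2, 0, 3, 2, 4, 3, 1, 5, 4, 3], 1),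
  (1, [0, 2, 3, 1, 4, 3, 2, 0, 5, 4, 3, 1, 2, 3, 4, 5, 6, 5, 4, 3, 1, 2, 0, 3, 2, 4, 3, 1, 5, 4, 3, 2], 1),
  (32, [2, 3, 1, 4, 3, 2, 0, 5, 4, 3, 1, 2, 3, 4, 5, 6, 5, 4, 3, 1, 2, 0, 3, 2, 4, 3, 1, 5, 4, 3, 2, 0], 1),
  (82, [0, 2, 0, 3, 2, 0, 4, 3, 1, 2, 3, 4, 5, 4, 3, 1, 2, 0, 3, 2, 4, 3], 1),
  (81, [0, 2, 0, 3, 2, 0, 4, 3, 1, 2, 3, 4, 5, 6, 5, 4, 3, 1, 2, 0, 3, 2, 4, 3], 1),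
  (80, [0, 2, 0, 3, 2, 0, 5, 4, 3, 1, 2, 3, 4, 5, 6, 5, 4, 3, 1, 2, 0, 3, 2, 4, 3, 5], 1),
  (79, [0, 2, 0, 4, 3, 2, 0, 5, 4, 3, 1, 2, 3, 4, 5, 6, 5, 4, 3, 1, 2, 0, 3, 2, 4, 3, 5, 4], 1),
  (72, [0, 1, 2, 0, 3, 2, 0, 4, 3, 1, 2, 3, 4, 5, 4, 3, 1, 2, 0, 3, 2, 4, 3, 1], 1),
  (71, [0, 1, 2, 0, 3, 2, 0, 4, 3, 1, 2, 3, 4, 5, 6, 5, 4, 3, 1, 2, 0, 3, 2, 4, 3, 1], 1),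
  (70, [0, 1, 2, 0, 3, 2, 0, 5, 4, 3, 1, 2, 3, 4, 5, 6, 5, 4, 3, 1, 2, 0, 3, 2, 4, 3, 1, 5], 1),
  (69, [0, 1, 2, 0, 4, 3, 2, 0, 5, 4, 3, 1, 2, 3, 4, 5, 6, 5, 4, 3, 1, 2, 0, 3, 2, 4, 3, 1, 5, 4], 1),
  (2, [0, 2, 0, 3, 1, 4, 3, 2, 0, 5, 4, 3, 1, 2, 3, 4, 5, 6, 5, 4, 3, 1, 2, 0, 3, 2, 4, 3, 1, 5, 4, 3], 1),
  (52, [2, 0, 3, 1, 4, 3, 2, 0, 5, 4, 3, 1, 2, 3, 4, 5, 6, 5, 4, 3, 1, 2, 0, 3, 2, 4, 3, 1, 5, 4, 3, 2], 1),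
  (31, [0, 3, 1, 4, 3, 2, 0, 5, 4, 3, 1, 2, 3, 4, 5, 6, 5, 4, 3, 1, 2, 0, 3, 2, 4, 3, 1, 5, 4, 3, 2, 0], 1),
  (78, [0, 2, 3, 2, 0, 4, 3, 2, 0, 5, 4, 3, 1, 2, 3, 4, 5, 6, 5, 4, 3, 1, 2, 0, 3, 2, 4, 3, 5, 4], 1),
  (68, [0, 1, 2, 3, 1, 2, 0, 3, 2, 4, 3, 1, 2, 3, 4, 5, 4, 3, 1, 2, 0, 3, 2, 4, 3, 1], 1),
  (67, [0, 1, 2, 3, 1, 2, 0, 3, 2, 4, 3, 1, 2, 3, 4, 5, 6, 5, 4, 3, 1, 2, 0, 3, 2, 4, 3, 1], 1),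
  (66, [0, 1, 2, 3, 1, 2, 0, 3, 2, 5, 4, 3, 1, 2, 3, 4, 5, 6, 5, 4, 3, 1, 2, 0, 3, 2, 4, 3, 1, 5], 1),
  (3, [0, 2, 3, 1, 2, 0, 4, 3, 2, 0, 5, 4, 3, 1, 2, 3, 4, 5, 6, 5, 4, 3, 1, 2, 0, 3, 2, 4, 3, 1, 5, 4], 1),
  (56, [0, 3, 1, 2, 0, 4, 3, 2, 0, 5, 4, 3, 1, 2, 3, 4, 5, 6, 5, 4, 3, 1, 2, 0, 3, 2, 4, 3, 1, 5, 4, 3], 1),
  (51, [2, 0, 3, 1, 2, 0, 4, 3, 2, 0, 5, 4, 3, 1, 2, 3, 4, 5, 6, 5, 4, 3, 1, 2, 0, 3, 2, 4, 3, 1, 5, 4, 3, 2], 1),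
  (30, [0, 1, 2, 4, 3, 2, 0, 5, 4, 3, 1, 2, 3, 4, 5, 6, 5, 4, 3, 1, 2, 0, 3, 2, 4, 3, 1, 5, 4, 3, 2, 0], 1),
  (65, [0, 1, 2, 3, 1, 2, 0, 4, 3, 1, 2, 0, 3, 2, 4, 3, 1, 5, 4, 3, 1, 2, 0, 3, 2, 4, 3, 1], 1),
  (64, [0, 1, 2, 3, 1, 2, 0, 4, 3, 1, 2, 0, 3, 2, 4, 3, 1, 5, 6, 5, 4, 3, 1, 2, 0, 3, 2, 4, 3, 1], 1),
  (4, [0, 2, 3, 1, 4, 3, 1, 2, 0, 3, 2, 5, 4, 3, 1, 2, 3, 4, 5, 6, 5, 4, 3, 1, 2, 0, 3, 2, 4, 3, 1, 5], 1),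
  (59, [0, 1, 2, 4, 3, 1, 2, 0, 3, 2, 5, 4, 3, 1, 2, 3, 4, 5, 6, 5, 4, 3, 1, 2, 0, 3, 2, 4, 3, 1, 5, 4], 1),
  (55, [0, 3, 1, 2, 4, 3, 1, 2, 0, 3, 2, 5, 4, 3, 1, 2, 3, 4, 5, 6, 5, 4, 3, 1, 2, 0, 3, 2, 4, 3, 1, 5, 4, 3], 1),
  (50, [2, 0, 3, 1, 2, 4, 3, 1, 2, 0, 3, 2, 5, 4, 3, 1, 2, 3, 4, 5, 6, 5, 4, 3, 1, 2, 0, 3, 2, 4, 3, 1, 5, 4, 3, 2], 1),
  (29, [0, 1, 2, 3, 1, 2, 0, 5, 4, 3, 1, 2, 3, 4, 5, 6, 5, 4, 3, 1, 2, 0, 3, 2, 4, 3, 1, 5, 4, 3, 2, 0], 1),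
  (63, [0, 1, 2, 3, 1, 2, 0, 4, 3, 1, 2, 0, 3, 4, 5, 4, 3, 1, 2, 0, 3, 2, 4, 3, 1, 5, 4, 3, 2, 0], 1),
  (5, [0, 2, 3, 1, 4, 3, 2, 0, 5, 4, 3, 1, 2, 0, 3, 2, 4, 3, 1, 5, 6, 5, 4, 3, 1, 2, 0, 3, 2, 4, 3, 1], 1),
  (61, [0, 1, 2, 3, 1, 2, 0, 5, 4, 3, 1, 2, 0, 3, 2, 4, 3, 1, 5, 6, 5, 4, 3, 1, 2, 0, 3, 2, 4, 3, 1, 5], 1),
  (58, [0, 1, 2, 4, 3, 1, 2, 0, 5, 4, 3, 1, 2, 0, 3, 2, 4, 3, 1, 5, 6, 5, 4, 3, 1, 2, 0, 3, 2, 4, 3, 1, 5, 4], 1),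
  (54, [0, 3, 1, 2, 4, 3, 1, 2, 0, 5, 4, 3, 1, 2, 0, 3, 2, 4, 3, 1, 5, 6, 5, 4, 3, 1, 2, 0, 3, 2, 4, 3, 1, 5, 4, 3], 1),
  (49, [2, 0, 3, 1, 2, 4, 3, 1, 2, 0, 5, 4, 3, 1, 2, 0, 3, 2, 4, 3, 1, 5, 6, 5, 4, 3, 1, 2, 0, 3, 2, 4, 3, 1, 5, 4, 3, 2], 1),
  (28, [0, 1, 2, 3, 1, 2, 0, 4, 3, 1, 2, 0, 3, 4, 5, 6, 5, 4, 3, 1, 2, 0, 3, 2, 4, 3, 1, 5, 4, 3, 2, 0], 1),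
  (6, [0, 2, 3, 1, 4, 3, 2, 0, 5, 4, 3, 1, 2, 3, 4, 6, 5, 4, 3, 1, 2, 0, 3, 2, 4, 3, 1, 5, 4, 3, 2, 0], 1),
  (62, [0, 1, 2, 3, 1, 2, 0, 4, 3, 1, 2, 0, 3, 4, 6, 5, 4, 3, 1, 2, 0, 3, 2, 4, 3, 1, 5, 4, 3, 2, 0, 6], 1),
  (60, [0, 1, 2, 3, 1, 2, 0, 5, 4, 3, 1, 2, 0, 3, 4, 6, 5, 4, 3, 1, 2, 0, 3, 2, 4, 3, 1, 5, 4, 3, 2, 0, 6, 5], 1),
  (57, [0, 1, 2, 4, 3, 1, 2, 0, 5, 4, 3, 1, 2, 0, 3, 4, 6, 5, 4, 3, 1, 2, 0, 3, 2, 4, 3, 1, 5, 4, 3, 2, 0, 6, 5, 4], 1),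
  (53, [0, 3, 1, 2, 4, 3, 1, 2, 0, 5, 4, 3, 1, 2, 0, 3, 4, 6, 5, 4, 3, 1, 2, 0, 3, 2, 4, 3, 1, 5, 4, 3, 2, 0, 6, 5, 4, 3], 1),
  (48, [2, 0, 3, 1, 2, 4, 3, 1, 2, 0, 5, 4, 3, 1, 2, 0, 3, 4, 6, 5, 4, 3, 1, 2, 0, 3, 2, 4, 3, 1, 5, 4, 3, 2, 0, 6, 5, 4, 3, 2], 1),
  (27, [0, 1, 2, 3, 1, 2, 0, 4, 3, 1, 2, 0, 3, 4, 5, 4, 3, 1, 2, 0, 3, 2, 4, 3, 1, 5, 6, 5, 4, 3, 2, 0], 1),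
  (7, [0, 1, 2, 3, 1, 2, 0, 4, 3, 2, 0, 5, 4, 3, 1, 2, 3, 4, 5, 6, 5, 4, 3, 1, 2, 0, 3, 2, 4, 3, 5, 4], 1),
  (47, [0, 1, 2, 3, 2, 0, 4, 3, 2, 0, 5, 4, 3, 1, 2, 3, 4, 5, 6, 5, 4, 3, 1, 2, 0, 3, 2, 4, 3, 1, 5, 4], 1),
  (46, [0, 1, 3, 1, 2, 0, 3, 4, 3, 2, 0, 5, 4, 3, 1, 2, 3, 4, 5, 6, 5, 4, 3, 1, 2, 0, 3, 2, 4, 3, 1, 5, 4, 3], 1),
  (42, [1, 2, 0, 3, 1, 2, 0, 3, 4, 3, 2, 0, 5, 4, 3, 1, 2, 3, 4, 5, 6, 5, 4, 3, 1, 2, 0, 3, 2, 4, 3, 1, 5, 4, 3, 2], 1),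
  (26, [0, 2, 3, 4, 3, 2, 0, 5, 4, 3, 1, 2, 3, 4, 5, 6, 5, 4, 3, 1, 2, 0, 3, 2, 4, 3, 1, 5, 4, 3, 2, 0], 1),
  (8, [0, 1, 2, 3, 1, 4, 3, 1, 2, 0, 3, 2, 5, 4, 3, 1, 2, 3, 4, 5, 6, 5, 4, 3, 1, 2, 0, 3, 2, 4, 3, 5], 1),
  (45, [0, 1, 3, 1, 2, 4, 3, 1, 2, 0, 3, 2, 4, 5, 4, 3, 1, 2, 3, 4, 5, 6, 5, 4, 3, 1, 2, 0, 3, 2, 4, 3, 1, 5, 4, 3], 1),
  (41, [1, 2, 0, 3, 1, 2, 4, 3, 1, 2, 0, 3, 2, 4, 5, 4, 3, 1, 2, 3, 4, 5, 6, 5, 4, 3, 1, 2, 0, 3, 2, 4, 3, 1, 5, 4, 3, 2], 1),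
  (25, [0, 2, 3, 1, 2, 0, 4, 5, 4, 3, 1, 2, 3, 4, 5, 6, 5, 4, 3, 1, 2, 0, 3, 2, 4, 3, 1, 5, 4, 3, 2, 0], 1),
  (9, [0, 1, 2, 3, 1, 4, 3, 2, 0, 5, 4, 3, 1, 2, 0, 3, 2, 4, 3, 1, 5, 6, 5, 4, 3, 1, 2, 0, 3, 2, 4, 3], 1),
  (44, [0, 1, 3, 1, 2, 4, 3, 1, 2, 0, 5, 4, 3, 1, 2, 0, 3, 2, 4, 3, 1, 5, 4, 6, 5, 4, 3, 1, 2, 0, 3, 2, 4, 3, 1, 5, 4, 3], 1),
  (40, [1, 2, 0, 3, 1, 2, 4, 3, 1, 2, 0, 5, 4, 3, 1, 2, 0, 3, 2, 4, 3, 1, 5, 4, 6, 5, 4, 3, 1, 2, 0, 3, 2, 4, 3, 1, 5, 4, 3, 2], 1),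
  (24, [0, 2, 3, 1, 2, 0, 4, 3, 1, 2, 0, 3, 4, 5, 4, 6, 5, 4, 3, 1, 2, 0, 3, 2, 4, 3, 1, 5, 4, 3, 2, 0], 1),
  (10, [0, 1, 2, 3, 1, 4, 3, 2, 0, 5, 4, 3, 1, 2, 3, 6, 5, 4, 3, 1, 2, 0, 3, 2, 4, 3, 1, 5, 4, 3, 2, 0], 1),
  (43, [0, 1, 3, 1, 2, 4, 3, 1, 2, 0, 5, 4, 3, 1, 2, 0, 3, 4, 6, 5, 4, 3, 1, 2, 0, 3, 2, 4, 3, 1, 5, 4, 3, 2, 0, 6, 5, 4, 3, 1], 1),
  (39, [1, 2, 0, 3, 1, 2, 4, 3, 1, 2, 0, 5, 4, 3, 1, 2, 0, 3, 4, 6, 5, 4, 3, 1, 2, 0, 3, 2, 4, 3, 1, 5, 4, 3, 2, 0, 6, 5, 4, 3, 1, 2], 1),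
  (23, [0, 2, 3, 1, 2, 0, 4, 3, 1, 2, 0, 3, 4, 5, 4, 3, 1, 2, 0, 3, 2, 4, 3, 1, 5, 6, 5, 4, 3, 1, 2, 0], 1),
  (11, [0, 2, 3, 1, 2, 3, 4, 3, 1, 2, 0, 3, 2, 5, 4, 3, 1, 2, 3, 4, 5, 6, 5, 4, 3, 1, 2, 0, 3, 2, 4, 5], 1),
  (38, [2, 3, 1, 2, 0, 3, 2, 4, 3, 1, 2, 0, 3, 2, 4, 3, 5, 4, 3, 1, 2, 3, 4, 5, 6, 5, 4, 3, 1, 2, 0, 3, 2, 4, 3, 1, 5, 4, 3, 2], 1),
  (22, [0, 2, 0, 3, 1, 4, 3, 5, 4, 3, 1, 2, 3, 4, 5, 6, 5, 4, 3, 1, 2, 0, 3, 2, 4, 3, 1, 5, 4, 3, 2, 0], 1),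
  (12, [0, 2, 3, 1, 2, 3, 4, 3, 2, 0, 5, 4, 3, 1, 2, 0, 3, 2, 4, 3, 1, 5, 6, 5, 4, 3, 1, 2, 0, 3, 2, 4], 1),
  (37, [2, 3, 1, 2, 0, 3, 2, 4, 3, 1, 2, 0, 5, 4, 3, 1, 2, 0, 3, 2, 4, 3, 1, 5, 4, 3, 6, 5, 4, 3, 1, 2, 0, 3, 2, 4, 3, 1, 5, 4, 3, 2], 1),
  (21, [0, 2, 0, 3, 1, 4, 3, 1, 2, 0, 3, 4, 5, 4, 3, 6, 5, 4, 3, 1, 2, 0, 3, 2, 4, 3, 1, 5, 4, 3, 2, 0], 1),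
  (13, [0, 2, 3, 1, 2, 3, 4, 3, 2, 0, 5, 4, 3, 1, 2, 6, 5, 4, 3, 1, 2, 0, 3, 2, 4, 3, 1, 5, 4, 3, 2, 0], 1),
  (36, [2, 3, 1, 2, 0, 3, 2, 4, 3, 1, 2, 0, 5, 4, 3, 1, 2, 0, 3, 4, 6, 5, 4, 3, 1, 2, 0, 3, 2, 4, 3, 1, 5, 4, 3, 2, 0, 6, 5, 4, 3, 1, 2, 3], 1),
  (20, [0, 2, 0, 3, 1, 4, 3, 1, 2, 0, 3, 4, 5, 4, 3, 1, 2, 0, 3, 2, 4, 3, 1, 5, 6, 5, 4, 3, 1, 2, 0, 3], 1),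
  (14, [0, 2, 3, 1, 4, 3, 1, 2, 0, 3, 4, 5, 4, 3, 1, 2, 0, 3, 2, 4, 3, 1, 5, 6, 5, 4, 3, 1, 2, 0, 3, 2], 1),
  (35, [2, 3, 1, 4, 3, 1, 2, 0, 3, 2, 4, 3, 1, 5, 4, 3, 1, 2, 0, 3, 2, 4, 3, 1, 5, 4, 3, 2, 6, 5, 4, 3, 1, 2, 0, 3, 2, 4, 3, 1, 5, 4, 3, 2], 1),
  (19, [0, 2, 0, 3, 1, 2, 3, 4, 3, 2, 0, 5, 4, 3, 2, 6, 5, 4, 3, 1, 2, 0, 3, 2, 4, 3, 1, 5, 4, 3, 2, 0], 1),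
  (15, [0, 2, 3, 1, 4, 3, 1, 2, 0, 3, 4, 5, 4, 3, 1, 6, 5, 4, 3, 1, 2, 0, 3, 2, 4, 3, 1, 5, 4, 3, 2, 0], 1),
  (34, [2, 3, 1, 4, 3, 1, 2, 0, 3, 2, 4, 3, 1, 5, 4, 3, 1, 2, 0, 3, 4, 6, 5, 4, 3, 1, 2, 0, 3, 2, 4, 3, 1, 5, 4, 3, 2, 0, 6, 5, 4, 3, 1, 2, 3, 4], 1),
  (18, [0, 2, 0, 3, 1, 2, 3, 4, 3, 2, 0, 5, 4, 3, 1, 2, 0, 3, 2, 4, 3, 1, 5, 6, 5, 4, 3, 1, 2, 0, 3, 4], 1),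
  (16, [0, 2, 3, 1, 4, 3, 2, 5, 4, 3, 1, 2, 3, 4, 5, 6, 5, 4, 3, 1, 2, 0, 3, 2, 4, 3, 1, 5, 4, 3, 2, 0], 1),
  (33, [2, 3, 1, 4, 3, 2, 5, 4, 3, 1, 2, 0, 3, 2, 4, 3, 1, 5, 4, 3, 2, 0, 6, 5, 4, 3, 1, 2, 0, 3, 2, 4, 3, 1, 5, 4, 3, 2, 0, 6, 5, 4, 3, 1, 2, 3, 4, 5], 1),
  (17, [0, 2, 0, 3, 1, 2, 3, 4, 3, 1, 2, 0, 3, 2, 5, 4, 3, 1, 2, 3, 4, 5, 6, 5, 4, 3, 1, 2, 0, 3, 4, 5], 1)]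

/-- Transitions out of node 1. -/
def transE7_1 : List (ℕ × List ℕ × ℕ) := [
  (92, [], 2),
  (91, [5], 2),
  (90, [5, 6, 5], 2),
  (89, [4, 5, 4], 2),
  (88, [4, 5, 6, 5, 4], 2),
  (86, [3, 4, 5, 4, 3], 2),
  (85, [3, 4, 5, 6, 5, 4, 3], 2),
  (82, [2, 3, 4, 5, 4, 3, 2], 2),
  (81, [2, 3, 4, 5, 6, 5, 4, 3, 2], 2),
  (77, [1, 3, 4, 5, 4, 3, 1], 2),
  (76, [1, 3, 4, 5, 6, 5, 4, 3, 1], 2),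
  (72, [1, 2, 3, 4, 5, 4, 3, 1, 2], 2),
  (71, [1, 2, 3, 4, 5, 6, 5, 4, 3, 1, 2], 2),
  (68, [3, 1, 2, 3, 4, 5, 4, 3, 1, 2, 3], 2),
  (67, [3, 1, 2, 3, 4, 5, 6, 5, 4, 3, 1, 2, 3], 2),
  (65, [4, 3, 1, 2, 3, 4, 5, 4, 3, 1, 2, 3, 4], 2),
  (64, [4, 3, 1, 2, 3, 4, 5, 6, 5, 4, 3, 1, 2, 3, 4], 2),
  (33, [5, 4, 3, 1, 2, 3, 4, 5, 6, 5, 4, 3, 1, 2, 3, 4, 5], 2),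
  (87, [4, 5, 4, 6, 5, 4], 2),
  (84, [3, 4, 5, 4, 6, 5, 4, 3], 2),
  (80, [2, 3, 4, 5, 4, 6, 5, 4, 3, 2], 2),
  (75, [1, 3, 4, 5, 4, 6, 5, 4, 3, 1], 2),
  (70, [1, 2, 3, 4, 5, 4, 6, 5, 4, 3, 1, 2], 2),
  (66, [3, 1, 2, 3, 4, 5, 4, 6, 5, 4, 3, 1, 2, 3], 2),
  (63, [4, 3, 1, 2, 3, 4, 5, 4, 3, 1, 2, 3, 4, 5], 2),
  (34, [5, 4, 3, 1, 2, 3, 4, 5, 6, 5, 4, 3, 1, 2, 3, 4], 2),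
  (61, [4, 3, 1, 2, 3, 4, 5, 6, 5, 4, 3, 1, 2, 3, 4, 5], 2),
  (35, [5, 4, 3, 1, 2, 3, 4, 6, 5, 4, 3, 1, 2, 3, 4, 5], 2),
  (62, [4, 3, 1, 2, 3, 4, 6, 5, 4, 3, 1, 2, 3, 4, 5, 6], 2),
  (60, [4, 3, 1, 2, 3, 4, 5, 4, 3, 1, 2, 3, 4, 5, 6, 5], 2),
  (83, [3, 4, 3, 5, 4, 3, 6, 5, 4, 3], 2),
  (79, [2, 3, 4, 3, 5, 4, 3, 6, 5, 4, 3, 2], 2),
  (74, [1, 3, 4, 3, 5, 4, 3, 6, 5, 4, 3, 1], 2),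
  (69, [1, 2, 3, 4, 3, 5, 4, 3, 6, 5, 4, 3, 1, 2], 2),
  (36, [4, 5, 4, 3, 1, 2, 3, 4, 5, 6, 5, 4, 3, 1, 2, 3], 2),
  (59, [4, 3, 1, 2, 3, 4, 5, 4, 6, 5, 4, 3, 1, 2, 3, 4], 2),
  (58, [3, 1, 2, 3, 4, 5, 4, 6, 5, 4, 3, 1, 2, 3, 4, 5], 2),
  (37, [4, 5, 4, 3, 1, 2, 3, 6, 5, 4, 3, 1, 2, 3, 4, 5], 2),
  (57, [3, 1, 2, 3, 4, 5, 4, 3, 1, 2, 3, 4, 5, 6, 5, 4], 2),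
  (78, [2, 3, 2, 4, 3, 5, 4, 3, 2, 6, 5, 4, 3, 2], 2),
  (73, [1, 3, 1, 4, 3, 5, 4, 3, 1, 6, 5, 4, 3, 1], 2),
  (39, [3, 4, 5, 4, 3, 1, 2, 3, 4, 5, 6, 5, 4, 3, 1, 2], 2),
  (56, [3, 1, 2, 3, 4, 3, 5, 4, 3, 6, 5, 4, 3, 1, 2, 3], 2),
  (55, [3, 4, 3, 1, 2, 3, 4, 5, 4, 3, 6, 5, 4, 3, 1, 2, 3, 4], 2),
  (54, [1, 2, 3, 4, 5, 4, 3, 6, 5, 4, 3, 1, 2, 3, 4, 5], 2),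
  (40, [3, 4, 5, 4, 3, 1, 2, 6, 5, 4, 3, 1, 2, 3, 4, 5], 2),
  (53, [1, 2, 3, 4, 5, 4, 3, 1, 2, 3, 4, 5, 6, 5, 4, 3], 2),
  (43, [2, 3, 4, 5, 4, 3, 1, 2, 3, 4, 5, 6, 5, 4, 3, 1], 2),
  (52, [1, 2, 3, 1, 4, 3, 5, 4, 3, 1, 6, 5, 4, 3, 1, 2], 2),
  (51, [2, 3, 1, 2, 3, 4, 3, 5, 4, 3, 1, 6, 5, 4, 3, 1, 2, 3], 2),
  (50, [2, 3, 4, 3, 1, 2, 3, 4, 5, 4, 3, 1, 6, 5, 4, 3, 1, 2, 3, 4], 2),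
  (49, [1, 3, 4, 5, 4, 3, 1, 6, 5, 4, 3, 1, 2, 3, 4, 5], 2),
  (44, [2, 3, 4, 5, 4, 3, 2, 6, 5, 4, 3, 1, 2, 3, 4, 5], 2),
  (48, [1, 3, 4, 5, 4, 3, 1, 2, 3, 4, 5, 6, 5, 4, 3, 2], 2),
  (47, [1, 2, 3, 2, 4, 3, 5, 4, 3, 2, 6, 5, 4, 3, 1, 2], 2),
  (46, [1, 3, 1, 2, 3, 4, 3, 5, 4, 3, 2, 6, 5, 4, 3, 1, 2, 3], 2),
  (45, [1, 3, 4, 3, 1, 2, 3, 4, 5, 4, 3, 2, 6, 5, 4, 3, 1, 2, 3, 4], 2),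
  (42, [1, 2, 3, 1, 2, 3, 4, 3, 5, 4, 3, 1, 2, 6, 5, 4, 3, 1, 2, 3], 2),
  (41, [1, 2, 3, 4, 3, 1, 2, 3, 4, 5, 4, 3, 1, 2, 6, 5, 4, 3, 1, 2, 3, 4], 2),
  (38, [3, 1, 2, 3, 4, 3, 1, 2, 3, 4, 5, 4, 3, 1, 2, 3, 6, 5, 4, 3, 1, 2, 3, 4], 2)]

/-- Transitions out of node 2. -/
def transE7_2 : List (ℕ × List ℕ × ℕ) := [
  (87, [], 3),
  (84, [3], 3),
  (83, [3, 4, 3], 3),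
  (80, [2, 3, 2], 3),
  (79, [2, 3, 4, 3, 2], 3),
  (75, [1, 3, 1], 3),
  (74, [1, 3, 4, 3, 1], 3),
  (70, [1, 2, 3, 1, 2], 3),
  (69, [1, 2, 3, 4, 3, 1, 2], 3),
  (38, [3, 1, 2, 3, 4, 3, 1, 2, 3], 3),
  (78, [2, 3, 2, 4, 3, 2], 3),
  (73, [1, 3, 1, 4, 3, 1], 3),
  (66, [1, 2, 3, 1, 2, 3], 3),
  (41, [3, 1, 2, 3, 4, 3, 1, 2], 3),
  (56, [1, 2, 3, 4, 3, 1, 2, 3], 3),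
  (42, [3, 1, 2, 4, 3, 1, 2, 3], 3),
  (59, [1, 2, 4, 3, 1, 2, 3, 4], 3),
  (55, [1, 2, 3, 1, 2, 3, 4, 3], 3),
  (45, [2, 3, 1, 2, 3, 4, 3, 1], 3),
  (52, [1, 2, 3, 1, 4, 3, 1, 2], 3),
  (51, [1, 3, 1, 4, 3, 1, 2, 3], 3),
  (46, [2, 3, 2, 4, 3, 1, 2, 3], 3),
  (50, [1, 3, 1, 2, 3, 4, 3, 2], 3),
  (47, [1, 2, 3, 2, 4, 3, 1, 2], 3),
  (63, [], 4),
  (62, [6], 4)]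

/-- Transitions out of node 3. -/
def transE7_3 : List (ℕ × List ℕ × ℕ) := [
  (78, [], 5),
  (47, [1], 5),
  (73, [], 6),
  (52, [2], 6),
  (66, [], 7),
  (59, [4], 7),
  (63, [], 8),
  (62, [6], 8)]

/-- Transitions out of node 4. -/
def transE7_4 : List (ℕ × List ℕ × ℕ) := [
  (87, [], 8),
  (84, [3], 8),
  (83, [3, 4, 3], 8),
  (80, [2, 3, 2], 8),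
  (79, [2, 3, 4, 3, 2], 8),
  (75, [1, 3, 1], 8),
  (74, [1, 3, 4, 3, 1], 8),
  (70, [1, 2, 3, 1, 2], 8),
  (69, [1, 2, 3, 4, 3, 1, 2], 8),
  (38, [3, 1, 2, 3, 4, 3, 1, 2, 3], 8),
  (78, [2, 3, 2, 4, 3, 2], 8),
  (73, [1, 3, 1, 4, 3, 1], 8),
  (66, [1, 2, 3, 1, 2, 3], 8),
  (41, [3, 1, 2, 3, 4, 3, 1, 2], 8),
  (56, [1, 2, 3, 4, 3, 1, 2, 3], 8),
  (42, [3, 1, 2, 4, 3, 1, 2, 3], 8),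
  (59, [1, 2, 4, 3, 1, 2, 3, 4], 8),
  (55, [1, 2, 3, 1, 2, 3, 4, 3], 8),
  (45, [2, 3, 1, 2, 3, 4, 3, 1], 8),
  (52, [1, 2, 3, 1, 4, 3, 1, 2], 8),
  (51, [1, 3, 1, 4, 3, 1, 2, 3], 8),
  (46, [2, 3, 2, 4, 3, 1, 2, 3], 8),
  (50, [1, 3, 1, 2, 3, 4, 3, 2], 8),
  (47, [1, 2, 3, 2, 4, 3, 1, 2], 8)]

/-- Transitions out of node 5. -/
def transE7_5 : List (ℕ × List ℕ × ℕ) := [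
  (73, [], 9),
  (52, [2], 9),
  (66, [], 10),
  (59, [4], 10),
  (63, [], 11),
  (62, [6], 11)]

/-- Transitions out of node 6. -/
def transE7_6 : List (ℕ × List ℕ × ℕ) := [
  (78, [], 9),
  (47, [1], 9),
  (66, [], 12),
  (59, [4], 12),
  (63, [], 13),
  (62, [6], 13)]

/-- Transitions out of node 7. -/
def transE7_7 : List (ℕ × List ℕ × ℕ) := [
  (78, [], 10),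
  (47, [1], 10),
  (73, [], 12),
  (52, [2], 12),
  (63, [], 14),
  (62, [6], 14)]

/-- Transitions out of node 8. -/
def transE7_8 : List (ℕ × List ℕ × ℕ) := [
  (78, [], 11),
  (47, [1], 11),
  (73, [], 13),
  (52, [2], 13),
  (66, [], 14),
  (59, [4], 14)]

/-- Transitions out of node 9. -/
def transE7_9 : List (ℕ × List ℕ × ℕ) := [
  (66, [], 15),
  (59, [4], 15),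
  (63, [], 16),
  (62, [6], 16)]

/-- Transitions out of node 10. -/
def transE7_10 : List (ℕ × List ℕ × ℕ) := [
  (73, [], 15),
  (52, [2], 15),
  (63, [], 17),
  (62, [6], 17)]

/-- Transitions out of node 11. -/
def transE7_11 : List (ℕ × List ℕ × ℕ) := [
  (73, [], 16),
  (52, [2], 16),
  (66, [], 17),
  (59, [4], 17)]

/-- Transitions out of node 12. -/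
def transE7_12 : List (ℕ × List ℕ × ℕ) := [
  (78, [], 15),
  (47, [1], 15),
  (63, [], 18),
  (62, [6], 18)]

/-- Transitions out of node 13. -/
def transE7_13 : List (ℕ × List ℕ × ℕ) := [
  (78, [], 16),
  (47, [1], 16),
  (66, [], 18),
  (59, [4], 18)]

/-- Transitions out of node 14. -/
def transE7_14 : List (ℕ × List ℕ × ℕ) := [
  (78, [], 17),
  (47, [1], 17),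
  (73, [], 18),
  (52, [2], 18)]

/-- Transitions out of node 15. -/
def transE7_15 : List (ℕ × List ℕ × ℕ) := [
  (63, [], 19),
  (62, [6], 19)]

/-- Transitions out of node 16. -/
def transE7_16 : List (ℕ × List ℕ × ℕ) := [
  (66, [], 19),
  (59, [4], 19)]

/-- Transitions out of node 17. -/
def transE7_17 : List (ℕ × List ℕ × ℕ) := [
  (73, [], 19),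
  (52, [2], 19)]

/-- Transitions out of node 18. -/
def transE7_18 : List (ℕ × List ℕ × ℕ) := [
  (78, [], 19),
  (47, [1], 19)]

/-- Transitions out of node 19. -/
def transE7_19 : List (ℕ × List ℕ × ℕ) := []

/-- The transitions. -/
def transE7 : List (List (ℕ × List ℕ × ℕ)) := [
  transE7_0,
  transE7_1,
  transE7_2,
  transE7_3,
  transE7_4,
  transE7_5,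
  transE7_6,
  transE7_7,
  transE7_8,
  transE7_9,
  transE7_10,
  transE7_11,
  transE7_12,
  transE7_13,
  transE7_14,
  transE7_15,
  transE7_16,
  transE7_17,
  transE7_18,
  transE7_19]

/-- The representatives. -/
def repsE7 : List (List ℕ) := [[125], [92, 125], [87, 92, 125], [63, 92, 125], [78, 87, 92, 125]]

/-- The moves of the nodes onto the representatives. -/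
def movesE7 : List (List (List ℕ × List ℕ) × ℕ) := [
  ([], 5),
  ([([], [])], 0),
  ([([], [2, 3, 0, 2, 1, 3, 4, 3, 2, 1, 3, 0, 2, 0])], 1),
  ([([], [0, 2, 1, 3, 4, 5, 6, 1, 3, 4, 5, 3, 4, 1, 3, 2, 1, 0])], 2),
  ([([], [0, 2, 3, 4, 5, 1, 3, 4, 2, 3, 0, 2, 1, 3, 4, 5, 4, 3, 0, 2, 1, 3, 4, 0, 2, 1, 3, 2, 1, 0])], 3),
  ([([], [2, 3, 4, 5, 6, 2, 3, 4, 5, 3, 4, 2, 3, 2])], 4),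
  ([([], [0, 2, 1, 3, 4, 5, 6, 1, 3, 4, 5, 3, 4, 1, 3, 2, 1, 0]), ([108, 103, 94, 32], [0, 3, 1, 2, 3, 4, 3, 1, 2, 3, 5, 4, 3, 1, 2, 3, 4, 5, 6, 5, 4, 3, 1, 2, 0, 3, 4, 5])], 2),
  ([([], [2, 3, 4, 5, 6, 2, 3, 4, 5, 0, 2, 3, 4, 2, 3, 0, 2, 1, 3, 0, 2, 1, 0])], 4),
  ([([], [0, 2, 3, 4, 5, 6, 4, 5, 3, 4, 2, 3, 0, 2, 1, 3, 4, 5, 1, 3, 4, 1, 3, 2, 1, 0])], 4),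
  ([([], [2, 3, 4, 5, 6, 2, 3, 4, 5, 3, 4, 2, 3, 2]), ([108, 103, 94, 32], [0, 2, 0, 3, 2, 0, 4, 3, 2, 6, 5, 4, 3, 1, 2, 0, 3, 2, 4, 3, 1, 5, 4, 3, 2, 0, 6, 5, 4, 3])], 4),
  ([([], [2, 3, 4, 5, 6, 2, 3, 4, 5, 3, 4, 2, 3, 2]), ([117, 99, 96, 30], [0, 2, 3, 1, 2, 0, 3, 2, 5, 4, 3, 1, 2, 3, 4, 5, 6, 5, 4, 3, 1, 2, 0, 3, 2, 4, 3, 5])], 4),
  ([([], [2, 3, 4, 5, 6, 2, 3, 4, 5, 3, 4, 2, 3, 2]), ([115, 101, 98, 28], [0, 3, 1, 2, 4, 3, 1, 2, 3, 5, 4, 3, 1, 2, 0, 3, 4, 6, 5, 4, 3, 1, 2, 0, 3, 2, 4, 3, 5, 4])], 4),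
  ([([], [0, 2, 3, 4, 5, 6, 4, 5, 3, 4, 2, 3, 0, 2, 1, 3, 4, 5, 1, 3, 4, 1, 3, 2, 1, 0]), ([108, 103, 94, 32], [0, 1, 2, 0, 3, 1, 2, 0, 3, 2, 5, 4, 3, 1, 2, 0, 3, 2, 4, 3, 5, 4, 6, 5, 4, 3, 1, 2, 0, 3])], 4),
  ([([], [0, 2, 3, 4, 5, 6, 4, 5, 3, 4, 2, 3, 0, 2, 1, 3, 4, 5, 1, 3, 4, 1, 3, 2, 1, 0]), ([108, 103, 94, 32], [0, 1, 2, 0, 3, 1, 2, 0, 3, 2, 5, 4, 3, 1, 2, 0, 3, 2, 4, 3, 6, 5, 4, 3, 1, 2, 0, 3, 4, 5])], 4),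
  ([([], [2, 3, 4, 5, 6, 2, 3, 4, 5, 3, 4, 2, 3, 2]), ([88, 67, 65, 61], [2, 0, 3, 2, 0, 4, 3, 1, 2, 0, 5, 4, 3, 1, 2, 0, 3, 2, 6, 5, 4, 3, 1, 2, 0, 3, 2, 4, 3, 5])], 4),
  ([([], [2, 3, 4, 5, 6, 2, 3, 4, 5, 3, 4, 2, 3, 2]), ([115, 101, 98, 28], [0, 3, 1, 2, 4, 3, 1, 2, 3, 5, 4, 3, 1, 2, 0, 3, 4, 6, 5, 4, 3, 1, 2, 0, 3, 2, 4, 3, 5, 4]), ([79, 74, 70, 56], [2, 0, 3, 2, 0, 4, 3, 1, 2, 5, 4, 3, 1, 2, 0, 3, 2, 4, 3, 5, 4, 6, 5, 4, 3, 1, 2, 0, 3])], 4),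
  ([([], [2, 3, 4, 5, 6, 2, 3, 4, 5, 3, 4, 2, 3, 2]), ([115, 101, 98, 28], [0, 3, 1, 2, 4, 3, 1, 2, 3, 5, 4, 3, 1, 2, 0, 3, 4, 6, 5, 4, 3, 1, 2, 0, 3, 2, 4, 3, 5, 4]), ([81, 76, 72, 54], [0, 3, 2, 0, 4, 3, 1, 2, 5, 4, 3, 1, 2, 0, 3, 2, 4, 3, 6, 5, 4, 3, 1, 2, 0, 3, 4, 5])], 4),
  ([([], [2, 3, 4, 5, 6, 2, 3, 4, 5, 3, 4, 2, 3, 2]), ([115, 101, 98, 28], [0, 3, 1, 2, 4, 3, 1, 2, 3, 5, 4, 3, 1, 2, 0, 3, 4, 6, 5, 4, 3, 1, 2, 0, 3, 2, 4, 3, 5, 4]), ([88, 67, 65, 61], [2, 0, 3, 2, 0, 4, 3, 1, 2, 0, 5, 4, 3, 1, 2, 0, 3, 2, 6, 5, 4, 3, 1, 2, 0, 3, 2, 4, 3, 5])], 4),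
  ([([], [2, 3, 4, 5, 6, 2, 3, 4, 5, 3, 4, 2, 3, 2]), ([117, 99, 96, 30], [0, 2, 3, 1, 2, 0, 3, 2, 5, 4, 3, 1, 2, 3, 4, 5, 6, 5, 4, 3, 1, 2, 0, 3, 2, 4, 3, 5]), ([110, 106, 105, 21], [2, 0, 3, 1, 2, 4, 3, 1, 2, 5, 4, 3, 1, 2, 0, 3, 2, 6, 5, 4, 3, 1, 2, 0, 3, 2, 4, 3, 5])], 4),
  ([([], [2, 3, 4, 5, 6, 2, 3, 4, 5, 3, 4, 2, 3, 2]), ([115, 101, 98, 28], [0, 3, 1, 2, 4, 3, 1, 2, 3, 5, 4, 3, 1, 2, 0, 3, 4, 6, 5, 4, 3, 1, 2, 0, 3, 2, 4, 3, 5, 4]), ([88, 67, 65, 61], [2, 0, 3, 2, 0, 4, 3, 1, 2, 0, 5, 4, 3, 1, 2, 0, 3, 2, 6, 5, 4, 3, 1, 2, 0, 3, 2, 4, 3, 5]), ([110, 106, 105, 21], [2, 0, 3, 1, 2, 4, 3, 1, 2, 5, 4, 3, 1, 2, 0, 3, 2, 6, 5, 4, 3, 1, 2, 0, 3, 2, 4, 3, 5])], 4)]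

theorem slE7_block0 : slBlock chevE7 dataE7 21 0 = true := by decide +kernel

theorem slE7_block1 : slBlock chevE7 dataE7 21 1 = true := by decide +kernel

theorem slE7_block2 : slBlock chevE7 dataE7 21 2 = true := by decide +kernel

theorem slE7_block3 : slBlock chevE7 dataE7 21 3 = true := by decide +kernel

theorem slE7_block4 : slBlock chevE7 dataE7 21 4 = true := by decide +kernel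

theorem slE7_block5 : slBlock chevE7 dataE7 21 5 = true := by decide +kernel

theorem slE7 : SLFacts chevE7 dataE7 sdataE7 where
  good := goodE7
  comm := hasComm_of_mem (by simp)
  lie := checksE7
  struc := structChecksE7
  ord := by decide +kernel
  sl := by
    refine slOK_intro _ _ (m := 21) (k := 6) (by decide +kernel) (by norm_num) fun c hc => ?_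
    interval_cases c
    · exact slE7_block0
    · exact slE7_block1
    · exact slE7_block2
    · exact slE7_block3
    · exact slE7_block4
    · exact slE7_block5

theorem levelsE7 : ordLevels chevE7 dataE7 ordE7 0 = true := by decide +kernel

theorem transE7_ok : ∀ i < nodesE7.length, transOK chevE7 sdataE7 nodesE7 transE7 i = true := by
  decide +kernel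

theorem movesE7_ok : ∀ i < nodesE7.length, termOK chevE7 sdataE7 nodesE7 repsE7 movesE7 i = true := by
  decide +kernel

/-- Every involution is conjugate to a representative. -/
theorem classesE7 {F : Type*} [Field F] [CharP F 2] [Fintype F] {x : GL chevE7.Idx F}
    (hx : x ∈ chevE7.group F) (ho : orderOf x = 2) :
    ∃ R ∈ repsE7, InvolMono.GConj x (prodOne slE7.good F R) :=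
  slE7.classes (fun u hu hu2 => slE7.hU_abelian levelsE7 u hu hu2) (N := nodesE7) (T := transE7) (M := movesE7) rfl (by decide)
    transE7_ok movesE7_ok hx ho

end CfsgLib.Chev.SLInvol
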