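import Cfsg.Agent.Lib.Chev.E7SLData

/-!
Ranks of the representatives of type E7.
-/

set_option autoImplicit false
set_option maxRecDepth 100000

namespace CfsgLib.Chev.SLInvol

open Cfsg.Lie

/-- Certificate. -/
def rkE7_0U : List (List ℕ) := [[101], [100], [0, 33, 103, 105], [102], [103], [104], [105], [106], [107], [108], [109], [110], [111], [112], [113], [114], [115], [116], [117], [118], [119], [120], [121], [122], [123], [124], [125], [126], [127], [128], [129], [130], [131], [132], [34], [35], [36], [37], [38], [39], [40], [41], [42], [43], [44], [45], [46], [47], [48], [49], [50], [51], [52], [53], [54], [55], [56], [57], [58], [59], [60], [61], [62], [63], [64], [65], [66], [67], [68], [69], [70], [71], [72], [73], [74], [75], [76], [77], [78], [79], [80], [81], [82], [83], [84], [85], [86], [87], [88], [89], [90], [91], [92], [93], [94], [95], [96], [97], [98], [99], [1], [2], [3], [4], [5], [6], [7], [8], [9], [10], [11], [12], [13], [14], [15], [16], [17], [18], [19], [20], [21], [22], [23], [24], [25], [26], [27], [28], [29], [30], [31], [32], [33]]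

/-- Certificate. -/
def rkE7_0W : List (List ℕ) := [[7], [8], [9], [10], [11], [12], [13], [14], [15], [16], [17], [18], [19], [20], [21], [22], [23], [24], [25], [26], [27], [28], [29], [30], [31], [32], [33], [34], [35], [36], [37], [38], [39], [0], [6], [5], [1], [2], [3], [4], [40], [41], [42], [43], [44], [45], [46], [47], [48], [49], [50], [51], [52], [53], [54], [55], [56], [57], [58], [59], [60], [61], [62], [63], [64], [65], [66], [67], [68], [69], [70], [71], [72], [73], [74], [75], [76], [77], [78], [79], [80], [81], [82], [83], [84], [85], [86], [87], [88], [89], [90], [91], [92], [93], [94], [95], [96], [97], [98], [99], [100], [101], [102], [103], [104], [105], [106], [107], [108], [109], [110], [111], [112], [113], [114], [115], [116], [117], [118], [119], [120], [121], [122], [123], [124], [125], [126], [127], [128], [129], [130], [131], [132]]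

/-- Certificate. -/
def rkE7_0B : List (List ℕ) := [[2, 4, 6, 132], [100], [101], [102], [103], [104], [105], [106], [107], [108], [109], [110], [111], [112], [113], [114], [115], [116], [117], [118], [119], [120], [121], [122], [123], [124], [125], [126], [127], [128], [129], [130], [131], [132], [34], [35], [36], [37], [38], [39], [40], [41], [42], [43], [44], [45], [46], [47], [48], [49], [50], [51], [52], [53], [54], [55], [56], [57], [58], [59], [60], [61], [62], [63], [64], [65], [66], [67], [68], [69], [70], [71], [72], [73], [74], [75], [76], [77], [78], [79], [80], [81], [82], [83], [84], [85], [86], [87], [88], [89], [90], [91], [92], [93], [94], [95], [96], [97], [98], [99], [1], [0], [3], [4], [5], [6], [7], [8], [9], [10], [11], [12], [13], [14], [15], [16], [17], [18], [19], [20], [21], [22], [23], [24], [25], [26], [27], [28], [29], [30], [31], [32], [33]]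

/-- Certificate. -/
def rkE7_0C : List (List ℕ) := [[33], [36], [37], [38], [39], [35], [34], [0], [1], [2], [3], [4], [5], [6], [7], [8], [9], [10], [11], [12], [13], [14], [15], [16], [17], [18], [19], [20], [21], [22], [23], [24], [25], [26], [27], [28], [29], [30], [31], [32], [40], [41], [42], [43], [44], [45], [46], [47], [48], [49], [50], [51], [52], [53], [54], [55], [56], [57], [58], [59], [60], [61], [62], [63], [64], [65], [66], [67], [68], [69], [70], [71], [72], [73], [74], [75], [76], [77], [78], [79], [80], [81], [82], [83], [84], [85], [86], [87], [88], [89], [90], [91], [92], [93], [94], [95], [96], [97], [98], [99], [100], [101], [102], [103], [104], [105], [106], [107], [108], [109], [110], [111], [112], [113], [114], [115], [116], [117], [118], [119], [120], [121], [122], [123], [124], [125], [126], [127], [128], [129], [130], [131], [132]]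

theorem rankE7_0 : rankOK chevE7 [125] 34 rkE7_0U rkE7_0W rkE7_0B rkE7_0C = true := by
  decide +kernel

/-- Certificate. -/
def rkE7_1U : List (List ℕ) := [[96], [0, 1, 42, 113], [1, 42, 43, 113, 119], [109], [113], [114], [119], [120], [122], [123], [71], [72], [74], [75], [78], [79], [83], [84], [88], [89], [92], [93], [95], [2, 44, 100], [97], [98], [104], [105], [108], [3, 45, 101], [111], [112], [4, 46, 102], [5, 47, 103], [117], [118], [6, 48, 106], [7, 49, 107], [8, 50, 110], [9, 51, 116], [126], [127], [132], [99], [115], [121], [124], [125], [128], [129], [130], [131], [52], [53], [54], [55], [56], [57], [58], [59], [60], [61], [62], [63], [64], [65], [66], [67], [68], [69], [70], [10], [11], [73], [12], [13], [76], [77], [14], [15], [80], [81], [82], [16], [17], [85], [86], [87], [18], [19], [90], [91], [20], [21], [94], [22], [23], [24], [25], [43], [100], [101], [102], [103], [26], [27], [106], [107], [28], [29], [110], [30], [31], [32], [33], [44], [116], [34], [35], [36], [37], [45], [38], [39], [46], [47], [40], [41], [48], [49], [50], [51], [42, 43]]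

/-- Certificate. -/
def rkE7_1W : List (List ℕ) := [[40], [7], [8], [9], [10], [11], [14], [15], [18], [24], [41], [42], [43], [44], [46], [47], [50], [51], [55], [56], [60], [61], [64], [65], [67], [68], [12], [13], [16], [17], [19], [20], [21], [22], [25], [26], [27], [28], [30], [31], [34], [35], [0], [5], [23], [29], [32], [33], [36], [37], [38], [39], [52], [53], [54], [2], [49], [57], [58], [59], [45], [6], [62], [63], [1], [48], [66], [3], [4], [69], [70], [71], [72], [73], [74], [75], [76], [77], [78], [79], [80], [81], [82], [83], [84], [85], [86], [87], [88], [89], [90], [91], [92], [93], [94], [95], [96], [97], [98], [99], [23, 100], [29, 101], [32, 102], [33, 103], [104], [105], [36, 106], [37, 107], [108], [109], [38, 110], [111], [112], [113], [114], [115], [39, 116], [117], [118], [119], [120], [121], [122], [123], [124], [125], [126], [127], [128], [129], [130], [131], [132]]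

/-- Certificate. -/
def rkE7_1B : List (List ℕ) := [[1, 2, 6, 99], [2, 4, 6, 132], [23, 100, 115], [29, 101, 121], [32, 102, 124], [33, 103, 125], [36, 106, 128], [37, 107, 129], [38, 110, 130], [39, 116, 131], [71], [72], [74], [75], [78], [79], [83], [84], [88], [89], [92], [93], [95], [96], [97], [98], [104], [105], [108], [109], [111], [112], [113], [114], [117], [118], [119], [120], [122], [123], [126], [127], [99, 132], [99], [115], [121], [124], [125], [128], [129], [130], [131], [52], [53], [54], [55], [56], [57], [58], [59], [60], [61], [62], [63], [64], [65], [66], [67], [68], [69], [70], [10], [11], [73], [12], [13], [76], [77], [14], [15], [80], [81], [82], [16], [17], [85], [86], [87], [18], [19], [90], [91], [20], [21], [94], [22], [0], [24], [25], [43], [100], [101], [102], [103], [26], [27], [106], [107], [28], [3], [110], [30], [31], [4], [5], [44], [116], [34], [35], [6], [7], [45], [8], [9], [46], [47], [40], [41], [48], [49], [50], [51], [42]]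

/-- Certificate. -/
def rkE7_1C : List (List ℕ) := [[42], [64], [55], [67], [68], [43], [61], [1], [2], [3], [4], [5], [26], [27], [6], [7], [28], [29], [8], [30], [31], [32], [33], [44], [9], [34], [35], [36], [37], [45], [38], [39], [46], [47], [40], [41], [48], [49], [50], [51], [0], [10], [11], [12], [13], [60], [14], [15], [65], [56], [16], [17], [52], [53], [54], [18], [19], [57], [58], [59], [20], [21], [62], [63], [22], [23], [66], [24], [25], [69], [70], [71], [72], [73], [74], [75], [76], [77], [78], [79], [80], [81], [82], [83], [84], [85], [86], [87], [88], [89], [90], [91], [92], [93], [94], [95], [96], [97], [98], [99], [44, 100], [45, 101], [46, 102], [47, 103], [104], [105], [48, 106], [49, 107], [108], [109], [50, 110], [111], [112], [113], [114], [115], [51, 116], [117], [118], [119], [120], [121], [122], [123], [124], [125], [126], [127], [128], [129], [130], [131], [132]]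

theorem rankE7_1 : rankOK chevE7 [92, 125] 52 rkE7_1U rkE7_1W rkE7_1B rkE7_1C = true := by
  decide +kernel

/-- Certificate. -/
def rkE7_2U : List (List ℕ) := [[81], [40, 41, 42, 43, 44, 45, 117], [41, 42, 43], [112], [42, 44, 117], [114], [117], [118], [119], [120], [64], [65], [67], [68], [76], [77], [78], [79], [0, 38, 87, 100, 115], [82], [83], [84], [86], [87], [1, 39, 93, 101, 121], [89], [90], [91], [92], [93], [2, 52, 104], [3, 53, 105], [4, 54, 102], [5, 55, 103], [6, 56, 108], [7, 57, 109], [8, 58, 106], [9, 59, 107], [38, 50, 60, 115], [39, 51, 61, 121], [88], [111], [113], [132], [99], [94], [95], [96], [97], [98], [110], [116], [122], [123], [124], [125], [126], [127], [128], [129], [130], [131], [62], [63], [10, 46, 71], [11, 47, 72], [66], [12, 48, 74], [13, 49, 75], [69], [70], [71], [72], [73], [74], [75], [14], [15], [16], [17], [80], [18], [19], [20], [21], [85], [22], [23], [24], [25], [26], [27], [28], [29], [45], [46], [47], [48], [49], [44, 45], [100], [101], [102], [103], [104], [105], [106], [107], [108], [109], [50, 115], [30], [31], [32], [33], [115], [51, 121], [34], [35], [36], [37], [121], [52],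 [53], [54], [55], [56], [57], [58], [59], [60], [61], [43, 44]]

/-- Certificate. -/
def rkE7_2W : List (List ℕ) := [[8], [9], [12], [13], [10], [11], [16], [17], [14], [15], [41], [42], [43], [44], [48], [49], [46], [47], [52], [53], [50], [51], [57], [58], [55], [56], [62], [63], [60], [61], [19], [20], [21], [22], [25], [26], [27], [28], [18], [24], [40], [7], [40, 45], [0], [5], [3], [64], [65], [67], [68], [18, 23], [24, 29], [30], [31], [32], [33], [34], [35], [36], [37], [38], [39], [54], [59], [6], [4], [66], [2], [1], [69], [70], [64, 71], [65, 72], [73], [67, 74], [68, 75], [76], [77], [78], [79], [80], [81], [82], [83], [84], [85], [86], [87], [88], [89], [90], [91], [92], [93], [94], [95], [96], [97], [98], [99], [18, 23, 38, 100], [24, 29, 39, 101], [32, 102], [33, 103], [30, 104], [31, 105], [36, 106], [37, 107], [34, 108], [35, 109], [38, 110], [111], [112], [113], [114], [38, 115], [39, 116], [117], [118], [119], [120], [39, 121], [122], [123], [124], [125], [126], [127], [128], [129], [130], [131], [132]]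

/-- Certificate. -/
def rkE7_2B : List (List ℕ) := [[18, 23, 38, 100, 110, 115, 130], [24, 29, 39, 101, 116, 121, 131], [30, 104, 122], [31, 105, 123], [32, 102, 124], [33, 103, 125], [34, 108, 126], [35, 109, 127], [36, 106, 128], [37, 107, 129], [64, 71, 95], [65, 72, 96], [67, 74, 97], [68, 75, 98], [76], [77], [78], [79], [81], [82], [83], [84], [86], [87], [88], [89], [90], [91], [92], [93], [111], [112], [113], [114], [117], [118], [119], [120], [38, 110, 130], [39, 116, 131], [1, 2, 6, 99], [2, 4, 6, 132], [4, 6, 94, 99], [94, 99, 132], [94, 99], [94], [95], [96], [97], [98], [110, 115], [116, 121], [122], [123], [124], [125], [126], [127], [128], [129], [130], [131], [62], [63], [10], [11], [66], [12], [13], [69], [70], [71], [72], [73], [74], [75], [14], [15], [16], [17], [80], [0], [19], [20], [21], [85], [22], [23], [40], [25], [26], [27], [28], [29], [45], [46], [47], [48], [49], [44], [100], [101], [102], [103], [104], [105], [106], [107], [108], [109], [50], [41], [3], [42], [5], [115], [51], [6], [7], [8], [9], [121], [52], [53], [54], [55], [56], [57], [58], [59], [60], [61], [43]]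

/-- Certificate. -/
def rkE7_2C : List (List ℕ) := [[43], [68], [67], [45], [65], [44], [64], [41], [0], [1], [4], [5], [2], [3], [8], [9], [6], [7], [38], [30], [31], [32], [33], [38, 50], [39], [34], [35], [36], [37], [39, 51], [52], [53], [54], [55], [56], [57], [58], [59], [60], [61], [40], [10], [11], [12], [13], [40, 42], [16], [17], [14], [15], [20], [21], [18], [19], [62], [24], [25], [22], [23], [63], [28], [29], [26], [27], [46], [47], [66], [48], [49], [69], [70], [46, 71], [47, 72], [73], [48, 74], [49, 75], [76], [77], [78], [79], [80], [81], [82], [83], [84], [85], [86], [87], [88], [89], [90], [91], [92], [93], [94], [95], [96], [97], [98], [99], [50, 60, 100], [51, 61, 101], [54, 102], [55, 103], [52, 104], [53, 105], [58, 106], [59, 107], [56, 108], [57, 109], [60, 110], [111], [112], [113], [114], [60, 115], [61, 116], [117], [118], [119], [120], [61, 121], [122], [123], [124], [125], [126], [127], [128], [129], [130], [131], [132]]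

theorem rankE7_2 : rankOK chevE7 [87, 92, 125] 62 rkE7_2U rkE7_2W rkE7_2B rkE7_2C = true := by
  decide +kernel

/-- Certificate. -/
def rkE7_3U : List (List ℕ) := [[130], [0, 1, 28, 109], [1, 2, 27, 28, 109], [89], [109], [121], [2, 27, 28, 132], [56], [68], [99], [72], [79], [84], [3, 37, 104], [96], [98], [105], [4, 38, 108], [112], [118], [5, 39, 111], [125], [6, 40, 113], [7, 41, 100], [61], [65], [8, 42, 117], [70], [9, 43, 119], [10, 44, 101], [75], [11, 45, 122], [12, 46, 102], [13, 47, 103], [93], [14, 48, 126], [15, 49, 106], [16, 50, 107], [17, 51, 110], [18, 52, 116], [114], [115], [19, 29, 71], [120], [20, 30, 74], [123], [124], [21, 31, 78], [127], [128], [129], [22, 32, 83], [131], [53], [54], [55], [23, 33, 88], [57], [58], [59], [60], [24, 34, 92], [62], [63], [64], [25, 35, 95], [66], [67], [26, 36, 97], [69], [27, 28, 132], [71], [29], [73], [74], [30], [76], [77], [78], [31], [80], [81], [82], [83], [32], [85], [86], [87], [88], [33], [90], [91], [92], [34], [94], [95], [35], [97], [36], [28, 132], [100], [101], [102], [103], [104], [37], [106], [107], [108], [38], [110], [111], [39], [113], [40], [41],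 [116], [117], [42], [119], [43], [44], [122], [45], [46], [47], [126], [48], [49], [50], [51], [52], [132]]

/-- Certificate. -/
def rkE7_3W : List (List ℕ) := [[40], [7], [69], [12], [16], [19], [21], [8], [25], [27], [9], [30], [10], [11], [34], [14], [15], [18], [24], [41], [43], [46], [50], [55], [60], [64], [67], [5], [0], [42], [44], [47], [51], [56], [61], [65], [68], [13], [17], [20], [22], [23], [26], [28], [29], [31], [32], [33], [35], [36], [37], [38], [39], [53], [54], [3], [45], [57], [58], [59], [6], [4], [62], [63], [1], [48], [66], [52], [49], [2], [70], [42, 71], [72], [73], [44, 74], [75], [76], [77], [47, 78], [79], [80], [81], [82], [51, 83], [84], [85], [86], [87], [56, 88], [89], [90], [91], [61, 92], [93], [94], [65, 95], [96], [68, 97], [98], [99], [23, 100], [29, 101], [32, 102], [33, 103], [13, 104], [105], [36, 106], [37, 107], [17, 108], [109], [38, 110], [20, 111], [112], [22, 113], [114], [115], [39, 116], [26, 117], [118], [28, 119], [120], [121], [31, 122], [123], [124], [125], [35, 126], [127], [128], [129], [130], [131], [132]]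

/-- Certificate. -/
def rkE7_3B : List (List ℕ) := [[1, 2, 6, 99], [2, 4, 6, 132], [6, 70], [13, 104, 105], [17, 108, 109], [20, 111, 112], [22, 113, 114], [23, 100, 115], [26, 117, 118], [28, 119, 120], [29, 101, 121], [31, 122, 123], [32, 102, 124], [33, 103, 125], [35, 126, 127], [36, 106, 128], [37, 107, 129], [38, 110, 130], [39, 116, 131], [42, 71, 72], [44, 74, 75], [47, 78, 79], [51, 83, 84], [56, 88, 89], [61, 92, 93], [65, 95, 96], [68, 97, 98], [70, 99], [99, 132], [72], [75], [79], [84], [89], [93], [96], [98], [105], [109], [112], [114], [115], [118], [120], [121], [123], [124], [125], [127], [128], [129], [130], [131], [53], [54], [55], [7], [57], [58], [59], [60], [24], [62], [63], [64], [25], [66], [67], [8], [69], [27], [71], [10], [73], [74], [30], [76], [77], [78], [11], [80], [81], [82], [83], [12], [85], [86], [87], [88], [3], [90], [91], [92], [34], [94], [95], [14], [97], [15], [9], [100], [101], [102], [103], [104], [16], [106], [107], [108], [4], [110], [111], [18], [113], [40], [41], [116], [117], [19], [119], [43], [5], [122], [45], [46], [21], [126], [48], [49], [50], [0], [52], [132]]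

/-- Certificate. -/
def rkE7_3C : List (List ℕ) := [[28], [64], [69], [55], [61], [27], [60], [1], [7], [10], [12], [13], [3], [37], [15], [16], [4], [38], [17], [5], [39], [6], [40], [41], [18], [8], [42], [9], [43], [44], [11], [45], [46], [47], [14], [48], [49], [50], [51], [52], [0], [19], [29], [20], [30], [56], [21], [31], [65], [68], [22], [32], [67], [53], [54], [23], [33], [57], [58], [59], [24], [34], [62], [63], [25], [35], [66], [26], [36], [2], [70], [29, 71], [72], [73], [30, 74], [75], [76], [77], [31, 78], [79], [80], [81], [82], [32, 83], [84], [85], [86], [87], [33, 88], [89], [90], [91], [34, 92], [93], [94], [35, 95], [96], [36, 97], [98], [99], [41, 100], [44, 101], [46, 102], [47, 103], [37, 104], [105], [49, 106], [50, 107], [38, 108], [109], [51, 110], [39, 111], [112], [40, 113], [114], [115], [52, 116], [42, 117], [118], [43, 119], [120], [121], [45, 122], [123], [124], [125], [48, 126], [127], [128], [129], [130], [131], [132]]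

theorem rankE7_3 : rankOK chevE7 [63, 92, 125] 53 rkE7_3U rkE7_3W rkE7_3B rkE7_3C = true := by
  decide +kernel

/-- Certificate. -/
def rkE7_4U : List (List ℕ) := [[64], [35, 36, 38, 99], [33, 34, 37], [68], [34, 35, 36, 37], [119], [32, 33, 34, 35, 36, 37, 38], [116], [126], [127], [129], [130], [131], [63], [0, 28, 51, 102, 110, 124], [1, 29, 52, 67, 103, 125], [2, 26, 53, 94, 104, 122], [3, 27, 54, 86, 105, 123], [4, 30, 55, 100, 115, 118], [112], [113], [114], [117], [118], [5, 31, 101, 121, 132], [120], [111], [65], [85], [132], [94], [86], [110], [67], [26, 57, 122], [27, 58, 123], [28, 59, 124], [29, 60, 125], [30, 61, 115], [31, 56, 62, 121], [87], [88], [89], [90], [91], [92], [93], [95], [96], [97], [98], [106], [107], [108], [109], [6, 41, 78], [7, 42, 79], [8, 39, 76], [9, 40, 77], [128], [10, 45, 83], [11, 46, 84], [12, 43, 81], [13, 44, 82], [14, 47, 71], [15, 48, 72], [66], [16, 49, 74], [17, 50, 75], [69], [70], [71], [72], [73], [74], [75], [76], [77], [78], [79], [80], [81], [82], [83], [84], [36, 38, 99], [39], [40], [41], [42], [43], [44], [45], [46], [38, 99], [47], [48], [49], [50], [99], [100], [101],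 [102], [103], [104], [105], [51, 124], [52, 125], [53, 122], [54, 123], [55, 115], [18], [19], [20], [21], [115], [56, 121], [22], [23], [24], [25], [121], [122], [123], [124], [125], [57], [58], [59], [60], [61], [62], [37, 38]]

/-- Certificate. -/
def rkE7_4W : List (List ℕ) := [[10], [11], [12], [13], [8], [9], [46], [47], [48], [49], [50], [51], [52], [53], [41], [42], [43], [44], [19], [20], [21], [22], [25], [26], [27], [28], [30], [31], [32], [33], [23], [24], [40], [45], [7, 40], [54], [3], [0], [5], [57], [58], [55], [56], [62], [63], [60], [61], [64], [65], [67], [68], [14, 32], [15, 33], [16, 30], [17, 31], [18, 23], [24, 29], [34], [35], [36], [37], [38], [39], [1], [59], [4], [66], [6], [2], [69], [70], [64, 71], [65, 72], [73], [67, 74], [68, 75], [57, 76], [58, 77], [55, 78], [56, 79], [80], [62, 81], [63, 82], [60, 83], [61, 84], [85], [86], [87], [88], [89], [90], [91], [92], [93], [94], [95], [96], [97], [98], [99], [18, 23, 38, 100], [24, 29, 39, 101], [14, 32, 36, 102], [15, 33, 37, 103], [16, 30, 34, 104], [17, 31, 35, 105], [36, 106], [37, 107], [34, 108], [35, 109], [38, 110], [111], [112], [113], [114],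 [38, 115], [39, 116], [117], [118], [119], [120], [39, 121], [34, 122], [35, 123], [36, 124], [37, 125], [126], [127], [128], [129], [130], [131], [132]]

/-- Certificate. -/
def rkE7_4B : List (List ℕ) := [[14, 32, 36, 102, 106, 124, 128], [15, 33, 37, 103, 107, 125, 129], [16, 30, 34, 104, 108, 122, 126], [17, 31, 35, 105, 109, 123, 127], [18, 23, 38, 100, 110, 115, 130], [24, 29, 39, 101, 116, 121, 131], [55, 78, 88], [56, 79, 89], [57, 76, 86], [58, 77, 87], [60, 83, 92], [61, 84, 93], [62, 81, 90], [63, 82, 91], [64, 71, 95], [65, 72, 96], [67, 74, 97], [68, 75, 98], [111], [112], [113], [114], [117], [118], [119], [120], [34, 122, 126], [35, 123, 127], [36, 124, 128], [37, 125, 129], [38, 115, 130], [39, 116, 131], [1, 2, 6, 99], [1, 2, 4, 94], [1, 4, 99, 132], [1, 85], [85, 94], [94, 99, 132], [94, 99], [86], [87], [88], [89], [90], [91], [92], [93], [95], [96], [97], [98], [106, 124], [107, 125], [108, 122], [109, 123], [110, 115], [116, 121], [126], [127], [128], [129], [130], [131], [13], [0], [27], [66], [33], [3], [69], [70], [71], [72], [73], [74], [75], [76], [77], [78], [79], [80], [81], [82], [83], [84], [28],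 [31], [40], [41], [42], [43], [44], [45], [46], [30], [47], [48], [49], [50], [99], [100], [101], [102], [103], [104], [105], [51], [52], [53], [54], [32], [26], [19], [20], [21], [115], [7], [22], [23], [5], [25], [121], [122], [123], [124], [125], [8], [9], [59], [10], [11], [12], [29]]

/-- Certificate. -/
def rkE7_4C : List (List ℕ) := [[37], [63], [68], [36], [65], [38], [67], [32, 34], [4], [5], [0], [1], [2], [3], [28, 51], [29, 52], [26, 53], [27, 54], [30, 55], [18], [19], [20], [21], [30], [31], [22], [23], [24], [25], [31, 56], [26], [27], [28], [29], [57], [58], [59], [60], [61], [62], [32], [14], [15], [16], [17], [33], [6], [7], [8], [9], [10], [11], [12], [13], [35], [41], [42], [39], [40], [64], [45], [46], [43], [44], [47], [48], [66], [49], [50], [69], [70], [47, 71], [48, 72], [73], [49, 74], [50, 75], [39, 76], [40, 77], [41, 78], [42, 79], [80], [43, 81], [44, 82], [45, 83], [46, 84], [85], [86], [87], [88], [89], [90], [91], [92], [93], [94], [95], [96], [97], [98], [99], [55, 61, 100], [56, 62, 101], [51, 59, 102], [52, 60, 103], [53, 57, 104], [54, 58, 105], [59, 106], [60, 107], [57, 108], [58, 109],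 [61, 110], [111], [112], [113], [114], [61, 115], [62, 116], [117], [118], [119], [120], [62, 121], [57, 122], [58, 123], [59, 124], [60, 125], [126], [127], [128], [129], [130], [131], [132]]

theorem rankE7_4 : rankOK chevE7 [78, 87, 92, 125] 63 rkE7_4U rkE7_4W rkE7_4B rkE7_4C = true := by
  decide +kernel

end CfsgLib.Chev.SLInvol
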