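import Mathlib
import Cfsg.Agent.Lib.Chev.E7DeltaTwist
import Cfsg.Agent.Lib.Chev.KerTorsion

/-!
The exponent module of the E₇ torus with characteristic polynomial Φ₁₂·(X³ + 1).
-/

set_option autoImplicit false
set_option maxHeartbeats 1000000
set_option maxRecDepth 100000

namespace CfsgLib.Chev.Springer

open Cfsg.Lie Matrix Polynomial

variable {ι : Type*} [Fintype ι] [DecidableEq ι]

/-- At most `s` eigenvectors for a simple root. -/
theorem card_kerMod_simple (R : Matrix ι ι ℤ) (c : ℤ) (g : ℤ[X]) (hR : R.charpoly = (X - C c) * g)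
    {s : ℕ} [Fact s.Prime] (q : ℤ) (hg : ((g.eval q : ℤ) : ZMod s) ≠ 0) :
    Nat.card (kerMod (Matrix.scalar ι q - R) s) ≤ s := by
  classical
  set f : Module.End (ZMod s) (ι → ZMod s) := Matrix.toLin' (R.map (Int.cast : ℤ → ZMod s))
  have hle : Module.finrank (ZMod s) (f.eigenspace (q : ZMod s)) ≤ 1 := by
    refine (LinearMap.finrank_eigenspace_le f _).trans ?_
    rw [Matrix.charpoly_toLin', show R.map (Int.cast : ℤ → ZMod s) = R.map (Int.castRingHom (ZMod s)) from rfl,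
      Matrix.charpoly_map, hR, Polynomial.map_mul, Polynomial.map_sub, Polynomial.map_X, Polynomial.map_C]
    have hg' : ¬ (g.map (Int.castRingHom (ZMod s))).IsRoot (q : ZMod s) := by
      rw [IsRoot.def, eval_map, ← eq_intCast (Int.castRingHom (ZMod s)) q, eval₂_at_apply]
      simpa using hg
    rw [rootMultiplicity_mul (mul_ne_zero (X_sub_C_ne_zero _) fun h0 => hg' (by rw [h0]; simp [IsRoot]))]
    rw [rootMultiplicity_eq_zero hg', add_zero, rootMultiplicity_X_sub_C]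
    split_ifs <;> simp
  have he : Nat.card (kerMod (Matrix.scalar ι q - R) s) = Nat.card (f.eigenspace (q : ZMod s)) :=
    Nat.card_congr (Equiv.subtypeEquivRight fun u => by
      rw [mem_kerMod, Module.End.mem_eigenspace_iff, Matrix.toLin'_apply,
        show (Matrix.scalar ι q - R).map (Int.cast : ℤ → ZMod s) =
          (Int.castRingHom (ZMod s)).mapMatrix (Matrix.scalar ι q - R) from rfl, map_sub, Matrix.sub_mulVec,
        sub_eq_zero, show (Int.castRingHom (ZMod s)).mapMatrix (Matrix.scalar ι q) =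
          Matrix.scalar ι (q : ZMod s) from Matrix.ext fun a b => by
            simp [Matrix.scalar_apply, Matrix.diagonal_apply, apply_ite (Int.cast : ℤ → ZMod s)],
        show Matrix.scalar ι (q : ZMod s) *ᵥ u = (q : ZMod s) • u from funext fun a => by
          simp [Matrix.scalar_apply, Matrix.mulVec_diagonal]]
      exact eq_comm)
  rw [he, Module.natCard_eq_pow_finrank (K := ZMod s), Nat.card_zmod]
  exact le_of_le_of_eq (Nat.pow_le_pow_right (Fact.out : s.Prime).pos hle) (pow_one s)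

variable {π : Equiv.Perm (Fin chevE7.nroots)}

theorem coMat_CE7 (hπ : π ∈ goodE7.weyl) : goodE7.coMat π * CE7 = CE7 * (goodE7.coMat π⁻¹)ᵀ := by
  calc goodE7.coMat π * CE7 = goodE7.coMat π * CE7 * (goodE7.coMat π⁻¹ * goodE7.coMat π)ᵀ := by
        rw [(goodE7.coMat_inv_mul hπ).1, Matrix.transpose_one, mul_one]
    _ = goodE7.coMat π * CE7 * (goodE7.coMat π)ᵀ * (goodE7.coMat π⁻¹)ᵀ := by
        rw [Matrix.transpose_mul, mul_assoc (goodE7.coMat π * CE7)]
    _ = CE7 * (goodE7.coMat π⁻¹)ᵀ := by rw [form_E7 hπ]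

/-- An element and its inverse have the same characteristic polynomial. -/
theorem charpoly_inv_E7 (hπ : π ∈ goodE7.weyl) :
    (goodE7.coMat π).charpoly = (goodE7.coMat π⁻¹).charpoly := by
  refine Polynomial.funext fun x => ?_
  rw [Matrix.eval_charpoly, Matrix.eval_charpoly]
  have hC : CE7.det ≠ 0 := fun h0 => by
    have h := congrArg Matrix.det duoE7_mul.1
    rw [Matrix.det_mul, h0, mul_zero, Matrix.det_smul, Matrix.det_one, mul_one] at h
    exact pow_ne_zero _ two_ne_zero h.symm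
  have h : (Matrix.scalar _ x - goodE7.coMat π) * CE7 = CE7 * (Matrix.scalar _ x - goodE7.coMat π⁻¹)ᵀ := by
    rw [Matrix.transpose_sub, sub_mul, mul_sub, coMat_CE7 hπ, show (Matrix.scalar (Fin chevE7.rank) x)ᵀ =
      Matrix.scalar _ x by simp [Matrix.scalar_apply]]
    rw [(Matrix.scalar_commute x (fun r => mul_comm x r) CE7).eq]
  have h2 := congrArg Matrix.det h
  rw [Matrix.det_mul, Matrix.det_mul, Matrix.det_transpose, mul_comm CE7.det] at h2
  exact mul_right_cancel₀ hC h2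

variable {a : Fin chevE7.nroots}

theorem four_phi_three : ∀ x : ZMod 3, (4 : ZMod 3) * (x ^ 4 - x ^ 2 + 1) ≠ 0 := by decide

theorem two_ne_three : ((2 : ℤ) : ZMod 3) ≠ 0 := by decide

/-- At most three eigenvectors modulo three of the transpose. -/
theorem card_ker_three (hπ : π ∈ goodE7.weyl) (T : Turn π⁻¹ a)
    (h : cyclotomic 12 ℤ ∣ (goodE7.coMat π⁻¹).charpoly)
    {w : Fin 4 → Fin chevE7.rank → ℤ} (hwi : IndepZ w)
    (hwk : ∀ k, w k ᵥ* aeval (goodE7.coMat π⁻¹) (cyclotomic 12 ℤ) = 0)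
    (hworth : ∀ p ∈ [a, π⁻¹ a, π⁻¹ (π⁻¹ a)], ∀ k, ipV (goodE7.coVec p) (w k) = 0) (q : ℤ) :
    Nat.card (kerMod (Matrix.scalar _ q - (goodE7.coMat π)ᵀ) 3) ≤ 3 := by
  haveI : Fact (Nat.Prime 3) := ⟨Nat.prime_three⟩
  set R := goodE7.coMat π⁻¹
  set C' := CE7.map (Int.cast : ℤ → ZMod 3) with hC'
  have hmm : ∀ A A' : Matrix (Fin chevE7.rank) (Fin chevE7.rank) ℤ,
      (A * A').map (Int.cast : ℤ → ZMod 3) = A.map (Int.cast : ℤ → ZMod 3) * A'.map (Int.cast : ℤ → ZMod 3) :=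
    fun A A' => Matrix.map_mul (f := Int.castRingHom (ZMod 3))
  have hker : ∀ t, t ∈ kerMod (Matrix.scalar _ q - (goodE7.coMat π)ᵀ) 3 →
      R.map (Int.cast : ℤ → ZMod 3) *ᵥ (C' *ᵥ t) = (q : ZMod 3) • (C' *ᵥ t) := by
    intro t ht
    have h1 : (goodE7.coMat π)ᵀ.map (Int.cast : ℤ → ZMod 3) *ᵥ t = (q : ZMod 3) • t := by
      rw [mem_kerMod, show (Matrix.scalar (Fin chevE7.rank) q - (goodE7.coMat π)ᵀ).map (Int.cast : ℤ → ZMod 3) =
          (Int.castRingHom (ZMod 3)).mapMatrix (Matrix.scalar _ q - (goodE7.coMat π)ᵀ) from rfl, map_sub,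
        Matrix.sub_mulVec, sub_eq_zero] at ht
      exact ht.symm.trans (funext fun b => by simp [Matrix.scalar_apply, Matrix.mulVec_diagonal])
    have h2 : R * CE7 = CE7 * (goodE7.coMat π)ᵀ := by
      have h3 := congrArg Matrix.transpose (coMat_CE7 hπ)
      rw [Matrix.transpose_mul, Matrix.transpose_mul, Matrix.transpose_transpose, CE7_symm.eq] at h3
      exact h3.symm
    rw [hC', Matrix.mulVec_mulVec, ← hmm, h2, hmm, ← Matrix.mulVec_mulVec, h1, Matrix.mulVec_smul]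
  let f : kerMod (Matrix.scalar _ q - (goodE7.coMat π)ᵀ) 3 → ZMod 3 := fun t => dotMod (C' *ᵥ t.1) (goodE7.coVec a)
  refine (Nat.card_le_card_of_injective f fun t t' he => ?_).trans (le_of_eq (Nat.card_zmod 3))
  have hd : (C' *ᵥ (t - t').1) = 0 := by
    set κ := C' *ᵥ (t - t').1
    have hκ := hker _ (t - t').2
    have hlin : ∀ x, dotMod κ x = dotMod (C' *ᵥ t.1) x - dotMod (C' *ᵥ t'.1) x := by
      intro x
      simp only [κ, dotMod, AddSubgroup.coe_sub, Matrix.mulVec_sub, dotProduct_sub]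
    have h0 : dotMod κ (goodE7.coVec a) = 0 := by rw [hlin, sub_eq_zero]; exact he
    have hstep : ∀ b, dotMod κ (goodE7.coVec b) = 0 → dotMod κ (goodE7.coVec (π⁻¹ b)) = 0 := fun b hb => by
      rw [goodE7.coVec_apply (inv_mem hπ), dotMod_vecMul, hκ, dotMod_smul_vec, hb, mul_zero]
    funext j
    have h4 := four_mul_kill T h hwi hwk hworth κ q hκ (by
      simp only [List.mem_cons, List.not_mem_nil, or_false, forall_eq_or_imp, forall_eq]
      exact ⟨h0, hstep _ h0, hstep _ (hstep _ h0)⟩) j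
    have hu : ((4 * (cyclotomic 12 ℤ).eval q : ℤ) : ZMod 3) ≠ 0 := by
      rw [cyclotomic_twelve]
      push_cast [eval_add, eval_sub, eval_pow, eval_X, eval_one]
      exact four_phi_three _
    exact (mul_eq_zero.1 h4).resolve_left hu
  have h2 : ((2 : ℤ) : ZMod 3) • (t - t').1 = 0 := by
    have e := congrArg ((duoE7.map (Int.cast : ℤ → ZMod 3)) *ᵥ ·) hd
    simp only [Matrix.mulVec_zero, hC', Matrix.mulVec_mulVec, ← hmm, duoE7_mul.1] at e
    rw [← e, show ((2 : ℤ) • (1 : Matrix (Fin chevE7.rank) (Fin chevE7.rank) ℤ)).map (Int.cast : ℤ → ZMod 3) =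
      ((2 : ℤ) : ZMod 3) • (1 : Matrix (Fin chevE7.rank) (Fin chevE7.rank) (ZMod 3)) from Matrix.ext fun i j => by
        simp only [Matrix.map_apply, Matrix.smul_apply, Matrix.one_apply]
        split_ifs <;> simp, Matrix.smul_mulVec, Matrix.one_mulVec]
  have h3 := (smul_eq_zero.1 h2).resolve_left two_ne_three
  exact sub_eq_zero.1 (Subtype.ext h3)

/-- A value of order dividing `q³ + 1` but not `2(q + 1)` has six distinct translates. -/
theorem sep_six {G : Type*} [CommGroup G] (β : G) (q : ℕ) (h1 : β ^ (q ^ 3 + 1) = 1)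
    (h2 : β ^ (2 * (q + 1)) ≠ 1) :
    β ≠ β⁻¹ ∧ β ≠ β ^ q ∧ β ≠ (β ^ q)⁻¹ ∧ β ≠ (β ^ q) ^ q ∧ β ≠ ((β ^ q) ^ q)⁻¹ := by
  have ho : ∀ z : ℤ, β ^ z = 1 ↔ (orderOf β : ℤ) ∣ z := fun z => (orderOf_dvd_iff_zpow_eq_one).symm
  have h3 : (orderOf β : ℤ) ∣ (q : ℤ) ^ 3 + 1 := by exact_mod_cast orderOf_dvd_of_pow_eq_one h1
  have hbad : ¬ (orderOf β : ℤ) ∣ 2 * ((q : ℤ) + 1) := fun h => h2 (by
    rw [← orderOf_dvd_iff_pow_eq_one]; exact_mod_cast h)
  have hq1 : ¬ (orderOf β : ℤ) ∣ (q : ℤ) - 1 := fun h => hbad (by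
    have := (dvd_sub h3 (h.mul_left ((q : ℤ) ^ 2 + q + 1)))
    rw [show (q : ℤ) ^ 3 + 1 - ((q : ℤ) ^ 2 + q + 1) * ((q : ℤ) - 1) = 2 by ring] at this
    exact this.mul_right _)
  refine ⟨fun h => hbad ?_, fun h => hq1 ?_, fun h => hbad ?_, fun h => hbad ?_, fun h => hq1 ?_⟩
  · refine Dvd.dvd.mul_right ((ho 2).1 ?_) _
    rw [show (2 : ℤ) = 1 + 1 from rfl, _root_.zpow_add, _root_.zpow_one]
    nth_rewrite 1 [h]
    exact inv_mul_cancel β
  · refine (ho _).1 ?_
    rw [_root_.zpow_sub, zpow_natCast, _root_.zpow_one, ← h, mul_inv_cancel]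
  · refine Dvd.dvd.mul_left ((ho _).1 ?_) 2
    rw [_root_.zpow_add, zpow_natCast, _root_.zpow_one]
    nth_rewrite 2 [h]
    exact mul_inv_cancel _
  · have h4 : (orderOf β : ℤ) ∣ (q : ℤ) * q - 1 := (ho _).1 (by
      rw [_root_.zpow_sub, _root_.zpow_mul, zpow_natCast, zpow_natCast, _root_.zpow_one, ← h, mul_inv_cancel])
    have := dvd_sub h3 (h4.mul_left (q : ℤ))
    rw [show (q : ℤ) ^ 3 + 1 - (q : ℤ) * ((q : ℤ) * q - 1) = q + 1 by ring] at this
    exact this.mul_left 2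
  · have h4 : (orderOf β : ℤ) ∣ (q : ℤ) * q + 1 := (ho _).1 (by
      rw [_root_.zpow_add, _root_.zpow_mul, zpow_natCast, zpow_natCast, _root_.zpow_one]
      nth_rewrite 2 [h]
      exact mul_inv_cancel _)
    have := dvd_sub (h4.mul_left (q : ℤ)) h3
    rwa [show (q : ℤ) * ((q : ℤ) * q + 1) - ((q : ℤ) ^ 3 + 1) = q - 1 by ring] at this

end CfsgLib.Chev.Springer
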