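import Mathlib
import Cfsg.Agent.Lib.Chev.StMap
import Cfsg.Agent.Lib.Chev.StEmb
import Cfsg.Agent.Lib.Chev.FixedTorusPow
import Cfsg.Agent.Lib.Chev.E7RootPairs

/-!
The rational points of a twisted torus of E₇, through Steinberg's group: squares in the torus
remove the ambiguity of the two-element centre.
-/

set_option autoImplicit false
set_option maxHeartbeats 1000000
set_option maxRecDepth 100000

namespace CfsgLib.Chev.Springer

open Cfsg.Lie Matrix

variable {L : Type*} [Field L]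

/-- The torus action of a monomial element. -/
theorem conj_torHom_E7 {n : GL chevE7.Idx L} (hn : n ∈ chevE7.monomialSubgroup L)
    {π : Equiv.Perm (Fin chevE7.nroots)} (hπw : π ∈ goodE7.weyl) (hπ : goodE7.Acts n π)
    (c : Fin chevE7.rank → Lˣ) :
    n * torHom chevE7 L c * n⁻¹ = torHom chevE7 L (powMap (goodE7.coMat π) c) := by
  have hd : n * torHom chevE7 L c * n⁻¹ ∈ chevE7.diagonalSubgroup L := goodE7.diag_conj hn (goodE7.torHom_mem c)
  rw [goodE7.diagonal_eq_range] at hd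
  obtain ⟨c', hc'⟩ := hd
  rw [← hc']
  refine goodE7.torHom_eq_of_simple fun j => ?_
  have h := goodE7.rootVal_conj hπ hc'.symm (π⁻¹ (goodE7.sroot j))
  rw [show π (π⁻¹ (goodE7.sroot j)) = goodE7.sroot j from π.apply_symm_apply _] at h
  have hYC : goodE7.coMat π * CE7 = CE7 * (goodE7.coMat π⁻¹)ᵀ := by
    calc goodE7.coMat π * CE7 = goodE7.coMat π * CE7 * (goodE7.coMat π⁻¹ * goodE7.coMat π)ᵀ := by
          rw [(goodE7.coMat_inv_mul hπw).1, Matrix.transpose_one, mul_one]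
      _ = goodE7.coMat π * CE7 * (goodE7.coMat π)ᵀ * (goodE7.coMat π⁻¹)ᵀ := by
          rw [Matrix.transpose_mul, mul_assoc (goodE7.coMat π * CE7)]
      _ = CE7 * (goodE7.coMat π⁻¹)ᵀ := by rw [form_E7 hπw]
  rw [show chevE7.simple j = ((goodE7.sroot j : Fin chevE7.nroots) : ℕ) from rfl, h,
    goodE7.rootVal_eq_prod c (π⁻¹ (goodE7.sroot j)).2]
  show _ = powMap (cartanMat chevE7) (powMap (goodE7.coMat π) c) j
  rw [← MonoidHom.comp_apply, ← powMap_mul, hYC, powMap_mul, MonoidHom.comp_apply, powMap_apply]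
  exact Finset.prod_congr rfl fun i _ => rfl

/-- The kernel of `torHom` for E₇. -/
theorem card_torHom_ker_E7 [Fintype L] :
    Nat.card (torHom chevE7 L).ker = Nat.gcd (Fintype.card L - 1) 2 := by
  have h2 := Subgroup.card_eq_card_quotient_mul_card_subgroup (torHom chevE7 L).ker
  rw [Nat.card_congr (QuotientGroup.quotientKerEquivRange (torHom chevE7 L)).toEquiv,
    ← goodE7.diagonal_eq_range, Nat.card_fun, Nat.card_units, Nat.card_eq_fintype_card (α := L),
    Nat.card_eq_fintype_card (α := Fin chevE7.rank), Fintype.card_fin, ← card_diagonalE7, mul_comm] at h2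
  exact (Nat.eq_of_mul_eq_mul_left Nat.card_pos h2).symm

/-- The rational points of the twisted torus. -/
theorem torus_points {F : Type*} [Field F] [Fintype L] (ι : F →+* L) (φ : L →+* L) (q N : ℕ)
    (hφ : ∀ z, φ z = z ^ q) (hφι : ∀ a, φ (ι a) = ι a) (hfix : ∀ z, φ z = z → ∃ a, ι a = z)
    {gc : GL chevE7.Idx L} (hgc : gc ∈ chevE7.group L)
    {n : GL chevE7.Idx L} (hn : n ∈ chevE7.monomialSubgroup L)
    {π : Equiv.Perm (Fin chevE7.nroots)} (hπw : π ∈ goodE7.weyl) (hπ : goodE7.Acts n π)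
    (haf : gc⁻¹ * scalarGL chevE7 φ gc * n = 1)
    (hN : ∀ e : Fin chevE7.rank → Lˣ, e ^ q = powMap (goodE7.coMat π) e → e ^ N = 1)
    (hsq : ∀ t : Lˣ, t ^ (2 * N) = 1 → ∃ s, s ^ 2 = t) :
    (∀ e : Fin chevE7.rank → Lˣ, e ^ q = powMap (goodE7.coMat π) e →
      ∃ x ∈ chevE7.group F, gc⁻¹ * scalarGL chevE7 ι x * gc = torHom chevE7 L e) ∧
    (∀ x ∈ chevE7.group F, gc⁻¹ * scalarGL chevE7 ι x * gc ∈ chevE7.diagonalSubgroup L →
      ∃ e : Fin chevE7.rank → Lˣ, e ^ q = powMap (goodE7.coMat π) e ∧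
        gc⁻¹ * scalarGL chevE7 ι x * gc = torHom chevE7 L e) := by
  classical
  set g := goodE7
  have hc : HasComm chevE7 := hasComm_of_mem (by simp)
  have hlink : g.Linked := linked_of_mem (by simp) _
  set S := stData g hc L
  set SF := stData g hc F
  obtain ⟨Φ, hle, hθ, hΦs⟩ := S.exists_torus_hom hlink (stData_R3 g hc)
  have hker : ∀ z, S.θ z = 1 → ∃ c ∈ (torHom chevE7 L).ker, Φ c = z := fun z hz => by
    obtain ⟨c, hc'⟩ := hle (S.ker_le_HY hlink (MonoidHom.mem_ker.2 hz))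
    exact ⟨c, MonoidHom.mem_ker.2 (by rw [← hθ, hc', hz]), hc'⟩
  have hcen : Subgroup.center (chevE7.SteinbergGroup L) = (torHom chevE7 L).ker.map Φ := by
    rw [← S.ker_eq_center hlink, S.θG_ker]
    refine le_antisymm (fun z hz => ?_) ?_
    · obtain ⟨c, hc1, rfl⟩ := hker z (MonoidHom.mem_ker.1 hz)
      exact ⟨c, hc1, rfl⟩
    · rintro _ ⟨c, hc1, rfl⟩
      rw [MonoidHom.mem_ker, hθ]
      exact hc1
  have hcard : Nat.card (Subgroup.center (chevE7.SteinbergGroup L)) = Nat.gcd 2 (Fintype.card L - 1) :=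
    st_card_centerE7 L
  have hkerc : Nat.card (torHom chevE7 L).ker = Nat.gcd 2 (Fintype.card L - 1) := by
    rw [card_torHom_ker_E7, Nat.gcd_comm]
  have hg0 : Nat.gcd 2 (Fintype.card L - 1) ≠ 0 := fun h => by simp [Nat.gcd_eq_zero_iff] at h
  have hΦinj : Function.Injective Φ := by
    rw [hcen] at hcard
    haveI : Finite ↥((torHom chevE7 L).ker.map Φ) := Nat.finite_of_card_ne_zero (by omega)
    have hb := ((Nat.bijective_iff_surjective_and_card _).2
      ⟨MonoidHom.subgroupMap_surjective Φ (torHom chevE7 L).ker, hkerc.trans hcard.symm⟩).1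
    refine (injective_iff_map_eq_one _).2 fun c hc1 => ?_
    have hcK : c ∈ (torHom chevE7 L).ker := MonoidHom.mem_ker.2 (by rw [← hθ, hc1, map_one])
    exact congrArg Subtype.val (@hb ⟨c, hcK⟩ 1 (Subtype.ext (by simpa using hc1)))
  have hk2 : ∀ z, S.θ z = 1 → z ^ 2 = 1 ∧ z ∈ Subgroup.center (chevE7.SteinbergGroup L) := fun z hz => by
    obtain ⟨c, hcK, rfl⟩ := hker z hz
    refine ⟨?_, hcen ▸ Subgroup.mem_map_of_mem Φ hcK⟩
    have h := pow_card_eq_one' (G := ↥(torHom chevE7 L).ker) (x := ⟨c, hcK⟩)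
    rw [hkerc] at h
    obtain ⟨t, ht⟩ := Nat.gcd_dvd_left 2 (Fintype.card L - 1)
    have h2 : (⟨c, hcK⟩ : ↥(torHom chevE7 L).ker) ^ 2 = 1 := by rw [ht, pow_mul, h, one_pow]
    rw [← map_pow, show c ^ 2 = 1 from congrArg Subtype.val h2, map_one]
  -- the endomorphism on the torus
  have hφΦ : ∀ e, stMap φ (Φ e) = Φ (e ^ q) := by
    intro e
    have h : (stMap φ).comp Φ = Φ.comp (powMonoidHom q) := by
      refine MonoidHom.pi_ext fun i t => ?_
      rw [MonoidHom.comp_apply, MonoidHom.comp_apply, hΦs, stMap_hY g hc, powMonoidHom_apply,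
        show (Pi.mulSingle i t : Fin chevE7.rank → Lˣ) ^ q = Pi.mulSingle i (t ^ q) from
          funext fun k => by simp [Pi.mulSingle_apply, ite_pow], hΦs]
      congr 1
      exact Units.ext (by simp [hφ])
    exact DFunLike.congr_fun h e
  have hιfix : ∀ z : chevE7.SteinbergGroup F, stMap φ (stMap ι z) = stMap ι z := fun z => by
    rw [← MonoidHom.comp_apply, stMap_comp, show φ.comp ι = ι from RingHom.ext hφι]
  have hlift : ∀ {K : Type _} [Field K] (z : GL chevE7.Idx K), z ∈ chevE7.group K →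
      ∃ w, (stData g hc K).θ w = z := fun z hz => by
    obtain ⟨w, hw⟩ := (stData g hc _).θG_surjective ⟨z, hz⟩
    exact ⟨w, congrArg Subtype.val hw⟩
  have hrange : ∀ z, S.θ z ∈ chevE7.diagonalSubgroup L → ∃ e, Φ e = z := by
    intro z hz
    rw [g.diagonal_eq_range] at hz
    obtain ⟨e, he⟩ := hz
    obtain ⟨c, -, hc'⟩ := hker ((Φ e)⁻¹ * z) (by rw [map_mul, map_inv, hθ, he, inv_mul_cancel])
    exact ⟨e * c, by rw [map_mul, hc', mul_inv_cancel_left]⟩
  obtain ⟨gh, hgh⟩ := hlift gc hgc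
  set ah := gh⁻¹ * stMap φ gh with hah
  have hnθ : S.θ ah⁻¹ = n := by
    rw [map_inv, hah, map_mul, map_inv, hgh, θ_stMap g hc, hgh, inv_eq_of_mul_eq_one_right haf]
  set Y := g.coMat π
  have hdisc : ∀ e, ∃ k, S.θ k = 1 ∧ ah⁻¹ * Φ e * ah⁻¹⁻¹ = k * Φ (powMap Y e) := by
    intro e
    refine ⟨ah⁻¹ * Φ e * ah⁻¹⁻¹ * (Φ (powMap Y e))⁻¹, ?_, by group⟩
    rw [map_mul, map_mul, map_mul, map_inv S.θ (ah⁻¹), hnθ, map_inv, hθ, hθ, conj_torHom_E7 hn hπw hπ,
      mul_inv_cancel]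
  have hexact : ∀ e : Fin chevE7.rank → Lˣ, e ^ (2 * N) = 1 → ah⁻¹ * Φ e * ah⁻¹⁻¹ = Φ (powMap Y e) := by
    intro e he
    choose s hs using fun j => hsq (e j) (congrFun he j)
    obtain ⟨k, hk, h⟩ := hdisc s
    obtain ⟨h1, h2⟩ := hk2 k hk
    rw [show e = s ^ 2 from funext fun j => (hs j).symm, map_pow, map_pow, map_pow, ← conj_pow, h,
      (show Commute k (Φ (powMap Y s)) from (Subgroup.mem_center_iff.1 h2 _).symm).mul_pow, h1, one_mul]
  refine ⟨fun e he => ?_, fun x hx hxd => ?_⟩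
  · have heN : e ^ (2 * N) = 1 := by rw [mul_comm, pow_mul, hN e he, one_pow]
    have hyfix : stMap φ (gh * Φ e * gh⁻¹) = gh * Φ e * gh⁻¹ := by
      rw [map_mul, map_mul, map_inv, hφΦ, he, ← hexact e heN, hah]
      group
    set y := gc * torHom chevE7 L e * gc⁻¹ with hy
    have hyθ : S.θ (gh * Φ e * gh⁻¹) = y := by rw [map_mul, map_mul, map_inv, hgh, hθ]
    have hym : y ∈ chevE7.group L :=
      mul_mem (mul_mem hgc (g.diagonal_le_group (g.torHom_mem e))) (inv_mem hgc)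
    have hyφ : scalarGL chevE7 φ y = y := by rw [← hyθ, ← θ_stMap g hc, hyfix]
    obtain ⟨x, hx, c, -, hxc⟩ := g.fixed_decomp hc ι φ hfix hym hyφ
    obtain ⟨xh, hxh'⟩ := SF.θG_surjective ⟨x, hx⟩
    have hxh : (stData g hc F).θ xh = x := congrArg Subtype.val hxh'
    obtain ⟨c', hc'⟩ := hrange ((stMap ι xh)⁻¹ * (gh * Φ e * gh⁻¹)) (by
      rw [map_mul, map_inv, θ_stMap g hc, hxh, hyθ, hxc, inv_mul_cancel_left]
      exact g.torHom_mem c)
    have hc'q : c' ^ q = c' := hΦinj (by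
      rw [← hφΦ, hc', map_mul, map_inv, hιfix, hyfix])
    choose a ha using fun j => hfix (c' j : L) (by
      rw [hφ, ← Units.val_pow_eq_pow_val]; exact congrArg Units.val (congrFun hc'q j))
    have ha0 : ∀ j, a j ≠ 0 := fun j h0 => (c' j).ne_zero (by rw [← ha j, h0, map_zero])
    refine ⟨x * torHom chevE7 F (fun j => Units.mk0 (a j) (ha0 j)),
      mul_mem hx (g.diagonal_le_group (g.torHom_mem _)), ?_⟩
    have e1 : scalarGL chevE7 ι (torHom chevE7 F fun j => Units.mk0 (a j) (ha0 j)) = torHom chevE7 L c' := by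
      rw [scalarGL_torHom]
      exact congrArg _ (funext fun j => Units.ext (ha j))
    have e2 : torHom chevE7 L c' = (scalarGL chevE7 ι x)⁻¹ * y := by
      rw [← hθ, hc', map_mul, map_inv, θ_stMap g hc, hxh, hyθ]
    rw [map_mul, e1, e2, hy]
    group
  · obtain ⟨xh, hxh'⟩ := SF.θG_surjective ⟨x, hx⟩
    have hxh : (stData g hc F).θ xh = x := congrArg Subtype.val hxh'
    set z := gh⁻¹ * stMap ι xh * gh with hz
    have hzθ : S.θ z = gc⁻¹ * scalarGL chevE7 ι x * gc := by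
      rw [hz, map_mul, map_mul, map_inv, hgh, θ_stMap g hc, hxh]
    obtain ⟨e, he⟩ := hrange z (hzθ ▸ hxd)
    have hφz : Φ (e ^ q) = ah⁻¹ * Φ e * ah⁻¹⁻¹ := by
      rw [← hφΦ, he, hz, map_mul, map_mul, map_inv, hιfix, hah]; group
    have he2 : (e ^ 2) ^ q = powMap Y (e ^ 2) := hΦinj (by
      obtain ⟨k, hk, h⟩ := hdisc e
      obtain ⟨h1, h2⟩ := hk2 k hk
      rw [← pow_mul, mul_comm, pow_mul, map_pow, hφz, h,
        (show Commute k (Φ (powMap Y e)) from (Subgroup.mem_center_iff.1 h2 _).symm).mul_pow, h1, one_mul,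
        ← map_pow, ← map_pow])
    refine ⟨e, hΦinj (hφz.trans (hexact e (by rw [pow_mul]; exact hN _ he2))), ?_⟩
    rw [← hzθ, ← he, hθ]

end CfsgLib.Chev.Springer
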