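import Mathlib
import Cfsg.Agent.Lib.Chev.SL2Hom
import Cfsg.Agent.Lib.Chev.TwistIso
import Cfsg.Agent.Lib.Chev.TorusChar
import Cfsg.Agent.Lib.Chev.SpringerTorus

/-!
Lang's equation for three commuting rank one subgroups permuted by a twisted Frobenius map: the
twist can be multiplied by the reflection in one of the three roots.
-/

set_option autoImplicit false
set_option maxHeartbeats 1000000

namespace CfsgLib.Chev

open Cfsg.Lie Matrix

/-- Conjugation of SL₂ by the diagonal matrix `(N, 1)`. -/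
def sl2Diag {L : Type*} [Field L] (N : Lˣ) :
    Matrix.SpecialLinearGroup (Fin 2) L →* Matrix.SpecialLinearGroup (Fin 2) L :=
  MonoidHom.mk' (fun M => ⟨!![M.1 0 0, (N : L) * M.1 0 1; ((N⁻¹ : Lˣ) : L) * M.1 1 0, M.1 1 1], by
      have h := M.2
      rw [Matrix.det_fin_two] at h
      rw [Matrix.det_fin_two]
      simp only [Matrix.of_apply, Matrix.cons_val', Matrix.cons_val_zero, Matrix.cons_val_one,
        Matrix.empty_val', Matrix.cons_val_fin_one]
      linear_combination h - M.1 0 1 * M.1 1 0 * N.mul_inv⟩)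
    fun M M' => Subtype.ext (by
      show (!![(M.1 * M'.1) 0 0, (N : L) * (M.1 * M'.1) 0 1;
          ((N⁻¹ : Lˣ) : L) * (M.1 * M'.1) 1 0, (M.1 * M'.1) 1 1] : Matrix (Fin 2) (Fin 2) L) =
        !![M.1 0 0, (N : L) * M.1 0 1; ((N⁻¹ : Lˣ) : L) * M.1 1 0, M.1 1 1] *
          !![M'.1 0 0, (N : L) * M'.1 0 1; ((N⁻¹ : Lˣ) : L) * M'.1 1 0, M'.1 1 1]
      ext i j
      fin_cases i <;> fin_cases j <;>
        simp [Matrix.mul_apply, Fin.sum_univ_two] <;> field_simp)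

lemma sl2Diag_val {L : Type*} [Field L] (N : Lˣ) (M : Matrix.SpecialLinearGroup (Fin 2) L) :
    (sl2Diag N M).1 = !![M.1 0 0, (N : L) * M.1 0 1; ((N⁻¹ : Lˣ) : L) * M.1 1 0, M.1 1 1] := rfl

/-- A matrix whose quotient by its twisted image represents the reflection. -/
theorem exists_lang_sl2 {L : Type*} [Field L] (Φ : L →+* L) (μ ν : Lˣ) (K : L)
    (hμ : Φ (μ : L) = K * μ) (hν : Φ (ν : L) = -(ν : L)) {z : L} (hz : Φ (Φ z) = z) (hzν : z - Φ z = ((ν⁻¹ : Lˣ) : L)) :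
    ∀ Kᵤ : Lˣ, (Kᵤ : L) = K → ∃ a : Matrix.SpecialLinearGroup (Fin 2) L,
      sl2Diag Kᵤ ((Matrix.SpecialLinearGroup.map Φ) a) = a * (slD (ν * μ⁻¹) * slW) := by
  intro Kᵤ hK
  have hμ0 : (μ : L) ≠ 0 := μ.ne_zero
  have hν0 : (ν : L) ≠ 0 := ν.ne_zero
  rw [Units.val_inv_eq_inv_val] at hzν
  refine ⟨⟨!![1, -((ν : L) / μ); (μ : L) * z, -((ν : L) * Φ z)], ?_⟩, Subtype.ext ?_⟩
  · rw [Matrix.det_fin_two_of]
    field_simp
    have h := congrArg (fun x => x * (ν : L)) hzν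
    simp only [inv_mul_cancel₀ hν0] at h
    linear_combination h
  · rw [sl2Diag_val]
    have hK0 : K ≠ 0 := hK ▸ Kᵤ.ne_zero
    show !![Φ 1, (Kᵤ : L) * Φ (-((ν : L) / μ)); ((Kᵤ⁻¹ : Lˣ) : L) * Φ ((μ : L) * z), Φ (-((ν : L) * Φ z))] =
      !![1, -((ν : L) / μ); (μ : L) * z, -((ν : L) * Φ z)] *
        (!![((ν * μ⁻¹ : Lˣ) : L), 0; 0, (((ν * μ⁻¹)⁻¹ : Lˣ) : L)] * !![0, 1; -1, 0])
    ext i j
    fin_cases i <;> fin_cases j <;>
      simp [Matrix.mul_apply, Fin.sum_univ_two, hK, hμ, hν, hz, Units.val_inv_eq_inv_val] <;>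
      field_simp

lemma slW_eq_slU_slL {L : Type*} [Field L] :
    (slW : Matrix.SpecialLinearGroup (Fin 2) L) = slU 1 * slL (-1) * slU 1 := by
  refine Subtype.ext ?_
  show (!![0, 1; -1, 0] : Matrix (Fin 2) (Fin 2) L) = !![1, 1; 0, 1] * !![1, 0; -1, 1] * !![1, 1; 0, 1]
  simp [Matrix.mul_fin_two]

namespace Good

variable {D : ChevalleyDatum} (g : Good D)
include g

lemma xG_arg_inj {L : Type*} [Field L] {r : ℕ} (hr : r < D.nroots) {a b : L}
    (h : g.xG r a = g.xG r b) : a = b := by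
  have h1 : g.xG r (a + -b) = 1 := by rw [← g.xG_add, h, g.xG_add, add_neg_cancel, g.xG_zero]
  have h2 := (g.x_eq_one_iff hr _).1 (congrArg Units.val h1)
  linear_combination h2

/-- The element representing the reflection in a root. -/
theorem acts_nG {L : Type*} [Field L] {r : ℕ} (hr : r < D.nroots) (t : Lˣ) :
    ∃ (l : List (Fin D.rank)) (i : Fin D.rank), (g.wperm l (g.sroot i) : ℕ) = r ∧
      g.Acts (g.nG r t : GL D.Idx L) (g.wperm l * g.rperm i * (g.wperm l)⁻¹) := by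
  obtain ⟨l, i, h1, -⟩ := g.exists_word_simple hr
  have h1' : (g.wperm l (g.sroot i) : ℕ) = r := h1
  refine ⟨l, i, h1', ?_⟩
  obtain ⟨e, he⟩ := g.wordN_conj_nG (F := L) l (g.sroot i)
  have h := g.acts_mul (g.acts_mul (g.acts_wordN (F := L) l) (g.acts_nI (F := L) i)) (g.acts_inv (g.acts_wordN (F := L) l))
  rw [show g.wordN l * g.nI i * (g.wordN l)⁻¹ = g.nG r (e * 1 : Lˣ) by
    rw [← h1', ← he 1]; rfl, mul_one] at h
  have h2 := g.acts_mul (g.acts_diagonal (mul_mem (g.hG_mem hr t) (inv_mem (g.hG_mem hr e)))) h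
  rwa [one_mul, g.nG_eq_hG_mul hr e, mul_assoc, inv_mul_cancel_left, ← g.nG_eq_hG_mul hr t] at h2

/-- A monomial element scales opposite roots by inverse factors. -/
theorem monomial_pair {L : Type*} [Field L] {x : GL D.Idx L} (hx : x ∈ D.monomialSubgroup L)
    {π : Equiv.Perm (Fin D.nroots)} (hπw : π ∈ g.weyl) (hπ : g.Acts x π) (s : Fin D.nroots) :
    ∃ c : Lˣ, (∀ t : L, x * g.xG s t * x⁻¹ = g.xG (π s) ((c : L) * t)) ∧
      ∀ t : L, x * g.xG (g.nroot s : ℕ) t * x⁻¹ = g.xG (g.nroot (π s) : ℕ) (((c⁻¹ : Lˣ) : L) * t) := by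
  obtain ⟨l, hl⟩ := g.exists_wperm hπw
  have hd := g.monomial_same_acts hx (g.wordN_mem (F := L) l) hπ (hl ▸ g.acts_wordN l)
  rw [g.diagonal_eq_range] at hd
  obtain ⟨c, hc⟩ := hd
  obtain ⟨e, hee, he, he'⟩ := g.wordN_conj_xG_pair (F := L) l s
  have he0 : e ≠ 0 := fun h0 => by rw [h0, mul_zero] at hee; exact zero_ne_one hee
  have hx' : x = torHom D L c * g.wordN l := by rw [hc, inv_mul_cancel_right]
  refine ⟨rootVal c (π s) * Units.mk0 e he0, fun t => ?_, fun t => ?_⟩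
  · rw [hx', show torHom D L c * g.wordN l * g.xG s t * (torHom D L c * g.wordN l)⁻¹ =
      torHom D L c * (g.wordN l * g.xG s t * (g.wordN l)⁻¹) * (torHom D L c)⁻¹ by group, he,
      g.conj_rootVal c (g.wperm l s).2, hl, Units.val_mul, Units.val_mk0, mul_assoc]
  · have hn : rootVal c (D.neg (π s : ℕ)) = (rootVal c (π s : ℕ))⁻¹ := by
      simp only [rootVal, ← Finset.prod_inv_distrib]
      exact Finset.prod_congr rfl fun i _ => by rw [g.cartan_neg i.2 (π s).2, _root_.zpow_neg]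
    have he2 : ((Units.mk0 e he0)⁻¹ : Lˣ) = Units.mk0 e he0 := by
      rw [inv_eq_iff_mul_eq_one]; exact Units.ext (by simpa using hee)
    show x * g.xG (D.neg s) t * x⁻¹ = g.xG (D.neg (π s : ℕ)) _
    rw [hx', show torHom D L c * g.wordN l * g.xG (D.neg s) t * (torHom D L c * g.wordN l)⁻¹ =
      torHom D L c * (g.wordN l * g.xG (D.neg s) t * (g.wordN l)⁻¹) * (torHom D L c)⁻¹ by group, he',
      g.conj_rootVal c (g.neg_lt (g.wperm l s).2), hl, hn, mul_inv, he2, Units.val_mul, Units.val_mk0, mul_assoc]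

/-- Lang's equation on three commuting rank one subgroups. -/
theorem exists_orth_lang {L : Type*} [Field L] (q : ℕ) (φ : L →+* L) (hφ : ∀ x, φ x = x ^ q)
    (gc : GL D.Idx L) (hgc : gc ∈ D.group L)
    {n : GL D.Idx L} (hn : n ∈ D.monomialSubgroup L) {π : Equiv.Perm (Fin D.nroots)} (hπw : π ∈ g.weyl)
    (hπ : g.Acts n π) (hafn : gc⁻¹ * scalarGL D φ gc * n ∈ D.diagonalSubgroup L)
    {a : Fin D.nroots} (h3 : π (π (π a)) = a) (hnr : ∀ u, π (g.nroot u) = g.nroot (π u))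
    (hcomm : ∀ u v, (u = a ∨ u = g.nroot a) →
      (v = π⁻¹ a ∨ v = g.nroot (π⁻¹ a) ∨ v = π⁻¹ (π⁻¹ a) ∨ v = g.nroot (π⁻¹ (π⁻¹ a))) →
      ∀ t t' : L, Commute (g.xG (u : ℕ) t) (g.xG (v : ℕ) t'))
    (hcomm' : ∀ u v, (u = π⁻¹ a ∨ u = g.nroot (π⁻¹ a)) → (v = π⁻¹ (π⁻¹ a) ∨ v = g.nroot (π⁻¹ (π⁻¹ a))) →
      ∀ t t' : L, Commute (g.xG (u : ℕ) t) (g.xG (v : ℕ) t'))
    {m : ℕ} (hm : ∀ x : L, (x ^ (q ^ 3) ^ m) = x) (hm0 : 0 < m)
    (hex : ∀ k : Lˣ, (∏ i ∈ Finset.range m, k ^ ((q ^ 3) ^ i)) = 1 →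
      ∃ μ ν : Lˣ, ∃ z : L, (μ : L) ^ q ^ 3 = (k : L) * μ ∧ (ν : L) ^ q ^ 3 = -(ν : L) ∧
        (z ^ q ^ 3) ^ q ^ 3 = z ∧ z - z ^ q ^ 3 = ((ν⁻¹ : Lˣ) : L)) :
    ∃ k ∈ D.group L, (∀ c : Fin D.rank → Lˣ, rootVal c a = 1 → rootVal c (π⁻¹ a : Fin D.nroots) = 1 →
        rootVal c (π⁻¹ (π⁻¹ a) : Fin D.nroots) = 1 → Commute k (torHom D L c)) ∧
      ∃ z ∈ D.monomialSubgroup L, (∃ (l : List (Fin D.rank)) (i : Fin D.rank),
        (g.wperm l (g.sroot i) : ℕ) = (a : ℕ) ∧ g.Acts z (g.wperm l * g.rperm i * (g.wperm l)⁻¹)) ∧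
        (gc * k)⁻¹ * scalarGL D φ (gc * k) = z * (gc⁻¹ * scalarGL D φ gc) := by
  classical
  set af := gc⁻¹ * scalarGL D φ gc with haf
  set σ := π⁻¹ with hσ
  have hσw : σ ∈ g.weyl := inv_mem hπw
  -- the twisted Frobenius
  let F' : GL D.Idx L →* GL D.Idx L := (MulAut.conj af).toMonoidHom.comp (scalarGL D φ)
  have hF' : ∀ x, F' x = af * scalarGL D φ x * af⁻¹ := fun x => rfl
  have hafm : af ∈ D.monomialSubgroup L := by
    rw [show af = gc⁻¹ * scalarGL D φ gc * n * n⁻¹ by rw [haf]; group]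
    exact mul_mem (Subgroup.mem_sup_left hafn) (inv_mem hn)
  have hafa : g.Acts af σ := by
    have := g.acts_mul (g.acts_diagonal hafn) (g.acts_inv hπ)
    rwa [one_mul, show gc⁻¹ * scalarGL D φ gc * n * n⁻¹ = af by rw [haf]; group] at this
  have hnσ : ∀ u, σ (g.nroot u) = g.nroot (σ u) := fun u => π.injective (by
    rw [hnr, hσ, show π (π⁻¹ (g.nroot u)) = g.nroot u from π.apply_symm_apply _,
      show π (π⁻¹ u) = u from π.apply_symm_apply _])
  have hstep : ∀ s : Fin D.nroots, ∃ c : Lˣ, (∀ t : L, F' (g.xG s t) = g.xG (σ s) ((c : L) * t ^ q)) ∧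
      ∀ t : L, F' (g.xG (g.nroot s : ℕ) t) = g.xG (g.nroot (σ s) : ℕ) (((c⁻¹ : Lˣ) : L) * t ^ q) := by
    intro s
    obtain ⟨c, h1, h2⟩ := g.monomial_pair hafm hσw hafa s
    exact ⟨c, fun t => by rw [hF', g.scalarGL_xG φ s.2, hφ, h1],
      fun t => by rw [hF', g.scalarGL_xG φ (g.nroot s).2, hφ, h2]⟩
  obtain ⟨c1, p1, m1⟩ := hstep a
  obtain ⟨c2, p2, m2⟩ := hstep (σ a)
  obtain ⟨c3, p3, m3⟩ := hstep (σ (σ a))
  have hσ3 : σ (σ (σ a)) = a := by
    apply π.injective; apply π.injective; apply π.injective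
    rw [h3, hσ]
    simp [Equiv.Perm.inv_def]
  set Q := q ^ 3 with hQ
  set K : Lˣ := c3 * c2 ^ q * c1 ^ (q ^ 2) with hK
  have e3 : ∀ t : L, F' (F' (F' (g.xG a t))) = g.xG a ((K : L) * t ^ Q) := fun t => by
    rw [p1, p2, p3, hσ3, hK, hQ]
    congr 1
    push_cast
    ring
  have e3' : ∀ t : L, F' (F' (F' (g.xG (g.nroot a : ℕ) t))) =
      g.xG (g.nroot a : ℕ) (((K⁻¹ : Lˣ) : L) * t ^ Q) := fun t => by
    rw [m1, m2, m3, hσ3, hK, hQ]
    congr 1
    rw [mul_inv, mul_inv, ← inv_pow, ← inv_pow]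
    push_cast
    ring
  obtain ⟨φa, hU, hL', hD'⟩ := g.exists_rootHom (F := L) a.2
  have hq3 : ∀ x : L, φ (φ (φ x)) = x ^ Q := fun x => by rw [hφ, hφ, hφ, hQ]; ring
  let Φ : L →+* L := φ.comp (φ.comp φ)
  have hΦ : ∀ x, Φ x = x ^ Q := hq3
  have hQ0 : Q ≠ 0 := by
    rintro h
    have := hΦ 0
    rw [h, map_zero, pow_zero] at this
    exact zero_ne_one this
  -- norm of K
  have hnorm : (∏ i ∈ Finset.range m, K ^ (Q ^ i)) = 1 := by
    have hpow : ∀ j : ℕ, ((F'^[3 * j]) (g.xG a 1)) = g.xG a (((∏ i ∈ Finset.range j, K ^ (Q ^ i)) : Lˣ) : L) := by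
      intro j
      induction j with
      | zero => simp
      | succ j ih =>
        rw [show 3 * (j + 1) = 3 + 3 * j by ring, Function.iterate_add_apply, ih]
        show F' (F' (F' _)) = _
        rw [e3, Finset.prod_range_succ']
        congr 1
        rw [← Units.val_pow_eq_pow_val, ← Units.val_mul, ← Finset.prod_pow, pow_zero, pow_one, mul_comm]
        refine congrArg Units.val (congrArg (· * K) (Finset.prod_congr rfl fun i _ => ?_))
        rw [← pow_mul, pow_succ]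
    have hiter : ∀ (j : ℕ) (x : GL D.Idx L),
        (F'^[j]) x = gc⁻¹ * (scalarGL D φ)^[j] (gc * x * gc⁻¹) * gc := by
      intro j
      induction j with
      | zero => intro x; simp [mul_assoc]
      | succ j ih =>
        intro x
        rw [Function.iterate_succ_apply', ih, hF', map_mul, map_mul, map_inv, Function.iterate_succ_apply', haf]
        group
    have hid : ∀ x : GL D.Idx L, (scalarGL D φ)^[3 * m] x = x := by
      intro x
      have hj : ∀ j, (((scalarGL D φ)^[j] x : GL D.Idx L) : Matrix D.Idx D.Idx L) =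
          (x : Matrix D.Idx D.Idx L).map (fun b => b ^ q ^ j) := by
        intro j
        induction j with
        | zero => ext u v; simp
        | succ j ih =>
          rw [Function.iterate_succ_apply']
          show Matrix.map (((scalarGL D φ)^[j] x : GL D.Idx L) : Matrix D.Idx D.Idx L) φ = _
          rw [ih]
          ext u v
          simp [hφ, ← pow_mul, pow_succ]
      refine Units.ext ?_
      rw [hj]
      ext u v
      rw [Matrix.map_apply, pow_mul, hm]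
    have h := hpow m
    rw [hiter, hid] at h
    have h' : g.xG a 1 = g.xG (a : ℕ) (((∏ i ∈ Finset.range m, K ^ (Q ^ i)) : Lˣ) : L) := by
      rw [← h]; group
    exact Units.ext (g.xG_arg_inj a.2 h').symm
  obtain ⟨μ, ν, z0, hμ, hν, hz, hzν⟩ := hex K hnorm
  obtain ⟨aM, haM⟩ := exists_lang_sl2 Φ μ ν (K : L) (by rw [hΦ, hμ]) (by rw [hΦ, hν])
    (by rw [hΦ, hΦ, hz]) (by rw [hΦ, hzν]) K rfl
  -- the three images
  set ψ1 : Matrix.SpecialLinearGroup (Fin 2) L →* GL D.Idx L := F'.comp φa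
  set ψ2 : Matrix.SpecialLinearGroup (Fin 2) L →* GL D.Idx L := F'.comp ψ1
  have hψ3 : F'.comp ψ2 = φa.comp ((sl2Diag K).comp (Matrix.SpecialLinearGroup.map Φ)) := by
    refine MonoidHom.eq_of_eqOn_dense (closure_slU_slL L) ?_
    rintro _ (⟨t, rfl⟩ | ⟨t, rfl⟩)
    · show F' (F' (F' (φa (slU t)))) = φa _
      rw [hU, e3, MonoidHom.comp_apply]
      rw [show sl2Diag K (Matrix.SpecialLinearGroup.map Φ (slU t)) = slU ((K : L) * t ^ Q) from Subtype.ext (by
        show !![Φ 1, (K : L) * Φ t; ((K⁻¹ : Lˣ) : L) * Φ 0, Φ 1] = !![1, (K : L) * t ^ Q; 0, 1]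
        simp [hΦ, hQ0]), hU]
    · show F' (F' (F' (φa (slL t)))) = φa _
      rw [hL', show (D.neg (a : ℕ)) = ((g.nroot a : Fin D.nroots) : ℕ) from rfl, e3', MonoidHom.comp_apply]
      rw [show sl2Diag K (Matrix.SpecialLinearGroup.map Φ (slL t)) = slL (((K⁻¹ : Lˣ) : L) * t ^ Q) from Subtype.ext (by
        show !![Φ 1, (K : L) * Φ 0; ((K⁻¹ : Lˣ) : L) * Φ t, Φ 1] = !![1, 0; ((K⁻¹ : Lˣ) : L) * t ^ Q, 1]
        simp [hΦ, hQ0]), hL']
      rfl
  -- generators of the images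
  have gen0 : ∀ M ∈ Set.range (slU (F := L)) ∪ Set.range slL,
      ∃ u, (u = a ∨ u = g.nroot a) ∧ ∃ t, φa M = g.xG (u : ℕ) t := by
    rintro _ (⟨t, rfl⟩ | ⟨t, rfl⟩)
    exacts [⟨a, Or.inl rfl, t, hU t⟩, ⟨g.nroot a, Or.inr rfl, t, hL' t⟩]
  have gen1 : ∀ M ∈ Set.range (slU (F := L)) ∪ Set.range slL,
      ∃ u, (u = σ a ∨ u = g.nroot (σ a)) ∧ ∃ t, ψ1 M = g.xG (u : ℕ) t := by
    intro M hM
    obtain ⟨u, hu, t, ht⟩ := gen0 M hM
    refine ⟨σ u, ?_, ?_⟩
    · rcases hu with rfl | rfl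
      exacts [Or.inl rfl, Or.inr (hnσ a)]
    · show ∃ t, F' (φa M) = _
      obtain ⟨c, h1, -⟩ := hstep u
      exact ⟨_, by rw [ht, h1]⟩
  have gen2 : ∀ M ∈ Set.range (slU (F := L)) ∪ Set.range slL,
      ∃ u, (u = σ (σ a) ∨ u = g.nroot (σ (σ a))) ∧ ∃ t, ψ2 M = g.xG (u : ℕ) t := by
    intro M hM
    obtain ⟨u, hu, t, ht⟩ := gen1 M hM
    refine ⟨σ u, ?_, ?_⟩
    · rcases hu with rfl | rfl
      exacts [Or.inl rfl, Or.inr (hnσ _)]
    · show ∃ t, F' (ψ1 M) = _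
      obtain ⟨c, h1, -⟩ := hstep u
      exact ⟨_, by rw [ht, h1]⟩
  have hcl : ∀ (f h : Matrix.SpecialLinearGroup (Fin 2) L →* GL D.Idx L),
      (∀ M ∈ Set.range (slU (F := L)) ∪ Set.range slL, ∀ N ∈ Set.range (slU (F := L)) ∪ Set.range slL,
        Commute (f M) (h N)) → ∀ M N, Commute (f M) (h N) := by
    intro f h hfh M N
    have h1 : ∀ M ∈ Set.range (slU (F := L)) ∪ Set.range slL, ∀ N, Commute (f M) (h N) := by
      intro M hM N
      have : (⊤ : Subgroup (Matrix.SpecialLinearGroup (Fin 2) L)) ≤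
          (Subgroup.centralizer {f M}).comap h := by
        rw [← closure_slU_slL L, Subgroup.closure_le]
        intro N hN
        exact Subgroup.mem_centralizer_singleton_iff.2 (hfh M hM N hN).eq.symm
      exact (Subgroup.mem_centralizer_singleton_iff.1 (this (Subgroup.mem_top N))).symm
    have : (⊤ : Subgroup (Matrix.SpecialLinearGroup (Fin 2) L)) ≤ (Subgroup.centralizer {h N}).comap f := by
      rw [← closure_slU_slL L, Subgroup.closure_le]
      intro M hM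
      exact Subgroup.mem_centralizer_singleton_iff.2 (h1 M hM N).eq
    exact Subgroup.mem_centralizer_singleton_iff.1 (this (Subgroup.mem_top M))
  have c01 : ∀ M N, Commute (φa M) (ψ1 N) := hcl _ _ fun M hM N hN => by
    obtain ⟨u, hu, t, ht⟩ := gen0 M hM
    obtain ⟨v, hv, t', ht'⟩ := gen1 N hN
    rw [ht, ht']
    exact hcomm u v hu (hv.imp id Or.inl) t t'
  have c02 : ∀ M N, Commute (φa M) (ψ2 N) := hcl _ _ fun M hM N hN => by
    obtain ⟨u, hu, t, ht⟩ := gen0 M hM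
    obtain ⟨v, hv, t', ht'⟩ := gen2 N hN
    rw [ht, ht']
    exact hcomm u v hu (Or.inr (Or.inr hv)) t t'
  have c12 : ∀ M N, Commute (ψ1 M) (ψ2 N) := hcl _ _ fun M hM N hN => by
    obtain ⟨u, hu, t, ht⟩ := gen1 M hM
    obtain ⟨v, hv, t', ht'⟩ := gen2 N hN
    rw [ht, ht']
    exact hcomm' u v hu hv t t'
  set k := φa aM * ψ1 aM * ψ2 aM with hk
  have hrange : ∀ (S : Subgroup (GL D.Idx L)), (∀ u : Fin D.nroots,
      (u = a ∨ u = g.nroot a ∨ u = σ a ∨ u = g.nroot (σ a) ∨ u = σ (σ a) ∨ u = g.nroot (σ (σ a))) →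
      ∀ t, g.xG (u : ℕ) t ∈ S) → k ∈ S := by
    intro S hS
    have hle : ∀ (f : Matrix.SpecialLinearGroup (Fin 2) L →* GL D.Idx L),
        (∀ M ∈ Set.range (slU (F := L)) ∪ Set.range slL, f M ∈ S) → f aM ∈ S := by
      intro f hf
      have : (⊤ : Subgroup (Matrix.SpecialLinearGroup (Fin 2) L)) ≤ S.comap f := by
        rw [← closure_slU_slL L, Subgroup.closure_le]; exact hf
      exact this (Subgroup.mem_top aM)
    refine mul_mem (mul_mem (hle _ fun M hM => ?_) (hle _ fun M hM => ?_)) (hle _ fun M hM => ?_)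
    · obtain ⟨u, hu, t, ht⟩ := gen0 M hM
      rw [ht]; exact hS u (by tauto) t
    · obtain ⟨u, hu, t, ht⟩ := gen1 M hM
      rw [ht]; exact hS u (by tauto) t
    · obtain ⟨u, hu, t, ht⟩ := gen2 M hM
      rw [ht]; exact hS u (by tauto) t
  refine ⟨k, hrange _ (fun u _ t => g.xG_mem_group u.2 t), fun c h1 h2 h3' => ?_,
    φa (slD (ν * μ⁻¹) * slW), ?_, ?_, ?_⟩
  · refine (Subgroup.mem_centralizer_singleton_iff.1 (hrange (Subgroup.centralizer {torHom D L c}) fun u hu t => ?_) :)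
    have hn : ∀ s : Fin D.nroots, rootVal c (s : ℕ) = 1 → rootVal c (g.nroot s : ℕ) = 1 := fun s hs => by
      have : rootVal c (D.neg (s : ℕ)) = (rootVal c (s : ℕ))⁻¹ := by
        simp only [rootVal, ← Finset.prod_inv_distrib]
        exact Finset.prod_congr rfl fun i _ => by rw [g.cartan_neg i.2 s.2, _root_.zpow_neg]
      show rootVal c (D.neg (s : ℕ)) = 1
      rw [this, hs, inv_one]
    have hu1 : rootVal c (u : ℕ) = 1 := by
      rcases hu with rfl | rfl | rfl | rfl | rfl | rfl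
      exacts [h1, hn _ h1, h2, hn _ h2, h3', hn _ h3']
    refine Subgroup.mem_centralizer_singleton_iff.2 ?_
    have := g.conj_rootVal c u.2 t
    rw [hu1, Units.val_one, one_mul] at this
    exact (mul_inv_eq_iff_eq_mul.1 this).symm
  · rw [map_mul φa, hD', slW_eq_slU_slL, map_mul φa, map_mul φa, hU, hL']
    refine mul_mem (Subgroup.mem_sup_left (g.hG_mem a.2 _)) ?_
    have := g.nG_mem (F := L) a.2
    simpa [Good.nG] using this
  · rw [map_mul φa, hD', slW_eq_slU_slL, map_mul φa, map_mul φa, hU, hL', show g.xG (a : ℕ) (1 : L) * g.xG (D.neg a) (-1) * g.xG (a : ℕ) 1 = g.nG (a : ℕ) 1 by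
        simp [Good.nG], ← g.nG_eq_hG_mul a.2]
    exact g.acts_nG a.2 _
  · have hFk : F' k = ψ1 aM * ψ2 aM * (φa aM * φa (slD (ν * μ⁻¹) * slW)) := by
      rw [hk, map_mul, map_mul, ← map_mul φa, ← haM]
      exact congrArg (ψ1 aM * ψ2 aM * ·) (DFunLike.congr_fun hψ3 aM)
    have hk' : k = ψ1 aM * ψ2 aM * φa aM := by
      rw [hk, mul_assoc, ((c01 aM aM).mul_right (c02 aM aM)).eq]
    calc (gc * k)⁻¹ * scalarGL D φ (gc * k) = k⁻¹ * (af * scalarGL D φ k * af⁻¹) * af := by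
          rw [map_mul, haf]; group
      _ = k⁻¹ * F' k * af := rfl
      _ = _ := by rw [hFk, hk']; group

end Good

end CfsgLib.Chev
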