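import Mathlib

/-!
Descent for a semilinear map of a plane of finite order.
-/

set_option autoImplicit false

namespace CfsgLib.Chev

open Matrix

/-- A semilinear operator of finite order on the plane fixes a basis. -/
theorem exists_descent_two {L : Type*} [Field L] (Φ : L →+* L) {n : ℕ} (hn : 0 < n)
    (hΦn : ∀ x, Φ^[n] x = x) (hord : ∀ i, 0 < i → i < n → ∃ x, Φ^[i] x ≠ x)
    (P : Matrix (Fin 2) (Fin 2) L) (Nj : ℕ → Matrix (Fin 2) (Fin 2) L) (h0 : Nj 0 = 1)
    (hs : ∀ j, Nj (j + 1) = P * (Nj j).map Φ) (hn1 : Nj n = 1) :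
    ∃ B : Matrix (Fin 2) (Fin 2) L, B.det ≠ 0 ∧ P * B.map Φ = B := by
  classical
  let Ψ : (Fin 2 → L) →+ (Fin 2 → L) :=
    { toFun := fun v => P *ᵥ fun i => Φ (v i)
      map_zero' := by simp [Matrix.mulVec, dotProduct]
      map_add' := fun u v => by
        rw [← Matrix.mulVec_add]; congr 1; funext i; simp }
  have hΨ : ∀ v, Ψ v = P *ᵥ fun i => Φ (v i) := fun _ => rfl
  have hit : ∀ (j : ℕ) (v : Fin 2 → L), Ψ^[j] v = Nj j *ᵥ fun i => Φ^[j] (v i) := by
    intro j
    induction j with
    | zero => intro v; simp [h0]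
    | succ j ih =>
      intro v
      rw [Function.iterate_succ_apply', ih, hΨ, hs, ← Matrix.mulVec_mulVec]
      congr 1
      funext i
      rw [RingHom.map_mulVec]
      congr 1
      funext k
      exact (Function.iterate_succ_apply' Φ j (v k)).symm
  set T : (Fin 2 → L) → Fin 2 → L := fun v => ∑ i ∈ Finset.range n, Ψ^[i] v with hT
  have hfix : ∀ v, Ψ (T v) = T v := fun v => by
    have e : ∀ i, Ψ (Ψ^[i] v) = Ψ^[i + 1] v := fun i => (Function.iterate_succ_apply' Ψ i v).symm
    have h := (Finset.sum_range_succ' (fun i => Ψ^[i] v) n).symm.trans (Finset.sum_range_succ (fun i => Ψ^[i] v) n)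
    simp only [hit n v, hn1, Matrix.one_mulVec, hΦn, Function.iterate_zero_apply] at h
    simp only [hT, map_sum, e]
    exact add_right_cancel h
  have key : ∀ α β : L, (α ≠ 0 ∨ β ≠ 0) → ∃ v, α * T v 0 + β * T v 1 ≠ 0 := by
    intro α β hne
    by_contra hall
    push Not at hall
    have hinj : Function.Injective fun i : Fin n => ((Φ ^ (i : ℕ) : L →+* L) : L →* L) := by
      intro i j hij
      by_contra hne'
      have hij' : ∀ x, Φ^[(i : ℕ)] x = Φ^[(j : ℕ)] x := fun x => by
        have := DFunLike.congr_fun hij x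
        simpa [RingHom.coe_pow] using this
      rcases Nat.lt_or_gt_of_ne (fun h => hne' (Fin.ext h)) with h | h
      · obtain ⟨x, hx⟩ := hord ((j : ℕ) - i) (by omega) (by omega)
        refine hx ((Function.Injective.iterate Φ.injective (i : ℕ)) ?_)
        rw [← Function.iterate_add_apply, show (i : ℕ) + ((j : ℕ) - i) = j by omega, hij']
      · obtain ⟨x, hx⟩ := hord ((i : ℕ) - j) (by omega) (by omega)
        refine hx ((Function.Injective.iterate Φ.injective (j : ℕ)) ?_)
        rw [← Function.iterate_add_apply, show (j : ℕ) + ((i : ℕ) - j) = i by omega, hij']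
    have hli := (linearIndependent_monoidHom L L).comp _ hinj
    have hz : ∀ v : Fin 2 → L, α * v 0 + β * v 1 = 0 := by
      intro v
      have h := Fintype.linearIndependent_iff.1 hli
        (fun i : Fin n => α * (Ψ^[(i : ℕ)] v) 0 + β * (Ψ^[(i : ℕ)] v) 1) ?_ ⟨0, hn⟩
      · simpa using h
      · funext e
        have h := hall (e • v)
        have he : ∀ i, Ψ^[i] (e • v) = Φ^[i] e • Ψ^[i] v := fun i => by
          rw [hit, hit, ← Matrix.mulVec_smul]
          congr 1
          funext k
          show Φ^[i] (e * v k) = Φ^[i] e * Φ^[i] (v k)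
          exact iterate_map_mul Φ i e (v k)
        simp only [hT, he, Finset.sum_apply, Pi.smul_apply, smul_eq_mul, Finset.mul_sum, ← Finset.sum_add_distrib] at h
        rw [Finset.sum_range] at h
        simp only [Finset.sum_apply, Pi.smul_apply, Function.comp_apply, smul_eq_mul, RingHom.coe_pow,
          MonoidHom.coe_coe, Pi.zero_apply]
        refine Eq.trans (Finset.sum_congr rfl fun i _ => ?_) h
        ring
    rcases hne with h | h
    · exact h (by simpa using hz ![1, 0])
    · exact h (by simpa using hz ![0, 1])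
  obtain ⟨x, hx⟩ := key 1 0 (Or.inl one_ne_zero)
  simp only [one_mul, zero_mul, add_zero] at hx
  obtain ⟨y, hy⟩ := key (-(T x 1)) (T x 0) (Or.inr hx)
  refine ⟨Matrix.of fun i j => (![T x, T y] : Fin 2 → Fin 2 → L) j i, ?_, ?_⟩
  · rw [Matrix.det_fin_two]
    simp only [Matrix.of_apply, Matrix.cons_val_zero, Matrix.cons_val_one]
    intro h
    exact hy (by linear_combination h)
  · ext i j
    rw [Matrix.mul_apply]
    simp only [Matrix.map_apply, Matrix.of_apply]
    fin_cases j
    · exact congrFun (hfix x) i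
    · exact congrFun (hfix y) i

end CfsgLib.Chev
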