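import Mathlib
import Cfsg.Agent.Lib.Chev.TorusChar
import Cfsg.Agent.Lib.Chev.Monomial

/-!
The canonical form of an element centralising an arbitrary element of the split torus.
-/

set_option autoImplicit false
set_option maxHeartbeats 800000

namespace CfsgLib.Chev

open Cfsg.Lie Matrix

namespace Good

variable {D : ChevalleyDatum} (g : Good D)
include g

variable {F : Type*} [Field F]

/-- A positive unipotent element fixed by a torus element lives on the roots of value one. -/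
theorem pos_fixed_mem (hc : HasComm D) {c : Fin D.rank → Fˣ} {x : GL D.Idx F} (hx : x ∈ D.posUnipotent F)
    (he : torHom D F c * x * (torHom D F c)⁻¹ = x) : x ∈ rootGen D F {r | rootVal c r = 1} := by
  rw [g.posUnipotent_eq] at hx
  obtain ⟨t, rfl⟩ := g.exists_xProd hc le_rfl hx
  have e : torHom D F c * g.xProd t (half D) * (torHom D F c)⁻¹ =
      g.xProd (fun r => (rootVal c r : F) * t r) (half D) := by
    show (MulAut.conj (torHom D F c)).toMonoidHom _ = _
    rw [xProd, map_list_prod, List.map_map, xProd]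
    refine congrArg List.prod (List.map_congr_left fun r hr => ?_)
    rw [List.mem_range'_1] at hr
    exact g.torHom_conj_xG c (by omega) (t r)
  rw [e] at he
  refine Subgroup.list_prod_mem _ fun y hy => ?_
  obtain ⟨r, hr, rfl⟩ := List.mem_map.1 hy
  rw [List.mem_range'_1] at hr
  by_cases ht : t r = 0
  · rw [ht, g.xG_zero]; exact one_mem _
  · exact g.mem_rootGen (by omega) (Units.ext ((mul_eq_right₀ ht).1 (g.xProd_inj le_rfl he hr.1 (by omega)))) _

/-- The canonical form of a centralising element. -/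
theorem centralizer_form (hc : HasComm D) {c : Fin D.rank → Fˣ} {y : GL D.Idx F} (hy : y ∈ D.group F)
    (he : y * torHom D F c = torHom D F c * y) :
    ∃ v ∈ rootGen D F {r | rootVal c r = 1}, ∃ m ∈ D.monomialSubgroup F, ∃ π ∈ g.weyl, g.Acts m π ∧
      (∀ s : Fin D.nroots, rootVal c (π s) = rootVal c s) ∧
      ∃ u ∈ rootGen D F {r | rootVal c r = 1}, y = v * m * u := by
  set h₁ := torHom D F c with hh₁
  have h1 : h₁ ∈ D.diagonalSubgroup F := g.torHom_mem c
  obtain ⟨b, hb, n, hn, π, hπw, hπ, u, hu, rfl⟩ := g.exists_canonical hc hy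
  obtain ⟨v, hv, h, hh, rfl⟩ := g.mem_borel.1 hb
  have hu1 : h₁⁻¹ * u * h₁ ∈ rootGen D F (minusSet π) := by
    have := (Subgroup.mem_normalizer_iff.1
      (g.diagonal_le_normalizer_rootGen (minusSet π) (inv_mem h1)) u).1 hu
    rwa [inv_inv] at this
  have hk : n * h₁ * n⁻¹ ∈ D.diagonalSubgroup F := g.diag_conj hn h1
  have hv2 : h₁ * v * h₁⁻¹ ∈ D.posUnipotent F :=
    (Subgroup.mem_normalizer_iff.1 (g.diagonal_le_normalizer_pos h1) v).1 hv
  have e : (v * (h * (n * h₁ * n⁻¹))) * n * (h₁⁻¹ * u * h₁) =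
      (h₁ * v * h₁⁻¹ * (h₁ * h)) * n * u := by
    calc (v * (h * (n * h₁ * n⁻¹))) * n * (h₁⁻¹ * u * h₁) = v * h * n * u * h₁ := by group
      _ = h₁ * (v * h * n * u) := he
      _ = _ := by group
  obtain ⟨e3, e5⟩ := g.canonical_unique
    (g.mem_borel.2 ⟨v, hv, _, mul_mem hh hk, rfl⟩) (g.mem_borel.2 ⟨_, hv2, _, mul_mem h1 hh, rfl⟩)
    hπ hu1 hu e
  have h3 : v⁻¹ * (h₁ * v * h₁⁻¹) ∈ D.posUnipotent F ⊓ D.diagonalSubgroup F := by
    refine Subgroup.mem_inf.2 ⟨mul_mem (inv_mem hv) hv2, ?_⟩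
    have : v⁻¹ * (h₁ * v * h₁⁻¹) = h * (n * h₁ * n⁻¹) * (h₁ * h)⁻¹ := by
      rw [eq_mul_inv_iff_mul_eq, mul_assoc v⁻¹, inv_mul_eq_iff_eq_mul]
      exact e3.symm
    rw [this]
    exact mul_mem (mul_mem hh hk) (inv_mem (mul_mem h1 hh))
  rw [g.pos_inf_diagonal, Subgroup.mem_bot, inv_mul_eq_one] at h3
  rw [← h3] at e3
  have e4 : h * (n * h₁ * n⁻¹) = h₁ * h := mul_left_cancel e3
  rw [g.diagonal_comm h1 hh] at e4
  have hnt : n * h₁ * n⁻¹ = h₁ := mul_left_cancel e4
  refine ⟨v, g.pos_fixed_mem hc hv h3.symm, h * n, mul_mem (Subgroup.mem_sup_left hh) hn, π, hπw,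
    by simpa using g.acts_mul (g.acts_diagonal hh) hπ, fun s => g.rootVal_conj hπ hnt s, u,
    g.pos_fixed_mem hc (g.minus_le_pos π hu) ?_, by group⟩
  calc h₁ * u * h₁⁻¹ = h₁ * (h₁⁻¹ * u * h₁) * h₁⁻¹ := by rw [e5]
    _ = u := by group

/-- A monomial element moves a root subsystem group as its permutation does. -/
theorem conj_rootGen_set {m : GL D.Idx F} {π : Equiv.Perm (Fin D.nroots)} (hπ : g.Acts m π) {S : Set ℕ}
    (hS : ∀ s : Fin D.nroots, (s : ℕ) ∈ S → (π s : ℕ) ∈ S) {x : GL D.Idx F} (hx : x ∈ rootGen D F S) :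
    m * x * m⁻¹ ∈ rootGen D F S := by
  refine (g.rootGen_le (K := (rootGen D F S).comap (MulAut.conj m).toMonoidHom) ?_) hx
  intro r hr hrn t
  obtain ⟨c, hc⟩ := hπ ⟨r, hrn⟩
  show m * g.xG r t * m⁻¹ ∈ rootGen D F S
  rw [hc t]
  exact g.mem_rootGen (π ⟨r, hrn⟩).2 (hS _ hr) _

end Good

end CfsgLib.Chev
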