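import Mathlib
import Cfsg.Agent.Lib.Chev.OrthLang
import Cfsg.Agent.Lib.Chev.SemiDescent
import Cfsg.Agent.Lib.Chev.TorusCentForm

/-!
Lang's equation on three commuting rank one subgroups permuted cyclically: any element of the three
subgroups times a monomial element can be made monomial.
-/

set_option autoImplicit false
set_option maxHeartbeats 1000000

namespace CfsgLib.Chev

open Cfsg.Lie Matrix

lemma slU_conj {L : Type*} [Field L] (Z : Matrix.SpecialLinearGroup (Fin 2) L) (hc : Z.1 1 0 ≠ 0) :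
    Z * slU 1 * Z⁻¹ = slU (Z.1 0 0 / Z.1 1 0) * slL (-(Z.1 1 0 * Z.1 1 0)) * slU (-(Z.1 0 0 / Z.1 1 0)) := by
  have h := Z.2
  rw [Matrix.det_fin_two] at h
  refine Subtype.ext ?_
  show Z.1 * !![1, 1; 0, 1] * Z.1.adjugate = !![1, Z.1 0 0 / Z.1 1 0; 0, 1] * !![1, 0; -(Z.1 1 0 * Z.1 1 0), 1] *
    !![1, -(Z.1 0 0 / Z.1 1 0); 0, 1]
  rw [Matrix.adjugate_fin_two]
  ext i j
  fin_cases i <;> fin_cases j <;>
    simp [Matrix.mul_apply, Fin.sum_univ_two, Matrix.vecMul, dotProduct] <;> field_simp <;>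
    first
      | linear_combination h
      | linear_combination (Z.1 1 0) * h
      | linear_combination -h
      | ring

lemma slW_conj_slL {L : Type*} [Field L] (t : L) :
    (slW : Matrix.SpecialLinearGroup (Fin 2) L) * slL t * slW⁻¹ = slU (-t) := by
  refine Subtype.ext ?_
  show !![0, 1; -1, 0] * !![1, 0; t, 1] * (!![0, 1; -1, 0] : Matrix (Fin 2) (Fin 2) L).adjugate = !![1, -t; 0, 1]
  rw [Matrix.adjugate_fin_two]
  simp [Matrix.mul_fin_two]

namespace Good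

variable {D : ChevalleyDatum} (g : Good D)
include g

variable {L : Type*} [Field L]

lemma rootHom_upper {a : Fin D.nroots} {φa : Matrix.SpecialLinearGroup (Fin 2) L →* GL D.Idx L}
    (hU : ∀ t, φa (slU t) = g.xG (a : ℕ) t) (hL : ∀ t, φa (slL t) = g.xG (D.neg a) t)
    {Z : Matrix.SpecialLinearGroup (Fin 2) L} {u : L} (h : φa Z = g.xG (a : ℕ) u) : Z.1 1 0 = 0 := by
  by_contra hc
  set α := Z.1 0 0 / Z.1 1 0
  have hxx : ∀ s t : L, g.xG (a : ℕ) s * g.xG (a : ℕ) t = g.xG (a : ℕ) (s + t) := fun s t => g.xG_add _ s t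
  have h1 : φa (Z * slU 1 * Z⁻¹) = g.xG (a : ℕ) 1 := by
    rw [map_mul, map_mul, map_inv, h, hU, mul_inv_eq_iff_eq_mul, hxx, hxx, add_comm]
  rw [slU_conj Z hc, map_mul, map_mul, hU, hL, hU] at h1
  have h2 : g.xG (D.neg a) (-(Z.1 1 0 * Z.1 1 0)) = g.xG (a : ℕ) (1 : L) := by
    calc g.xG (D.neg a) (-(Z.1 1 0 * Z.1 1 0)) =
        g.xG (a : ℕ) (-α) * (g.xG (a : ℕ) α * g.xG (D.neg a) (-(Z.1 1 0 * Z.1 1 0)) * g.xG (a : ℕ) (-α)) *
          g.xG (a : ℕ) α := by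
          simp only [← mul_assoc, hxx, neg_add_cancel, g.xG_zero, one_mul]
          rw [mul_assoc, hxx, neg_add_cancel, g.xG_zero, mul_one]
      _ = _ := by rw [h1, hxx, hxx]; congr 1; ring
  exact one_ne_zero (g.eq_of_xG_eq a.2 (g.neg_lt a.2) (fun e => g.neg_ne a.2 e.symm) h2.symm)

/-- Conjugation fixing both root groups is scalar. -/
theorem rootHom_scalar {a : Fin D.nroots} {φa : Matrix.SpecialLinearGroup (Fin 2) L →* GL D.Idx L}
    (hU : ∀ t, φa (slU t) = g.xG (a : ℕ) t) (hL : ∀ t, φa (slL t) = g.xG (D.neg a) t)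
    (N : GL (Fin 2) L) (cj : Matrix.SpecialLinearGroup (Fin 2) L → Matrix.SpecialLinearGroup (Fin 2) L)
    (hcj : ∀ X, (cj X).1 = N.1 * X.1 * (N⁻¹).1) (h : ∀ X, φa (cj X) = φa X) :
    ∃ s : Lˣ, N.1 = (s : L) • 1 := by
  have hdet : N.1 0 0 * N.1 1 1 - N.1 0 1 * N.1 1 0 ≠ 0 := by
    rw [← Matrix.det_fin_two]; exact (Matrix.GeneralLinearGroup.det N).ne_zero
  set δ := N.1 0 0 * N.1 1 1 - N.1 0 1 * N.1 1 0 with hδ
  have hinv : (N⁻¹).1 = δ⁻¹ • !![N.1 1 1, -N.1 0 1; -N.1 1 0, N.1 0 0] := by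
    rw [Matrix.coe_units_inv, Matrix.inv_def, Matrix.adjugate_fin_two, Matrix.det_fin_two, Ring.inverse_eq_inv]
  have hu : φa (cj (slU 1)) = g.xG (a : ℕ) 1 := by rw [h, hU]
  have c0 : N.1 1 0 = 0 := by
    have e := g.rootHom_upper hU hL hu
    rw [hcj, hinv, Matrix.mul_smul, Matrix.smul_apply, smul_eq_mul, mul_eq_zero] at e
    have e' := e.resolve_left (inv_ne_zero hdet)
    simp [slU, Matrix.mul_apply, Fin.sum_univ_two] at e'
    by_contra hc
    exact hc (by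
      have : N.1 1 0 * N.1 1 0 = 0 := by linear_combination -e'
      exact mul_self_eq_zero.1 this)
  have b0 : N.1 0 1 = 0 := by
    have e : φa (slW * cj (slL 1) * slW⁻¹) = g.xG (a : ℕ) (-1) := by
      rw [map_mul, map_mul, h, ← map_mul, ← map_mul, slW_conj_slL, hU]
    have e2 := g.rootHom_upper hU hL e
    rw [Matrix.SpecialLinearGroup.coe_mul, Matrix.SpecialLinearGroup.coe_mul,
      show (slW⁻¹ : Matrix.SpecialLinearGroup (Fin 2) L).1 = (!![0, -1; 1, 0] : Matrix (Fin 2) (Fin 2) L) from by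
        rw [Matrix.SpecialLinearGroup.coe_inv]; simp [slW, Matrix.adjugate_fin_two]] at e2
    simp [slW, Matrix.mul_apply, Fin.sum_univ_two, Matrix.vecMul, dotProduct] at e2
    rw [hcj, hinv, Matrix.mul_smul, Matrix.smul_apply, smul_eq_mul, mul_eq_zero] at e2
    have e' := e2.resolve_left (inv_ne_zero hdet)
    simp [slL, Matrix.mul_apply, Fin.sum_univ_two] at e'
    have : N.1 0 1 * N.1 0 1 = 0 := by linear_combination -e'
    exact mul_self_eq_zero.1 this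
  have ha : N.1 0 0 ≠ 0 := fun h0 => hdet (by rw [hδ, h0, c0]; ring)
  have hd : N.1 1 1 ≠ 0 := fun h0 => hdet (by rw [hδ, h0, c0]; ring)
  have had : N.1 0 0 = N.1 1 1 := by
    have e : cj (slU 1) = slU (N.1 0 0 / N.1 1 1) := Subtype.ext (by
      show (cj (slU 1)).1 = !![1, N.1 0 0 / N.1 1 1; 0, 1]
      rw [hcj, hinv, hδ, c0, b0]
      ext i j
      fin_cases i <;> fin_cases j <;>
        simp [slU, Matrix.mul_apply, Fin.sum_univ_two, c0, b0] <;> field_simp)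
    have e2 := h (slU 1)
    rw [e, hU, hU] at e2
    have := g.xG_arg_inj a.2 e2
    field_simp at this
    exact this
  refine ⟨Units.mk0 _ ha, ?_⟩
  ext i j
  fin_cases i <;> fin_cases j <;> simp [c0, b0, had]

/-- Three commuting rank one subgroups. -/
theorem exists_triple_hom {φ1 φ2 φ3 : Matrix.SpecialLinearGroup (Fin 2) L →* GL D.Idx L}
    (c12 : ∀ M N, Commute (φ1 M) (φ2 N)) (c13 : ∀ M N, Commute (φ1 M) (φ3 N)) (c23 : ∀ M N, Commute (φ2 M) (φ3 N)) :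
    ∃ P : Matrix.SpecialLinearGroup (Fin 2) L × Matrix.SpecialLinearGroup (Fin 2) L ×
      Matrix.SpecialLinearGroup (Fin 2) L →* GL D.Idx L, ∀ x y z, P (x, y, z) = φ1 x * φ2 y * φ3 z := by
  refine ⟨φ1.noncommCoprod (φ2.noncommCoprod φ3 c23) (fun M N => ?_), fun x y z => ?_⟩
  · rw [MonoidHom.noncommCoprod_apply]
    exact (c12 M N.1).mul_right (c13 M N.2)
  · rw [MonoidHom.noncommCoprod_apply, MonoidHom.noncommCoprod_apply, mul_assoc]

/-- The gauge. -/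
theorem exists_gauge (q : ℕ) (φ : L →+* L) (hφ : ∀ x, φ x = x ^ q) (gc : GL D.Idx L)
    {M : GL D.Idx L} (hM : M ∈ D.monomialSubgroup L) {σ : Equiv.Perm (Fin D.nroots)} (hσw : σ ∈ g.weyl)
    (hσ : g.Acts M σ) {a : Fin D.nroots} (h3 : σ (σ (σ a)) = a) (hnσ : ∀ u, σ (g.nroot u) = g.nroot (σ u))
    (hcomm : ∀ u v, (u = a ∨ u = g.nroot a) →
      (v = σ a ∨ v = g.nroot (σ a) ∨ v = σ (σ a) ∨ v = g.nroot (σ (σ a))) →
      ∀ t t' : L, Commute (g.xG (u : ℕ) t) (g.xG (v : ℕ) t'))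
    (hcomm' : ∀ u v, (u = σ a ∨ u = g.nroot (σ a)) → (v = σ (σ a) ∨ v = g.nroot (σ (σ a))) →
      ∀ t t' : L, Commute (g.xG (u : ℕ) t) (g.xG (v : ℕ) t'))
    {S : Set ℕ} (hS : ∀ u : Fin D.nroots, (u : ℕ) ∈ S →
      u = a ∨ u = g.nroot a ∨ u = σ a ∨ u = g.nroot (σ a) ∨ u = σ (σ a) ∨ u = g.nroot (σ (σ a)))
    {k₀ : GL D.Idx L} (hk₀ : k₀ ∈ rootGen D L S) (haf : gc⁻¹ * scalarGL D φ gc = k₀ * M)
    {m : ℕ} (hm : ∀ x : L, x ^ (q ^ 3) ^ m = x) (hm0 : 0 < m)
    (hord : ∀ i, 0 < i → i < m → ∃ x : L, x ^ (q ^ 3) ^ i ≠ x)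
    (hnorm : ∀ s : Lˣ, s ^ q ^ 3 = s → ∃ w : Lˣ, (∏ i ∈ Finset.range m, w ^ ((q ^ 3) ^ i)) = s) :
    ∃ k ∈ D.group L, (∀ c : Fin D.rank → Lˣ, rootVal c a = 1 → rootVal c (σ a : Fin D.nroots) = 1 →
        rootVal c (σ (σ a) : Fin D.nroots) = 1 → Commute k (torHom D L c)) ∧
      (gc * k)⁻¹ * scalarGL D φ (gc * k) ∈ D.monomialSubgroup L ∧
      g.Acts ((gc * k)⁻¹ * scalarGL D φ (gc * k)) σ := by
  classical
  let F : GL D.Idx L →* GL D.Idx L := (MulAut.conj M).toMonoidHom.comp (scalarGL D φ)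
  have hF : ∀ x, F x = M * scalarGL D φ x * M⁻¹ := fun x => rfl
  have hstep : ∀ s : Fin D.nroots, ∃ c : Lˣ, (∀ t : L, F (g.xG s t) = g.xG (σ s) ((c : L) * t ^ q)) ∧
      ∀ t : L, F (g.xG (g.nroot s : ℕ) t) = g.xG (g.nroot (σ s) : ℕ) (((c⁻¹ : Lˣ) : L) * t ^ q) := by
    intro s
    obtain ⟨c, h1, h2⟩ := g.monomial_pair hM hσw hσ s
    exact ⟨c, fun t => by rw [hF, g.scalarGL_xG φ s.2, hφ, h1],
      fun t => by rw [hF, g.scalarGL_xG φ (g.nroot s).2, hφ, h2]⟩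
  obtain ⟨c1, p1, m1⟩ := hstep a
  obtain ⟨c2, p2, m2⟩ := hstep (σ a)
  obtain ⟨c3, p3, m3⟩ := hstep (σ (σ a))
  set Q := q ^ 3 with hQ
  set K : Lˣ := c3 * c2 ^ q * c1 ^ (q ^ 2) with hK
  have e3 : ∀ t : L, F (F (F (g.xG a t))) = g.xG a ((K : L) * t ^ Q) := fun t => by
    rw [p1, p2, p3, h3, hK, hQ]
    congr 1
    push_cast
    ring
  have e3' : ∀ t : L, F (F (F (g.xG (g.nroot a : ℕ) t))) =
      g.xG (g.nroot a : ℕ) (((K⁻¹ : Lˣ) : L) * t ^ Q) := fun t => by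
    rw [m1, m2, m3, h3, hK, hQ]
    congr 1
    rw [mul_inv, mul_inv, ← inv_pow, ← inv_pow]
    push_cast
    ring
  clear_value Q
  obtain ⟨φ1, hU, hL', hD'⟩ := g.exists_rootHom (F := L) a.2
  let Φ : L →+* L := φ.comp (φ.comp φ)
  have hΦ : ∀ x, Φ x = x ^ Q := fun x => by
    show φ (φ (φ x)) = _
    rw [hφ, hφ, hφ, hQ]; ring
  have hΦj : ∀ (j : ℕ) (x : L), Φ^[j] x = x ^ Q ^ j := by
    intro j
    induction j with
    | zero => intro x; simp
    | succ j ih => intro x; rw [Function.iterate_succ_apply', ih, hΦ, ← pow_mul, ← pow_succ]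
  have hQ0 : Q ≠ 0 := by
    rintro h
    have := hΦ 0
    rw [h, map_zero, pow_zero] at this
    exact zero_ne_one this
  have hq0 : q ≠ 0 := fun h => hQ0 (by rw [hQ, h]; rfl)
  have hqsurj : ∀ y : L, ∃ t : L, t ^ q = y := fun y => ⟨y ^ (q ^ 2 * Q ^ (m - 1)), by
    rw [← pow_mul, show q ^ 2 * Q ^ (m - 1) * q = q ^ 3 * Q ^ (m - 1) by ring, ← hQ, ← pow_succ',
      Nat.sub_add_cancel hm0]
    exact hm y⟩
  let θ : Matrix.SpecialLinearGroup (Fin 2) L →* Matrix.SpecialLinearGroup (Fin 2) L :=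
    (sl2Diag K).comp (Matrix.SpecialLinearGroup.map Φ)
  set φ2 : Matrix.SpecialLinearGroup (Fin 2) L →* GL D.Idx L := F.comp φ1
  set φ3 : Matrix.SpecialLinearGroup (Fin 2) L →* GL D.Idx L := F.comp φ2
  have hψ3 : F.comp φ3 = φ1.comp θ := by
    refine MonoidHom.eq_of_eqOn_dense (closure_slU_slL L) ?_
    rintro _ (⟨t, rfl⟩ | ⟨t, rfl⟩)
    · show F (F (F (φ1 (slU t)))) = φ1 _
      rw [hU, e3, MonoidHom.comp_apply]
      rw [show sl2Diag K (Matrix.SpecialLinearGroup.map Φ (slU t)) = slU ((K : L) * t ^ Q) from Subtype.ext (by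
        show !![Φ 1, (K : L) * Φ t; ((K⁻¹ : Lˣ) : L) * Φ 0, Φ 1] = !![1, (K : L) * t ^ Q; 0, 1]
        simp [hΦ, hQ0]), hU]
    · show F (F (F (φ1 (slL t)))) = φ1 _
      rw [hL', show (D.neg (a : ℕ)) = ((g.nroot a : Fin D.nroots) : ℕ) from rfl, e3', MonoidHom.comp_apply]
      rw [show sl2Diag K (Matrix.SpecialLinearGroup.map Φ (slL t)) = slL (((K⁻¹ : Lˣ) : L) * t ^ Q) from Subtype.ext (by
        show !![Φ 1, (K : L) * Φ 0; ((K⁻¹ : Lˣ) : L) * Φ t, Φ 1] = !![1, 0; ((K⁻¹ : Lˣ) : L) * t ^ Q, 1]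
        simp [hΦ, hQ0]), hL']
      rfl
  set G0 := Set.range (slU (F := L)) ∪ Set.range slL
  have gen0 : ∀ X ∈ G0, ∃ u, (u = a ∨ u = g.nroot a) ∧ ∃ t, φ1 X = g.xG (u : ℕ) t := by
    rintro _ (⟨t, rfl⟩ | ⟨t, rfl⟩)
    exacts [⟨a, Or.inl rfl, t, hU t⟩, ⟨g.nroot a, Or.inr rfl, t, hL' t⟩]
  have gen1 : ∀ X ∈ G0, ∃ u, (u = σ a ∨ u = g.nroot (σ a)) ∧ ∃ t, φ2 X = g.xG (u : ℕ) t := by
    intro X hX
    obtain ⟨u, hu, t, ht⟩ := gen0 X hX
    refine ⟨σ u, ?_, ?_⟩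
    · rcases hu with rfl | rfl
      exacts [Or.inl rfl, Or.inr (hnσ a)]
    · show ∃ t, F (φ1 X) = _
      obtain ⟨c, h1, -⟩ := hstep u
      exact ⟨_, by rw [ht, h1]⟩
  have gen2 : ∀ X ∈ G0, ∃ u, (u = σ (σ a) ∨ u = g.nroot (σ (σ a))) ∧ ∃ t, φ3 X = g.xG (u : ℕ) t := by
    intro X hX
    obtain ⟨u, hu, t, ht⟩ := gen1 X hX
    refine ⟨σ u, ?_, ?_⟩
    · rcases hu with rfl | rfl
      exacts [Or.inl rfl, Or.inr (hnσ _)]
    · show ∃ t, F (φ2 X) = _
      obtain ⟨c, h1, -⟩ := hstep u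
      exact ⟨_, by rw [ht, h1]⟩
  have hcl : ∀ (f h : Matrix.SpecialLinearGroup (Fin 2) L →* GL D.Idx L),
      (∀ X ∈ G0, ∀ N ∈ G0, Commute (f X) (h N)) → ∀ X N, Commute (f X) (h N) := by
    intro f h hfh X N
    have h1 : ∀ X ∈ G0, ∀ N, Commute (f X) (h N) := by
      intro X hX N
      have : (⊤ : Subgroup (Matrix.SpecialLinearGroup (Fin 2) L)) ≤
          (Subgroup.centralizer {f X}).comap h := by
        rw [← closure_slU_slL L, Subgroup.closure_le]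
        intro N hN
        exact Subgroup.mem_centralizer_singleton_iff.2 (hfh X hX N hN).eq.symm
      exact (Subgroup.mem_centralizer_singleton_iff.1 (this (Subgroup.mem_top N))).symm
    have : (⊤ : Subgroup (Matrix.SpecialLinearGroup (Fin 2) L)) ≤ (Subgroup.centralizer {h N}).comap f := by
      rw [← closure_slU_slL L, Subgroup.closure_le]
      intro X hX
      exact Subgroup.mem_centralizer_singleton_iff.2 (h1 X hX N).eq
    exact Subgroup.mem_centralizer_singleton_iff.1 (this (Subgroup.mem_top X))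
  have c12 : ∀ X N, Commute (φ1 X) (φ2 N) := hcl _ _ fun X hX N hN => by
    obtain ⟨u, hu, t, ht⟩ := gen0 X hX
    obtain ⟨v, hv, t', ht'⟩ := gen1 N hN
    rw [ht, ht']
    exact hcomm u v hu (hv.imp id Or.inl) t t'
  have c13 : ∀ X N, Commute (φ1 X) (φ3 N) := hcl _ _ fun X hX N hN => by
    obtain ⟨u, hu, t, ht⟩ := gen0 X hX
    obtain ⟨v, hv, t', ht'⟩ := gen2 N hN
    rw [ht, ht']
    exact hcomm u v hu (Or.inr (Or.inr hv)) t t'
  have c23 : ∀ X N, Commute (φ2 X) (φ3 N) := hcl _ _ fun X hX N hN => by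
    obtain ⟨u, hu, t, ht⟩ := gen1 X hX
    obtain ⟨v, hv, t', ht'⟩ := gen2 N hN
    rw [ht, ht']
    exact hcomm' u v hu hv t t'
  obtain ⟨P, hP⟩ := exists_triple_hom (D := D) g c12 c13 c23
  have hPin : ∀ (T : Subgroup (GL D.Idx L)), (∀ u : Fin D.nroots,
      (u = a ∨ u = g.nroot a ∨ u = σ a ∨ u = g.nroot (σ a) ∨ u = σ (σ a) ∨ u = g.nroot (σ (σ a))) →
      ∀ t, g.xG (u : ℕ) t ∈ T) → ∀ x, P x ∈ T := by
    intro T hT x
    have hle : ∀ (f : Matrix.SpecialLinearGroup (Fin 2) L →* GL D.Idx L),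
        (∀ X ∈ G0, f X ∈ T) → ∀ X, f X ∈ T := by
      intro f hf X
      have : (⊤ : Subgroup (Matrix.SpecialLinearGroup (Fin 2) L)) ≤ T.comap f := by
        rw [← closure_slU_slL L, Subgroup.closure_le]; exact hf
      exact this (Subgroup.mem_top X)
    rw [← Prod.mk.eta (p := x), ← Prod.mk.eta (p := x.2), hP]
    refine mul_mem (mul_mem (hle _ (fun X hX => ?_) _) (hle _ (fun X hX => ?_) _)) (hle _ (fun X hX => ?_) _)
    · obtain ⟨u, hu, t, ht⟩ := gen0 X hX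
      rw [ht]; exact hT u (by tauto) t
    · obtain ⟨u, hu, t, ht⟩ := gen1 X hX
      rw [ht]; exact hT u (by tauto) t
    · obtain ⟨u, hu, t, ht⟩ := gen2 X hX
      rw [ht]; exact hT u (by tauto) t
  have hroot2 : ∀ (b : Fin D.nroots) (f : Matrix.SpecialLinearGroup (Fin 2) L →* GL D.Idx L) (c : Lˣ),
      (∀ t, f (slU t) = g.xG (b : ℕ) ((c : L) * t ^ q)) → ∀ t, g.xG (b : ℕ) t ∈ f.range := fun b f c hf t => by
    obtain ⟨s, hs⟩ := hqsurj (((c⁻¹ : Lˣ) : L) * t)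
    exact ⟨slU s, by rw [hf, hs, ← mul_assoc, ← Units.val_mul, mul_inv_cancel, Units.val_one, one_mul]⟩
  have hneg2 : ∀ (b : Fin D.nroots) (f : Matrix.SpecialLinearGroup (Fin 2) L →* GL D.Idx L) (c : Lˣ),
      (∀ t, f (slL t) = g.xG (b : ℕ) ((c : L) * t ^ q)) → ∀ t, g.xG (b : ℕ) t ∈ f.range := fun b f c hf t => by
    obtain ⟨s, hs⟩ := hqsurj (((c⁻¹ : Lˣ) : L) * t)
    exact ⟨slL s, by rw [hf, hs, ← mul_assoc, ← Units.val_mul, mul_inv_cancel, Units.val_one, one_mul]⟩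
  have q1 : ∀ t, φ2 (slU t) = g.xG (σ a : ℕ) ((c1 : L) * t ^ q) := fun t => by
    show F (φ1 (slU t)) = _; rw [hU, p1]
  have n1 : ∀ t, φ2 (slL t) = g.xG (g.nroot (σ a) : ℕ) (((c1⁻¹ : Lˣ) : L) * t ^ q) := fun t => by
    show F (φ1 (slL t)) = _
    rw [hL', show (D.neg (a : ℕ)) = ((g.nroot a : Fin D.nroots) : ℕ) from rfl, m1]
  have hsurj : rootGen D L S ≤ P.range := by
    refine g.rootGen_le fun r hr hrn t => ?_
    have hP1 : φ1.range ≤ P.range := by rintro _ ⟨X, rfl⟩; exact ⟨(X, 1, 1), by rw [hP]; simp⟩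
    have hP2 : φ2.range ≤ P.range := by rintro _ ⟨X, rfl⟩; exact ⟨(1, X, 1), by rw [hP]; simp⟩
    have hP3 : φ3.range ≤ P.range := by rintro _ ⟨X, rfl⟩; exact ⟨(1, 1, X), by rw [hP]; simp⟩
    have hu := hS ⟨r, hrn⟩ hr
    simp only [Fin.ext_iff] at hu
    rcases hu with h | h | h | h | h | h <;> subst h
    · exact hP1 ⟨slU t, hU t⟩
    · exact hP1 ⟨slL t, hL' t⟩
    · exact hP2 (hroot2 _ φ2 c1 q1 t)
    · exact hP2 (hneg2 _ φ2 c1⁻¹ n1 t)
    · refine hP3 (?_ : _ ∈ φ3.range)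
      obtain ⟨s, hs⟩ := hqsurj (((c2⁻¹ : Lˣ) : L) * t)
      obtain ⟨X, hX⟩ := hroot2 _ φ2 c1 q1 s
      exact ⟨X, by
        show F (φ2 X) = _
        rw [hX, p2, hs, ← mul_assoc, ← Units.val_mul, mul_inv_cancel, Units.val_one, one_mul]⟩
    · refine hP3 (?_ : _ ∈ φ3.range)
      obtain ⟨s, hs⟩ := hqsurj ((c2 : L) * t)
      obtain ⟨X, hX⟩ := hneg2 _ φ2 c1⁻¹ n1 s
      exact ⟨X, by
        show F (φ2 X) = _
        rw [hX, m2, hs, ← mul_assoc, ← Units.val_mul, inv_mul_cancel, Units.val_one, one_mul]⟩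
  obtain ⟨⟨A1, A2, A3⟩, hA⟩ := hsurj hk₀
  have hFP : ∀ x y z, F (P (x, y, z)) = P (θ z, x, y) := by
    intro x y z
    rw [hP, hP, map_mul, map_mul, show F (φ3 z) = φ1 (θ z) from DFunLike.congr_fun hψ3 z]
    show φ2 x * φ3 y * φ1 (θ z) = φ1 (θ z) * φ2 x * φ3 y
    rw [mul_assoc, ← (c13 (θ z) y).eq, ← mul_assoc, ← (c12 (θ z) x).eq]
  -- the composite twist
  let F' : GL D.Idx L →* GL D.Idx L := (MulAut.conj k₀).toMonoidHom.comp F
  have hF' : ∀ x, F' x = k₀ * F x * k₀⁻¹ := fun x => rfl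
  have hF'P : ∀ x y z, F' (P (x, y, z)) = P (A1 * θ z * A1⁻¹, A2 * x * A2⁻¹, A3 * y * A3⁻¹) := by
    intro x y z
    rw [hF', hFP, ← hA, ← map_inv, ← map_mul, ← map_mul]
    rfl
  set MM := A1 * θ (A3 * A2) with hMM
  let DK : GL (Fin 2) L := ⟨!![(K : L), 0; 0, 1], !![((K⁻¹ : Lˣ) : L), 0; 0, 1],
    by simp [Matrix.mul_fin_two, Matrix.one_fin_two], by simp [Matrix.mul_fin_two, Matrix.one_fin_two]⟩
  have hθv : ∀ X, (θ X).1 = DK.1 * X.1.map Φ * (DK⁻¹).1 := by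
    intro X
    show (sl2Diag K (Matrix.SpecialLinearGroup.map Φ X)).1 = !![(K : L), 0; 0, 1] * X.1.map Φ * !![((K⁻¹ : Lˣ) : L), 0; 0, 1]
    rw [sl2Diag_val]
    ext i j
    fin_cases i <;> fin_cases j <;> simp [Matrix.mul_apply, Fin.sum_univ_two, Matrix.vecMul, dotProduct] <;> field_simp
  set N : GL (Fin 2) L := Matrix.SpecialLinearGroup.toGL MM * DK with hN
  let mapΦ : GL (Fin 2) L →* GL (Fin 2) L := Units.map Φ.mapMatrix.toMonoidHom
  let Nj : ℕ → GL (Fin 2) L := fun j => Nat.rec 1 (fun _ p => N * mapΦ p) j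
  have hNj : ∀ j, Nj (j + 1) = N * mapΦ (Nj j) := fun j => rfl
  let cj : ℕ → Matrix.SpecialLinearGroup (Fin 2) L → Matrix.SpecialLinearGroup (Fin 2) L := fun j X =>
    ⟨(Nj j).1 * (X.1.map (Φ^[j])) * ((Nj j)⁻¹).1, by
      rw [Matrix.det_units_conj]
      have : X.1.map (Φ^[j]) = (Φ ^ j).mapMatrix X.1 := by rw [← RingHom.coe_pow]; rfl
      rw [this, ← RingHom.map_det, X.2, map_one]⟩
  have hcube : ∀ X, F' (F' (F' (P (X, 1, 1)))) = P (MM * θ X * MM⁻¹, 1, 1) := by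
    intro X
    rw [hF'P, hF'P, hF'P, hMM]
    congr 1
    simp [map_mul, mul_assoc]
  have hiterP : ∀ j X, F'^[3 * j] (P (X, 1, 1)) = P (cj j X, 1, 1) := by
    intro j
    induction j with
    | zero =>
      intro X
      rw [show cj 0 X = X from Subtype.ext (by
        show (1 : GL (Fin 2) L).1 * X.1.map id * (1 : GL (Fin 2) L)⁻¹.1 = X.1
        simp)]
      rfl
    | succ j ih =>
      intro X
      rw [show 3 * (j + 1) = 3 + 3 * j by ring, Function.iterate_add_apply, ih]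
      show F' (F' (F' _)) = _
      rw [hcube]
      congr 2
      refine Subtype.ext ?_
      show MM.1 * (θ (cj j X)).1 * (MM⁻¹).1 = (N * mapΦ (Nj j)).1 * X.1.map (Φ^[j + 1]) * ((N * mapΦ (Nj j))⁻¹).1
      rw [hθv]
      show _ = (MM.1 * DK.1) * (Nj j).1.map Φ * X.1.map (Φ^[j + 1]) * (((Nj j)⁻¹).1.map Φ * ((DK⁻¹).1 * (MM⁻¹).1))
      rw [show (cj j X).1 = (Nj j).1 * (X.1.map (Φ^[j])) * ((Nj j)⁻¹).1 from rfl, Matrix.map_mul, Matrix.map_mul,
        Matrix.map_map, ← Function.iterate_succ' Φ j]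
      simp only [Matrix.mul_assoc]
  have hiter : ∀ (j : ℕ) (x : GL D.Idx L),
      (F'^[j]) x = gc⁻¹ * (scalarGL D φ)^[j] (gc * x * gc⁻¹) * gc := by
    intro j
    induction j with
    | zero => intro x; simp [mul_assoc]
    | succ j ih =>
      intro x
      have e : ∀ y, F' y = (gc⁻¹ * scalarGL D φ gc) * scalarGL D φ y * (gc⁻¹ * scalarGL D φ gc)⁻¹ := fun y => by
        rw [hF', hF, haf]; group
      rw [Function.iterate_succ_apply', ih, e, map_mul, map_mul, map_inv, Function.iterate_succ_apply']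
      group
  have hid : ∀ x : GL D.Idx L, (scalarGL D φ)^[3 * m] x = x := by
    intro x
    have hj : ∀ j, (((scalarGL D φ)^[j] x : GL D.Idx L) : Matrix D.Idx D.Idx L) =
        (x : Matrix D.Idx D.Idx L).map (fun b => b ^ q ^ j) := by
      intro j
      induction j with
      | zero => ext u v; simp
      | succ j ih =>
        rw [Function.iterate_succ_apply']
        show Matrix.map (((scalarGL D φ)^[j] x : GL D.Idx L) : Matrix D.Idx D.Idx L) φ = _
        rw [ih]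
        ext u v
        simp [hφ, ← pow_mul, pow_succ]
    refine Units.ext ?_
    rw [hj]
    ext u v
    rw [Matrix.map_apply, pow_mul, ← hQ, hm]
  have hΦm : ∀ x : L, Φ^[m] x = x := fun x => by rw [hΦj, hm]
  have hPX : ∀ X, P (X, 1, 1) = φ1 X := fun X => by rw [hP]; simp
  let cjm : Matrix.SpecialLinearGroup (Fin 2) L → Matrix.SpecialLinearGroup (Fin 2) L := cj m
  obtain ⟨s, hs⟩ := g.rootHom_scalar hU hL' (Nj m) cjm (fun X => by
      show (Nj m).1 * X.1.map (Φ^[m]) * _ = _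
      rw [show X.1.map (Φ^[m]) = X.1 from Matrix.ext fun i j => hΦm _]) fun X => by
    rw [← hPX, ← hPX, ← hiterP, hiter, hid]; group
  -- the scalar is fixed
  have hmapj : ∀ j, Nj (j + 1) = Nj j * (mapΦ^[j]) N := by
    intro j
    induction j with
    | zero => rw [hNj]; simp [Nj]
    | succ j ih =>
      rw [hNj (j + 1)]
      nth_rewrite 1 [ih]
      rw [map_mul, ← mul_assoc, ← hNj, Function.iterate_succ_apply' mapΦ]
  have hmapm : (mapΦ^[m]) N = N := by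
    have hj : ∀ j, (((mapΦ^[j]) N).1 : Matrix (Fin 2) (Fin 2) L) = N.1.map (Φ^[j]) := by
      intro j
      induction j with
      | zero => ext u v; simp
      | succ j ih =>
        rw [Function.iterate_succ_apply']
        show Matrix.map ((mapΦ^[j]) N).1 Φ = _
        rw [ih, Matrix.map_map, ← Function.iterate_succ' Φ j]
    refine Units.ext ((hj m).trans (Matrix.ext fun i j => hΦm _))
  clear_value N
  have hsQ : s ^ Q = s := by
    have h := congrArg Units.val ((hNj m).symm.trans (hmapj m))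
    rw [hmapm, Units.val_mul, Units.val_mul, hs, smul_mul_assoc, one_mul] at h
    have e : (mapΦ (Nj m)).1 = Φ (s : L) • (1 : Matrix (Fin 2) (Fin 2) L) := by
      show (Nj m).1.map Φ = _
      rw [hs]
      ext i j
      fin_cases i <;> fin_cases j <;> simp
    rw [e, mul_smul_comm, mul_one] at h
    have h00 : (Φ (s : L) - s) • N.1 = 0 := by rw [sub_smul, h, sub_self]
    have hN0 : N.1 ≠ 0 := fun h0 => by
      have := (Matrix.GeneralLinearGroup.det N).ne_zero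
      simp [h0] at this
    have e2 := sub_eq_zero.1 ((smul_eq_zero.1 h00).resolve_right hN0)
    exact Units.ext (by rw [Units.val_pow_eq_pow_val, ← hΦ]; exact e2)
  obtain ⟨w, hw⟩ := hnorm s⁻¹ (by rw [inv_pow, hsQ])
  let wp : ℕ → Lˣ := fun j => ∏ i ∈ Finset.range j, w ^ (Q ^ i)
  obtain ⟨B, hB0, hB⟩ := exists_descent_two Φ hm0 hΦm
    (fun i h1 h2 => by obtain ⟨x, hx⟩ := hord i h1 h2; exact ⟨x, by rwa [hΦj]⟩)
    ((w : L) • N.1) (fun j => (wp j : L) • (Nj j).1) (by simp [wp, Nj]) (fun j => by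
      rw [hNj, Units.val_mul, show (((wp j : L) • (Nj j).1).map Φ) = Φ (wp j : L) • (Nj j).1.map Φ from
        Matrix.ext fun u v => by simp, smul_mul_smul_comm]
      congr 1
      simp only [wp, hΦ, ← Units.val_pow_eq_pow_val, ← Units.val_mul]
      refine congrArg Units.val ?_
      rw [Finset.prod_range_succ', ← Finset.prod_pow, pow_zero, pow_one, mul_comm]
      refine congrArg (w * ·) (Finset.prod_congr rfl fun i _ => ?_)
      rw [← pow_mul, pow_succ])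
    (by
      show ((wp m : Lˣ) : L) • (Nj m).1 = 1
      rw [hs, smul_smul, ← Units.val_mul, show wp m = s⁻¹ from hw, inv_mul_cancel, Units.val_one, one_smul])
  set δ := B.det with hδ
  have hBS : (B * !![δ⁻¹, 0; 0, 1]).det = 1 := by
    rw [Matrix.det_mul, ← hδ, Matrix.det_fin_two_of]; field_simp; ring
  set b : Matrix.SpecialLinearGroup (Fin 2) L := ⟨B * !![δ⁻¹, 0; 0, 1], hBS⟩ with hb
  -- the first row of equations
  have hΔ : b⁻¹ * (MM * θ b) = slD w := by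
    rw [inv_mul_eq_iff_eq_mul]
    have hval : (MM * θ b).1 = ((w⁻¹ : Lˣ) : L) • (B * (!![(Φ δ)⁻¹, 0; 0, 1] * (DK⁻¹).1)) := by
      rw [Matrix.SpecialLinearGroup.coe_mul, hθv,
        show b.1.map Φ = B.map Φ * !![(Φ δ)⁻¹, 0; 0, 1] by
          rw [hb, Matrix.map_mul]; congr 1; ext i j; fin_cases i <;> fin_cases j <;> simp]
      conv_rhs => rw [← hB]
      rw [hN, Units.val_mul, smul_mul_assoc, smul_mul_assoc, smul_smul, ← Units.val_mul, inv_mul_cancel,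
        Units.val_one, one_smul]
      simp only [← Matrix.mul_assoc]
      rfl
    have hdet := (MM * θ b).2
    rw [hval, Matrix.det_smul, Matrix.det_mul, Matrix.det_mul, ← hδ] at hdet
    refine Subtype.ext ?_
    rw [hval, hb]
    show _ = B * !![δ⁻¹, 0; 0, 1] * !![(w : L), 0; 0, ((w⁻¹ : Lˣ) : L)]
    rw [Matrix.mul_assoc B, ← Matrix.mul_smul]
    congr 1
    rw [Matrix.det_fin_two_of] at hdet
    have hδ0 : δ ≠ 0 := hB0
    have hΦδ : Φ δ ≠ 0 := (map_ne_zero Φ).2 hδ0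
    have hdk : ((DK⁻¹).1 : Matrix (Fin 2) (Fin 2) L) = !![((K⁻¹ : Lˣ) : L), 0; 0, 1] := rfl
    rw [hdk, Matrix.det_fin_two_of] at hdet
    rw [hdk]
    ext i j
    fin_cases i <;> fin_cases j <;>
      simp [Matrix.mul_apply, Fin.sum_univ_two, Matrix.vecMul, dotProduct] at hdet ⊢ <;>
      field_simp at hdet ⊢ <;>
      first
        | linear_combination hdet
        | linear_combination -hdet
        | linear_combination (w : L) * hdet
        | linear_combination -((w : L) * hdet)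
  refine ⟨P (b, A2 * b, A3 * (A2 * b)), hPin _ (fun u _ t => g.xG_mem_group u.2 t) _, fun c h1 h2 h3' => ?_, ?_⟩
  · refine (Subgroup.mem_centralizer_singleton_iff.1 (hPin (Subgroup.centralizer {torHom D L c}) (fun u hu t => ?_) _) :)
    have hn : ∀ r : Fin D.nroots, rootVal c (r : ℕ) = 1 → rootVal c (g.nroot r : ℕ) = 1 := fun r hr => by
      have : rootVal c (D.neg (r : ℕ)) = (rootVal c (r : ℕ))⁻¹ := by
        simp only [rootVal, ← Finset.prod_inv_distrib]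
        exact Finset.prod_congr rfl fun i _ => by rw [g.cartan_neg i.2 r.2, _root_.zpow_neg]
      show rootVal c (D.neg (r : ℕ)) = 1
      rw [this, hr, inv_one]
    have hu1 : rootVal c (u : ℕ) = 1 := by
      rcases hu with rfl | rfl | rfl | rfl | rfl | rfl
      exacts [h1, hn _ h1, h2, hn _ h2, h3', hn _ h3']
    refine Subgroup.mem_centralizer_singleton_iff.2 ?_
    have := g.conj_rootVal c u.2 t
    rw [hu1, Units.val_one, one_mul] at this
    exact (mul_inv_eq_iff_eq_mul.1 this).symm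
  · set k := P (b, A2 * b, A3 * (A2 * b)) with hk
    have e : (gc * k)⁻¹ * scalarGL D φ (gc * k) = g.hG (a : ℕ) w * M := by
      calc (gc * k)⁻¹ * scalarGL D φ (gc * k) = k⁻¹ * (gc⁻¹ * scalarGL D φ gc) * scalarGL D φ k := by
            rw [map_mul]; group
        _ = (k⁻¹ * k₀ * F k) * M := by rw [haf, hF]; group
        _ = _ := by
          rw [hk, hFP, ← hA, ← map_inv, ← map_mul, ← map_mul]
          congr 1
          rw [show ((b, A2 * b, A3 * (A2 * b)) : Matrix.SpecialLinearGroup (Fin 2) L × _ × _)⁻¹ * (A1, A2, A3) *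
            (θ (A3 * (A2 * b)), b, A2 * b) = (b⁻¹ * (MM * θ b), 1, 1) by
              ext1 <;> [skip; ext1] <;> simp [hMM, mul_assoc], hPX, hΔ, hD']
    rw [e]
    exact ⟨mul_mem (Subgroup.mem_sup_left (g.hG_mem a.2 _)) hM,
      by simpa using g.acts_mul (g.acts_diagonal (g.hG_mem a.2 w)) hσ⟩

end Good

end CfsgLib.Chev
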