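import Mathlib
import Cfsg.Agent.Lib.Chev.E6Torus
import Cfsg.Agent.Lib.Chev.E7TorusAlg
import Cfsg.Agent.Lib.Chev.E7TorusLift
import Cfsg.Agent.Lib.Chev.E7LangData
import Cfsg.Agent.Lib.Chev.E7Orth
import Cfsg.Agent.Lib.Chev.OrthGauge

/-!
The self-centralising cyclic torus of E₇ of order Φ₁₂·(q³ + 1) divided by gcd(2, q − 1).
-/

set_option autoImplicit false
set_option maxHeartbeats 2000000
set_option maxRecDepth 100000

namespace CfsgLib.Chev.Springer

open Cfsg.Lie Matrix Polynomial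

theorem phi_two : ∀ x : ZMod 2, (x ^ 2 - x + 1) * (x ^ 4 - x ^ 2 + 1) ≠ 0 := by decide

/-- An odd number above one does not divide sixteen. -/
theorem phi_six_sixteen (q : ℤ) (hq : 2 ≤ q) (h : q ^ 2 - q + 1 ∣ 16) : False := by
  have h1 : q ^ 2 - q + 1 ≤ 16 := Int.le_of_dvd (by norm_num) h
  have h2 : q ≤ 4 := by nlinarith
  interval_cases q <;> norm_num at h

theorem rootVal_neg_E7 {L : Type*} [Field L] (c : Fin chevE7.rank → Lˣ) (u : Fin chevE7.nroots) :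
    rootVal c (chevE7.neg (u : ℕ)) = (rootVal c (u : ℕ))⁻¹ := by
  rw [rootVal, rootVal, ← Finset.prod_inv_distrib]
  exact Finset.prod_congr rfl fun i _ => by rw [goodE7.cartan_neg i.2 u.2, _root_.zpow_neg]

theorem rootVal_zpow_E7 {L : Type*} [Field L] (c : Fin chevE7.rank → Lˣ) (k : ℤ) (u : ℕ) :
    rootVal (c ^ k) u = rootVal c u ^ k := by
  rw [rootVal, rootVal, ← Finset.prod_zpow]
  exact Finset.prod_congr rfl fun i _ => by rw [Pi.pow_apply, ← _root_.zpow_mul, ← _root_.zpow_mul, mul_comm]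

/-- The torus. -/
theorem exists_torus_E7 (F : Type*) [Field F] [Fintype F] (q : ℕ) (hF : Fintype.card F = q) :
    ∃ H : Subgroup ↥(chevE7.group F), IsCyclic ↥H ∧
      Nat.card ↥H = (q ^ 4 - q ^ 2 + 1) * (q ^ 3 + 1) / Nat.gcd 2 (q - 1) ∧
      Subgroup.centralizer (H : Set ↥(chevE7.group F)) = H := by
  have hc : HasComm chevE7 := hasComm_of_mem (by simp)
  have hq2' : 2 ≤ q := hF ▸ Fintype.one_lt_card
  have hq24 : q ^ 2 ≤ q ^ 4 := Nat.pow_le_pow_right (by omega) (by norm_num)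
  set P := q ^ 4 - q ^ 2 + 1 with hP
  have hPz : (P : ℤ) = (q : ℤ) ^ 4 - (q : ℤ) ^ 2 + 1 := by
    rw [hP, Nat.cast_add, Nat.cast_sub hq24]; push_cast; ring
  have hP1 : 1 < P := by
    have : q ^ 2 < q ^ 4 := Nat.pow_lt_pow_right (by omega) (by norm_num)
    omega
  obtain ⟨r, hrp, hrP⟩ := Nat.exists_prime_and_dvd hP1.ne'
  haveI : Fact r.Prime := ⟨hrp⟩
  have hrz : (q : ZMod r) ^ 4 - (q : ZMod r) ^ 2 + 1 = 0 := by
    have h : (((P : ℤ)) : ZMod r) = 0 := by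
      rw [Int.cast_natCast, CharP.cast_eq_zero_iff (ZMod r) r]; exact hrP
    rw [hPz] at h; simpa using h
  have hnot : ∀ s : ℕ, s = 2 ∨ s = 3 ∨ s = 5 ∨ s = 7 → r ≠ s := by
    rintro s hs rfl
    have h2 : ∀ x : ZMod 2, x ^ 4 - x ^ 2 + 1 ≠ 0 := by decide
    have h3 : ∀ x : ZMod 3, x ^ 4 - x ^ 2 + 1 ≠ 0 := by decide
    have h5 : ∀ x : ZMod 5, x ^ 4 - x ^ 2 + 1 ≠ 0 := by decide
    have h7 : ∀ x : ZMod 7, x ^ 4 - x ^ 2 + 1 ≠ 0 := by decide
    rcases hs with rfl | rfl | rfl | rfl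
    exacts [h2 _ hrz, h3 _ hrz, h5 _ hrz, h7 _ hrz]
  have hr2 := hnot 2 (Or.inl rfl)
  have hr3 := hnot 3 (Or.inr (Or.inl rfl))
  have hr5 := hnot 5 (Or.inr (Or.inr (Or.inl rfl)))
  have hr7 := hnot 7 (Or.inr (Or.inr (Or.inr rfl)))
  have hsmall : ∀ s : ℕ, s.Prime → r ∣ s → r = s := fun s hs h => (Nat.prime_dvd_prime_iff_eq hrp hs).1 h
  have hr12 : ¬ r ∣ 12 := fun h => by
    rw [show (12 : ℕ) = 2 * 2 * 3 by rfl, hrp.dvd_mul, hrp.dvd_mul] at h
    rcases h with (h | h) | h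
    exacts [hr2 (hsmall 2 Nat.prime_two h), hr2 (hsmall 2 Nat.prime_two h), hr3 (hsmall 3 Nat.prime_three h)]
  have hrW : ¬ r ∣ Nat.card goodE7.weyl := by
    rw [card_weylE7]
    intro h
    have h' : r ∣ 2 ^ 10 * 3 ^ 4 * 5 * 7 := h.trans (by norm_num)
    rw [hrp.dvd_mul, hrp.dvd_mul, hrp.dvd_mul] at h'
    rcases h' with ((h' | h') | h') | h'
    exacts [hr2 (hsmall 2 Nat.prime_two (hrp.dvd_of_dvd_pow h')),
      hr3 (hsmall 3 Nat.prime_three (hrp.dvd_of_dvd_pow h')), hr5 (hsmall 5 Nat.prime_five h'),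
      hr7 (hsmall 7 (by norm_num) h')]
  haveI : NeZero ((12 : ℕ) : ZMod r) := ⟨by rwa [ne_eq, CharP.cast_eq_zero_iff (ZMod r) r]⟩
  have hζ : IsPrimitiveRoot (((q : ℤ)) : ZMod r) 12 := by
    rw [← isRoot_cyclotomic_iff, IsRoot.def, ← map_cyclotomic_int, cyclotomic_twelve]
    simpa using hrz
  have hr12q : r ∣ q ^ 12 - 1 := by
    rw [← CharP.cast_eq_zero_iff (ZMod r) r, Nat.cast_sub (Nat.one_le_pow _ _ (by omega))]
    have := hζ.pow_eq_one
    push_cast at this ⊢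
    rw [this, sub_self]
  have hrG : r ∣ Nat.card ↥(chevE7.group F) := by
    have h := card_groupE7 F
    rw [hF] at h
    refine ((hrp.dvd_mul.1 (?_ : r ∣ (q - 1).gcd 2 * Nat.card ↥(chevE7.group F))).resolve_left fun h' =>
      hr2 (hsmall 2 Nat.prime_two (h'.trans (Nat.gcd_dvd_right _ _))))
    rw [h]
    exact Dvd.dvd.mul_right (Dvd.dvd.mul_right (hr12q.mul_left _) _) _
  classical
  haveI hgf : Finite ↥(chevE7.group F) := inferInstance
  set d := 48 with hd48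
  set p := ringChar F
  haveI : Fact p.Prime := ⟨CharP.char_is_prime F p⟩
  haveI : NeZero d := ⟨by omega⟩
  let L := FiniteField.Extension F p d
  haveI : Fintype L := Fintype.ofFinite L
  have hL : Fintype.card L = q ^ d := by
    rw [← Nat.card_eq_fintype_card, FiniteField.natCard_extension, Nat.card_eq_fintype_card, hF]
  have hq2 : 2 ≤ q := hF ▸ Fintype.one_lt_card
  let ι : F →+* L := algebraMap F L
  let φ : L →+* L := (FiniteField.Extension.frob F p d).toRingEquiv.toRingHom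
  have hφ : ∀ z : L, φ z = z ^ q := fun z => by
    rw [← hF, ← Nat.card_eq_fintype_card]; exact FiniteField.Extension.frob_apply ..
  have hφι : ∀ a : F, φ (ι a) = ι a := fun a => by
    rw [hφ, ← map_pow, ← hF, FiniteField.pow_card]
  have hfix : ∀ z : L, φ z = z → ∃ a, ι a = z := fun z hz => by
    by_contra hne
    push Not at hne
    have hP0 : (Polynomial.X ^ q - Polynomial.X : L[X]) ≠ 0 := FiniteField.X_pow_card_sub_X_ne_zero L (by omega)
    have hsub : insert z (Finset.univ.image ι) ⊆ (Polynomial.X ^ q - Polynomial.X : L[X]).roots.toFinset := by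
      intro w hw
      rw [Multiset.mem_toFinset, Polynomial.mem_roots hP0]
      rcases Finset.mem_insert.1 hw with rfl | hw
      · simp [← hφ, hz]
      · obtain ⟨a, -, rfl⟩ := Finset.mem_image.1 hw
        simp [← hφ, hφι]
    have h1 := (Finset.card_le_card hsub).trans (Multiset.toFinset_card_le _) |>.trans (Polynomial.card_roots' _)
    rw [FiniteField.X_pow_card_sub_X_natDegree_eq L (by omega), Finset.card_insert_of_notMem (by
      simpa using hne), Finset.card_image_of_injective _ ι.injective, Finset.card_univ, hF] at h1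
    omega
  obtain ⟨γ, hγ⟩ := IsCyclic.exists_generator (α := Lˣ)
  set M : ℕ := q ^ d - 1 with hMdef
  have hqd : 1 < q ^ d := Nat.one_lt_pow (by omega) (by omega)
  haveI : NeZero M := ⟨by omega⟩
  have hγo : orderOf γ = M := by
    rw [orderOf_eq_card_of_forall_mem_zpowers hγ, Nat.card_units, Nat.card_eq_fintype_card, hL]
  have hMcast : (M : ℤ) = (q : ℤ) ^ d - 1 := by rw [hMdef, Nat.cast_sub hqd.le]; push_cast; ring
  have hzz : ∀ a b : ℤ, γ ^ a = γ ^ b ↔ (a : ZMod M) = (b : ZMod M) := fun a b => by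
    rw [ZMod.intCast_eq_intCast_iff_dvd_sub, ← hγo, orderOf_dvd_iff_zpow_eq_one, _root_.zpow_sub,
      mul_inv_eq_one]
    exact ⟨fun h => h.symm, fun h => h.symm⟩
  have hM12 : q ^ 12 - 1 ∣ M := by
    rw [hMdef, hd48, show q ^ 48 = (q ^ 12) ^ 4 by rw [← pow_mul]]
    simpa using Nat.sub_dvd_pow_sub_pow (q ^ 12) 1 4
  have hrM : r ∣ M := hr12q.trans hM12
  have hr1 : 1 < r := hrp.one_lt
  have hQr : ((Fintype.card L : ℕ) : ZMod r) = 1 := by
    rw [hL, show q ^ d = M + 1 by omega, Nat.cast_add, (CharP.cast_eq_zero_iff (ZMod r) r M).2 hrM,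
      zero_add, Nat.cast_one]
  -- an element of order r
  obtain ⟨x, hx⟩ := exists_prime_orderOf_dvd_card' (G := ↥(chevE7.group F)) r hrG
  set xh : ↥(chevE7.group L) := ⟨scalarGL chevE7 ι x, goodE7.scalarGL_mem ι x.2⟩ with hxh
  have hxr : xh ^ r = 1 := by
    refine Subtype.ext ?_
    show scalarGL chevE7 ι x ^ r = 1
    rw [← map_pow, ← SubmonoidClass.coe_pow, ← hx, pow_orderOf_eq_one, OneMemClass.coe_one, map_one]
  have hindex : ¬ r ∣ ((chevE7.diagonalSubgroup L).subgroupOf (chevE7.group L)).index := by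
    intro hdvd
    set T' := (chevE7.diagonalSubgroup L).subgroupOf (chevE7.group L)
    have h1 := T'.card_mul_index
    rw [Nat.card_congr (Subgroup.subgroupOfEquivOfLe goodE7.diagonal_le_group).toEquiv,
      goodE7.card_group hc, goodE7.card_borel hc] at h1
    have h2 : T'.index = Fintype.card L ^ (chevE7.nroots / 2) * goodE7.weylSum {i | i < chevE7.rank} (Fintype.card L) :=
      Nat.eq_of_mul_eq_mul_left (Nat.card_pos (α := ↥(chevE7.diagonalSubgroup L))) (h1.trans (by ring))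
    rw [h2, ← CharP.cast_eq_zero_iff (ZMod r) r, Nat.cast_mul, Nat.cast_pow, hQr, one_pow, one_mul,
      Good.weylSum, ← goodE7.weyl_eq_wJ, Nat.cast_sum] at hdvd
    simp only [Nat.cast_pow, hQr, one_pow, Finset.sum_const, nsmul_eq_mul, mul_one] at hdvd
    rw [CharP.cast_eq_zero_iff (ZMod r) r] at hdvd
    refine hrW ?_
    rwa [Nat.card_eq_fintype_card, Fintype.card_subtype]
  obtain ⟨⟨gc, hgc⟩, hmem⟩ := exists_conj_mem _ hxr hindex
  have htd : gc⁻¹ * scalarGL chevE7 ι x * gc ∈ chevE7.diagonalSubgroup L := Subgroup.mem_subgroupOf.1 hmem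
  let Θ : ↥(chevE7.group F) →* GL chevE7.Idx L :=
    (MulAut.conj gc⁻¹).toMonoidHom.comp ((scalarGL chevE7 ι).comp (chevE7.group F).subtype)
  have hΘv : ∀ y : ↥(chevE7.group F), Θ y = gc⁻¹ * scalarGL chevE7 ι y * gc := fun y => by
    show gc⁻¹ * scalarGL chevE7 ι y * gc⁻¹⁻¹ = _
    rw [inv_inv]
  have hΘinj : Function.Injective Θ := fun a b h =>
    Subtype.ext (scalarGL_injective ι ((MulEquiv.injective (MulAut.conj gc⁻¹)) h))
  have hdiag := htd
  rw [goodE7.diagonal_eq_range] at hdiag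
  obtain ⟨c, hct⟩ := hdiag
  -- the exponents of every torus element
  have hexp : ∀ e : Fin chevE7.rank → Lˣ, ∃ k : Fin chevE7.rank → ℤ,
      ∀ u : Fin chevE7.nroots, rootVal e u = γ ^ (∑ i, goodE7.coVec u i * k i) := by
    intro e
    choose k hk using fun j : Fin chevE7.rank => Subgroup.mem_zpowers_iff.1 (hγ (rootVal e (chevE7.simple j)))
    refine ⟨k, fun u => ?_⟩
    rw [goodE7.rootVal_eq_prod e u.2, zpow_finsum]
    refine Finset.prod_congr rfl fun j _ => ?_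
    rw [← hk j, ← _root_.zpow_mul, mul_comm]
    rfl
  obtain ⟨k, hk⟩ := hexp c
  have hsum : ∀ (j : Fin chevE7.rank) (k : Fin chevE7.rank → ℤ), ∑ i, goodE7.coVec (goodE7.sroot j) i * k i = k j := by
    intro j k
    simp [goodE7.coVec_sroot]
  have hcr : ∀ u : Fin chevE7.nroots, rootVal c u ^ r = 1 := by
    intro u
    have h1 : torHom chevE7 L (c ^ r) = torHom chevE7 L 1 := by
      rw [map_one, map_pow, hct, show gc⁻¹ * scalarGL chevE7 ι x * gc = Θ x from (hΘv x).symm, ← map_pow, ← hx,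
        pow_orderOf_eq_one, map_one]
    rw [← rootVal_pow, goodE7.rootVal_eq_of_torHom h1 u.2, rootVal_one]
  obtain ⟨m, hm⟩ := hrM
  have hm0 : 0 < m := Nat.pos_of_ne_zero fun h => by rw [h, mul_zero] at hm; omega
  have hka : ∀ j, ∃ a : ℤ, (m : ℤ) * a = k j := by
    intro j
    have h1 := hcr (goodE7.sroot j)
    rw [hk, hsum, ← zpow_natCast, ← _root_.zpow_mul, ← _root_.zpow_zero γ, hzz, Int.cast_zero,
      ZMod.intCast_zmod_eq_zero_iff_dvd] at h1
    obtain ⟨b, hb⟩ := h1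
    rw [hm, Nat.cast_mul] at hb
    exact ⟨b, mul_right_cancel₀ (b := (r : ℤ)) (by exact_mod_cast (Fact.out : r.Prime).ne_zero) (by rw [hb]; ring)⟩
  choose a ha using hka
  set v : Fin chevE7.rank → ZMod r := fun j => (a j : ZMod r) with hv
  have hval : ∀ u : Fin chevE7.nroots, rootVal c u = γ ^ ((m : ℤ) * ∑ i, goodE7.coVec u i * a i) := by
    intro u
    rw [hk, Finset.mul_sum]
    congr 1
    exact Finset.sum_congr rfl fun i _ => by rw [← ha i]; ring
  have hmr : ∀ z z' : ℤ, γ ^ ((m : ℤ) * z) = γ ^ ((m : ℤ) * z') ↔ (z : ZMod r) = (z' : ZMod r) := by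
    intro z z'
    rw [hzz, ZMod.intCast_eq_intCast_iff_dvd_sub, ZMod.intCast_eq_intCast_iff_dvd_sub, ← mul_sub, hm,
      Nat.cast_mul, mul_comm (r : ℤ), mul_dvd_mul_iff_left (by exact_mod_cast hm0.ne')]
  have hvec : ∀ (ρ : Equiv.Perm (Fin chevE7.nroots)) (j : Fin chevE7.rank),
      ((goodE7.coMat ρ).map (Int.cast : ℤ → ZMod r) *ᵥ v) j =
        ((∑ i, goodE7.coVec (ρ (goodE7.sroot j)) i * a i : ℤ) : ZMod r) := by
    intro ρ j
    show ∑ t, ((goodE7.coMat ρ j t : ℤ) : ZMod r) * v t = _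
    rw [Int.cast_sum]
    exact Finset.sum_congr rfl fun i _ => by rw [Int.cast_mul]; rfl
  have hv0 : v ≠ 0 := by
    intro h0
    have h1 : torHom chevE7 L c = 1 := by
      rw [← map_one (torHom chevE7 L)]
      refine goodE7.torHom_eq_of_simple fun j => ?_
      rw [show chevE7.simple j = ((goodE7.sroot j : Fin chevE7.nroots) : ℕ) from rfl, hval, hsum, rootVal_one,
        ← _root_.zpow_zero γ, ← mul_zero (m : ℤ), hmr, Int.cast_zero]
      exact congrFun h0 j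
    rw [h1, eq_comm, show gc⁻¹ * scalarGL chevE7 ι x * gc = Θ x from (hΘv x).symm, ← map_one Θ] at hct
    rw [hΘinj hct, orderOf_one] at hx
    omega
  -- the Frobenius twist
  have hφm : ∀ {z : GL chevE7.Idx L}, z ∈ chevE7.group L → scalarGL chevE7 φ z ∈ chevE7.group L := fun hz => goodE7.scalarGL_mem φ hz
  have hφx : ∀ y : GL chevE7.Idx F, scalarGL chevE7 φ (scalarGL chevE7 ι y) = scalarGL chevE7 ι y := fun y =>
    Units.ext (Matrix.ext fun i j => hφι _)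
  set af := gc⁻¹ * scalarGL chevE7 φ gc with haf
  have hafm : af ∈ chevE7.group L := mul_mem (inv_mem hgc) (hφm hgc)
  have hφt : scalarGL chevE7 φ (torHom chevE7 L c) = af⁻¹ * torHom chevE7 L c * af := by
    rw [hct, map_mul, map_mul, map_inv, hφx, haf]
    group
  obtain ⟨n, hn, hnt⟩ := goodE7.diagonal_fusion hc (goodE7.torHom_mem c)
    (show scalarGL chevE7 φ (torHom chevE7 L c) ∈ chevE7.diagonalSubgroup L by rw [scalarGL_torHom]; exact goodE7.torHom_mem _)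
    (inv_mem hafm) (by rw [hφt, inv_inv])
  obtain ⟨π, hπw, hπ⟩ := goodE7.exists_acts hn
  set R := goodE7.coMat π⁻¹ with hR
  have hφval : ∀ (e : Fin chevE7.rank → Lˣ) (u : ℕ),
      rootVal (fun i => Units.map (φ : L →* L) (e i)) u = rootVal e u ^ q := by
    intro e u
    simp only [rootVal, ← Finset.prod_pow]
    refine Finset.prod_congr rfl fun i _ => ?_
    rw [show Units.map (φ : L →* L) (e i) = e i ^ q from Units.ext (by simp [hφ]), ← zpow_natCast (e i) q,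
      ← zpow_natCast _ q, ← _root_.zpow_mul, ← _root_.zpow_mul, mul_comm]
  have hRv : R.map (Int.cast : ℤ → ZMod r) *ᵥ v = ((q : ℤ) : ZMod r) • v := by
    funext j
    rw [Pi.smul_apply, smul_eq_mul, hR, hvec, show ((q : ℤ) : ZMod r) * v j = (((q : ℤ) * a j : ℤ) : ZMod r) by
      rw [Int.cast_mul], ← hmr]
    have h := goodE7.rootVal_conj hπ (c := c) (hnt.trans (scalarGL_torHom φ c)) (π⁻¹ (goodE7.sroot j))
    rw [show π (π⁻¹ (goodE7.sroot j)) = goodE7.sroot j from π.apply_symm_apply _, hφval, hval, hsum, hval,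
      ← zpow_natCast, ← _root_.zpow_mul] at h
    rw [← h]
    congr 1
    ring
  have hπ' := inv_mem hπw
  have hmm : ∀ A A' : Matrix (Fin chevE7.rank) (Fin chevE7.rank) ℤ,
      (A * A').map (Int.cast : ℤ → ZMod r) = A.map (Int.cast : ℤ → ZMod r) * A'.map (Int.cast : ℤ → ZMod r) :=
    fun A A' => Matrix.map_mul (f := Int.castRingHom (ZMod r))
  have hq0 : ((q : ℤ) : ZMod r) ≠ 0 := hζ.ne_zero (by norm_num)
  have hπv : (goodE7.coMat π).map (Int.cast : ℤ → ZMod r) *ᵥ v = (((q : ℤ) : ZMod r))⁻¹ • v := by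
    refine smul_right_injective (Fin chevE7.rank → ZMod r) hq0 ?_
    show ((q : ℤ) : ZMod r) • _ = ((q : ℤ) : ZMod r) • _
    rw [← Matrix.mulVec_smul, ← hRv, Matrix.mulVec_mulVec, ← hmm, hR, (goodE7.coMat_inv_mul hπw).2,
      Matrix.map_one _ Int.cast_zero Int.cast_one, Matrix.one_mulVec, smul_smul, mul_inv_cancel₀ hq0, one_smul]
  have hmm : ∀ A A' : Matrix (Fin chevE7.rank) (Fin chevE7.rank) ℤ,
      (A * A').map (Int.cast : ℤ → ZMod r) = A.map (Int.cast : ℤ → ZMod r) * A'.map (Int.cast : ℤ → ZMod r) :=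
    fun A A' => Matrix.map_mul (f := Int.castRingHom (ZMod r))
  have hdvdchar : ∀ ρ ∈ goodE7.weyl, (goodE7.coMat ρ).map (Int.cast : ℤ → ZMod r) *ᵥ v = ((q : ℤ) : ZMod r) • v →
      cyclotomic 12 ℤ ∣ (goodE7.coMat ρ).charpoly := by
    intro ρ hρ he'
    refine cyclotomic_dvd_of_eigen _ (orderOf_pos (⟨ρ, hρ⟩ : ↥goodE7.weyl)) ?_
      (fun h => hrW (h.trans (orderOf_dvd_natCard _))) hr12 hζ hv0 he'
    rw [← goodE7.coMat_pow hρ, show ρ ^ orderOf (⟨ρ, hρ⟩ : ↥goodE7.weyl) =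
      ((⟨ρ, hρ⟩ : ↥goodE7.weyl) ^ orderOf (⟨ρ, hρ⟩ : ↥goodE7.weyl) : ↥goodE7.weyl).1 from rfl, pow_orderOf_eq_one]
    exact goodE7.coMat_one
  have hkill : ∀ u : Fin chevE7.nroots, u ∈ killed v ↔ rootVal c u = 1 := by
    intro u
    rw [mem_killed, hval, ← _root_.zpow_zero γ, ← mul_zero (m : ℤ), hmr, Int.cast_zero, Int.cast_sum]
    simp [dotMod, dotProduct, hv]
  have hqz : ((q : ℤ) : ZMod r) ≠ 0 := hζ.ne_zero (by norm_num)
  -- the centraliser part of the twist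
  set q' : ZMod r := ((q : ℤ) : ZMod r) with hq'
  set Sk : Set ℕ := {u | rootVal c u = 1} with hSk
  have hyc : af * n * torHom chevE7 L c = torHom chevE7 L c * (af * n) := by
    have h1 : n * torHom chevE7 L c = af⁻¹ * torHom chevE7 L c * af * n := by
      rw [← hφt, ← hnt]; group
    rw [mul_assoc, h1]; group
  obtain ⟨v₁, hv₁, m₁, hm₁, π₁, hπ₁w, hπ₁, hπ₁v, u₁, hu₁, hdec⟩ :=
    goodE7.centralizer_form hc (mul_mem hafm (goodE7.monomial_le_group hn)) hyc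
  have hπ₁fix : (goodE7.coMat π₁).map (Int.cast : ℤ → ZMod r) *ᵥ v = v := by
    funext j
    rw [hvec, hv]
    have h := hπ₁v (goodE7.sroot j)
    rw [hval, hval, hmr, hsum] at h
    exact h
  have hR₀ := hdvdchar _ (inv_mem hπw) hRv
  set σ₁ := π₁ * π⁻¹ with hσ₁
  have hσ₁w : σ₁ ∈ goodE7.weyl := mul_mem hπ₁w (inv_mem hπw)
  have hRσ₁ : (goodE7.coMat σ₁).map (Int.cast : ℤ → ZMod r) *ᵥ v = q' • v := by
    rw [hσ₁, goodE7.coMat_mul hπ₁w, hmm, ← Matrix.mulVec_mulVec, hπ₁fix, hRv]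
  have hinv : ∀ ρ ∈ goodE7.weyl, (goodE7.coMat ρ).map (Int.cast : ℤ → ZMod r) *ᵥ v = q' • v →
      ∀ u : Fin chevE7.nroots, (u : ℕ) ∈ Sk → (ρ u : ℕ) ∈ Sk := fun ρ hρ hρv u hu =>
    (hkill _).1 ((killed_apply hρ hρv hqz u).2 ((hkill u).2 hu))
  have hinvπ : ∀ u : Fin chevE7.nroots, (u : ℕ) ∈ Sk → (π u : ℕ) ∈ Sk := fun u hu => by
    refine (hkill _).1 ((killed_apply (inv_mem hπw) hRv hqz (π u)).1 ?_)
    rw [show π⁻¹ (π u) = u from π.symm_apply_apply u]
    exact (hkill u).2 hu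
  set M₁ := m₁ * n⁻¹ with hM₁
  have hM₁m : M₁ ∈ chevE7.monomialSubgroup L := mul_mem hm₁ (inv_mem hn)
  have hM₁a : goodE7.Acts M₁ σ₁ := goodE7.acts_mul hπ₁ (goodE7.acts_inv hπ)
  set k₁ := v₁ * (M₁ * (n * u₁ * n⁻¹) * M₁⁻¹) with hk₁
  have hk₁m : k₁ ∈ rootGen chevE7 L Sk :=
    mul_mem hv₁ (goodE7.conj_rootGen_set hM₁a (hinv _ hσ₁w hRσ₁) (goodE7.conj_rootGen_set hπ hinvπ hu₁))
  have haf₁ : af = k₁ * M₁ := by
    rw [show af = af * n * n⁻¹ by group, hdec, hk₁, hM₁]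
    group
  -- the three killed roots
  obtain ⟨a₁, ha₁, hab, hac, hbc, h3, hlist⟩ :=
    exists_triangle hσ₁w (hdvdchar _ hσ₁w hRσ₁) hrW hr12 hζ hv0 hRσ₁
  have hnr : ∀ {ρ : Equiv.Perm (Fin chevE7.nroots)}, ρ ∈ goodE7.weyl → ∀ u, ρ (goodE7.nroot u) = goodE7.nroot (ρ u) :=
    fun hρ u => apply_nroot hρ u
  obtain ⟨σ, hσw, k₂, hk₂m, M₂, hM₂m, hM₂a, haf₂, hRσ, hσ3, hσa, hσb⟩ : ∃ σ ∈ goodE7.weyl,
      ∃ k₂ ∈ rootGen chevE7 L Sk, ∃ M₂ ∈ chevE7.monomialSubgroup L, goodE7.Acts M₂ σ ∧ af = k₂ * M₂ ∧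
      (goodE7.coMat σ).map (Int.cast : ℤ → ZMod r) *ᵥ v = q' • v ∧ σ (σ (σ a₁)) = a₁ ∧ σ a₁ = σ₁ a₁ ∧
      σ (σ a₁) = σ₁ (σ₁ a₁) := by
    rcases h3 with h3 | h3
    · exact ⟨σ₁, hσ₁w, k₁, hk₁m, M₁, hM₁m, hM₁a, haf₁, hRσ₁, h3, rfl, rfl⟩
    · obtain ⟨l, i, hli, hza⟩ := goodE7.acts_nG (L := L) a₁.2 1
      obtain ⟨hs, hsa, hsfix⟩ := refl_word goodE7 (α := a₁) hli
      set ρ := goodE7.wperm l * goodE7.rperm i * (goodE7.wperm l)⁻¹ with hρ
      have hfixb : ∀ u, ipR a₁ u = 0 → ρ u = u := fun u hu => goodE7.coVec_injective (by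
        rw [refl_formula hs hsa hsfix, ipR_comm, hu, zero_smul, sub_zero])
      have e1 : (ρ * σ₁) a₁ = σ₁ a₁ := by rw [Equiv.Perm.mul_apply]; exact hfixb _ hab
      have e2 : (ρ * σ₁) (σ₁ a₁) = σ₁ (σ₁ a₁) := by rw [Equiv.Perm.mul_apply]; exact hfixb _ hac
      refine ⟨ρ * σ₁, mul_mem hs hσ₁w, k₁ * (goodE7.nG (a₁ : ℕ) (1 : Lˣ))⁻¹, mul_mem hk₁m (inv_mem ?_),
        goodE7.nG (a₁ : ℕ) (1 : Lˣ) * M₁, mul_mem (goodE7.nG_mem a₁.2) hM₁m, goodE7.acts_mul hza hM₁a,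
        by rw [haf₁]; group, ?_, ?_, e1, by rw [e1, e2]⟩
      · have h1 : (a₁ : ℕ) ∈ Sk := (hkill a₁).1 ha₁
        have h2 : chevE7.neg (a₁ : ℕ) ∈ Sk := by
          have : rootVal c (chevE7.neg (a₁ : ℕ)) = (rootVal c (a₁ : ℕ))⁻¹ := rootVal_neg_E7 c a₁
          show rootVal c _ = 1
          rw [this, h1, inv_one]
        rw [Good.nG]
        exact mul_mem (mul_mem (goodE7.mem_rootGen a₁.2 h1 _) (goodE7.mem_rootGen (goodE7.neg_lt a₁.2) h2 _))
          (goodE7.mem_rootGen a₁.2 h1 _)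
      · rw [goodE7.coMat_mul hs, hmm, ← Matrix.mulVec_mulVec, hsfix _ v (mem_killed.1 ha₁), hRσ₁]
      · rw [e1, e2, Equiv.Perm.mul_apply, h3, hnr hs, hsa, goodE7.nroot_nroot]
  have hab' : ipR a₁ (σ a₁) = 0 := hσa.symm ▸ hab
  have hac' : ipR a₁ (σ (σ a₁)) = 0 := hσb.symm ▸ hac
  have hbc' : ipR (σ a₁) (σ (σ a₁)) = 0 := by rw [hσb, hσa]; exact hbc
  have hsix : ∀ u : Fin chevE7.nroots, (u : ℕ) ∈ Sk → u = a₁ ∨ u = goodE7.nroot a₁ ∨ u = σ a₁ ∨
      u = goodE7.nroot (σ a₁) ∨ u = σ (σ a₁) ∨ u = goodE7.nroot (σ (σ a₁)) := fun u hu => by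
    have h := hlist u ((hkill u).2 hu)
    simp only [Finset.mem_insert, Finset.mem_singleton] at h
    rwa [hσb, hσa]
  have horth : ∀ {x y u w : Fin chevE7.nroots}, ipR x y = 0 → (u = x ∨ u = goodE7.nroot x) →
      (w = y ∨ w = goodE7.nroot y) → ∀ t t' : L, Commute (goodE7.xG (u : ℕ) t) (goodE7.xG (w : ℕ) t') := by
    intro x y u w hxy hu hw
    refine fun t t' => orth_commute ?_ t t'
    rcases hu with rfl | rfl <;> rcases hw with rfl | rfl
    · exact hxy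
    · rw [ipR_comm, ipR_nroot_left, ipR_comm, hxy, neg_zero]
    · rw [ipR_nroot_left, hxy, neg_zero]
    · rw [ipR_nroot_left, ipR_comm, ipR_nroot_left, ipR_comm, hxy, neg_zero, neg_zero]
  have hM1 : M + 1 = q ^ 48 := by rw [hMdef, Nat.sub_add_cancel hqd.le, hd48]
  obtain ⟨hord, hnorm⟩ := norm_data hγ hq2 hM1 hγo
  have hpow48 : ∀ z : L, z ^ (q ^ 3) ^ 16 = z := fun z => by
    rw [← pow_mul, show 3 * 16 = d by rw [hd48], ← hL, FiniteField.pow_card]
  have hcomm0 : ∀ u w, (u = a₁ ∨ u = goodE7.nroot a₁) →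
      (w = σ a₁ ∨ w = goodE7.nroot (σ a₁) ∨ w = σ (σ a₁) ∨ w = goodE7.nroot (σ (σ a₁))) →
      ∀ t t' : L, Commute (goodE7.xG (u : ℕ) t) (goodE7.xG (w : ℕ) t') := by
    rintro u w hu (h | h | h | h)
    exacts [horth hab' hu (Or.inl h), horth hab' hu (Or.inr h), horth hac' hu (Or.inl h), horth hac' hu (Or.inr h)]
  obtain ⟨k₃, hk₃, hk₃c, haf₃, hact₃⟩ := goodE7.exists_gauge q φ hφ gc hM₂m hσw hM₂a hσ3 (hnr hσw)
    hcomm0 (fun u w hu hw => horth hbc' hu hw) hsix hk₂m haf₂ hpow48 (by norm_num) hord hnorm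
  set af₃ := (gc * k₃)⁻¹ * scalarGL chevE7 φ (gc * k₃) with haf₃'
  have hσσ : ((σ⁻¹)⁻¹ : Equiv.Perm (Fin chevE7.nroots)) = σ := inv_inv σ
  have hsymm : ∀ u, σ⁻¹ (σ u) = u := fun u => σ.symm_apply_apply u
  have hodd : Even q → (-1 : L) = 1 := fun he => by
    have h0 : (-1 : F) ^ (q - 1) = 1 := hF ▸ FiniteField.pow_card_sub_one_eq_one (-1 : F) (neg_ne_zero.2 one_ne_zero)
    rw [(Nat.Even.sub_odd (by omega) he odd_one).neg_one_pow] at h0
    simpa using congrArg ι h0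
  let Φ₃ : L →+* L := φ.comp (φ.comp φ)
  have hΦ₃ : ∀ z, Φ₃ z = z ^ q ^ 3 := fun z => by
    show φ (φ (φ z)) = _
    rw [hφ, hφ, hφ]; ring
  obtain ⟨k₄, hk₄, hk₄c, z₄, hz₄m, ⟨l, i, hli, hz₄a⟩, haf₄⟩ := goodE7.exists_orth_lang q φ hφ (gc * k₃)
    (mul_mem hgc hk₃) (n := af₃⁻¹) (inv_mem haf₃) (π := σ⁻¹) (inv_mem hσw) (goodE7.acts_inv hact₃)
    (by rw [mul_inv_cancel]; exact one_mem _) (a := a₁)
    (by
      calc σ⁻¹ (σ⁻¹ (σ⁻¹ a₁)) = σ⁻¹ (σ⁻¹ (σ⁻¹ (σ (σ (σ a₁))))) := by rw [hσ3]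
        _ = a₁ := by simp only [hsymm])
    (hnr (inv_mem hσw))
    (by rw [hσσ]; exact hcomm0)
    (by rw [hσσ]; exact fun u w hu hw => horth hbc' hu hw)
    hpow48 (by norm_num) (fun k hk => exists_lang_data hγ hq2 hM1 hγo hodd Φ₃ hΦ₃ k hk)
  simp only [hσσ] at hk₄c
  obtain ⟨hs, hsa, hsfix⟩ := refl_word goodE7 (α := a₁) hli
  set ρ := goodE7.wperm l * goodE7.rperm i * (goodE7.wperm l)⁻¹ with hρ
  obtain ⟨T, hRτ⟩ := turn_twist hσw hRσ ha₁ hab' hac' hbc' hσ3 hs hsa hsfix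
  set τ := ρ * σ with hτ
  set g₄ := gc * k₃ * k₄ with hg₄
  set af₄ := g₄⁻¹ * scalarGL chevE7 φ g₄ with haf₄'
  have hk₁a : rootVal c (a₁ : ℕ) = 1 ∧ rootVal c (σ a₁ : Fin chevE7.nroots) = 1 ∧
      rootVal c (σ (σ a₁) : Fin chevE7.nroots) = 1 :=
    have h1 := (hkill a₁).1 ha₁
    have h2 := hinv σ hσw hRσ a₁ h1
    ⟨h1, h2, hinv σ hσw hRσ _ h2⟩
  have hg₄m : g₄ ∈ chevE7.group L := mul_mem (mul_mem hgc hk₃) hk₄
  have hx₄ : g₄⁻¹ * scalarGL chevE7 ι x * g₄ = torHom chevE7 L c := by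
    have h1 := (hk₃c c hk₁a.1 hk₁a.2.1 hk₁a.2.2).eq
    have h2 := (hk₄c c hk₁a.1 hk₁a.2.1 hk₁a.2.2).eq
    calc g₄⁻¹ * scalarGL chevE7 ι x * g₄ =
        k₄⁻¹ * (k₃⁻¹ * ((gc⁻¹ * scalarGL chevE7 ι x * gc) * k₃) * k₄) := by rw [hg₄]; group
      _ = _ := by rw [← hct, ← h1, inv_mul_cancel_left, ← h2, inv_mul_cancel_left]
  have haf₄m : af₄ ∈ chevE7.monomialSubgroup L := haf₄.symm ▸ mul_mem hz₄m haf₃
  have haf₄a : goodE7.Acts af₄ τ := haf₄.symm ▸ goodE7.acts_mul hz₄a hact₃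
  set n₄ := af₄⁻¹ with hn₄
  set π₄ := τ⁻¹ with hπ₄
  have hn₄m : n₄ ∈ chevE7.monomialSubgroup L := inv_mem haf₄m
  have hn₄a : goodE7.Acts n₄ π₄ := goodE7.acts_inv haf₄a
  have hτw : τ ∈ goodE7.weyl := T.mem
  have hπ₄w : π₄ ∈ goodE7.weyl := inv_mem hτw
  have hππ : π₄⁻¹ = τ := inv_inv τ
  have h12τ := hdvdchar _ hτw hRτ
  have hcharτ := charpoly_turn T h12τ
  have hchar₄ : (goodE7.coMat π₄).charpoly = cyclotomic 12 ℤ * (X ^ 3 + 1) := by
    rw [charpoly_inv_E7 hπ₄w, hππ, hcharτ]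
  obtain ⟨w, hwi, hwk, hworth, hwfix⟩ := exists_plane hτw h12τ hrW hr12 hζ hv0 hRτ
  have hτ1 : τ a₁ = σ a₁ := by
    rw [hτ, Equiv.Perm.mul_apply]
    exact goodE7.coVec_injective (by rw [refl_formula hs hsa hsfix, ipR_comm, hab', zero_smul, sub_zero])
  have hτ2 : τ (σ a₁) = σ (σ a₁) := by
    rw [hτ, Equiv.Perm.mul_apply]
    exact goodE7.coVec_injective (by rw [refl_formula hs hsa hsfix, ipR_comm, hac', zero_smul, sub_zero])
  have hkillτ : ∀ p ∈ [a₁, τ a₁, τ (τ a₁)], p ∈ killed v := by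
    intro p hp
    simp only [List.mem_cons, List.not_mem_nil, or_false] at hp
    rcases hp with rfl | rfl | rfl
    exacts [ha₁, (killed_apply hτw hRτ hqz _).2 ha₁,
      (killed_apply hτw hRτ hqz _).2 ((killed_apply hτw hRτ hqz _).2 ha₁)]
  have hworth' : ∀ p ∈ [a₁, τ a₁, τ (τ a₁)], ∀ k, ipV (goodE7.coVec p) (w k) = 0 :=
    fun p hp => hworth p (hkillτ p hp)
  -- exponents
  set N : ℕ := P * (q ^ 3 + 1) with hNdef
  have hN0 : 0 < N := Nat.mul_pos (by omega) (by omega)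
  have hNev : (cyclotomic 12 ℤ * (X ^ 3 + 1)).eval (q : ℤ) = (N : ℤ) := by
    rw [eval_mul, cyclotomic_twelve, hNdef, Nat.cast_mul, hPz]
    simp
  set Y := goodE7.coMat π₄ with hY
  set A : Matrix (Fin chevE7.rank) (Fin chevE7.rank) ℤ := Matrix.scalar _ (q : ℤ) - Y with hA
  have hdet : A.det = (N : ℤ) := by rw [hA, ← hNev, ← hchar₄, Matrix.eval_charpoly]
  have hA'det : (Matrix.scalar (Fin chevE7.rank) (q : ℤ) - Yᵀ).det = (N : ℤ) := by
    rw [← hdet, hA, ← Matrix.det_transpose, Matrix.transpose_sub, Matrix.transpose_transpose,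
      show (Matrix.scalar (Fin chevE7.rank) (q : ℤ))ᵀ = Matrix.scalar _ (q : ℤ) by simp [Matrix.scalar_apply]]
  have hdvd12 : cyclotomic 12 ℤ * (X ^ 3 + 1) ∣ (X ^ 12 - 1 : ℤ[X]) :=
    ⟨(X ^ 2 + 1) * (X ^ 3 - 1), by rw [cyclotomic_twelve]; ring⟩
  have hN12 : N ∣ q ^ 12 - 1 := by
    rw [← Int.natCast_dvd_natCast, Nat.cast_sub (Nat.one_le_pow _ _ (by omega)), ← hNev]
    simpa using Polynomial.eval_dvd hdvd12 (x := (q : ℤ))
  have hNM : N ∣ M := hN12.trans hM12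
  have hN : ∀ e : Fin chevE7.rank → Lˣ, e ^ q = powMap Y e → e ^ N = 1 := by
    intro e he
    have h1 : powMap A e = 1 := by
      funext j
      have hterm : ∀ i, e i ^ A i j = e i ^ ((if i = j then (q : ℤ) else 0)) * (e i ^ Y i j)⁻¹ := fun i => by
        rw [← _root_.zpow_sub, hA, Matrix.sub_apply, Matrix.scalar_apply, Matrix.diagonal_apply]
      simp only [powMap_apply, hterm, Finset.prod_mul_distrib, Finset.prod_inv_distrib, Pi.one_apply]
      rw [Finset.prod_eq_single j (fun i _ h => by simp [h]) (by simp), if_pos rfl, zpow_natCast,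
        ← powMap_apply Y e j, ← congrFun he j, Pi.pow_apply, mul_inv_cancel]
    have h2 := congrArg (powMap (G := Lˣ) A.adjugate) h1
    rw [map_one, ← MonoidHom.comp_apply, ← powMap_mul, Matrix.mul_adjugate, hdet, powMap_smul_one] at h2
    exact h2
  have h4N : q % 2 = 1 → 4 * N ∣ M := fun ho => by
    have h4 : 4 ∣ (q ^ 12) ^ 3 + (q ^ 12) ^ 2 + q ^ 12 + 1 := by
      rw [← CharP.cast_eq_zero_iff (ZMod 4) 4]
      have hx : ∀ x : ZMod 4, x.val % 2 = 1 →
          (x ^ 12) ^ 3 + (x ^ 12) ^ 2 + x ^ 12 + 1 = 0 := by decide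
      push_cast
      exact hx _ (by rw [ZMod.val_natCast]; omega)
    have e : M = (q ^ 12 - 1) * ((q ^ 12) ^ 3 + (q ^ 12) ^ 2 + q ^ 12 + 1) := by
      have h1 : 1 ≤ q ^ 12 := Nat.one_le_pow _ _ (by omega)
      zify [h1]
      rw [hMcast, hd48]; ring
    rw [e, mul_comm 4]
    exact Nat.mul_dvd_mul hN12 h4
  have hMpos : 0 < M := by omega
  have hsq : ∀ t : Lˣ, t ^ (2 * N) = 1 → ∃ s, s ^ 2 = t := by
    intro t ht
    obtain ⟨k, hk⟩ := Subgroup.mem_zpowers_iff.1 (hγ t)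
    rcases Nat.even_or_odd q with he | ho
    · obtain ⟨j, hj⟩ : Odd M := by
        rw [hMdef]; exact Nat.Even.sub_odd (by omega) (he.pow_of_ne_zero (by omega)) odd_one
      refine ⟨γ ^ (k * ((j : ℤ) + 1)), ?_⟩
      rw [← zpow_natCast, ← _root_.zpow_mul, ← hk, hzz, hj]
      have : ((2 * j + 1 : ℕ) : ZMod (2 * j + 1)) = 0 := ZMod.natCast_self _
      push_cast at this ⊢
      linear_combination (k : ZMod (2 * j + 1)) * this
    · obtain ⟨m', hm'⟩ := h4N (Nat.odd_iff.1 ho)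
      rw [← hk, ← zpow_natCast, ← _root_.zpow_mul, ← orderOf_dvd_iff_zpow_eq_one, hγo, hm'] at ht
      have h2 : (2 : ℤ) ∣ k := by
        obtain ⟨j, hj⟩ := ht
        refine ⟨m' * j, mul_right_cancel₀ (b := ((2 * N : ℕ) : ℤ)) (by exact_mod_cast (by omega : 2 * N ≠ 0)) ?_⟩
        rw [hj]; push_cast; ring
      obtain ⟨j, hj⟩ := h2
      exact ⟨γ ^ j, by rw [← zpow_natCast, ← _root_.zpow_mul, ← hk, hj, mul_comm]; norm_num⟩
  obtain ⟨hpts, hpts'⟩ := torus_points ι φ q N hφ hφι hfix hg₄m hn₄m hπ₄w hn₄a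
    (show af₄ * n₄ = 1 from mul_inv_cancel af₄) hN hsq
  -- the exponent group
  set S : Subgroup (Fin chevE7.rank → Lˣ) := (powMonoidHom q).eqLocus (powMap Y) with hS
  have hSmem : ∀ e, e ∈ S ↔ e ^ q = powMap Y e := fun e => Iff.rfl
  set A' : Matrix (Fin chevE7.rank) (Fin chevE7.rank) ℤ := Matrix.scalar _ (q : ℤ) - Yᵀ with hA'
  have hA'0 : A'.det ≠ 0 := by rw [hA'det]; exact_mod_cast hN0.ne'
  have hKcard : Nat.card (kerMod A' M) = N := by
    rw [kerMod, card_ker_mod A' hA'0 (by rw [hA'det]; exact Int.natCast_dvd_natCast.2 hNM), hA'det, Int.natAbs_natCast]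
  have hKcyc : IsCyclic (Multiplicative (kerMod A' M)) := by
    haveI : Finite (Multiplicative (kerMod A' M)) := inferInstanceAs (Finite (kerMod A' M))
    refine isCyclic_of_prime_torsion fun s hs => ?_
    haveI : Fact s.Prime := ⟨hs⟩
    refine le_trans (le_trans (le_of_eq ?_) (card_torsion_kerMod_le A' M (s := s))) ?_
    · exact Nat.card_congr (Equiv.subtypeEquiv Multiplicative.toAdd fun z => Iff.rfl)
    · by_cases hs2 : s = 2
      · subst hs2
        refine card_kerMod_simple Yᵀ (-1) ((X ^ 2 - X + 1) * cyclotomic 12 ℤ) ?_ _ ?_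
        · rw [Matrix.charpoly_transpose, hY, hchar₄, Polynomial.C_neg, Polynomial.C_1]; ring
        · rw [eval_mul, cyclotomic_twelve]
          push_cast [eval_add, eval_sub, eval_pow, eval_X, eval_one]
          have h : ∀ x : ZMod 2, (x ^ 2 - x + 1) * (x ^ 4 - x ^ 2 + 1) ≠ 0 := phi_two
          exact h _
      by_cases hs3 : s = 3
      · subst hs3
        exact card_ker_three hπ₄w (hππ.symm ▸ T) (hππ.symm ▸ h12τ) hwi (hππ.symm ▸ hwk) (hππ.symm ▸ hworth') _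
      refine card_kerMod_separable Yᵀ (d := 12) (by rw [Matrix.charpoly_transpose, hY, hchar₄]; exact hdvd12) ?_ (q : ℤ)
      intro h
      rw [show (12 : ℕ) = 2 * 2 * 3 by rfl, hs.dvd_mul, hs.dvd_mul] at h
      rcases h with (h' | h') | h'
      exacts [hs2 ((Nat.prime_dvd_prime_iff_eq hs Nat.prime_two).1 h'),
        hs2 ((Nat.prime_dvd_prime_iff_eq hs Nat.prime_two).1 h'),
        hs3 ((Nat.prime_dvd_prime_iff_eq hs Nat.prime_three).1 h')]
  have hKmem : ∀ κ : Fin chevE7.rank → ℤ, (fun j => (κ j : ZMod M)) ∈ kerMod A' M ↔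
      (fun j => γ ^ κ j) ∈ S := by
    intro κ
    rw [intCast_mem_kerMod, hSmem, funext_iff]
    refine forall_congr' fun j => ?_
    rw [hA', Matrix.sub_mulVec, Pi.sub_apply, Int.cast_sub, sub_eq_zero, Matrix.scalar_apply, Matrix.mulVec_diagonal,
      Pi.pow_apply, powMap_apply, ← zpow_natCast]
    simp only [← _root_.zpow_mul, ← zpow_finsum, hzz]
    rw [mul_comm (κ j), Matrix.mulVec, dotProduct]
    simp only [Matrix.transpose_apply, Int.cast_sum, Int.cast_mul, mul_comm ((Y _ j : ℤ) : ZMod M)]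
  choose lg hlg using fun t : Lˣ => Subgroup.mem_zpowers_iff.1 (hγ t)
  have hlg' : ∀ e : Fin chevE7.rank → Lˣ, (fun j => γ ^ lg (e j)) = e := fun e => funext fun j => hlg (e j)
  let fS : ↥S →* Multiplicative (kerMod A' M) :=
    MonoidHom.mk' (fun e => Multiplicative.ofAdd ⟨fun j => (lg (e.1 j) : ZMod M),
      (hKmem _).2 (by rw [hlg']; exact e.2)⟩) fun e e' => by
      rw [← ofAdd_add]
      congr 1
      refine Subtype.ext (funext fun j => ?_)
      show ((lg ((e * e').1 j) : ℤ) : ZMod M) = (lg (e.1 j) : ZMod M) + (lg (e'.1 j) : ZMod M)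
      rw [← Int.cast_add, ← hzz, hlg, _root_.zpow_add, hlg, hlg]
      rfl
  have hfbij : Function.Bijective fS := by
    refine ⟨fun e e' h => Subtype.ext (funext fun j => ?_), fun z => ?_⟩
    · rw [← hlg (e.1 j), ← hlg (e'.1 j), hzz]
      exact congrFun (congrArg Subtype.val (Multiplicative.ofAdd.injective h)) j
    · obtain ⟨⟨zv, hz⟩, rfl⟩ := Multiplicative.ofAdd.surjective z
      set κ : Fin chevE7.rank → ℤ := fun j => ((zv j).val : ℤ) with hκ
      have hκz : (fun j => (κ j : ZMod M)) = zv := funext fun j => by simp [hκ]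
      refine ⟨⟨fun j => γ ^ κ j, (hKmem κ).1 (hκz ▸ hz)⟩, ?_⟩
      refine congrArg Multiplicative.ofAdd (Subtype.ext (funext fun j => ?_))
      show ((lg (γ ^ κ j) : ℤ) : ZMod M) = zv j
      rw [← congrFun hκz j, ← hzz, hlg]
  haveI : Finite (Multiplicative (kerMod A' M)) := inferInstanceAs (Finite (kerMod A' M))
  have hScard : Nat.card ↥S = N := by
    rw [Nat.card_eq_of_bijective fS hfbij]
    exact (Nat.card_congr Multiplicative.toAdd).trans hKcard
  haveI hScyc : IsCyclic ↥S := isCyclic_of_injective fS hfbij.1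
  -- the kernel of the map to the torus
  have hkerS : (torHom chevE7 L).ker ≤ S := by
    intro κ hκ
    have hY2 : powMap Y κ ∈ (torHom chevE7 L).ker := by
      rw [MonoidHom.mem_ker, hY, ← conj_torHom_E7 hn₄m hπ₄w hn₄a, MonoidHom.mem_ker.1 hκ, mul_one, mul_inv_cancel]
    have hc2 := card_torHom_ker_E7 (L := L)
    rcases Nat.eq_zero_or_pos ((Fintype.card L - 1).gcd 2) with h0 | hpos
    · simp [Nat.gcd_eq_zero_iff] at h0
    rw [hSmem]
    by_cases hκ1 : κ = 1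
    · rw [hκ1, map_one, one_pow]
    have hg2 : (Fintype.card L - 1).gcd 2 = 2 := by
      rcases (Nat.dvd_prime Nat.prime_two).1 (Nat.gcd_dvd_right (Fintype.card L - 1) 2) with h | h
      · exfalso
        rw [h] at hc2
        exact hκ1 (Subgroup.eq_bot_of_card_eq _ hc2 ▸ hκ : κ ∈ (⊥ : Subgroup _))
      · exact h
    have hκ2 : κ ^ 2 = 1 := by
      have h := pow_card_eq_one' (G := ↥(torHom chevE7 L).ker) (x := ⟨κ, hκ⟩)
      rw [hc2, hg2] at h
      exact congrArg Subtype.val h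
    have hYκ : powMap Y κ ≠ 1 := fun h => hκ1 (by
      rw [← powMap_one κ, ← (goodE7.coMat_inv_mul hπ₄w).2, ← hY, powMap_mul, MonoidHom.comp_apply, h, map_one])
    have heq : powMap Y κ = κ := by
      by_contra hne'
      haveI : Finite ↥(torHom chevE7 L).ker := Nat.finite_of_card_ne_zero (by rw [hc2]; omega)
      have h3 : 2 < Nat.card ↥(torHom chevE7 L).ker := by
        haveI := Fintype.ofFinite ↥(torHom chevE7 L).ker
        rw [Nat.card_eq_fintype_card, Fintype.two_lt_card_iff]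
        exact ⟨1, ⟨κ, hκ⟩, ⟨_, hY2⟩, fun h => hκ1 (congrArg Subtype.val h).symm,
          fun h => hYκ (congrArg Subtype.val h).symm, fun h => hne' (congrArg Subtype.val h).symm⟩
      omega
    have hqodd : Odd q := by
      rcases Nat.even_or_odd q with he | ho
      · exfalso
        have h2M : 2 ∣ Fintype.card L - 1 := hg2 ▸ Nat.gcd_dvd_left _ _
        have : Odd (Fintype.card L - 1) := by
          rw [hL]; exact Nat.Even.sub_odd (by omega) (he.pow_of_ne_zero (by omega)) odd_one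
        exact (Nat.not_even_iff_odd.2 this) (even_iff_two_dvd.2 h2M)
      · exact ho
    obtain ⟨j, hj⟩ := hqodd
    rw [heq, hj, pow_succ, pow_mul, hκ2, one_pow, one_mul]
  -- the centraliser
  let Θ₄ : ↥(chevE7.group F) →* GL chevE7.Idx L :=
    (MulAut.conj g₄⁻¹).toMonoidHom.comp ((scalarGL chevE7 ι).comp (chevE7.group F).subtype)
  have hΘv₄ : ∀ y : ↥(chevE7.group F), Θ₄ y = g₄⁻¹ * scalarGL chevE7 ι y * g₄ := fun y => by
    show g₄⁻¹ * scalarGL chevE7 ι y * g₄⁻¹⁻¹ = _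
    rw [inv_inv]
  have hΘinj₄ : Function.Injective Θ₄ := fun a b h =>
    Subtype.ext (scalarGL_injective ι ((MulEquiv.injective (MulAut.conj g₄⁻¹)) h))
  set C : Subgroup ↥(chevE7.group F) := (chevE7.diagonalSubgroup L).comap Θ₄ with hC
  have himg : C.map Θ₄ = S.map (torHom chevE7 L) := by
    refine le_antisymm ?_ ?_
    · rintro _ ⟨y, hy, rfl⟩
      obtain ⟨e, he, hey⟩ := hpts' y y.2 (by rw [← hΘv₄]; exact hy)
      exact ⟨e, he, by rw [hΘv₄, hey]⟩
    · rintro _ ⟨e, he, rfl⟩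
      obtain ⟨x', hx', hxe⟩ := hpts e he
      refine ⟨⟨x', hx'⟩, ?_, by rw [hΘv₄]; exact hxe⟩
      show Θ₄ ⟨x', hx'⟩ ∈ chevE7.diagonalSubgroup L
      rw [hΘv₄, show g₄⁻¹ * scalarGL chevE7 ι x' * g₄ = torHom chevE7 L e from hxe]
      exact goodE7.torHom_mem e
  have hCeq : Nat.card C = Nat.card ↥(S.map (torHom chevE7 L)) := by
    rw [← himg, Nat.card_congr (C.equivMapOfInjective Θ₄ hΘinj₄).toEquiv]
  haveI : IsCyclic ↥(S.map (torHom chevE7 L)) :=
    isCyclic_of_surjective _ ((torHom chevE7 L).subgroupMap_surjective S)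
  haveI hCcyc : IsCyclic ↥C := by
    haveI : IsCyclic ↥(C.map Θ₄) := by rw [himg]; infer_instance
    exact isCyclic_of_injective (C.equivMapOfInjective Θ₄ hΘinj₄).toMonoidHom (MulEquiv.injective _)
  have hgq : Nat.gcd (Fintype.card L - 1) 2 = Nat.gcd 2 (q - 1) := by
    rw [hL, Nat.gcd_comm 2]
    rcases Nat.even_or_odd q with he | ho
    · rw [Nat.coprime_two_right.2 (Nat.Even.sub_odd (by omega) (he.pow_of_ne_zero (by omega)) odd_one),
        Nat.coprime_two_right.2 (Nat.Even.sub_odd (by omega) he odd_one)]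
    · rw [Nat.gcd_eq_right (Nat.Odd.sub_odd (ho.pow) odd_one).two_dvd,
        Nat.gcd_eq_right (Nat.Odd.sub_odd ho odd_one).two_dvd]
  have hCcard : Nat.card C = N / Nat.gcd 2 (q - 1) := by
    have h1 := Subgroup.card_eq_card_quotient_mul_card_subgroup ((torHom chevE7 L).comp S.subtype).ker
    rw [Nat.card_congr (QuotientGroup.quotientKerEquivRange _).toEquiv, MonoidHom.range_comp, Subgroup.range_subtype,
      ← hCeq, hScard] at h1
    have h2 : Nat.card ((torHom chevE7 L).comp S.subtype).ker = Nat.gcd 2 (q - 1) := by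
      rw [← hgq, ← card_torHom_ker_E7 (L := L)]
      exact Nat.card_congr ((Subgroup.subgroupOfEquivOfLe hkerS).toEquiv)
    rw [h1, h2, Nat.mul_div_cancel _ (Nat.gcd_pos_of_pos_left _ (by norm_num))]
  refine ⟨C, hCcyc, hCcard, le_antisymm ?_ ?_⟩
  swap
  · intro z hz
    refine Subgroup.mem_centralizer_iff.2 fun y hy => hΘinj₄ ?_
    rw [map_mul, map_mul]
    exact goodE7.diagonal_comm hy hz
  -- a regular generator
  obtain ⟨⟨e, he⟩, hegen⟩ := IsCyclic.exists_generator (α := ↥S)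
  have heo : orderOf e = N := by
    rw [← hScard, ← orderOf_eq_card_of_forall_mem_zpowers hegen, ← Subgroup.orderOf_coe]
  have hxC : x ∈ C := show Θ₄ x ∈ _ by rw [hΘv₄, hx₄]; exact goodE7.torHom_mem c
  obtain ⟨ec, hec, hec'⟩ : torHom chevE7 L c ∈ S.map (torHom chevE7 L) := by
    rw [← himg, ← hx₄, ← hΘv₄]; exact Subgroup.mem_map_of_mem Θ₄ hxC
  obtain ⟨jc, hjc⟩ := Subgroup.mem_zpowers_iff.1 (hegen ⟨ec, hec⟩)
  have hrv : ∀ u : Fin chevE7.nroots, rootVal c u = rootVal e u ^ jc := by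
    intro u
    rw [goodE7.rootVal_eq_of_torHom hec'.symm u.2, show ec = e ^ jc from congrArg Subtype.val hjc.symm]
    exact rootVal_zpow_E7 e jc u
  have hne' : ∀ u : Fin chevE7.nroots, rootVal e u = 1 → rootVal c u = 1 := fun u hu => by
    rw [hrv, hu, _root_.one_zpow]
  have heq' : e ^ q = powMap Y e := he
  have hfr : ∀ (f : Fin chevE7.rank → Lˣ), f ^ q = powMap Y f →
      ∀ u : Fin chevE7.nroots, rootVal f (τ u) = rootVal f u ^ q := by
    intro f hf u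
    have h := goodE7.rootVal_conj hn₄a (c := f) (c' := f ^ q)
      (by rw [hf]; exact conj_torHom_E7 hn₄m hπ₄w hn₄a f) (τ u)
    rw [show π₄ (τ u) = u from τ.symm_apply_apply u, rootVal_pow] at h
    exact h.symm
  have hneg : ∀ (f : Fin chevE7.rank → Lˣ) (u : Fin chevE7.nroots),
      rootVal f (goodE7.nroot u : ℕ) = (rootVal f (u : ℕ))⁻¹ := fun f u => by
    exact rootVal_neg_E7 f u
  -- the value at a killed root is large
  have hbig : rootVal e (a₁ : ℕ) ^ (2 * (q + 1)) ≠ 1 := by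
    intro hb
    set f := e ^ (2 * (q + 1)) with hf
    have hf' : f ^ q = powMap Y f := by rw [hf, map_pow, ← heq', ← pow_mul, ← pow_mul, mul_comm]
    obtain ⟨κ, hκ⟩ := hexp f
    set κM : Fin chevE7.rank → ZMod M := fun j => (κ j : ZMod M) with hκM
    have hdot : ∀ u : Fin chevE7.nroots, dotMod κM (goodE7.coVec u) =
        ((∑ i, goodE7.coVec u i * κ i : ℤ) : ZMod M) := fun u => by
      simp [dotMod, dotProduct, hκM]
    have hκv : (goodE7.coMat τ).map (Int.cast : ℤ → ZMod M) *ᵥ κM = ((q : ℤ) : ZMod M) • κM := by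
      funext j
      show ∑ t, ((goodE7.coMat τ j t : ℤ) : ZMod M) * ((κ t : ℤ) : ZMod M) = ((q : ℤ) : ZMod M) * ((κ j : ℤ) : ZMod M)
      rw [Finset.sum_congr rfl fun t _ => (Int.cast_mul (goodE7.coMat τ j t) (κ t)).symm, ← Int.cast_sum,
        ← Int.cast_mul, ← hzz]
      have h := hfr f hf' (goodE7.sroot j)
      rw [hκ, hκ, hsum, ← zpow_natCast, ← _root_.zpow_mul, mul_comm (κ j)] at h
      exact h
    have hfa : rootVal f (a₁ : ℕ) = 1 := by rw [hf, rootVal_pow]; exact hb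
    have hf0 : ∀ p : Fin chevE7.nroots, rootVal f (p : ℕ) = 1 → dotMod κM (goodE7.coVec p) = 0 := fun p hp => by
      rw [hdot, ← Int.cast_zero (R := ZMod M), ← hzz, _root_.zpow_zero, ← hκ, hp]
    have h4 := four_mul_kill T h12τ hwi hwk hworth' κM (q : ℤ) hκv (by
      have h1 : rootVal f (τ a₁ : Fin chevE7.nroots) = 1 := by rw [hfr f hf', hfa, one_pow]
      simp only [List.mem_cons, List.not_mem_nil, or_false, forall_eq_or_imp, forall_eq]
      exact ⟨hf0 _ hfa, hf0 _ h1, hf0 _ (by rw [hfr f hf', h1, one_pow])⟩)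
    have h1 : torHom chevE7 L (f ^ (4 * P)) = 1 := by
      rw [← map_one (torHom chevE7 L)]
      refine goodE7.torHom_eq_of_simple fun j => ?_
      rw [rootVal_one, rootVal_pow, show chevE7.simple j = ((goodE7.sroot j : Fin chevE7.nroots) : ℕ) from rfl,
        hκ, hsum, ← zpow_natCast, ← _root_.zpow_mul, ← _root_.zpow_zero γ, hzz, Int.cast_zero]
      have h5 := h4 j
      rw [show (cyclotomic 12 ℤ).eval (q : ℤ) = (P : ℤ) by rw [cyclotomic_twelve, hPz]; simp] at h5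
      push_cast at h5 ⊢
      linear_combination h5
    have h2 : (f ^ (4 * P)) ^ 2 = 1 := by
      have h := pow_card_eq_one' (G := ↥(torHom chevE7 L).ker) (x := ⟨_, MonoidHom.mem_ker.2 h1⟩)
      obtain ⟨t, ht⟩ := Nat.gcd_dvd_right (Fintype.card L - 1) 2
      rw [card_torHom_ker_E7] at h
      rw [ht, pow_mul, show (f ^ (4 * P)) ^ (Fintype.card L - 1).gcd 2 = 1 from congrArg Subtype.val h, one_pow]
    rw [hf, ← pow_mul, ← pow_mul, ← orderOf_dvd_iff_pow_eq_one, heo, hNdef] at h2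
    have h3 : q ^ 3 + 1 ∣ 16 * (q + 1) := by
      refine (Nat.mul_dvd_mul_iff_left (by omega : 0 < P)).1 (h2.trans (dvd_of_eq ?_))
      ring
    have h3' : ((q : ℤ) ^ 3 + 1) ∣ 16 * ((q : ℤ) + 1) := by exact_mod_cast h3
    rw [show (q : ℤ) ^ 3 + 1 = ((q : ℤ) ^ 2 - q + 1) * (q + 1) by ring,
      mul_dvd_mul_iff_right (by omega)] at h3'
    exact phi_six_sixteen (q : ℤ) (by omega) h3'
  have hτ3 : τ (τ (τ a₁)) = goodE7.nroot a₁ := T.turn
  set β := rootVal e (a₁ : ℕ) with hβ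
  have hβ1 : β ^ (q ^ 3 + 1) = 1 := by
    have h := hfr e heq' (τ (τ a₁))
    rw [hτ3, hfr e heq', hfr e heq', hneg, ← pow_mul, ← pow_mul, ← hβ] at h
    rw [pow_succ, show q ^ 3 = q * q * q by ring]
    rw [show q * (q * q) = q * q * q by ring] at h
    rw [← h, inv_mul_cancel]
  -- each of the three roots
  have hsep : ∀ b ∈ [a₁, τ a₁, τ (τ a₁)], τ (τ (τ b)) = goodE7.nroot b ∧
      rootVal e (b : ℕ) ^ (q ^ 3 + 1) = 1 ∧ rootVal e (b : ℕ) ^ (2 * (q + 1)) ≠ 1 ∧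
      ∀ u : Fin chevE7.nroots, rootVal c (u : ℕ) = 1 → u = b ∨ u = goodE7.nroot b ∨ u = τ b ∨
        u = goodE7.nroot (τ b) ∨ u = τ (τ b) ∨ u = goodE7.nroot (τ (τ b)) := by
    have hkey : ∀ b : Fin chevE7.nroots, rootVal e (b : ℕ) ^ (q ^ 3 + 1) = 1 →
        rootVal e (b : ℕ) ^ (2 * (q + 1)) ≠ 1 →
        rootVal e (τ b : Fin chevE7.nroots) ^ (q ^ 3 + 1) = 1 ∧
          rootVal e (τ b : Fin chevE7.nroots) ^ (2 * (q + 1)) ≠ 1 := fun b h1 h2 => by
      rw [hfr e heq']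
      refine ⟨by rw [← pow_mul, mul_comm, pow_mul, h1, one_pow], fun h => h2 ?_⟩
      have h' := congrArg (fun z => z ^ (q * q)) h
      simp only [one_pow, ← pow_mul] at h'
      have e1 : rootVal e (b : ℕ) ^ (2 * (q + 1) * (q ^ 3 + 1)) = 1 := by rw [mul_comm, pow_mul, h1, one_pow]
      rw [mul_add, mul_one, pow_add, show 2 * (q + 1) * q ^ 3 = q * (2 * (q + 1)) * (q * q) by ring, h', one_mul] at e1
      exact e1
    have hsix4 : ∀ u : Fin chevE7.nroots, rootVal c (u : ℕ) = 1 → u = a₁ ∨ u = goodE7.nroot a₁ ∨ u = τ a₁ ∨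
        u = goodE7.nroot (τ a₁) ∨ u = τ (τ a₁) ∨ u = goodE7.nroot (τ (τ a₁)) := fun u hu => by
      rw [hτ1, hτ2]; exact hsix u hu
    obtain ⟨k1, k2⟩ := hkey a₁ hβ1 hbig
    intro b hb
    simp only [List.mem_cons, List.not_mem_nil, or_false] at hb
    rcases hb with rfl | rfl | rfl
    · exact ⟨hτ3, hβ1, hbig, hsix4⟩
    · refine ⟨by rw [hτ3, hnr hτw], k1, k2, fun u hu => ?_⟩
      rw [hτ3, goodE7.nroot_nroot]
      rcases hsix4 u hu with h | h | h | h | h | h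
      exacts [.inr (.inr (.inr (.inr (.inr h)))), .inr (.inr (.inr (.inr (.inl h)))), .inl h, .inr (.inl h),
        .inr (.inr (.inl h)), .inr (.inr (.inr (.inl h)))]
    · obtain ⟨k3, k4⟩ := hkey _ k1 k2
      refine ⟨by rw [hτ3, hnr hτw, hnr hτw], k3, k4, fun u hu => ?_⟩
      rw [hτ3, hnr hτw, goodE7.nroot_nroot, goodE7.nroot_nroot]
      rcases hsix4 u hu with h | h | h | h | h | h
      exacts [.inr (.inr (.inr (.inl h))), .inr (.inr (.inl h)), .inr (.inr (.inr (.inr (.inr h)))),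
        .inr (.inr (.inr (.inr (.inl h)))), .inl h, .inr (.inl h)]
  have hreg : ∀ u < chevE7.nroots, rootVal e u ≠ 1 := by
    intro u hu h1
    obtain ⟨-, -, hb, hl⟩ := hsep a₁ (by simp)
    have hh : ∀ b ∈ [a₁, τ a₁, τ (τ a₁)], rootVal e (b : ℕ) ≠ 1 := fun b hb' h => (hsep b hb').2.2.1 (by rw [h, one_pow])
    have hall : ∀ z : Fin chevE7.nroots, rootVal e (z : ℕ) = 1 → False := fun z hz => by
      rcases hl z (hne' z hz) with h | h | h | h | h | h <;> rw [h] at hz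
      · exact hh a₁ (by simp) hz
      · rw [hneg] at hz; exact hh a₁ (by simp) (inv_eq_one.1 hz)
      · exact hh (τ a₁) (by simp) hz
      · rw [hneg] at hz; exact hh (τ a₁) (by simp) (inv_eq_one.1 hz)
      · exact hh (τ (τ a₁)) (by simp) hz
      · rw [hneg] at hz; exact hh (τ (τ a₁)) (by simp) (inv_eq_one.1 hz)
    exact hall ⟨u, hu⟩ h1
  have hcentral : ∀ {y : GL chevE7.Idx L}, y ∈ chevE7.group L → y * torHom chevE7 L e = torHom chevE7 L e * y →
      y ∈ chevE7.diagonalSubgroup L := by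
    intro y hy hey
    refine goodE7.centralizer_regular_stab hc hreg ?_ hy hey
    intro _ ρ' hρ' _ hρfix
    have hρc : ∀ u : Fin chevE7.nroots, rootVal c (ρ' u : ℕ) = rootVal c (u : ℕ) := fun u => by
      rw [hrv, hrv, hρfix]
    have hρv : (goodE7.coMat ρ').map (Int.cast : ℤ → ZMod r) *ᵥ v = v := by
      funext j
      rw [hvec, hv]
      have h := hρc (goodE7.sroot j)
      rw [hval, hval, hmr, hsum] at h
      exact h
    have hfixb : ∀ b ∈ [a₁, τ a₁, τ (τ a₁)], ρ' b = b := by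
      intro b hb
      obtain ⟨-, hb1, hb2, hl⟩ := hsep b hb
      obtain ⟨s1, s2, s3, s4, s5⟩ := sep_six _ q hb1 hb2
      have hcb : rootVal c (ρ' b : ℕ) = 1 := by rw [hρc]; exact (hkill b).1 (hkillτ b hb)
      have hval' := hρfix b
      rcases hl _ hcb with h | h | h | h | h | h <;>
        first
          | exact h
          | (rw [h] at hval'
             first
               | (rw [hneg, hfr e heq', hfr e heq'] at hval'; exact absurd hval'.symm s5)
               | (rw [hneg, hfr e heq'] at hval'; exact absurd hval'.symm s3)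
               | (rw [hneg] at hval'; exact absurd hval'.symm s1)
               | (rw [hfr e heq', hfr e heq'] at hval'; exact absurd hval'.symm s4)
               | (rw [hfr e heq'] at hval'; exact absurd hval'.symm s2))
    exact eq_one_of_fix_plane T hwi hworth' hρ' (hwfix ρ' hρ' hρv) (hfixb _ (by simp)) (hfixb _ (by simp))
      (hfixb _ (by simp))
  intro z hz
  obtain ⟨x', hx', hxe⟩ := hpts e he
  have hxm : (⟨x', hx'⟩ : ↥(chevE7.group F)) ∈ C := by
    show Θ₄ ⟨x', hx'⟩ ∈ chevE7.diagonalSubgroup L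
    rw [hΘv₄, show g₄⁻¹ * scalarGL chevE7 ι x' * g₄ = torHom chevE7 L e from hxe]
    exact goodE7.torHom_mem e
  have hcomm := Subgroup.mem_centralizer_iff.1 hz _ hxm
  show Θ₄ z ∈ chevE7.diagonalSubgroup L
  have hΘm : Θ₄ z ∈ chevE7.group L := by
    rw [hΘv₄]; exact mul_mem (mul_mem (inv_mem hg₄m) (goodE7.scalarGL_mem ι z.2)) hg₄m
  refine hcentral hΘm ?_
  rw [show torHom chevE7 L e = Θ₄ ⟨x', hx'⟩ from hxe.symm.trans (hΘv₄ ⟨x', hx'⟩).symm, ← map_mul, ← map_mul, hcomm]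

end CfsgLib.Chev.Springer
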