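import Mathlib

/-!
Tables for the involutions of E₈(q), q odd: representatives of the involutions of the Weyl group with the moves that
shorten them, and chains of the stabilisers of the two classes of involutions of the torus.
-/

set_option autoImplicit false

namespace CfsgLib.Chev.E8Invol

/-- The fundamental reflections, one byte per root. -/
def reflRows : List ℕ := [
  0xefeeedecebeae1e8e0dfdedddcdbe9e7e6e5e4e3e2dad9d8d7d6d5d4d3d2d1d0cfcecdcccbcac9c8c7c6c5c4c3c2c1c0bfbebdbcbbbab9b8a1a09f9e9d9c9b9a999897969594938c8b8a8988874db7b6b5b4b3b2b1b0afaeadacabaaa99291908f8e8da8a7a6a5a4a3868584838281807f7e7d7c7b7a797877767574737271706f6e6d6c6b6a694c4b4a4948476261605f5e5d464544434241403f3e3d3c3b3a3938a26867666564635c5b5a595857565554535251504f4e37363534333231302f2e2d2c2b2a292827262524232221201f1e1d1c1b1a19181716150d0c0b0a09080614131211100f070e050403020100,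
  0xefeeedecebe8e7eae9e6e5e4e3e2e0e1dfdedddcdbdad9d8d7d6cbcac9c8c7c6c5c4c3c2d5d4d3d2d1d0cfcecdccc1c0bfbebdbcbbbab9b8b7b6b5b4b3b2b1b0afaea8a7a6a5a4adacabaaa9a3a2a1a09f9e9d9c9b9a99988c8b8a89888685848382629796959493879291908f8e81807f7e7d7c7b7a797877767574737271706f6e61605f5e5d685c5b5a59588d6d6c6b6a69676665646357565554535251504f4e4d4c46454443424b4a49484741403f3e3d3c3b3a393837363534333231302f2e232221201f1e1d1c1b1a2d2c2b2a292827262524191817161514131211100e0f0d0c0b0a09060508070403020100,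
  0xefeeedecebe9eae7e8e6e5e4e3e2e1e0dad9d8d7d6dfdedddcdbd5d4d3d2d1d0cfcecdcccbcac9c8c7c6c5c4c3c2b7b6b5b4b3b2b1b0afaec1c0bfbebdbcbbbab9b8adacabaaa9a8a7a6a5a4a2a3a1a09f9e9d9c9b9a99989291908f8e97969594938d8685848382688c8b8a898881807f7e7d7c7b7a797877767574737271706f6e6766656463876d6c6b6a69625c5b5a595861605f5e5d57565554535251504f4e4c4d4b4a494847464544434237363534333231302f2e41403f3e3d3c3b3a39382d2c2b2a292827262524232221201f1e1d1c1b1a141312111019181716150f0e0d0c0b0a09070805060403020100,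
  0xefeeedeceaebe9e8e6e7e5e4e3e2e1dfe0dedddcdbdad5d4d3d2d9d8d7d6d1d0cfcecdcccbcac9c8c1c0bfbebdbcc7c6c5c4c3c2bbbab9b8b7b6b5b4b3b2adacabaab1b0afaea9a8a7a6a5a3a4a2a1a09f9e9d9c979695949b9a9998939291908f8d8e8c8b8a89878881807f7e6d868584837d7c7b7a79787776757473726c6b6a698271706f6e6768666564636162605f5e5d5c575655545b5a5958535251504f4e4d4b4c4a4948474641403f3e454443423d3c3b3a3938373635342d2c2b2a2928333231302f2e27262524232221201f1e191817161d1c1b1a15141312110f100e0d0c0b0a08090706040503020100,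
  0xefeeedebeceae9e8e7e5e6e4e3e2e1e0dedfdddcdbd9dad8d7d6d5d1d0cfd4d3d2cecdcccbc7c6c5cac9c8c4c3c2c1c0bfbbbab9bebdbcb8b7b6b5b1b0afb4b3b2aeadacaba9aaa8a7a6a4a5a3a2a1a09f9b9a999e9d9c9897969593949291908e8f8d8c8b8a88898786858482837d7c7b7181807f7a7978777675706f6e7e7473726c6d6b6a696866676564636260615f5e5d5b5c5a595857535251565554504f4e4d4c4a4b4948474546444342413d3c3b403f3e3a393837333231363534302f2e2d2c2b2726252a2928242322211d1c1b201f1e1a191817151614131210110f0e0d0c0b090a080706050304020100,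
  0xefeeecedebeae9e8e7e6e4e5e3e2e1e0dfdddedcdbdad8d9d7d6d4d5d3d2d1cecdd0cfcccacbc9c8c7c4c3c6c5c2c1bebdc0bfbcbbbab8b9b7b4b3b6b5b2b1b0aeafadacaaaba9a8a7a5a6a4a3a2a19e9da09f9c9b9a9899979694959392918f908e8d8c8b898a8887868583848281807e7f7a79747d7c787773727b767570716f6e6d6b6c6a6968676566646362615f605e5d5c5a5b59585657555453504f52514e4d4c4b494a4847464445434240413f3e3d3a393c3b383637353433302f32312e2d2a292c2b282726242523201f22211e1d1c1a1b191816171514131112100f0e0d0c0a0b09080706050402030100,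
  0xefedeeecebeae9e8e7e6e5e3e4e2e1e0dfdedcdddbdad9d7d8d6d5d3d4d2d0d1cfcecccdcbc9cac8c6c7c5c4c2c3c0c1bfbebcbdbbb9bab8b6b7b5b4b2b3b1afb0aeadabacaaa9a8a6a7a5a4a3a2a0a19f9e9c9d9b999a9897959694939290918f8e8d8c8a8b8988878684858382817f807e7d7b7c78767a757977737472716f706e6d6c6a6b696867666465636261605e5f5d5c5b595a5857555654525351504e4f4d4c4b4a4849474645434442413f403e3c3d3b3a383937353634323331302e2f2c2d2b2a282927252624222321201e1f1d1b1c1a191718161514121311100f0e0d0b0c0a09080706050403010200,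
  0xeeefedecebeae9e8e7e6e5e4e2e3e1e0dfdedddbdcdad9d8d6d7d5d4d2d3d1cfd0cdcecccbcac8c9c7c5c6c3c4c2c1bfc0bdbebcbabbb9b8b7b5b6b3b4b2b0b1afaeacadabaaa9a7a8a6a5a4a3a2a19fa09d9e9c9a9b999896979594939192908f8e8d8b8c8a898887858684838280817f7e7c7d7b797a7778757674727371706e6f6d6c6b696a6867666563646261605f5d5e5c5b5a5859575654555351524f504e4d4c4b4a494748464544424341403e3f3d3b3c393a38373634353331322f302e2d2b2c292a28262725242321221f201e1c1d1b1a181917161513141211100f0e0c0d0b0a09080706050403020001]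

/-- The classes of involutions of the Weyl group. -/
def repWords : List (List ℕ) := [
  [], [0], [0, 1], [0, 1, 4], [0, 1, 4, 6], [1, 2, 3, 1, 2, 3, 4, 3, 1, 2, 3, 4],
  [1, 2, 3, 1, 2, 3, 4, 3, 1, 2, 3, 4, 6],
  [1, 2, 3, 1, 2, 3, 4, 3, 1, 2, 3, 4, 5, 4, 3, 1, 2, 3, 4, 5, 6, 5, 4, 3, 1, 2, 3, 4, 5, 6],
  [0, 1, 2, 0, 3, 1, 2, 0, 3, 2, 4, 3, 1, 2, 0, 3, 2, 4, 3, 1, 5, 4, 3, 1, 2, 0, 3, 2, 4, 3, 1, 5, 4, 3, 2, 0, 6, 5, 4, 3, 1, 2, 0, 3, 2, 4, 3, 1, 5, 4, 3, 2, 0, 6, 5, 4, 3, 1, 2, 3, 4, 5, 6],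
  [0, 1, 2, 0, 3, 1, 2, 0, 3, 2, 4, 3, 1, 2, 0, 3, 2, 4, 3, 1, 5, 4, 3, 1, 2, 0, 3, 2, 4, 3, 1, 5, 4, 3, 2, 0, 6, 5, 4, 3, 1, 2, 0, 3, 2, 4, 3, 1, 5, 4, 3, 2, 0, 6, 5, 4, 3, 1, 2, 3, 4, 5, 6, 7, 6, 5, 4, 3, 1, 2, 0, 3, 2, 4, 3, 1, 5, 4, 3, 2, 0, 6, 5, 4, 3, 1, 2, 3, 4, 5, 6, 7, 6, 5, 4, 3, 1, 2, 0, 3, 2, 4, 3, 1, 5, 4, 3, 2, 0, 6, 5, 4, 3, 1, 2, 3, 4, 5, 6, 7]]

/-- A word for every positive root. -/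
def rootWords : List (List ℕ × ℕ) := [
  ([], 7), ([], 6), ([7], 6), ([], 5), ([6], 5), ([7, 6], 5), ([], 4), ([5], 4), ([6, 5], 4), ([7, 6, 5], 4),
  ([], 3), ([4], 3), ([5, 4], 3), ([6, 5, 4], 3), ([7, 6, 5, 4], 3), ([], 2), ([3], 2), ([4, 3], 2), ([5, 4, 3], 2),
  ([6, 5, 4, 3], 2), ([7, 6, 5, 4, 3], 2), ([], 1), ([3], 1), ([4, 3], 1), ([5, 4, 3], 1), ([6, 5, 4, 3], 1),
  ([7, 6, 5, 4, 3], 1), ([2, 3], 1), ([4, 2, 3], 1), ([5, 4, 2, 3], 1), ([6, 5, 4, 2, 3], 1),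
  ([7, 6, 5, 4, 2, 3], 1), ([3, 4, 2, 3], 1), ([5, 3, 4, 2, 3], 1), ([6, 5, 3, 4, 2, 3], 1),
  ([7, 6, 5, 3, 4, 2, 3], 1), ([4, 5, 3, 4, 2, 3], 1), ([6, 4, 5, 3, 4, 2, 3], 1), ([7, 6, 4, 5, 3, 4, 2, 3], 1),
  ([5, 6, 4, 5, 3, 4, 2, 3], 1), ([7, 5, 6, 4, 5, 3, 4, 2, 3], 1), ([6, 7, 5, 6, 4, 5, 3, 4, 2, 3], 1), ([], 0),
  ([2], 0), ([3, 2], 0), ([4, 3, 2], 0), ([5, 4, 3, 2], 0), ([6, 5, 4, 3, 2], 0), ([7, 6, 5, 4, 3, 2], 0),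
  ([1, 3, 2], 0), ([4, 1, 3, 2], 0), ([5, 4, 1, 3, 2], 0), ([6, 5, 4, 1, 3, 2], 0), ([7, 6, 5, 4, 1, 3, 2], 0),
  ([3, 4, 1, 3, 2], 0), ([5, 3, 4, 1, 3, 2], 0), ([6, 5, 3, 4, 1, 3, 2], 0), ([7, 6, 5, 3, 4, 1, 3, 2], 0),
  ([4, 5, 3, 4, 1, 3, 2], 0), ([6, 4, 5, 3, 4, 1, 3, 2], 0), ([7, 6, 4, 5, 3, 4, 1, 3, 2], 0),
  ([5, 6, 4, 5, 3, 4, 1, 3, 2], 0), ([7, 5, 6, 4, 5, 3, 4, 1, 3, 2], 0), ([6, 7, 5, 6, 4, 5, 3, 4, 1, 3, 2], 0),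
  ([2, 3, 4, 1, 3, 2], 0), ([5, 2, 3, 4, 1, 3, 2], 0), ([6, 5, 2, 3, 4, 1, 3, 2], 0),
  ([7, 6, 5, 2, 3, 4, 1, 3, 2], 0), ([4, 5, 2, 3, 4, 1, 3, 2], 0), ([6, 4, 5, 2, 3, 4, 1, 3, 2], 0),
  ([7, 6, 4, 5, 2, 3, 4, 1, 3, 2], 0), ([5, 6, 4, 5, 2, 3, 4, 1, 3, 2], 0), ([7, 5, 6, 4, 5, 2, 3, 4, 1, 3, 2], 0),
  ([6, 7, 5, 6, 4, 5, 2, 3, 4, 1, 3, 2], 0), ([3, 4, 5, 2, 3, 4, 1, 3, 2], 0), ([6, 3, 4, 5, 2, 3, 4, 1, 3, 2], 0),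
  ([7, 6, 3, 4, 5, 2, 3, 4, 1, 3, 2], 0), ([5, 6, 3, 4, 5, 2, 3, 4, 1, 3, 2], 0),
  ([7, 5, 6, 3, 4, 5, 2, 3, 4, 1, 3, 2], 0), ([6, 7, 5, 6, 3, 4, 5, 2, 3, 4, 1, 3, 2], 0),
  ([4, 5, 6, 3, 4, 5, 2, 3, 4, 1, 3, 2], 0), ([7, 4, 5, 6, 3, 4, 5, 2, 3, 4, 1, 3, 2], 0),
  ([6, 7, 4, 5, 6, 3, 4, 5, 2, 3, 4, 1, 3, 2], 0), ([5, 6, 7, 4, 5, 6, 3, 4, 5, 2, 3, 4, 1, 3, 2], 0),
  ([1, 3, 4, 5, 2, 3, 4, 1, 3, 2], 0), ([6, 1, 3, 4, 5, 2, 3, 4, 1, 3, 2], 0),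
  ([7, 6, 1, 3, 4, 5, 2, 3, 4, 1, 3, 2], 0), ([5, 6, 1, 3, 4, 5, 2, 3, 4, 1, 3, 2], 0),
  ([7, 5, 6, 1, 3, 4, 5, 2, 3, 4, 1, 3, 2], 0), ([6, 7, 5, 6, 1, 3, 4, 5, 2, 3, 4, 1, 3, 2], 0),
  ([4, 5, 6, 1, 3, 4, 5, 2, 3, 4, 1, 3, 2], 0), ([7, 4, 5, 6, 1, 3, 4, 5, 2, 3, 4, 1, 3, 2], 0),
  ([6, 7, 4, 5, 6, 1, 3, 4, 5, 2, 3, 4, 1, 3, 2], 0), ([5, 6, 7, 4, 5, 6, 1, 3, 4, 5, 2, 3, 4, 1, 3, 2], 0),
  ([3, 4, 5, 6, 1, 3, 4, 5, 2, 3, 4, 1, 3, 2], 0), ([7, 3, 4, 5, 6, 1, 3, 4, 5, 2, 3, 4, 1, 3, 2], 0),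
  ([6, 7, 3, 4, 5, 6, 1, 3, 4, 5, 2, 3, 4, 1, 3, 2], 0), ([5, 6, 7, 3, 4, 5, 6, 1, 3, 4, 5, 2, 3, 4, 1, 3, 2], 0),
  ([4, 5, 6, 7, 3, 4, 5, 6, 1, 3, 4, 5, 2, 3, 4, 1, 3, 2], 0), ([2, 3, 4, 5, 6, 1, 3, 4, 5, 2, 3, 4, 1, 3, 2], 0),
  ([7, 2, 3, 4, 5, 6, 1, 3, 4, 5, 2, 3, 4, 1, 3, 2], 0), ([6, 7, 2, 3, 4, 5, 6, 1, 3, 4, 5, 2, 3, 4, 1, 3, 2], 0),
  ([5, 6, 7, 2, 3, 4, 5, 6, 1, 3, 4, 5, 2, 3, 4, 1, 3, 2], 0),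
  ([4, 5, 6, 7, 2, 3, 4, 5, 6, 1, 3, 4, 5, 2, 3, 4, 1, 3, 2], 0),
  ([3, 4, 5, 6, 7, 2, 3, 4, 5, 6, 1, 3, 4, 5, 2, 3, 4, 1, 3, 2], 0),
  ([1, 3, 4, 5, 6, 7, 2, 3, 4, 5, 6, 1, 3, 4, 5, 2, 3, 4, 1, 3, 2], 0),
  ([0, 2, 3, 4, 5, 6, 1, 3, 4, 5, 2, 3, 4, 1, 3, 2], 0), ([7, 0, 2, 3, 4, 5, 6, 1, 3, 4, 5, 2, 3, 4, 1, 3, 2], 0),
  ([6, 7, 0, 2, 3, 4, 5, 6, 1, 3, 4, 5, 2, 3, 4, 1, 3, 2], 0),
  ([5, 6, 7, 0, 2, 3, 4, 5, 6, 1, 3, 4, 5, 2, 3, 4, 1, 3, 2], 0),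
  ([4, 5, 6, 7, 0, 2, 3, 4, 5, 6, 1, 3, 4, 5, 2, 3, 4, 1, 3, 2], 0),
  ([3, 4, 5, 6, 7, 0, 2, 3, 4, 5, 6, 1, 3, 4, 5, 2, 3, 4, 1, 3, 2], 0),
  ([2, 3, 4, 5, 6, 7, 0, 2, 3, 4, 5, 6, 1, 3, 4, 5, 2, 3, 4, 1, 3, 2], 0),
  ([1, 3, 4, 5, 6, 7, 0, 2, 3, 4, 5, 6, 1, 3, 4, 5, 2, 3, 4, 1, 3, 2], 0),
  ([2, 1, 3, 4, 5, 6, 7, 0, 2, 3, 4, 5, 6, 1, 3, 4, 5, 2, 3, 4, 1, 3, 2], 0),
  ([3, 2, 1, 3, 4, 5, 6, 7, 0, 2, 3, 4, 5, 6, 1, 3, 4, 5, 2, 3, 4, 1, 3, 2], 0),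
  ([4, 3, 2, 1, 3, 4, 5, 6, 7, 0, 2, 3, 4, 5, 6, 1, 3, 4, 5, 2, 3, 4, 1, 3, 2], 0),
  ([5, 4, 3, 2, 1, 3, 4, 5, 6, 7, 0, 2, 3, 4, 5, 6, 1, 3, 4, 5, 2, 3, 4, 1, 3, 2], 0),
  ([6, 5, 4, 3, 2, 1, 3, 4, 5, 6, 7, 0, 2, 3, 4, 5, 6, 1, 3, 4, 5, 2, 3, 4, 1, 3, 2], 0),
  ([7, 6, 5, 4, 3, 2, 1, 3, 4, 5, 6, 7, 0, 2, 3, 4, 5, 6, 1, 3, 4, 5, 2, 3, 4, 1, 3, 2], 0)]

/-- For a representative and a root whose reflection commutes with it: the class of the product. -/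
def closeTable : List (ℕ × List ℕ) := [
  (1, [2, 0, 3, 2, 4, 3, 5, 4, 6, 5, 7, 6]), (1, [2, 0, 3, 2, 4, 3, 5, 4, 6, 5]),
  (1, [2, 0, 3, 2, 4, 3, 5, 4, 6, 5, 7]), (1, [2, 0, 3, 2, 4, 3, 5, 4]), (1, [2, 0, 3, 2, 4, 3, 5, 4, 6]),
  (1, [2, 0, 3, 2, 4, 3, 5, 4, 6, 7]), (1, [2, 0, 3, 2, 4, 3]), (1, [2, 0, 3, 2, 4, 3, 5]),
  (1, [2, 0, 3, 2, 4, 3, 5, 6]), (1, [2, 0, 3, 2, 4, 3, 5, 6, 7]), (1, [2, 0, 3, 2]), (1, [2, 0, 3, 2, 4]),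
  (1, [2, 0, 3, 2, 4, 5]), (1, [2, 0, 3, 2, 4, 5, 6]), (1, [2, 0, 3, 2, 4, 5, 6, 7]), (1, [2, 0]), (1, [2, 0, 3]),
  (1, [2, 0, 3, 4]), (1, [2, 0, 3, 4, 5]), (1, [2, 0, 3, 4, 5, 6]), (1, [2, 0, 3, 4, 5, 6, 7]),
  (1, [2, 0, 3, 1, 2, 3]), (1, [2, 0, 3, 1, 2]), (1, [2, 0, 3, 1, 2, 4]), (1, [2, 0, 3, 1, 2, 4, 5]),
  (1, [2, 0, 3, 1, 2, 4, 5, 6]), (1, [2, 0, 3, 1, 2, 4, 5, 6, 7]), (1, [2, 0, 3, 1]), (1, [2, 0, 3, 1, 4]),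
  (1, [2, 0, 3, 1, 4, 5]), (1, [2, 0, 3, 1, 4, 5, 6]), (1, [2, 0, 3, 1, 4, 5, 6, 7]), (1, [2, 0, 3, 1, 4, 3]),
  (1, [2, 0, 3, 1, 4, 3, 5]), (1, [2, 0, 3, 1, 4, 3, 5, 6]), (1, [2, 0, 3, 1, 4, 3, 5, 6, 7]),
  (1, [2, 0, 3, 1, 4, 3, 5, 4]), (1, [2, 0, 3, 1, 4, 3, 5, 4, 6]), (1, [2, 0, 3, 1, 4, 3, 5, 4, 6, 7]),
  (1, [2, 0, 3, 1, 4, 3, 5, 4, 6, 5]), (1, [2, 0, 3, 1, 4, 3, 5, 4, 6, 5, 7]),
  (1, [2, 0, 3, 1, 4, 3, 5, 4, 6, 5, 7, 6]), (1, []), (1, [2]), (1, [2, 3]), (1, [2, 3, 4]), (1, [2, 3, 4, 5]),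
  (1, [2, 3, 4, 5, 6]), (1, [2, 3, 4, 5, 6, 7]), (1, [2, 3, 1]), (1, [2, 3, 1, 4]), (1, [2, 3, 1, 4, 5]),
  (1, [2, 3, 1, 4, 5, 6]), (1, [2, 3, 1, 4, 5, 6, 7]), (1, [2, 3, 1, 4, 3]), (1, [2, 3, 1, 4, 3, 5]),
  (1, [2, 3, 1, 4, 3, 5, 6]), (1, [2, 3, 1, 4, 3, 5, 6, 7]), (1, [2, 3, 1, 4, 3, 5, 4]),
  (1, [2, 3, 1, 4, 3, 5, 4, 6]), (1, [2, 3, 1, 4, 3, 5, 4, 6, 7]), (1, [2, 3, 1, 4, 3, 5, 4, 6, 5]),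
  (1, [2, 3, 1, 4, 3, 5, 4, 6, 5, 7]), (1, [2, 3, 1, 4, 3, 5, 4, 6, 5, 7, 6]), (1, [2, 3, 1, 4, 3, 2]),
  (1, [2, 3, 1, 4, 3, 2, 5]), (1, [2, 3, 1, 4, 3, 2, 5, 6]), (1, [2, 3, 1, 4, 3, 2, 5, 6, 7]),
  (1, [2, 3, 1, 4, 3, 2, 5, 4]), (1, [2, 3, 1, 4, 3, 2, 5, 4, 6]), (1, [2, 3, 1, 4, 3, 2, 5, 4, 6, 7]),
  (1, [2, 3, 1, 4, 3, 2, 5, 4, 6, 5]), (1, [2, 3, 1, 4, 3, 2, 5, 4, 6, 5, 7]),
  (1, [2, 3, 1, 4, 3, 2, 5, 4, 6, 5, 7, 6]), (1, [2, 3, 1, 4, 3, 2, 5, 4, 3]), (1, [2, 3, 1, 4, 3, 2, 5, 4, 3, 6]),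
  (1, [2, 3, 1, 4, 3, 2, 5, 4, 3, 6, 7]), (1, [2, 3, 1, 4, 3, 2, 5, 4, 3, 6, 5]),
  (1, [2, 3, 1, 4, 3, 2, 5, 4, 3, 6, 5, 7]), (1, [2, 3, 1, 4, 3, 2, 5, 4, 3, 6, 5, 7, 6]),
  (1, [2, 3, 1, 4, 3, 2, 5, 4, 3, 6, 5, 4]), (1, [2, 3, 1, 4, 3, 2, 5, 4, 3, 6, 5, 4, 7]),
  (1, [2, 3, 1, 4, 3, 2, 5, 4, 3, 6, 5, 4, 7, 6]), (1, [2, 3, 1, 4, 3, 2, 5, 4, 3, 6, 5, 4, 7, 6, 5]),
  (1, [2, 3, 1, 4, 3, 2, 5, 4, 3, 1]), (1, [2, 3, 1, 4, 3, 2, 5, 4, 3, 1, 6]),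
  (1, [2, 3, 1, 4, 3, 2, 5, 4, 3, 1, 6, 7]), (1, [2, 3, 1, 4, 3, 2, 5, 4, 3, 1, 6, 5]),
  (1, [2, 3, 1, 4, 3, 2, 5, 4, 3, 1, 6, 5, 7]), (1, [2, 3, 1, 4, 3, 2, 5, 4, 3, 1, 6, 5, 7, 6]),
  (1, [2, 3, 1, 4, 3, 2, 5, 4, 3, 1, 6, 5, 4]), (1, [2, 3, 1, 4, 3, 2, 5, 4, 3, 1, 6, 5, 4, 7]),
  (1, [2, 3, 1, 4, 3, 2, 5, 4, 3, 1, 6, 5, 4, 7, 6]), (1, [2, 3, 1, 4, 3, 2, 5, 4, 3, 1, 6, 5, 4, 7, 6, 5]),
  (1, [2, 3, 1, 4, 3, 2, 5, 4, 3, 1, 6, 5, 4, 3]), (1, [2, 3, 1, 4, 3, 2, 5, 4, 3, 1, 6, 5, 4, 3, 7]),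
  (1, [2, 3, 1, 4, 3, 2, 5, 4, 3, 1, 6, 5, 4, 3, 7, 6]), (1, [2, 3, 1, 4, 3, 2, 5, 4, 3, 1, 6, 5, 4, 3, 7, 6, 5]),
  (1, [2, 3, 1, 4, 3, 2, 5, 4, 3, 1, 6, 5, 4, 3, 7, 6, 5, 4]), (1, [2, 3, 1, 4, 3, 2, 5, 4, 3, 1, 6, 5, 4, 3, 2]),
  (1, [2, 3, 1, 4, 3, 2, 5, 4, 3, 1, 6, 5, 4, 3, 2, 7]), (1, [2, 3, 1, 4, 3, 2, 5, 4, 3, 1, 6, 5, 4, 3, 2, 7, 6]),
  (1, [2, 3, 1, 4, 3, 2, 5, 4, 3, 1, 6, 5, 4, 3, 2, 7, 6, 5]),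
  (1, [2, 3, 1, 4, 3, 2, 5, 4, 3, 1, 6, 5, 4, 3, 2, 7, 6, 5, 4]),
  (1, [2, 3, 1, 4, 3, 2, 5, 4, 3, 1, 6, 5, 4, 3, 2, 7, 6, 5, 4, 3]),
  (1, [2, 3, 1, 4, 3, 2, 5, 4, 3, 1, 6, 5, 4, 3, 2, 7, 6, 5, 4, 3, 1]),
  (1, [2, 3, 1, 4, 3, 2, 5, 4, 3, 1, 6, 5, 4, 3, 2, 0]), (1, [2, 3, 1, 4, 3, 2, 5, 4, 3, 1, 6, 5, 4, 3, 2, 0, 7]),
  (1, [2, 3, 1, 4, 3, 2, 5, 4, 3, 1, 6, 5, 4, 3, 2, 0, 7, 6]),
  (1, [2, 3, 1, 4, 3, 2, 5, 4, 3, 1, 6, 5, 4, 3, 2, 0, 7, 6, 5]),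
  (1, [2, 3, 1, 4, 3, 2, 5, 4, 3, 1, 6, 5, 4, 3, 2, 0, 7, 6, 5, 4]),
  (1, [2, 3, 1, 4, 3, 2, 5, 4, 3, 1, 6, 5, 4, 3, 2, 0, 7, 6, 5, 4, 3]),
  (1, [2, 3, 1, 4, 3, 2, 5, 4, 3, 1, 6, 5, 4, 3, 2, 0, 7, 6, 5, 4, 3, 2]),
  (1, [2, 3, 1, 4, 3, 2, 5, 4, 3, 1, 6, 5, 4, 3, 2, 0, 7, 6, 5, 4, 3, 1]),
  (1, [2, 3, 1, 4, 3, 2, 5, 4, 3, 1, 6, 5, 4, 3, 2, 0, 7, 6, 5, 4, 3, 1, 2]),
  (1, [2, 3, 1, 4, 3, 2, 5, 4, 3, 1, 6, 5, 4, 3, 2, 0, 7, 6, 5, 4, 3, 1, 2, 3]),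
  (1, [2, 3, 1, 4, 3, 2, 5, 4, 3, 1, 6, 5, 4, 3, 2, 0, 7, 6, 5, 4, 3, 1, 2, 3, 4]),
  (1, [2, 3, 1, 4, 3, 2, 5, 4, 3, 1, 6, 5, 4, 3, 2, 0, 7, 6, 5, 4, 3, 1, 2, 3, 4, 5]),
  (1, [2, 3, 1, 4, 3, 2, 5, 4, 3, 1, 6, 5, 4, 3, 2, 0, 7, 6, 5, 4, 3, 1, 2, 3, 4, 5, 6]),
  (1, [2, 3, 1, 4, 3, 2, 5, 4, 3, 1, 6, 5, 4, 3, 2, 0, 7, 6, 5, 4, 3, 1, 2, 3, 4, 5, 6, 7]),
  (2, [3, 1, 4, 3, 5, 4, 6, 5, 7, 6]), (2, [3, 1, 4, 3, 5, 4, 6, 5]), (2, [3, 1, 4, 3, 5, 4, 6, 5, 7]),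
  (2, [3, 1, 4, 3, 5, 4]), (2, [3, 1, 4, 3, 5, 4, 6]), (2, [3, 1, 4, 3, 5, 4, 6, 7]), (2, [3, 1, 4, 3]),
  (2, [3, 1, 4, 3, 5]), (2, [3, 1, 4, 3, 5, 6]), (2, [3, 1, 4, 3, 5, 6, 7]), (2, [3, 1]), (2, [3, 1, 4]),
  (2, [3, 1, 4, 5]), (2, [3, 1, 4, 5, 6]), (2, [3, 1, 4, 5, 6, 7]), (0, []), (0, []), (0, []), (0, []), (0, []),
  (0, []), (2, []), (2, [3]), (2, [3, 4]), (2, [3, 4, 5]), (2, [3, 4, 5, 6]), (2, [3, 4, 5, 6, 7]), (0, []),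
  (0, []), (0, []), (0, []), (0, []), (0, []), (0, []), (0, []), (0, []), (0, []), (0, []), (0, []), (0, []),
  (0, []), (0, []), (0, []), (0, []), (0, []), (0, []), (0, []), (0, []), (0, []), (0, []), (0, []), (0, []),
  (0, []), (0, []), (0, []), (0, []), (0, []), (0, []), (0, []), (0, []), (0, []), (0, []), (0, []), (0, []),
  (2, [3, 1, 2, 0, 4, 3, 1, 2, 0, 3, 5, 4, 3, 1, 2, 0, 3, 2, 4, 5]),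
  (2, [3, 1, 2, 0, 4, 3, 1, 2, 0, 3, 5, 4, 3, 1, 2, 0, 3, 2, 4]),
  (2, [3, 1, 2, 0, 4, 3, 1, 2, 0, 3, 5, 4, 3, 1, 2, 0, 3, 2, 4, 6]),
  (2, [3, 1, 2, 0, 4, 3, 1, 2, 0, 3, 5, 4, 3, 1, 2, 0, 3, 2, 4, 6, 7]),
  (2, [3, 1, 2, 0, 4, 3, 1, 2, 0, 3, 5, 4, 3, 1, 2, 0, 3, 2]),
  (2, [3, 1, 2, 0, 4, 3, 1, 2, 0, 3, 5, 4, 3, 1, 2, 0, 3, 2, 6]),
  (2, [3, 1, 2, 0, 4, 3, 1, 2, 0, 3, 5, 4, 3, 1, 2, 0, 3, 2, 6, 7]),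
  (2, [3, 1, 2, 0, 4, 3, 1, 2, 0, 3, 5, 4, 3, 1, 2, 0, 3, 2, 6, 5]),
  (2, [3, 1, 2, 0, 4, 3, 1, 2, 0, 3, 5, 4, 3, 1, 2, 0, 3, 2, 6, 5, 7]),
  (2, [3, 1, 2, 0, 4, 3, 1, 2, 0, 3, 5, 4, 3, 1, 2, 0, 3, 2, 6, 5, 7, 6]),
  (2, [3, 1, 2, 0, 4, 3, 1, 2, 3, 5, 4, 3, 1, 2, 0, 3, 2]),
  (2, [3, 1, 2, 0, 4, 3, 1, 2, 3, 5, 4, 3, 1, 2, 0, 3, 2, 6]),
  (2, [3, 1, 2, 0, 4, 3, 1, 2, 3, 5, 4, 3, 1, 2, 0, 3, 2, 6, 7]),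
  (2, [3, 1, 2, 0, 4, 3, 1, 2, 3, 5, 4, 3, 1, 2, 0, 3, 2, 6, 5]),
  (2, [3, 1, 2, 0, 4, 3, 1, 2, 3, 5, 4, 3, 1, 2, 0, 3, 2, 6, 5, 7]),
  (2, [3, 1, 2, 0, 4, 3, 1, 2, 3, 5, 4, 3, 1, 2, 0, 3, 2, 6, 5, 7, 6]),
  (2, [3, 1, 2, 0, 4, 3, 1, 2, 3, 5, 4, 3, 1, 2, 0, 3, 2, 6, 5, 4]),
  (2, [3, 1, 2, 0, 4, 3, 1, 2, 3, 5, 4, 3, 1, 2, 0, 3, 2, 6, 5, 4, 7]),
  (2, [3, 1, 2, 0, 4, 3, 1, 2, 3, 5, 4, 3, 1, 2, 0, 3, 2, 6, 5, 4, 7, 6]),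
  (2, [3, 1, 2, 0, 4, 3, 1, 2, 3, 5, 4, 3, 1, 2, 0, 3, 2, 6, 5, 4, 7, 6, 5]),
  (2, [3, 2, 0, 4, 3, 1, 2, 3, 5, 4, 3, 1, 2, 0, 3, 2]), (2, [3, 2, 0, 4, 3, 1, 2, 3, 5, 4, 3, 1, 2, 0, 3, 2, 6]),
  (2, [3, 2, 0, 4, 3, 1, 2, 3, 5, 4, 3, 1, 2, 0, 3, 2, 6, 7]),
  (2, [3, 2, 0, 4, 3, 1, 2, 3, 5, 4, 3, 1, 2, 0, 3, 2, 6, 5]),
  (2, [3, 2, 0, 4, 3, 1, 2, 3, 5, 4, 3, 1, 2, 0, 3, 2, 6, 5, 7]),
  (2, [3, 2, 0, 4, 3, 1, 2, 3, 5, 4, 3, 1, 2, 0, 3, 2, 6, 5, 7, 6]),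
  (2, [3, 2, 0, 4, 3, 1, 2, 3, 5, 4, 3, 1, 2, 0, 3, 2, 6, 5, 4]),
  (2, [3, 2, 0, 4, 3, 1, 2, 3, 5, 4, 3, 1, 2, 0, 3, 2, 6, 5, 4, 7]),
  (2, [3, 2, 0, 4, 3, 1, 2, 3, 5, 4, 3, 1, 2, 0, 3, 2, 6, 5, 4, 7, 6]),
  (2, [3, 2, 0, 4, 3, 1, 2, 3, 5, 4, 3, 1, 2, 0, 3, 2, 6, 5, 4, 7, 6, 5]),
  (2, [3, 2, 0, 4, 3, 1, 2, 3, 5, 4, 3, 1, 2, 0, 3, 2, 6, 5, 4, 3]),
  (2, [3, 2, 0, 4, 3, 1, 2, 3, 5, 4, 3, 1, 2, 0, 3, 2, 6, 5, 4, 3, 7]),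
  (2, [3, 2, 0, 4, 3, 1, 2, 3, 5, 4, 3, 1, 2, 0, 3, 2, 6, 5, 4, 3, 7, 6]),
  (2, [3, 2, 0, 4, 3, 1, 2, 3, 5, 4, 3, 1, 2, 0, 3, 2, 6, 5, 4, 3, 7, 6, 5]),
  (2, [3, 2, 0, 4, 3, 1, 2, 3, 5, 4, 3, 1, 2, 0, 3, 2, 6, 5, 4, 3, 7, 6, 5, 4]), (0, []), (0, []), (0, []), (0, []),
  (0, []), (0, []), (0, []), (0, []), (0, []), (0, []), (0, []), (0, []), (0, []),
  (2, [3, 1, 2, 0, 4, 3, 1, 2, 3, 5, 4, 3, 1, 2, 3, 6, 5, 4, 3, 1, 2, 3, 7, 6, 5, 4, 3, 1, 2, 0, 3, 2]), (0, []),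
  (2, [3, 2, 0, 4, 3, 1, 2, 3, 5, 4, 3, 1, 2, 3, 6, 5, 4, 3, 1, 2, 3, 7, 6, 5, 4, 3, 1, 2, 0, 3, 2]),
  (2, [3, 2, 0, 4, 3, 1, 2, 3, 5, 4, 3, 1, 2, 3, 6, 5, 4, 3, 1, 2, 0, 3, 7, 6, 5, 4, 3, 1, 2, 0, 3, 2]),
  (2, [3, 2, 0, 4, 3, 1, 2, 3, 5, 4, 3, 1, 2, 3, 6, 5, 4, 3, 1, 2, 0, 3, 7, 6, 5, 4, 3, 1, 2, 0, 3, 2, 4]),
  (2, [3, 2, 0, 4, 3, 1, 2, 3, 5, 4, 3, 1, 2, 3, 6, 5, 4, 3, 1, 2, 0, 3, 7, 6, 5, 4, 3, 1, 2, 0, 3, 2, 4, 5]),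
  (2, [3, 2, 0, 4, 3, 1, 2, 3, 5, 4, 3, 1, 2, 3, 6, 5, 4, 3, 1, 2, 0, 3, 7, 6, 5, 4, 3, 1, 2, 0, 3, 2, 4, 5, 6]),
  (2, [3, 2, 0, 4, 3, 1, 2, 3, 5, 4, 3, 1, 2, 3, 6, 5, 4, 3, 1, 2, 0, 3, 7, 6, 5, 4, 3, 1, 2, 0, 3, 2, 4, 5, 6, 7]),
  (3, [5, 4, 6, 5, 7, 6]), (3, [5, 4, 6, 5]), (3, [5, 4, 6, 5, 7]), (3, [5, 4]), (3, [5, 4, 6]), (3, [5, 4, 6, 7]),
  (3, []), (3, [5]), (3, [5, 6]), (3, [5, 6, 7]), (0, []), (0, []), (0, []), (0, []), (0, []), (0, []), (0, []),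
  (0, []), (0, []), (0, []), (0, []), (1, []), (0, []), (0, []), (0, []), (0, []), (0, []), (0, []), (0, []),
  (0, []), (0, []), (0, []), (0, []), (0, []), (0, []), (0, []), (0, []), (0, []), (0, []), (0, []), (0, []),
  (0, []), (1, [2, 0, 3, 1, 2, 3]), (0, []), (0, []), (0, []), (0, []), (0, []), (0, []), (0, []), (0, []), (0, []),
  (0, []), (0, []), (0, []), (0, []), (0, []), (0, []), (0, []), (0, []), (0, []), (0, []), (0, []), (0, []),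
  (3, [2, 0, 3, 1, 2, 0, 3, 2]), (3, [2, 0, 3, 1, 2, 0, 3, 2, 5]), (3, [2, 0, 3, 1, 2, 0, 3, 2, 5, 6]),
  (3, [2, 0, 3, 1, 2, 0, 3, 2, 5, 6, 7]), (3, [2, 0, 3, 1, 2, 0, 3, 2, 5, 4]),
  (3, [2, 0, 3, 1, 2, 0, 3, 2, 5, 4, 6]), (3, [2, 0, 3, 1, 2, 0, 3, 2, 5, 4, 6, 7]),
  (3, [2, 0, 3, 1, 2, 0, 3, 2, 5, 4, 6, 5]), (3, [2, 0, 3, 1, 2, 0, 3, 2, 5, 4, 6, 5, 7]),
  (3, [2, 0, 3, 1, 2, 0, 3, 2, 5, 4, 6, 5, 7, 6]), (0, []), (0, []), (0, []), (0, []), (0, []), (0, []), (0, []),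
  (0, []), (0, []), (0, []), (0, []), (0, []), (0, []), (0, []), (0, []), (0, []), (0, []), (0, []), (0, []),
  (0, []),
  (3, [3, 1, 5, 4, 3, 1, 2, 0, 6, 5, 4, 3, 1, 2, 0, 3, 4, 5, 7, 6, 5, 4, 3, 1, 2, 0, 3, 2, 4, 3, 1, 5, 4, 3, 6, 7]),
  (3, [3, 1, 5, 4, 3, 1, 2, 0, 6, 5, 4, 3, 1, 2, 0, 3, 4, 5, 7, 6, 5, 4, 3, 1, 2, 0, 3, 2, 4, 3, 1, 5, 4, 3, 6]),
  (3, [3, 1, 5, 4, 3, 1, 2, 0, 6, 5, 4, 3, 1, 2, 0, 3, 4, 5, 7, 6, 5, 4, 3, 1, 2, 0, 3, 2, 4, 3, 1, 5, 4, 3]),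
  (3, [3, 1, 5, 4, 3, 1, 2, 0, 6, 5, 4, 3, 1, 2, 3, 4, 5, 7, 6, 5, 4, 3, 1, 2, 0, 3, 2, 4, 3, 1, 5, 4, 3]),
  (3, [3, 1, 5, 4, 3, 2, 0, 6, 5, 4, 3, 1, 2, 3, 4, 5, 7, 6, 5, 4, 3, 1, 2, 0, 3, 2, 4, 3, 1, 5, 4, 3]), (0, []),
  (0, []), (0, []), (0, []), (0, []), (0, []), (0, []), (0, []), (0, []), (0, []), (0, []), (0, []), (0, []),
  (0, []), (0, []), (0, []),
  (3, [3, 1, 2, 0, 3, 2, 5, 4, 3, 2, 0, 6, 5, 4, 3, 1, 2, 3, 4, 5, 7, 6, 5, 4, 3, 1, 2, 0, 3, 2, 4, 3, 1, 5, 4, 3]),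
  (3, [3, 1, 2, 0, 3, 2, 5, 4, 3, 1, 2, 0, 6, 5, 4, 3, 1, 2, 3, 4, 5, 7, 6, 5, 4, 3, 1, 2, 0, 3, 2, 4, 3, 1, 5, 4, 3]),
  (3, [3, 1, 2, 0, 3, 2, 5, 4, 3, 1, 2, 0, 6, 5, 4, 3, 1, 2, 0, 3, 4, 5, 7, 6, 5, 4, 3, 1, 2, 0, 3, 2, 4, 3, 1, 5, 4, 3]),
  (3, [3, 1, 2, 0, 3, 2, 5, 4, 3, 1, 2, 0, 6, 5, 4, 3, 1, 2, 0, 3, 4, 5, 7, 6, 5, 4, 3, 1, 2, 0, 3, 2, 4, 3, 1, 5, 4, 3, 6]),
  (3, [3, 1, 2, 0, 3, 2, 5, 4, 3, 1, 2, 0, 6, 5, 4, 3, 1, 2, 0, 3, 4, 5, 7, 6, 5, 4, 3, 1, 2, 0, 3, 2, 4, 3, 1, 5, 4, 3, 6, 7]),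
  (4, [7, 6]), (4, []), (4, [7]), (0, []), (0, []), (0, []), (2, []), (0, []), (0, []), (0, []), (0, []), (0, []),
  (0, []), (0, []), (0, []), (0, []), (0, []), (0, []), (0, []), (0, []), (0, []), (2, [3, 1, 4, 3]), (0, []),
  (0, []), (0, []), (0, []), (0, []), (0, []), (0, []), (0, []), (0, []), (0, []), (0, []), (0, []), (0, []),
  (0, []), (0, []), (0, []), (0, []), (0, []), (0, []), (0, []), (2, [3, 1, 4, 3, 2, 0, 5, 4, 3, 1, 2, 3, 4, 5]),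
  (0, []), (0, []), (0, []), (0, []), (0, []), (0, []), (0, []), (0, []), (0, []), (0, []), (0, []), (0, []),
  (0, []), (0, []), (0, []), (0, []), (0, []), (0, []), (0, []), (0, []), (0, []), (5, [0, 2]), (0, []), (0, []),
  (0, []), (0, []), (0, []), (0, []), (4, [2, 0, 5, 4, 3, 1, 2, 0, 3, 2, 4, 5]),
  (4, [2, 0, 5, 4, 3, 1, 2, 0, 3, 2, 4, 5, 7]), (4, [2, 0, 5, 4, 3, 1, 2, 0, 3, 2, 4, 5, 7, 6]), (0, []), (0, []),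
  (0, []), (0, []), (0, []), (0, []), (0, []), (0, []), (0, []), (0, []), (0, []), (0, []), (0, []), (0, []),
  (0, []), (0, []), (0, []), (0, []), (0, []), (0, []), (4, [2, 0, 5, 4, 3, 1, 2, 0, 3, 2, 4, 3, 1, 5, 4, 3]),
  (4, [2, 0, 5, 4, 3, 1, 2, 0, 3, 2, 4, 3, 1, 5, 4, 3, 7]),
  (4, [2, 0, 5, 4, 3, 1, 2, 0, 3, 2, 4, 3, 1, 5, 4, 3, 7, 6]), (0, []), (0, []), (0, []), (0, []), (0, []), (0, []),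
  (0, []), (0, []), (0, []), (0, []), (0, []), (0, []), (0, []), (0, []), (0, []), (0, []), (0, []), (0, []),
  (0, []), (0, []), (4, [2, 0, 5, 4, 3, 1, 2, 0, 3, 2, 4, 3, 1, 5, 4, 3, 2, 0, 7, 6, 5, 4, 3, 1, 2, 0, 3, 2, 4, 5]),
  (4, [2, 0, 5, 4, 3, 1, 2, 0, 3, 2, 4, 3, 1, 5, 4, 3, 2, 0, 7, 6, 5, 4, 3, 1, 2, 0, 3, 2, 4, 5, 6]),
  (4, [2, 0, 5, 4, 3, 1, 2, 0, 3, 2, 4, 3, 1, 5, 4, 3, 2, 0, 7, 6, 5, 4, 3, 1, 2, 0, 3, 2, 4, 5, 6, 7]), (0, []),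
  (3, []), (0, []), (0, []), (0, []), (0, []), (3, [5, 4, 6, 5]), (0, []), (0, []), (0, []), (0, []), (0, []),
  (0, []), (0, []), (0, []), (0, []), (0, []), (0, []), (0, []), (0, []), (0, []), (3, [5, 4, 3, 1, 6, 5, 4, 3]),
  (0, []), (0, []), (0, []), (0, []), (0, []), (0, []), (0, []), (0, []), (0, []), (0, []), (0, []), (0, []),
  (0, []), (0, []), (0, []), (0, []), (0, []), (0, []), (0, []), (0, []),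
  (3, [5, 4, 3, 1, 6, 5, 4, 3, 2, 0, 7, 6, 5, 4, 3, 1, 2, 3, 4, 5, 6, 7]), (0, []), (0, []), (0, []), (0, []),
  (0, []), (0, []), (0, []), (0, []), (0, []), (0, []), (0, []), (0, []), (0, []), (0, []), (0, []), (0, []),
  (0, []), (0, []), (0, []), (0, []), (0, []), (6, [0, 2]), (0, []), (0, []), (0, []), (0, []), (0, []), (0, []),
  (6, [0, 2, 5, 4, 6, 5]), (0, []), (0, []), (0, []), (0, []), (0, []), (0, []), (0, []), (0, []), (0, []), (0, []),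
  (0, []), (0, []), (0, []), (0, []), (0, []), (0, []), (0, []), (0, []), (0, []), (0, []), (0, []), (0, []),
  (6, [0, 2, 5, 4, 3, 1, 6, 5, 4, 3]), (0, []), (0, []), (0, []), (0, []), (0, []), (0, []), (0, []), (0, []),
  (0, []), (0, []), (0, []), (0, []), (0, []), (0, []), (0, []), (0, []), (0, []), (0, []), (0, []), (0, []),
  (0, []), (0, []), (0, []), (0, []),
  (6, [0, 2, 5, 4, 3, 1, 6, 5, 4, 3, 2, 0, 7, 6, 5, 4, 3, 1, 2, 0, 3, 2, 4, 5, 6, 7]), (6, [7, 6]), (6, []),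
  (6, [7]), (0, []), (0, []), (0, []), (3, [2, 0, 3, 1, 2, 3]), (0, []), (0, []), (0, []), (3, [2, 0, 3, 1, 2, 4]),
  (3, [2, 0, 3, 1, 2]), (0, []), (0, []), (0, []), (3, [2, 0, 3, 1, 4, 3]), (3, [2, 0, 3, 1, 4]), (3, [2, 0, 3, 1]),
  (0, []), (0, []), (0, []), (3, [2, 0, 3, 2, 4, 3]), (3, [2, 0, 3, 2, 4]), (3, [2, 0, 3, 2]), (0, []), (0, []),
  (0, []), (3, [2, 0, 3, 4]), (3, [2, 0, 3]), (0, []), (0, []), (0, []), (3, [2, 0]), (0, []), (0, []), (0, []),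
  (0, []), (0, []), (0, []), (6, [5, 4, 3, 1, 2, 3, 4, 5]), (6, [5, 4, 3, 1, 2, 3, 4, 5, 7]),
  (6, [5, 4, 3, 1, 2, 3, 4, 5, 7, 6]), (0, []), (0, []), (0, []), (0, []), (0, []), (0, []), (0, []), (0, []),
  (0, []), (0, []), (0, []), (0, []), (0, []), (0, []), (0, []), (0, []), (0, []), (0, []), (0, []), (0, []),
  (0, []), (0, []), (0, []), (0, []), (0, []), (0, []), (0, []), (0, []), (0, []), (0, []), (0, []), (0, []),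
  (0, []), (0, []), (0, []), (0, []), (0, []), (0, []), (0, []), (0, []), (0, []), (0, []), (0, []), (0, []),
  (0, []), (0, []), (0, []), (0, []), (0, []), (0, []), (0, []), (0, []), (0, []), (0, []), (0, []), (0, []),
  (0, []), (0, []), (0, []), (0, []), (0, []), (0, []), (0, []), (0, []),
  (6, [5, 4, 3, 1, 2, 0, 3, 2, 4, 3, 1, 5, 4, 3, 2, 0]), (6, [5, 4, 3, 1, 2, 0, 3, 2, 4, 3, 1, 5, 4, 3, 2, 0, 7]),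
  (6, [5, 4, 3, 1, 2, 0, 3, 2, 4, 3, 1, 5, 4, 3, 2, 0, 7, 6]), (0, []), (0, []), (0, []), (0, []), (0, []), (0, []),
  (0, []), (0, []), (6, [5, 4, 3, 1, 2, 0, 3, 2, 4, 3, 1, 5, 4, 3, 2, 0, 7, 6, 5, 4, 3, 1, 2, 3, 4, 5]),
  (6, [5, 4, 3, 1, 2, 0, 3, 2, 4, 3, 1, 5, 4, 3, 2, 0, 7, 6, 5, 4, 3, 1, 2, 3, 4, 5, 6]),
  (6, [5, 4, 3, 1, 2, 0, 3, 2, 4, 3, 1, 5, 4, 3, 2, 0, 7, 6, 5, 4, 3, 1, 2, 3, 4, 5, 6, 7]), (0, []), (5, []),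
  (0, []), (0, []), (0, []), (0, []), (4, [2, 0, 3, 1, 2, 3]), (0, []), (0, []), (0, []), (4, [2, 0, 3, 1, 2, 4]),
  (4, [2, 0, 3, 1, 2]), (0, []), (0, []), (0, []), (4, [2, 0, 3, 1, 4, 3]), (4, [2, 0, 3, 1, 4]), (4, [2, 0, 3, 1]),
  (0, []), (0, []), (0, []), (4, [2, 0, 3, 2, 4, 3]), (4, [2, 0, 3, 2, 4]), (4, [2, 0, 3, 2]), (0, []), (0, []),
  (0, []), (4, [2, 0, 3, 4]), (4, [2, 0, 3]), (0, []), (0, []), (0, []), (4, [2, 0]), (0, []), (0, []), (0, []),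
  (0, []), (0, []), (0, []), (7, []), (0, []), (0, []), (0, []), (0, []), (0, []), (0, []), (0, []), (0, []),
  (0, []), (0, []), (0, []), (0, []), (0, []), (0, []), (0, []), (0, []), (0, []), (0, []), (0, []), (0, []),
  (0, []), (0, []), (0, []), (0, []), (0, []), (0, []), (0, []), (0, []), (0, []), (0, []), (0, []), (0, []),
  (0, []), (0, []), (0, []), (0, []), (0, []), (0, []), (0, []), (0, []), (0, []), (0, []), (0, []), (0, []),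
  (0, []), (0, []), (0, []), (0, []), (0, []), (0, []), (0, []), (0, []), (0, []), (0, []), (0, []), (0, []),
  (0, []), (0, []), (0, []), (0, []), (0, []), (0, []), (0, []), (0, []), (0, []), (0, []),
  (7, [0, 2, 3, 1, 4, 3, 2, 0]), (0, []), (0, []), (0, []), (0, []), (0, []), (0, []), (0, []), (0, []), (0, []),
  (0, []), (0, []), (0, []), (7, [0, 2, 3, 1, 4, 3, 2, 0, 7, 6, 5, 4, 3, 1, 2, 3, 4, 5, 6, 7]), (0, []),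
  (6, [5, 4, 3, 1, 2, 3, 4, 5]), (0, []), (6, [5, 4, 3, 1, 2, 3, 4, 6]), (6, [5, 4, 3, 1, 2, 3, 4]), (0, []),
  (6, [5, 4, 3, 1, 2, 3, 6, 5]), (6, [5, 4, 3, 1, 2, 3, 6]), (6, [5, 4, 3, 1, 2, 3]), (0, []),
  (6, [5, 4, 3, 1, 2, 6, 5, 4]), (6, [5, 4, 3, 1, 2, 6, 5]), (6, [5, 4, 3, 1, 2, 6]), (6, [5, 4, 3, 1, 2]), (0, []),
  (6, [5, 4, 3, 1, 6, 5, 4, 3]), (6, [5, 4, 3, 1, 6, 5, 4]), (6, [5, 4, 3, 1, 6, 5]), (6, [5, 4, 3, 1, 6]),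
  (6, [5, 4, 3, 1]), (0, []), (6, [5, 4, 3, 2, 6, 5, 4, 3]), (6, [5, 4, 3, 2, 6, 5, 4]), (6, [5, 4, 3, 2, 6, 5]),
  (6, [5, 4, 3, 2, 6]), (6, [5, 4, 3, 2]), (0, []), (6, [5, 4, 3, 6, 5, 4]), (6, [5, 4, 3, 6, 5]),
  (6, [5, 4, 3, 6]), (6, [5, 4, 3]), (0, []), (6, [5, 4, 6, 5]), (6, [5, 4, 6]), (6, [5, 4]), (0, []), (6, [5, 6]),
  (6, [5]), (0, []), (6, []), (0, []), (0, []), (0, []), (0, []), (0, []), (0, []), (0, []), (0, []), (0, []),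
  (0, []), (0, []), (0, []), (0, []), (0, []), (0, []), (0, []), (0, []), (0, []), (0, []), (0, []), (0, []),
  (0, []), (0, []), (0, []), (0, []), (0, []), (0, []), (0, []), (0, []), (0, []), (0, []), (0, []), (0, []),
  (0, []), (0, []), (0, []), (0, []), (0, []), (0, []), (0, []), (0, []), (0, []), (0, []), (0, []), (0, []),
  (0, []), (0, []), (0, []), (0, []), (0, []), (0, []), (0, []), (0, []), (0, []), (0, []), (0, []), (0, []),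
  (0, []), (0, []), (0, []), (0, []), (0, []), (0, []), (0, []), (0, []), (0, []), (8, []), (0, []), (0, []),
  (0, []), (0, []), (0, []), (0, []), (0, []), (0, []), (0, []), (0, []), (0, []), (0, []),
  (8, [7, 6, 5, 4, 3, 1, 2, 3, 4, 5, 6, 7]), (0, []), (7, [0, 2, 3, 1, 4, 3, 2, 0, 5, 4, 3, 1, 2, 3, 4, 5]),
  (0, []), (7, [0, 2, 3, 1, 4, 3, 2, 0, 5, 4, 3, 1, 2, 3, 4, 6]),
  (7, [0, 2, 3, 1, 4, 3, 2, 0, 5, 4, 3, 1, 2, 3, 4]), (0, []),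
  (7, [0, 2, 3, 1, 4, 3, 2, 0, 5, 4, 3, 1, 2, 3, 6, 5]), (7, [0, 2, 3, 1, 4, 3, 2, 0, 5, 4, 3, 1, 2, 3, 6]),
  (7, [0, 2, 3, 1, 4, 3, 2, 0, 5, 4, 3, 1, 2, 3]), (0, []), (7, [0, 2, 3, 1, 4, 3, 2, 0, 5, 4, 3, 1, 2, 6, 5, 4]),
  (7, [0, 2, 3, 1, 4, 3, 2, 0, 5, 4, 3, 1, 2, 6, 5]), (7, [0, 2, 3, 1, 4, 3, 2, 0, 5, 4, 3, 1, 2, 6]),
  (7, [0, 2, 3, 1, 4, 3, 2, 0, 5, 4, 3, 1, 2]), (0, []), (7, [0, 2, 3, 1, 4, 3, 2, 0, 5, 4, 3, 1, 6, 5, 4, 3]),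
  (7, [0, 2, 3, 1, 4, 3, 2, 0, 5, 4, 3, 1, 6, 5, 4]), (7, [0, 2, 3, 1, 4, 3, 2, 0, 5, 4, 3, 1, 6, 5]),
  (7, [0, 2, 3, 1, 4, 3, 2, 0, 5, 4, 3, 1, 6]), (7, [0, 2, 3, 1, 4, 3, 2, 0, 5, 4, 3, 1]), (0, []),
  (7, [0, 2, 3, 1, 4, 3, 2, 0, 5, 4, 3, 2, 6, 5, 4, 3]), (7, [0, 2, 3, 1, 4, 3, 2, 0, 5, 4, 3, 2, 6, 5, 4]),
  (7, [0, 2, 3, 1, 4, 3, 2, 0, 5, 4, 3, 2, 6, 5]), (7, [0, 2, 3, 1, 4, 3, 2, 0, 5, 4, 3, 2, 6]),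
  (7, [0, 2, 3, 1, 4, 3, 2, 0, 5, 4, 3, 2]), (0, []), (7, [0, 2, 3, 1, 4, 3, 2, 0, 5, 4, 3, 6, 5, 4]),
  (7, [0, 2, 3, 1, 4, 3, 2, 0, 5, 4, 3, 6, 5]), (7, [0, 2, 3, 1, 4, 3, 2, 0, 5, 4, 3, 6]),
  (7, [0, 2, 3, 1, 4, 3, 2, 0, 5, 4, 3]), (0, []), (7, [0, 2, 3, 1, 4, 3, 2, 0, 5, 4, 6, 5]),
  (7, [0, 2, 3, 1, 4, 3, 2, 0, 5, 4, 6]), (7, [0, 2, 3, 1, 4, 3, 2, 0, 5, 4]), (0, []),
  (7, [0, 2, 3, 1, 4, 3, 2, 0, 5, 6]), (7, [0, 2, 3, 1, 4, 3, 2, 0, 5]), (0, []), (7, [0, 2, 3, 1, 4, 3, 2, 0]),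
  (0, []), (0, []), (7, [0, 2, 3, 1, 4, 3, 2, 5, 4, 3, 1, 6, 5, 4, 3, 2]),
  (7, [0, 2, 3, 1, 4, 3, 2, 5, 4, 3, 1, 6, 5, 4, 3]), (7, [0, 2, 3, 1, 4, 3, 2, 5, 4, 3, 1, 6, 5, 4]),
  (7, [0, 2, 3, 1, 4, 3, 2, 5, 4, 3, 1, 6, 5]), (7, [0, 2, 3, 1, 4, 3, 2, 5, 4, 3, 1, 6]),
  (7, [0, 2, 3, 1, 4, 3, 2, 5, 4, 3, 1]), (0, []), (7, [0, 2, 3, 1, 4, 3, 2, 5, 4, 3, 6, 5, 4]),
  (7, [0, 2, 3, 1, 4, 3, 2, 5, 4, 3, 6, 5]), (7, [0, 2, 3, 1, 4, 3, 2, 5, 4, 3, 6]),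
  (7, [0, 2, 3, 1, 4, 3, 2, 5, 4, 3]), (0, []), (7, [0, 2, 3, 1, 4, 3, 2, 5, 4, 6, 5]),
  (7, [0, 2, 3, 1, 4, 3, 2, 5, 4, 6]), (7, [0, 2, 3, 1, 4, 3, 2, 5, 4]), (0, []), (7, [0, 2, 3, 1, 4, 3, 2, 5, 6]),
  (7, [0, 2, 3, 1, 4, 3, 2, 5]), (0, []), (7, [0, 2, 3, 1, 4, 3, 2]), (0, []), (0, []),
  (7, [0, 2, 3, 1, 4, 3, 5, 4, 6, 5]), (7, [0, 2, 3, 1, 4, 3, 5, 4, 6]), (7, [0, 2, 3, 1, 4, 3, 5, 4]), (0, []),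
  (7, [0, 2, 3, 1, 4, 3, 5, 6]), (7, [0, 2, 3, 1, 4, 3, 5]), (0, []), (7, [0, 2, 3, 1, 4, 3]), (0, []), (0, []),
  (7, [0, 2, 3, 1, 4, 5, 6]), (7, [0, 2, 3, 1, 4, 5]), (0, []), (7, [0, 2, 3, 1, 4]), (0, []), (0, []),
  (7, [0, 2, 3, 1]), (0, []), (0, []), (0, []), (7, [0, 2, 3, 4, 5, 6]), (7, [0, 2, 3, 4, 5]), (0, []),
  (7, [0, 2, 3, 4]), (0, []), (0, []), (7, [0, 2, 3]), (0, []), (0, []), (0, []), (7, [0, 2]), (0, []), (0, []),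
  (0, []), (0, []), (7, [0]), (0, []), (0, []), (0, []), (0, []), (0, []), (0, []), (7, []), (0, []), (0, []),
  (0, []), (0, []), (0, []), (0, []), (0, []), (0, []), (0, []), (0, []), (0, []), (0, []), (9, []),
  (8, [7, 6, 5, 4, 3, 1, 2, 0, 3, 2, 4, 3, 1, 5, 4, 3, 2, 0, 6, 5, 4, 3, 1, 2, 3, 4, 5, 6]),
  (8, [7, 6, 5, 4, 3, 1, 2, 0, 3, 2, 4, 3, 1, 5, 4, 3, 2, 0, 6, 5, 4, 3, 1, 2, 3, 4, 5, 7]),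
  (8, [7, 6, 5, 4, 3, 1, 2, 0, 3, 2, 4, 3, 1, 5, 4, 3, 2, 0, 6, 5, 4, 3, 1, 2, 3, 4, 5]),
  (8, [7, 6, 5, 4, 3, 1, 2, 0, 3, 2, 4, 3, 1, 5, 4, 3, 2, 0, 6, 5, 4, 3, 1, 2, 3, 4, 7, 6]),
  (8, [7, 6, 5, 4, 3, 1, 2, 0, 3, 2, 4, 3, 1, 5, 4, 3, 2, 0, 6, 5, 4, 3, 1, 2, 3, 4, 7]),
  (8, [7, 6, 5, 4, 3, 1, 2, 0, 3, 2, 4, 3, 1, 5, 4, 3, 2, 0, 6, 5, 4, 3, 1, 2, 3, 4]),
  (8, [7, 6, 5, 4, 3, 1, 2, 0, 3, 2, 4, 3, 1, 5, 4, 3, 2, 0, 6, 5, 4, 3, 1, 2, 3, 7, 6, 5]),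
  (8, [7, 6, 5, 4, 3, 1, 2, 0, 3, 2, 4, 3, 1, 5, 4, 3, 2, 0, 6, 5, 4, 3, 1, 2, 3, 7, 6]),
  (8, [7, 6, 5, 4, 3, 1, 2, 0, 3, 2, 4, 3, 1, 5, 4, 3, 2, 0, 6, 5, 4, 3, 1, 2, 3, 7]),
  (8, [7, 6, 5, 4, 3, 1, 2, 0, 3, 2, 4, 3, 1, 5, 4, 3, 2, 0, 6, 5, 4, 3, 1, 2, 3]),
  (8, [7, 6, 5, 4, 3, 1, 2, 0, 3, 2, 4, 3, 1, 5, 4, 3, 2, 0, 6, 5, 4, 3, 1, 2, 7, 6, 5, 4]),
  (8, [7, 6, 5, 4, 3, 1, 2, 0, 3, 2, 4, 3, 1, 5, 4, 3, 2, 0, 6, 5, 4, 3, 1, 2, 7, 6, 5]),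
  (8, [7, 6, 5, 4, 3, 1, 2, 0, 3, 2, 4, 3, 1, 5, 4, 3, 2, 0, 6, 5, 4, 3, 1, 2, 7, 6]),
  (8, [7, 6, 5, 4, 3, 1, 2, 0, 3, 2, 4, 3, 1, 5, 4, 3, 2, 0, 6, 5, 4, 3, 1, 2, 7]),
  (8, [7, 6, 5, 4, 3, 1, 2, 0, 3, 2, 4, 3, 1, 5, 4, 3, 2, 0, 6, 5, 4, 3, 1, 2]),
  (8, [7, 6, 5, 4, 3, 1, 2, 0, 3, 2, 4, 3, 1, 5, 4, 3, 2, 0, 6, 5, 4, 3, 1, 7, 6, 5, 4, 3]),
  (8, [7, 6, 5, 4, 3, 1, 2, 0, 3, 2, 4, 3, 1, 5, 4, 3, 2, 0, 6, 5, 4, 3, 1, 7, 6, 5, 4]),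
  (8, [7, 6, 5, 4, 3, 1, 2, 0, 3, 2, 4, 3, 1, 5, 4, 3, 2, 0, 6, 5, 4, 3, 1, 7, 6, 5]),
  (8, [7, 6, 5, 4, 3, 1, 2, 0, 3, 2, 4, 3, 1, 5, 4, 3, 2, 0, 6, 5, 4, 3, 1, 7, 6]),
  (8, [7, 6, 5, 4, 3, 1, 2, 0, 3, 2, 4, 3, 1, 5, 4, 3, 2, 0, 6, 5, 4, 3, 1, 7]),
  (8, [7, 6, 5, 4, 3, 1, 2, 0, 3, 2, 4, 3, 1, 5, 4, 3, 2, 0, 6, 5, 4, 3, 1]),
  (8, [7, 6, 5, 4, 3, 1, 2, 0, 3, 2, 4, 3, 1, 5, 4, 3, 2, 0, 6, 5, 4, 3, 2, 7, 6, 5, 4, 3]),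
  (8, [7, 6, 5, 4, 3, 1, 2, 0, 3, 2, 4, 3, 1, 5, 4, 3, 2, 0, 6, 5, 4, 3, 2, 7, 6, 5, 4]),
  (8, [7, 6, 5, 4, 3, 1, 2, 0, 3, 2, 4, 3, 1, 5, 4, 3, 2, 0, 6, 5, 4, 3, 2, 7, 6, 5]),
  (8, [7, 6, 5, 4, 3, 1, 2, 0, 3, 2, 4, 3, 1, 5, 4, 3, 2, 0, 6, 5, 4, 3, 2, 7, 6]),
  (8, [7, 6, 5, 4, 3, 1, 2, 0, 3, 2, 4, 3, 1, 5, 4, 3, 2, 0, 6, 5, 4, 3, 2, 7]),
  (8, [7, 6, 5, 4, 3, 1, 2, 0, 3, 2, 4, 3, 1, 5, 4, 3, 2, 0, 6, 5, 4, 3, 2]),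
  (8, [7, 6, 5, 4, 3, 1, 2, 0, 3, 2, 4, 3, 1, 5, 4, 3, 2, 0, 6, 5, 4, 3, 7, 6, 5, 4]),
  (8, [7, 6, 5, 4, 3, 1, 2, 0, 3, 2, 4, 3, 1, 5, 4, 3, 2, 0, 6, 5, 4, 3, 7, 6, 5]),
  (8, [7, 6, 5, 4, 3, 1, 2, 0, 3, 2, 4, 3, 1, 5, 4, 3, 2, 0, 6, 5, 4, 3, 7, 6]),
  (8, [7, 6, 5, 4, 3, 1, 2, 0, 3, 2, 4, 3, 1, 5, 4, 3, 2, 0, 6, 5, 4, 3, 7]),
  (8, [7, 6, 5, 4, 3, 1, 2, 0, 3, 2, 4, 3, 1, 5, 4, 3, 2, 0, 6, 5, 4, 3]),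
  (8, [7, 6, 5, 4, 3, 1, 2, 0, 3, 2, 4, 3, 1, 5, 4, 3, 2, 0, 6, 5, 4, 7, 6, 5]),
  (8, [7, 6, 5, 4, 3, 1, 2, 0, 3, 2, 4, 3, 1, 5, 4, 3, 2, 0, 6, 5, 4, 7, 6]),
  (8, [7, 6, 5, 4, 3, 1, 2, 0, 3, 2, 4, 3, 1, 5, 4, 3, 2, 0, 6, 5, 4, 7]),
  (8, [7, 6, 5, 4, 3, 1, 2, 0, 3, 2, 4, 3, 1, 5, 4, 3, 2, 0, 6, 5, 4]),
  (8, [7, 6, 5, 4, 3, 1, 2, 0, 3, 2, 4, 3, 1, 5, 4, 3, 2, 0, 6, 5, 7, 6]),
  (8, [7, 6, 5, 4, 3, 1, 2, 0, 3, 2, 4, 3, 1, 5, 4, 3, 2, 0, 6, 5, 7]),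
  (8, [7, 6, 5, 4, 3, 1, 2, 0, 3, 2, 4, 3, 1, 5, 4, 3, 2, 0, 6, 5]),
  (8, [7, 6, 5, 4, 3, 1, 2, 0, 3, 2, 4, 3, 1, 5, 4, 3, 2, 0, 6, 7]),
  (8, [7, 6, 5, 4, 3, 1, 2, 0, 3, 2, 4, 3, 1, 5, 4, 3, 2, 0, 6]),
  (8, [7, 6, 5, 4, 3, 1, 2, 0, 3, 2, 4, 3, 1, 5, 4, 3, 2, 0]),
  (8, [7, 6, 5, 4, 3, 1, 2, 0, 3, 2, 4, 3, 1, 5, 4, 3, 2, 6, 5, 4, 3, 1, 7, 6, 5, 4, 3, 2]),
  (8, [7, 6, 5, 4, 3, 1, 2, 0, 3, 2, 4, 3, 1, 5, 4, 3, 2, 6, 5, 4, 3, 1, 7, 6, 5, 4, 3]),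
  (8, [7, 6, 5, 4, 3, 1, 2, 0, 3, 2, 4, 3, 1, 5, 4, 3, 2, 6, 5, 4, 3, 1, 7, 6, 5, 4]),
  (8, [7, 6, 5, 4, 3, 1, 2, 0, 3, 2, 4, 3, 1, 5, 4, 3, 2, 6, 5, 4, 3, 1, 7, 6, 5]),
  (8, [7, 6, 5, 4, 3, 1, 2, 0, 3, 2, 4, 3, 1, 5, 4, 3, 2, 6, 5, 4, 3, 1, 7, 6]),
  (8, [7, 6, 5, 4, 3, 1, 2, 0, 3, 2, 4, 3, 1, 5, 4, 3, 2, 6, 5, 4, 3, 1, 7]),
  (8, [7, 6, 5, 4, 3, 1, 2, 0, 3, 2, 4, 3, 1, 5, 4, 3, 2, 6, 5, 4, 3, 1]),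
  (8, [7, 6, 5, 4, 3, 1, 2, 0, 3, 2, 4, 3, 1, 5, 4, 3, 2, 6, 5, 4, 3, 7, 6, 5, 4]),
  (8, [7, 6, 5, 4, 3, 1, 2, 0, 3, 2, 4, 3, 1, 5, 4, 3, 2, 6, 5, 4, 3, 7, 6, 5]),
  (8, [7, 6, 5, 4, 3, 1, 2, 0, 3, 2, 4, 3, 1, 5, 4, 3, 2, 6, 5, 4, 3, 7, 6]),
  (8, [7, 6, 5, 4, 3, 1, 2, 0, 3, 2, 4, 3, 1, 5, 4, 3, 2, 6, 5, 4, 3, 7]),
  (8, [7, 6, 5, 4, 3, 1, 2, 0, 3, 2, 4, 3, 1, 5, 4, 3, 2, 6, 5, 4, 3]),
  (8, [7, 6, 5, 4, 3, 1, 2, 0, 3, 2, 4, 3, 1, 5, 4, 3, 2, 6, 5, 4, 7, 6, 5]),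
  (8, [7, 6, 5, 4, 3, 1, 2, 0, 3, 2, 4, 3, 1, 5, 4, 3, 2, 6, 5, 4, 7, 6]),
  (8, [7, 6, 5, 4, 3, 1, 2, 0, 3, 2, 4, 3, 1, 5, 4, 3, 2, 6, 5, 4, 7]),
  (8, [7, 6, 5, 4, 3, 1, 2, 0, 3, 2, 4, 3, 1, 5, 4, 3, 2, 6, 5, 4]),
  (8, [7, 6, 5, 4, 3, 1, 2, 0, 3, 2, 4, 3, 1, 5, 4, 3, 2, 6, 5, 7, 6]),
  (8, [7, 6, 5, 4, 3, 1, 2, 0, 3, 2, 4, 3, 1, 5, 4, 3, 2, 6, 5, 7]),
  (8, [7, 6, 5, 4, 3, 1, 2, 0, 3, 2, 4, 3, 1, 5, 4, 3, 2, 6, 5]),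
  (8, [7, 6, 5, 4, 3, 1, 2, 0, 3, 2, 4, 3, 1, 5, 4, 3, 2, 6, 7]),
  (8, [7, 6, 5, 4, 3, 1, 2, 0, 3, 2, 4, 3, 1, 5, 4, 3, 2, 6]),
  (8, [7, 6, 5, 4, 3, 1, 2, 0, 3, 2, 4, 3, 1, 5, 4, 3, 2]),
  (8, [7, 6, 5, 4, 3, 1, 2, 0, 3, 2, 4, 3, 1, 5, 4, 3, 6, 5, 4, 7, 6, 5]),
  (8, [7, 6, 5, 4, 3, 1, 2, 0, 3, 2, 4, 3, 1, 5, 4, 3, 6, 5, 4, 7, 6]),
  (8, [7, 6, 5, 4, 3, 1, 2, 0, 3, 2, 4, 3, 1, 5, 4, 3, 6, 5, 4, 7]),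
  (8, [7, 6, 5, 4, 3, 1, 2, 0, 3, 2, 4, 3, 1, 5, 4, 3, 6, 5, 4]),
  (8, [7, 6, 5, 4, 3, 1, 2, 0, 3, 2, 4, 3, 1, 5, 4, 3, 6, 5, 7, 6]),
  (8, [7, 6, 5, 4, 3, 1, 2, 0, 3, 2, 4, 3, 1, 5, 4, 3, 6, 5, 7]),
  (8, [7, 6, 5, 4, 3, 1, 2, 0, 3, 2, 4, 3, 1, 5, 4, 3, 6, 5]),
  (8, [7, 6, 5, 4, 3, 1, 2, 0, 3, 2, 4, 3, 1, 5, 4, 3, 6, 7]),
  (8, [7, 6, 5, 4, 3, 1, 2, 0, 3, 2, 4, 3, 1, 5, 4, 3, 6]), (8, [7, 6, 5, 4, 3, 1, 2, 0, 3, 2, 4, 3, 1, 5, 4, 3]),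
  (8, [7, 6, 5, 4, 3, 1, 2, 0, 3, 2, 4, 3, 1, 5, 4, 6, 5, 7, 6]),
  (8, [7, 6, 5, 4, 3, 1, 2, 0, 3, 2, 4, 3, 1, 5, 4, 6, 5, 7]),
  (8, [7, 6, 5, 4, 3, 1, 2, 0, 3, 2, 4, 3, 1, 5, 4, 6, 5]),
  (8, [7, 6, 5, 4, 3, 1, 2, 0, 3, 2, 4, 3, 1, 5, 4, 6, 7]), (8, [7, 6, 5, 4, 3, 1, 2, 0, 3, 2, 4, 3, 1, 5, 4, 6]),
  (8, [7, 6, 5, 4, 3, 1, 2, 0, 3, 2, 4, 3, 1, 5, 4]), (8, [7, 6, 5, 4, 3, 1, 2, 0, 3, 2, 4, 3, 1, 5, 6, 7]),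
  (8, [7, 6, 5, 4, 3, 1, 2, 0, 3, 2, 4, 3, 1, 5, 6]), (8, [7, 6, 5, 4, 3, 1, 2, 0, 3, 2, 4, 3, 1, 5]),
  (8, [7, 6, 5, 4, 3, 1, 2, 0, 3, 2, 4, 3, 1]), (8, [7, 6, 5, 4, 3, 1, 2, 0, 3, 2, 4, 3, 5, 4, 6, 5, 7, 6]),
  (8, [7, 6, 5, 4, 3, 1, 2, 0, 3, 2, 4, 3, 5, 4, 6, 5, 7]), (8, [7, 6, 5, 4, 3, 1, 2, 0, 3, 2, 4, 3, 5, 4, 6, 5]),
  (8, [7, 6, 5, 4, 3, 1, 2, 0, 3, 2, 4, 3, 5, 4, 6, 7]), (8, [7, 6, 5, 4, 3, 1, 2, 0, 3, 2, 4, 3, 5, 4, 6]),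
  (8, [7, 6, 5, 4, 3, 1, 2, 0, 3, 2, 4, 3, 5, 4]), (8, [7, 6, 5, 4, 3, 1, 2, 0, 3, 2, 4, 3, 5, 6, 7]),
  (8, [7, 6, 5, 4, 3, 1, 2, 0, 3, 2, 4, 3, 5, 6]), (8, [7, 6, 5, 4, 3, 1, 2, 0, 3, 2, 4, 3, 5]),
  (8, [7, 6, 5, 4, 3, 1, 2, 0, 3, 2, 4, 3]), (8, [7, 6, 5, 4, 3, 1, 2, 0, 3, 2, 4, 5, 6, 7]),
  (8, [7, 6, 5, 4, 3, 1, 2, 0, 3, 2, 4, 5, 6]), (8, [7, 6, 5, 4, 3, 1, 2, 0, 3, 2, 4, 5]),
  (8, [7, 6, 5, 4, 3, 1, 2, 0, 3, 2, 4]), (8, [7, 6, 5, 4, 3, 1, 2, 0, 3, 2]),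
  (8, [7, 6, 5, 4, 3, 1, 2, 0, 3, 4, 5, 6, 7]), (8, [7, 6, 5, 4, 3, 1, 2, 0, 3, 4, 5, 6]),
  (8, [7, 6, 5, 4, 3, 1, 2, 0, 3, 4, 5]), (8, [7, 6, 5, 4, 3, 1, 2, 0, 3, 4]), (8, [7, 6, 5, 4, 3, 1, 2, 0, 3]),
  (8, [7, 6, 5, 4, 3, 1, 2, 0]), (8, [7, 6, 5, 4, 3, 2, 0]), (8, [7, 6, 5, 4, 3, 1, 2, 3, 4, 5, 6, 7]),
  (8, [7, 6, 5, 4, 3, 1, 2, 3, 4, 5, 6]), (8, [7, 6, 5, 4, 3, 1, 2, 3, 4, 5]), (8, [7, 6, 5, 4, 3, 1, 2, 3, 4]),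
  (8, [7, 6, 5, 4, 3, 1, 2, 3]), (8, [7, 6, 5, 4, 3, 1, 2]), (8, [7, 6, 5, 4, 3, 1]), (8, [7, 6, 5, 4, 3, 2]),
  (8, [7, 6, 5, 4, 3]), (8, [7, 6, 5, 4]), (8, [7, 6, 5]), (8, [7, 6]), (8, [7]), (8, [])]

/-- Moves with a root of odd pairing fixed up to the reflection. -/
def moveB : List (ℕ × List ℕ × ℕ × ℕ × ℕ × List ℕ) := [
  (1, [], 0, 6, 0, []), (2, [], 1, 5, 1, []), (3, [], 4, 3, 2, []), (4, [], 6, 1, 3, []), (6, [], 6, 1, 5, [])]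

/-- Moves with two negated roots of odd pairing. -/
def moveA : List (ℕ × List ℕ × ℕ × List ℕ × ℕ × List (ℕ × List ℕ)) := [
  (5, [], 4, [], 3, [(3, [2, 0, 3, 1, 2, 3]), (3, [2, 0, 3, 1, 2, 4]), (3, [2, 0, 3, 1, 2])]),
  (7, [], 6, [], 5, [(6, [5, 4, 3, 1, 2, 3, 4, 5]), (6, [5, 4, 3, 1, 2, 3, 4, 6]), (6, [5, 4, 3, 1, 2, 3, 4])]),
  (8, [], 6, [], 5, [(7, [0, 2, 3, 1, 4, 3, 2, 0, 5, 4, 3, 1, 2, 3, 4, 5]), (7, [0, 2, 3, 1, 4, 3, 2, 0, 5, 4, 3, 1, 2, 3, 4, 6]), (7, [0, 2, 3, 1, 4, 3, 2, 0, 5, 4, 3, 1, 2, 3, 4])]),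
  (9, [], 7, [], 6, [(8, [7, 6, 5, 4, 3, 1, 2, 0, 3, 2, 4, 3, 1, 5, 4, 3, 2, 0, 6, 5, 4, 3, 1, 2, 3, 4, 5, 6]), (8, [7, 6, 5, 4, 3, 1, 2, 0, 3, 2, 4, 3, 1, 5, 4, 3, 2, 0, 6, 5, 4, 3, 1, 2, 3, 4, 5, 7]), (8, [7, 6, 5, 4, 3, 1, 2, 0, 3, 2, 4, 3, 1, 5, 4, 3, 2, 0, 6, 5, 4, 3, 1, 2, 3, 4, 5])])]

/-- A step of the chain of a stabiliser. -/
structure LevData where
  /-- the generators, as indices -/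
  gens : List ℕ
  /-- the generators of the next step -/
  next : List ℕ
  /-- the coset representatives -/
  reps : List (List ℕ)
  /-- a generator and the parent of each representative -/
  par : List (ℕ × ℕ)
  /-- left multiplication by the generators -/
  steps : List (List (ℕ × ℕ))
  /-- the roots permuted by the next generators -/
  P : List ℕ
  /-- the roots kept positive by the representatives -/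
  Q : List ℕ
  /-- a set stable under the next generators -/
  S : List ℕ
  /-- numbers of even inversions -/
  inv : List ℕ

/-- Reflections generating the stabiliser. -/
def baseS : List (List ℕ) := [
  [7], [5], [4], [3], [2, 3, 4, 5, 6, 5, 4, 3, 2], [1], [0], [2, 0, 3, 1, 2, 3, 4, 3, 1, 2, 0, 3, 2]]

/-- The roots of the class. -/
def rootsS : List ℕ := [
  162, 120]

/-- The positive roots of even pairing. -/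
def evenS : List ℕ := [
  120, 123, 126, 127, 130, 131, 132, 139, 140, 141, 142, 143, 144, 150, 151, 154, 155, 157, 158, 159, 160, 162, 167,
  168, 172, 173, 176, 177, 179, 180, 181, 182, 184, 185, 188, 193, 194, 199, 202, 203, 204, 209, 212, 213, 216, 217,
  218, 219, 220, 226, 227, 232, 234, 235, 236, 237]

/-- Coset representatives of the stabiliser. -/
def transS : List (List ℕ) := [
  [], [2], [6], [0, 2], [3, 2], [6, 2], [5, 6], [7, 6], [3, 0, 2], [6, 0, 2], [1, 3, 2], [4, 3, 2], [6, 3, 2],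
  [5, 6, 2], [7, 6, 2], [4, 5, 6], [7, 5, 6], [1, 3, 0, 2], [2, 3, 0, 2], [4, 3, 0, 2], [6, 3, 0, 2], [5, 6, 0, 2],
  [7, 6, 0, 2], [4, 1, 3, 2], [6, 1, 3, 2], [5, 4, 3, 2], [6, 4, 3, 2], [5, 6, 3, 2], [7, 6, 3, 2], [4, 5, 6, 2],
  [7, 5, 6, 2], [3, 4, 5, 6], [7, 4, 5, 6], [6, 7, 5, 6], [2, 1, 3, 0, 2], [4, 1, 3, 0, 2], [6, 1, 3, 0, 2],
  [4, 2, 3, 0, 2], [6, 2, 3, 0, 2], [5, 4, 3, 0, 2], [6, 4, 3, 0, 2], [5, 6, 3, 0, 2], [7, 6, 3, 0, 2],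
  [4, 5, 6, 0, 2], [7, 5, 6, 0, 2], [3, 4, 1, 3, 2], [5, 4, 1, 3, 2], [6, 4, 1, 3, 2], [5, 6, 1, 3, 2],
  [7, 6, 1, 3, 2], [7, 6, 4, 3, 2], [7, 5, 6, 3, 2], [7, 4, 5, 6, 2], [6, 7, 5, 6, 2], [1, 3, 4, 5, 6],
  [7, 3, 4, 5, 6], [6, 7, 4, 5, 6], [3, 2, 1, 3, 0, 2], [4, 2, 1, 3, 0, 2], [6, 2, 1, 3, 0, 2], [3, 4, 1, 3, 0, 2],
  [5, 4, 1, 3, 0, 2], [6, 4, 1, 3, 0, 2], [5, 6, 1, 3, 0, 2], [7, 6, 1, 3, 0, 2], [3, 4, 2, 3, 0, 2],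
  [5, 4, 2, 3, 0, 2], [6, 4, 2, 3, 0, 2], [5, 6, 2, 3, 0, 2], [7, 6, 2, 3, 0, 2], [7, 6, 4, 3, 0, 2],
  [7, 5, 6, 3, 0, 2], [7, 4, 5, 6, 0, 2], [6, 7, 5, 6, 0, 2], [2, 3, 4, 1, 3, 2], [5, 3, 4, 1, 3, 2],
  [6, 3, 4, 1, 3, 2], [7, 6, 4, 1, 3, 2], [7, 5, 6, 1, 3, 2], [6, 7, 5, 6, 3, 2], [6, 7, 4, 5, 6, 2],
  [7, 1, 3, 4, 5, 6], [6, 7, 3, 4, 5, 6], [5, 6, 7, 4, 5, 6], [6, 3, 2, 1, 3, 0, 2], [5, 4, 2, 1, 3, 0, 2],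
  [6, 4, 2, 1, 3, 0, 2], [5, 6, 2, 1, 3, 0, 2], [7, 6, 2, 1, 3, 0, 2], [5, 3, 4, 1, 3, 0, 2], [6, 3, 4, 1, 3, 0, 2],
  [7, 6, 4, 1, 3, 0, 2], [7, 5, 6, 1, 3, 0, 2], [5, 3, 4, 2, 3, 0, 2], [6, 3, 4, 2, 3, 0, 2], [7, 6, 4, 2, 3, 0, 2],
  [7, 5, 6, 2, 3, 0, 2], [6, 7, 5, 6, 3, 0, 2], [6, 7, 4, 5, 6, 0, 2], [5, 2, 3, 4, 1, 3, 2], [6, 2, 3, 4, 1, 3, 2],
  [4, 5, 3, 4, 1, 3, 2], [7, 6, 3, 4, 1, 3, 2], [6, 7, 5, 6, 1, 3, 2], [5, 6, 7, 4, 5, 6, 2], [6, 7, 1, 3, 4, 5, 6],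
  [5, 6, 7, 3, 4, 5, 6], [5, 6, 3, 2, 1, 3, 0, 2], [7, 6, 3, 2, 1, 3, 0, 2], [7, 6, 4, 2, 1, 3, 0, 2],
  [7, 5, 6, 2, 1, 3, 0, 2], [4, 5, 3, 4, 1, 3, 0, 2], [7, 6, 3, 4, 1, 3, 0, 2], [6, 7, 5, 6, 1, 3, 0, 2],
  [4, 5, 3, 4, 2, 3, 0, 2], [7, 6, 3, 4, 2, 3, 0, 2], [6, 7, 5, 6, 2, 3, 0, 2], [5, 6, 7, 4, 5, 6, 0, 2],
  [4, 5, 2, 3, 4, 1, 3, 2], [7, 6, 2, 3, 4, 1, 3, 2], [5, 6, 7, 1, 3, 4, 5, 6], [4, 5, 6, 7, 3, 4, 5, 6],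
  [4, 5, 6, 3, 2, 1, 3, 0, 2], [7, 5, 6, 3, 2, 1, 3, 0, 2], [6, 7, 5, 6, 2, 1, 3, 0, 2],
  [3, 4, 5, 2, 3, 4, 1, 3, 2], [4, 5, 6, 7, 1, 3, 4, 5, 6], [7, 4, 5, 6, 3, 2, 1, 3, 0, 2],
  [6, 7, 5, 6, 3, 2, 1, 3, 0, 2], [1, 3, 4, 5, 2, 3, 4, 1, 3, 2], [3, 4, 5, 6, 7, 1, 3, 4, 5, 6],
  [6, 7, 4, 5, 6, 3, 2, 1, 3, 0, 2], [2, 3, 4, 5, 6, 7, 1, 3, 4, 5, 6], [5, 6, 7, 4, 5, 6, 3, 2, 1, 3, 0, 2],
  [0, 2, 3, 4, 5, 6, 7, 1, 3, 4, 5, 6]]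

/-- The images of the cosets. -/
def schreierS : List (ℕ × List ℕ) := [
  (0, [6]), (0, [5]), (1, []), (0, [3]), (0, [2]), (0, [1]), (2, []), (0, [0]), (3, []), (1, [5]), (0, []), (4, []),
  (1, [2]), (1, [1]), (5, []), (1, [0]), (2, [6]), (2, [5]), (5, []), (2, [3]), (2, [2]), (6, []), (0, []), (7, []),
  (1, []), (3, [5]), (3, [6]), (8, []), (3, [2]), (3, [1]), (9, []), (3, [0]), (8, []), (10, []), (4, [3]), (1, []),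
  (11, []), (4, [1]), (12, []), (4, [0]), (9, []), (5, [5]), (2, []), (12, []), (5, [2]), (13, []), (1, []),
  (14, []), (6, [6]), (6, [5]), (13, []), (6, [3]), (15, []), (2, []), (6, [1]), (16, []), (7, [6]), (7, [5]),
  (14, []), (7, [3]), (7, [2]), (16, []), (7, [0]), (2, []), (4, []), (17, []), (18, []), (3, []), (19, []),
  (8, [1]), (20, []), (8, [0]), (5, []), (9, [5]), (9, [6]), (20, []), (9, [2]), (21, []), (3, []), (22, []),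
  (17, []), (4, []), (10, [3]), (10, [5]), (23, []), (10, [1]), (24, []), (10, [0]), (19, []), (23, []), (11, [3]),
  (11, [2]), (4, []), (25, []), (26, []), (11, [0]), (20, []), (24, []), (12, [3]), (5, []), (26, []), (27, []),
  (4, []), (28, []), (21, []), (13, [5]), (6, []), (27, []), (29, []), (5, []), (13, [1]), (30, []), (22, []),
  (14, [5]), (7, []), (28, []), (14, [2]), (30, []), (14, [0]), (5, []), (15, [6]), (15, [5]), (29, []), (31, []),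
  (6, []), (15, [2]), (15, [1]), (32, []), (16, [6]), (16, [5]), (30, []), (16, [3]), (32, []), (7, []), (33, []),
  (6, []), (10, []), (8, []), (34, []), (17, [5]), (35, []), (17, [1]), (36, []), (17, [0]), (18, [3]), (34, []),
  (8, []), (18, [6]), (37, []), (18, [1]), (38, []), (18, [0]), (11, []), (35, []), (37, []), (19, [2]), (8, []),
  (39, []), (40, []), (19, [0]), (12, []), (36, []), (38, []), (9, []), (40, []), (41, []), (8, []), (42, []),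
  (13, []), (21, [5]), (21, [6]), (41, []), (43, []), (9, []), (21, [1]), (44, []), (14, []), (22, [5]), (22, [6]),
  (42, []), (22, [2]), (44, []), (22, [0]), (9, []), (35, []), (11, []), (23, [3]), (45, []), (10, []), (46, []),
  (47, []), (23, [0]), (36, []), (12, []), (24, [3]), (24, [5]), (47, []), (48, []), (10, []), (49, []), (39, []),
  (46, []), (25, [3]), (25, [2]), (25, [1]), (11, []), (25, [4]), (25, [0]), (40, []), (47, []), (26, [3]),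
  (26, [2]), (12, []), (26, [4]), (11, []), (50, []), (41, []), (48, []), (27, [3]), (13, []), (27, [4]), (12, []),
  (27, [1]), (51, []), (42, []), (49, []), (28, [3]), (14, []), (50, []), (51, []), (28, [0]), (12, []), (43, []),
  (29, [5]), (15, []), (29, [4]), (13, []), (29, [2]), (29, [1]), (52, []), (44, []), (30, [5]), (16, []), (51, []),
  (52, []), (14, []), (53, []), (13, []), (31, [6]), (54, []), (31, [4]), (15, []), (31, [3]), (31, [2]), (31, [1]),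
  (55, []), (32, [6]), (32, [5]), (52, []), (55, []), (16, []), (32, [2]), (56, []), (15, []), (33, [6]), (33, [5]),
  (53, []), (33, [3]), (56, []), (33, [0]), (16, []), (33, [1]), (34, [3]), (18, []), (17, []), (57, []), (58, []),
  (34, [1]), (59, []), (34, [0]), (23, []), (19, []), (58, []), (60, []), (17, []), (61, []), (62, []), (35, [0]),
  (24, []), (20, []), (59, []), (36, [5]), (62, []), (63, []), (17, []), (64, []), (37, [3]), (58, []), (19, []),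
  (65, []), (18, []), (66, []), (67, []), (37, [0]), (38, [3]), (59, []), (20, []), (38, [6]), (67, []), (68, []),
  (18, []), (69, []), (25, []), (61, []), (66, []), (39, [2]), (39, [1]), (19, []), (39, [4]), (39, [0]), (26, []),
  (62, []), (67, []), (40, [2]), (20, []), (40, [4]), (19, []), (70, []), (27, []), (63, []), (68, []), (21, []),
  (41, [4]), (20, []), (41, [1]), (71, []), (28, []), (64, []), (69, []), (22, []), (70, []), (71, []), (42, [0]),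
  (20, []), (29, []), (43, [5]), (43, [6]), (43, [4]), (21, []), (43, [2]), (43, [1]), (72, []), (30, []),
  (44, [5]), (44, [6]), (71, []), (72, []), (22, []), (73, []), (21, []), (60, []), (45, [2]), (74, []), (23, []),
  (45, [5]), (75, []), (76, []), (45, [0]), (61, []), (25, []), (46, [3]), (75, []), (46, [1]), (23, []), (46, [4]),
  (46, [0]), (62, []), (26, []), (47, [3]), (76, []), (24, []), (47, [4]), (23, []), (77, []), (63, []), (27, []),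
  (48, [3]), (48, [5]), (48, [4]), (24, []), (48, [1]), (78, []), (64, []), (28, []), (49, [3]), (49, [5]),
  (77, []), (78, []), (49, [0]), (24, []), (70, []), (77, []), (50, [3]), (50, [2]), (28, []), (50, [4]), (50, [0]),
  (26, []), (71, []), (78, []), (51, [3]), (30, []), (51, [4]), (28, []), (79, []), (27, []), (72, []), (52, [5]),
  (32, []), (52, [4]), (30, []), (52, [2]), (80, []), (29, []), (73, []), (53, [5]), (33, []), (79, []), (80, []),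
  (53, [0]), (30, []), (53, [1]), (54, [6]), (31, []), (54, [4]), (54, [5]), (54, [3]), (54, [2]), (54, [1]),
  (81, []), (55, [6]), (81, []), (55, [4]), (32, []), (55, [3]), (55, [2]), (82, []), (31, []), (56, [6]),
  (56, [5]), (80, []), (82, []), (33, []), (83, []), (32, []), (56, [1]), (57, [3]), (57, [6]), (57, [5]), (34, []),
  (57, [7]), (57, [1]), (84, []), (57, [0]), (58, [3]), (37, []), (35, []), (58, [7]), (34, []), (85, []), (86, []),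
  (58, [0]), (59, [3]), (38, []), (36, []), (84, []), (86, []), (87, []), (34, []), (88, []), (45, []), (60, [2]),
  (60, [7]), (35, []), (60, [5]), (89, []), (90, []), (60, [0]), (46, []), (39, []), (85, []), (89, []), (61, [1]),
  (35, []), (61, [4]), (61, [0]), (47, []), (40, []), (86, []), (90, []), (36, []), (62, [4]), (35, []), (91, []),
  (48, []), (41, []), (87, []), (63, [5]), (63, [4]), (36, []), (63, [1]), (92, []), (49, []), (42, []), (88, []),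
  (64, [5]), (91, []), (92, []), (64, [0]), (36, []), (65, [3]), (65, [7]), (65, [2]), (37, []), (65, [6]),
  (93, []), (94, []), (65, [0]), (66, [3]), (85, []), (39, []), (93, []), (66, [1]), (37, []), (66, [4]), (66, [0]),
  (67, [3]), (86, []), (40, []), (94, []), (38, []), (67, [4]), (37, []), (95, []), (68, [3]), (87, []), (41, []),
  (68, [6]), (68, [4]), (38, []), (68, [1]), (96, []), (69, [3]), (88, []), (42, []), (69, [6]), (95, []), (96, []),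
  (69, [0]), (38, []), (50, []), (91, []), (95, []), (70, [2]), (42, []), (70, [4]), (70, [0]), (40, []), (51, []),
  (92, []), (96, []), (44, []), (71, [4]), (42, []), (97, []), (41, []), (52, []), (72, [5]), (72, [6]), (72, [4]),
  (44, []), (72, [2]), (98, []), (43, []), (53, []), (73, [5]), (73, [6]), (97, []), (98, []), (73, [0]), (44, []),
  (73, [1]), (74, [7]), (74, [2]), (45, []), (74, [3]), (74, [5]), (99, []), (100, []), (74, [0]), (89, []),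
  (75, [2]), (99, []), (46, []), (101, []), (45, []), (75, [4]), (75, [0]), (90, []), (76, [2]), (100, []),
  (47, []), (76, [5]), (76, [4]), (45, []), (102, []), (91, []), (50, []), (77, [3]), (102, []), (49, []),
  (77, [4]), (77, [0]), (47, []), (92, []), (51, []), (78, [3]), (78, [5]), (78, [4]), (49, []), (103, []),
  (48, []), (97, []), (103, []), (79, [3]), (53, []), (79, [4]), (79, [0]), (51, []), (79, [1]), (98, []),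
  (80, [5]), (56, []), (80, [4]), (53, []), (104, []), (52, []), (80, [1]), (81, [6]), (55, []), (81, [4]),
  (81, [5]), (81, [3]), (81, [2]), (105, []), (54, []), (82, [6]), (105, []), (82, [4]), (56, []), (82, [3]),
  (106, []), (55, []), (82, [1]), (83, [6]), (83, [5]), (104, []), (106, []), (83, [0]), (56, []), (83, [2]),
  (83, [1]), (84, [3]), (84, [6]), (84, [5]), (59, []), (84, [7]), (107, []), (57, []), (108, []), (85, [3]),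
  (66, []), (61, []), (85, [7]), (85, [1]), (58, []), (85, [4]), (85, [0]), (86, [3]), (67, []), (62, []),
  (86, [7]), (59, []), (86, [4]), (58, []), (109, []), (87, [3]), (68, []), (63, []), (107, []), (87, [4]),
  (59, []), (87, [1]), (110, []), (88, [3]), (69, []), (64, []), (108, []), (109, []), (110, []), (88, [0]),
  (59, []), (75, []), (89, [2]), (89, [7]), (61, []), (111, []), (60, []), (89, [4]), (89, [0]), (76, []),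
  (90, [2]), (90, [7]), (62, []), (90, [5]), (90, [4]), (60, []), (112, []), (77, []), (70, []), (109, []),
  (112, []), (64, []), (91, [4]), (91, [0]), (62, []), (78, []), (71, []), (110, []), (92, [5]), (92, [4]),
  (64, []), (113, []), (63, []), (93, [3]), (93, [7]), (93, [2]), (66, []), (114, []), (65, []), (93, [4]),
  (93, [0]), (94, [3]), (94, [7]), (94, [2]), (67, []), (94, [6]), (94, [4]), (65, []), (115, []), (95, [3]),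
  (109, []), (70, []), (115, []), (69, []), (95, [4]), (95, [0]), (67, []), (96, [3]), (110, []), (71, []),
  (96, [6]), (96, [4]), (69, []), (116, []), (68, []), (79, []), (113, []), (116, []), (73, []), (97, [4]),
  (97, [0]), (71, []), (97, [1]), (80, []), (98, [5]), (98, [6]), (98, [4]), (73, []), (117, []), (72, []),
  (98, [1]), (99, [7]), (99, [2]), (75, []), (99, [3]), (118, []), (74, []), (99, [4]), (99, [0]), (100, [7]),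
  (100, [2]), (76, []), (100, [3]), (100, [5]), (100, [4]), (74, []), (119, []), (111, []), (101, [2]), (118, []),
  (101, [1]), (75, []), (101, [5]), (101, [4]), (101, [0]), (112, []), (102, [2]), (119, []), (77, []), (102, [5]),
  (102, [4]), (102, [0]), (76, []), (113, []), (79, []), (103, [3]), (103, [5]), (103, [4]), (103, [0]), (78, []),
  (103, [1]), (117, []), (104, [5]), (83, []), (104, [4]), (104, [0]), (80, []), (104, [2]), (104, [1]), (105, [6]),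
  (82, []), (105, [4]), (105, [5]), (105, [3]), (120, []), (81, []), (105, [1]), (106, [6]), (120, []), (106, [4]),
  (83, []), (121, []), (82, []), (106, [2]), (106, [1]), (107, [3]), (107, [6]), (107, [5]), (87, []), (122, []),
  (84, []), (107, [1]), (123, []), (108, [3]), (108, [6]), (108, [5]), (88, []), (108, [7]), (123, []), (108, [0]),
  (84, []), (109, [3]), (95, []), (91, []), (109, [7]), (88, []), (109, [4]), (109, [0]), (86, []), (110, [3]),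
  (96, []), (92, []), (123, []), (110, [4]), (88, []), (124, []), (87, []), (101, []), (111, [2]), (111, [7]),
  (111, [1]), (89, []), (111, [5]), (111, [4]), (111, [0]), (102, []), (112, [2]), (112, [7]), (91, []), (112, [5]),
  (112, [4]), (112, [0]), (90, []), (103, []), (97, []), (124, []), (113, [5]), (113, [4]), (113, [0]), (92, []),
  (113, [1]), (114, [3]), (114, [7]), (114, [2]), (114, [1]), (93, []), (114, [6]), (114, [4]), (114, [0]),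
  (115, [3]), (115, [7]), (115, [2]), (95, []), (115, [6]), (115, [4]), (115, [0]), (94, []), (116, [3]), (124, []),
  (97, []), (116, [6]), (116, [4]), (116, [0]), (96, []), (116, [1]), (104, []), (117, [5]), (117, [6]), (117, [4]),
  (117, [0]), (98, []), (117, [2]), (117, [1]), (118, [7]), (118, [2]), (101, []), (125, []), (99, []), (118, [5]),
  (118, [4]), (118, [0]), (119, [7]), (119, [2]), (102, []), (119, [3]), (119, [5]), (119, [4]), (119, [0]),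
  (100, []), (120, [6]), (106, []), (120, [4]), (120, [5]), (126, []), (105, []), (120, [2]), (120, [1]),
  (121, [6]), (126, []), (121, [4]), (121, [0]), (106, []), (121, [3]), (121, [2]), (121, [1]), (122, [3]),
  (122, [6]), (122, [5]), (122, [4]), (107, []), (122, [7]), (122, [1]), (127, []), (123, [3]), (123, [6]),
  (123, [5]), (110, []), (127, []), (108, []), (128, []), (107, []), (124, [3]), (116, []), (113, []), (128, []),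
  (124, [4]), (124, [0]), (110, []), (124, [1]), (125, [7]), (129, []), (125, [1]), (118, []), (125, [3]),
  (125, [5]), (125, [4]), (125, [0]), (126, [6]), (121, []), (126, [4]), (130, []), (120, []), (126, [3]),
  (126, [2]), (126, [1]), (127, [3]), (127, [6]), (127, [5]), (127, [4]), (123, []), (127, [7]), (131, []),
  (122, []), (128, [3]), (128, [6]), (128, [5]), (124, []), (131, []), (128, [0]), (123, []), (128, [1]),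
  (129, [7]), (125, []), (129, [1]), (129, [2]), (129, [3]), (129, [5]), (129, [4]), (129, [0]), (130, [6]),
  (130, [0]), (132, []), (126, []), (130, [5]), (130, [3]), (130, [2]), (130, [1]), (131, [3]), (131, [6]),
  (131, [5]), (131, [4]), (128, []), (133, []), (127, []), (131, [1]), (134, []), (132, [0]), (130, []), (132, [4]),
  (132, [5]), (132, [3]), (132, [2]), (132, [1]), (133, [3]), (133, [6]), (133, [5]), (133, [4]), (133, [0]),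
  (131, []), (133, [7]), (133, [1]), (132, []), (134, [0]), (134, [6]), (134, [4]), (134, [5]), (134, [3]),
  (134, [2]), (134, [1])]

/-- A step of the chain. -/
def levS0 : LevData := ⟨[0, 1, 2, 3, 4, 5, 6, 7], [0, 1, 2, 3, 4, 5, 6], [
  [], [2, 0, 3, 1, 2, 3, 4, 3, 1, 2, 0, 3, 2], [2, 0, 3, 1, 2, 3, 5, 4, 3, 1, 2, 0, 3, 2],
  [2, 0, 4, 3, 1, 2, 3, 5, 4, 3, 1, 2, 0, 3, 2], [3, 2, 0, 4, 3, 1, 2, 3, 5, 4, 3, 1, 2, 0, 3, 2],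
  [1, 3, 2, 0, 4, 3, 1, 2, 3, 5, 4, 3, 1, 2, 0, 3, 2],
  [2, 3, 1, 4, 3, 2, 5, 4, 3, 1, 6, 5, 4, 3, 1, 2, 0, 3, 2, 4, 3, 1, 5, 4, 3, 2],
  [2, 3, 1, 4, 3, 2, 5, 4, 3, 1, 7, 6, 5, 4, 3, 1, 2, 0, 3, 2, 4, 3, 1, 5, 4, 3, 2],
  [0, 2, 3, 1, 4, 3, 2, 5, 4, 3, 1, 6, 5, 4, 3, 1, 2, 0, 3, 2, 4, 3, 1, 5, 4, 3, 2],
  [0, 2, 3, 1, 4, 3, 2, 5, 4, 3, 1, 7, 6, 5, 4, 3, 1, 2, 0, 3, 2, 4, 3, 1, 5, 4, 3, 2],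
  [2, 0, 3, 2, 4, 3, 5, 4, 6, 5, 4, 3, 1, 2, 0, 3, 2, 4, 3, 1, 7, 6, 5, 4, 3, 1, 2, 0, 3, 2, 4, 3, 1, 5, 4, 3, 2],
  [1, 2, 0, 3, 2, 4, 3, 5, 4, 6, 5, 4, 3, 1, 2, 0, 3, 2, 4, 3, 1, 7, 6, 5, 4, 3, 1, 2, 0, 3, 2, 4, 3, 1, 5, 4, 3, 2],
  [3, 1, 2, 0, 3, 2, 4, 3, 5, 4, 6, 5, 4, 3, 1, 2, 0, 3, 2, 4, 3, 1, 7, 6, 5, 4, 3, 1, 2, 0, 3, 2, 4, 3, 1, 5, 4, 3, 2],
  [4, 3, 1, 2, 0, 3, 2, 4, 3, 5, 4, 6, 5, 4, 3, 1, 2, 0, 3, 2, 4, 3, 1, 7, 6, 5, 4, 3, 1, 2, 0, 3, 2, 4, 3, 1, 5, 4, 3, 2],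
  [5, 4, 3, 1, 2, 0, 3, 2, 4, 3, 5, 4, 6, 5, 4, 3, 1, 2, 0, 3, 2, 4, 3, 1, 7, 6, 5, 4, 3, 1, 2, 0, 3, 2, 4, 3, 1, 5, 4, 3, 2],
  [2, 0, 3, 1, 2, 3, 4, 3, 1, 2, 0, 3, 2, 5, 4, 3, 1, 2, 0, 3, 2, 4, 3, 5, 4, 6, 5, 4, 3, 1, 2, 0, 3, 2, 4, 3, 1, 7, 6, 5, 4, 3, 1, 2, 0, 3, 2, 4, 3, 1, 5, 4, 3, 2]], [
  (0, 0), (7, 0), (1, 1), (2, 2), (3, 3), (5, 4), (4, 5), (0, 6), (6, 6), (6, 7), (4, 9), (5, 10), (3, 11), (2, 12),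
  (1, 13), (7, 14)], [
  [(0, 0), (0, 1), (0, 2), (0, 3), (0, 4), (0, 5), (0, 6), (1, 8)],
  [(1, 0), (2, 8), (1, 2), (1, 3), (1, 4), (1, 5), (1, 6), (0, 8)],
  [(2, 0), (1, 8), (3, 8), (2, 3), (2, 4), (2, 5), (2, 6), (2, 1)],
  [(3, 0), (3, 2), (2, 8), (4, 8), (3, 4), (3, 5), (3, 6), (3, 1)],
  [(4, 0), (4, 2), (4, 3), (3, 8), (4, 4), (5, 8), (4, 6), (4, 1)],
  [(5, 0), (5, 2), (5, 3), (5, 5), (6, 8), (4, 8), (5, 6), (5, 1)],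
  [(7, 8), (6, 2), (6, 3), (6, 5), (5, 8), (6, 4), (8, 8), (6, 1)],
  [(6, 8), (7, 2), (7, 3), (7, 5), (7, 0), (7, 4), (9, 8), (7, 1)],
  [(9, 8), (8, 2), (8, 3), (8, 5), (8, 6), (8, 4), (6, 8), (8, 1)],
  [(8, 8), (9, 2), (9, 3), (9, 5), (10, 8), (9, 4), (7, 8), (9, 1)],
  [(10, 6), (10, 2), (10, 3), (10, 5), (9, 8), (11, 8), (10, 0), (10, 1)],
  [(11, 6), (11, 2), (11, 3), (12, 8), (11, 4), (10, 8), (11, 0), (11, 1)],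
  [(12, 6), (12, 2), (13, 8), (11, 8), (12, 4), (12, 5), (12, 0), (12, 1)],
  [(13, 6), (14, 8), (12, 8), (13, 3), (13, 4), (13, 5), (13, 0), (13, 1)],
  [(14, 6), (13, 8), (14, 2), (14, 3), (14, 4), (14, 5), (14, 0), (15, 8)],
  [(15, 6), (15, 1), (15, 2), (15, 3), (15, 4), (15, 5), (15, 0), (14, 8)]], [
  184, 185, 188, 194, 204, 219, 220, 226, 227, 232, 234, 235, 236, 237], [
  120, 123, 126, 127, 130, 131, 132, 139, 140, 141, 142, 143, 144, 150, 151, 154, 155, 157, 158, 159, 160, 162, 167,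
  168, 172, 173, 176, 177, 179, 180, 181, 182, 193, 199, 202, 203, 209, 212, 213, 216, 217, 218], [
  2, 3, 4, 5, 7, 12, 13, 19, 20, 35, 45, 51, 54, 55], [
  0, 1, 2, 3, 4, 5, 6, 7, 7, 8, 9, 10, 11, 12, 13, 14]⟩

/-- A step of the chain. -/
def levS1 : LevData := ⟨[0, 1, 2, 3, 4, 5, 6], [0, 2, 3, 4, 5, 6], [
  [], [5], [4, 5], [3, 4, 5], [1, 3, 4, 5], [2, 3, 4, 5, 6, 5, 4, 3, 1, 2, 3, 4, 5],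
  [2, 3, 4, 5, 7, 6, 5, 4, 3, 1, 2, 3, 4, 5], [0, 2, 3, 4, 5, 6, 5, 4, 3, 1, 2, 3, 4, 5],
  [0, 2, 3, 4, 5, 7, 6, 5, 4, 3, 1, 2, 3, 4, 5],
  [2, 0, 3, 2, 4, 3, 5, 4, 6, 5, 4, 3, 2, 0, 7, 6, 5, 4, 3, 1, 2, 3, 4, 5],
  [1, 2, 0, 3, 2, 4, 3, 5, 4, 6, 5, 4, 3, 2, 0, 7, 6, 5, 4, 3, 1, 2, 3, 4, 5],
  [3, 1, 2, 0, 3, 2, 4, 3, 5, 4, 6, 5, 4, 3, 2, 0, 7, 6, 5, 4, 3, 1, 2, 3, 4, 5],
  [4, 3, 1, 2, 0, 3, 2, 4, 3, 5, 4, 6, 5, 4, 3, 2, 0, 7, 6, 5, 4, 3, 1, 2, 3, 4, 5],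
  [5, 4, 3, 1, 2, 0, 3, 2, 4, 3, 5, 4, 6, 5, 4, 3, 2, 0, 7, 6, 5, 4, 3, 1, 2, 3, 4, 5]], [
  (0, 0), (1, 0), (2, 1), (3, 2), (5, 3), (4, 4), (0, 5), (6, 5), (6, 6), (4, 8), (5, 9), (3, 10), (2, 11), (1, 12)], [
  [(0, 0), (1, 8), (0, 2), (0, 3), (0, 4), (0, 5), (0, 6)],
  [(1, 0), (0, 8), (2, 8), (1, 3), (1, 4), (1, 5), (1, 6)],
  [(2, 0), (2, 2), (1, 8), (3, 8), (2, 4), (2, 5), (2, 6)],
  [(3, 0), (3, 2), (3, 3), (2, 8), (3, 4), (4, 8), (3, 6)],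
  [(4, 0), (4, 2), (4, 3), (4, 5), (5, 8), (3, 8), (4, 6)],
  [(6, 8), (5, 2), (5, 3), (5, 5), (4, 8), (5, 4), (7, 8)],
  [(5, 8), (6, 2), (6, 3), (6, 5), (6, 0), (6, 4), (8, 8)],
  [(8, 8), (7, 2), (7, 3), (7, 5), (7, 6), (7, 4), (5, 8)],
  [(7, 8), (8, 2), (8, 3), (8, 5), (9, 8), (8, 4), (6, 8)],
  [(9, 6), (9, 2), (9, 3), (9, 5), (8, 8), (10, 8), (9, 0)],
  [(10, 6), (10, 2), (10, 3), (11, 8), (10, 4), (9, 8), (10, 0)],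
  [(11, 6), (11, 2), (12, 8), (10, 8), (11, 4), (11, 5), (11, 0)],
  [(12, 6), (13, 8), (11, 8), (12, 3), (12, 4), (12, 5), (12, 0)],
  [(13, 6), (12, 8), (13, 2), (13, 3), (13, 4), (13, 5), (13, 0)]], [
  123, 127, 132, 144, 159, 160, 181, 182, 184, 185, 188, 194, 203, 204, 213, 217, 218, 219, 220, 226, 227, 232, 234,
  235, 236, 237], [
  120, 126, 130, 131, 139, 140, 141, 142, 143, 150, 151, 154, 155, 157, 158, 162, 167, 168, 172, 173, 176, 177, 179,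
  180, 193, 199, 202, 209, 212, 216], [
  2], [
  0, 1, 2, 3, 4, 5, 6, 6, 7, 8, 9, 10, 11, 12]⟩

/-- A step of the chain. -/
def levS2 : LevData := ⟨[0, 2, 3, 4, 5, 6], [0, 3, 4, 5, 6], [
  [], [4], [3, 4], [1, 3, 4], [2, 3, 4, 5, 6, 5, 4, 3, 1, 2, 3, 4], [2, 3, 4, 5, 7, 6, 5, 4, 3, 1, 2, 3, 4],
  [0, 2, 3, 4, 5, 6, 5, 4, 3, 1, 2, 3, 4], [0, 2, 3, 4, 5, 7, 6, 5, 4, 3, 1, 2, 3, 4],
  [2, 0, 3, 2, 4, 3, 5, 4, 6, 5, 4, 3, 2, 0, 7, 6, 5, 4, 3, 1, 2, 3, 4],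
  [1, 2, 0, 3, 2, 4, 3, 5, 4, 6, 5, 4, 3, 2, 0, 7, 6, 5, 4, 3, 1, 2, 3, 4],
  [3, 1, 2, 0, 3, 2, 4, 3, 5, 4, 6, 5, 4, 3, 2, 0, 7, 6, 5, 4, 3, 1, 2, 3, 4],
  [4, 3, 1, 2, 0, 3, 2, 4, 3, 5, 4, 6, 5, 4, 3, 2, 0, 7, 6, 5, 4, 3, 1, 2, 3, 4]], [
  (0, 0), (2, 0), (3, 1), (5, 2), (4, 3), (0, 4), (6, 4), (6, 5), (4, 7), (5, 8), (3, 9), (2, 10)], [
  [(0, 0), (1, 8), (0, 3), (0, 4), (0, 5), (0, 6)], [(1, 0), (0, 8), (2, 8), (1, 4), (1, 5), (1, 6)],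
  [(2, 0), (2, 3), (1, 8), (2, 4), (3, 8), (2, 6)], [(3, 0), (3, 3), (3, 5), (4, 8), (2, 8), (3, 6)],
  [(5, 8), (4, 3), (4, 5), (3, 8), (4, 4), (6, 8)], [(4, 8), (5, 3), (5, 5), (5, 0), (5, 4), (7, 8)],
  [(7, 8), (6, 3), (6, 5), (6, 6), (6, 4), (4, 8)], [(6, 8), (7, 3), (7, 5), (8, 8), (7, 4), (5, 8)],
  [(8, 6), (8, 3), (8, 5), (7, 8), (9, 8), (8, 0)], [(9, 6), (9, 3), (10, 8), (9, 4), (8, 8), (9, 0)],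
  [(10, 6), (11, 8), (9, 8), (10, 4), (10, 5), (10, 0)], [(11, 6), (10, 8), (11, 3), (11, 4), (11, 5), (11, 0)]], [
  123, 126, 127, 131, 132, 143, 144, 157, 158, 159, 160, 179, 180, 181, 182, 184, 185, 188, 194, 202, 203, 204, 212,
  213, 216, 217, 218, 219, 220, 226, 227, 232, 234, 235, 236, 237], [
  120, 130, 139, 140, 141, 142, 150, 151, 154, 155, 162, 167, 168, 172, 173, 176, 177, 193, 199, 209], [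
  3], [
  0, 1, 2, 3, 4, 5, 5, 6, 7, 8, 9, 10]⟩

/-- A step of the chain. -/
def levS3 : LevData := ⟨[0, 3, 4, 5, 6], [0, 4, 5, 6], [
  [], [3], [1, 3], [2, 3, 4, 5, 6, 5, 4, 3, 1, 2, 3], [2, 3, 4, 5, 7, 6, 5, 4, 3, 1, 2, 3],
  [0, 2, 3, 4, 5, 6, 5, 4, 3, 1, 2, 3], [0, 2, 3, 4, 5, 7, 6, 5, 4, 3, 1, 2, 3],
  [2, 0, 3, 2, 4, 3, 5, 4, 6, 5, 4, 3, 2, 0, 7, 6, 5, 4, 3, 1, 2, 3],
  [1, 2, 0, 3, 2, 4, 3, 5, 4, 6, 5, 4, 3, 2, 0, 7, 6, 5, 4, 3, 1, 2, 3],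
  [3, 1, 2, 0, 3, 2, 4, 3, 5, 4, 6, 5, 4, 3, 2, 0, 7, 6, 5, 4, 3, 1, 2, 3]], [
  (0, 0), (3, 0), (5, 1), (4, 2), (0, 3), (6, 3), (6, 4), (4, 6), (5, 7), (3, 8)], [
  [(0, 0), (1, 8), (0, 4), (0, 5), (0, 6)], [(1, 0), (0, 8), (1, 4), (2, 8), (1, 6)],
  [(2, 0), (2, 5), (3, 8), (1, 8), (2, 6)], [(4, 8), (3, 5), (2, 8), (3, 4), (5, 8)],
  [(3, 8), (4, 5), (4, 0), (4, 4), (6, 8)], [(6, 8), (5, 5), (5, 6), (5, 4), (3, 8)],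
  [(5, 8), (6, 5), (7, 8), (6, 4), (4, 8)], [(7, 6), (7, 5), (6, 8), (8, 8), (7, 0)],
  [(8, 6), (9, 8), (8, 4), (7, 8), (8, 0)], [(9, 6), (8, 8), (9, 4), (9, 5), (9, 0)]], [
  123, 126, 127, 130, 131, 132, 142, 143, 144, 154, 155, 157, 158, 159, 160, 176, 177, 179, 180, 181, 182, 184, 185,
  188, 194, 199, 202, 203, 204, 209, 212, 213, 216, 217, 218, 219, 220, 226, 227, 232, 234, 235, 236, 237], [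
  120, 139, 140, 141, 150, 151, 162, 167, 168, 172, 173, 193], [
  4], [
  0, 1, 2, 3, 4, 4, 5, 6, 7, 8]⟩

/-- A step of the chain. -/
def levS4 : LevData := ⟨[0, 4, 5, 6], [4, 5, 6], [
  [], [7], [2, 3, 4, 5, 6, 5, 4, 3, 2, 7], [1, 2, 3, 4, 5, 6, 5, 4, 3, 2, 7], [0, 2, 3, 4, 5, 6, 5, 4, 3, 2, 7],
  [0, 1, 2, 3, 4, 5, 6, 5, 4, 3, 2, 7], [2, 0, 6, 5, 4, 3, 1, 2, 0, 3, 2, 4, 5, 6, 7],
  [2, 0, 7, 6, 5, 4, 3, 1, 2, 0, 3, 2, 4, 5, 6, 7]], [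
  (0, 0), (0, 0), (4, 1), (5, 2), (6, 2), (6, 3), (4, 5), (0, 6)], [
  [(1, 8), (0, 4), (0, 5), (0, 6)], [(0, 8), (2, 8), (1, 5), (1, 6)], [(2, 4), (1, 8), (3, 8), (4, 8)],
  [(3, 4), (3, 5), (2, 8), (5, 8)], [(4, 4), (4, 6), (5, 8), (2, 8)], [(5, 4), (6, 8), (4, 8), (3, 8)],
  [(7, 8), (5, 8), (6, 6), (6, 5)], [(6, 8), (7, 4), (7, 6), (7, 5)]], [
  120, 123, 126, 127, 130, 131, 132, 140, 142, 143, 144, 151, 154, 155, 157, 158, 159, 160, 168, 173, 176, 177, 179,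
  180, 181, 182, 184, 185, 188, 193, 194, 199, 202, 203, 204, 209, 212, 213, 216, 217, 218, 219, 220, 226, 227, 232,
  234, 235, 236, 237], [
  139, 141, 150, 162, 167, 172], [
  0], [
  0, 1, 2, 3, 3, 4, 5, 6]⟩

/-- A step of the chain. -/
def levS5 : LevData := ⟨[4, 5, 6], [4, 5], [
  [], [0], [2, 3, 4, 5, 6, 5, 4, 3, 2, 0], [1, 2, 3, 4, 5, 6, 5, 4, 3, 2, 0]], [
  (4, 0), (6, 0), (4, 1), (5, 2)], [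
  [(0, 4), (0, 5), (1, 8)], [(2, 8), (1, 5), (0, 8)], [(1, 8), (3, 8), (2, 4)], [(3, 5), (2, 8), (3, 4)]], [
  120, 123, 126, 127, 130, 131, 132, 140, 142, 143, 144, 151, 154, 155, 157, 158, 159, 160, 162, 167, 168, 172, 173,
  176, 177, 179, 180, 181, 182, 184, 185, 188, 193, 194, 199, 202, 203, 204, 209, 212, 213, 216, 217, 218, 219, 220,
  226, 227, 232, 234, 235, 236, 237], [
  139, 141, 150], [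
  9], [
  0, 1, 2, 3]⟩

/-- A step of the chain. -/
def levS6 : LevData := ⟨[4, 5], [5], [
  [], [2, 3, 4, 5, 6, 5, 4, 3, 2], [1, 2, 3, 4, 5, 6, 5, 4, 3, 2]], [
  (4, 0), (4, 0), (5, 1)], [
  [(1, 8), (0, 5)], [(0, 8), (2, 8)], [(2, 5), (1, 8)]], [
  120, 123, 126, 127, 130, 131, 132, 139, 140, 142, 143, 144, 150, 151, 154, 155, 157, 158, 159, 160, 162, 167, 168,
  172, 173, 176, 177, 179, 180, 181, 182, 184, 185, 188, 193, 194, 199, 202, 203, 204, 209, 212, 213, 216, 217, 218,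
  219, 220, 226, 227, 232, 234, 235, 236, 237], [
  141], [
  1], [
  0, 1, 2]⟩

/-- A step of the chain. -/
def levS7 : LevData := ⟨[5], [], [
  [], [1]], [
  (5, 0), (5, 0)], [
  [(1, 8)], [(0, 8)]], [
  120, 123, 126, 127, 130, 131, 132, 139, 140, 141, 142, 143, 144, 150, 151, 154, 155, 157, 158, 159, 160, 162, 167,
  168, 172, 173, 176, 177, 179, 180, 181, 182, 184, 185, 188, 193, 194, 199, 202, 203, 204, 209, 212, 213, 216, 217,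
  218, 219, 220, 226, 227, 232, 234, 235, 236, 237], [
], [
  5], [
  0, 1]⟩

/-- The chain. -/
def chainS : List LevData := [levS0, levS1, levS2, levS3, levS4, levS5, levS6, levS7]

/-- Reflections generating the stabiliser. -/
def baseT : List (List ℕ) := [
  [6], [5], [4], [3], [2], [1], [0],
  [7, 6, 5, 4, 3, 1, 2, 0, 3, 2, 4, 3, 1, 5, 4, 3, 2, 0, 6, 5, 4, 3, 1, 2, 3, 4, 5, 6, 7, 6, 5, 4, 3, 1, 2, 0, 3, 2, 4, 3, 1, 5, 4, 3, 2, 0, 6, 5, 4, 3, 1, 2, 3, 4, 5, 6, 7]]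

/-- The roots of the class. -/
def rootsT : List ℕ := [
  239]

/-- The positive roots of even pairing. -/
def evenT : List ℕ := [
  121, 123, 124, 126, 127, 128, 130, 131, 132, 133, 135, 136, 137, 138, 139, 141, 142, 143, 144, 145, 147, 148, 149,
  150, 152, 153, 154, 156, 157, 159, 162, 163, 164, 165, 166, 167, 169, 170, 171, 172, 174, 175, 176, 178, 179, 181,
  184, 185, 186, 188, 189, 191, 194, 195, 197, 200, 204, 205, 207, 210, 214, 219, 226, 239]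

/-- Coset representatives of the stabiliser. -/
def transT : List (List ℕ) := [
  [], [7], [6, 7], [5, 6, 7], [4, 5, 6, 7], [3, 4, 5, 6, 7], [1, 3, 4, 5, 6, 7], [2, 3, 4, 5, 6, 7],
  [2, 1, 3, 4, 5, 6, 7], [0, 2, 3, 4, 5, 6, 7], [0, 2, 1, 3, 4, 5, 6, 7], [3, 2, 1, 3, 4, 5, 6, 7],
  [3, 0, 2, 1, 3, 4, 5, 6, 7], [4, 3, 2, 1, 3, 4, 5, 6, 7], [2, 3, 0, 2, 1, 3, 4, 5, 6, 7],
  [4, 3, 0, 2, 1, 3, 4, 5, 6, 7], [5, 4, 3, 2, 1, 3, 4, 5, 6, 7], [4, 2, 3, 0, 2, 1, 3, 4, 5, 6, 7],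
  [5, 4, 3, 0, 2, 1, 3, 4, 5, 6, 7], [6, 5, 4, 3, 2, 1, 3, 4, 5, 6, 7], [3, 4, 2, 3, 0, 2, 1, 3, 4, 5, 6, 7],
  [5, 4, 2, 3, 0, 2, 1, 3, 4, 5, 6, 7], [6, 5, 4, 3, 0, 2, 1, 3, 4, 5, 6, 7], [7, 6, 5, 4, 3, 2, 1, 3, 4, 5, 6, 7],
  [1, 3, 4, 2, 3, 0, 2, 1, 3, 4, 5, 6, 7], [5, 3, 4, 2, 3, 0, 2, 1, 3, 4, 5, 6, 7],
  [6, 5, 4, 2, 3, 0, 2, 1, 3, 4, 5, 6, 7], [7, 6, 5, 4, 3, 0, 2, 1, 3, 4, 5, 6, 7],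
  [5, 1, 3, 4, 2, 3, 0, 2, 1, 3, 4, 5, 6, 7], [4, 5, 3, 4, 2, 3, 0, 2, 1, 3, 4, 5, 6, 7],
  [6, 5, 3, 4, 2, 3, 0, 2, 1, 3, 4, 5, 6, 7], [7, 6, 5, 4, 2, 3, 0, 2, 1, 3, 4, 5, 6, 7],
  [4, 5, 1, 3, 4, 2, 3, 0, 2, 1, 3, 4, 5, 6, 7], [6, 5, 1, 3, 4, 2, 3, 0, 2, 1, 3, 4, 5, 6, 7],
  [6, 4, 5, 3, 4, 2, 3, 0, 2, 1, 3, 4, 5, 6, 7], [7, 6, 5, 3, 4, 2, 3, 0, 2, 1, 3, 4, 5, 6, 7],
  [3, 4, 5, 1, 3, 4, 2, 3, 0, 2, 1, 3, 4, 5, 6, 7], [6, 4, 5, 1, 3, 4, 2, 3, 0, 2, 1, 3, 4, 5, 6, 7],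
  [7, 6, 5, 1, 3, 4, 2, 3, 0, 2, 1, 3, 4, 5, 6, 7], [5, 6, 4, 5, 3, 4, 2, 3, 0, 2, 1, 3, 4, 5, 6, 7],
  [7, 6, 4, 5, 3, 4, 2, 3, 0, 2, 1, 3, 4, 5, 6, 7], [2, 3, 4, 5, 1, 3, 4, 2, 3, 0, 2, 1, 3, 4, 5, 6, 7],
  [6, 3, 4, 5, 1, 3, 4, 2, 3, 0, 2, 1, 3, 4, 5, 6, 7], [5, 6, 4, 5, 1, 3, 4, 2, 3, 0, 2, 1, 3, 4, 5, 6, 7],
  [7, 6, 4, 5, 1, 3, 4, 2, 3, 0, 2, 1, 3, 4, 5, 6, 7], [7, 5, 6, 4, 5, 3, 4, 2, 3, 0, 2, 1, 3, 4, 5, 6, 7],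
  [0, 2, 3, 4, 5, 1, 3, 4, 2, 3, 0, 2, 1, 3, 4, 5, 6, 7], [6, 2, 3, 4, 5, 1, 3, 4, 2, 3, 0, 2, 1, 3, 4, 5, 6, 7],
  [5, 6, 3, 4, 5, 1, 3, 4, 2, 3, 0, 2, 1, 3, 4, 5, 6, 7], [7, 6, 3, 4, 5, 1, 3, 4, 2, 3, 0, 2, 1, 3, 4, 5, 6, 7],
  [7, 5, 6, 4, 5, 1, 3, 4, 2, 3, 0, 2, 1, 3, 4, 5, 6, 7], [6, 7, 5, 6, 4, 5, 3, 4, 2, 3, 0, 2, 1, 3, 4, 5, 6, 7],
  [6, 0, 2, 3, 4, 5, 1, 3, 4, 2, 3, 0, 2, 1, 3, 4, 5, 6, 7],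
  [5, 6, 2, 3, 4, 5, 1, 3, 4, 2, 3, 0, 2, 1, 3, 4, 5, 6, 7],
  [7, 6, 2, 3, 4, 5, 1, 3, 4, 2, 3, 0, 2, 1, 3, 4, 5, 6, 7],
  [4, 5, 6, 3, 4, 5, 1, 3, 4, 2, 3, 0, 2, 1, 3, 4, 5, 6, 7],
  [7, 5, 6, 3, 4, 5, 1, 3, 4, 2, 3, 0, 2, 1, 3, 4, 5, 6, 7],
  [6, 7, 5, 6, 4, 5, 1, 3, 4, 2, 3, 0, 2, 1, 3, 4, 5, 6, 7],
  [5, 6, 0, 2, 3, 4, 5, 1, 3, 4, 2, 3, 0, 2, 1, 3, 4, 5, 6, 7],
  [7, 6, 0, 2, 3, 4, 5, 1, 3, 4, 2, 3, 0, 2, 1, 3, 4, 5, 6, 7],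
  [4, 5, 6, 2, 3, 4, 5, 1, 3, 4, 2, 3, 0, 2, 1, 3, 4, 5, 6, 7],
  [7, 5, 6, 2, 3, 4, 5, 1, 3, 4, 2, 3, 0, 2, 1, 3, 4, 5, 6, 7],
  [7, 4, 5, 6, 3, 4, 5, 1, 3, 4, 2, 3, 0, 2, 1, 3, 4, 5, 6, 7],
  [6, 7, 5, 6, 3, 4, 5, 1, 3, 4, 2, 3, 0, 2, 1, 3, 4, 5, 6, 7],
  [4, 5, 6, 0, 2, 3, 4, 5, 1, 3, 4, 2, 3, 0, 2, 1, 3, 4, 5, 6, 7],
  [7, 5, 6, 0, 2, 3, 4, 5, 1, 3, 4, 2, 3, 0, 2, 1, 3, 4, 5, 6, 7],
  [3, 4, 5, 6, 2, 3, 4, 5, 1, 3, 4, 2, 3, 0, 2, 1, 3, 4, 5, 6, 7],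
  [7, 4, 5, 6, 2, 3, 4, 5, 1, 3, 4, 2, 3, 0, 2, 1, 3, 4, 5, 6, 7],
  [6, 7, 5, 6, 2, 3, 4, 5, 1, 3, 4, 2, 3, 0, 2, 1, 3, 4, 5, 6, 7],
  [6, 7, 4, 5, 6, 3, 4, 5, 1, 3, 4, 2, 3, 0, 2, 1, 3, 4, 5, 6, 7],
  [3, 4, 5, 6, 0, 2, 3, 4, 5, 1, 3, 4, 2, 3, 0, 2, 1, 3, 4, 5, 6, 7],
  [7, 4, 5, 6, 0, 2, 3, 4, 5, 1, 3, 4, 2, 3, 0, 2, 1, 3, 4, 5, 6, 7],
  [6, 7, 5, 6, 0, 2, 3, 4, 5, 1, 3, 4, 2, 3, 0, 2, 1, 3, 4, 5, 6, 7],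
  [1, 3, 4, 5, 6, 2, 3, 4, 5, 1, 3, 4, 2, 3, 0, 2, 1, 3, 4, 5, 6, 7],
  [7, 3, 4, 5, 6, 2, 3, 4, 5, 1, 3, 4, 2, 3, 0, 2, 1, 3, 4, 5, 6, 7],
  [6, 7, 4, 5, 6, 2, 3, 4, 5, 1, 3, 4, 2, 3, 0, 2, 1, 3, 4, 5, 6, 7],
  [5, 6, 7, 4, 5, 6, 3, 4, 5, 1, 3, 4, 2, 3, 0, 2, 1, 3, 4, 5, 6, 7],
  [1, 3, 4, 5, 6, 0, 2, 3, 4, 5, 1, 3, 4, 2, 3, 0, 2, 1, 3, 4, 5, 6, 7],
  [2, 3, 4, 5, 6, 0, 2, 3, 4, 5, 1, 3, 4, 2, 3, 0, 2, 1, 3, 4, 5, 6, 7],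
  [7, 3, 4, 5, 6, 0, 2, 3, 4, 5, 1, 3, 4, 2, 3, 0, 2, 1, 3, 4, 5, 6, 7],
  [6, 7, 4, 5, 6, 0, 2, 3, 4, 5, 1, 3, 4, 2, 3, 0, 2, 1, 3, 4, 5, 6, 7],
  [7, 1, 3, 4, 5, 6, 2, 3, 4, 5, 1, 3, 4, 2, 3, 0, 2, 1, 3, 4, 5, 6, 7],
  [6, 7, 3, 4, 5, 6, 2, 3, 4, 5, 1, 3, 4, 2, 3, 0, 2, 1, 3, 4, 5, 6, 7],
  [5, 6, 7, 4, 5, 6, 2, 3, 4, 5, 1, 3, 4, 2, 3, 0, 2, 1, 3, 4, 5, 6, 7],
  [2, 1, 3, 4, 5, 6, 0, 2, 3, 4, 5, 1, 3, 4, 2, 3, 0, 2, 1, 3, 4, 5, 6, 7],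
  [7, 1, 3, 4, 5, 6, 0, 2, 3, 4, 5, 1, 3, 4, 2, 3, 0, 2, 1, 3, 4, 5, 6, 7],
  [7, 2, 3, 4, 5, 6, 0, 2, 3, 4, 5, 1, 3, 4, 2, 3, 0, 2, 1, 3, 4, 5, 6, 7],
  [6, 7, 3, 4, 5, 6, 0, 2, 3, 4, 5, 1, 3, 4, 2, 3, 0, 2, 1, 3, 4, 5, 6, 7],
  [5, 6, 7, 4, 5, 6, 0, 2, 3, 4, 5, 1, 3, 4, 2, 3, 0, 2, 1, 3, 4, 5, 6, 7],
  [6, 7, 1, 3, 4, 5, 6, 2, 3, 4, 5, 1, 3, 4, 2, 3, 0, 2, 1, 3, 4, 5, 6, 7],
  [5, 6, 7, 3, 4, 5, 6, 2, 3, 4, 5, 1, 3, 4, 2, 3, 0, 2, 1, 3, 4, 5, 6, 7],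
  [3, 2, 1, 3, 4, 5, 6, 0, 2, 3, 4, 5, 1, 3, 4, 2, 3, 0, 2, 1, 3, 4, 5, 6, 7],
  [7, 2, 1, 3, 4, 5, 6, 0, 2, 3, 4, 5, 1, 3, 4, 2, 3, 0, 2, 1, 3, 4, 5, 6, 7],
  [6, 7, 1, 3, 4, 5, 6, 0, 2, 3, 4, 5, 1, 3, 4, 2, 3, 0, 2, 1, 3, 4, 5, 6, 7],
  [6, 7, 2, 3, 4, 5, 6, 0, 2, 3, 4, 5, 1, 3, 4, 2, 3, 0, 2, 1, 3, 4, 5, 6, 7],
  [5, 6, 7, 3, 4, 5, 6, 0, 2, 3, 4, 5, 1, 3, 4, 2, 3, 0, 2, 1, 3, 4, 5, 6, 7],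
  [5, 6, 7, 1, 3, 4, 5, 6, 2, 3, 4, 5, 1, 3, 4, 2, 3, 0, 2, 1, 3, 4, 5, 6, 7],
  [4, 5, 6, 7, 3, 4, 5, 6, 2, 3, 4, 5, 1, 3, 4, 2, 3, 0, 2, 1, 3, 4, 5, 6, 7],
  [4, 3, 2, 1, 3, 4, 5, 6, 0, 2, 3, 4, 5, 1, 3, 4, 2, 3, 0, 2, 1, 3, 4, 5, 6, 7],
  [7, 3, 2, 1, 3, 4, 5, 6, 0, 2, 3, 4, 5, 1, 3, 4, 2, 3, 0, 2, 1, 3, 4, 5, 6, 7],
  [6, 7, 2, 1, 3, 4, 5, 6, 0, 2, 3, 4, 5, 1, 3, 4, 2, 3, 0, 2, 1, 3, 4, 5, 6, 7],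
  [5, 6, 7, 1, 3, 4, 5, 6, 0, 2, 3, 4, 5, 1, 3, 4, 2, 3, 0, 2, 1, 3, 4, 5, 6, 7],
  [5, 6, 7, 2, 3, 4, 5, 6, 0, 2, 3, 4, 5, 1, 3, 4, 2, 3, 0, 2, 1, 3, 4, 5, 6, 7],
  [4, 5, 6, 7, 3, 4, 5, 6, 0, 2, 3, 4, 5, 1, 3, 4, 2, 3, 0, 2, 1, 3, 4, 5, 6, 7],
  [4, 5, 6, 7, 1, 3, 4, 5, 6, 2, 3, 4, 5, 1, 3, 4, 2, 3, 0, 2, 1, 3, 4, 5, 6, 7],
  [5, 4, 3, 2, 1, 3, 4, 5, 6, 0, 2, 3, 4, 5, 1, 3, 4, 2, 3, 0, 2, 1, 3, 4, 5, 6, 7],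
  [7, 4, 3, 2, 1, 3, 4, 5, 6, 0, 2, 3, 4, 5, 1, 3, 4, 2, 3, 0, 2, 1, 3, 4, 5, 6, 7],
  [6, 7, 3, 2, 1, 3, 4, 5, 6, 0, 2, 3, 4, 5, 1, 3, 4, 2, 3, 0, 2, 1, 3, 4, 5, 6, 7],
  [5, 6, 7, 2, 1, 3, 4, 5, 6, 0, 2, 3, 4, 5, 1, 3, 4, 2, 3, 0, 2, 1, 3, 4, 5, 6, 7],
  [4, 5, 6, 7, 1, 3, 4, 5, 6, 0, 2, 3, 4, 5, 1, 3, 4, 2, 3, 0, 2, 1, 3, 4, 5, 6, 7],
  [4, 5, 6, 7, 2, 3, 4, 5, 6, 0, 2, 3, 4, 5, 1, 3, 4, 2, 3, 0, 2, 1, 3, 4, 5, 6, 7],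
  [3, 4, 5, 6, 7, 1, 3, 4, 5, 6, 2, 3, 4, 5, 1, 3, 4, 2, 3, 0, 2, 1, 3, 4, 5, 6, 7],
  [6, 5, 4, 3, 2, 1, 3, 4, 5, 6, 0, 2, 3, 4, 5, 1, 3, 4, 2, 3, 0, 2, 1, 3, 4, 5, 6, 7],
  [7, 5, 4, 3, 2, 1, 3, 4, 5, 6, 0, 2, 3, 4, 5, 1, 3, 4, 2, 3, 0, 2, 1, 3, 4, 5, 6, 7],
  [6, 7, 4, 3, 2, 1, 3, 4, 5, 6, 0, 2, 3, 4, 5, 1, 3, 4, 2, 3, 0, 2, 1, 3, 4, 5, 6, 7],
  [5, 6, 7, 3, 2, 1, 3, 4, 5, 6, 0, 2, 3, 4, 5, 1, 3, 4, 2, 3, 0, 2, 1, 3, 4, 5, 6, 7],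
  [4, 5, 6, 7, 2, 1, 3, 4, 5, 6, 0, 2, 3, 4, 5, 1, 3, 4, 2, 3, 0, 2, 1, 3, 4, 5, 6, 7],
  [3, 4, 5, 6, 7, 1, 3, 4, 5, 6, 0, 2, 3, 4, 5, 1, 3, 4, 2, 3, 0, 2, 1, 3, 4, 5, 6, 7],
  [3, 4, 5, 6, 7, 2, 3, 4, 5, 6, 0, 2, 3, 4, 5, 1, 3, 4, 2, 3, 0, 2, 1, 3, 4, 5, 6, 7],
  [2, 3, 4, 5, 6, 7, 1, 3, 4, 5, 6, 2, 3, 4, 5, 1, 3, 4, 2, 3, 0, 2, 1, 3, 4, 5, 6, 7]]

/-- The images of the cosets. -/
def schreierT : List (ℕ × List ℕ) := [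
  (0, [6]), (0, [5]), (0, [4]), (0, [3]), (0, [2]), (0, [1]), (0, [0]), (1, []), (1, [6]), (1, [5]), (1, [4]),
  (1, [3]), (1, [2]), (1, [1]), (2, []), (0, []), (2, [6]), (2, [5]), (2, [4]), (2, [3]), (2, [2]), (3, []),
  (1, []), (2, [0]), (3, [6]), (3, [5]), (3, [4]), (3, [3]), (4, []), (2, []), (3, [1]), (3, [0]), (4, [6]),
  (4, [5]), (4, [4]), (5, []), (3, []), (4, [2]), (4, [1]), (4, [0]), (5, [6]), (6, []), (7, []), (4, []), (5, [3]),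
  (5, [2]), (5, [1]), (5, [0]), (6, [6]), (5, []), (8, []), (6, [5]), (6, [3]), (6, [2]), (6, [1]), (6, [0]),
  (9, []), (8, []), (5, []), (7, [4]), (7, [3]), (7, [2]), (7, [1]), (7, [0]), (10, []), (7, []), (6, []), (11, []),
  (8, [3]), (8, [2]), (8, [1]), (8, [0]), (7, []), (10, []), (9, [6]), (9, [4]), (9, [3]), (9, [2]), (9, [1]),
  (9, [0]), (8, []), (9, []), (10, [6]), (12, []), (10, [3]), (10, [2]), (10, [1]), (10, [0]), (12, []), (11, [4]),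
  (11, [5]), (8, []), (13, []), (11, [2]), (11, [1]), (11, [0]), (11, []), (12, [4]), (14, []), (10, []), (15, []),
  (12, [2]), (12, [1]), (12, [0]), (15, []), (13, [4]), (13, [5]), (13, [3]), (11, []), (16, []), (13, [1]),
  (13, [0]), (14, [5]), (14, [4]), (12, []), (14, [6]), (17, []), (14, [2]), (14, [1]), (14, [0]), (13, []),
  (15, [4]), (17, []), (15, [3]), (12, []), (18, []), (15, [1]), (15, [0]), (18, []), (16, [4]), (16, [5]),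
  (16, [3]), (16, [2]), (13, []), (19, []), (16, [0]), (17, [5]), (17, [4]), (15, []), (20, []), (14, []), (21, []),
  (17, [1]), (17, [0]), (16, []), (18, [4]), (21, []), (18, [3]), (18, [2]), (15, []), (22, []), (18, [0]),
  (22, []), (19, [4]), (19, [5]), (19, [3]), (19, [2]), (19, [1]), (16, []), (23, []), (20, [5]), (24, []),
  (20, [3]), (17, []), (20, [6]), (25, []), (20, [1]), (20, [0]), (21, [5]), (21, [4]), (18, []), (25, []),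
  (21, [2]), (17, []), (26, []), (21, [0]), (19, []), (22, [4]), (26, []), (22, [3]), (22, [2]), (22, [1]),
  (18, []), (27, []), (27, []), (23, [4]), (23, [5]), (23, [3]), (23, [2]), (23, [1]), (23, [0]), (19, []),
  (24, [5]), (20, []), (24, [3]), (24, [4]), (24, [6]), (28, []), (24, [1]), (24, [0]), (25, [5]), (28, []),
  (25, [3]), (21, []), (29, []), (20, []), (30, []), (25, [0]), (26, [5]), (26, [4]), (22, []), (30, []), (26, [2]),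
  (26, [1]), (21, []), (31, []), (23, []), (27, [4]), (31, []), (27, [3]), (27, [2]), (27, [1]), (27, [0]),
  (22, []), (28, [5]), (25, []), (28, [3]), (28, [4]), (32, []), (24, []), (33, []), (28, [0]), (29, [5]), (32, []),
  (29, [3]), (29, [2]), (25, []), (29, [6]), (34, []), (29, [0]), (30, [5]), (33, []), (30, [3]), (26, []),
  (34, []), (30, [1]), (25, []), (35, []), (31, [5]), (31, [4]), (27, []), (35, []), (31, [2]), (31, [1]),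
  (31, [0]), (26, []), (32, [5]), (29, []), (32, [3]), (36, []), (28, []), (32, [6]), (37, []), (32, [0]),
  (33, [5]), (30, []), (33, [3]), (33, [4]), (37, []), (33, [1]), (28, []), (38, []), (34, [5]), (37, []),
  (34, [3]), (34, [2]), (30, []), (39, []), (29, []), (40, []), (35, [5]), (38, []), (35, [3]), (31, []), (40, []),
  (35, [1]), (35, [0]), (30, []), (36, [5]), (36, [2]), (41, []), (32, []), (36, [4]), (36, [6]), (42, []),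
  (36, [0]), (37, [5]), (34, []), (37, [3]), (42, []), (33, []), (43, []), (32, []), (44, []), (38, [5]), (35, []),
  (38, [3]), (38, [4]), (44, []), (38, [1]), (38, [0]), (33, []), (39, [5]), (43, []), (39, [3]), (39, [2]),
  (39, [1]), (34, []), (39, [6]), (45, []), (40, [5]), (44, []), (40, [3]), (40, [2]), (35, []), (45, []),
  (40, [0]), (34, []), (46, []), (41, [2]), (36, []), (41, [3]), (41, [4]), (41, [6]), (47, []), (41, [0]),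
  (42, [5]), (42, [2]), (47, []), (37, []), (42, [4]), (48, []), (36, []), (49, []), (43, [5]), (39, []), (43, [3]),
  (48, []), (43, [1]), (37, []), (43, [6]), (50, []), (44, [5]), (40, []), (44, [3]), (49, []), (38, []), (50, []),
  (44, [0]), (37, []), (45, [5]), (50, []), (45, [3]), (45, [2]), (45, [1]), (40, []), (51, []), (39, []), (41, []),
  (46, [2]), (46, [5]), (46, [3]), (46, [4]), (46, [6]), (52, []), (46, [0]), (52, []), (47, [2]), (42, []),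
  (47, [3]), (47, [4]), (53, []), (41, []), (54, []), (48, [5]), (48, [2]), (53, []), (43, []), (55, []), (42, []),
  (48, [6]), (56, []), (49, [5]), (49, [2]), (54, []), (44, []), (49, [4]), (56, []), (49, [0]), (42, []),
  (50, [5]), (45, []), (50, [3]), (56, []), (50, [1]), (44, []), (57, []), (43, []), (51, [5]), (57, []), (51, [3]),
  (51, [2]), (51, [1]), (51, [0]), (45, []), (51, [6]), (47, []), (52, [2]), (52, [5]), (52, [3]), (52, [4]),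
  (58, []), (46, []), (59, []), (58, []), (53, [2]), (48, []), (53, [3]), (60, []), (47, []), (53, [6]), (61, []),
  (59, []), (54, [2]), (49, []), (54, [3]), (54, [4]), (61, []), (54, [0]), (47, []), (55, [5]), (55, [2]),
  (60, []), (55, [1]), (48, []), (55, [4]), (55, [6]), (62, []), (56, [5]), (56, [2]), (61, []), (50, []), (62, []),
  (49, []), (63, []), (48, []), (57, [5]), (51, []), (57, [3]), (63, []), (57, [1]), (57, [0]), (50, []), (57, [6]),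
  (53, []), (58, [2]), (58, [5]), (58, [3]), (64, []), (52, []), (58, [6]), (65, []), (54, []), (59, [2]),
  (59, [5]), (59, [3]), (59, [4]), (65, []), (59, [0]), (52, []), (64, []), (60, [2]), (55, []), (66, []), (53, []),
  (60, [4]), (60, [6]), (67, []), (65, []), (61, [2]), (56, []), (61, [3]), (67, []), (54, []), (68, []), (53, []),
  (62, [5]), (62, [2]), (67, []), (62, [1]), (56, []), (62, [4]), (69, []), (55, []), (63, [5]), (63, [2]),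
  (68, []), (57, []), (69, []), (63, [0]), (56, []), (63, [6]), (60, []), (64, [2]), (64, [5]), (70, []), (58, []),
  (64, [4]), (64, [6]), (71, []), (61, []), (65, [2]), (65, [5]), (65, [3]), (71, []), (59, []), (72, []), (58, []),
  (70, []), (73, []), (66, [1]), (60, []), (66, [3]), (66, [4]), (66, [6]), (74, []), (71, []), (67, [2]), (62, []),
  (74, []), (61, []), (67, [4]), (75, []), (60, []), (72, []), (68, [2]), (63, []), (68, [3]), (75, []), (68, [0]),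
  (61, []), (68, [6]), (69, [5]), (69, [2]), (75, []), (69, [1]), (63, []), (76, []), (62, []), (69, [6]), (66, []),
  (77, []), (78, []), (64, []), (70, [3]), (70, [4]), (70, [6]), (79, []), (67, []), (71, [2]), (71, [5]), (79, []),
  (65, []), (71, [4]), (80, []), (64, []), (68, []), (72, [2]), (72, [5]), (72, [3]), (80, []), (72, [0]), (65, []),
  (72, [6]), (77, []), (66, []), (73, [1]), (73, [2]), (73, [3]), (73, [4]), (73, [6]), (81, []), (79, []),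
  (81, []), (74, [1]), (67, []), (74, [3]), (74, [4]), (82, []), (66, []), (80, []), (75, [2]), (69, []), (82, []),
  (68, []), (83, []), (67, []), (75, [6]), (76, [5]), (76, [2]), (83, []), (76, [1]), (76, [0]), (69, []),
  (76, [4]), (76, [6]), (73, []), (70, []), (84, []), (77, [2]), (77, [3]), (77, [4]), (77, [6]), (85, []),
  (78, [1]), (84, []), (70, []), (78, [5]), (78, [3]), (78, [4]), (78, [6]), (86, []), (74, []), (85, []), (86, []),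
  (71, []), (79, [3]), (79, [4]), (87, []), (70, []), (75, []), (80, [2]), (80, [5]), (87, []), (72, []), (88, []),
  (71, []), (80, [6]), (85, []), (74, []), (81, [1]), (81, [2]), (81, [3]), (81, [4]), (89, []), (73, []), (87, []),
  (89, []), (82, [1]), (75, []), (82, [3]), (90, []), (74, []), (82, [6]), (88, []), (83, [2]), (76, []), (90, []),
  (83, [0]), (75, []), (83, [4]), (83, [6]), (84, [1]), (78, []), (77, []), (91, []), (84, [3]), (84, [4]),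
  (84, [6]), (92, []), (81, []), (79, []), (92, []), (85, [2]), (85, [3]), (85, [4]), (93, []), (77, []), (86, [1]),
  (92, []), (79, []), (86, [5]), (86, [3]), (86, [4]), (94, []), (78, []), (82, []), (93, []), (94, []), (80, []),
  (87, [3]), (95, []), (79, []), (87, [6]), (83, []), (88, [2]), (88, [5]), (95, []), (88, [0]), (80, []),
  (88, [4]), (88, [6]), (93, []), (82, []), (89, [1]), (89, [2]), (89, [3]), (96, []), (81, []), (89, [6]),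
  (95, []), (96, []), (90, [1]), (83, []), (97, []), (82, []), (90, [4]), (90, [6]), (91, [1]), (91, [5]),
  (91, [2]), (84, []), (98, []), (91, [4]), (91, [6]), (99, []), (92, [1]), (86, []), (85, []), (99, []), (92, [3]),
  (92, [4]), (100, []), (84, []), (89, []), (87, []), (100, []), (93, [2]), (93, [3]), (101, []), (85, []),
  (93, [6]), (94, [1]), (100, []), (87, []), (94, [5]), (94, [3]), (102, []), (86, []), (94, [6]), (90, []),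
  (101, []), (102, []), (88, []), (103, []), (87, []), (95, [4]), (95, [6]), (101, []), (90, []), (96, [1]),
  (96, [2]), (104, []), (89, []), (96, [4]), (96, [6]), (103, []), (104, []), (97, [1]), (97, [0]), (90, []),
  (97, [3]), (97, [4]), (97, [6]), (98, [1]), (98, [5]), (98, [2]), (98, [3]), (91, []), (105, []), (98, [6]),
  (106, []), (99, [1]), (99, [5]), (99, [2]), (92, []), (106, []), (99, [4]), (107, []), (91, []), (100, [1]),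
  (94, []), (93, []), (107, []), (100, [3]), (108, []), (92, []), (100, [6]), (96, []), (95, []), (108, []),
  (101, [2]), (109, []), (93, []), (101, [4]), (101, [6]), (102, [1]), (108, []), (95, []), (102, [5]), (110, []),
  (94, []), (102, [4]), (102, [6]), (97, []), (109, []), (110, []), (103, [0]), (95, []), (103, [3]), (103, [4]),
  (103, [6]), (109, []), (97, []), (104, [1]), (111, []), (96, []), (104, [3]), (104, [4]), (104, [6]), (105, [1]),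
  (105, [5]), (105, [2]), (105, [3]), (105, [4]), (98, []), (112, []), (113, []), (106, [1]), (106, [5]),
  (106, [2]), (106, [3]), (99, []), (113, []), (114, []), (98, []), (107, [1]), (107, [5]), (107, [2]), (100, []),
  (114, []), (115, []), (99, []), (107, [6]), (108, [1]), (102, []), (101, []), (115, []), (116, []), (100, []),
  (108, [4]), (108, [6]), (104, []), (103, []), (116, []), (117, []), (101, []), (109, [3]), (109, [4]), (109, [6]),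
  (110, [1]), (116, []), (103, []), (118, []), (102, []), (110, [3]), (110, [4]), (110, [6]), (117, []), (111, [0]),
  (119, []), (104, []), (111, [2]), (111, [3]), (111, [4]), (111, [6]), (112, [1]), (112, [5]), (112, [2]),
  (112, [3]), (112, [4]), (112, [6]), (105, []), (112, [7]), (113, [1]), (113, [5]), (113, [2]), (113, [3]),
  (113, [4]), (106, []), (113, [7]), (105, []), (114, [1]), (114, [5]), (114, [2]), (114, [3]), (107, []),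
  (114, [7]), (106, []), (114, [6]), (115, [1]), (115, [5]), (115, [2]), (108, []), (115, [7]), (107, []),
  (115, [4]), (115, [6]), (116, [1]), (110, []), (109, []), (116, [7]), (108, []), (116, [3]), (116, [4]),
  (116, [6]), (111, []), (117, [0]), (117, [7]), (109, []), (117, [2]), (117, [3]), (117, [4]), (117, [6]),
  (118, [1]), (118, [7]), (118, [0]), (110, []), (118, [5]), (118, [3]), (118, [4]), (118, [6]), (119, [7]),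
  (119, [0]), (111, []), (119, [1]), (119, [2]), (119, [3]), (119, [4]), (119, [6])]

/-- A step of the chain. -/
def levT0 : LevData := ⟨[0, 1, 2, 3, 4, 5, 6, 7], [0, 1, 2, 3, 4, 5, 6], [
  [],
  [7, 6, 5, 4, 3, 1, 2, 0, 3, 2, 4, 3, 1, 5, 4, 3, 2, 0, 6, 5, 4, 3, 1, 2, 3, 4, 5, 6, 7, 6, 5, 4, 3, 1, 2, 0, 3, 2, 4, 3, 1, 5, 4, 3, 2, 0, 6, 5, 4, 3, 1, 2, 3, 4, 5, 6, 7]], [
  (0, 0), (7, 0)], [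
  [(0, 0), (0, 1), (0, 2), (0, 3), (0, 4), (0, 5), (0, 6), (1, 8)],
  [(1, 0), (1, 1), (1, 2), (1, 3), (1, 4), (1, 5), (1, 6), (0, 8)]], [
  239], [
  121, 123, 124, 126, 127, 128, 130, 131, 132, 133, 135, 136, 137, 138, 139, 141, 142, 143, 144, 145, 147, 148, 149,
  150, 152, 153, 154, 156, 157, 159, 162, 163, 164, 165, 166, 167, 169, 170, 171, 172, 174, 175, 176, 178, 179, 181,
  184, 185, 186, 188, 189, 191, 194, 195, 197, 200, 204, 205, 207, 210, 214, 219, 226], [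
  0], [
  0, 1]⟩

/-- A step of the chain. -/
def levT1 : LevData := ⟨[0, 1, 2, 3, 4, 5, 6], [1, 2, 3, 4, 5, 6], [
  [], [6], [5, 6], [4, 5, 6], [3, 4, 5, 6], [2, 3, 4, 5, 6], [1, 3, 4, 5, 6], [1, 2, 3, 4, 5, 6],
  [0, 2, 3, 4, 5, 6], [3, 1, 2, 3, 4, 5, 6], [0, 1, 2, 3, 4, 5, 6], [4, 3, 1, 2, 3, 4, 5, 6],
  [0, 3, 1, 2, 3, 4, 5, 6], [5, 4, 3, 1, 2, 3, 4, 5, 6], [0, 4, 3, 1, 2, 3, 4, 5, 6], [2, 0, 3, 1, 2, 3, 4, 5, 6],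
  [6, 5, 4, 3, 1, 2, 3, 4, 5, 6], [0, 5, 4, 3, 1, 2, 3, 4, 5, 6], [2, 0, 4, 3, 1, 2, 3, 4, 5, 6],
  [0, 6, 5, 4, 3, 1, 2, 3, 4, 5, 6], [2, 0, 5, 4, 3, 1, 2, 3, 4, 5, 6], [3, 2, 0, 4, 3, 1, 2, 3, 4, 5, 6],
  [2, 0, 6, 5, 4, 3, 1, 2, 3, 4, 5, 6], [3, 2, 0, 5, 4, 3, 1, 2, 3, 4, 5, 6], [1, 3, 2, 0, 4, 3, 1, 2, 3, 4, 5, 6],
  [3, 2, 0, 6, 5, 4, 3, 1, 2, 3, 4, 5, 6], [4, 3, 2, 0, 5, 4, 3, 1, 2, 3, 4, 5, 6],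
  [1, 3, 2, 0, 5, 4, 3, 1, 2, 3, 4, 5, 6], [4, 3, 2, 0, 6, 5, 4, 3, 1, 2, 3, 4, 5, 6],
  [1, 3, 2, 0, 6, 5, 4, 3, 1, 2, 3, 4, 5, 6], [1, 4, 3, 2, 0, 5, 4, 3, 1, 2, 3, 4, 5, 6],
  [5, 4, 3, 2, 0, 6, 5, 4, 3, 1, 2, 3, 4, 5, 6], [1, 4, 3, 2, 0, 6, 5, 4, 3, 1, 2, 3, 4, 5, 6],
  [3, 1, 4, 3, 2, 0, 5, 4, 3, 1, 2, 3, 4, 5, 6], [1, 5, 4, 3, 2, 0, 6, 5, 4, 3, 1, 2, 3, 4, 5, 6],
  [3, 1, 4, 3, 2, 0, 6, 5, 4, 3, 1, 2, 3, 4, 5, 6], [2, 3, 1, 4, 3, 2, 0, 5, 4, 3, 1, 2, 3, 4, 5, 6],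
  [3, 1, 5, 4, 3, 2, 0, 6, 5, 4, 3, 1, 2, 3, 4, 5, 6], [2, 3, 1, 4, 3, 2, 0, 6, 5, 4, 3, 1, 2, 3, 4, 5, 6],
  [0, 2, 3, 1, 4, 3, 2, 0, 5, 4, 3, 1, 2, 3, 4, 5, 6], [4, 3, 1, 5, 4, 3, 2, 0, 6, 5, 4, 3, 1, 2, 3, 4, 5, 6],
  [2, 3, 1, 5, 4, 3, 2, 0, 6, 5, 4, 3, 1, 2, 3, 4, 5, 6], [0, 2, 3, 1, 4, 3, 2, 0, 6, 5, 4, 3, 1, 2, 3, 4, 5, 6],
  [2, 4, 3, 1, 5, 4, 3, 2, 0, 6, 5, 4, 3, 1, 2, 3, 4, 5, 6],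
  [0, 2, 3, 1, 5, 4, 3, 2, 0, 6, 5, 4, 3, 1, 2, 3, 4, 5, 6],
  [3, 2, 4, 3, 1, 5, 4, 3, 2, 0, 6, 5, 4, 3, 1, 2, 3, 4, 5, 6],
  [0, 2, 4, 3, 1, 5, 4, 3, 2, 0, 6, 5, 4, 3, 1, 2, 3, 4, 5, 6],
  [1, 3, 2, 4, 3, 1, 5, 4, 3, 2, 0, 6, 5, 4, 3, 1, 2, 3, 4, 5, 6],
  [0, 3, 2, 4, 3, 1, 5, 4, 3, 2, 0, 6, 5, 4, 3, 1, 2, 3, 4, 5, 6],
  [0, 1, 3, 2, 4, 3, 1, 5, 4, 3, 2, 0, 6, 5, 4, 3, 1, 2, 3, 4, 5, 6],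
  [2, 0, 3, 2, 4, 3, 1, 5, 4, 3, 2, 0, 6, 5, 4, 3, 1, 2, 3, 4, 5, 6],
  [1, 2, 0, 3, 2, 4, 3, 1, 5, 4, 3, 2, 0, 6, 5, 4, 3, 1, 2, 3, 4, 5, 6],
  [3, 1, 2, 0, 3, 2, 4, 3, 1, 5, 4, 3, 2, 0, 6, 5, 4, 3, 1, 2, 3, 4, 5, 6],
  [4, 3, 1, 2, 0, 3, 2, 4, 3, 1, 5, 4, 3, 2, 0, 6, 5, 4, 3, 1, 2, 3, 4, 5, 6],
  [5, 4, 3, 1, 2, 0, 3, 2, 4, 3, 1, 5, 4, 3, 2, 0, 6, 5, 4, 3, 1, 2, 3, 4, 5, 6],
  [6, 5, 4, 3, 1, 2, 0, 3, 2, 4, 3, 1, 5, 4, 3, 2, 0, 6, 5, 4, 3, 1, 2, 3, 4, 5, 6]], [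
  (0, 0), (0, 0), (1, 1), (2, 2), (3, 3), (4, 4), (5, 4), (5, 5), (6, 5), (3, 7), (6, 7), (2, 9), (6, 9), (1, 11),
  (6, 11), (4, 12), (0, 13), (6, 13), (4, 14), (6, 16), (4, 17), (3, 18), (4, 19), (3, 20), (5, 21), (3, 22),
  (2, 23), (5, 23), (2, 25), (5, 25), (5, 26), (1, 28), (5, 28), (3, 30), (5, 31), (3, 32), (4, 33), (3, 34),
  (4, 35), (6, 36), (2, 37), (4, 37), (6, 38), (4, 40), (6, 41), (3, 43), (6, 43), (5, 45), (6, 45), (6, 47),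
  (4, 48), (4, 49), (3, 51), (2, 52), (1, 53), (0, 54)], [
  [(1, 8), (0, 1), (0, 2), (0, 3), (0, 4), (0, 5), (0, 6)],
  [(0, 8), (2, 8), (1, 2), (1, 3), (1, 4), (1, 5), (1, 6)],
  [(2, 1), (1, 8), (3, 8), (2, 3), (2, 4), (2, 5), (2, 6)],
  [(3, 1), (3, 2), (2, 8), (4, 8), (3, 4), (3, 5), (3, 6)],
  [(4, 1), (4, 2), (4, 3), (3, 8), (5, 8), (6, 8), (4, 6)],
  [(5, 1), (5, 2), (5, 3), (5, 4), (4, 8), (7, 8), (8, 8)],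
  [(6, 1), (6, 2), (6, 3), (6, 5), (7, 8), (4, 8), (6, 6)],
  [(7, 1), (7, 2), (7, 3), (9, 8), (6, 8), (5, 8), (10, 8)],
  [(8, 1), (8, 2), (8, 3), (8, 4), (8, 6), (10, 8), (5, 8)],
  [(9, 1), (9, 2), (11, 8), (7, 8), (9, 5), (9, 4), (12, 8)],
  [(10, 1), (10, 2), (10, 3), (12, 8), (10, 6), (8, 8), (7, 8)],
  [(11, 1), (13, 8), (9, 8), (11, 3), (11, 5), (11, 4), (14, 8)],
  [(12, 1), (12, 2), (14, 8), (10, 8), (15, 8), (12, 4), (9, 8)],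
  [(16, 8), (11, 8), (13, 2), (13, 3), (13, 5), (13, 4), (17, 8)],
  [(14, 1), (17, 8), (12, 8), (14, 3), (18, 8), (14, 4), (11, 8)],
  [(15, 1), (15, 2), (18, 8), (15, 6), (12, 8), (15, 4), (15, 5)],
  [(13, 8), (16, 1), (16, 2), (16, 3), (16, 5), (16, 4), (19, 8)],
  [(19, 8), (14, 8), (17, 2), (17, 3), (20, 8), (17, 4), (13, 8)],
  [(18, 1), (20, 8), (15, 8), (21, 8), (14, 8), (18, 4), (18, 5)],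
  [(17, 8), (19, 1), (19, 2), (19, 3), (22, 8), (19, 4), (16, 8)],
  [(22, 8), (18, 8), (20, 2), (23, 8), (17, 8), (20, 4), (20, 5)],
  [(21, 1), (23, 8), (21, 6), (18, 8), (21, 3), (24, 8), (21, 5)],
  [(20, 8), (22, 1), (22, 2), (25, 8), (19, 8), (22, 4), (22, 5)],
  [(25, 8), (21, 8), (26, 8), (20, 8), (23, 3), (27, 8), (23, 5)],
  [(24, 1), (27, 8), (24, 6), (24, 4), (24, 3), (21, 8), (24, 5)],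
  [(23, 8), (25, 1), (28, 8), (22, 8), (25, 3), (29, 8), (25, 5)],
  [(28, 8), (26, 6), (23, 8), (26, 2), (26, 3), (30, 8), (26, 5)],
  [(29, 8), (24, 8), (30, 8), (27, 4), (27, 3), (23, 8), (27, 5)],
  [(26, 8), (31, 8), (25, 8), (28, 2), (28, 3), (32, 8), (28, 5)],
  [(27, 8), (29, 1), (32, 8), (29, 4), (29, 3), (25, 8), (29, 5)],
  [(32, 8), (30, 6), (27, 8), (33, 8), (30, 3), (26, 8), (30, 5)],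
  [(31, 6), (28, 8), (31, 1), (31, 2), (31, 3), (34, 8), (31, 5)],
  [(30, 8), (34, 8), (29, 8), (35, 8), (32, 3), (28, 8), (32, 5)],
  [(35, 8), (33, 6), (33, 4), (30, 8), (36, 8), (33, 2), (33, 5)],
  [(34, 6), (32, 8), (34, 1), (37, 8), (34, 3), (31, 8), (34, 5)],
  [(33, 8), (37, 8), (35, 4), (32, 8), (38, 8), (35, 2), (35, 5)],
  [(38, 8), (36, 6), (36, 4), (36, 3), (33, 8), (36, 2), (39, 8)],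
  [(37, 6), (35, 8), (40, 8), (34, 8), (41, 8), (37, 2), (37, 5)],
  [(36, 8), (41, 8), (38, 4), (38, 3), (35, 8), (38, 2), (42, 8)],
  [(42, 8), (39, 6), (39, 4), (39, 3), (39, 5), (39, 2), (36, 8)],
  [(40, 6), (40, 4), (37, 8), (40, 1), (43, 8), (40, 2), (40, 5)],
  [(41, 6), (38, 8), (43, 8), (41, 3), (37, 8), (41, 2), (44, 8)],
  [(39, 8), (44, 8), (42, 4), (42, 3), (42, 5), (42, 2), (38, 8)],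
  [(43, 6), (43, 4), (41, 8), (45, 8), (40, 8), (43, 2), (46, 8)],
  [(44, 6), (42, 8), (46, 8), (44, 3), (44, 5), (44, 2), (41, 8)],
  [(45, 6), (45, 4), (45, 3), (43, 8), (45, 1), (47, 8), (48, 8)],
  [(46, 6), (46, 4), (44, 8), (48, 8), (46, 5), (46, 2), (43, 8)],
  [(47, 6), (47, 4), (47, 3), (47, 2), (47, 1), (45, 8), (49, 8)],
  [(48, 6), (48, 4), (48, 3), (46, 8), (50, 8), (49, 8), (45, 8)],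
  [(49, 6), (49, 4), (49, 3), (49, 2), (51, 8), (48, 8), (47, 8)],
  [(50, 6), (50, 4), (50, 3), (50, 5), (48, 8), (51, 8), (50, 1)],
  [(51, 6), (51, 4), (51, 3), (52, 8), (49, 8), (50, 8), (51, 1)],
  [(52, 6), (52, 4), (53, 8), (51, 8), (52, 2), (52, 5), (52, 1)],
  [(53, 6), (54, 8), (52, 8), (53, 3), (53, 2), (53, 5), (53, 1)],
  [(55, 8), (53, 8), (54, 4), (54, 3), (54, 2), (54, 5), (54, 1)],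
  [(54, 8), (55, 6), (55, 4), (55, 3), (55, 2), (55, 5), (55, 1)]], [
  121, 124, 128, 133, 139, 145, 150, 154, 157, 159, 167, 172, 176, 179, 181, 186, 189, 191, 195, 197, 200, 205, 207,
  210, 214, 219, 226, 239], [
  123, 126, 127, 130, 131, 132, 135, 136, 137, 138, 141, 142, 143, 144, 147, 148, 149, 152, 153, 156, 162, 163, 164,
  165, 166, 169, 170, 171, 174, 175, 178, 184, 185, 188, 194, 204], [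
  1], [
  0, 1, 2, 3, 4, 5, 5, 6, 6, 7, 7, 8, 8, 9, 9, 9, 10, 10, 10, 11, 11, 11, 12, 12, 12, 13, 13, 13, 14, 14, 14, 15,
  15, 15, 16, 16, 16, 17, 17, 17, 18, 18, 18, 19, 19, 20, 20, 21, 21, 22, 22, 23, 24, 25, 26, 27]⟩

/-- A step of the chain. -/
def levT2 : LevData := ⟨[1, 2, 3, 4, 5, 6], [1, 2, 3, 4, 5], [
  [], [0], [2, 0], [3, 2, 0], [4, 3, 2, 0], [1, 3, 2, 0], [5, 4, 3, 2, 0], [1, 4, 3, 2, 0], [1, 5, 4, 3, 2, 0],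
  [3, 1, 4, 3, 2, 0], [3, 1, 5, 4, 3, 2, 0], [2, 3, 1, 4, 3, 2, 0], [4, 3, 1, 5, 4, 3, 2, 0],
  [2, 3, 1, 5, 4, 3, 2, 0], [0, 2, 3, 1, 4, 3, 2, 0], [2, 4, 3, 1, 5, 4, 3, 2, 0], [0, 2, 3, 1, 5, 4, 3, 2, 0],
  [3, 2, 4, 3, 1, 5, 4, 3, 2, 0], [0, 2, 4, 3, 1, 5, 4, 3, 2, 0], [1, 3, 2, 4, 3, 1, 5, 4, 3, 2, 0],
  [0, 3, 2, 4, 3, 1, 5, 4, 3, 2, 0], [0, 1, 3, 2, 4, 3, 1, 5, 4, 3, 2, 0], [2, 0, 3, 2, 4, 3, 1, 5, 4, 3, 2, 0],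
  [1, 2, 0, 3, 2, 4, 3, 1, 5, 4, 3, 2, 0], [3, 1, 2, 0, 3, 2, 4, 3, 1, 5, 4, 3, 2, 0],
  [4, 3, 1, 2, 0, 3, 2, 4, 3, 1, 5, 4, 3, 2, 0], [5, 4, 3, 1, 2, 0, 3, 2, 4, 3, 1, 5, 4, 3, 2, 0]], [
  (1, 0), (6, 0), (4, 1), (3, 2), (2, 3), (5, 3), (1, 4), (5, 4), (5, 6), (3, 7), (3, 8), (4, 9), (2, 10), (4, 10),
  (6, 11), (4, 12), (6, 13), (3, 15), (6, 15), (5, 17), (6, 17), (6, 19), (4, 20), (4, 21), (3, 23), (2, 24),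
  (1, 25)], [
  [(0, 1), (0, 2), (0, 3), (0, 4), (0, 5), (1, 8)], [(1, 1), (1, 2), (1, 3), (2, 8), (1, 5), (0, 8)],
  [(2, 1), (2, 2), (3, 8), (1, 8), (2, 5), (2, 4)], [(3, 1), (4, 8), (2, 8), (3, 3), (5, 8), (3, 4)],
  [(6, 8), (3, 8), (4, 2), (4, 3), (7, 8), (4, 4)], [(5, 1), (7, 8), (5, 5), (5, 3), (3, 8), (5, 4)],
  [(4, 8), (6, 1), (6, 2), (6, 3), (8, 8), (6, 4)], [(8, 8), (5, 8), (9, 8), (7, 3), (4, 8), (7, 4)],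
  [(7, 8), (8, 1), (10, 8), (8, 3), (6, 8), (8, 4)], [(10, 8), (9, 5), (7, 8), (11, 8), (9, 2), (9, 4)],
  [(9, 8), (12, 8), (8, 8), (13, 8), (10, 2), (10, 4)], [(13, 8), (11, 5), (11, 3), (9, 8), (11, 2), (14, 8)],
  [(12, 5), (10, 8), (12, 1), (15, 8), (12, 2), (12, 4)], [(11, 8), (15, 8), (13, 3), (10, 8), (13, 2), (16, 8)],
  [(16, 8), (14, 5), (14, 3), (14, 4), (14, 2), (11, 8)], [(15, 5), (13, 8), (17, 8), (12, 8), (15, 2), (18, 8)],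
  [(14, 8), (18, 8), (16, 3), (16, 4), (16, 2), (13, 8)], [(17, 5), (17, 3), (15, 8), (17, 1), (19, 8), (20, 8)],
  [(18, 5), (16, 8), (20, 8), (18, 4), (18, 2), (15, 8)], [(19, 5), (19, 3), (19, 2), (19, 1), (17, 8), (21, 8)],
  [(20, 5), (20, 3), (18, 8), (22, 8), (21, 8), (17, 8)], [(21, 5), (21, 3), (21, 2), (23, 8), (20, 8), (19, 8)],
  [(22, 5), (22, 3), (22, 4), (20, 8), (23, 8), (22, 1)], [(23, 5), (23, 3), (24, 8), (21, 8), (22, 8), (23, 1)],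
  [(24, 5), (25, 8), (23, 8), (24, 2), (24, 4), (24, 1)], [(26, 8), (24, 8), (25, 3), (25, 2), (25, 4), (25, 1)],
  [(25, 8), (26, 5), (26, 3), (26, 2), (26, 4), (26, 1)]], [
  121, 124, 128, 133, 139, 145, 150, 154, 157, 159, 162, 163, 164, 165, 166, 167, 169, 170, 171, 172, 174, 175, 176,
  178, 179, 181, 184, 185, 186, 188, 189, 191, 194, 195, 197, 200, 204, 205, 207, 210, 214, 219, 226, 239], [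
  123, 126, 127, 130, 131, 132, 135, 136, 137, 138, 141, 142, 143, 144, 147, 148, 149, 152, 153, 156], [
  12], [
  0, 1, 2, 3, 4, 4, 5, 5, 6, 6, 7, 7, 8, 8, 8, 9, 9, 10, 10, 11, 11, 12, 12, 13, 14, 15, 16]⟩

/-- A step of the chain. -/
def levT3 : LevData := ⟨[1, 2, 3, 4, 5], [2, 3, 4, 5], [
  [], [5], [4, 5], [3, 4, 5], [2, 3, 4, 5], [1, 3, 4, 5], [1, 2, 3, 4, 5], [3, 1, 2, 3, 4, 5],
  [4, 3, 1, 2, 3, 4, 5], [5, 4, 3, 1, 2, 3, 4, 5]], [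
  (1, 0), (1, 0), (2, 1), (3, 2), (4, 3), (5, 3), (5, 4), (3, 6), (2, 7), (1, 8)], [
  [(1, 8), (0, 2), (0, 3), (0, 4), (0, 5)], [(0, 8), (2, 8), (1, 3), (1, 4), (1, 5)],
  [(2, 2), (1, 8), (3, 8), (2, 4), (2, 5)], [(3, 2), (3, 3), (2, 8), (4, 8), (5, 8)],
  [(4, 2), (4, 3), (4, 4), (3, 8), (6, 8)], [(5, 2), (5, 3), (5, 5), (6, 8), (3, 8)],
  [(6, 2), (6, 3), (7, 8), (5, 8), (4, 8)], [(7, 2), (8, 8), (6, 8), (7, 5), (7, 4)],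
  [(9, 8), (7, 8), (8, 3), (8, 5), (8, 4)], [(8, 8), (9, 2), (9, 3), (9, 5), (9, 4)]], [
  121, 123, 124, 127, 128, 132, 133, 138, 139, 144, 145, 149, 150, 153, 154, 156, 157, 159, 162, 163, 164, 165, 166,
  167, 169, 170, 171, 172, 174, 175, 176, 178, 179, 181, 184, 185, 186, 188, 189, 191, 194, 195, 197, 200, 204, 205,
  207, 210, 214, 219, 226, 239], [
  126, 130, 131, 135, 136, 137, 141, 142, 143, 147, 148, 152], [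
  2], [
  0, 1, 2, 3, 4, 4, 5, 6, 7, 8]⟩

/-- A step of the chain. -/
def levT4 : LevData := ⟨[2, 3, 4, 5], [2, 3, 4], [
  [], [1], [3, 1], [4, 3, 1], [2, 3, 1], [2, 4, 3, 1], [3, 2, 4, 3, 1], [1, 3, 2, 4, 3, 1]], [
  (2, 0), (5, 0), (3, 1), (2, 2), (4, 2), (4, 3), (3, 5), (5, 6)], [
  [(0, 2), (0, 3), (0, 4), (1, 8)], [(1, 2), (2, 8), (1, 4), (0, 8)], [(3, 8), (1, 8), (4, 8), (2, 3)],
  [(2, 8), (3, 2), (5, 8), (3, 3)], [(5, 8), (4, 4), (2, 8), (4, 3)], [(4, 8), (6, 8), (3, 8), (5, 3)],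
  [(6, 4), (5, 8), (6, 2), (7, 8)], [(7, 4), (7, 3), (7, 2), (6, 8)]], [
  121, 123, 124, 127, 128, 132, 133, 138, 139, 141, 142, 143, 144, 145, 147, 148, 149, 150, 152, 153, 154, 156, 157,
  159, 162, 163, 164, 165, 166, 167, 169, 170, 171, 172, 174, 175, 176, 178, 179, 181, 184, 185, 186, 188, 189, 191,
  194, 195, 197, 200, 204, 205, 207, 210, 214, 219, 226, 239], [
  126, 130, 131, 135, 136, 137], [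
  14], [
  0, 1, 2, 3, 3, 4, 5, 6]⟩

/-- A step of the chain. -/
def levT5 : LevData := ⟨[2, 3, 4], [3, 4], [
  [], [4], [3, 4], [2, 3, 4]], [
  (2, 0), (2, 0), (3, 1), (4, 2)], [
  [(1, 8), (0, 3), (0, 4)], [(0, 8), (2, 8), (1, 4)], [(2, 3), (1, 8), (3, 8)], [(3, 3), (3, 4), (2, 8)]], [
  121, 123, 124, 126, 127, 128, 131, 132, 133, 137, 138, 139, 141, 142, 143, 144, 145, 147, 148, 149, 150, 152, 153,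
  154, 156, 157, 159, 162, 163, 164, 165, 166, 167, 169, 170, 171, 172, 174, 175, 176, 178, 179, 181, 184, 185, 186,
  188, 189, 191, 194, 195, 197, 200, 204, 205, 207, 210, 214, 219, 226, 239], [
  130, 135, 136], [
  3], [
  0, 1, 2, 3]⟩

/-- A step of the chain. -/
def levT6 : LevData := ⟨[3, 4], [4], [
  [], [3], [2, 3]], [
  (3, 0), (3, 0), (4, 1)], [
  [(1, 8), (0, 4)], [(0, 8), (2, 8)], [(2, 4), (1, 8)]], [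
  121, 123, 124, 126, 127, 128, 130, 131, 132, 133, 136, 137, 138, 139, 141, 142, 143, 144, 145, 147, 148, 149, 150,
  152, 153, 154, 156, 157, 159, 162, 163, 164, 165, 166, 167, 169, 170, 171, 172, 174, 175, 176, 178, 179, 181, 184,
  185, 186, 188, 189, 191, 194, 195, 197, 200, 204, 205, 207, 210, 214, 219, 226, 239], [
  135], [
  4], [
  0, 1, 2]⟩

/-- A step of the chain. -/
def levT7 : LevData := ⟨[4], [], [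
  [], [2]], [
  (4, 0), (4, 0)], [
  [(1, 8)], [(0, 8)]], [
  121, 123, 124, 126, 127, 128, 130, 131, 132, 133, 135, 136, 137, 138, 139, 141, 142, 143, 144, 145, 147, 148, 149,
  150, 152, 153, 154, 156, 157, 159, 162, 163, 164, 165, 166, 167, 169, 170, 171, 172, 174, 175, 176, 178, 179, 181,
  184, 185, 186, 188, 189, 191, 194, 195, 197, 200, 204, 205, 207, 210, 214, 219, 226, 239], [
], [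
  5], [
  0, 1]⟩

/-- The chain. -/
def chainT : List LevData := [levT0, levT1, levT2, levT3, levT4, levT5, levT6, levT7]

end CfsgLib.Chev.E8Invol
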