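import Mathlib
import Cfsg.Agent.Lib.Chev.InvolMono
import Cfsg.Agent.Lib.Chev.TwistWeyl
import Cfsg.Agent.Lib.Chev.Good
import Cfsg.Agent.Lib.Chev.CommGood
import Cfsg.Agent.Lib.Chev.E8InvolData

/-!
E₈(q), q odd: every involution is conjugate to an involution of the torus.
-/

set_option autoImplicit false
set_option linter.unusedSectionVars false
set_option maxRecDepth 100000
set_option maxHeartbeats 800000

namespace CfsgLib.Chev.E8Invol

open Cfsg.Lie

theorem hc : HasComm chevE8 := hasComm_of_mem (by simp)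

/-- An index as a fundamental index. -/
def fi (k : ℕ) : Fin chevE8.rank := ⟨k % 8, Nat.mod_lt _ (by decide)⟩

/-- A word of indices as a word. -/
def toW (w : List ℕ) : List (Fin chevE8.rank) := w.map fi

/-- A reflection, from the packed table. -/
def fref (i s : ℕ) : ℕ := (reflRows.getD i 0 >>> (8 * s)) % 256

theorem fref_eq : ∀ i : Fin 8, ∀ s : Fin 240, refl sdataE8 i s = fref i s := by decide +kernel

/-- A word applied to a root, in the packed table. -/
noncomputable def app (w : List ℕ) (s : ℕ) : ℕ :=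
  List.rec s (fun i _ ih => strictN ih (fref (i % 8))) w

theorem wperm_app (w : List ℕ) (s : Fin chevE8.nroots) : (goodE8.wperm (toW w) s).val = app w s := by
  induction w with
  | nil => rfl
  | cons i w ih =>
    rw [toW, List.map_cons, ← toW, goodE8.wperm_cons, Equiv.Perm.mul_apply,
      goodE8.rperm_tab checksE8 structChecksE8,
      show refl sdataE8 (fi i : ℕ) (goodE8.wperm (toW w) s).val = fref (i % 8) (goodE8.wperm (toW w) s).val from
        fref_eq ⟨i % 8, Nat.mod_lt _ (by decide)⟩ ⟨(goodE8.wperm (toW w) s).val, (goodE8.wperm (toW w) s).2⟩, ih]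
    exact (strictN_eq _ (fref (i % 8))).symm

/-- The images of the fundamental roots. -/
noncomputable def imgN (w : List ℕ) : List ℕ := [162, 141, 135, 130, 126, 123, 121, 120].map (app w)

theorem toW_append (u v : List ℕ) : toW (u ++ v) = toW u ++ toW v := List.map_append

theorem toW_reverse (u : List ℕ) : toW u.reverse = (toW u).reverse := List.map_reverse

theorem wperm_toW_append (u v : List ℕ) :
    goodE8.wperm (toW (u ++ v)) = goodE8.wperm (toW u) * goodE8.wperm (toW v) := by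
  rw [toW_append, goodE8.wperm_append]

theorem sroot_val : ∀ q : Fin chevE8.rank,
    chevE8.simple q = [162, 141, 135, 130, 126, 123, 121, 120].getD q 0 := by decide +kernel

theorem wperm_eq_of_img {u v : List ℕ} (h : imgN u = imgN v) : goodE8.wperm (toW u) = goodE8.wperm (toW v) := by
  refine InvolMono.wperm_ext goodE8 fun q => Fin.ext ?_
  rw [wperm_app, wperm_app,
    show (goodE8.sroot q : ℕ) = [162, 141, 135, 130, 126, 123, 121, 120].getD q 0 from sroot_val q]
  simp only [imgN, List.map_cons, List.map_nil, List.cons.injEq, and_true] at h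
  obtain ⟨h0, h1, h2, h3, h4, h5, h6, h7⟩ := h
  have hq : (q : ℕ) < 8 := q.2
  interval_cases (q : ℕ)
  exacts [h0, h1, h2, h3, h4, h5, h6, h7]

theorem img_eq_of_wperm {u v : List ℕ} (h : goodE8.wperm (toW u) = goodE8.wperm (toW v)) : imgN u = imgN v := by
  refine List.map_congr_left fun s hs => ?_
  have hs' : s < chevE8.nroots :=
    (show ∀ s ∈ [162, 141, 135, 130, 126, 123, 121, 120], s < chevE8.nroots by decide) s hs
  rw [← wperm_app u ⟨s, hs'⟩, ← wperm_app v ⟨s, hs'⟩, h]

/-- The word of a reflection. -/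
def rW (l : List ℕ) (i : ℕ) : List ℕ := l ++ i :: l.reverse

theorem toW_rW (l : List ℕ) (i : ℕ) : toW (rW l i) = InvolMono.refWord (toW l) (fi i) := by
  simp [rW, toW, InvolMono.refWord, List.map_reverse]

/-- The root of a word and an index. -/
noncomputable def rootOf (l : List ℕ) (i : ℕ) : ℕ :=
  app l ([162, 141, 135, 130, 126, 123, 121, 120].getD (i % 8) 0)

theorem rootOf_eq (l : List ℕ) (i : ℕ) :
    (goodE8.wperm (toW l) (goodE8.sroot (fi i))).val = rootOf l i := by
  rw [wperm_app, rootOf]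
  congr 1
  exact sroot_val (fi i)

theorem nroot_val (a : Fin chevE8.nroots) : (goodE8.nroot a).val = 239 - a.val := by
  rw [show (goodE8.nroot a).val = chevE8.neg a from rfl, goodE8.neg_rev a.2]
  rfl

/-- The word of the `k`-th representative. -/
def rep (k : ℕ) : List ℕ := repWords.getD k []

/-- The permutation of the `k`-th representative. -/
noncomputable def repPerm (k : ℕ) : Equiv.Perm (Fin chevE8.nroots) := goodE8.wperm (toW (rep k))

/-! ### The tables -/

theorem rootWords_ok : ∀ a < 120, rootOf (rootWords.getD a ([], 0)).1 (rootWords.getD a ([], 0)).2 = 120 + a := by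
  decide +kernel

theorem rep_zero : imgN (rep 0) = imgN [] ∧ repWords.length = 10 := by decide +kernel

theorem close_ok : ∀ k < 10, ∀ a < 120,
    imgN (rW (rootWords.getD a ([], 0)).1 (rootWords.getD a ([], 0)).2 ++ rep k) =
      imgN (rep k ++ rW (rootWords.getD a ([], 0)).1 (rootWords.getD a ([], 0)).2) →
    (closeTable.getD (k * 120 + a) (0, [])).1 < 10 ∧
      imgN ((closeTable.getD (k * 120 + a) (0, [])).2 ++
        (rW (rootWords.getD a ([], 0)).1 (rootWords.getD a ([], 0)).2 ++ rep k) ++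
          (closeTable.getD (k * 120 + a) (0, [])).2.reverse) =
        imgN (rep (closeTable.getD (k * 120 + a) (0, [])).1) := by
  decide +kernel

theorem moveA_ok : ∀ p ∈ moveA,
    app (rep p.1) (rootOf p.2.1 p.2.2.1) = 239 - rootOf p.2.1 p.2.2.1 ∧
    app (rep p.1) (rootOf p.2.2.2.1 p.2.2.2.2.1) = 239 - rootOf p.2.2.2.1 p.2.2.2.2.1 ∧
    pair chevE8 (rootOf p.2.1 p.2.2.1) (rootOf p.2.2.2.1 p.2.2.2.2.1) % 2 = 1 ∧
    pair chevE8 (rootOf p.2.1 p.2.2.1) (239 - app (rW p.2.1 p.2.2.1) (rootOf p.2.2.2.1 p.2.2.2.2.1)) % 2 = 1 ∧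
    ((p.2.2.2.2.2.getD 0 (99, [])).1 < p.1 ∧
      imgN ((p.2.2.2.2.2.getD 0 (99, [])).2 ++ (rW p.2.1 p.2.2.1 ++ rep p.1) ++
        (p.2.2.2.2.2.getD 0 (99, [])).2.reverse) = imgN (rep (p.2.2.2.2.2.getD 0 (99, [])).1)) ∧
    ((p.2.2.2.2.2.getD 1 (99, [])).1 < p.1 ∧
      imgN ((p.2.2.2.2.2.getD 1 (99, [])).2 ++ (rW p.2.2.2.1 p.2.2.2.2.1 ++ rep p.1) ++
        (p.2.2.2.2.2.getD 1 (99, [])).2.reverse) = imgN (rep (p.2.2.2.2.2.getD 1 (99, [])).1)) ∧
    ((p.2.2.2.2.2.getD 2 (99, [])).1 < p.1 ∧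
      imgN ((p.2.2.2.2.2.getD 2 (99, [])).2 ++ (rW (rW p.2.1 p.2.2.1 ++ p.2.2.2.1) p.2.2.2.2.1 ++ rep p.1) ++
        (p.2.2.2.2.2.getD 2 (99, [])).2.reverse) = imgN (rep (p.2.2.2.2.2.getD 2 (99, [])).1)) := by
  decide +kernel

theorem moveB_ok : ∀ p ∈ moveB, p.2.2.2.1 < 240 ∧
    app (rep p.1) (rootOf p.2.1 p.2.2.1) = 239 - rootOf p.2.1 p.2.2.1 ∧
    app (rep p.1) p.2.2.2.1 = app (rW p.2.1 p.2.2.1) p.2.2.2.1 ∧
    pair chevE8 (rootOf p.2.1 p.2.2.1) p.2.2.2.1 % 2 = 1 ∧
    p.2.2.2.2.1 < p.1 ∧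
    imgN (p.2.2.2.2.2 ++ (rW p.2.1 p.2.2.1 ++ rep p.1) ++ p.2.2.2.2.2.reverse) = imgN (rep p.2.2.2.2.1) := by
  decide +kernel

theorem move_cover : ∀ k : Fin 10, k.val = 0 ∨ k.val ∈ moveA.map Prod.fst ∨ k.val ∈ moveB.map Prod.fst := by
  decide +kernel

/-! ### The involutions of the Weyl group -/

theorem isReflIn_word (g : Good chevE8) (m : List (Fin chevE8.rank)) (q : Fin chevE8.rank) :
    g.IsReflIn (g.wperm m (g.sroot q)) (g.wperm (InvolMono.refWord m q)) := by
  rw [InvolMono.wperm_refWord]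
  induction m with
  | nil => simpa [g.wperm_nil] using g.isReflIn_rperm q
  | cons k m ih =>
    have := g.isReflIn_conj k ih
    rw [g.wperm_cons, _root_.mul_inv_rev, g.rperm_inv, Equiv.Perm.mul_apply]
    simpa only [mul_assoc] using this

theorem refWord_eq_table (m : List (Fin chevE8.rank)) (q : Fin chevE8.rank) :
    ∃ a < 120, goodE8.wperm (InvolMono.refWord m q) =
      goodE8.wperm (toW (rW (rootWords.getD a ([], 0)).1 (rootWords.getD a ([], 0)).2)) := by
  have key : ∀ m', 120 ≤ (goodE8.wperm m' (goodE8.sroot q)).val → ∃ a < 120,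
      goodE8.wperm (InvolMono.refWord m' q) =
        goodE8.wperm (toW (rW (rootWords.getD a ([], 0)).1 (rootWords.getD a ([], 0)).2)) := by
    intro m' hm
    have hlt : (goodE8.wperm m' (goodE8.sroot q)).val < 240 := (goodE8.wperm m' (goodE8.sroot q)).2
    refine ⟨(goodE8.wperm m' (goodE8.sroot q)).val - 120, by omega, ?_⟩
    rw [toW_rW]
    refine goodE8.isReflIn_unique (isReflIn_word goodE8 m' q) ?_
    have h := isReflIn_word goodE8 (toW (rootWords.getD ((goodE8.wperm m' (goodE8.sroot q)).val - 120) ([], 0)).1)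
      (fi (rootWords.getD ((goodE8.wperm m' (goodE8.sroot q)).val - 120) ([], 0)).2)
    rwa [show goodE8.wperm (toW (rootWords.getD ((goodE8.wperm m' (goodE8.sroot q)).val - 120) ([], 0)).1)
        (goodE8.sroot (fi (rootWords.getD ((goodE8.wperm m' (goodE8.sroot q)).val - 120) ([], 0)).2)) =
        goodE8.wperm m' (goodE8.sroot q) from Fin.ext (by rw [rootOf_eq, rootWords_ok _ (by omega)]; omega)] at h
  by_cases hm : 120 ≤ (goodE8.wperm m (goodE8.sroot q)).val
  · exact key m hm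
  · obtain ⟨a, ha, he⟩ := key (m ++ [q]) (by
      rw [goodE8.wperm_append, Equiv.Perm.mul_apply,
        show goodE8.wperm [q] = goodE8.rperm q by simp [Good.wperm], goodE8.rperm_sroot, goodE8.wperm_nroot,
        nroot_val]
      omega)
    refine ⟨a, ha, ?_⟩
    rw [← he, InvolMono.wperm_refWord, InvolMono.wperm_refWord, goodE8.wperm_append,
      show goodE8.wperm [q] = goodE8.rperm q by simp [Good.wperm]]
    group

theorem exists_class {π : Equiv.Perm (Fin chevE8.nroots)} (hπ : π ∈ goodE8.weyl) (hsq : π * π = 1) :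
    ∃ k < 10, ∃ l : List (Fin chevE8.rank), π = goodE8.wperm l * repPerm k * (goodE8.wperm l)⁻¹ := by
  refine InvolMono.weyl_invol_induction goodE8
    (P := fun π => ∃ k < 10, ∃ l : List (Fin chevE8.rank), π = goodE8.wperm l * repPerm k * (goodE8.wperm l)⁻¹)
    ?_ ?_ ?_ hπ hsq
  · refine ⟨0, by norm_num, [], ?_⟩
    rw [repPerm, wperm_eq_of_img rep_zero.1]
    simp [toW, Good.wperm]
  · rintro _ i ⟨k, hk, l, rfl⟩ hcm
    obtain ⟨a, ha, he⟩ := refWord_eq_table l.reverse i
    rw [InvolMono.wperm_refWord, goodE8.wperm_reverse, inv_inv] at he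
    set S := rW (rootWords.getD a ([], 0)).1 (rootWords.getD a ([], 0)).2
    have hcomm : goodE8.wperm (toW (S ++ rep k)) = goodE8.wperm (toW (rep k ++ S)) := by
      rw [wperm_toW_append, wperm_toW_append, ← he, ← repPerm]
      calc (goodE8.wperm l)⁻¹ * goodE8.rperm i * goodE8.wperm l * repPerm k
          = (goodE8.wperm l)⁻¹ * (goodE8.rperm i * (goodE8.wperm l * repPerm k * (goodE8.wperm l)⁻¹)) *
              goodE8.wperm l := by group
        _ = _ := by rw [hcm]; group
    obtain ⟨hj, he'⟩ := close_ok k hk a ha (img_eq_of_wperm hcomm)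
    set j := (closeTable.getD (k * 120 + a) (0, [])).1
    set v := (closeTable.getD (k * 120 + a) (0, [])).2
    refine ⟨j, hj, l ++ (toW v).reverse, ?_⟩
    rw [repPerm, repPerm, ← wperm_eq_of_img he', wperm_toW_append, wperm_toW_append, wperm_toW_append, ← he,
      toW_reverse, goodE8.wperm_append, goodE8.wperm_reverse]
    group
  · rintro _ i ⟨k, hk, l, rfl⟩
    refine ⟨k, hk, i :: l, ?_⟩
    rw [goodE8.wperm_cons, _root_.mul_inv_rev, goodE8.rperm_inv]
    group

variable {F : Type*} [Field F]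

open InvolMono in
/-- Conjugation by a representative of `v`. -/
theorem conj_word {n : GL chevE8.Idx F} (hn : n ∈ chevE8.monomialSubgroup F) (hsq : n * n = 1)
    {π : Equiv.Perm (Fin chevE8.nroots)} (ha : goodE8.Acts n π) (l : List (Fin chevE8.rank)) :
    ∃ n' ∈ chevE8.monomialSubgroup F, n' * n' = 1 ∧ GConj n n' ∧
      goodE8.Acts n' (goodE8.wperm l * π * (goodE8.wperm l)⁻¹) := by
  have hw := goodE8.wordN_mem (F := F) l
  have hgc : GConj n (goodE8.wordN l * n * (goodE8.wordN l)⁻¹) := ⟨_, goodE8.monomial_le_group hw, rfl⟩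
  exact ⟨_, mul_mem (mul_mem hw hn) (inv_mem hw), hgc.sq_eq_one hsq, hgc,
    goodE8.acts_mul (goodE8.acts_mul (goodE8.acts_wordN l) ha) (goodE8.acts_inv (goodE8.acts_wordN l))⟩

variable [Fintype F]

theorem two_ne (hF : Odd (Fintype.card F)) : (2 : F) ≠ 0 := fun h => by
  have h3 : ringChar F ≠ 2 := fun e => by
    have h4 : Fintype.card F % 2 = 0 := FiniteField.even_card_of_char_two e
    rw [Nat.odd_iff] at hF
    omega
  exact Ring.two_ne_zero h3 h

open InvolMono in
/-- A monomial involution of the type of a representative is conjugate to an involution of the torus. -/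
theorem descend (hF : Odd (Fintype.card F)) : ∀ k < 10, ∀ n ∈ chevE8.monomialSubgroup F, n * n = 1 →
    goodE8.Acts n (repPerm k) → ∃ h ∈ chevE8.diagonalSubgroup F, h * h = 1 ∧ GConj n h := by
  intro k
  induction k using Nat.strong_induction_on with
  | _ k ih =>
  intro hk n hn hsq hact
  have h2 := two_ne (F := F) hF
  -- the common last step
  have next_ : ∀ (u v : List ℕ) (j : ℕ) (n' : GL chevE8.Idx F), j < k →
      imgN (v ++ (u ++ rep k) ++ v.reverse) = imgN (rep j) →
      n' ∈ chevE8.monomialSubgroup F → n' * n' = 1 → GConj n n' →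
      goodE8.Acts n' (goodE8.wperm (toW u) * repPerm k) →
      ∃ h ∈ chevE8.diagonalSubgroup F, h * h = 1 ∧ GConj n h := by
    intro u v j n' hj he hn' hsq' hgc ha'
    obtain ⟨n'', hn'', hsq'', hgc', ha''⟩ := conj_word hn' hsq' ha' (toW v)
    have he' := wperm_eq_of_img he
    rw [wperm_toW_append, wperm_toW_append, wperm_toW_append, toW_reverse, goodE8.wperm_reverse, ← repPerm,
      ← repPerm] at he'
    rw [he'] at ha''
    obtain ⟨h, h1, h3, h4⟩ := ih j hj (by omega) n'' hn'' hsq'' ha''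
    exact ⟨h, h1, h3, hgc.trans (hgc'.trans h4)⟩
  have negd : ∀ l i, app (rep k) (rootOf l i) = 239 - rootOf l i →
      repPerm k (goodE8.wperm (toW l) (goodE8.sroot (fi i))) =
        goodE8.nroot (goodE8.wperm (toW l) (goodE8.sroot (fi i))) := fun l i h => Fin.ext (by
    rw [nroot_val, repPerm, wperm_app (rep k), rootOf_eq, h])
  rcases move_cover ⟨k, hk⟩ with h0 | hA | hB
  · simp only at h0
    subst h0
    rw [repPerm, wperm_eq_of_img rep_zero.1] at hact
    refine ⟨n, ?_, hsq, GConj.refl _⟩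
    let z : ↥(chevE8.monomialSubgroup F) := ⟨n, hn⟩
    have hz : z ∈ (goodE8.rootAct (F := F)).ker := by
      rw [MonoidHom.mem_ker]
      exact Subtype.ext (goodE8.rootAct_eq (x := z) hact)
    rwa [goodE8.rootAct_ker, Subgroup.mem_subgroupOf] at hz
  · obtain ⟨⟨k', la, ia, lb, ib, res⟩, hp, hk'⟩ := List.mem_map.1 hA
    simp only at hk'
    subst hk'
    obtain ⟨c1, c2, c3, c4, c5, c6, c7⟩ := moveA_ok _ hp
    simp only at c1 c2 c3 c4 c5 c6 c7
    obtain ⟨n', hn', hsq', hgc, ha'⟩ := stepA goodE8 hF h2 hn hsq hact (toW la) (fi ia) (toW lb) (fi ib)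
      (negd la ia c1) (negd lb ib c2) (by rw [rootOf_eq, rootOf_eq]; exact c3)
      (by rw [nroot_val, rootOf_eq, ← toW_rW, wperm_app, rootOf_eq]; exact c4)
    rw [← toW_rW, ← toW_rW, ← toW_append, ← toW_rW] at ha'
    rcases ha' with ha' | ha' | ha'
    · exact next_ _ _ _ n' c5.1 c5.2 hn' hsq' hgc ha'
    · exact next_ _ _ _ n' c6.1 c6.2 hn' hsq' hgc ha'
    · exact next_ _ _ _ n' c7.1 c7.2 hn' hsq' hgc ha'
  · obtain ⟨⟨k', la, ia, r, j, v⟩, hp, hk'⟩ := List.mem_map.1 hB
    simp only at hk'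
    subst hk'
    obtain ⟨c0, c1, c2, c3, c4, c5⟩ := moveB_ok _ hp
    simp only at c0 c1 c2 c3 c4 c5
    obtain ⟨n', hn', hsq', hgc, ha'⟩ := stepB goodE8 h2 hn hsq hact (toW la) (fi ia) (negd la ia c1) ⟨r, c0⟩
      (Fin.ext (by rw [repPerm, ← toW_rW, wperm_app, wperm_app]; exact c2)) (by rw [rootOf_eq]; exact c3)
    rw [← toW_rW] at ha'
    exact next_ _ v j n' c4 c5 hn' hsq' hgc ha'

open InvolMono in
/-- Every involution is conjugate to an involution of the torus. -/
theorem invol_to_torus (hF : Odd (Fintype.card F)) {x : GL chevE8.Idx F} (hx : x ∈ chevE8.group F)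
    (hsq : x * x = 1) : ∃ h ∈ chevE8.diagonalSubgroup F, h * h = 1 ∧ GConj x h := by
  obtain ⟨n, hn, hnsq, hgc⟩ := exists_monomial_conj goodE8 hc hF hx hsq
  obtain ⟨π, hπw, hπ⟩ := goodE8.exists_acts hn
  have hππ : π * π = 1 := by
    refine goodE8.acts_unique (goodE8.acts_mul hπ hπ) ?_
    rw [hnsq]
    exact goodE8.acts_one
  obtain ⟨k, hk, l, rfl⟩ := exists_class hπw hππ
  obtain ⟨n', hn', hsq', hgc', ha'⟩ := conj_word hn hnsq hπ l.reverse
  rw [show goodE8.wperm l.reverse * (goodE8.wperm l * repPerm k * (goodE8.wperm l)⁻¹) *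
      (goodE8.wperm l.reverse)⁻¹ = repPerm k by rw [goodE8.wperm_reverse]; group] at ha'
  obtain ⟨h, hh, hhsq, hgc''⟩ := descend hF k hk n' hn' hsq' ha'
  exact ⟨h, hh, hhsq, hgc.trans (hgc'.trans hgc'')⟩

end CfsgLib.Chev.E8Invol
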