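import Mathlib
import Cfsg.Agent.Lib.Chev.Weyl

/-!
Factorisation of the inversion polynomial of a reflection subgroup of a Weyl group along a chain of subgroups.
-/

set_option autoImplicit false
set_option linter.unusedSectionVars false

namespace CfsgLib.Chev.StabChain

open Cfsg.Lie

variable {D : ChevalleyDatum}

/-- The number of roots of `E` that `π` makes negative. -/
def invCount (E : Finset (Fin D.nroots)) (π : Equiv.Perm (Fin D.nroots)) : ℕ :=
  (E.filter fun r => (π r).val < half D).card

/-- A key of the image of a set of roots. -/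
def key (S : Finset (Fin D.nroots)) (π : Equiv.Perm (Fin D.nroots)) : ℕ := ∑ r ∈ S, 2 ^ (π r).val

/-- All products along a chain. -/
def elems : List (List (Equiv.Perm (Fin D.nroots))) → List (Equiv.Perm (Fin D.nroots))
  | [] => [1]
  | X :: rest => X.flatMap fun x => (elems rest).map (x * ·)

theorem stable_of_closure {gens : List (Equiv.Perm (Fin D.nroots))} {P : Finset (Fin D.nroots)}
    (h : ∀ s ∈ gens, ∀ r ∈ P, s r ∈ P) {y : Equiv.Perm (Fin D.nroots)}
    (hy : y ∈ Submonoid.closure {s | s ∈ gens}) : ∀ r ∈ P, y r ∈ P := by
  induction hy using Submonoid.closure_induction with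
  | mem s hs => exact h s hs
  | one => exact fun r hr => hr
  | mul a b _ _ ha hb => exact fun r hr => ha _ (hb r hr)

theorem map_eq_of_stable {P : Finset (Fin D.nroots)} {y : Equiv.Perm (Fin D.nroots)}
    (h : ∀ r ∈ P, y r ∈ P) : P.map y.toEmbedding = P := by
  refine Finset.eq_of_subset_of_card_le (fun u hu => ?_) (by rw [Finset.card_map])
  obtain ⟨r, hr, rfl⟩ := Finset.mem_map.1 hu
  exact h r hr

namespace Good

variable (g : Good D)
include g

/-- A chain of subgroups with the data that make the inversion count additive. -/
inductive ChainOK (E : Finset (Fin D.nroots)) :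
    List (Equiv.Perm (Fin D.nroots)) → List (List (Equiv.Perm (Fin D.nroots))) → Prop
  | nil : ChainOK E [] []
  | cons (gens next X : List (Equiv.Perm (Fin D.nroots))) (rest : List (List (Equiv.Perm (Fin D.nroots))))
      (P Q S : Finset (Fin D.nroots)) (hrest : ChainOK E next rest) (hsub : ∀ t ∈ next, t ∈ gens)
      (hone : (1 : Equiv.Perm (Fin D.nroots)) ∈ X) (hX : ∀ x ∈ X, x ∈ Submonoid.closure {s | s ∈ gens})
      (hstep : ∀ s ∈ gens, ∀ x ∈ X, ∃ x' ∈ X, s * x = x' ∨ ∃ t ∈ next, s * x = x' * t)
      (hE : E = P ∪ Q) (hPQ : Disjoint P Q) (hXQ : ∀ x ∈ X, ∀ r ∈ Q, half D ≤ (x r).val)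
      (hP : ∀ t ∈ next, ∀ r ∈ P, t r ∈ P) (hQ : ∀ t ∈ next, ∀ r ∈ Q, t r ∈ Q ∨ g.nroot (t r) ∈ Q)
      (hS : ∀ t ∈ next, ∀ r ∈ S, t r ∈ S) (hkey : (X.map (key S)).Nodup) : ChainOK E gens (X :: rest)

theorem nroot_comm {gens : List (Equiv.Perm (Fin D.nroots))} (hg : ∀ s ∈ gens, s ∈ g.weyl)
    {y : Equiv.Perm (Fin D.nroots)} (hy : y ∈ Submonoid.closure {s | s ∈ gens}) (r : Fin D.nroots) :
    y (g.nroot r) = g.nroot (y r) := by
  have hw : y ∈ g.weyl := by
    have : Submonoid.closure {s | s ∈ gens} ≤ g.weyl.toSubmonoid := Submonoid.closure_le.2 hg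
    exact this hy
  obtain ⟨l, rfl⟩ := g.exists_wperm hw
  exact g.wperm_nroot l r

/-- A chain enumerates the subgroup without repetition, and the inversion polynomial factorises. -/
theorem chain_spec {E : Finset (Fin D.nroots)} (hEpos : ∀ r ∈ E, half D ≤ r.val)
    {gens : List (Equiv.Perm (Fin D.nroots))} {Xs : List (List (Equiv.Perm (Fin D.nroots)))}
    (h : ChainOK g E gens Xs) (hg : ∀ s ∈ gens, s ∈ g.weyl) :
    (∀ π, π ∈ elems Xs ↔ π ∈ Submonoid.closure {s | s ∈ gens}) ∧ (elems Xs).Nodup ∧
      ∀ q : ℕ, ((elems Xs).map fun π => q ^ invCount E π).sum =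
        (Xs.map fun X => (X.map fun x => q ^ invCount E x).sum).prod := by
  induction h with
  | nil =>
    refine ⟨fun π => ?_, List.nodup_singleton _, fun q => ?_⟩
    · simp [elems]
    · have : invCount E (1 : Equiv.Perm (Fin D.nroots)) = 0 := by
        rw [invCount, Finset.card_eq_zero, Finset.filter_eq_empty_iff]
        intro r hr h'
        have := hEpos r hr
        simp at h'
        omega
      simp [elems, this]
  | cons gens next X rest P Q S hrest hsub hone hX hstep hE hPQ hXQ hP hQ hS hkey ih =>
    obtain ⟨hmem, hnd, hsum⟩ := ih fun t ht => hg t (hsub t ht)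
    have hle : Submonoid.closure {s | s ∈ next} ≤ Submonoid.closure {s | s ∈ gens} :=
      Submonoid.closure_mono fun t ht => hsub t ht
    have hP' : ∀ y ∈ Submonoid.closure {s | s ∈ next}, ∀ r ∈ P, y r ∈ P := fun y hy => stable_of_closure hP hy
    have hQ' : ∀ y ∈ Submonoid.closure {s | s ∈ next}, ∀ r ∈ Q, y r ∈ Q ∨ g.nroot (y r) ∈ Q := by
      intro y hy
      induction hy using Submonoid.closure_induction with
      | mem s hs => exact hQ s hs
      | one => exact fun r hr => Or.inl hr
      | mul a b ha hb iha ihb =>
        intro r hr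
        have hac := nroot_comm g hg (hle ha)
        rcases ihb r hr with h1 | h1
        · exact iha _ h1
        · have h2 := iha _ h1
          rw [hac, g.nroot_nroot] at h2
          exact h2.symm
    -- the inversion count is additive
    have hadd : ∀ x ∈ X, ∀ y ∈ Submonoid.closure {s | s ∈ next},
        invCount E (x * y) = invCount E x + invCount E y := by
      intro x hx y hy
      have hxc := nroot_comm g hg (hX x hx)
      have hsplit : ∀ π : Equiv.Perm (Fin D.nroots), invCount E π =
          (P.filter fun r => (π r).val < half D).card + (Q.filter fun r => (π r).val < half D).card := fun π => by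
        rw [invCount, hE, Finset.filter_union,
          Finset.card_union_of_disjoint (Finset.disjoint_filter_filter hPQ)]
      have hx0 : (Q.filter fun r => (x r).val < half D).card = 0 := by
        rw [Finset.card_eq_zero, Finset.filter_eq_empty_iff]
        intro r hr h'
        have := hXQ x hx r hr
        omega
      have hy0 : (P.filter fun r => (y r).val < half D).card = 0 := by
        rw [Finset.card_eq_zero, Finset.filter_eq_empty_iff]
        intro r hr h'
        have := hEpos (y r) (hE ▸ Finset.mem_union_left _ (hP' y hy r hr))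
        omega
      have hPe : (P.filter fun r => ((x * y) r).val < half D).card = (P.filter fun r => (x r).val < half D).card := by
        conv_rhs => rw [← map_eq_of_stable (hP' y hy), Finset.filter_map, Finset.card_map]
        rfl
      have hQe : (Q.filter fun r => ((x * y) r).val < half D) = Q.filter fun r => (y r).val < half D := by
        refine Finset.filter_congr fun r hr => ?_
        rw [Equiv.Perm.mul_apply]
        rcases hQ' y hy r hr with h1 | h1
        · have := hXQ x hx _ h1
          have := hEpos _ (hE ▸ Finset.mem_union_right _ h1)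
          omega
        · have h2 := hXQ x hx _ h1
          rw [hxc, g.nroot_pos_iff] at h2
          have h3 := hEpos _ (hE ▸ Finset.mem_union_right _ h1)
          rw [g.nroot_pos_iff] at h3
          omega
      rw [hsplit (x * y), hsplit x, hsplit y, hPe, hQe, hx0, hy0]
      ring
    refine ⟨fun π => ?_, ?_, fun q => ?_⟩
    · simp only [elems, List.mem_flatMap, List.mem_map]
      constructor
      · rintro ⟨x, hx, y, hy, rfl⟩
        exact mul_mem (hX x hx) (hle ((hmem y).1 hy))
      · intro hπ
        induction hπ using Submonoid.closure_induction_left with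
        | one => exact ⟨1, hone, 1, (hmem 1).2 (one_mem _), one_mul 1⟩
        | mul_left s hs z hz ihz =>
          obtain ⟨x, hx, y, hy, rfl⟩ := ihz
          obtain ⟨x', hx', he | ⟨t, ht, he⟩⟩ := hstep s hs x hx
          · exact ⟨x', hx', y, hy, by rw [← mul_assoc, he]⟩
          · exact ⟨x', hx', t * y, (hmem _).2 (mul_mem (Submonoid.subset_closure ht) ((hmem y).1 hy)),
              by rw [← mul_assoc, ← mul_assoc, he]⟩
    · rw [elems, List.nodup_flatMap]
      refine ⟨fun x _ => hnd.map (mul_right_injective x), ?_⟩
      have hkey' : ∀ x y, y ∈ Submonoid.closure {s | s ∈ next} → key S (x * y) = key S x := fun x y hy => by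
        conv_rhs => rw [key, ← map_eq_of_stable (stable_of_closure hS hy), Finset.sum_map]
        rfl
      rw [List.Nodup, List.pairwise_map] at hkey
      refine hkey.imp fun {a b} hab π ha hb => hab ?_
      obtain ⟨y, hy, rfl⟩ := List.mem_map.1 ha
      obtain ⟨y', hy', he⟩ := List.mem_map.1 hb
      rw [← hkey' a y ((hmem y).1 hy), ← hkey' b y' ((hmem y').1 hy'), he]
    · rw [elems, List.map_cons, List.prod_cons, ← hsum q, List.map_flatMap, List.flatMap_def, List.sum_flatten]
      simp only [List.map_map, Function.comp_def]
      rw [← List.sum_map_mul_right]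
      refine congrArg List.sum (List.map_congr_left fun x hx => ?_)
      rw [← List.sum_map_mul_left]
      refine congrArg List.sum (List.map_congr_left fun y hy => ?_)
      rw [hadd x hx y ((hmem y).1 hy), pow_add]

end Good

end CfsgLib.Chev.StabChain
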