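import Mathlib
import Cfsg.Agent.Lib.Chev.CardGroup
import Cfsg.Agent.Lib.Chev.TwistH

/-!
The centraliser of `h_r(-1)` in a finite Chevalley group: canonical form and order.
-/

set_option autoImplicit false
set_option linter.unusedSectionVars false
set_option maxHeartbeats 800000

namespace CfsgLib.Chev.InvolTorus

open Cfsg.Lie

variable {D : ChevalleyDatum} {F : Type*} [Field F] (g : Good D)
include g

/-- The torus involution of a root. -/
noncomputable def tauOf (r₀ : ℕ) : GL D.Idx F := g.hG r₀ (-1)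

theorem tauOf_sq (r₀ : ℕ) : (tauOf g r₀ : GL D.Idx F) * tauOf g r₀ = 1 := by
  rw [tauOf, ← map_mul]; simp

omit g in
theorem units_neg_one_zpow (h2 : (2 : F) ≠ 0) {a b : ℤ} :
    (-1 : Fˣ) ^ a = (-1) ^ b ↔ a % 2 = b % 2 := by
  have hne : (-1 : Fˣ) ≠ 1 := fun h => h2 (by
    have e : (-1 : F) = 1 := congrArg Units.val h
    linear_combination -e)
  rcases Int.even_or_odd a with ha | ha <;> rcases Int.even_or_odd b with hb | hb
  · simp [ha.neg_one_zpow, hb.neg_one_zpow, Int.even_iff.1 ha, Int.even_iff.1 hb]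
  · simp [ha.neg_one_zpow, hb.neg_one_zpow, Int.even_iff.1 ha, Int.odd_iff.1 hb, hne.symm]
  · simp [ha.neg_one_zpow, hb.neg_one_zpow, Int.odd_iff.1 ha, Int.even_iff.1 hb, hne]
  · simp [ha.neg_one_zpow, hb.neg_one_zpow, Int.odd_iff.1 ha, Int.odd_iff.1 hb]

theorem hG_neg_one_eq_iff (h2 : (2 : F) ≠ 0) (hinj : Function.Injective (torHom D F))
    {a b : ℕ} (ha : a < D.nroots) (hb : b < D.nroots) :
    g.hG (F := F) a (-1) = g.hG b (-1) ↔ ∀ j : Fin D.rank, corootCo D a j % 2 = corootCo D b j % 2 := by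
  rw [← g.torHom_pow_coroot ha, ← g.torHom_pow_coroot hb, hinj.eq_iff, funext_iff]
  exact forall_congr' fun j => units_neg_one_zpow h2

theorem monomial_conj_tau {r₀ : Fin D.nroots} {n : GL D.Idx F} (hn : n ∈ D.monomialSubgroup F)
    {π : Equiv.Perm (Fin D.nroots)} (ha : g.Acts n π) :
    n * tauOf g r₀ * n⁻¹ = g.hG (π r₀) (-1) := by
  obtain ⟨l, hl⟩ := g.exists_wordN hn
  have hact := g.acts_mul (g.acts_wordN l) (g.acts_diagonal hl)
  rw [mul_inv_cancel_left, mul_one] at hact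
  rw [g.acts_unique ha hact, ← g.wordN_conj_hG]
  calc n * tauOf g r₀ * n⁻¹
      = g.wordN l * (((g.wordN l)⁻¹ * n) * tauOf g r₀ * ((g.wordN l)⁻¹ * n)⁻¹) * (g.wordN l)⁻¹ := by group
    _ = _ := by
      rw [g.diagonal_comm hl (show tauOf g r₀ ∈ D.diagonalSubgroup F from g.hG_mem r₀.2 _),
        mul_inv_cancel_right]
      rfl

theorem tau_conj_xG {r₀ s : ℕ} (hs : s < D.nroots) (t : F) :
    tauOf g r₀ * g.xG s t * (tauOf g r₀)⁻¹ = g.xG s ((((-1 : Fˣ) ^ pair D r₀ s : Fˣ) : F) * t) :=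
  g.hG_conj_xG hs _ t

theorem tau_conj_rootGen {r₀ : ℕ} (hr₀ : r₀ < D.nroots) (S : Set ℕ) {y : GL D.Idx F}
    (hy : y ∈ rootGen D F S) : tauOf g r₀ * y * (tauOf g r₀)⁻¹ ∈ rootGen D F S :=
  (Subgroup.mem_normalizer_iff.1 (g.diagonal_le_normalizer_rootGen S (g.hG_mem hr₀ _)) y).1 hy

omit g in
theorem mem_cent {a y : GL D.Idx F} : y ∈ Subgroup.centralizer ({a} : Set (GL D.Idx F)) ↔ a * y * a⁻¹ = y := by
  rw [Subgroup.mem_centralizer_singleton_iff, mul_inv_eq_iff_eq_mul]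
  exact ⟨fun h => h.symm, fun h => h.symm⟩

/-- The fixed part of `U_w⁻` has order `q ^ (number of even inversions)`. -/
theorem card_fixed_Ici [Fintype F] (hc : HasComm D) (h2 : (2 : F) ≠ 0) {r₀ : ℕ} (hr₀ : r₀ < D.nroots)
    (π : Equiv.Perm (Fin D.nroots)) {n : GL D.Idx F} (hn : g.Acts n π) :
    ∀ k m, D.nroots - m = k → half D ≤ m →
      Nat.card ↥(rootGen D F (Set.Ici m ∩ minusSet π) ⊓ Subgroup.centralizer ({tauOf g r₀} : Set (GL D.Idx F))) =
      Fintype.card F ^ Nat.card {r : Fin D.nroots // m ≤ r.val ∧ (π r).val < half D ∧ pair D r₀ r % 2 = 0} := by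
  intro k
  induction k with
  | zero =>
    intro m hk _
    have h1 : rootGen D F (Set.Ici m ∩ minusSet π) = ⊥ := by
      refine le_bot_iff.1 ((g.rootGen_mono fun r hr _ => hr.1).trans ?_)
      rw [g.Ici_empty (by omega)]
    have h2 : IsEmpty {r : Fin D.nroots // m ≤ r.val ∧ (π r).val < half D ∧ pair D r₀ r % 2 = 0} :=
      ⟨fun ⟨r, hr, _⟩ => by have := r.2; omega⟩
    rw [h1, bot_inf_eq, Subgroup.card_bot, Nat.card_of_isEmpty, pow_zero]
  | succ k ih =>
    intro m hk hm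
    have hmn : m < D.nroots := by omega
    have hIH := ih (m + 1) (by omega) (by omega)
    have hsub : rootGen D F (Set.Ici (m + 1) ∩ minusSet π) ≤ rootGen D F (Set.Ici m ∩ minusSet π) :=
      g.rootGen_mono fun r hr _ => ⟨Nat.le_of_succ_le hr.1, hr.2⟩
    have hle : ∀ {y : GL D.Idx F}, y ∈ rootGen D F (Set.Ici (m + 1) ∩ minusSet π) →
        y ∈ rootGen D F (Set.Ici (m + 1)) := fun hy => g.rootGen_mono (fun r hr _ => hr.1) hy
    set τ := tauOf (F := F) g r₀ with hτ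
    -- the two coordinates of a fixed element
    have hfix : ∀ a : F, ∀ y ∈ rootGen D F (Set.Ici (m + 1)), τ * (g.xG m a * y) * τ⁻¹ = g.xG m a * y →
        (((-1 : Fˣ) ^ pair D r₀ m : Fˣ) : F) * a = a ∧ τ * y * τ⁻¹ = y := by
      intro a y hy h
      rw [show τ * (g.xG m a * y) * τ⁻¹ = (τ * g.xG m a * τ⁻¹) * (τ * y * τ⁻¹) by group, hτ,
        tau_conj_xG g hmn] at h
      exact g.Ici_unique hm hmn (tau_conj_rootGen g hr₀ _ hy) hy h
    by_cases hS : (π ⟨m, hmn⟩).val < half D ∧ pair D r₀ m % 2 = 0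
    · have hmS : m ∈ Set.Ici m ∩ minusSet π := ⟨le_refl m, hmn, hm, hS.1⟩
      have hev : ((-1 : Fˣ) ^ pair D r₀ m) = 1 := (Int.even_iff.2 hS.2).neg_one_zpow
      have hxm : ∀ a : F, g.xG m a ∈ Subgroup.centralizer ({τ} : Set (GL D.Idx F)) := fun a => by
        rw [mem_cent, hτ, tau_conj_xG g hmn, hev, Units.val_one, one_mul]
      let e : F × ↥(rootGen D F (Set.Ici (m + 1) ∩ minusSet π) ⊓ Subgroup.centralizer ({τ} : Set (GL D.Idx F))) →
          ↥(rootGen D F (Set.Ici m ∩ minusSet π) ⊓ Subgroup.centralizer ({τ} : Set (GL D.Idx F))) := fun p =>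
        ⟨g.xG m p.1 * p.2, mul_mem ⟨g.mem_rootGen hmn hmS _, hxm _⟩ ⟨hsub p.2.2.1, p.2.2.2⟩⟩
      have hbij : Function.Bijective e := by
        refine ⟨fun p q h => ?_, fun x => ?_⟩
        · obtain ⟨h1, h3⟩ := g.Ici_unique hm hmn (hle p.2.2.1) (hle q.2.2.1) (congrArg Subtype.val h)
          exact Prod.ext h1 (Subtype.ext h3)
        · obtain ⟨a, y, hy, he⟩ := g.Ici_step hc hm hmn
            (g.rootGen_mono (T := Set.Ici m) (fun r hr _ => hr.1) x.2.1)
          have hy' : y ∈ rootGen D F (minusSet π) := by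
            have := mul_mem (inv_mem (g.mem_rootGen hmn (S := minusSet π) hmS.2 a))
              (g.rootGen_mono (T := minusSet π) (fun r hr _ => hr.2) x.2.1)
            rwa [he, inv_mul_cancel_left] at this
          have hx := mem_cent.1 x.2.2
          rw [he] at hx
          exact ⟨(a, ⟨y, g.minus_inf_Ici hc π hn (by omega) hy hy', mem_cent.2 (hfix a y hy hx).2⟩),
            Subtype.ext he.symm⟩
      rw [← Nat.card_eq_of_bijective e hbij, Nat.card_prod, hIH, Nat.card_eq_fintype_card,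
        ← pow_succ']
      congr 1
      classical
      rw [Nat.card_eq_fintype_card, Nat.card_eq_fintype_card, Fintype.card_subtype,
        Fintype.card_subtype, ← Finset.card_insert_of_notMem (a := (⟨m, hmn⟩ : Fin D.nroots))
          (by simp)]
      congr 1
      ext r
      simp only [Finset.mem_insert, Finset.mem_filter, Finset.mem_univ, true_and, Fin.ext_iff]
      constructor
      · rintro (h | ⟨h1, h2⟩)
        · obtain rfl : r = ⟨m, hmn⟩ := Fin.ext h
          exact ⟨le_refl m, hS⟩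
        · exact ⟨by omega, h2⟩
      · rintro ⟨h1, h2⟩
        by_cases hr : r.val = m
        · exact Or.inl hr
        · exact Or.inr ⟨by omega, h2⟩
    · have h1 : rootGen D F (Set.Ici m ∩ minusSet π) ⊓ Subgroup.centralizer ({τ} : Set (GL D.Idx F)) =
          rootGen D F (Set.Ici (m + 1) ∩ minusSet π) ⊓ Subgroup.centralizer ({τ} : Set (GL D.Idx F)) := by
        refine le_antisymm ?_ (inf_le_inf_right _ hsub)
        rintro x ⟨hx1, hx2⟩
        refine ⟨?_, hx2⟩
        obtain ⟨a, y, hy, he⟩ := g.Ici_step hc hm hmn (g.rootGen_mono (T := Set.Ici m) (fun r hr _ => hr.1) hx1)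
        by_cases hm' : (π ⟨m, hmn⟩).val < half D
        · have hodd : pair D r₀ m % 2 = 1 := by
            have : ¬ pair D r₀ m % 2 = 0 := fun h => hS ⟨hm', h⟩
            omega
          have hx := mem_cent.1 hx2
          rw [he] at hx
          have ha := (hfix a y hy hx).1
          rw [(Int.odd_iff.2 hodd).neg_one_zpow, Units.val_neg, Units.val_one] at ha
          have ha0 : a = 0 := (mul_eq_zero.1 (show (2 : F) * a = 0 by linear_combination -ha)).resolve_left h2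
          rw [ha0, g.xG_zero, one_mul] at he
          rw [he]
          exact g.minus_inf_Ici hc π hn (by omega) hy
            (he ▸ g.rootGen_mono (T := minusSet π) (fun r hr _ => hr.2) hx1)
        · refine g.rootGen_mono (T := Set.Ici (m + 1) ∩ minusSet π) (fun r hr hr' => ⟨?_, hr.2⟩) hx1
          obtain ⟨hr1, _, _, hr3⟩ := hr
          rcases Nat.lt_or_ge m r with h | h
          · exact h
          · obtain rfl : r = m := le_antisymm h hr1
            exact absurd hr3 hm'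
      rw [h1, hIH]
      congr 1
      refine Nat.card_congr (Equiv.subtypeEquivRight fun r => ⟨fun h => ⟨by omega, h.2⟩, fun h => ⟨?_, h.2⟩⟩)
      rcases Nat.lt_or_ge m r with hh | hh
      · exact hh
      · obtain rfl : r = ⟨m, hmn⟩ := Fin.ext (le_antisymm hh h.1)
        exact absurd h.2 hS

/-- `|U_w⁻ ∩ C(τ)|`. -/
theorem card_fixed_minus [Fintype F] (hc : HasComm D) (h2 : (2 : F) ≠ 0) {r₀ : ℕ} (hr₀ : r₀ < D.nroots)
    (π : Equiv.Perm (Fin D.nroots)) {n : GL D.Idx F} (hn : g.Acts n π) :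
    Nat.card ↥(rootGen D F (minusSet π) ⊓ Subgroup.centralizer ({tauOf g r₀} : Set (GL D.Idx F))) =
      Fintype.card F ^
        Nat.card {r : Fin D.nroots // half D ≤ r.val ∧ (π r).val < half D ∧ pair D r₀ r % 2 = 0} := by
  have h1 : rootGen D F (minusSet π) = rootGen D F (Set.Ici (half D) ∩ minusSet π) := by
    congr 1
    exact (Set.inter_eq_right.2 fun r hr => by obtain ⟨_, h, _⟩ := hr; exact h).symm
  rw [h1, card_fixed_Ici g hc h2 hr₀ π hn _ (half D) rfl le_rfl]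

/-- `|U ∩ C(τ)|`. -/
theorem card_fixed_pos [Fintype F] (hc : HasComm D) (h2 : (2 : F) ≠ 0) {r₀ : ℕ} (hr₀ : r₀ < D.nroots) :
    Nat.card ↥(D.posUnipotent F ⊓ Subgroup.centralizer ({tauOf g r₀} : Set (GL D.Idx F))) =
      Fintype.card F ^ Nat.card {r : Fin D.nroots // half D ≤ r.val ∧ pair D r₀ r % 2 = 0} := by
  obtain ⟨l, hl⟩ := g.exists_longest
  have h1 : rootGen D F (minusSet (g.wperm l)) = D.posUnipotent F := by
    refine le_antisymm (g.minus_le_pos _) ?_
    rw [g.posUnipotent_eq]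
    exact g.rootGen_mono fun r hr hr' => ⟨hr', hr, hl ⟨r, hr'⟩ hr⟩
  rw [← h1, card_fixed_minus g hc h2 hr₀ _ (g.acts_wordN (F := F) l)]
  congr 1
  exact Nat.card_congr (Equiv.subtypeEquivRight fun r =>
    ⟨fun h => ⟨h.1, h.2.2⟩, fun h => ⟨h.1, hl r h.1, h.2⟩⟩)

/-- An element commuting with `τ` commutes part by part. -/
theorem commute_parts {r₀ : ℕ} (hr₀ : r₀ < D.nroots) {v h n u : GL D.Idx F} (hv : v ∈ D.posUnipotent F)
    (hh : h ∈ D.diagonalSubgroup F) (hn : n ∈ D.monomialSubgroup F) {π : Equiv.Perm (Fin D.nroots)}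
    (hπ : g.Acts n π) (hu : u ∈ rootGen D F (minusSet π))
    (hcx : Commute (v * h * n * u) (tauOf g r₀)) :
    tauOf g r₀ * v * (tauOf g r₀)⁻¹ = v ∧ tauOf g r₀ * n * (tauOf g r₀)⁻¹ = n ∧
      tauOf g r₀ * u * (tauOf g r₀)⁻¹ = u := by
  set tau := tauOf (F := F) g r₀ with htau
  have ht : tau ∈ D.diagonalSubgroup F := g.hG_mem hr₀ _
  have hv' : tau * v * tau⁻¹ ∈ D.posUnipotent F :=
    (Subgroup.mem_normalizer_iff.1 (g.diagonal_le_normalizer_pos ht) v).1 hv
  have hu' : tau * u * tau⁻¹ ∈ rootGen D F (minusSet π) :=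
    (Subgroup.mem_normalizer_iff.1 (g.diagonal_le_normalizer_rootGen _ ht) u).1 hu
  have hk : tau * n * tau⁻¹ * n⁻¹ ∈ D.diagonalSubgroup F := by
    rw [show tau * n * tau⁻¹ * n⁻¹ = tau * (n * tau⁻¹ * n⁻¹) by group]
    exact mul_mem ht (g.diag_conj hn (inv_mem ht))
  have e : (v * h) * n * u = (tau * v * tau⁻¹ * (h * (tau * n * tau⁻¹ * n⁻¹))) * n * (tau * u * tau⁻¹) := by
    have e0 : tau * (v * h * n * u) * tau⁻¹ = v * h * n * u := by rw [← hcx.eq, mul_inv_cancel_right]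
    have e1 : tau * h * tau⁻¹ = h := by rw [g.diagonal_comm ht hh, mul_inv_cancel_right]
    calc v * h * n * u = tau * (v * h * n * u) * tau⁻¹ := e0.symm
      _ = tau * v * tau⁻¹ * (tau * h * tau⁻¹) * (tau * n * tau⁻¹) * (tau * u * tau⁻¹) := by group
      _ = tau * v * tau⁻¹ * h * (tau * n * tau⁻¹) * (tau * u * tau⁻¹) := by rw [e1]
      _ = _ := by group
  obtain ⟨e1, e2⟩ := g.canonical_unique (g.mem_borel.2 ⟨v, hv, h, hh, rfl⟩)
    (g.mem_borel.2 ⟨_, hv', _, mul_mem hh hk, rfl⟩) hπ hu hu' e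
  have hvv : (tau * v * tau⁻¹)⁻¹ * v ∈ D.posUnipotent F ⊓ D.diagonalSubgroup F := by
    refine Subgroup.mem_inf.2 ⟨mul_mem (inv_mem hv') hv, ?_⟩
    rw [show (tau * v * tau⁻¹)⁻¹ * v = (tau * v * tau⁻¹)⁻¹ * (v * h) * h⁻¹ by group, e1,
      show (tau * v * tau⁻¹)⁻¹ * (tau * v * tau⁻¹ * (h * (tau * n * tau⁻¹ * n⁻¹))) * h⁻¹ =
        h * (tau * n * tau⁻¹ * n⁻¹) * h⁻¹ by group]
    exact mul_mem (mul_mem hh hk) (inv_mem hh)
  rw [g.pos_inf_diagonal, Subgroup.mem_bot, inv_mul_eq_one] at hvv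
  rw [hvv] at e1
  refine ⟨hvv, ?_, e2.symm⟩
  have := mul_left_cancel e1
  rw [left_eq_mul, mul_inv_eq_one] at this
  exact this

/-- The order of the centraliser of `τ`. -/
theorem card_centralizer [Fintype F] (hc : HasComm D) (h2 : (2 : F) ≠ 0)
    (hinj : Function.Injective (torHom D F)) (r₀ : Fin D.nroots) (W : Finset (Equiv.Perm (Fin D.nroots)))
    (hW : ∀ π, π ∈ W ↔ π ∈ g.weyl ∧ ∀ j : Fin D.rank, corootCo D (π r₀) j % 2 = corootCo D r₀ j % 2)
    (τ : ↥(D.group F)) (hτ : (τ : GL D.Idx F) = tauOf g r₀) :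
    Nat.card (Subgroup.centralizer ({τ} : Set ↥(D.group F))) =
      Fintype.card F ^ Nat.card {r : Fin D.nroots // half D ≤ r.val ∧ pair D r₀ r % 2 = 0} *
        Nat.card (D.diagonalSubgroup F) *
        ∑ π ∈ W, Fintype.card F ^
          Nat.card {r : Fin D.nroots // half D ≤ r.val ∧ (π r).val < half D ∧ pair D r₀ r % 2 = 0} := by
  classical
  choose word hword using fun w : ↥W => g.exists_wperm ((hW w.1).1 w.2).1
  have hn : ∀ w : ↥W, g.Acts (g.wordN (word w) : GL D.Idx F) w.1 := fun w => by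
    have := g.acts_wordN (F := F) (word w)
    rwa [hword w] at this
  have hfixn : ∀ w : ↥W, Commute (g.wordN (word w)) (tauOf (F := F) g r₀) := fun w => by
    have h := monomial_conj_tau (F := F) g (r₀ := r₀) (g.wordN_mem (word w)) (hn w)
    rw [(hG_neg_one_eq_iff g h2 hinj (w.1 r₀).2 r₀.2).2 ((hW w.1).1 w.2).2] at h
    exact mul_inv_eq_iff_eq_mul.1 h
  let C0 : Subgroup (GL D.Idx F) := Subgroup.centralizer ({tauOf g r₀} : Set (GL D.Idx F))
  have hC : ∀ x : ↥(D.group F), x ∈ Subgroup.centralizer ({τ} : Set ↥(D.group F)) ↔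
      (x : GL D.Idx F) ∈ C0 := fun x => by
    rw [Subgroup.mem_centralizer_singleton_iff, Subgroup.mem_centralizer_singleton_iff, ← hτ]
    exact ⟨fun h => congrArg Subtype.val h, fun h => Subtype.ext h⟩
  have hT : ∀ h ∈ D.diagonalSubgroup F, h ∈ C0 := fun h hh => mem_cent.2 (by
    rw [g.diagonal_comm (show tauOf g r₀ ∈ D.diagonalSubgroup F from g.hG_mem r₀.2 _) hh, mul_inv_cancel_right])
  let e : (↥(D.posUnipotent F ⊓ C0) × ↥(D.diagonalSubgroup F)) ×
      (Σ w : ↥W, ↥(rootGen D F (minusSet w.1) ⊓ C0)) →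
      ↥(Subgroup.centralizer ({τ} : Set ↥(D.group F))) := fun p =>
    ⟨⟨(p.1.1 : GL D.Idx F) * (p.1.2 : GL D.Idx F) * g.wordN (word p.2.1) * (p.2.2 : GL D.Idx F),
      mul_mem (mul_mem (mul_mem (g.posUnipotent_le_group p.1.1.2.1) (g.diagonal_le_group p.1.2.2))
        (g.monomial_le_group (g.wordN_mem _))) (g.posUnipotent_le_group (g.minus_le_pos _ p.2.2.2.1))⟩,
      (hC _).2 (mul_mem (mul_mem (mul_mem p.1.1.2.2 (hT _ p.1.2.2))
        (mem_cent.2 (by rw [(hfixn p.2.1).symm.eq, mul_inv_cancel_right]))) p.2.2.2.2)⟩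
  have hbij : Function.Bijective e := by
    refine ⟨?_, ?_⟩
    · rintro ⟨⟨v, h⟩, w, u⟩ ⟨⟨v', h'⟩, w', u'⟩ he
      have he' : (v : GL D.Idx F) * (h : GL D.Idx F) * g.wordN (word w) * (u : GL D.Idx F) =
          (v' : GL D.Idx F) * (h' : GL D.Idx F) * g.wordN (word w') * (u' : GL D.Idx F) :=
        congrArg (fun z : ↥(Subgroup.centralizer ({τ} : Set ↥(D.group F))) =>
          ((z : ↥(D.group F)) : GL D.Idx F)) he
      have hb := g.mem_borel.2 ⟨_, v.2.1, _, h.2, rfl⟩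
      have hb' := g.mem_borel.2 ⟨_, v'.2.1, _, h'.2, rfl⟩
      have h1 := g.canonical_coset hc hb hb' (g.wordN_mem _) (g.wordN_mem _)
        (Subgroup.mem_sup_left (g.minus_le_pos _ u.2.1)) (Subgroup.mem_sup_left (g.minus_le_pos _ u'.2.1)) he'
      have h3 := g.acts_unique (g.acts_mul (g.acts_inv (hn w)) (hn w')) (g.acts_diagonal h1)
      obtain rfl : w = w' := Subtype.ext (inv_mul_eq_one.1 h3)
      obtain ⟨e1, e2⟩ := g.canonical_unique hb hb' (hn w) u.2.1 u'.2.1 he'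
      have h4 : (v' : GL D.Idx F)⁻¹ * v ∈ D.posUnipotent F ⊓ D.diagonalSubgroup F := by
        refine Subgroup.mem_inf.2 ⟨mul_mem (inv_mem v'.2.1) v.2.1, ?_⟩
        rw [show (v' : GL D.Idx F)⁻¹ * v = (v' : GL D.Idx F)⁻¹ * ((v : GL D.Idx F) * (h : GL D.Idx F)) * (h : GL D.Idx F)⁻¹ by group, e1,
          inv_mul_cancel_left]
        exact mul_mem h'.2 (inv_mem h.2)
      rw [g.pos_inf_diagonal, Subgroup.mem_bot, inv_mul_eq_one] at h4
      obtain rfl : v = v' := Subtype.ext h4.symm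
      obtain rfl : h = h' := Subtype.ext (mul_left_cancel e1)
      rw [Subtype.ext e2]
    · rintro ⟨⟨x, hxG⟩, hx⟩
      have hx' : x ∈ C0 := (hC _).1 hx
      obtain ⟨b, hb, n, hnm, π, hπw, hπ, u, hu, rfl⟩ := g.exists_canonical hc hxG
      obtain ⟨v, hv, h, hh, rfl⟩ := g.mem_borel.1 hb
      obtain ⟨f1, f2, f3⟩ := commute_parts g r₀.2 hv hh hnm hπ hu (Subgroup.mem_centralizer_singleton_iff.1 hx')
      have hst : π ∈ W := by
        refine (hW π).2 ⟨hπw, (hG_neg_one_eq_iff g h2 hinj (π r₀).2 r₀.2).1 ?_⟩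
        have h3 := monomial_conj_tau g (r₀ := r₀) hnm hπ
        rw [← h3, show n * tauOf g r₀ = tauOf g r₀ * n from (mul_inv_eq_iff_eq_mul.1 f2).symm, mul_inv_cancel_right]
        rfl
      let w : ↥W := ⟨π, hst⟩
      have hd : n * (g.wordN (F := F) (word w))⁻¹ ∈ D.diagonalSubgroup F := by
        have hm : n * (g.wordN (F := F) (word w))⁻¹ ∈ D.monomialSubgroup F :=
          mul_mem hnm (inv_mem (g.wordN_mem _))
        let z : ↥(D.monomialSubgroup F) := ⟨n * (g.wordN (F := F) (word w))⁻¹, hm⟩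
        have ha : g.Acts (z : GL D.Idx F) (π * π⁻¹) := g.acts_mul hπ (g.acts_inv (hn w))
        rw [mul_inv_cancel] at ha
        have : z ∈ (g.rootAct (F := F)).ker := by
          rw [MonoidHom.mem_ker]
          exact Subtype.ext (g.rootAct_eq ha)
        rw [g.rootAct_ker, Subgroup.mem_subgroupOf] at this
        exact this
      refine ⟨((⟨v, hv, mem_cent.2 f1⟩, ⟨h * (n * (g.wordN (F := F) (word w))⁻¹), mul_mem hh hd⟩),
        ⟨w, ⟨u, hu, mem_cent.2 f3⟩⟩), Subtype.ext (Subtype.ext ?_)⟩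
      show v * (h * (n * (g.wordN (F := F) (word w))⁻¹)) * g.wordN (word w) * u = v * h * n * u
      group
  rw [← Nat.card_eq_of_bijective e hbij, Nat.card_prod, Nat.card_prod, Nat.card_sigma,
    card_fixed_pos g hc h2 r₀.2, Finset.sum_coe_sort W
      (fun π => Nat.card ↥(rootGen D F (minusSet π) ⊓ C0))]
  congr 1
  refine Finset.sum_congr rfl fun π hπ => ?_
  exact card_fixed_minus g hc h2 r₀.2 π (hn ⟨π, hπ⟩)

end CfsgLib.Chev.InvolTorus
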