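import Mathlib
import Cfsg.Agent.Lib.Chev.E8InvolWeyl
import Cfsg.Agent.Lib.Chev.InvolTorusCentList
import Cfsg.Agent.Lib.Chev.InvolStabChain
import Cfsg.Agent.Lib.Chev.OrderTables
import Cfsg.Agent.Lib.Chev.StTorus

/-!
E₈(q), q odd: the two classes of involutions of the torus and the orders of their centralisers.
-/

set_option autoImplicit false
set_option linter.unusedSectionVars false
set_option maxRecDepth 100000
set_option maxHeartbeats 800000

namespace CfsgLib.Chev.E8Invol

open Cfsg.Lie

/-- A number as a root. -/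
def fr (r : ℕ) : Fin chevE8.nroots := ⟨r % 240, Nat.mod_lt _ (by decide)⟩

theorem fr_val {r : ℕ} (h : r < 240) : (fr r).val = r := Nat.mod_eq_of_lt h

/-- The numbers of a list as a finite set of roots. -/
def fset (l : List ℕ) : Finset (Fin chevE8.nroots) := (l.map fr).toFinset

theorem mem_fset {l : List ℕ} (h : ∀ r ∈ l, r < 240) {x : Fin chevE8.nroots} : x ∈ fset l ↔ x.val ∈ l := by
  rw [fset, List.mem_toFinset, List.mem_map]
  refine ⟨?_, fun hx => ⟨x.val, hx, Fin.ext (fr_val x.2)⟩⟩
  rintro ⟨r, hr, rfl⟩
  rwa [fr_val (h r hr)]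

/-- The tables of the stabiliser of a class of the torus. -/
structure StabData where
  /-- the roots of the class -/
  roots : List ℕ
  /-- the positive roots of even pairing -/
  ev : List ℕ
  /-- coset representatives -/
  trans : List (List ℕ)
  /-- generators -/
  base : List (List ℕ)
  /-- the images of the cosets -/
  sch : List (ℕ × List ℕ)
  /-- the chain -/
  chain : List LevData

/-- The class modulo two of the image of the roots of a class under a word. -/
noncomputable def clsOf (roots : List ℕ) (w : List ℕ) : List Bool :=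
  (List.range 8).map fun j => decide (((roots.map fun a => corootCo chevE8 (app w a) j).sum) % 2 = 1)

/-- The generators are a list of indices. -/
noncomputable def gensOf (d : StabData) (l : List ℕ) : List (Equiv.Perm (Fin chevE8.nroots)) :=
  l.map fun k => goodE8.wperm (toW (d.base.getD k []))

/-- The checks on a step of the chain. -/
structure LevOK (d : StabData) (L : LevData) : Prop where
  lists : (∀ r ∈ L.P, r < 240) ∧ (∀ r ∈ L.Q, r < 240) ∧ (∀ r ∈ L.S, r < 240) ∧ L.S.Nodup
  sub : ∀ t ∈ L.next, t ∈ L.gens
  gens8 : ∀ t ∈ L.gens, t < 8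
  len : 0 < L.reps.length ∧ L.inv.length = L.reps.length
  one : imgN (L.reps.getD 0 [1]) = imgN []
  parent : ∀ k < L.reps.length, k ≠ 0 → (L.par.getD k (0, 0)).2 < k ∧ (L.par.getD k (0, 0)).1 ∈ L.gens ∧
    imgN (L.reps.getD k []) =
      imgN (d.base.getD (L.par.getD k (0, 0)).1 [] ++ L.reps.getD (L.par.getD k (0, 0)).2 [])
  step : ∀ k < L.reps.length, ∀ m < L.gens.length, ((L.steps.getD k []).getD m (0, 0)).1 < L.reps.length ∧
    (((L.steps.getD k []).getD m (0, 0)).2 = 8 ∨ ((L.steps.getD k []).getD m (0, 0)).2 ∈ L.next) ∧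
    imgN (d.base.getD (L.gens.getD m 0) [] ++ L.reps.getD k []) =
      imgN (L.reps.getD ((L.steps.getD k []).getD m (0, 0)).1 [] ++
        d.base.getD ((L.steps.getD k []).getD m (0, 0)).2 [])
  split : (∀ r ∈ d.ev, r ∈ L.P ∨ r ∈ L.Q) ∧ (∀ r ∈ L.P, r ∈ d.ev ∧ r ∉ L.Q) ∧ (∀ r ∈ L.Q, r ∈ d.ev)
  pos : ∀ x ∈ L.reps, ∀ r ∈ L.Q, 120 ≤ app x r
  permP : ∀ t ∈ L.next, ∀ r ∈ L.P, app (d.base.getD t []) r ∈ L.P
  permQ : ∀ t ∈ L.next, ∀ r ∈ L.Q, app (d.base.getD t []) r ∈ L.Q ∨ 239 - app (d.base.getD t []) r ∈ L.Q
  permS : ∀ t ∈ L.next, ∀ r ∈ L.S, app (d.base.getD t []) r ∈ L.S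
  key : (L.reps.map fun x => (L.S.map fun r => 2 ^ app x r).sum).Nodup
  inv_eq : L.reps.map (fun x => (d.ev.filter fun r => Nat.blt (app x r) 120).length) = L.inv

/-- The checks on the tables. -/
structure StabOK (d : StabData) : Prop where
  roots_lt : ∀ r ∈ d.roots, r < 240
  ev_eq : (List.range' 120 120).filter (fun u => (d.roots.map fun a => pair chevE8 a u).sum % 2 == 0) = d.ev
  trans_zero : d.trans.getD 0 [1] = [] ∧ 0 < d.trans.length
  base_len : d.base.length = 8
  stable : ∀ k < 8, (∀ j, j < 8 → ((d.roots.map fun a => corootCo chevE8 (app (d.base.getD k []) a) j).sum % 2 =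
    (d.roots.map fun a => corootCo chevE8 a j).sum % 2))
  trans_inj : (d.trans.map (clsOf d.roots)).Nodup
  schreier : ∀ t < d.trans.length, ∀ i < 8, (d.sch.getD (t * 8 + i) (0, [])).1 < d.trans.length ∧
    (∀ k ∈ (d.sch.getD (t * 8 + i) (0, [])).2, k < 8) ∧
    imgN (i :: d.trans.getD t []) = imgN (d.trans.getD (d.sch.getD (t * 8 + i) (0, [])).1 [] ++
      ((d.sch.getD (t * 8 + i) (0, [])).2.map fun k => d.base.getD k []).flatten)
  links : d.chain.map LevData.gens ++ [[]] = List.range 8 :: d.chain.map LevData.next
  levels : ∀ L ∈ d.chain, LevOK d L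

/-- The tables of the class with centraliser of type D₈. -/
def stabDataS : StabData := ⟨rootsS, evenS, transS, baseS, schreierS, chainS⟩

/-- The tables of the class with centraliser of type E₇ × A₁. -/
def stabDataT : StabData := ⟨rootsT, evenT, transT, baseT, schreierT, chainT⟩

set_option maxHeartbeats 4000000 in
theorem levOK_S : ∀ L ∈ chainS, LevOK stabDataS L := by
  intro L hL
  simp only [chainS, List.mem_cons, List.not_mem_nil, or_false] at hL
  rcases hL with rfl | rfl | rfl | rfl | rfl | rfl | rfl | rfl
  all_goals (constructor <;> decide +kernel)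

set_option maxHeartbeats 4000000 in
theorem levOK_T : ∀ L ∈ chainT, LevOK stabDataT L := by
  intro L hL
  simp only [chainT, List.mem_cons, List.not_mem_nil, or_false] at hL
  rcases hL with rfl | rfl | rfl | rfl | rfl | rfl | rfl | rfl
  all_goals (constructor <;> decide +kernel)

set_option maxHeartbeats 4000000 in
theorem stabOK_S : StabOK stabDataS where
  roots_lt := by decide +kernel
  ev_eq := by decide +kernel
  trans_zero := by decide +kernel
  base_len := by decide +kernel
  stable := by decide +kernel
  trans_inj := by decide +kernel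
  schreier := by decide +kernel
  links := by decide +kernel
  levels := levOK_S

set_option maxHeartbeats 4000000 in
theorem stabOK_T : StabOK stabDataT where
  roots_lt := by decide +kernel
  ev_eq := by decide +kernel
  trans_zero := by decide +kernel
  base_len := by decide +kernel
  stable := by decide +kernel
  trans_inj := by decide +kernel
  schreier := by decide +kernel
  links := by decide +kernel
  levels := levOK_T

/-- The roots of a class as roots. -/
def StabData.rs (d : StabData) : List (Fin chevE8.nroots) := d.roots.map fr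

theorem rs_val {d : StabData} (h : StabOK d) {a : ℕ} (ha : a ∈ d.roots) : (fr a).val = a := fr_val (h.roots_lt a ha)

theorem coSum_map {d : StabData} (h : StabOK d) (w : List ℕ) (j : ℕ) :
    InvolTorusList.coSum (d.rs.map (goodE8.wperm (toW w))) j =
      (d.roots.map fun a => corootCo chevE8 (app w a) j).sum := by
  simp only [InvolTorusList.coSum, StabData.rs, List.map_map]
  refine congrArg List.sum (List.map_congr_left fun a ha => ?_)
  simp only [Function.comp_apply]
  rw [wperm_app, rs_val h ha]

theorem coSum_eq {d : StabData} (h : StabOK d) (j : ℕ) :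
    InvolTorusList.coSum d.rs j = (d.roots.map fun a => corootCo chevE8 a j).sum := by
  simp only [InvolTorusList.coSum, StabData.rs, List.map_map]
  refine congrArg List.sum (List.map_congr_left fun a ha => ?_)
  simp only [Function.comp_apply]
  rw [rs_val h ha]

/-- The class of the image of the roots. -/
noncomputable def StabData.cls (d : StabData) (π : Equiv.Perm (Fin chevE8.nroots)) : List Bool :=
  (List.range 8).map fun j => decide (InvolTorusList.coSum (d.rs.map π) j % 2 = 1)

theorem cls_toW {d : StabData} (h : StabOK d) (w : List ℕ) : d.cls (goodE8.wperm (toW w)) = clsOf d.roots w :=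
  List.map_congr_left fun j _ => by rw [coSum_map h]

theorem cls_eq_iff {d : StabData} {π σ : Equiv.Perm (Fin chevE8.nroots)} : d.cls π = d.cls σ ↔
    ∀ j : Fin chevE8.rank,
      InvolTorusList.coSum (d.rs.map π) j % 2 = InvolTorusList.coSum (d.rs.map σ) j % 2 := by
  rw [StabData.cls, StabData.cls, List.map_inj_left]
  constructor
  · intro hh j
    have := hh j (List.mem_range.2 j.2)
    rw [decide_eq_decide] at this
    omega
  · intro hh j hj
    have := hh ⟨j, List.mem_range.1 hj⟩
    simp only at this
    rw [decide_eq_decide]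
    omega

/-- The Weyl group elements fixing the class. -/
noncomputable def StabData.perms (d : StabData) : List (Equiv.Perm (Fin chevE8.nroots)) :=
  StabChain.elems (d.chain.map fun L => L.reps.map fun w => goodE8.wperm (toW w))

theorem chainOK_of {d : StabData} (h : StabOK d) :
    ∀ (chain : List LevData) (l : List ℕ), (∀ L ∈ chain, L ∈ d.chain) →
      chain.map LevData.gens ++ [[]] = l :: chain.map LevData.next →
      StabChain.Good.ChainOK goodE8 (fset d.ev) (gensOf d l)
        (chain.map fun L => L.reps.map fun w => goodE8.wperm (toW w)) := by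
  intro chain
  induction chain with
  | nil =>
    intro l _ he
    simp only [List.map_nil, List.nil_append, List.cons.injEq, and_true] at he
    subst he
    exact StabChain.Good.ChainOK.nil
  | cons L chain ih =>
    intro l hmem he
    simp only [List.map_cons, List.cons_append, List.cons.injEq] at he
    obtain ⟨rfl, he⟩ := he
    have hL := h.levels L (hmem L List.mem_cons_self)
    obtain ⟨hP, hQ, hS, hSn⟩ := hL.lists
    have hev : ∀ r ∈ d.ev, r < 240 := fun r hr => by
      rw [← h.ev_eq, List.mem_filter, List.mem_range'_1] at hr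
      omega
    have hget : ∀ k, k < L.reps.length → goodE8.wperm (toW (L.reps.getD k [])) ∈
        L.reps.map fun w => goodE8.wperm (toW w) := fun k hk => by
      rw [List.getD_eq_getElem _ _ hk]
      exact List.mem_map_of_mem (List.getElem_mem hk)
    have hgen : ∀ t ∈ L.gens, goodE8.wperm (toW (d.base.getD t [])) ∈ gensOf d L.gens := fun t ht =>
      List.mem_map_of_mem (f := fun k => goodE8.wperm (toW (d.base.getD k []))) ht
    have hone : goodE8.wperm (toW (L.reps.getD 0 [])) = 1 := by
      have e := wperm_eq_of_img hL.one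
      rw [List.getD_eq_getElem _ _ hL.len.1] at e ⊢
      rw [e]
      simp [toW, Good.wperm]
    refine StabChain.Good.ChainOK.cons (gensOf d L.gens) (gensOf d L.next) _ _ (fset L.P) (fset L.Q) (fset L.S)
      (ih L.next (fun M hM => hmem M (List.mem_cons_of_mem _ hM)) he) ?_ (hone ▸ hget 0 hL.len.1) ?_ ?_ ?_ ?_ ?_ ?_
      ?_ ?_ ?_
    · intro t ht
      obtain ⟨k, hk, rfl⟩ := List.mem_map.1 ht
      exact hgen k (hL.sub k hk)
    · intro x hx
      obtain ⟨w, hw, rfl⟩ := List.mem_map.1 hx
      obtain ⟨k, hk, rfl⟩ := List.mem_iff_getElem.1 hw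
      rw [← List.getD_eq_getElem _ [] hk]
      clear hx hw
      induction k using Nat.strong_induction_on with
      | _ k ihk =>
        by_cases h0 : k = 0
        · subst h0
          rw [hone]
          exact one_mem _
        · obtain ⟨hp, hg, hi⟩ := hL.parent k hk h0
          rw [wperm_eq_of_img hi, wperm_toW_append]
          exact mul_mem (Submonoid.subset_closure (hgen _ hg)) (ihk _ hp (by omega))
    · intro s hs x hx
      obtain ⟨t, ht, rfl⟩ := List.mem_map.1 hs
      obtain ⟨m, hm, rfl⟩ := List.mem_iff_getElem.1 ht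
      obtain ⟨w, hw, rfl⟩ := List.mem_map.1 hx
      obtain ⟨k, hk, rfl⟩ := List.mem_iff_getElem.1 hw
      obtain ⟨h1, h2, h3⟩ := hL.step k hk m hm
      rw [List.getD_eq_getElem _ _ hk, List.getD_eq_getElem _ _ hm] at h3
      refine ⟨_, hget _ h1, ?_⟩
      rcases h2 with h2 | h2
      · left
        rw [h2, show d.base.getD 8 [] = [] from List.getD_eq_default _ _ (by rw [h.base_len]), List.append_nil] at h3
        rw [← wperm_toW_append, wperm_eq_of_img h3]
      · right
        refine ⟨_, List.mem_map_of_mem (f := fun k => goodE8.wperm (toW (d.base.getD k []))) h2, ?_⟩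
        rw [← wperm_toW_append, ← wperm_toW_append, wperm_eq_of_img h3]
    · ext r
      rw [Finset.mem_union, mem_fset hP, mem_fset hQ, mem_fset hev]
      exact ⟨hL.split.1 _, fun hr => hr.elim (fun h1 => (hL.split.2.1 _ h1).1) (hL.split.2.2 _)⟩
    · rw [Finset.disjoint_left]
      intro r hr hr'
      rw [mem_fset hP] at hr
      rw [mem_fset hQ] at hr'
      exact (hL.split.2.1 _ hr).2 hr'
    · intro x hx r hr
      obtain ⟨w, hw, rfl⟩ := List.mem_map.1 hx
      rw [mem_fset hQ] at hr
      rw [wperm_app]
      exact hL.pos w hw r hr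
    · intro s hs r hr
      obtain ⟨t, ht, rfl⟩ := List.mem_map.1 hs
      rw [mem_fset hP] at hr ⊢
      rw [wperm_app]
      exact hL.permP t ht r hr
    · intro s hs r hr
      obtain ⟨t, ht, rfl⟩ := List.mem_map.1 hs
      rw [mem_fset hQ] at hr
      rw [mem_fset hQ, mem_fset hQ, nroot_val, wperm_app]
      exact hL.permQ t ht r hr
    · intro s hs r hr
      obtain ⟨t, ht, rfl⟩ := List.mem_map.1 hs
      rw [mem_fset hS] at hr ⊢
      rw [wperm_app]
      exact hL.permS t ht r hr
    · have e : (L.reps.map fun w => goodE8.wperm (toW w)).map (StabChain.key (fset L.S)) =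
          L.reps.map fun x => (L.S.map fun r => 2 ^ app x r).sum := by
        rw [List.map_map]
        refine List.map_congr_left fun x _ => ?_
        have hnd : (L.S.map fr).Nodup := hSn.map_on fun a ha b hb e => by
          rw [← fr_val (hS a ha), ← fr_val (hS b hb), e]
        simp only [Function.comp_apply, StabChain.key, fset]
        rw [List.sum_toFinset _ hnd, List.map_map]
        refine congrArg List.sum (List.map_congr_left fun r hr => ?_)
        simp only [Function.comp_apply]
        rw [wperm_app, fr_val (hS r hr)]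
      rw [e]
      exact hL.key

theorem gensOf_weyl (d : StabData) (l : List ℕ) : ∀ s ∈ gensOf d l, s ∈ goodE8.weyl := fun s hs => by
  obtain ⟨k, -, rfl⟩ := List.mem_map.1 hs
  exact goodE8.wperm_mem _

theorem ev_pos {d : StabData} (h : StabOK d) : ∀ r ∈ fset d.ev, half chevE8 ≤ r.val := fun r hr => by
  have hev : ∀ r ∈ d.ev, 120 ≤ r ∧ r < 240 := fun r hr => by
    rw [← h.ev_eq, List.mem_filter, List.mem_range'_1] at hr
    omega
  rw [mem_fset fun r hr => (hev r hr).2] at hr
  exact (hev _ hr).1

theorem perms_spec {d : StabData} (h : StabOK d) :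
    (∀ π, π ∈ d.perms ↔ π ∈ Submonoid.closure {s | s ∈ gensOf d (List.range 8)}) ∧ d.perms.Nodup ∧
      ∀ q : ℕ, (d.perms.map fun π => q ^ StabChain.invCount (fset d.ev) π).sum =
        ((d.chain.map fun L => L.reps.map fun w => goodE8.wperm (toW w)).map
          fun X => (X.map fun x => q ^ StabChain.invCount (fset d.ev) x).sum).prod :=
  StabChain.Good.chain_spec goodE8 (ev_pos h) (chainOK_of h d.chain (List.range 8) (fun _ hL => hL) h.links)
    (gensOf_weyl d _)

theorem weyl_cover {d : StabData} (h : StabOK d) (l : List (Fin chevE8.rank)) :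
    ∃ t < d.trans.length, ∃ y ∈ Submonoid.closure {s | s ∈ gensOf d (List.range 8)},
      goodE8.wperm l = goodE8.wperm (toW (d.trans.getD t [])) * y := by
  induction l with
  | nil =>
    refine ⟨0, h.trans_zero.2, 1, one_mem _, ?_⟩
    rw [List.getD_eq_getElem _ _ h.trans_zero.2, ← List.getD_eq_getElem _ [1] h.trans_zero.2, h.trans_zero.1,
      mul_one]
    rfl
  | cons i l ih =>
    obtain ⟨t, ht, y, hy, e⟩ := ih
    obtain ⟨hs, hk, he⟩ := h.schreier t ht i i.2
    set s := d.sch.getD (t * 8 + i) (0, [])
    have hprod : ∀ ks : List ℕ, (∀ k ∈ ks, k < 8) → goodE8.wperm (toW (ks.map fun k => d.base.getD k []).flatten) ∈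
        Submonoid.closure {s | s ∈ gensOf d (List.range 8)} := by
      intro ks hks
      induction ks with
      | nil => exact one_mem _
      | cons k ks ihks =>
        rw [List.map_cons, List.flatten_cons, wperm_toW_append]
        exact mul_mem (Submonoid.subset_closure (List.mem_map_of_mem
          (f := fun k => goodE8.wperm (toW (d.base.getD k []))) (List.mem_range.2 (hks k List.mem_cons_self))))
          (ihks fun x hx => hks x (List.mem_cons_of_mem _ hx))
    refine ⟨s.1, hs, _, mul_mem (hprod s.2 hk) hy, ?_⟩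
    rw [goodE8.wperm_cons, e, ← mul_assoc, ← mul_assoc, ← wperm_toW_append, ← wperm_eq_of_img he,
      show toW ((i : ℕ) :: d.trans.getD t []) = fi i :: toW (d.trans.getD t []) from rfl, goodE8.wperm_cons,
      show fi (i : ℕ) = i from Fin.ext (Nat.mod_eq_of_lt i.2)]

theorem tau_stable {d : StabData} (h : StabOK d) {y : Equiv.Perm (Fin chevE8.nroots)}
    (hy : y ∈ Submonoid.closure {s | s ∈ gensOf d (List.range 8)}) {F : Type*} [Field F] (h2 : (2 : F) ≠ 0) :
    (InvolTorusList.tauOf goodE8 (d.rs.map y) : GL chevE8.Idx F) = InvolTorusList.tauOf goodE8 d.rs := by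
  induction hy using Submonoid.closure_induction with
  | mem s hs =>
    obtain ⟨k, hk, rfl⟩ := List.mem_map.1 hs
    rw [InvolTorusList.tauOf_eq_iff goodE8 h2 (goodE8.torHom_injective_st checksE8 smithE8 fun i => by
      revert i; show ∀ i : Fin 8, _; decide +kernel)]
    intro j
    rw [coSum_map h, coSum_eq h]
    exact h.stable k (List.mem_range.1 hk) j j.2
  | one => rw [show (d.rs.map ⇑(1 : Equiv.Perm (Fin chevE8.nroots))) = d.rs from List.map_id _]
  | mul a b ha hb iha ihb =>
    have hw : a ∈ goodE8.weyl := by
      have : Submonoid.closure {s | s ∈ gensOf d (List.range 8)} ≤ goodE8.weyl.toSubmonoid :=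
        Submonoid.closure_le.2 (gensOf_weyl d _)
      exact this ha
    obtain ⟨l, rfl⟩ := goodE8.exists_wperm hw
    have e1 := InvolTorusList.monomial_conj_tau (F := F) goodE8 (d.rs.map b) (goodE8.wordN_mem l) (goodE8.acts_wordN l)
    have e2 := InvolTorusList.monomial_conj_tau (F := F) goodE8 d.rs (goodE8.wordN_mem l) (goodE8.acts_wordN l)
    rw [List.map_map] at e1
    rw [show ⇑(goodE8.wperm l * b) = ⇑(goodE8.wperm l) ∘ ⇑b from rfl, ← e1, ihb, e2, iha]

theorem cls_stable {d : StabData} (h : StabOK d) {y : Equiv.Perm (Fin chevE8.nroots)}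
    (hy : y ∈ Submonoid.closure {s | s ∈ gensOf d (List.range 8)}) (j : Fin chevE8.rank) :
    InvolTorusList.coSum (d.rs.map y) j % 2 = InvolTorusList.coSum d.rs j % 2 := by
  exact (InvolTorusList.tauOf_eq_iff goodE8 (F := ZMod 3) (show (2 : ZMod 3) ≠ 0 by decide)
    (goodE8.torHom_injective_st checksE8 smithE8 fun i => by revert i; show ∀ i : Fin 8, _; decide +kernel)).1
    (tau_stable h hy (F := ZMod 3) (show (2 : ZMod 3) ≠ 0 by decide)) j

theorem mem_perms {d : StabData} (h : StabOK d) (π : Equiv.Perm (Fin chevE8.nroots)) :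
    π ∈ d.perms.toFinset ↔ π ∈ goodE8.weyl ∧
      ∀ j : Fin chevE8.rank, InvolTorusList.coSum (d.rs.map π) j % 2 = InvolTorusList.coSum d.rs j % 2 := by
  classical
  rw [List.mem_toFinset, (perms_spec h).1]
  constructor
  · intro hπ
    refine ⟨?_, cls_stable h hπ⟩
    have : Submonoid.closure {s | s ∈ gensOf d (List.range 8)} ≤ goodE8.weyl.toSubmonoid :=
      Submonoid.closure_le.2 (gensOf_weyl d _)
    exact this hπ
  · rintro ⟨hπ, hst⟩
    obtain ⟨l, rfl⟩ := goodE8.exists_wperm hπ
    obtain ⟨t, ht, y, hy, e⟩ := weyl_cover h l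
    by_cases h0 : t = 0
    · subst h0
      rw [e, List.getD_eq_getElem _ _ ht, ← List.getD_eq_getElem _ [1] ht, h.trans_zero.1,
        show goodE8.wperm (toW []) = 1 from rfl, one_mul]
      exact hy
    · exfalso
      -- the class of the coset would be that of the identity
      have h3 : d.cls (goodE8.wperm (toW (d.trans.getD t []))) = d.cls 1 := by
        rw [cls_eq_iff]
        intro j
        have hinj : Function.Injective (torHom chevE8 (ZMod 3)) :=
          goodE8.torHom_injective_st checksE8 smithE8 fun i => by revert i; show ∀ i : Fin 8, _; decide +kernel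
        have e1 := InvolTorusList.monomial_conj_tau (F := ZMod 3) goodE8 (d.rs.map y)
          (goodE8.wordN_mem (toW (d.trans.getD t []))) (goodE8.acts_wordN _)
        have e2 := InvolTorusList.monomial_conj_tau (F := ZMod 3) goodE8 d.rs
          (goodE8.wordN_mem (toW (d.trans.getD t []))) (goodE8.acts_wordN _)
        rw [tau_stable h hy (show (2 : ZMod 3) ≠ 0 by decide), e2, List.map_map,
          show ⇑(goodE8.wperm (toW (d.trans.getD t []))) ∘ ⇑y = ⇑(goodE8.wperm l) by rw [e]; rfl,
          (InvolTorusList.tauOf_eq_iff goodE8 (F := ZMod 3) (show (2 : ZMod 3) ≠ 0 by decide) hinj)] at e1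
        rw [e1 j, hst j, show (d.rs.map ⇑(1 : Equiv.Perm (Fin chevE8.nroots))) = d.rs from List.map_id _]
      rw [cls_toW h, show d.cls 1 = clsOf d.roots [] from cls_toW h []] at h3
      have h4 := List.inj_on_of_nodup_map h.trans_inj
        (List.getD_eq_getElem _ _ ht ▸ List.getElem_mem ht) (List.getElem_mem h.trans_zero.2)
        (h3.trans (by rw [← List.getD_eq_getElem _ [1] h.trans_zero.2, h.trans_zero.1]))
      rw [List.getD_eq_getElem _ _ ht] at h4
      exact h0 ((h.trans_inj.of_map).getElem_inj_iff.1 h4)

theorem card_eq_filter {d : StabData} (h : StabOK d) (p : ℕ → Bool) :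
    Nat.card {r : Fin chevE8.nroots // half chevE8 ≤ r.val ∧ p r.val = true ∧
      InvolTorusList.pairSum d.rs r % 2 = 0} = ((fset d.ev).filter fun r => p r.val = true).card := by
  classical
  rw [Nat.card_eq_fintype_card, Fintype.card_subtype]
  refine congrArg Finset.card ?_
  ext r
  have hpair : InvolTorusList.pairSum d.rs r = (d.roots.map fun a => pair chevE8 a r).sum := by
    simp only [InvolTorusList.pairSum, StabData.rs, List.map_map]
    refine congrArg List.sum (List.map_congr_left fun a ha => ?_)
    simp only [Function.comp_apply]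
    rw [rs_val h ha]
  have hev : ∀ u ∈ d.ev, u < 240 := fun u hu => by
    rw [← h.ev_eq, List.mem_filter, List.mem_range'_1] at hu
    omega
  rw [Finset.mem_filter, Finset.mem_filter, mem_fset hev, ← h.ev_eq, List.mem_filter, List.mem_range'_1, hpair]
  simp only [Finset.mem_univ, true_and, beq_iff_eq]
  constructor
  · rintro ⟨h1, h2, h3⟩
    exact ⟨⟨⟨h1, r.2⟩, h3⟩, h2⟩
  · rintro ⟨⟨⟨h1, -⟩, h3⟩, h2⟩
    exact ⟨h1, h2, h3⟩

/-- The inversion polynomial of a step. -/
def levPoly (L : LevData) : List ℤ := (L.inv.map pmono).foldr padd []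

/-- The inversion polynomial of the stabiliser times that of the torus. -/
def stabPoly (d : StabData) : List ℤ :=
  pmul ((List.replicate 8 [-1, 1]).foldr pmul [1]) ((d.chain.map levPoly).foldr pmul [1])

variable {F : Type*} [Field F] [Fintype F]

theorem injTor : Function.Injective (torHom chevE8 F) :=
  goodE8.torHom_injective_st checksE8 smithE8 fun i => by revert i; show ∀ i : Fin 8, _; decide +kernel

/-- The torus involution of a class. -/
noncomputable def StabData.tau (d : StabData) : GL chevE8.Idx F := InvolTorusList.tauOf goodE8 d.rs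

theorem invCount_eq {d : StabData} (h : StabOK d) (w : List ℕ) :
    StabChain.invCount (fset d.ev) (goodE8.wperm (toW w)) =
      (d.ev.filter fun r => Nat.blt (app w r) 120).length := by
  classical
  have hev : ∀ u ∈ d.ev, u < 240 := fun u hu => by
    rw [← h.ev_eq, List.mem_filter, List.mem_range'_1] at hu
    omega
  have hnd : (d.ev.map fr).Nodup := by
    refine List.Nodup.map_on (fun a ha b hb e => by rw [← fr_val (hev a ha), ← fr_val (hev b hb), e]) ?_
    rw [← h.ev_eq]
    exact (List.nodup_range' (s := 120) (n := 120)).filter _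
  rw [StabChain.invCount, fset, show (d.ev.map fr).toFinset.filter (fun r => (goodE8.wperm (toW w) r).val < half chevE8) =
      ((d.ev.map fr).filter fun r => decide ((goodE8.wperm (toW w) r).val < half chevE8)).toFinset by ext r; simp,
    List.toFinset_card_of_nodup (hnd.filter _), List.filter_map, List.length_map]
  refine congrArg List.length (List.filter_congr fun r hr => ?_)
  rw [Function.comp_apply, wperm_app, fr_val (hev r hr), Bool.eq_iff_iff, decide_eq_true_iff, Nat.blt, Nat.ble_eq]
  rfl

theorem card_centralizer_stab (hF : Odd (Fintype.card F)) {d : StabData} (h : StabOK d)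
    (τ : ↥(chevE8.group F)) (hτ : (τ : GL chevE8.Idx F) = d.tau) :
    (Nat.card (Subgroup.centralizer ({τ} : Set ↥(chevE8.group F))) : ℤ) =
      (Fintype.card F : ℤ) ^ d.ev.length * pev (Fintype.card F) (stabPoly d) := by
  classical
  rw [InvolTorusList.card_centralizer goodE8 hc (two_ne hF) injTor d.rs d.perms.toFinset (mem_perms h) τ hτ]
  have hev : ∀ u ∈ d.ev, u < 240 := fun u hu => by
    rw [← h.ev_eq, List.mem_filter, List.mem_range'_1] at hu
    omega
  have h1 : Nat.card {r : Fin chevE8.nroots // half chevE8 ≤ r.val ∧ InvolTorusList.pairSum d.rs r % 2 = 0} =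
      d.ev.length := by
    have := card_eq_filter h fun _ => true
    simp only [true_and, Finset.filter_true] at this
    rw [this, fset, List.toFinset_card_of_nodup, List.length_map]
    refine List.Nodup.map_on (fun a ha b hb e => by rw [← fr_val (hev a ha), ← fr_val (hev b hb), e]) ?_
    rw [← h.ev_eq]
    exact (List.nodup_range' (s := 120) (n := 120)).filter _
  have hd : Nat.card (chevE8.diagonalSubgroup F) = (Fintype.card F - 1) ^ 8 := by
    have := card_diagonalE8 F
    rw [one_mul] at this
    exact this
  have hinv : ∀ π : Equiv.Perm (Fin chevE8.nroots),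
      Nat.card {r : Fin chevE8.nroots // half chevE8 ≤ r.val ∧ (π r).val < half chevE8 ∧
        InvolTorusList.pairSum d.rs r % 2 = 0} = StabChain.invCount (fset d.ev) π := by
    intro π
    rw [StabChain.invCount, Nat.card_eq_fintype_card, Fintype.card_subtype]
    refine congrArg Finset.card ?_
    ext r
    have hr0 : (half chevE8 ≤ r.val ∧ InvolTorusList.pairSum d.rs r % 2 = 0) ↔ r ∈ fset d.ev := by
      have hpair : InvolTorusList.pairSum d.rs r = (d.roots.map fun a => pair chevE8 a r).sum := by
        simp only [InvolTorusList.pairSum, StabData.rs, List.map_map]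
        refine congrArg List.sum (List.map_congr_left fun a ha => ?_)
        simp only [Function.comp_apply]
        rw [rs_val h ha]
      rw [mem_fset hev, ← h.ev_eq, List.mem_filter, List.mem_range'_1, hpair, beq_iff_eq]
      exact ⟨fun hh => ⟨⟨hh.1, r.2⟩, hh.2⟩, fun hh => ⟨hh.1.1, hh.2⟩⟩
    simp only [Finset.mem_filter, Finset.mem_univ, true_and, ← hr0]
    tauto
  simp only [hinv]
  rw [h1, hd, List.sum_toFinset _ (perms_spec h).2.1, (perms_spec h).2.2, List.map_map, stabPoly, pev_pmul,
    pev_foldr_pmul, pev_foldr_pmul, List.map_replicate, List.prod_replicate, List.map_map]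
  have e1 : pev (Fintype.card F : ℤ) [-1, 1] = ((Fintype.card F - 1 : ℕ) : ℤ) := by
    rw [Nat.cast_sub Fintype.card_pos]; simp [pev]; ring
  rw [e1]
  push_cast
  rw [List.map_map, mul_assoc]
  congr 3
  refine List.map_congr_left fun L hL => ?_
  simp only [Function.comp_apply, levPoly, pev_foldr_padd, ← (h.levels L hL).inv_eq, List.map_map]
  rw [Nat.cast_list_sum, List.map_map]
  refine congrArg List.sum (List.map_congr_left fun w _ => ?_)
  simp only [Function.comp_apply, Nat.cast_pow, pev_pmono, invCount_eq h]

/-- The polynomial identity of a stabiliser. -/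
theorem poly_eval {p : List ℤ} {ds : List ℕ} (q : ℤ)
    (h : pzero (padd p (pscal (-1) ((ds.map fun d => padd [-1] (pmono d)).foldr pmul [1]))) = true) :
    pev q p = (ds.map fun d => q ^ d - 1).prod := by
  have h1 := pev_pzero q _ h
  rw [pev_padd, pev_pscal, pev_foldr_pmul q (ds.map _), List.map_map] at h1
  have h2 : (ds.map (pev q ∘ fun d => padd [-1] (pmono d))) = ds.map fun d => q ^ d - 1 :=
    List.map_congr_left fun d _ => by simp [pev_padd, pev_pmono, pev]; ring
  rw [h2] at h1
  linarith

theorem polyS : pzero (padd (stabPoly stabDataS)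
    (pscal (-1) (([2, 4, 6, 8, 8, 10, 12, 14].map fun d => padd [-1] (pmono d)).foldr pmul [1]))) = true := by
  decide +kernel

theorem polyT : pzero (padd (stabPoly stabDataT)
    (pscal (-1) (([2, 2, 6, 8, 10, 12, 14, 18].map fun d => padd [-1] (pmono d)).foldr pmul [1]))) = true := by
  decide +kernel

theorem card_centralizer_S (hF : Odd (Fintype.card F)) (τ : ↥(chevE8.group F))
    (hτ : (τ : GL chevE8.Idx F) = stabDataS.tau) :
    Nat.card (Subgroup.centralizer ({τ} : Set ↥(chevE8.group F))) =
      Fintype.card F ^ 56 * (Fintype.card F ^ 8 - 1) * ∏ i ∈ Finset.Icc 1 7, (Fintype.card F ^ (2 * i) - 1) := by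
  have h := card_centralizer_stab hF stabOK_S τ hτ
  rw [show stabDataS.ev.length = 56 by decide, poly_eval _ polyS] at h
  have hq : ∀ k, 1 ≤ Fintype.card F ^ k := fun k => Nat.one_le_pow _ _ Fintype.card_pos
  rw [show Finset.Icc 1 7 = {1, 2, 3, 4, 5, 6, 7} from by decide]
  simp only [Finset.prod_insert, Finset.mem_insert, Finset.mem_singleton, Finset.prod_singleton, reduceCtorEq,
    OfNat.ofNat_ne_one, OfNat.one_ne_ofNat, or_self, not_false_eq_true, Nat.reduceEqDiff]
  zify [hq]
  rw [h]
  simp only [List.map_cons, List.map_nil, List.prod_cons, List.prod_nil]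
  ring

theorem card_centralizer_T (hF : Odd (Fintype.card F)) (τ : ↥(chevE8.group F))
    (hτ : (τ : GL chevE8.Idx F) = stabDataT.tau) :
    Nat.card (Subgroup.centralizer ({τ} : Set ↥(chevE8.group F))) =
      Fintype.card F ^ 64 * (Fintype.card F ^ 2 - 1) ^ 2 * (Fintype.card F ^ 6 - 1) * (Fintype.card F ^ 8 - 1) *
        (Fintype.card F ^ 10 - 1) * (Fintype.card F ^ 12 - 1) * (Fintype.card F ^ 14 - 1) *
        (Fintype.card F ^ 18 - 1) := by
  have h := card_centralizer_stab hF stabOK_T τ hτ
  rw [show stabDataT.ev.length = 64 by decide, poly_eval _ polyT] at h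
  have hq : ∀ k, 1 ≤ Fintype.card F ^ k := fun k => Nat.one_le_pow _ _ Fintype.card_pos
  zify [hq]
  rw [h]
  simp only [List.map_cons, List.map_nil, List.prod_cons, List.prod_nil]
  ring

/-! ### The classes of involutions of the torus -/

/-- All lists of booleans of length eight, by recursion. -/
def allBool : ℕ → List (List Bool)
  | 0 => [[]]
  | n + 1 => (allBool n).flatMap fun l => [false :: l, true :: l]

theorem mem_allBool : ∀ {n : ℕ} (l : List Bool), l.length = n → l ∈ allBool n
  | 0, l, h => by simp [allBool, List.length_eq_zero_iff.1 h]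
  | n + 1, [], h => by simp at h
  | n + 1, b :: l, h => by
    simp only [allBool, List.mem_flatMap]
    exact ⟨l, mem_allBool l (by simpa using h), by cases b <;> simp⟩

theorem torus_cover : ∀ l ∈ allBool 8, l = List.replicate 8 false ∨
    l ∈ transS.map (clsOf rootsS) ∨ l ∈ transT.map (clsOf rootsT) := by
  decide +kernel

open InvolMono in
/-- An involution of the torus is conjugate to one of the two representatives. -/
theorem torus_class (hF : Odd (Fintype.card F)) {h : GL chevE8.Idx F} (hh : h ∈ chevE8.diagonalSubgroup F)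
    (hsq : h * h = 1) (h1 : h ≠ 1) : GConj h stabDataS.tau ∨ GConj h stabDataT.tau := by
  classical
  rw [goodE8.diagonal_eq_range] at hh
  obtain ⟨c, rfl⟩ := hh
  rw [← map_mul, ← map_one (torHom chevE8 F)] at hsq
  have hc2 := injTor hsq
  have hne : (-1 : Fˣ) ≠ 1 := fun h => by
    have : (-1 : F) = 1 := congrArg Units.val h
    exact two_ne (F := F) hF (by linear_combination -this)
  have hcj : ∀ j, c j = 1 ∨ c j = -1 := fun j => by
    have e : ((c j : Fˣ) : F) * c j = 1 := by rw [← Units.val_mul]; exact congrArg Units.val (congrFun hc2 j)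
    rcases mul_self_eq_one_iff.1 e with e' | e'
    · exact Or.inl (Units.ext e')
    · exact Or.inr (Units.ext e')
  let l : List Bool := (List.range 8).map fun j => decide (c ⟨j % 8, Nat.mod_lt _ (by decide)⟩ ≠ 1)
  have hl : ∀ j : Fin chevE8.rank, ∀ L : List Bool, l = L → decide (c j ≠ 1) = L.getD j false := fun j L e => by
    have hj : (j : ℕ) < 8 := j.2
    rw [← e, List.getD_eq_getElem _ _ (by simpa [l] using hj)]
    simp only [l, List.getElem_map, List.getElem_range, Nat.mod_eq_of_lt hj]
  have main : ∀ d : StabData, StabOK d → l ∈ d.trans.map (clsOf d.roots) → GConj (torHom chevE8 F c) d.tau := by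
    intro d hd hld
    obtain ⟨w, -, hw⟩ := List.mem_map.1 hld
    have e : torHom chevE8 F c = InvolTorusList.tauOf goodE8 (d.rs.map (goodE8.wperm (toW w))) := by
      rw [InvolTorusList.tauOf_eq]
      congr 1
      funext j
      have hj := hl j _ hw.symm
      have hj8 : (j : ℕ) < 8 := j.2
      rw [clsOf, List.getD_eq_getElem _ _ (by simpa using hj8), List.getElem_map, List.getElem_range,
        ← coSum_map hd] at hj
      rcases hcj j with e | e
      · rw [e] at hj ⊢
        simp only [ne_eq, not_true_eq_false, decide_false, Bool.false_eq, decide_eq_false_iff_not] at hj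
        rw [(Int.even_iff.2 (by omega)).neg_one_zpow]
      · rw [e] at hj
        simp only [ne_eq, hne, not_false_eq_true, decide_true, Bool.true_eq, decide_eq_true_iff] at hj
        rw [e, (Int.odd_iff.2 hj).neg_one_zpow]
    rw [e, ← InvolTorusList.monomial_conj_tau goodE8 d.rs (goodE8.wordN_mem (toW w)) (goodE8.acts_wordN _)]
    exact GConj.symm ⟨_, goodE8.monomial_le_group (goodE8.wordN_mem _), rfl⟩
  rcases torus_cover l (mem_allBool l (by simp [l])) with hz | hz | hz
  · refine absurd ?_ h1
    rw [show c = 1 from funext fun j => by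
      have hj := hl j _ hz
      have hj8 : (j : ℕ) < 8 := j.2
      rw [List.getD_eq_getElem _ _ (show (j : ℕ) < (List.replicate 8 false).length by simpa using hj8),
        List.getElem_replicate, decide_eq_false_iff_not, not_not] at hj
      exact hj,
      map_one]
  · exact Or.inl (main stabDataS stabOK_S hz)
  · exact Or.inr (main stabDataT stabOK_T hz)

end CfsgLib.Chev.E8Invol
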