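import Cfsg.Agent.Lib.Chev.E8SLDefs

/-!
Kernel checks of the root data of type E8 (part B).
-/

set_option autoImplicit false
set_option maxRecDepth 100000
set_option Elab.async false

namespace CfsgLib.Chev.SLInvol

open Cfsg.Lie

theorem slE8_block6 : slBlock chevE8 dataE8 20 6 = true := by decide +kernel

theorem slE8_block7 : slBlock chevE8 dataE8 20 7 = true := by decide +kernel

theorem slE8_block8 : slBlock chevE8 dataE8 20 8 = true := by decide +kernel

theorem slE8_block9 : slBlock chevE8 dataE8 20 9 = true := by decide +kernel

theorem slE8_block10 : slBlock chevE8 dataE8 20 10 = true := by decide +kernel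

theorem slE8_block11 : slBlock chevE8 dataE8 20 11 = true := by decide +kernel


end CfsgLib.Chev.SLInvol
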