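import Cfsg.Agent.Lib.Chev.E8SLDefs

/-!
Kernel checks of the moves of type E8.
-/

set_option autoImplicit false
set_option maxRecDepth 100000
set_option Elab.async false

namespace CfsgLib.Chev.SLInvol

open Cfsg.Lie

theorem movesE8_node0 : termOK chevE8 sdataE8 nodesE8 repsE8 movesE8 0 = true := by decide +kernel

theorem movesE8_node1 : termOK chevE8 sdataE8 nodesE8 repsE8 movesE8 1 = true := by decide +kernel

theorem movesE8_node2 : termOK chevE8 sdataE8 nodesE8 repsE8 movesE8 2 = true := by decide +kernel

theorem movesE8_node3 : termOK chevE8 sdataE8 nodesE8 repsE8 movesE8 3 = true := by decide +kernel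

theorem movesE8_node4 : termOK chevE8 sdataE8 nodesE8 repsE8 movesE8 4 = true := by decide +kernel

theorem movesE8_node5 : termOK chevE8 sdataE8 nodesE8 repsE8 movesE8 5 = true := by decide +kernel

theorem movesE8_node6 : termOK chevE8 sdataE8 nodesE8 repsE8 movesE8 6 = true := by decide +kernel

theorem movesE8_node7 : termOK chevE8 sdataE8 nodesE8 repsE8 movesE8 7 = true := by decide +kernel

theorem movesE8_node8 : termOK chevE8 sdataE8 nodesE8 repsE8 movesE8 8 = true := by decide +kernel

theorem movesE8_node9 : termOK chevE8 sdataE8 nodesE8 repsE8 movesE8 9 = true := by decide +kernel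

theorem movesE8_node10 : termOK chevE8 sdataE8 nodesE8 repsE8 movesE8 10 = true := by decide +kernel

theorem movesE8_node11 : termOK chevE8 sdataE8 nodesE8 repsE8 movesE8 11 = true := by decide +kernel

theorem movesE8_node12 : termOK chevE8 sdataE8 nodesE8 repsE8 movesE8 12 = true := by decide +kernel

theorem movesE8_node13 : termOK chevE8 sdataE8 nodesE8 repsE8 movesE8 13 = true := by decide +kernel

theorem movesE8_node14 : termOK chevE8 sdataE8 nodesE8 repsE8 movesE8 14 = true := by decide +kernel

theorem movesE8_node15 : termOK chevE8 sdataE8 nodesE8 repsE8 movesE8 15 = true := by decide +kernel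

theorem movesE8_node16 : termOK chevE8 sdataE8 nodesE8 repsE8 movesE8 16 = true := by decide +kernel

theorem movesE8_node17 : termOK chevE8 sdataE8 nodesE8 repsE8 movesE8 17 = true := by decide +kernel

theorem movesE8_node18 : termOK chevE8 sdataE8 nodesE8 repsE8 movesE8 18 = true := by decide +kernel

theorem movesE8_node19 : termOK chevE8 sdataE8 nodesE8 repsE8 movesE8 19 = true := by decide +kernel

theorem movesE8_node20 : termOK chevE8 sdataE8 nodesE8 repsE8 movesE8 20 = true := by decide +kernel

theorem movesE8_ok : ∀ i < nodesE8.length, termOK chevE8 sdataE8 nodesE8 repsE8 movesE8 i = true := by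
  intro i hi
  have hi' : i < 21 := hi
  interval_cases i
  · exact movesE8_node0
  · exact movesE8_node1
  · exact movesE8_node2
  · exact movesE8_node3
  · exact movesE8_node4
  · exact movesE8_node5
  · exact movesE8_node6
  · exact movesE8_node7
  · exact movesE8_node8
  · exact movesE8_node9
  · exact movesE8_node10
  · exact movesE8_node11
  · exact movesE8_node12
  · exact movesE8_node13
  · exact movesE8_node14
  · exact movesE8_node15
  · exact movesE8_node16
  · exact movesE8_node17
  · exact movesE8_node18
  · exact movesE8_node19
  · exact movesE8_node20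

end CfsgLib.Chev.SLInvol
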