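import Cfsg.Agent.Lib.Chev.E8SLDefs

/-!
Kernel checks of the transitions of type E8.
-/

set_option autoImplicit false
set_option maxRecDepth 100000
set_option Elab.async false

namespace CfsgLib.Chev.SLInvol

open Cfsg.Lie

/-- The check at a node, on the roots `lo, …, lo + m - 1`. -/
noncomputable def transPartE8 (i lo m : ℕ) : Bool :=
  allR (fun r => !((nodesE8.getD i []).all fun a => Int.beq' (fpair chevE8 a r) 0) ||
    anyR (fun e => Nat.beq e.1 r && (e.2.1.all fun k => Nat.blt k chevE8.rank) &&
      Nat.blt e.2.2 nodesE8.length && ((nodesE8.getD i []).all fun a => Nat.beq (imgW sdataE8 e.2.1 a) a) &&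
      (imgW sdataE8 e.2.1 r :: nodesE8.getD i []).isPerm (nodesE8.getD e.2.2 [])) (transE8.getD i []))
    (mapR (fun k => lo + k) (upto m))

theorem transPart_sound {i : ℕ} (h : ∀ c < 8, transPartE8 i (30 * c) 30 = true) :
    transOK chevE8 sdataE8 nodesE8 transE8 i = true := by
  rw [transOK, allR_eq, List.all_eq_true]
  intro r hr
  rw [upto_eq, List.mem_range] at hr
  have hr' : r < 240 := hr
  have hc : r / 30 < 8 := by omega
  refine allR_true (h _ hc) ?_
  rw [mapR_eq, List.mem_map]
  exact ⟨r % 30, mem_upto (Nat.mod_lt _ (by norm_num)), Nat.div_add_mod r 30⟩

theorem trans0_part0 : transPartE8 0 0 30 = true := by decide +kernel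

theorem trans0_part1 : transPartE8 0 30 30 = true := by decide +kernel

theorem trans0_part2 : transPartE8 0 60 30 = true := by decide +kernel

theorem trans0_part3 : transPartE8 0 90 30 = true := by decide +kernel

theorem trans0_part4 : transPartE8 0 120 30 = true := by decide +kernel

theorem trans0_part5 : transPartE8 0 150 30 = true := by decide +kernel

theorem trans0_part6 : transPartE8 0 180 30 = true := by decide +kernel

theorem trans0_part7 : transPartE8 0 210 30 = true := by decide +kernel

theorem transE8_node0 : transOK chevE8 sdataE8 nodesE8 transE8 0 = true := by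
  refine transPart_sound fun c hc => ?_
  interval_cases c
  · exact trans0_part0
  · exact trans0_part1
  · exact trans0_part2
  · exact trans0_part3
  · exact trans0_part4
  · exact trans0_part5
  · exact trans0_part6
  · exact trans0_part7

theorem transE8_node1 : transOK chevE8 sdataE8 nodesE8 transE8 1 = true := by decide +kernel

theorem transE8_node2 : transOK chevE8 sdataE8 nodesE8 transE8 2 = true := by decide +kernel

theorem transE8_node3 : transOK chevE8 sdataE8 nodesE8 transE8 3 = true := by decide +kernel

theorem transE8_node4 : transOK chevE8 sdataE8 nodesE8 transE8 4 = true := by decide +kernel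

theorem transE8_node5 : transOK chevE8 sdataE8 nodesE8 transE8 5 = true := by decide +kernel

theorem transE8_node6 : transOK chevE8 sdataE8 nodesE8 transE8 6 = true := by decide +kernel

theorem transE8_node7 : transOK chevE8 sdataE8 nodesE8 transE8 7 = true := by decide +kernel

theorem transE8_node8 : transOK chevE8 sdataE8 nodesE8 transE8 8 = true := by decide +kernel

theorem transE8_node9 : transOK chevE8 sdataE8 nodesE8 transE8 9 = true := by decide +kernel

theorem transE8_node10 : transOK chevE8 sdataE8 nodesE8 transE8 10 = true := by decide +kernel

theorem transE8_node11 : transOK chevE8 sdataE8 nodesE8 transE8 11 = true := by decide +kernel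

theorem transE8_node12 : transOK chevE8 sdataE8 nodesE8 transE8 12 = true := by decide +kernel

theorem transE8_node13 : transOK chevE8 sdataE8 nodesE8 transE8 13 = true := by decide +kernel

theorem transE8_node14 : transOK chevE8 sdataE8 nodesE8 transE8 14 = true := by decide +kernel

theorem transE8_node15 : transOK chevE8 sdataE8 nodesE8 transE8 15 = true := by decide +kernel

theorem transE8_node16 : transOK chevE8 sdataE8 nodesE8 transE8 16 = true := by decide +kernel

theorem transE8_node17 : transOK chevE8 sdataE8 nodesE8 transE8 17 = true := by decide +kernel

theorem transE8_node18 : transOK chevE8 sdataE8 nodesE8 transE8 18 = true := by decide +kernel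

theorem transE8_node19 : transOK chevE8 sdataE8 nodesE8 transE8 19 = true := by decide +kernel

theorem transE8_node20 : transOK chevE8 sdataE8 nodesE8 transE8 20 = true := by decide +kernel

theorem transE8_ok : ∀ i < nodesE8.length, transOK chevE8 sdataE8 nodesE8 transE8 i = true := by
  intro i hi
  have hi' : i < 21 := hi
  interval_cases i
  · exact transE8_node0
  · exact transE8_node1
  · exact transE8_node2
  · exact transE8_node3
  · exact transE8_node4
  · exact transE8_node5
  · exact transE8_node6
  · exact transE8_node7
  · exact transE8_node8
  · exact transE8_node9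
  · exact transE8_node10
  · exact transE8_node11
  · exact transE8_node12
  · exact transE8_node13
  · exact transE8_node14
  · exact transE8_node15
  · exact transE8_node16
  · exact transE8_node17
  · exact transE8_node18
  · exact transE8_node19
  · exact transE8_node20

end CfsgLib.Chev.SLInvol
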