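import Cfsg.Agent.Lib.Chev.E8SLBlocksA
import Cfsg.Agent.Lib.Chev.E8SLBlocksB
import Cfsg.Agent.Lib.Chev.E8SLTrans
import Cfsg.Agent.Lib.Chev.E8SLMoves

/-!
Kernel checks for the classes of involutions of type E8 in characteristic two.
-/

set_option autoImplicit false
set_option maxRecDepth 100000

namespace CfsgLib.Chev.SLInvol

open Cfsg.Lie

theorem slE8 : SLFacts chevE8 dataE8 sdataE8 where
  good := goodE8
  comm := hasComm_of_mem (by simp)
  lie := checksE8
  struc := structChecksE8
  ord := by decide +kernel
  sl := by
    refine slOK_intro _ _ (m := 20) (k := 12) (by decide +kernel) (by norm_num) fun c hc => ?_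
    interval_cases c
    · exact slE8_block0
    · exact slE8_block1
    · exact slE8_block2
    · exact slE8_block3
    · exact slE8_block4
    · exact slE8_block5
    · exact slE8_block6
    · exact slE8_block7
    · exact slE8_block8
    · exact slE8_block9
    · exact slE8_block10
    · exact slE8_block11

theorem levelsE8 : ordLevels chevE8 dataE8 ordE8 1 = true := by decide +kernel

theorem heisE8 : heisTop chevE8 dataE8 ordE8 = true := by decide +kernel

/-- Every involution is conjugate to a representative. -/
theorem classesE8 {F : Type*} [Field F] [CharP F 2] [Fintype F] {x : GL chevE8.Idx F}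
    (hx : x ∈ chevE8.group F) (ho : orderOf x = 2) :
    ∃ R ∈ repsE8, InvolMono.GConj x (prodOne slE8.good F R) :=
  slE8.classes (fun u hu hu2 => slE8.hU_heis levelsE8 heisE8 u hu hu2) (N := nodesE8) (T := transE8) (M := movesE8) rfl (by decide)
    transE8_ok movesE8_ok hx ho

end CfsgLib.Chev.SLInvol
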