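import Cfsg.Agent.Lib.Chev.E8SLData

/-!
Ranks of the representatives of type E8.
-/

set_option autoImplicit false
set_option maxRecDepth 100000

namespace CfsgLib.Chev.SLInvol

open Cfsg.Lie

/-- Certificate. -/
def rkE8_0U : List (List ℕ) := [[128], [0, 57, 137, 148], [130], [133], [137], [142], [148], [154], [159], [163], [166], [168], [169], [176], [181], [185], [188], [190], [191], [195], [198], [200], [201], [204], [206], [207], [209], [210], [211], [214], [216], [217], [219], [220], [221], [223], [224], [225], [226], [228], [229], [230], [231], [232], [233], [235], [236], [237], [238], [239], [240], [241], [242], [243], [244], [245], [246], [247], [58], [59], [60], [61], [62], [63], [64], [65], [66], [67], [68], [69], [70], [71], [72], [73], [74], [75], [76], [77], [78], [79], [80], [81], [82], [83], [84], [85], [86], [87], [88], [89], [90], [91], [92], [93], [94], [95], [96], [97], [98], [99], [100], [101], [102], [103], [104], [105], [106], [107], [108], [109], [110], [111], [112], [113], [114], [115], [116], [117], [118], [119], [120], [121], [122], [123], [124], [125], [126], [127], [1], [129], [2], [131], [132], [3], [134], [135], [136], [4], [138], [139], [140], [141], [5], [143], [144], [145], [146],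 [147], [6], [149], [150], [151], [152], [153], [7], [155], [156], [157], [158], [8], [160], [161], [162], [9], [164], [165], [10], [167], [11], [12], [170], [171], [172], [173], [174], [175], [13], [177], [178], [179], [180], [14], [182], [183], [184], [15], [186], [187], [16], [189], [17], [18], [192], [193], [194], [19], [196], [197], [20], [199], [21], [22], [202], [203], [23], [205], [24], [25], [208], [26], [27], [28], [212], [213], [29], [215], [30], [31], [218], [32], [33], [34], [222], [35], [36], [37], [38], [227], [39], [40], [41], [42], [43], [44], [234], [45], [46], [47], [48], [49], [50], [51], [52], [53], [54], [55], [56], [57]]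

/-- Certificate. -/
def rkE8_0W : List (List ℕ) := [[8], [9], [10], [11], [12], [13], [14], [15], [16], [17], [18], [19], [20], [22], [23], [24], [25], [26], [27], [29], [30], [31], [32], [34], [35], [36], [38], [39], [41], [44], [45], [46], [48], [49], [51], [54], [55], [57], [60], [64], [65], [67], [70], [74], [79], [86], [87], [89], [92], [96], [101], [107], [113], [118], [122], [125], [127], [7], [58], [59], [1], [61], [62], [63], [2], [40], [66], [28], [68], [69], [42], [71], [72], [73], [43], [75], [76], [77], [78], [3], [80], [81], [82], [83], [84], [85], [4], [21], [88], [47], [90], [91], [5], [93], [94], [95], [33], [97], [98], [99], [100], [50], [102], [103], [104], [105], [106], [6], [108], [109], [110], [111], [112], [52], [114], [115], [116], [117], [53], [119], [120], [121], [37], [123], [124], [0], [126], [56], [128], [129], [130], [131], [132], [133], [134], [135], [136], [137], [138], [139], [140], [141], [142], [143], [144], [145], [146], [147], [148], [149], [150], [151], [152], [153], [154], [155], [156], [157], [158], [159], [160], [161], [162], [163], [164], [165], [166], [167], [168], [169], [170], [171], [172], [173], [174], [175], [176], [177], [178], [179], [180], [181], [182], [183],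 [184], [185], [186], [187], [188], [189], [190], [191], [192], [193], [194], [195], [196], [197], [198], [199], [200], [201], [202], [203], [204], [205], [206], [207], [208], [209], [210], [211], [212], [213], [214], [215], [216], [217], [218], [219], [220], [221], [222], [223], [224], [225], [226], [227], [228], [229], [230], [231], [232], [233], [234], [235], [236], [237], [238], [239], [240], [241], [242], [243], [244], [245], [246], [247]]

/-- Certificate. -/
def rkE8_0B : List (List ℕ) := [[1, 4, 6, 247], [128], [130], [133], [137], [142], [148], [154], [159], [163], [166], [168], [169], [176], [181], [185], [188], [190], [191], [195], [198], [200], [201], [204], [206], [207], [209], [210], [211], [214], [216], [217], [219], [220], [221], [223], [224], [225], [226], [228], [229], [230], [231], [232], [233], [235], [236], [237], [238], [239], [240], [241], [242], [243], [244], [245], [246], [247], [58], [59], [60], [61], [62], [63], [64], [65], [66], [67], [68], [69], [70], [71], [72], [73], [74], [75], [76], [77], [78], [79], [80], [81], [82], [83], [84], [85], [86], [87], [88], [89], [90], [91], [92], [93], [94], [95], [96], [97], [98], [99], [100], [101], [102], [103], [104], [105], [106], [107], [108],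 [109], [110], [111], [112], [113], [114], [115], [116], [117], [118], [119], [120], [121], [122], [123], [124], [125], [126], [127], [0], [129], [2], [131], [132], [3], [134], [135], [136], [4], [138], [139], [140], [141], [5], [143], [144], [145], [146], [147], [6], [149], [150], [151], [152], [153], [7], [155], [156], [157], [158], [8], [160], [161], [162], [9], [164], [165], [10], [167], [11], [12], [170], [171], [172], [173], [174], [175], [13], [177], [178], [179], [180], [14], [182], [183], [184], [15], [186], [187], [16], [189], [17], [18], [192], [193], [194], [19], [196], [197], [20], [199], [21], [22], [202], [203], [23], [205], [24], [25], [208], [26], [27], [28], [212], [213], [29], [215], [30], [31], [218], [32], [33], [34], [222], [35], [36], [37], [38], [227], [39], [40], [41], [42], [43], [44], [234], [45], [46], [47], [48], [49], [50], [51], [52], [53], [54], [55], [56], [57]]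

/-- Certificate. -/
def rkE8_0C : List (List ℕ) := [[125], [60], [64], [79], [86], [92], [107], [57], [0], [1], [2], [3], [4], [5], [6], [7], [8], [9], [10], [11], [12], [87], [13], [14], [15], [16], [17], [18], [67], [19], [20], [21], [22], [96], [23], [24], [25], [122], [26], [27], [65], [28], [70], [74], [29], [30], [31], [89], [32], [33], [101], [34], [113], [118], [35], [36], [127], [37], [58], [59], [38], [61], [62], [63], [39], [40], [66], [41], [68], [69], [42], [71], [72], [73], [43], [75], [76], [77], [78], [44], [80], [81], [82], [83], [84], [85], [45], [46], [88], [47], [90], [91], [48], [93], [94], [95], [49], [97], [98], [99], [100], [50], [102], [103], [104], [105], [106], [51], [108], [109], [110], [111], [112], [52], [114], [115], [116], [117], [53], [119], [120], [121], [54], [123], [124], [55], [126], [56], [128], [129], [130], [131], [132], [133], [134], [135], [136], [137], [138], [139], [140], [141], [142], [143], [144], [145], [146], [147], [148], [149], [150], [151], [152], [153], [154], [155], [156], [157], [158], [159], [160], [161], [162], [163], [164], [165], [166], [167], [168], [169], [170], [171], [172], [173], [174], [175], [176], [177], [178], [179], [180], [181], [182], [183],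 [184], [185], [186], [187], [188], [189], [190], [191], [192], [193], [194], [195], [196], [197], [198], [199], [200], [201], [202], [203], [204], [205], [206], [207], [208], [209], [210], [211], [212], [213], [214], [215], [216], [217], [218], [219], [220], [221], [222], [223], [224], [225], [226], [227], [228], [229], [230], [231], [232], [233], [234], [235], [236], [237], [238], [239], [240], [241], [242], [243], [244], [245], [246], [247]]

theorem rankE8_0 : rankOK chevE8 [239] 58 rkE8_0U rkE8_0W rkE8_0B rkE8_0C = true := by
  decide +kernel

/-- Certificate. -/
def rkE8_1U : List (List ℕ) := [[102], [0, 1, 84, 101], [101], [1, 84, 85, 104, 106], [103], [104], [105], [106], [143], [144], [145], [146], [147], [148], [170], [171], [172], [173], [174], [175], [176], [177], [178], [179], [180], [181], [182], [183], [184], [185], [186], [187], [188], [189], [190], [191], [192], [193], [194], [195], [196], [197], [198], [199], [200], [201], [202], [203], [204], [205], [206], [207], [208], [209], [210], [211], [212], [213], [214], [215], [216], [217], [218], [219], [220], [221], [222], [223], [224], [225], [226], [227], [228], [229], [230], [231], [232], [233], [234], [235], [236], [237], [238], [239], [240], [241],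 [242], [243], [244], [245], [246], [247], [92], [93], [94], [95], [96], [97], [98], [99], [100], [2, 78, 107], [3, 79, 108], [4, 80, 109], [5, 81, 110], [6, 82, 111], [7, 83, 112], [107], [108], [109], [110], [111], [112], [113], [114], [115], [116], [117], [118], [119], [120], [121], [122], [123], [124], [125], [126], [127], [128], [129], [130], [131], [132], [133], [134], [135], [136], [137], [138], [139], [140], [141], [142], [8, 86, 149], [9, 87, 150], [10, 88, 151], [11, 89, 152], [12, 90, 153], [13, 91, 154], [149], [150], [151], [152], [153], [154], [155], [156], [157], [158], [159], [160], [161], [162], [163], [164], [165], [166], [167], [168], [169], [14], [15], [16], [17], [18], [19], [20], [21], [22], [23], [24], [25], [26], [27], [28], [29], [30], [31], [32], [33], [34], [35], [36], [37], [38], [39], [40], [41], [42], [43], [44], [45], [46], [47], [48], [49], [50], [51], [52], [53], [54], [55], [56], [57], [58], [59], [60], [61], [62], [63], [64], [65], [66], [67], [68], [69], [70], [71], [72], [73], [74], [75], [76], [77], [78], [79], [80], [81], [82], [83], [84, 85], [85], [86], [87], [88], [89], [90], [91]]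

/-- Certificate. -/
def rkE8_1W : List (List ℕ) := [[14], [15], [8], [9], [10], [11], [12], [13], [16], [17], [18], [19], [20], [21], [22], [23], [24], [25], [26], [27], [28], [29], [30], [31], [32], [33], [34], [35], [36], [37], [38], [39], [40], [41], [42], [43], [44], [45], [46], [47], [48], [49], [50], [51], [52], [53], [54], [55], [56], [57], [58], [59], [60], [61], [62], [63], [64], [65], [66], [67], [68], [69], [70], [71], [72], [73], [74], [75], [76], [77], [78], [79], [80], [81], [82], [83], [84], [85], [101], [102], [103], [104], [105], [106], [1], [0], [143], [144], [145], [146], [147], [148], [92], [93], [94], [95], [96], [97], [98], [99], [100], [7], [6], [1, 2], [3], [4], [5], [101, 107], [102, 108], [103, 109], [104, 110], [105, 111], [106, 112], [113], [114], [115], [116], [117], [118], [119], [120], [121], [122], [123], [124], [125], [126], [127], [128], [129], [130], [131], [132], [133], [134], [135], [136], [137], [138], [139], [140], [141], [142], [86], [87], [88], [89], [90], [91], [143, 149], [144, 150], [145, 151], [146, 152], [147, 153], [148, 154], [155], [156], [157], [158], [159], [160], [161], [162], [163], [164], [165], [166], [167], [168], [169], [170], [171], [172], [173], [174],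 [175], [176], [177], [178], [179], [180], [181], [182], [183], [184], [185], [186], [187], [188], [189], [190], [191], [192], [193], [194], [195], [196], [197], [198], [199], [200], [201], [202], [203], [204], [205], [206], [207], [208], [209], [210], [211], [212], [213], [214], [215], [216], [217], [218], [219], [220], [221], [222], [223], [224], [225], [226], [227], [228], [229], [230], [231], [232], [233], [234], [235], [236], [237], [238], [239], [240], [241], [242], [243], [244], [245], [246], [247]]

/-- Certificate. -/
def rkE8_1B : List (List ℕ) := [[1, 2, 3, 5, 7, 241], [3, 5, 7, 240], [101, 107, 234], [102, 108, 235], [103, 109, 236], [104, 110, 237], [105, 111, 238], [106, 112, 239], [143, 149, 242], [144, 150, 243], [145, 151, 244], [146, 152, 245], [147, 153, 246], [148, 154, 247], [170], [171], [172], [173], [174], [175], [176], [177], [178], [179], [180], [181], [182], [183], [184], [185], [186], [187], [188], [189], [190], [191], [192], [193], [194], [195], [196], [197], [198], [199], [200], [201], [202], [203], [204], [205], [206], [207], [208], [209], [210], [211], [212], [213], [214], [215], [216], [217], [218], [219], [220], [221], [222], [223], [224], [225], [226], [227], [228], [229], [230],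 [231], [232], [233], [234], [235], [236], [237], [238], [239], [240, 241], [241], [242], [243], [244], [245], [246], [247], [92], [93], [94], [95], [96], [97], [98], [99], [100], [2], [0], [4], [5], [6], [7], [107], [108], [109], [110], [111], [112], [113], [114], [115], [116], [117], [118], [119], [120], [121], [122], [123], [124], [125], [126], [127], [128], [129], [130], [131], [132], [133], [134], [135], [136], [137], [138], [139], [140], [141], [142], [8], [9], [10], [11], [12], [13], [149], [150], [151], [152], [153], [154], [155], [156], [157], [158], [159], [160], [161], [162], [163], [164], [165], [166], [167], [168], [169], [14], [15], [16], [17], [18], [19], [20], [21], [22], [23], [24], [25], [26], [27], [28], [29], [30], [31], [32], [33], [34], [35], [36], [37], [38], [39], [40], [41], [42], [43], [44], [45], [46], [47], [48], [49], [50], [51], [52], [53], [54], [55], [56], [57], [58], [59], [60], [61], [62], [63], [64], [65], [66], [67], [68], [69], [70], [71], [72], [73], [74], [75], [76], [77], [78], [79], [80], [81], [82], [83], [84], [85], [86], [87], [88], [89], [90], [91]]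

/-- Certificate. -/
def rkE8_1C : List (List ℕ) := [[85], [84], [84, 103], [104], [105], [106], [102], [101], [2], [3], [4], [5], [6], [7], [0], [1], [8], [9], [10], [11], [12], [13], [14], [15], [16], [17], [18], [19], [20], [21], [22], [23], [24], [25], [26], [27], [28], [29], [30], [31], [32], [33], [34], [35], [36], [37], [38], [39], [40], [41], [42], [43], [44], [45], [46], [47], [48], [49], [50], [51], [52], [53], [54], [55], [56], [57], [58], [59], [60], [61], [62], [63], [64], [65], [66], [67], [68], [69], [70], [71], [72], [73], [74], [75], [76], [77], [143], [144], [145], [146], [147], [148], [92], [93], [94], [95], [96], [97], [98], [99], [100], [78], [79], [80], [81], [82], [83], [78, 107], [79, 108], [80, 109], [81, 110], [82, 111], [83, 112], [113], [114], [115], [116], [117], [118], [119], [120], [121], [122], [123], [124], [125], [126], [127], [128], [129], [130], [131], [132], [133], [134], [135], [136], [137], [138], [139], [140], [141], [142], [86], [87], [88], [89], [90], [91], [86, 149], [87, 150], [88, 151], [89, 152], [90, 153], [91, 154], [155], [156], [157], [158], [159], [160], [161], [162], [163], [164], [165], [166], [167], [168], [169], [170], [171], [172], [173], [174], [175], [176],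 [177], [178], [179], [180], [181], [182], [183], [184], [185], [186], [187], [188], [189], [190], [191], [192], [193], [194], [195], [196], [197], [198], [199], [200], [201], [202], [203], [204], [205], [206], [207], [208], [209], [210], [211], [212], [213], [214], [215], [216], [217], [218], [219], [220], [221], [222], [223], [224], [225], [226], [227], [228], [229], [230], [231], [232], [233], [234], [235], [236], [237], [238], [239], [240], [241], [242], [243], [244], [245], [246], [247]]

theorem rankE8_1 : rankOK chevE8 [232, 233] 92 rkE8_1U rkE8_1W rkE8_1B rkE8_1C = true := by
  decide +kernel

/-- Certificate. -/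
def rkE8_2U : List (List ℕ) := [[208], [209], [76, 92, 235], [214], [235], [74, 75, 76, 94, 208], [168], [75, 76, 92, 95], [201], [207], [210], [238], [111], [112], [129], [130], [131], [132], [133], [134], [135], [136], [137], [139], [140], [141], [142], [146], [147], [148], [151], [152], [153], [154], [157], [158], [159], [161], [162], [163], [164], [165], [166], [175], [176], [180], [181], [184], [185], [186], [189], [190], [197], [198], [199], [200], [203], [204], [205], [206], [0, 77, 194, 217, 219], [1, 78, 195, 220, 222], [2, 79, 223], [3, 82, 225], [215], [216], [218], [219], [222], [223], [227], [228], [234], [4, 83, 230], [167], [191], [213], [5, 84, 233], [6, 85, 241], [169], [187], [188], [7, 87, 247], [8, 88, 115], [9, 90, 120], [10, 93, 124], [211], [217], [220], [221], [224], [225], [226], [229], [230], [236], [231], [232], [233], [237], [11, 86, 242], [239], [240], [241], [242], [243], [244], [245], [246], [247], [110], [12, 89, 116], [13, 91, 121], [113], [114], [115], [116], [117], [118], [119], [120], [121], [122], [123], [124], [125], [126], [127], [128], [14], [15], [16, 99, 170], [17], [18], [19, 96, 143], [20, 100, 171], [21], [22], [138], [23, 97, 144], [24, 101, 172], [25], [26], [143],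 [144], [145], [27, 102, 173], [28], [29], [149], [150], [30, 98, 155], [31, 103, 177], [32], [33], [155], [156], [34, 104, 178], [35], [36], [160], [37, 105, 182], [38], [39], [40, 106, 192], [41], [42], [77, 80, 108, 194], [78, 81, 109, 195], [79], [170], [171], [172], [173], [174], [43], [44], [177], [178], [179], [45], [46], [182], [183], [47], [48], [49, 107, 193], [80, 194], [81, 195], [50], [51], [82], [192], [193], [194], [195], [196], [52], [53], [54], [55], [83], [202], [56], [57], [58], [59], [84], [60], [61], [85], [86], [212], [62], [63], [64], [65], [87], [66], [67], [88], [89], [68], [69], [90], [91], [92, 94, 95], [70], [71], [93], [94, 95], [96], [97], [98], [72], [73], [95], [99], [100], [101], [102], [103], [104], [105], [106], [107], [108], [109]]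

/-- Certificate. -/
def rkE8_2W : List (List ℕ) := [[8], [9], [10], [11], [12], [13], [14], [15], [16], [17], [18], [22], [23], [24], [20], [21], [26], [27], [28], [30], [31], [32], [33], [34], [35], [36], [37], [38], [39], [40], [44], [45], [46], [47], [48], [49], [50], [54], [55], [56], [64], [65], [66], [41], [42], [51], [52], [57], [58], [86], [89], [90], [70], [71], [92], [93], [74], [75], [96], [97], [101], [102], [79], [80], [107], [108], [113], [114], [118], [119], [122], [123], [125], [126], [29], [19], [25, 29], [60], [61], [62], [60, 67], [61, 68], [91], [94], [98], [78], [100], [82], [83], [111], [84], [112], [4], [85], [0], [6], [134], [139], [151], [131], [135], [140], [146], [152], [157], [161], [164], [186], [60, 67, 87], [61, 68, 88], [110], [76], [43], [3], [63, 91], [83, 115], [111, 116], [117], [81], [62, 69], [84, 120], [112, 121], [7], [53], [85, 124], [72], [73, 94], [127], [128], [129], [130], [99], [132], [133], [82, 109], [0, 5], [136], [137], [138], [59], [77, 98], [141], [142], [134, 143], [139, 144], [145], [1], [147], [148], [149], [150], [95], [78, 103], [153], [154], [151, 155], [156], [100, 104], [158], [159], [160], [105], [162], [163], [106], [165], [166], [60, 67, 87, 167],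 [61, 68, 88, 168], [169], [131, 170], [135, 171], [140, 172], [146, 173], [174], [175], [176], [152, 177], [157, 178], [179], [180], [181], [161, 182], [183], [184], [185], [2, 4], [60, 67, 87, 187], [61, 68, 88, 188], [189], [190], [191], [164, 192], [186, 193], [60, 67, 87, 194], [61, 68, 88, 195], [196], [197], [198], [199], [200], [201], [202], [203], [204], [205], [206], [207], [208], [209], [210], [211], [212], [213], [214], [215], [216], [217], [218], [219], [220], [221], [222], [223], [224], [225], [226], [227], [228], [229], [230], [231], [232], [233], [234], [235], [236], [237], [238], [239], [240], [241], [242], [243], [244], [245], [246], [247]]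

/-- Certificate. -/
def rkE8_2B : List (List ℕ) := [[60, 67, 87, 167, 187, 194, 246], [61, 68, 88, 168, 188, 195, 247], [62, 69, 169], [63, 91, 191], [73, 94, 201], [77, 98, 207], [78, 103, 210], [82, 109, 217], [83, 115, 220], [84, 120, 224], [85, 124, 229], [100, 104, 211], [111, 116, 221], [112, 121, 225], [129], [130], [131, 170, 237], [132], [133], [134, 143, 231], [135, 171, 238], [136], [137], [139, 144, 232], [140, 172, 239], [141], [142], [146, 173, 240], [147], [148], [151, 155, 233], [152, 177, 241], [153], [154], [157, 178, 242], [158], [159], [161, 182, 243], [162], [163], [164, 192, 244], [165], [166], [175], [176], [180], [181], [184], [185], [186, 193, 245], [189], [190], [197], [198], [199], [200], [203], [204], [205], [206], [208], [209], [213], [214], [215], [216], [218], [219], [222], [223], [227], [228], [234], [235], [0, 5, 7, 226], [2, 4, 7, 236], [2, 4, 226, 230], [167, 187, 246], [168, 188, 247], [169], [187, 194], [188, 195], [191], [201], [207], [210], [211], [217], [220], [221], [224], [225], [226, 230], [229], [230, 236], [236], [231], [232], [233], [237], [238], [239], [240], [241], [242], [243], [244], [245], [246], [247], [110], [12], [13], [113], [114], [115], [116], [117], [118],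 [119], [120], [121], [122], [123], [124], [125], [126], [127], [128], [14], [15], [16], [17], [18], [19], [20], [21], [22], [138], [23], [24], [25], [26], [143], [144], [145], [27], [28], [29], [149], [150], [30], [31], [32], [33], [155], [156], [34], [35], [36], [160], [37], [38], [39], [40], [41], [42], [74], [6], [79], [170], [171], [172], [173], [174], [43], [44], [177], [178], [179], [45], [46], [182], [183], [47], [48], [49], [80], [81], [50], [51], [75], [192], [193], [194], [195], [196], [52], [53], [54], [55], [8], [202], [56], [57], [58], [59], [9], [0], [1], [10], [86], [212], [76], [3], [64], [65], [87], [66], [67], [88], [89], [68], [69], [90], [91], [92], [70], [71], [93], [94], [96], [97], [98], [72], [4], [95], [99], [11], [101], [102], [103], [104], [105], [106], [107], [108], [109]]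

/-- Certificate. -/
def rkE8_2C : List (List ℕ) := [[94], [146], [92, 186], [113], [92], [94, 135], [95], [122], [0], [1], [2], [3], [4], [5], [6], [7], [8], [9], [10], [75], [14], [15], [11], [12], [13], [74, 76], [16], [17], [18], [74], [19], [20], [21], [22], [23], [24], [25], [26], [27], [28], [29], [43], [44], [112], [30], [31], [32], [33], [34], [35], [36], [45], [46], [123], [37], [38], [39], [47], [48], [139], [77], [78], [79], [82, 114], [40], [41], [42], [77, 80], [78, 81], [79, 119], [52], [53], [125], [83, 126], [56], [57], [111], [84, 140], [85], [62], [63], [118], [87], [88], [90], [93], [49], [80, 108], [81, 109], [50], [51], [82], [54], [55], [83], [151], [58], [59], [84], [131], [86], [60], [61], [85, 152], [86, 157], [161], [164], [64], [65], [87, 134], [110], [89], [91], [66], [67], [88, 115], [89, 116], [117], [68], [69], [90, 120], [91, 121], [70], [71], [93, 124], [72], [73], [127], [128], [129], [130], [99], [132], [133], [96], [100], [136], [137], [138], [97], [101], [141], [142], [96, 143], [97, 144], [145], [102], [147], [148], [149], [150], [98], [103], [153], [154], [98, 155], [156], [104], [158], [159], [160], [105], [162], [163], [106], [165], [166], [108, 167], [109, 168], [169],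 [99, 170], [100, 171], [101, 172], [102, 173], [174], [175], [176], [103, 177], [104, 178], [179], [180], [181], [105, 182], [183], [184], [185], [107], [108, 187], [109, 188], [189], [190], [191], [106, 192], [107, 193], [108, 194], [109, 195], [196], [197], [198], [199], [200], [201], [202], [203], [204], [205], [206], [207], [208], [209], [210], [211], [212], [213], [214], [215], [216], [217], [218], [219], [220], [221], [222], [223], [224], [225], [226], [227], [228], [229], [230], [231], [232], [233], [234], [235], [236], [237], [238], [239], [240], [241], [242], [243], [244], [245], [246], [247]]

theorem rankE8_2 : rankOK chevE8 [228, 222, 218] 110 rkE8_2U rkE8_2W rkE8_2B rkE8_2C = true := by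
  decide +kernel

/-- Certificate. -/
def rkE8_3U : List (List ℕ) := [[194], [188], [67, 103, 210], [0, 65, 104, 209], [66, 67, 102, 104, 105], [209], [210], [65, 66, 67, 102, 194], [189], [191], [199], [200], [212], [213], [225], [238], [239], [240], [233], [244], [245], [128], [129], [130], [131], [132], [133], [135], [136], [137], [141], [142], [148], [149], [150], [151], [152], [155], [156], [158], [161], [162], [164], [165], [167], [177], [178], [181], [183], [185], [186], [1, 68, 70, 160, 197, 211], [2, 69, 76, 182, 198, 214], [3, 71, 192, 206, 215], [195], [197], [198], [201], [205], [4, 72, 78, 153, 193, 217], [207], [208], [5, 73, 79, 159, 196, 220], [6, 74, 80, 169, 202, 226], [211], [166], [206], [190], [153], [154], [157], [159], [163], [7, 75, 82, 179, 203, 232], [168], [169], [179], [180], [184], [187], [8, 84, 236], [9, 85, 241], [10, 87, 246], [11, 90, 122], [12, 93, 125], [13, 97, 127], [214], [215], [216], [217], [218], [219], [220], [222], [223], [14, 81, 204, 229, 234], [226], [227], [229], [230], [231], [232], [234], [228], [224], [221], [235], [236], [237], [15, 86, 242], [16, 88, 247], [17, 91, 123], [18, 94, 126], [241], [242], [243], [19, 89, 120], [20, 92, 124], [246], [247], [120], [121],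 [122], [123], [124], [125], [126], [127], [21, 106, 170], [22, 98, 143], [23, 107, 171], [24, 95, 138], [25, 99, 144], [26, 108, 172], [134], [27, 96, 139], [28, 100, 145], [29, 109, 173], [138], [139], [140], [30, 101, 146], [31, 110, 174], [143], [144], [145], [146], [147], [32, 111, 175], [33], [34], [35], [36], [68, 112, 160], [69, 113, 182], [37], [38], [70, 160], [39], [71, 77, 114, 192], [160], [40], [41], [72, 115, 193], [42], [43], [73, 116, 196], [44], [74, 117, 202], [75, 118, 203], [170], [171], [172], [173], [174], [175], [176], [45], [46], [76, 182], [77, 192], [47], [182], [48], [78, 193], [49], [50], [79, 196], [51], [80, 202], [52], [81, 83, 119, 204], [192], [193], [53], [54], [196], [55], [56], [82, 203], [83, 204], [57], [202], [203], [204], [58], [59], [60], [61], [62], [63], [64], [84], [85], [86], [87], [88], [89], [90], [91], [92], [105], [93], [94], [104, 105], [95], [96], [97], [103, 104, 105], [98], [99], [100], [101], [112], [102, 103, 104, 105], [106], [107], [108], [109], [110], [111], [113], [114], [115], [116], [117], [118], [119]]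

/-- Certificate. -/
def rkE8_3W : List (List ℕ) := [[34], [8], [9], [10], [11], [12], [13], [14], [15], [16], [17], [18], [19], [20], [22], [23], [24], [25], [26], [29], [30], [28], [32], [33], [35], [36], [37], [38], [39], [40], [41], [42], [43], [44], [45], [48], [54], [46], [49], [65], [57], [67], [60], [70], [74], [47], [50], [88], [58], [90], [61], [93], [97], [69], [91], [72], [94], [103], [77], [99], [104], [78], [100], [105], [106], [31], [21], [27, 31], [55], [56], [51, 55], [53], [68], [71], [75], [76], [52, 56], [53, 66], [59, 68], [62, 71], [63, 75], [95], [73, 76], [95, 98], [80], [81], [109], [82], [110], [116], [83], [111], [117], [84], [112], [131], [135], [127], [129], [132], [136], [141], [7], [2], [5], [1], [128], [130], [133], [137], [142], [148], [51, 55, 64], [52, 56, 86], [53, 66, 87], [59, 68, 89], [62, 71, 92], [63, 75, 96], [73, 76, 101], [95, 98, 102], [116, 120], [121], [83, 122], [111, 123], [117, 124], [84, 125], [112, 126], [110, 119], [109, 114], [2, 6], [80, 107], [85, 127], [4], [108], [134], [115], [79], [81, 113], [131, 138], [135, 139], [140], [82, 118], [0, 7], [129, 143], [132, 144], [136, 145], [141, 146], [147], [3, 5], [149], [150], [151], [152], [51, 55, 64, 153], [52,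 56, 86, 154], [155], [156], [51, 55, 64, 157], [158], [53, 66, 87, 159], [51, 55, 64, 160], [161], [162], [59, 68, 89, 163], [164], [165], [62, 71, 92, 166], [167], [63, 75, 96, 168], [73, 76, 101, 169], [128, 170], [130, 171], [133, 172], [137, 173], [142, 174], [148, 175], [176], [177], [178], [52, 56, 86, 179], [53, 66, 87, 180], [181], [52, 56, 86, 182], [183], [59, 68, 89, 184], [185], [186], [62, 71, 92, 187], [188], [63, 75, 96, 189], [190], [95, 98, 102, 191], [53, 66, 87, 192], [59, 68, 89, 193], [194], [195], [62, 71, 92, 196], [197], [198], [73, 76, 101, 199], [95, 98, 102, 200], [201], [63, 75, 96, 202], [73, 76, 101, 203], [95, 98, 102, 204], [205], [206], [207], [208], [209], [210], [211], [212], [213], [214], [215], [216], [217], [218], [219], [220], [221], [222], [223], [224], [225], [226], [227], [228], [229], [230], [231], [232], [233], [234], [235], [236], [237], [238], [239], [240], [241], [242], [243], [244], [245], [246], [247]]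

/-- Certificate. -/
def rkE8_3B : List (List ℕ) := [[0, 3, 4, 5, 7, 221], [51, 55, 64, 153, 157, 160, 233], [52, 56, 86, 154, 179, 182, 241], [53, 66, 87, 159, 180, 192, 242], [59, 68, 89, 163, 184, 193, 243], [62, 71, 92, 166, 187, 196, 244], [63, 75, 96, 168, 189, 202, 245], [73, 76, 101, 169, 199, 203, 246], [80, 107, 212], [81, 113, 213], [82, 118, 215], [83, 122, 218], [84, 125, 222], [85, 127, 227], [95, 98, 102, 191, 200, 204, 247], [109, 114, 214], [110, 119, 216], [111, 123, 219], [112, 126, 223], [116, 120, 217], [117, 124, 220], [128, 170, 235], [129, 143, 229], [130, 171, 236], [131, 138, 225], [132, 144, 230], [133, 172, 237], [135, 139, 226], [136, 145, 231], [137, 173, 238], [141, 146, 232], [142, 174, 239], [148, 175, 240], [149], [150], [151], [152], [155], [156], [158], [161], [162], [164], [165], [167], [177], [178], [181], [183], [185], [186], [188], [190], [194], [195], [197], [198], [201], [205], [206], [207], [208], [209], [210], [211], [0, 4, 7, 224], [2, 4, 6, 234], [2, 6, 224, 228], [153, 160, 233], [154, 182, 241], [157, 160], [159, 180, 242], [163, 193, 243], [166, 196, 244], [168, 202, 245], [169, 203, 246], [179, 182], [180, 192], [184, 193], [187, 196], [189, 202], [191, 200, 247],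 [199, 203], [200, 204], [212], [213], [214], [215], [216], [217], [218], [219], [220], [222], [223], [225], [226], [227], [229], [230], [231], [232], [228, 234], [224, 228], [221, 224], [221], [235], [236], [237], [238], [239], [240], [233], [241], [242], [243], [244], [245], [246], [247], [120], [121], [122], [123], [124], [125], [126], [127], [21], [22], [23], [24], [25], [26], [134], [27], [28], [29], [138], [139], [140], [30], [31], [143], [144], [145], [146], [147], [32], [33], [34], [35], [36], [68], [69], [37], [38], [70], [39], [71], [160], [40], [41], [72], [42], [43], [65], [44], [74], [75], [170], [171], [172], [173], [174], [175], [176], [45], [46], [76], [77], [47], [182], [48], [78], [49], [50], [79], [1], [8], [67], [9], [192], [193], [0], [54], [196], [55], [56], [10], [11], [57], [202], [203], [204], [58], [66], [60], [61], [5], [6], [64], [12], [13], [86], [87], [88], [89], [90], [91], [92], [105], [93], [94], [104], [14], [96], [97], [103], [98], [99], [100], [101], [18], [102], [106], [107], [108], [15], [16], [17], [113], [114], [115], [19], [20], [118], [119]]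

/-- Certificate. -/
def rkE8_3C : List (List ℕ) := [[102, 142], [105], [103], [104, 148], [132], [104], [103, 129], [102], [1], [2], [3], [4], [5], [6], [7], [8], [9], [10], [11], [12], [13], [66], [14], [15], [16], [17], [18], [65, 67], [21], [19], [20], [65], [22], [23], [0], [24], [25], [26], [27], [28], [29], [30], [31], [32], [33], [34], [37], [45], [35], [38], [46], [68, 70], [69, 76], [71], [36], [68], [69], [40], [48], [72, 78], [42], [50], [73, 79], [74, 80], [70, 112], [39], [71, 77], [41], [72], [53], [43], [73], [55], [75, 82], [44], [74], [75], [58], [61], [136], [84], [85], [87], [90], [93], [97, 131], [76, 113], [77, 114], [47], [78, 115], [49], [54], [79, 116], [51], [56], [81], [80, 117], [52], [81, 83], [59], [62], [82, 118], [83, 119], [57], [60], [63], [64], [84, 130], [133], [86], [88], [91], [94], [85, 137], [86, 128], [135], [89], [92], [87, 141], [88, 127], [89, 120], [121], [90, 122], [91, 123], [92, 124], [93, 125], [94, 126], [97], [106], [98], [107], [95], [99], [108], [134], [96], [100], [109], [95, 138], [96, 139], [140], [101], [110], [98, 143], [99, 144], [100, 145], [101, 146], [147], [111], [149], [150], [151], [152], [112, 153], [113, 154], [155], [156], [112, 157], [158], [114,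 159], [112, 160], [161], [162], [115, 163], [164], [165], [116, 166], [167], [117, 168], [118, 169], [106, 170], [107, 171], [108, 172], [109, 173], [110, 174], [111, 175], [176], [177], [178], [113, 179], [114, 180], [181], [113, 182], [183], [115, 184], [185], [186], [116, 187], [188], [117, 189], [190], [119, 191], [114, 192], [115, 193], [194], [195], [116, 196], [197], [198], [118, 199], [119, 200], [201], [117, 202], [118, 203], [119, 204], [205], [206], [207], [208], [209], [210], [211], [212], [213], [214], [215], [216], [217], [218], [219], [220], [221], [222], [223], [224], [225], [226], [227], [228], [229], [230], [231], [232], [233], [234], [235], [236], [237], [238], [239], [240], [241], [242], [243], [244], [245], [246], [247]]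

theorem rankE8_3 : rankOK chevE8 [226, 220, 213, 216] 120 rkE8_3U rkE8_3W rkE8_3B rkE8_3C = true := by
  decide +kernel

end CfsgLib.Chev.SLInvol
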