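import Mathlib

/-!
An element of order seven acting on a group of order eight.
-/

set_option autoImplicit false
set_option linter.unusedSectionVars false

namespace CfsgLib.Chev

variable {G : Type*} [Group G]

theorem conj_pow_fix {s x : G} (h : Commute s x) (i : ℕ) : s ^ i * x * (s ^ i)⁻¹ = x := by
  rw [(h.pow_left i).eq, mul_inv_cancel_right]

/-- If an element of order seven normalising a group of order eight does not centralise it, then it
permutes its subgroups of order four transitively. -/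
theorem four_conj_of_seven [Finite G] {P : Subgroup G} (hP : Nat.card ↥P = 8) {s : G}
    (hs : orderOf s = 7) (hsN : s ∈ Subgroup.normalizer (P : Set G))
    (hsC : s ∉ Subgroup.centralizer (P : Set G)) {E F : Subgroup G} (hE : E ≤ P) (hF : F ≤ P)
    (hE4 : Nat.card ↥E = 4) (hF4 : Nat.card ↥F = 4) :
    ∃ g : G, F = E.map (MulAut.conj g).toMonoidHom := by
  classical
  have := Fintype.ofFinite G
  let fins : Subgroup G → Finset G := fun D => (D : Set G).toFinset.erase 1
  have hfins : ∀ D : Subgroup G, (fins D).card = Nat.card ↥D - 1 := fun D => by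
    simp only [fins]
    rw [Finset.card_erase_of_mem (by simp [one_mem]), Set.toFinset_card, ← Nat.card_eq_fintype_card]
    rfl
  have hmem : ∀ (D : Subgroup G) x, x ∈ fins D ↔ x ≠ 1 ∧ x ∈ D := fun D x => by simp [fins]
  -- powers of `s`
  have hN : ∀ (i : ℕ) x, x ∈ P → s ^ i * x * (s ^ i)⁻¹ ∈ P := fun i x hx =>
    (Subgroup.mem_normalizer_iff.1 (pow_mem hsN i) x).1 hx
  have hgen : ∀ i j : ℕ, i < 7 → j < 7 → i ≠ j → ∀ x : G,
      s ^ i * x * (s ^ i)⁻¹ = s ^ j * x * (s ^ j)⁻¹ → Commute s x := by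
    intro i j hi hj hij x h
    wlog hle : i < j generalizing i j
    · exact this j i hj hi hij.symm h.symm (by omega)
    obtain ⟨d, rfl⟩ := Nat.exists_eq_add_of_le hle.le
    have hc : Commute (s ^ d) x := by
      rw [pow_add, _root_.mul_inv_rev] at h
      have h' : x = s ^ d * x * (s ^ d)⁻¹ := by
        calc x = (s ^ i)⁻¹ * (s ^ i * x * (s ^ i)⁻¹) * s ^ i := by group
          _ = (s ^ i)⁻¹ * (s ^ i * s ^ d * x * ((s ^ d)⁻¹ * (s ^ i)⁻¹)) * s ^ i := by rw [h]
          _ = _ := by group
      exact (eq_mul_inv_iff_mul_eq.1 h').symm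
    have hco : Nat.Coprime d (orderOf s) := by
      rw [hs]
      exact ((Nat.Prime.coprime_iff_not_dvd (by norm_num)).2 fun h7 => by
        have := Nat.le_of_dvd (by omega) h7
        omega).symm
    obtain ⟨e, he⟩ := exists_pow_eq_self_of_coprime hco
    rw [← he]
    exact hc.pow_left e
  -- no fixed points
  have horb : ∀ x ∈ fins P, ¬ Commute s x → ∀ y ∈ fins P, ∃ i, s ^ i * x * (s ^ i)⁻¹ = y := by
    intro x hx hnc y hy
    have himg : (Finset.range 7).image (fun i => s ^ i * x * (s ^ i)⁻¹) = fins P := by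
      refine Finset.eq_of_subset_of_card_le (fun z hz => ?_) ?_
      · obtain ⟨i, -, rfl⟩ := Finset.mem_image.1 hz
        obtain ⟨hx1, hxP⟩ := (hmem _ _).1 hx
        exact (hmem _ _).2 ⟨fun h => hx1 (conj_eq_one_iff.1 h), hN i x hxP⟩
      · rw [hfins, hP, Finset.card_image_of_injOn, Finset.card_range]
        intro i hi j hj h
        simp only [Finset.coe_range, Set.mem_Iio] at hi hj
        by_contra hne
        exact hnc (hgen i j hi hj hne x h)
    rw [← himg, Finset.mem_image] at hy
    obtain ⟨i, -, hi⟩ := hy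
    exact ⟨i, hi⟩
  have hfree : ∀ x ∈ fins P, ¬ Commute s x := by
    intro x hx hc
    refine hsC (Subgroup.mem_centralizer_iff.2 fun y hy => ?_)
    by_cases hy1 : y = 1
    · simp [hy1]
    by_contra hne
    obtain ⟨i, hi⟩ := horb y ((hmem _ _).2 ⟨hy1, hy⟩) (fun h => hne h.symm.eq) x hx
    apply hne
    have hyx : y = x := by
      calc y = (s ^ i)⁻¹ * (s ^ i * y * (s ^ i)⁻¹) * s ^ i := by group
        _ = (s ^ i)⁻¹ * x * s ^ i := by rw [hi]
        _ = x := by rw [mul_assoc, ← (hc.pow_left i).eq, inv_mul_cancel_left]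
    rw [hyx]
    exact hc.symm.eq
  -- equality of subgroups of order four
  have heq : ∀ D D' : Subgroup G, Nat.card ↥D = 4 → Nat.card ↥D' = 4 → ∀ a b : G,
      a ∈ fins D → b ∈ fins D → a ∈ D' → b ∈ D' → a ≠ b → D = D' := by
    intro D D' hD hD' a b ha hb ha' hb' hab
    obtain ⟨ha1, haD⟩ := (hmem _ _).1 ha
    obtain ⟨hb1, hbD⟩ := (hmem _ _).1 hb
    have h3 : 3 ≤ Nat.card ↥(D ⊓ D') := by
      have hsub : ({1, a, b} : Set G) ⊆ (D ⊓ D' : Subgroup G) := by
        rintro z (rfl | rfl | rfl)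
        · exact one_mem _
        · exact ⟨haD, ha'⟩
        · exact ⟨hbD, hb'⟩
      have := Set.ncard_le_ncard hsub
      rw [Set.ncard_eq_three.2 ⟨1, a, b, ha1.symm, hb1.symm, hab, rfl⟩, ← Nat.card_coe_set_eq] at this
      exact this
    have h4 : Nat.card ↥(D ⊓ D') ∣ 4 := hD ▸ Subgroup.card_dvd_of_le inf_le_left
    have hc : Nat.card ↥(D ⊓ D') = 4 := by
      have := Nat.le_of_dvd (by norm_num) h4
      by_contra hne
      have h3' : Nat.card ↥(D ⊓ D') = 3 := by omega
      rw [h3'] at h4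
      norm_num at h4
    rw [← Subgroup.eq_of_le_of_card_ge (inf_le_left : D ⊓ D' ≤ D) (by rw [hc, hD]),
      Subgroup.eq_of_le_of_card_ge (inf_le_right : D ⊓ D' ≤ D') (by rw [hc, hD'])]
  -- the translates
  let T : ℕ → Subgroup G := fun i => E.map (MulAut.conj (s ^ i)).toMonoidHom
  have hT4 : ∀ i, Nat.card ↥(T i) = 4 := fun i => by
    rw [Subgroup.card_map_of_injective (MulEquiv.injective _), hE4]
  let Φ : ℕ × G × G → G × G := fun p =>
    (s ^ p.1 * p.2.1 * (s ^ p.1)⁻¹, s ^ p.1 * p.2.2 * (s ^ p.1)⁻¹)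
  have hsurj : (Finset.range 7 ×ˢ (fins E).offDiag).image Φ = (fins P).offDiag := by
    refine Finset.eq_of_subset_of_card_le (fun z hz => ?_) ?_
    · obtain ⟨⟨i, a, b⟩, hp, rfl⟩ := Finset.mem_image.1 hz
      obtain ⟨-, ha, hb, hab⟩ := by simpa only [Finset.mem_product, Finset.mem_offDiag] using hp
      obtain ⟨ha1, haE⟩ := (hmem _ _).1 ha
      obtain ⟨hb1, hbE⟩ := (hmem _ _).1 hb
      rw [Finset.mem_offDiag]
      refine ⟨(hmem _ _).2 ⟨fun h => ha1 (conj_eq_one_iff.1 h), hN i a (hE haE)⟩,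
        (hmem _ _).2 ⟨fun h => hb1 (conj_eq_one_iff.1 h), hN i b (hE hbE)⟩, fun h => hab ?_⟩
      exact mul_left_cancel (mul_right_cancel h)
    · rw [Finset.card_image_of_injOn]
      · rw [Finset.offDiag_card, Finset.card_product, Finset.offDiag_card, hfins, hfins, hP, hE4,
          Finset.card_range]
      rintro ⟨i, a, b⟩ hp ⟨j, a', b'⟩ hq h
      obtain ⟨hi, ha, hb, hab⟩ := by
        simpa only [Finset.mem_coe, Finset.mem_product, Finset.mem_offDiag, Finset.mem_range] using hp
      obtain ⟨hj, ha', hb', -⟩ := by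
        simpa only [Finset.mem_coe, Finset.mem_product, Finset.mem_offDiag, Finset.mem_range] using hq
      simp only [Φ, Prod.mk.injEq] at h
      obtain ⟨h1, h2⟩ := h
      have hij : i = j := by
        by_contra hne
        -- then `s` normalises `E`, so an orbit of seven points lies in `E`
        have hTT : T i = T j := by
          refine heq _ _ (hT4 i) (hT4 j) (s ^ i * a * (s ^ i)⁻¹) (s ^ i * b * (s ^ i)⁻¹) ?_ ?_ ?_ ?_
            fun h => hab (mul_left_cancel (mul_right_cancel h))
          · obtain ⟨ha1, haE⟩ := (hmem _ _).1 ha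
            exact (hmem _ _).2 ⟨fun h => ha1 (conj_eq_one_iff.1 h), a, haE, rfl⟩
          · obtain ⟨hb1, hbE⟩ := (hmem _ _).1 hb
            exact (hmem _ _).2 ⟨fun h => hb1 (conj_eq_one_iff.1 h), b, hbE, rfl⟩
          · rw [h1]; exact ⟨a', ((hmem _ _).1 ha').2, rfl⟩
          · rw [h2]; exact ⟨b', ((hmem _ _).1 hb').2, rfl⟩
        have hd : (s ^ j)⁻¹ * s ^ i ∈ Subgroup.normalizer (E : Set G) := by
          rw [Subgroup.mem_normalizer_iff_map_conj_eq]
          have h' := congrArg (Subgroup.map (MulAut.conj (s ^ j)⁻¹).toMonoidHom) hTT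
          simp only [T, Subgroup.map_map] at h'
          refine (Eq.trans ?_ (h'.trans ?_))
          · congr 1
            ext x
            simp
          · refine Eq.trans ?_ (Subgroup.map_id E)
            congr 1
            ext x
            simp
        have hsE : s ∈ Subgroup.normalizer (E : Set G) := by
          have hz : (s ^ j)⁻¹ * s ^ i = s ^ (i + (7 - j)) := by
            have h7 : s ^ (7 : ℕ) = 1 := hs ▸ pow_orderOf_eq_one s
            rw [inv_mul_eq_iff_eq_mul, ← pow_add, show j + (i + (7 - j)) = i + 7 by omega, pow_add, h7,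
              mul_one]
          rw [hz] at hd
          have hco : Nat.Coprime (i + (7 - j)) (orderOf s) := by
            rw [hs]
            refine ((Nat.Prime.coprime_iff_not_dvd (by norm_num)).2 fun h7 => hne ?_).symm
            omega
          obtain ⟨e, he⟩ := exists_pow_eq_self_of_coprime hco
          rw [← he]
          exact pow_mem hd e
        obtain ⟨ha1, haE⟩ := (hmem _ _).1 ha
        have hsub : (Finset.range 7).image (fun k => s ^ k * a * (s ^ k)⁻¹) ⊆ fins E := by
          intro z hz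
          obtain ⟨k, -, rfl⟩ := Finset.mem_image.1 hz
          exact (hmem _ _).2 ⟨fun h => ha1 (conj_eq_one_iff.1 h),
            (Subgroup.mem_normalizer_iff.1 (pow_mem hsE k) a).1 haE⟩
        have hle := Finset.card_le_card hsub
        rw [hfins, hE4, Finset.card_image_of_injOn, Finset.card_range] at hle
        · omega
        · intro k hk l hl h
          simp only [Finset.coe_range, Set.mem_Iio] at hk hl
          by_contra hkl
          exact hfree a ((hmem _ _).2 ⟨ha1, hE haE⟩) (hgen k l hk hl hkl a h)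
      subst hij
      simp only [Prod.mk.injEq, true_and]
      exact ⟨mul_left_cancel (mul_right_cancel h1), mul_left_cancel (mul_right_cancel h2)⟩
  -- two elements of `F`
  have hne : (fins F).offDiag.Nonempty := by
    rw [← Finset.card_pos, Finset.offDiag_card, hfins, hF4]
    norm_num
  obtain ⟨⟨z, y⟩, hzy⟩ := hne
  obtain ⟨hz, hy, hne⟩ := Finset.mem_offDiag.1 hzy
  have hzy' : (z, y) ∈ (fins P).offDiag := by
    rw [Finset.mem_offDiag]
    obtain ⟨hz1, hzF⟩ := (hmem _ _).1 hz
    obtain ⟨hy1, hyF⟩ := (hmem _ _).1 hy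
    exact ⟨(hmem _ _).2 ⟨hz1, hF hzF⟩, (hmem _ _).2 ⟨hy1, hF hyF⟩, hne⟩
  rw [← hsurj, Finset.mem_image] at hzy'
  obtain ⟨⟨i, a, b⟩, hp, he⟩ := hzy'
  obtain ⟨-, ha, hb, -⟩ := by simpa only [Finset.mem_product, Finset.mem_offDiag] using hp
  simp only [Φ, Prod.mk.injEq] at he
  refine ⟨s ^ i, heq F (T i) hF4 (hT4 i) z y hz hy ?_ ?_ hne⟩
  · exact ⟨a, ((hmem _ _).1 ha).2, he.1⟩
  · exact ⟨b, ((hmem _ _).1 hb).2, he.2⟩

end CfsgLib.Chev
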