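import Mathlib
import Cfsg.Prelude.Def_Classical
import Cfsg.Agent.Lib.KnownB.TorusPSL
import Cfsg.Agent.Lib.KnownB.TorusPSU
import Cfsg.Agent.Lib.KnownC.GroupEmbeds
import Cfsg.Agent.Lib.KnownA.SpEmbed
import Cfsg.Agent.Lib.Geom.PSpInvol

/-!
Elements of order 65 in small classical groups over the field with eight elements.
-/

set_option autoImplicit false

namespace CfsgLib.Chev.Elem65

open Matrix CfsgLib.KnownC

/-- `SL₂` over a quadratic extension inside `Sp₄`. -/
theorem sl2_embeds_symplectic {F K : Type*} [Field F] [Fintype F] [Field K] [Fintype K] {q : ℕ}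
    (hK : Fintype.card K = q ^ 2) (hF : Fintype.card F = q) :
    ∃ φ : Matrix.SpecialLinearGroup (Fin 2) K →* ↥(Matrix.symplecticGroup (Fin 2) F), Function.Injective φ := by
  obtain ⟨D, hD⟩ := exists_extData hK hF
  let Lf : (Fin 2 → K) →+ (Fin 2 ⊕ Fin 2 → F) :=
    AddMonoidHom.mk' (fun v => Sum.elim ![D.c0 (v 0), D.c1 (v 0)] ![D.tr (v 1), D.tr (D.gen * v 1)]) fun u v => by
      funext i
      rcases i with i | i <;> fin_cases i <;> simp [D.c0_add, D.c1_add, D.tr_add, mul_add]
  have hinj : Function.Injective Lf := by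
    refine (injective_iff_map_eq_zero _).2 fun v hv => ?_
    have h0 : D.c0 (v 0) = 0 := congrFun hv (Sum.inl 0)
    have h1 : D.c1 (v 0) = 0 := congrFun hv (Sum.inl 1)
    have h2 : D.tr (v 1) = 0 := congrFun hv (Sum.inr 0)
    have h3 : D.tr (D.gen * v 1) = 0 := congrFun hv (Sum.inr 1)
    funext i
    fin_cases i
    · show v 0 = 0
      rw [← D.decomp (v 0), h0, h1]; simp
    · exact D.eq_zero_of_tr h2 h3
  obtain ⟨L, hL⟩ := exists_addEquiv_of_injective Lf hinj (by simp [hK, hF, ← pow_mul])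
  have hspec : ∀ u v, Cfsg.sympForm 2 F (L u) (L v) = D.tr (v 0 * u 1) - D.tr (u 0 * v 1) := by
    intro u v
    rw [hL, hL, CfsgLib.Geom.sympForm_eq_sum, Fin.sum_univ_two, ← D.tr_mul (v 0) (u 1), ← D.tr_mul (u 0) (v 1)]
    simp [Lf]
    ring
  obtain ⟨ψ, hψ⟩ := exists_embed_of_addEquiv D.emb L
    (fun t v => by
      rw [hL, hL]
      funext i
      rcases i with i | i <;> fin_cases i <;>
        simp [Lf, D.c0_emb_mul, D.c1_emb_mul, D.tr_emb_mul, mul_left_comm D.gen])
    (Matrix.SpecialLinearGroup.toGL : Matrix.SpecialLinearGroup (Fin 2) K →* GL (Fin 2) K).range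
    { carrier := {g | (g : Matrix (Fin 2 ⊕ Fin 2) (Fin 2 ⊕ Fin 2) F) ∈ Matrix.symplecticGroup (Fin 2) F}
      mul_mem' := fun {a b} ha hb => by
        show ((a * b : GL _ F) : Matrix _ _ F) ∈ Matrix.symplecticGroup (Fin 2) F
        rw [Units.val_mul]; exact Submonoid.mul_mem _ ha hb
      one_mem' := by simpa using Submonoid.one_mem (Matrix.symplecticGroup (Fin 2) F)
      inv_mem' := fun {g} hg => by
        rw [Set.mem_ofPred_eq, CfsgLib.Geom.mem_symplecticGroup_iff_form] at hg ⊢
        intro u v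
        rw [← hg (_ *ᵥ u), Matrix.mulVec_mulVec, Matrix.mulVec_mulVec, ← Units.val_mul,
          mul_inv_cancel, Units.val_one, Matrix.one_mulVec, Matrix.one_mulVec] }
    (fun g hg g' hg' => by
      obtain ⟨s, rfl⟩ := hg
      show (g' : Matrix _ _ F) ∈ Matrix.symplecticGroup (Fin 2) F
      rw [CfsgLib.Geom.mem_symplecticGroup_iff_form]
      intro u v
      obtain ⟨u, rfl⟩ := L.surjective u
      obtain ⟨v, rfl⟩ := L.surjective v
      rw [hg', hg', hspec, hspec]
      refine D.emb.injective ?_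
      have hd := s.2
      rw [Matrix.det_fin_two] at hd
      have e : ((Matrix.SpecialLinearGroup.toGL s : GL (Fin 2) K) : Matrix (Fin 2) (Fin 2) K) = s.1 := rfl
      simp only [map_sub, D.emb_tr, map_mul, e, Matrix.mulVec, dotProduct,
        Fin.sum_univ_two, map_add]
      have hd' := congrArg D.conj hd
      rw [map_one, map_sub, map_mul, map_mul] at hd'
      linear_combination (v 0 * u 1 - u 0 * v 1) * hd + (D.conj (v 0) * D.conj (u 1) - D.conj (u 0) * D.conj (v 1)) * hd')
  refine ⟨(MonoidHom.codRestrict ((Units.coeHom _).comp ((Subgroup.subtype _).comp ψ))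
      (Matrix.symplecticGroup (Fin 2) F) fun g => (ψ g).2).comp Matrix.SpecialLinearGroup.toGL.rangeRestrict,
    fun a b h => ?_⟩
  have h' := hψ (Subtype.ext (Units.ext (congrArg Subtype.val h)))
  exact Matrix.SpecialLinearGroup.toGL_injective (congrArg Subtype.val h')

/-- An element of a given order above an element of that order in a quotient. -/
theorem exists_lift {G H : Type*} [Group G] [Finite G] [Group H] (f : G →* H) (hf : Function.Surjective f)
    {n : ℕ} (h : ∃ y : H, orderOf y = n) : ∃ x : G, orderOf x = n := by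
  obtain ⟨y, rfl⟩ := h
  obtain ⟨x, rfl⟩ := hf y
  exact ⟨x ^ (orderOf x / orderOf (f x)),
    orderOf_pow_orderOf_div (orderOf_pos x).ne' (orderOf_map_dvd f x)⟩

theorem psl_two {K : Type*} [Field K] [Fintype K] (h : Fintype.card K = 64) :
    ∃ g : Matrix.ProjectiveSpecialLinearGroup (Fin 2) K, orderOf g = 65 :=
  CfsgLib.KnownB.TorusPSL.exists_of_dvd (m := 1) (q := 64) h le_rfl (by norm_num)

theorem psl_four {F : Type*} [Field F] [Fintype F] (h : Fintype.card F = 8) :
    ∃ g : Matrix.ProjectiveSpecialLinearGroup (Fin 4) F, orderOf g = 65 :=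
  CfsgLib.KnownB.TorusPSL.exists_of_dvd (m := 2) (q := 8) h (by norm_num) (by norm_num)

theorem psu_four {K : Type*} [Field K] [Fintype K] (h : Fintype.card K = 64) :
    ∃ g : Cfsg.PSU 4 K 8, orderOf g = 65 := by
  obtain ⟨x, hx⟩ := CfsgLib.KnownB.TorusPSU.exists_of_dvd (q := 8) (F := K) (by rw [h]; norm_num)
    (m := 2) le_rfl (by norm_num)
  exact ⟨x, hx.trans (by norm_num [CfsgLib.KnownB.TorusPSU.eOrd])⟩

theorem sp_four {F K : Type*} [Field F] [Fintype F] [Field K] [Fintype K] (h : Fintype.card F = 8)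
    (hK : Fintype.card K = 64) : ∃ A : Matrix.symplecticGroup (Fin 2) F, orderOf A = 65 := by
  obtain ⟨φ, hφ⟩ := sl2_embeds_symplectic (q := 8) (by rw [hK]; norm_num) h
  obtain ⟨s, hs⟩ := exists_lift (QuotientGroup.mk' _) (QuotientGroup.mk'_surjective _) (psl_two hK)
  exact ⟨φ s, (orderOf_injective φ hφ s).trans hs⟩

theorem sp_six {F K : Type*} [Field F] [Fintype F] [Field K] [Fintype K] (h : Fintype.card F = 8)
    (hK : Fintype.card K = 64) : ∃ A : Matrix.symplecticGroup (Fin 3) F, orderOf A = 65 := by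
  obtain ⟨A, hA⟩ := sp_four h hK
  let f : Matrix.symplecticGroup (Fin 2) F →* Matrix.symplecticGroup (Fin 3) F :=
    (CfsgLib.KnownA.SpEmbed.reindexSp (finSumFinEquiv : Fin 2 ⊕ Fin 1 ≃ Fin 3)).toMonoidHom.comp
      (CfsgLib.KnownA.SpEmbed.spSum.comp (MonoidHom.inl _ _))
  refine ⟨f A, (orderOf_injective f ?_ A).trans hA⟩
  intro a b hab
  exact congrArg Prod.fst (CfsgLib.KnownA.SpEmbed.spSum_injective (a₁ := (a, 1)) (a₂ := (b, 1))
    ((MulEquiv.injective (CfsgLib.KnownA.SpEmbed.reindexSp _)) hab))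

/-- Odd orders survive in the quotient by the centre in characteristic two. -/
theorem psp_of_sp {F : Type*} [Field F] [Fintype F] {m : ℕ} (hm : 1 ≤ m) (hF : ringChar F = 2)
    {A : Matrix.symplecticGroup (Fin m) F} :
    orderOf (QuotientGroup.mk A : Cfsg.PSp m F) = orderOf A := by
  haveI : CharP F 2 := ringChar.eq_iff.1 hF
  refine orderOf_injective (QuotientGroup.mk' (Subgroup.center (Matrix.symplecticGroup (Fin m) F))) ?_ A
  refine (injective_iff_map_eq_one _).2 fun B hB => ?_
  have h := CfsgLib.Geom.spLin_center hm ((QuotientGroup.eq_one_iff B).1 hB)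
  refine Subtype.ext (Matrix.toLin'.injective (LinearMap.ext fun v => ?_))
  simp only [CfsgLib.Geom.spLin_apply] at h
  funext i
  rcases h with h | h <;> simpa [CharTwo.neg_eq] using congrFun (h v) i

end CfsgLib.Chev.Elem65
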