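import Cfsg.Agent.Lib.Chev.F4InvolTwo

/-!
Ranks of the representatives of the involution classes of F₄ in characteristic two.
-/

set_option autoImplicit false
set_option maxRecDepth 100000

namespace CfsgLib.Chev.F4Cert

open Cfsg.Lie

/-- Certificate. -/
def rk_full0U : List (List ℕ) := [[0, 15, 30], [28], [30], [33], [35], [36], [40], [42], [43], [44], [46], [47], [48], [49], [50], [51], [16], [17], [18], [19], [20], [21], [22], [23], [24], [25], [26], [27], [1], [29], [2], [31], [32], [3], [34], [4], [5], [37], [38], [39], [6], [41], [7], [8], [9], [45], [10], [11], [12], [13], [14], [15]]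

/-- Certificate. -/
def rk_full0W : List (List ℕ) := [[4], [5], [6], [7], [8], [9], [11], [12], [13], [15], [19], [20], [22], [25], [27], [3], [16], [17], [18], [10], [2], [21], [1], [23], [24], [0], [26], [14], [28], [29], [30], [31], [32], [33], [34], [35], [36], [37], [38], [39], [40], [41], [42], [43], [44], [45], [46], [47], [48], [49], [50], [51]]

/-- Certificate. -/
def rk_full0B : List (List ℕ) := [[0, 2, 51], [28], [30], [33], [35], [36], [40], [42], [43], [44], [46], [47], [48], [49], [50], [51], [16], [17], [18], [19], [20], [21], [22], [23], [24], [25], [26], [27], [1], [29], [2], [31], [32], [3], [34], [4], [5], [37], [38], [39], [6], [41], [7], [8], [9], [45], [10], [11], [12], [13], [14], [15]]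

/-- Certificate. -/
def rk_full0C : List (List ℕ) := [[25], [22], [20], [15], [0], [1], [2], [3], [4], [5], [19], [6], [7], [8], [27], [9], [16], [17], [18], [10], [11], [21], [12], [23], [24], [13], [26], [14], [28], [29], [30], [31], [32], [33], [34], [35], [36], [37], [38], [39], [40], [41], [42], [43], [44], [45], [46], [47], [48], [49], [50], [51]]

theorem rank_full0 : rankOn chevF4 (upto (dimL chevF4)) [47] 16 rk_full0U rk_full0W rk_full0B rk_full0C = true := by
  decide +kernel

/-- Certificate. -/
def rk_short0U : List (List ℕ) := [[33], [40], [42], [43], [44], [48], [6], [7], [8], [9], [10], [11], [12], [13], [14], [15], [16], [17], [18], [19], [20], [21], [22], [23], [24], [25], [26], [27], [28], [29], [30], [31], [32], [0], [34], [35], [36], [37], [38], [39], [1], [41], [2], [3], [4], [45], [46], [47], [5], [49], [50], [51]]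

/-- Certificate. -/
def rk_short0W : List (List ℕ) := [[7], [11], [12], [13], [15], [22], [6], [0], [8], [9], [10], [1], [2], [3], [14], [4], [16], [17], [18], [19], [20], [21], [5], [23], [24], [25], [26], [27], [28], [29], [30], [31], [32], [33], [34], [35], [36], [37], [38], [39], [40], [41], [42], [43], [44], [45], [46], [47], [48], [49], [50], [51]]

/-- Certificate. -/
def rk_short0B : List (List ℕ) := [[33], [40], [42], [43], [44], [48], [6], [7], [8], [9], [10], [11], [12], [13], [14], [15], [16], [17], [18], [19], [20], [21], [22], [23], [24], [25], [26], [27], [28], [29], [30], [31], [32], [0], [34], [35], [36], [37], [38], [39], [1], [41], [2], [3], [4], [45], [46], [47], [5], [49], [50], [51]]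

/-- Certificate. -/
def rk_short0C : List (List ℕ) := [[7], [11], [12], [13], [15], [22], [6], [0], [8], [9], [10], [1], [2], [3], [14], [4], [16], [17], [18], [19], [20], [21], [5], [23], [24], [25], [26], [27], [28], [29], [30], [31], [32], [33], [34], [35], [36], [37], [38], [39], [40], [41], [42], [43], [44], [45], [46], [47], [48], [49], [50], [51]]

theorem rank_short0 : rankOn chevF4 isoF4.sub [47] 6 rk_short0U rk_short0W rk_short0B rk_short0C = true := by
  decide +kernel

/-- Certificate. -/
def rk_full1U : List (List ℕ) := [[22], [0, 15], [23], [24], [31], [32], [33], [37], [38], [39], [40], [41], [42], [43], [44], [48], [16], [17], [18], [19], [20], [21], [1, 45], [2, 46], [3, 47], [25], [26], [27], [28], [29], [30], [4, 49], [5, 50], [6, 51], [34], [35], [36], [7], [8], [9], [10], [11], [12], [13], [14], [45], [46], [47], [15], [49], [50], [51]]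

/-- Certificate. -/
def rk_full1W : List (List ℕ) := [[7], [4], [5], [6], [8], [9], [10], [11], [12], [13], [14], [15], [16], [17], [18], [0], [1], [2], [3], [19], [20], [21], [22], [23], [24], [25], [26], [27], [28], [29], [30], [31], [32], [33], [34], [35], [36], [37], [38], [39], [40], [41], [42], [43], [44], [45], [46], [47], [48], [49], [50], [51]]

/-- Certificate. -/
def rk_full1B : List (List ℕ) := [[1, 48], [22, 45], [23, 46], [24, 47], [31, 49], [32, 50], [33, 51], [37], [38], [39], [40], [41], [42], [43], [44], [48], [16], [17], [18], [19], [20], [21], [0], [2], [3], [25], [26], [27], [28], [29], [30], [4], [5], [6], [34], [35], [36], [7], [8], [9], [10], [11], [12], [13], [14], [45], [46], [47], [15], [49], [50], [51]]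

/-- Certificate. -/
def rk_full1C : List (List ℕ) := [[15], [16], [17], [18], [1], [2], [3], [0], [4], [5], [6], [7], [8], [9], [10], [11], [12], [13], [14], [19], [20], [21], [22], [23], [24], [25], [26], [27], [28], [29], [30], [31], [32], [33], [34], [35], [36], [37], [38], [39], [40], [41], [42], [43], [44], [45], [46], [47], [48], [49], [50], [51]]

theorem rank_full1 : rankOn chevF4 (upto (dimL chevF4)) [44] 16 rk_full1U rk_full1W rk_full1B rk_full1C = true := by
  decide +kernel

/-- Certificate. -/
def rk_short1U : List (List ℕ) := [[37], [0, 9], [38], [39], [40], [41], [42], [43], [44], [48], [10], [11], [12], [13], [14], [15], [16], [17], [18], [19], [20], [21], [22], [23], [24], [25], [26], [27], [28], [29], [30], [31], [32], [33], [34], [35], [36], [1], [2], [3], [4], [5], [6], [7], [8], [45], [46], [47], [9], [49], [50], [51]]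

/-- Certificate. -/
def rk_short1W : List (List ℕ) := [[7], [11], [12], [13], [14], [15], [16], [17], [18], [0], [10], [1], [2], [3], [4], [5], [6], [9], [8], [19], [20], [21], [22], [23], [24], [25], [26], [27], [28], [29], [30], [31], [32], [33], [34], [35], [36], [37], [38], [39], [40], [41], [42], [43], [44], [45], [46], [47], [48], [49], [50], [51]]

/-- Certificate. -/
def rk_short1B : List (List ℕ) := [[1, 48], [37], [38], [39], [40], [41], [42], [43], [44], [48], [10], [11], [12], [13], [14], [15], [16], [17], [18], [19], [20], [21], [22], [23], [24], [25], [26], [27], [28], [29], [30], [31], [32], [33], [34], [35], [36], [0], [2], [3], [4], [5], [6], [7], [8], [45], [46], [47], [9], [49], [50], [51]]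

/-- Certificate. -/
def rk_short1C : List (List ℕ) := [[9], [11], [12], [13], [14], [15], [16], [0], [18], [17], [10], [1], [2], [3], [4], [5], [6], [7], [8], [19], [20], [21], [22], [23], [24], [25], [26], [27], [28], [29], [30], [31], [32], [33], [34], [35], [36], [37], [38], [39], [40], [41], [42], [43], [44], [45], [46], [47], [48], [49], [50], [51]]

theorem rank_short1 : rankOn chevF4 isoF4.sub [44] 10 rk_short1U rk_short1W rk_short1B rk_short1C = true := by
  decide +kernel

/-- Certificate. -/
def rk_full2U : List (List ℕ) := [[0, 19, 20, 22, 23, 45], [1, 6, 19, 20], [23], [24], [31], [32], [33], [37], [38], [39], [40], [41], [42], [43], [44], [46], [47], [49], [50], [51], [48], [21], [22], [2, 15, 28], [3, 16, 30], [25], [26], [27], [28], [29], [30], [4, 17, 35], [5, 18, 36], [6, 19], [34], [35], [36], [7, 10], [8, 12], [9, 13], [10], [11, 14], [12], [13], [14], [45], [15], [16], [20], [17], [18], [19]]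

/-- Certificate. -/
def rk_full2W : List (List ℕ) := [[4], [7], [5], [6], [8], [9], [10], [11], [12], [13], [14], [15], [16], [17], [18], [19], [20], [25], [27], [3], [0], [21], [0, 22], [23], [24], [2], [26], [1], [28], [29], [30], [31], [32], [33], [34], [35], [36], [37], [38], [39], [40], [41], [42], [43], [44], [45], [46], [47], [48], [49], [50], [51]]

/-- Certificate. -/
def rk_full2B : List (List ℕ) := [[0, 2, 22, 45, 48, 51], [1, 33, 48], [23, 28, 46], [24, 30, 47], [31, 35, 49], [32, 36, 50], [33, 51], [37, 40], [38, 42], [39, 43], [40], [41, 44], [42], [43], [44], [46], [47], [49], [50], [51], [48], [21], [22], [2], [3], [25], [26], [27], [28], [29], [30], [4], [5], [6], [34], [35], [36], [7], [8], [9], [10], [11], [12], [13], [14], [45], [15], [16], [20], [17], [18], [19]]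

/-- Certificate. -/
def rk_full2C : List (List ℕ) := [[20], [27], [25], [19], [0], [2], [3], [1], [4], [5], [6], [7], [8], [9], [10], [11], [12], [13], [14], [15], [16], [21], [20, 22], [23], [24], [17], [26], [18], [28], [29], [30], [31], [32], [33], [34], [35], [36], [37], [38], [39], [40], [41], [42], [43], [44], [45], [46], [47], [48], [49], [50], [51]]

theorem rank_full2 : rankOn chevF4 (upto (dimL chevF4)) [47, 44] 21 rk_full2U rk_full2W rk_full2B rk_full2C = true := by
  decide +kernel

/-- Certificate. -/
def rk_short2U : List (List ℕ) := [[37], [0, 9, 33], [38], [39], [40], [41], [42], [43], [44], [48], [10], [11], [12], [13], [14], [15], [16], [17], [18], [19], [20], [21], [22], [23], [24], [25], [26], [27], [28], [29], [30], [31], [32], [33], [34], [35], [36], [1, 4], [2, 6], [3, 7], [4], [5, 8], [6], [7], [8], [45], [46], [47], [9], [49], [50], [51]]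

/-- Certificate. -/
def rk_short2W : List (List ℕ) := [[7], [11], [12], [13], [14], [15], [16], [17], [18], [0], [10], [1], [2], [3], [4], [5], [6], [9], [8], [19], [20], [21], [0, 22], [23], [24], [25], [26], [27], [28], [29], [30], [31], [32], [33], [34], [35], [36], [37], [38], [39], [40], [41], [42], [43], [44], [45], [46], [47], [48], [49], [50], [51]]

/-- Certificate. -/
def rk_short2B : List (List ℕ) := [[1, 33, 48], [37, 40], [38, 42], [39, 43], [40], [41, 44], [42], [43], [44], [48], [10], [11], [12], [13], [14], [15], [16], [17], [18], [19], [20], [21], [22], [23], [24], [25], [26], [27], [28], [29], [30], [31], [32], [33], [34], [35], [36], [0], [2], [3], [4], [5], [6], [7], [8], [45], [46], [47], [9], [49], [50], [51]]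

/-- Certificate. -/
def rk_short2C : List (List ℕ) := [[9], [11], [12], [13], [14], [15], [16], [0], [18], [17], [10], [1], [2], [3], [4], [5], [6], [7], [8], [19], [20], [21], [9, 22], [23], [24], [25], [26], [27], [28], [29], [30], [31], [32], [33], [34], [35], [36], [37], [38], [39], [40], [41], [42], [43], [44], [45], [46], [47], [48], [49], [50], [51]]

theorem rank_short2 : rankOn chevF4 isoF4.sub [47, 44] 10 rk_short2U rk_short2W rk_short2B rk_short2C = true := by
  decide +kernel

/-- Certificate. -/
def rk_full3U : List (List ℕ) := [[1, 17], [45], [40], [0, 1, 16], [43], [41], [24], [32], [33], [34], [35], [37], [39], [2, 18, 22, 25, 29], [3, 19, 23, 26, 30], [46], [49], [4, 20, 31], [5, 36], [42], [44], [48], [50], [51], [6, 21, 38], [25], [26], [27], [28], [29], [30], [31], [7], [8], [9], [10], [36], [11, 47], [38], [12], [13], [18], [19], [17], [20], [14], [15], [47], [21], [16, 17], [22], [23]]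

/-- Certificate. -/
def rk_full3W : List (List ℕ) := [[6], [12], [4], [5], [7], [8], [11], [15], [16], [9], [10], [19], [22], [23], [20], [21], [2], [1], [13], [14], [17], [24], [13, 25], [14, 26], [3], [0], [18], [27], [28], [13, 25, 29], [14, 26, 30], [17, 31], [32], [33], [34], [35], [36], [37], [24, 38], [39], [40], [41], [42], [43], [44], [45], [46], [47], [48], [49], [50], [51]]

/-- Certificate. -/
def rk_full3B : List (List ℕ) := [[0, 3, 49], [0, 43], [13, 25, 29, 41, 50], [14, 26, 30, 42, 51], [17, 31, 44], [18, 36], [24, 38, 48], [32], [33], [34], [35], [37, 47], [39], [40], [45], [46], [43, 49], [43], [41], [42], [44], [48], [50], [51], [6], [25], [26], [27], [28], [29], [30], [31], [7], [8], [9], [10], [36], [11], [38], [12], [2], [5], [19], [4], [20], [1], [15], [47], [21], [16], [22], [23]]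

/-- Certificate. -/
def rk_full3C : List (List ℕ) := [[25], [17], [16], [24], [2], [3], [0], [4], [5], [9], [10], [6], [1], [18], [19], [7], [8], [20], [26], [11], [14], [15], [12], [13], [21], [18, 22], [19, 23], [27], [28], [22, 29], [23, 30], [20, 31], [32], [33], [34], [35], [36], [37], [21, 38], [39], [40], [41], [42], [43], [44], [45], [46], [47], [48], [49], [50], [51]]

theorem rank_full3 : rankOn chevF4 (upto (dimL chevF4)) [39, 45] 24 rk_full3U rk_full3W rk_full3B rk_full3C = true := by
  decide +kernel

/-- Certificate. -/
def rk_short3U : List (List ℕ) := [[0, 9], [17], [24], [32], [33], [39], [40], [41], [42], [43], [44], [48], [12], [13], [14], [15], [16], [1, 10, 31], [18], [19], [20], [21], [22], [23], [2, 11, 38], [25], [26], [27], [28], [29], [30], [31], [3], [4], [34], [35], [36], [37], [38], [5], [6], [7], [8], [9], [10], [45], [46], [47], [11], [49], [50], [51]]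

/-- Certificate. -/
def rk_short3W : List (List ℕ) := [[12], [7], [11], [15], [16], [22], [23], [13], [14], [1], [17], [24], [0], [9], [8], [3], [4], [10], [18], [19], [20], [21], [5], [6], [2], [25], [26], [27], [28], [29], [30], [17, 31], [32], [33], [34], [35], [36], [37], [24, 38], [39], [40], [41], [42], [43], [44], [45], [46], [47], [48], [49], [50], [51]]

/-- Certificate. -/
def rk_short3B : List (List ℕ) := [[0, 43], [17, 31, 44], [24, 38, 48], [32], [33], [39], [40], [41], [42], [43], [44], [48], [12], [13], [14], [15], [16], [1], [18], [19], [20], [21], [22], [23], [2], [25], [26], [27], [28], [29], [30], [31], [3], [4], [34], [35], [36], [37], [38], [5], [6], [7], [8], [9], [10], [45], [46], [47], [11], [49], [50], [51]]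

/-- Certificate. -/
def rk_short3C : List (List ℕ) := [[12], [9], [24], [15], [16], [22], [23], [1], [14], [13], [17], [2], [0], [7], [8], [3], [4], [10], [18], [19], [20], [21], [5], [6], [11], [25], [26], [27], [28], [29], [30], [10, 31], [32], [33], [34], [35], [36], [37], [11, 38], [39], [40], [41], [42], [43], [44], [45], [46], [47], [48], [49], [50], [51]]

theorem rank_short3 : rankOn chevF4 isoF4.sub [39, 45] 12 rk_short3U rk_short3W rk_short3B rk_short3C = true := by
  decide +kernel

end CfsgLib.Chev.F4Cert
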