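import Cfsg.Agent.Lib.Chev.StructF4

/-!
Tables for the involutions of F₄(q), q odd: the involutions of the Weyl group with the moves that shorten them,
and the stabilisers of the two classes of involutions of the torus.
-/

set_option autoImplicit false

namespace CfsgLib.Chev.F4Invol

/-- Words of the involutions of the Weyl group. -/
def invWords : List (List ℕ) := [
  [], [0], [1], [2], [3], [0, 1, 0], [1, 2, 1], [2, 1, 2], [2, 3, 2], [0, 1, 2, 1, 0], [1, 2, 3, 2, 1],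
  [2, 0, 1, 2, 0], [3, 2, 1, 2, 3], [0, 1, 2, 3, 2, 1, 0], [1, 2, 0, 1, 2, 0, 1], [2, 1, 2, 3, 2, 1, 2],
  [3, 2, 0, 1, 2, 3, 0], [2, 0, 1, 2, 3, 2, 1, 2, 0], [3, 1, 2, 0, 1, 2, 3, 0, 1],
  [1, 2, 0, 1, 2, 3, 2, 1, 2, 0, 1], [2, 3, 1, 2, 0, 1, 2, 3, 0, 1, 2], [1, 2, 3, 1, 2, 0, 1, 2, 3, 0, 1, 2, 1],
  [2, 1, 2, 0, 1, 2, 3, 2, 1, 2, 0, 1, 2], [0, 1, 2, 3, 1, 2, 0, 1, 2, 3, 0, 1, 2, 1, 0],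
  [3, 2, 1, 2, 0, 1, 2, 3, 2, 1, 2, 0, 1, 2, 3], [2, 0], [3, 0], [3, 1], [1, 2, 0, 1], [2, 3, 1, 2], [2, 3, 2, 0],
  [3, 0, 1, 0], [0, 1, 2, 0, 1, 0], [1, 2, 3, 1, 2, 1], [1, 2, 3, 2, 0, 1], [2, 1, 2, 0, 1, 2], [2, 3, 0, 1, 2, 0],
  [3, 2, 1, 2, 3, 2], [0, 1, 2, 3, 1, 2, 1, 0], [0, 1, 2, 3, 2, 0, 1, 0], [1, 2, 3, 0, 1, 2, 0, 1],
  [2, 1, 2, 0, 1, 2, 0, 1], [2, 1, 2, 0, 1, 2, 1, 0], [2, 1, 2, 3, 2, 0, 1, 2], [2, 1, 2, 3, 2, 1, 2, 1],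
  [3, 2, 0, 1, 2, 3, 2, 0], [3, 2, 1, 2, 0, 1, 2, 3], [3, 2, 1, 2, 3, 1, 2, 1], [0, 1, 2, 3, 0, 1, 2, 0, 1, 0],
  [2, 0, 1, 2, 3, 2, 0, 1, 2, 0], [2, 0, 1, 2, 3, 2, 1, 2, 1, 0], [2, 1, 2, 3, 1, 2, 0, 1, 2, 1],
  [2, 3, 2, 1, 2, 0, 1, 2, 3, 2], [3, 1, 2, 0, 1, 2, 3, 2, 0, 1], [3, 2, 0, 1, 2, 3, 1, 2, 1, 0],
  [3, 2, 1, 2, 0, 1, 2, 3, 0, 1], [3, 2, 1, 2, 0, 1, 2, 3, 1, 0], [1, 2, 0, 1, 2, 3, 2, 0, 1, 2, 0, 1],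
  [1, 2, 0, 1, 2, 3, 2, 1, 2, 0, 1, 0], [1, 2, 3, 2, 1, 2, 0, 1, 2, 3, 2, 1], [2, 0, 1, 2, 3, 1, 2, 0, 1, 2, 1, 0],
  [2, 3, 1, 2, 0, 1, 2, 3, 2, 0, 1, 2], [2, 3, 2, 1, 2, 0, 1, 2, 3, 0, 1, 2], [2, 3, 2, 1, 2, 0, 1, 2, 3, 1, 2, 0],
  [3, 1, 2, 0, 1, 2, 3, 1, 2, 0, 1, 0], [0, 1, 2, 3, 2, 1, 2, 0, 1, 2, 3, 2, 1, 0],
  [1, 2, 0, 1, 2, 3, 1, 2, 0, 1, 2, 0, 1, 0], [1, 2, 3, 1, 2, 0, 1, 2, 3, 2, 0, 1, 2, 1],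
  [1, 2, 3, 2, 1, 2, 0, 1, 2, 3, 0, 1, 2, 1], [1, 2, 3, 2, 1, 2, 0, 1, 2, 3, 1, 2, 0, 1],
  [2, 1, 2, 0, 1, 2, 3, 2, 1, 2, 0, 1, 2, 0], [2, 1, 2, 0, 1, 2, 3, 2, 1, 2, 0, 1, 2, 1],
  [2, 1, 2, 3, 2, 1, 2, 0, 1, 2, 3, 2, 1, 2], [2, 3, 1, 2, 0, 1, 2, 3, 1, 2, 0, 1, 2, 0],
  [0, 1, 2, 3, 1, 2, 0, 1, 2, 3, 2, 0, 1, 2, 1, 0], [0, 1, 2, 3, 2, 1, 2, 0, 1, 2, 3, 0, 1, 2, 1, 0],
  [0, 1, 2, 3, 2, 1, 2, 0, 1, 2, 3, 1, 2, 0, 1, 0], [1, 2, 3, 1, 2, 0, 1, 2, 3, 1, 2, 0, 1, 2, 0, 1],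
  [2, 0, 1, 2, 3, 2, 1, 2, 0, 1, 2, 3, 2, 1, 2, 0], [2, 1, 2, 0, 1, 2, 3, 2, 1, 2, 0, 1, 2, 0, 1, 0],
  [2, 1, 2, 3, 2, 1, 2, 0, 1, 2, 3, 1, 2, 0, 1, 2], [2, 1, 2, 3, 2, 1, 2, 0, 1, 2, 3, 2, 0, 1, 2, 1],
  [3, 2, 1, 2, 0, 1, 2, 3, 2, 1, 2, 0, 1, 2, 3, 0], [3, 2, 1, 2, 0, 1, 2, 3, 2, 1, 2, 0, 1, 2, 3, 1],
  [0, 1, 2, 3, 1, 2, 0, 1, 2, 3, 1, 2, 0, 1, 2, 0, 1, 0], [1, 2, 0, 1, 2, 3, 2, 1, 2, 0, 1, 2, 3, 2, 1, 2, 0, 1],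
  [2, 0, 1, 2, 3, 2, 1, 2, 0, 1, 2, 3, 1, 2, 0, 1, 2, 0], [2, 0, 1, 2, 3, 2, 1, 2, 0, 1, 2, 3, 2, 0, 1, 2, 1, 0],
  [3, 2, 1, 2, 0, 1, 2, 3, 2, 1, 2, 0, 1, 2, 3, 0, 1, 0], [3, 2, 1, 2, 0, 1, 2, 3, 2, 1, 2, 0, 1, 2, 3, 2, 1, 2],
  [1, 2, 0, 1, 2, 3, 2, 1, 2, 0, 1, 2, 3, 1, 2, 0, 1, 2, 0, 1],
  [1, 2, 0, 1, 2, 3, 2, 1, 2, 0, 1, 2, 3, 2, 0, 1, 2, 0, 1, 0],
  [2, 1, 2, 0, 1, 2, 3, 2, 1, 2, 0, 1, 2, 3, 2, 1, 2, 0, 1, 2],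
  [3, 2, 1, 2, 0, 1, 2, 3, 2, 1, 2, 0, 1, 2, 3, 2, 0, 1, 2, 0],
  [2, 1, 2, 0, 1, 2, 3, 2, 1, 2, 0, 1, 2, 3, 2, 1, 2, 0, 1, 2, 0, 1],
  [2, 1, 2, 0, 1, 2, 3, 2, 1, 2, 0, 1, 2, 3, 2, 1, 2, 0, 1, 2, 1, 0],
  [3, 2, 1, 2, 0, 1, 2, 3, 2, 1, 2, 0, 1, 2, 3, 1, 2, 0, 1, 2, 0, 1], [2, 1, 2, 1], [2, 0, 1, 2, 1, 0],
  [3, 2, 1, 2, 3, 1], [1, 2, 0, 1, 2, 0, 1, 0], [3, 2, 0, 1, 2, 3, 1, 0], [3, 2, 1, 2, 3, 2, 1, 2],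
  [3, 1, 2, 0, 1, 2, 3, 0, 1, 0], [3, 2, 0, 1, 2, 3, 2, 1, 2, 0], [2, 3, 1, 2, 0, 1, 2, 3, 0, 1, 2, 0],
  [3, 1, 2, 0, 1, 2, 3, 2, 1, 2, 0, 1], [1, 2, 3, 1, 2, 0, 1, 2, 3, 0, 1, 2, 0, 1],
  [2, 3, 1, 2, 0, 1, 2, 3, 2, 1, 2, 0, 1, 2], [0, 1, 2, 3, 1, 2, 0, 1, 2, 3, 0, 1, 2, 0, 1, 0],
  [1, 2, 3, 1, 2, 0, 1, 2, 3, 2, 1, 2, 0, 1, 2, 1], [3, 2, 1, 2, 0, 1, 2, 3, 2, 1, 2, 0, 1, 2, 3, 2],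
  [0, 1, 2, 3, 1, 2, 0, 1, 2, 3, 2, 1, 2, 0, 1, 2, 1, 0], [3, 2, 1, 2, 0, 1, 2, 3, 2, 1, 2, 0, 1, 2, 3, 1, 2, 1],
  [3, 2, 1, 2, 0, 1, 2, 3, 2, 1, 2, 0, 1, 2, 3, 0, 1, 2, 1, 0], [2, 1, 2, 0, 1, 2, 0, 1, 0],
  [3, 2, 1, 2, 3, 2, 1, 2, 1], [3, 2, 0, 1, 2, 3, 2, 1, 2, 1, 0], [3, 2, 1, 2, 0, 1, 2, 3, 0, 1, 0],
  [2, 3, 2, 1, 2, 0, 1, 2, 3, 0, 1, 2, 0], [3, 1, 2, 0, 1, 2, 3, 2, 1, 2, 0, 1, 0],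
  [1, 2, 3, 2, 1, 2, 0, 1, 2, 3, 0, 1, 2, 0, 1], [2, 3, 1, 2, 0, 1, 2, 3, 2, 1, 2, 0, 1, 2, 0],
  [0, 1, 2, 3, 2, 1, 2, 0, 1, 2, 3, 0, 1, 2, 0, 1, 0], [1, 2, 3, 1, 2, 0, 1, 2, 3, 2, 1, 2, 0, 1, 2, 0, 1],
  [2, 1, 2, 3, 2, 1, 2, 0, 1, 2, 3, 1, 2, 0, 1, 2, 1], [3, 2, 1, 2, 0, 1, 2, 3, 2, 1, 2, 0, 1, 2, 3, 2, 0],
  [0, 1, 2, 3, 1, 2, 0, 1, 2, 3, 2, 1, 2, 0, 1, 2, 0, 1, 0],
  [2, 0, 1, 2, 3, 2, 1, 2, 0, 1, 2, 3, 1, 2, 0, 1, 2, 1, 0],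
  [3, 2, 1, 2, 0, 1, 2, 3, 2, 1, 2, 0, 1, 2, 3, 1, 2, 0, 1],
  [3, 2, 1, 2, 0, 1, 2, 3, 2, 1, 2, 0, 1, 2, 3, 2, 1, 2, 1],
  [1, 2, 0, 1, 2, 3, 2, 1, 2, 0, 1, 2, 3, 1, 2, 0, 1, 2, 0, 1, 0],
  [3, 2, 1, 2, 0, 1, 2, 3, 2, 1, 2, 0, 1, 2, 3, 0, 1, 2, 0, 1, 0],
  [3, 2, 1, 2, 0, 1, 2, 3, 2, 1, 2, 0, 1, 2, 3, 2, 0, 1, 2, 1, 0],
  [3, 2, 1, 2, 0, 1, 2, 3, 2, 1, 2, 0, 1, 2, 3, 2, 1, 2, 0, 1, 2],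
  [2, 1, 2, 0, 1, 2, 3, 2, 1, 2, 0, 1, 2, 3, 2, 1, 2, 0, 1, 2, 0, 1, 0],
  [3, 2, 1, 2, 0, 1, 2, 3, 2, 1, 2, 0, 1, 2, 3, 1, 2, 0, 1, 2, 0, 1, 0],
  [3, 2, 1, 2, 0, 1, 2, 3, 2, 1, 2, 0, 1, 2, 3, 2, 1, 2, 0, 1, 2, 0, 1],
  [3, 2, 1, 2, 0, 1, 2, 3, 2, 1, 2, 0, 1, 2, 3, 2, 1, 2, 0, 1, 2, 1, 0],
  [3, 2, 1, 2, 0, 1, 2, 3, 2, 1, 2, 0, 1, 2, 3, 2, 1, 2, 0, 1, 2, 0, 1, 0]]

/-- Their images of the fundamental roots. -/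
def invImgs : List (List ℕ) := [
  [33, 27, 25, 24], [14, 34, 25, 24], [34, 20, 30, 24], [33, 28, 22, 26], [33, 27, 26, 23], [20, 14, 41, 24],
  [37, 19, 25, 31], [35, 27, 17, 32], [33, 29, 23, 22], [10, 27, 25, 42], [38, 18, 32, 17], [19, 37, 6, 43],
  [36, 27, 25, 15], [9, 27, 43, 6], [33, 12, 25, 45], [39, 27, 16, 24], [18, 38, 25, 4], [8, 44, 5, 24],
  [33, 11, 47, 2], [33, 3, 46, 24], [33, 40, 0, 24], [44, 8, 25, 24], [33, 27, 2, 47], [7, 27, 25, 24],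
  [33, 27, 25, 1], [14, 35, 22, 26], [14, 34, 26, 23], [34, 20, 31, 23], [28, 10, 41, 31], [35, 29, 15, 30],
  [14, 36, 23, 22], [20, 14, 42, 23], [12, 20, 30, 42], [40, 18, 24, 25], [29, 9, 45, 17], [27, 33, 6, 46],
  [19, 39, 4, 41], [36, 28, 22, 16], [3, 37, 24, 25], [11, 20, 45, 6], [38, 7, 32, 41], [33, 13, 22, 46],
  [13, 27, 17, 46], [29, 37, 1, 43], [40, 20, 21, 24], [18, 39, 22, 5], [27, 33, 32, 0], [40, 19, 25, 21],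
  [9, 12, 43, 30], [11, 44, 1, 32], [3, 39, 21, 24], [39, 12, 16, 45], [28, 38, 16, 4], [37, 7, 47, 5],
  [3, 38, 25, 21], [33, 13, 45, 0], [13, 27, 43, 0], [35, 3, 42, 32], [14, 7, 46, 24], [39, 11, 42, 2],
  [8, 36, 5, 45], [37, 36, 0, 31], [33, 40, 1, 23], [12, 44, 5, 15], [10, 11, 47, 16], [8, 35, 31, 2],
  [19, 9, 31, 43], [44, 9, 22, 26], [44, 8, 26, 23], [36, 3, 46, 15], [14, 34, 2, 47], [34, 20, 4, 47],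
  [38, 35, 4, 17], [10, 40, 0, 42], [7, 28, 22, 26], [7, 27, 26, 23], [18, 10, 46, 4], [29, 8, 25, 42],
  [9, 40, 15, 6], [20, 14, 15, 47], [36, 27, 2, 41], [44, 10, 23, 22], [14, 34, 25, 1], [34, 20, 30, 1],
  [11, 19, 25, 31], [28, 8, 43, 6], [18, 38, 2, 30], [7, 29, 23, 22], [20, 14, 41, 1], [35, 27, 17, 5],
  [33, 11, 24, 25], [12, 18, 32, 17], [27, 33, 5, 24], [19, 37, 6, 16], [33, 13, 21, 24], [13, 27, 16, 24],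
  [33, 12, 25, 21], [37, 20, 22, 32], [10, 28, 22, 43], [38, 20, 30, 15], [14, 19, 25, 45], [9, 29, 41, 4],
  [39, 27, 17, 23], [14, 18, 47, 2], [8, 44, 6, 23], [14, 44, 0, 24], [33, 3, 47, 23], [39, 3, 41, 24],
  [33, 29, 0, 45], [8, 20, 30, 24], [38, 18, 6, 43], [33, 28, 22, 2], [9, 27, 17, 32], [37, 19, 25, 4],
  [10, 27, 25, 15], [14, 20, 22, 46], [40, 20, 22, 23], [3, 39, 22, 23], [14, 20, 45, 0], [14, 44, 1, 23],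
  [14, 7, 47, 23], [39, 3, 42, 23], [14, 36, 0, 45], [8, 20, 31, 23], [29, 9, 22, 43], [38, 20, 4, 41],
  [14, 35, 22, 2], [11, 20, 22, 32], [9, 29, 15, 30], [28, 10, 41, 4], [37, 20, 22, 5], [14, 18, 24, 25],
  [12, 20, 30, 15], [10, 28, 22, 16], [27, 33, 6, 23], [14, 20, 21, 24], [14, 19, 25, 21], [33, 13, 22, 23],
  [13, 27, 17, 23], [14, 20, 22, 23]]

/-- Moves with two negated roots of odd pairing. -/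
def certA : List (ℕ × List ℕ × ℕ × List ℕ × ℕ) := [
  (116, [], 3, [], 2), (117, [], 3, [], 2), (120, [], 3, [1], 2), (122, [2], 3, [1], 2), (124, [], 2, [3, 1], 2),
  (126, [], 2, [3, 1], 2), (127, [], 2, [], 1), (129, [2], 3, [1], 2), (132, [2], 3, [], 1), (134, [], 3, [1], 2),
  (137, [], 3, [], 2), (138, [], 3, [2], 1), (139, [], 3, [], 2)]

/-- Moves with a root of odd pairing fixed up to the reflection. -/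
def certB : List (ℕ × List ℕ × ℕ × ℕ) := [
  (1, [], 0, 3), (2, [], 1, 7), (3, [], 2, 1), (4, [], 3, 0), (5, [0], 1, 3), (6, [1], 2, 1), (7, [2], 1, 7),
  (8, [2], 3, 0), (9, [0, 1], 2, 1), (10, [3, 1], 2, 0), (11, [2, 0], 1, 3), (12, [3, 2], 1, 7),
  (13, [3, 0, 1], 2, 0), (14, [1, 2, 0], 1, 3), (15, [2, 3, 1], 2, 0), (16, [3, 2, 0], 1, 3),
  (17, [2, 3, 0, 1], 2, 0), (18, [3, 1, 2, 0], 1, 3), (19, [1, 2, 3, 0, 1], 2, 0), (20, [2, 3, 1, 2, 0], 1, 3),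
  (21, [1, 2, 3, 1, 2, 0], 1, 3), (22, [2, 1, 2, 3, 0, 1], 2, 0), (23, [0, 1, 2, 3, 1, 2, 0], 1, 7),
  (24, [3, 2, 1, 2, 3, 0, 1], 2, 1), (25, [], 2, 1), (26, [], 3, 0), (27, [], 3, 0), (28, [1], 2, 1),
  (29, [2], 3, 0), (30, [2], 3, 0), (31, [], 3, 0), (32, [], 1, 7), (33, [2], 1, 8), (34, [3, 1], 2, 0),
  (35, [1], 2, 2), (36, [2], 3, 0), (37, [], 2, 1), (38, [2, 0], 1, 8), (39, [], 1, 7), (40, [3, 1], 2, 0),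
  (41, [], 2, 4), (42, [2], 1, 7), (43, [2, 3, 1], 2, 0), (44, [], 1, 9), (45, [], 2, 1), (46, [3, 1], 2, 2),
  (47, [3, 2], 1, 8), (48, [1, 2, 0], 1, 7), (49, [2], 1, 7), (50, [0], 1, 9), (51, [2, 3, 1], 2, 0),
  (52, [2, 3, 1], 2, 1), (53, [1], 2, 1), (54, [3, 2, 0], 1, 8), (55, [2], 3, 4), (56, [3, 2], 1, 7),
  (57, [2], 1, 8), (58, [], 0, 11), (59, [2, 3, 1], 2, 1), (60, [1, 2, 0], 1, 7), (61, [1], 2, 2), (62, [], 3, 5),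
  (63, [3, 2], 1, 7), (64, [3, 1, 2, 0], 1, 7), (65, [3, 1, 2, 0], 1, 7), (66, [2, 0], 1, 8), (67, [], 2, 4),
  (68, [], 3, 5), (69, [3, 2], 1, 8), (70, [], 0, 11), (71, [], 1, 9), (72, [3, 1], 2, 2),
  (73, [2, 3, 1, 2, 0], 1, 7), (74, [], 2, 15), (75, [], 3, 16), (76, [3, 2, 0], 1, 8),
  (77, [1, 2, 3, 1, 2, 0], 1, 8), (78, [2, 3, 1, 2, 0], 1, 7), (79, [0], 1, 9), (80, [3, 2], 1, 9),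
  (81, [2], 3, 4), (82, [], 0, 12), (83, [], 1, 10), (84, [1], 2, 15), (85, [1, 2, 3, 1, 2, 0], 1, 8),
  (86, [3, 2, 0], 1, 9), (87, [2], 3, 15), (88, [0], 1, 10), (89, [2], 1, 10), (90, [3, 1, 2, 0], 1, 11),
  (91, [3, 1], 2, 15), (92, [1, 2, 3, 1, 2, 0], 1, 9), (93, [2, 0], 1, 10), (94, [2, 3, 1, 2, 0], 1, 11),
  (95, [2, 3, 1], 2, 16), (96, [1, 2, 0], 1, 12), (97, [], 2, 8), (98, [], 2, 8), (99, [2], 3, 8),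
  (100, [1], 2, 7), (101, [2], 3, 8), (102, [], 3, 9), (103, [3, 1], 2, 7), (104, [], 3, 9),
  (105, [2, 3, 1], 2, 7), (106, [], 3, 11), (107, [2, 3, 1], 2, 8), (108, [2], 3, 11), (109, [2, 3, 0, 1], 2, 8),
  (110, [3, 1], 2, 9), (111, [], 2, 12), (112, [3, 0, 1], 2, 9), (113, [1], 2, 10), (114, [0, 1], 2, 10),
  (115, [], 2, 8), (118, [2], 3, 8), (119, [], 3, 9), (121, [], 3, 11), (123, [], 3, 18), (125, [2], 3, 11),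
  (128, [2], 3, 18), (130, [], 2, 12), (131, [3, 1], 2, 18), (133, [], 2, 19), (135, [2, 3, 1], 2, 18),
  (136, [1], 2, 19)]

/-- Every class of roots modulo two: a word applied to the root `33` or `24`. -/
def torusReps : List (List ℕ × Bool) := [
  ([], true), ([3, 2], true), ([2], true), ([0, 1], false), ([3, 1, 2], true), ([1, 2], true), ([2, 1, 2], true),
  ([], false), ([1], false), ([3, 0, 1, 2], true), ([0, 1, 2], true), ([2, 0, 1, 2], true),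
  ([1, 2, 0, 1, 2], true), ([2, 1, 2, 0, 1, 2], true), ([3, 2, 1, 2, 0, 1, 2], true)]

/-- The positive roots of even pairing with `33`. -/
def evenS : List ℕ := [
  24, 25, 26, 30, 31, 32, 33, 37, 38, 39, 41, 42, 43, 45, 46, 47]

/-- Representatives of the classes conjugate to that of `33`. -/
def transS : List (List ℕ) := [
  [], [1], [0, 1]]

/-- Reflections generating the stabiliser. -/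
def gensS : List (List ℕ) := [
  [3], [2], [1, 2, 1], [0]]

/-- Words of the elements of the stabiliser. -/
def stabS : List (List ℕ) := [
  [1, 2, 3, 1, 2, 0, 1, 2, 3, 0, 1, 2, 0, 1, 0], [3, 2, 0, 1, 2, 3, 0, 1, 2, 0, 1, 0],
  [1, 2, 3, 2, 1, 2, 0, 1, 2, 3, 0, 1, 2, 0, 1, 0], [2, 0, 1, 2, 3, 0, 1, 2, 0, 1, 0],
  [3, 2, 1, 2, 0, 1, 2, 3, 1, 2, 0, 1, 0], [2, 1, 2, 0, 1, 2, 3, 1, 2, 0, 1, 0],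
  [0, 1, 2, 3, 1, 2, 0, 1, 2, 3, 0, 1, 2, 0, 1, 0], [3, 2, 1, 2, 3, 0, 1, 2, 0, 1, 0],
  [0, 1, 2, 3, 2, 1, 2, 0, 1, 2, 3, 0, 1, 2, 0, 1, 0], [2, 1, 2, 3, 0, 1, 2, 0, 1, 0],
  [3, 2, 1, 2, 0, 1, 2, 3, 2, 0, 1, 0], [2, 1, 2, 0, 1, 2, 3, 2, 0, 1, 0],
  [0, 1, 2, 3, 1, 2, 0, 1, 2, 3, 1, 2, 0, 1, 2, 1, 0], [3, 2, 1, 2, 3, 1, 2, 0, 1, 2, 1, 0],
  [1, 2, 0, 1, 2, 3, 2, 1, 2, 0, 1, 2, 3, 0, 1, 2, 1, 0], [2, 3, 0, 1, 2, 1, 0],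
  [1, 2, 3, 2, 1, 2, 0, 1, 2, 3, 2, 1, 0], [2, 0, 1, 2, 3, 2, 1, 0],
  [0, 1, 2, 3, 2, 1, 2, 0, 1, 2, 3, 1, 2, 0, 1, 2, 1, 0], [2, 1, 2, 3, 1, 2, 0, 1, 2, 1, 0],
  [1, 2, 0, 1, 2, 3, 2, 1, 2, 0, 1, 2, 3, 2, 0, 1, 2, 1, 0], [2, 3, 2, 0, 1, 2, 1, 0],
  [1, 2, 3, 1, 2, 0, 1, 2, 3, 2, 1, 0], [3, 2, 0, 1, 2, 3, 2, 1, 0],
  [1, 2, 3, 1, 2, 0, 1, 2, 3, 1, 2, 0, 1, 2, 1, 0], [3, 2, 0, 1, 2, 3, 1, 2, 0, 1, 2, 1, 0],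
  [1, 2, 0, 1, 2, 3, 2, 1, 2, 0, 1, 2, 3, 1, 2, 1, 0], [2, 3, 1, 2, 1, 0],
  [0, 1, 2, 3, 2, 1, 2, 0, 1, 2, 3, 2, 1, 0], [2, 1, 2, 3, 2, 1, 0],
  [1, 2, 3, 2, 1, 2, 0, 1, 2, 3, 1, 2, 0, 1, 2, 1, 0], [2, 0, 1, 2, 3, 1, 2, 0, 1, 2, 1, 0],
  [1, 2, 0, 1, 2, 3, 2, 1, 2, 0, 1, 2, 3, 2, 1, 2, 1, 0], [2, 3, 2, 1, 2, 1, 0],
  [0, 1, 2, 3, 1, 2, 0, 1, 2, 3, 2, 1, 0], [3, 2, 1, 2, 3, 2, 1, 0], [3, 2, 1, 2, 0, 1, 2, 3, 1, 2, 0, 1, 2, 0],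
  [2, 1, 2, 0, 1, 2, 3, 1, 2, 0, 1, 2, 0], [0, 1, 2, 3, 2, 1, 2, 0, 1, 2, 3, 2, 1, 2, 0], [2, 1, 2, 3, 2, 1, 2, 0],
  [0, 1, 2, 3, 1, 2, 0, 1, 2, 3, 2, 1, 2, 0], [3, 2, 1, 2, 3, 2, 1, 2, 0], [3, 2, 1, 2, 0, 1, 2, 3, 2, 0, 1, 2, 0],
  [2, 1, 2, 0, 1, 2, 3, 2, 0, 1, 2, 0], [1, 2, 3, 2, 1, 2, 0, 1, 2, 3, 2, 1, 2, 0], [2, 0, 1, 2, 3, 2, 1, 2, 0],
  [1, 2, 3, 1, 2, 0, 1, 2, 3, 2, 1, 2, 0], [3, 2, 0, 1, 2, 3, 2, 1, 2, 0],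
  [1, 2, 3, 1, 2, 0, 1, 2, 3, 2, 0, 1, 2, 0, 1, 0], [3, 2, 0, 1, 2, 3, 2, 0, 1, 2, 0, 1, 0],
  [2, 1, 2, 3, 2, 1, 2, 0, 1, 2, 3, 0, 1, 2, 0, 1, 0], [0, 1, 2, 3, 0, 1, 2, 0, 1, 0],
  [2, 3, 2, 1, 2, 0, 1, 2, 3, 1, 2, 0, 1, 0], [1, 2, 0, 1, 2, 3, 1, 2, 0, 1, 0],
  [0, 1, 2, 3, 1, 2, 0, 1, 2, 3, 2, 0, 1, 2, 0, 1, 0], [3, 2, 1, 2, 3, 2, 0, 1, 2, 0, 1, 0],
  [2, 0, 1, 2, 3, 2, 1, 2, 0, 1, 2, 3, 0, 1, 2, 0, 1, 0], [1, 2, 3, 0, 1, 2, 0, 1, 0],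
  [2, 3, 2, 1, 2, 0, 1, 2, 3, 2, 0, 1, 0], [1, 2, 0, 1, 2, 3, 2, 0, 1, 0],
  [0, 1, 2, 3, 1, 2, 0, 1, 2, 3, 2, 1, 2, 0, 1, 2, 1, 0], [3, 2, 1, 2, 3, 2, 1, 2, 0, 1, 2, 1, 0],
  [2, 1, 2, 0, 1, 2, 3, 2, 1, 2, 0, 1, 2, 3, 0, 1, 2, 1, 0], [3, 0, 1, 2, 1, 0],
  [2, 1, 2, 3, 2, 1, 2, 0, 1, 2, 3, 2, 1, 0], [0, 1, 2, 3, 2, 1, 0],
  [2, 0, 1, 2, 3, 2, 1, 2, 0, 1, 2, 3, 1, 2, 0, 1, 2, 1, 0], [1, 2, 3, 1, 2, 0, 1, 2, 1, 0],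
  [2, 1, 2, 0, 1, 2, 3, 2, 1, 2, 0, 1, 2, 3, 2, 0, 1, 2, 1, 0], [3, 2, 0, 1, 2, 1, 0],
  [1, 2, 3, 1, 2, 0, 1, 2, 3, 1, 0], [3, 2, 0, 1, 2, 3, 1, 0], [1, 2, 3, 1, 2, 0, 1, 2, 3, 2, 1, 2, 0, 1, 2, 1, 0],
  [3, 2, 0, 1, 2, 3, 2, 1, 2, 0, 1, 2, 1, 0], [2, 1, 2, 0, 1, 2, 3, 2, 1, 2, 0, 1, 2, 3, 1, 2, 1, 0],
  [3, 1, 2, 1, 0], [2, 0, 1, 2, 3, 2, 1, 2, 0, 1, 2, 3, 2, 1, 0], [1, 2, 3, 2, 1, 0],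
  [2, 1, 2, 3, 2, 1, 2, 0, 1, 2, 3, 1, 2, 0, 1, 2, 1, 0], [0, 1, 2, 3, 1, 2, 0, 1, 2, 1, 0],
  [2, 1, 2, 0, 1, 2, 3, 2, 1, 2, 0, 1, 2, 3, 2, 1, 2, 1, 0], [3, 2, 1, 2, 1, 0],
  [0, 1, 2, 3, 1, 2, 0, 1, 2, 3, 1, 0], [3, 2, 1, 2, 3, 1, 0], [2, 3, 2, 1, 2, 0, 1, 2, 3, 1, 2, 0, 1, 2, 0],
  [1, 2, 0, 1, 2, 3, 1, 2, 0, 1, 2, 0], [2, 0, 1, 2, 3, 2, 1, 2, 0, 1, 2, 3, 2, 1, 2, 0], [1, 2, 3, 2, 1, 2, 0],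
  [0, 1, 2, 3, 1, 2, 0, 1, 2, 3, 1, 2, 0], [3, 2, 1, 2, 3, 1, 2, 0], [2, 3, 2, 1, 2, 0, 1, 2, 3, 2, 0, 1, 2, 0],
  [1, 2, 0, 1, 2, 3, 2, 0, 1, 2, 0], [2, 1, 2, 3, 2, 1, 2, 0, 1, 2, 3, 2, 1, 2, 0], [0, 1, 2, 3, 2, 1, 2, 0],
  [1, 2, 3, 1, 2, 0, 1, 2, 3, 1, 2, 0], [3, 2, 0, 1, 2, 3, 1, 2, 0],
  [1, 2, 3, 2, 1, 2, 0, 1, 2, 3, 2, 0, 1, 2, 0, 1, 0], [2, 0, 1, 2, 3, 2, 0, 1, 2, 0, 1, 0],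
  [2, 1, 2, 3, 2, 1, 2, 0, 1, 2, 3, 2, 0, 1, 2, 0, 1, 0], [0, 1, 2, 3, 2, 0, 1, 2, 0, 1, 0],
  [2, 3, 1, 2, 0, 1, 2, 3, 1, 2, 0, 1, 0], [3, 1, 2, 0, 1, 2, 3, 1, 2, 0, 1, 0],
  [0, 1, 2, 3, 2, 1, 2, 0, 1, 2, 3, 2, 0, 1, 2, 0, 1, 0], [2, 1, 2, 3, 2, 0, 1, 2, 0, 1, 0],
  [2, 0, 1, 2, 3, 2, 1, 2, 0, 1, 2, 3, 2, 0, 1, 2, 0, 1, 0], [1, 2, 3, 2, 0, 1, 2, 0, 1, 0],
  [2, 3, 1, 2, 0, 1, 2, 3, 2, 0, 1, 0], [3, 1, 2, 0, 1, 2, 3, 2, 0, 1, 0],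
  [0, 1, 2, 3, 2, 1, 2, 0, 1, 2, 3, 2, 1, 2, 0, 1, 2, 1, 0], [2, 1, 2, 3, 2, 1, 2, 0, 1, 2, 1, 0],
  [3, 2, 1, 2, 0, 1, 2, 3, 2, 1, 2, 0, 1, 2, 3, 0, 1, 2, 1, 0], [0, 1, 2, 1, 0],
  [2, 1, 2, 3, 2, 1, 2, 0, 1, 2, 3, 1, 0], [0, 1, 2, 3, 1, 0],
  [2, 0, 1, 2, 3, 2, 1, 2, 0, 1, 2, 3, 2, 1, 2, 0, 1, 2, 1, 0], [1, 2, 3, 2, 1, 2, 0, 1, 2, 1, 0],
  [3, 2, 1, 2, 0, 1, 2, 3, 2, 1, 2, 0, 1, 2, 3, 2, 0, 1, 2, 1, 0], [2, 0, 1, 2, 1, 0],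
  [1, 2, 3, 2, 1, 2, 0, 1, 2, 3, 1, 0], [2, 0, 1, 2, 3, 1, 0],
  [1, 2, 3, 2, 1, 2, 0, 1, 2, 3, 2, 1, 2, 0, 1, 2, 1, 0], [2, 0, 1, 2, 3, 2, 1, 2, 0, 1, 2, 1, 0],
  [3, 2, 1, 2, 0, 1, 2, 3, 2, 1, 2, 0, 1, 2, 3, 1, 2, 1, 0], [1, 2, 1, 0],
  [2, 0, 1, 2, 3, 2, 1, 2, 0, 1, 2, 3, 1, 0], [1, 2, 3, 1, 0],
  [2, 1, 2, 3, 2, 1, 2, 0, 1, 2, 3, 2, 1, 2, 0, 1, 2, 1, 0], [0, 1, 2, 3, 2, 1, 2, 0, 1, 2, 1, 0],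
  [3, 2, 1, 2, 0, 1, 2, 3, 2, 1, 2, 0, 1, 2, 3, 2, 1, 2, 1, 0], [2, 1, 2, 1, 0],
  [0, 1, 2, 3, 2, 1, 2, 0, 1, 2, 3, 1, 0], [2, 1, 2, 3, 1, 0], [2, 3, 1, 2, 0, 1, 2, 3, 1, 2, 0, 1, 2, 0],
  [3, 1, 2, 0, 1, 2, 3, 1, 2, 0, 1, 2, 0], [2, 0, 1, 2, 3, 2, 1, 2, 0, 1, 2, 3, 1, 2, 0], [1, 2, 3, 1, 2, 0],
  [0, 1, 2, 3, 2, 1, 2, 0, 1, 2, 3, 1, 2, 0], [2, 1, 2, 3, 1, 2, 0], [2, 3, 1, 2, 0, 1, 2, 3, 2, 0, 1, 2, 0],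
  [3, 1, 2, 0, 1, 2, 3, 2, 0, 1, 2, 0], [2, 1, 2, 3, 2, 1, 2, 0, 1, 2, 3, 1, 2, 0], [0, 1, 2, 3, 1, 2, 0],
  [1, 2, 3, 2, 1, 2, 0, 1, 2, 3, 1, 2, 0], [2, 0, 1, 2, 3, 1, 2, 0], [3, 2, 1, 2, 0, 1, 2, 3, 2, 1, 2, 0, 1, 0],
  [2, 1, 2, 0, 1, 2, 3, 2, 1, 2, 0, 1, 0], [2, 3, 2, 1, 2, 0, 1, 2, 3, 2, 1, 2, 0, 1, 0],
  [1, 2, 0, 1, 2, 3, 2, 1, 2, 0, 1, 0], [2, 3, 1, 2, 0, 1, 2, 3, 2, 1, 2, 0, 1, 0],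
  [3, 1, 2, 0, 1, 2, 3, 2, 1, 2, 0, 1, 0], [1, 2, 0, 1, 2, 3, 2, 1, 2, 0, 1, 2, 3, 1, 2, 0, 1, 2, 0, 1, 0],
  [2, 3, 1, 2, 0, 1, 2, 0, 1, 0], [2, 1, 2, 0, 1, 2, 3, 2, 1, 2, 0, 1, 2, 3, 1, 2, 0, 1, 2, 0, 1, 0],
  [3, 1, 2, 0, 1, 2, 0, 1, 0], [2, 3, 1, 2, 0, 1, 2, 3, 0, 1, 0], [3, 1, 2, 0, 1, 2, 3, 0, 1, 0],
  [1, 2, 0, 1, 2, 3, 2, 1, 2, 0, 1, 2, 3, 2, 1, 2, 0, 1, 2, 0, 1, 0], [2, 3, 2, 1, 2, 0, 1, 2, 0, 1, 0],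
  [3, 2, 1, 2, 0, 1, 2, 3, 2, 1, 2, 0, 1, 2, 3, 1, 2, 0, 1, 2, 0, 1, 0], [1, 2, 0, 1, 2, 0, 1, 0],
  [2, 3, 2, 1, 2, 0, 1, 2, 3, 0, 1, 0], [1, 2, 0, 1, 2, 3, 0, 1, 0],
  [2, 1, 2, 0, 1, 2, 3, 2, 1, 2, 0, 1, 2, 3, 2, 1, 2, 0, 1, 2, 0, 1, 0], [3, 2, 1, 2, 0, 1, 2, 0, 1, 0],
  [3, 2, 1, 2, 0, 1, 2, 3, 2, 1, 2, 0, 1, 2, 3, 2, 1, 2, 0, 1, 2, 0, 1, 0], [2, 1, 2, 0, 1, 2, 0, 1, 0],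
  [3, 2, 1, 2, 0, 1, 2, 3, 0, 1, 0], [2, 1, 2, 0, 1, 2, 3, 0, 1, 0], [3, 2, 1, 2, 0, 1, 2, 3, 2, 1, 2, 0, 1, 2, 0],
  [2, 1, 2, 0, 1, 2, 3, 2, 1, 2, 0, 1, 2, 0], [3, 2, 1, 2, 0, 1, 2, 3, 2, 1, 2, 0, 1, 2, 3, 0], [0],
  [2, 1, 2, 0, 1, 2, 3, 2, 1, 2, 0, 1, 2, 3, 0], [3, 0], [2, 3, 2, 1, 2, 0, 1, 2, 3, 2, 1, 2, 0, 1, 2, 0],
  [1, 2, 0, 1, 2, 3, 2, 1, 2, 0, 1, 2, 0], [3, 2, 1, 2, 0, 1, 2, 3, 2, 1, 2, 0, 1, 2, 3, 2, 0], [2, 0],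
  [1, 2, 0, 1, 2, 3, 2, 1, 2, 0, 1, 2, 3, 0], [2, 3, 0], [2, 3, 1, 2, 0, 1, 2, 3, 2, 1, 2, 0, 1, 2, 0],
  [3, 1, 2, 0, 1, 2, 3, 2, 1, 2, 0, 1, 2, 0], [2, 1, 2, 0, 1, 2, 3, 2, 1, 2, 0, 1, 2, 3, 2, 0], [3, 2, 0],
  [1, 2, 0, 1, 2, 3, 2, 1, 2, 0, 1, 2, 3, 2, 0], [2, 3, 2, 0], [2, 3, 1, 2, 0, 1, 2, 3, 0, 1, 2, 0],
  [3, 1, 2, 0, 1, 2, 3, 0, 1, 2, 0], [2, 3, 2, 1, 2, 0, 1, 2, 3, 0, 1, 2, 0], [1, 2, 0, 1, 2, 3, 0, 1, 2, 0],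
  [3, 2, 1, 2, 0, 1, 2, 3, 0, 1, 2, 0], [2, 1, 2, 0, 1, 2, 3, 0, 1, 2, 0], [3, 2, 1, 2, 0, 1, 2, 3, 2, 1, 2, 0, 1],
  [2, 1, 2, 0, 1, 2, 3, 2, 1, 2, 0, 1], [2, 3, 2, 1, 2, 0, 1, 2, 3, 2, 1, 2, 0, 1],
  [1, 2, 0, 1, 2, 3, 2, 1, 2, 0, 1], [2, 3, 1, 2, 0, 1, 2, 3, 2, 1, 2, 0, 1], [3, 1, 2, 0, 1, 2, 3, 2, 1, 2, 0, 1],
  [1, 2, 0, 1, 2, 3, 2, 1, 2, 0, 1, 2, 3, 1, 2, 0, 1, 2, 0, 1], [2, 3, 1, 2, 0, 1, 2, 0, 1],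
  [2, 1, 2, 0, 1, 2, 3, 2, 1, 2, 0, 1, 2, 3, 1, 2, 0, 1, 2, 0, 1], [3, 1, 2, 0, 1, 2, 0, 1],
  [2, 3, 1, 2, 0, 1, 2, 3, 0, 1], [3, 1, 2, 0, 1, 2, 3, 0, 1],
  [1, 2, 0, 1, 2, 3, 2, 1, 2, 0, 1, 2, 3, 2, 1, 2, 0, 1, 2, 0, 1], [2, 3, 2, 1, 2, 0, 1, 2, 0, 1],
  [3, 2, 1, 2, 0, 1, 2, 3, 2, 1, 2, 0, 1, 2, 3, 1, 2, 0, 1, 2, 0, 1], [1, 2, 0, 1, 2, 0, 1],
  [2, 3, 2, 1, 2, 0, 1, 2, 3, 0, 1], [1, 2, 0, 1, 2, 3, 0, 1],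
  [2, 1, 2, 0, 1, 2, 3, 2, 1, 2, 0, 1, 2, 3, 2, 1, 2, 0, 1, 2, 0, 1], [3, 2, 1, 2, 0, 1, 2, 0, 1],
  [3, 2, 1, 2, 0, 1, 2, 3, 2, 1, 2, 0, 1, 2, 3, 2, 1, 2, 0, 1, 2, 0, 1], [2, 1, 2, 0, 1, 2, 0, 1],
  [3, 2, 1, 2, 0, 1, 2, 3, 0, 1], [2, 1, 2, 0, 1, 2, 3, 0, 1], [3, 2, 1, 2, 0, 1, 2, 3, 2, 1, 2, 0, 1, 2],
  [2, 1, 2, 0, 1, 2, 3, 2, 1, 2, 0, 1, 2], [3, 2, 1, 2, 0, 1, 2, 3, 2, 1, 2, 0, 1, 2, 3], [],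
  [2, 1, 2, 0, 1, 2, 3, 2, 1, 2, 0, 1, 2, 3], [3], [2, 3, 2, 1, 2, 0, 1, 2, 3, 2, 1, 2, 0, 1, 2],
  [1, 2, 0, 1, 2, 3, 2, 1, 2, 0, 1, 2], [3, 2, 1, 2, 0, 1, 2, 3, 2, 1, 2, 0, 1, 2, 3, 2], [2],
  [1, 2, 0, 1, 2, 3, 2, 1, 2, 0, 1, 2, 3], [2, 3], [2, 3, 1, 2, 0, 1, 2, 3, 2, 1, 2, 0, 1, 2],
  [3, 1, 2, 0, 1, 2, 3, 2, 1, 2, 0, 1, 2], [2, 1, 2, 0, 1, 2, 3, 2, 1, 2, 0, 1, 2, 3, 2], [3, 2],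
  [1, 2, 0, 1, 2, 3, 2, 1, 2, 0, 1, 2, 3, 2], [2, 3, 2], [2, 3, 1, 2, 0, 1, 2, 3, 0, 1, 2],
  [3, 1, 2, 0, 1, 2, 3, 0, 1, 2], [2, 3, 2, 1, 2, 0, 1, 2, 3, 0, 1, 2], [1, 2, 0, 1, 2, 3, 0, 1, 2],
  [3, 2, 1, 2, 0, 1, 2, 3, 0, 1, 2], [2, 1, 2, 0, 1, 2, 3, 0, 1, 2],
  [1, 2, 3, 2, 1, 2, 0, 1, 2, 3, 2, 0, 1, 2, 0, 1], [2, 0, 1, 2, 3, 2, 0, 1, 2, 0, 1],
  [2, 1, 2, 3, 2, 1, 2, 0, 1, 2, 3, 2, 0, 1, 2, 0, 1], [0, 1, 2, 3, 2, 0, 1, 2, 0, 1],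
  [2, 3, 1, 2, 0, 1, 2, 3, 1, 2, 0, 1], [3, 1, 2, 0, 1, 2, 3, 1, 2, 0, 1],
  [0, 1, 2, 3, 2, 1, 2, 0, 1, 2, 3, 2, 0, 1, 2, 0, 1], [2, 1, 2, 3, 2, 0, 1, 2, 0, 1],
  [2, 0, 1, 2, 3, 2, 1, 2, 0, 1, 2, 3, 2, 0, 1, 2, 0, 1], [1, 2, 3, 2, 0, 1, 2, 0, 1],
  [2, 3, 1, 2, 0, 1, 2, 3, 2, 0, 1], [3, 1, 2, 0, 1, 2, 3, 2, 0, 1],
  [0, 1, 2, 3, 2, 1, 2, 0, 1, 2, 3, 2, 1, 2, 0, 1, 2, 1], [2, 1, 2, 3, 2, 1, 2, 0, 1, 2, 1],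
  [3, 2, 1, 2, 0, 1, 2, 3, 2, 1, 2, 0, 1, 2, 3, 0, 1, 2, 1], [0, 1, 2, 1], [2, 1, 2, 3, 2, 1, 2, 0, 1, 2, 3, 1],
  [0, 1, 2, 3, 1], [2, 0, 1, 2, 3, 2, 1, 2, 0, 1, 2, 3, 2, 1, 2, 0, 1, 2, 1], [1, 2, 3, 2, 1, 2, 0, 1, 2, 1],
  [3, 2, 1, 2, 0, 1, 2, 3, 2, 1, 2, 0, 1, 2, 3, 2, 0, 1, 2, 1], [2, 0, 1, 2, 1], [1, 2, 3, 2, 1, 2, 0, 1, 2, 3, 1],
  [2, 0, 1, 2, 3, 1], [1, 2, 3, 2, 1, 2, 0, 1, 2, 3, 2, 1, 2, 0, 1, 2, 1], [2, 0, 1, 2, 3, 2, 1, 2, 0, 1, 2, 1],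
  [3, 2, 1, 2, 0, 1, 2, 3, 2, 1, 2, 0, 1, 2, 3, 1, 2, 1], [1, 2, 1], [2, 0, 1, 2, 3, 2, 1, 2, 0, 1, 2, 3, 1],
  [1, 2, 3, 1], [2, 1, 2, 3, 2, 1, 2, 0, 1, 2, 3, 2, 1, 2, 0, 1, 2, 1], [0, 1, 2, 3, 2, 1, 2, 0, 1, 2, 1],
  [3, 2, 1, 2, 0, 1, 2, 3, 2, 1, 2, 0, 1, 2, 3, 2, 1, 2, 1], [2, 1, 2, 1], [0, 1, 2, 3, 2, 1, 2, 0, 1, 2, 3, 1],
  [2, 1, 2, 3, 1], [2, 3, 1, 2, 0, 1, 2, 3, 1, 2, 0, 1, 2], [3, 1, 2, 0, 1, 2, 3, 1, 2, 0, 1, 2],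
  [2, 0, 1, 2, 3, 2, 1, 2, 0, 1, 2, 3, 1, 2], [1, 2, 3, 1, 2], [0, 1, 2, 3, 2, 1, 2, 0, 1, 2, 3, 1, 2],
  [2, 1, 2, 3, 1, 2], [2, 3, 1, 2, 0, 1, 2, 3, 2, 0, 1, 2], [3, 1, 2, 0, 1, 2, 3, 2, 0, 1, 2],
  [2, 1, 2, 3, 2, 1, 2, 0, 1, 2, 3, 1, 2], [0, 1, 2, 3, 1, 2], [1, 2, 3, 2, 1, 2, 0, 1, 2, 3, 1, 2],
  [2, 0, 1, 2, 3, 1, 2], [1, 2, 3, 1, 2, 0, 1, 2, 3, 2, 0, 1, 2, 0, 1], [3, 2, 0, 1, 2, 3, 2, 0, 1, 2, 0, 1],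
  [2, 1, 2, 3, 2, 1, 2, 0, 1, 2, 3, 0, 1, 2, 0, 1], [0, 1, 2, 3, 0, 1, 2, 0, 1],
  [2, 3, 2, 1, 2, 0, 1, 2, 3, 1, 2, 0, 1], [1, 2, 0, 1, 2, 3, 1, 2, 0, 1],
  [0, 1, 2, 3, 1, 2, 0, 1, 2, 3, 2, 0, 1, 2, 0, 1], [3, 2, 1, 2, 3, 2, 0, 1, 2, 0, 1],
  [2, 0, 1, 2, 3, 2, 1, 2, 0, 1, 2, 3, 0, 1, 2, 0, 1], [1, 2, 3, 0, 1, 2, 0, 1],
  [2, 3, 2, 1, 2, 0, 1, 2, 3, 2, 0, 1], [1, 2, 0, 1, 2, 3, 2, 0, 1],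
  [0, 1, 2, 3, 1, 2, 0, 1, 2, 3, 2, 1, 2, 0, 1, 2, 1], [3, 2, 1, 2, 3, 2, 1, 2, 0, 1, 2, 1],
  [2, 1, 2, 0, 1, 2, 3, 2, 1, 2, 0, 1, 2, 3, 0, 1, 2, 1], [3, 0, 1, 2, 1], [2, 1, 2, 3, 2, 1, 2, 0, 1, 2, 3, 2, 1],
  [0, 1, 2, 3, 2, 1], [2, 0, 1, 2, 3, 2, 1, 2, 0, 1, 2, 3, 1, 2, 0, 1, 2, 1], [1, 2, 3, 1, 2, 0, 1, 2, 1],
  [2, 1, 2, 0, 1, 2, 3, 2, 1, 2, 0, 1, 2, 3, 2, 0, 1, 2, 1], [3, 2, 0, 1, 2, 1], [1, 2, 3, 1, 2, 0, 1, 2, 3, 1],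
  [3, 2, 0, 1, 2, 3, 1], [1, 2, 3, 1, 2, 0, 1, 2, 3, 2, 1, 2, 0, 1, 2, 1], [3, 2, 0, 1, 2, 3, 2, 1, 2, 0, 1, 2, 1],
  [2, 1, 2, 0, 1, 2, 3, 2, 1, 2, 0, 1, 2, 3, 1, 2, 1], [3, 1, 2, 1], [2, 0, 1, 2, 3, 2, 1, 2, 0, 1, 2, 3, 2, 1],
  [1, 2, 3, 2, 1], [2, 1, 2, 3, 2, 1, 2, 0, 1, 2, 3, 1, 2, 0, 1, 2, 1], [0, 1, 2, 3, 1, 2, 0, 1, 2, 1],
  [2, 1, 2, 0, 1, 2, 3, 2, 1, 2, 0, 1, 2, 3, 2, 1, 2, 1], [3, 2, 1, 2, 1], [0, 1, 2, 3, 1, 2, 0, 1, 2, 3, 1],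
  [3, 2, 1, 2, 3, 1], [2, 3, 2, 1, 2, 0, 1, 2, 3, 1, 2, 0, 1, 2], [1, 2, 0, 1, 2, 3, 1, 2, 0, 1, 2],
  [2, 0, 1, 2, 3, 2, 1, 2, 0, 1, 2, 3, 2, 1, 2], [1, 2, 3, 2, 1, 2], [0, 1, 2, 3, 1, 2, 0, 1, 2, 3, 1, 2],
  [3, 2, 1, 2, 3, 1, 2], [2, 3, 2, 1, 2, 0, 1, 2, 3, 2, 0, 1, 2], [1, 2, 0, 1, 2, 3, 2, 0, 1, 2],
  [2, 1, 2, 3, 2, 1, 2, 0, 1, 2, 3, 2, 1, 2], [0, 1, 2, 3, 2, 1, 2], [1, 2, 3, 1, 2, 0, 1, 2, 3, 1, 2],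
  [3, 2, 0, 1, 2, 3, 1, 2], [1, 2, 3, 1, 2, 0, 1, 2, 3, 0, 1, 2, 0, 1], [3, 2, 0, 1, 2, 3, 0, 1, 2, 0, 1],
  [1, 2, 3, 2, 1, 2, 0, 1, 2, 3, 0, 1, 2, 0, 1], [2, 0, 1, 2, 3, 0, 1, 2, 0, 1],
  [3, 2, 1, 2, 0, 1, 2, 3, 1, 2, 0, 1], [2, 1, 2, 0, 1, 2, 3, 1, 2, 0, 1],
  [0, 1, 2, 3, 1, 2, 0, 1, 2, 3, 0, 1, 2, 0, 1], [3, 2, 1, 2, 3, 0, 1, 2, 0, 1],
  [0, 1, 2, 3, 2, 1, 2, 0, 1, 2, 3, 0, 1, 2, 0, 1], [2, 1, 2, 3, 0, 1, 2, 0, 1], [3, 2, 1, 2, 0, 1, 2, 3, 2, 0, 1],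
  [2, 1, 2, 0, 1, 2, 3, 2, 0, 1], [0, 1, 2, 3, 1, 2, 0, 1, 2, 3, 1, 2, 0, 1, 2, 1],
  [3, 2, 1, 2, 3, 1, 2, 0, 1, 2, 1], [1, 2, 0, 1, 2, 3, 2, 1, 2, 0, 1, 2, 3, 0, 1, 2, 1], [2, 3, 0, 1, 2, 1],
  [1, 2, 3, 2, 1, 2, 0, 1, 2, 3, 2, 1], [2, 0, 1, 2, 3, 2, 1], [0, 1, 2, 3, 2, 1, 2, 0, 1, 2, 3, 1, 2, 0, 1, 2, 1],
  [2, 1, 2, 3, 1, 2, 0, 1, 2, 1], [1, 2, 0, 1, 2, 3, 2, 1, 2, 0, 1, 2, 3, 2, 0, 1, 2, 1], [2, 3, 2, 0, 1, 2, 1],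
  [1, 2, 3, 1, 2, 0, 1, 2, 3, 2, 1], [3, 2, 0, 1, 2, 3, 2, 1], [1, 2, 3, 1, 2, 0, 1, 2, 3, 1, 2, 0, 1, 2, 1],
  [3, 2, 0, 1, 2, 3, 1, 2, 0, 1, 2, 1], [1, 2, 0, 1, 2, 3, 2, 1, 2, 0, 1, 2, 3, 1, 2, 1], [2, 3, 1, 2, 1],
  [0, 1, 2, 3, 2, 1, 2, 0, 1, 2, 3, 2, 1], [2, 1, 2, 3, 2, 1], [1, 2, 3, 2, 1, 2, 0, 1, 2, 3, 1, 2, 0, 1, 2, 1],
  [2, 0, 1, 2, 3, 1, 2, 0, 1, 2, 1], [1, 2, 0, 1, 2, 3, 2, 1, 2, 0, 1, 2, 3, 2, 1, 2, 1], [2, 3, 2, 1, 2, 1],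
  [0, 1, 2, 3, 1, 2, 0, 1, 2, 3, 2, 1], [3, 2, 1, 2, 3, 2, 1], [3, 2, 1, 2, 0, 1, 2, 3, 1, 2, 0, 1, 2],
  [2, 1, 2, 0, 1, 2, 3, 1, 2, 0, 1, 2], [0, 1, 2, 3, 2, 1, 2, 0, 1, 2, 3, 2, 1, 2], [2, 1, 2, 3, 2, 1, 2],
  [0, 1, 2, 3, 1, 2, 0, 1, 2, 3, 2, 1, 2], [3, 2, 1, 2, 3, 2, 1, 2], [3, 2, 1, 2, 0, 1, 2, 3, 2, 0, 1, 2],
  [2, 1, 2, 0, 1, 2, 3, 2, 0, 1, 2], [1, 2, 3, 2, 1, 2, 0, 1, 2, 3, 2, 1, 2], [2, 0, 1, 2, 3, 2, 1, 2],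
  [1, 2, 3, 1, 2, 0, 1, 2, 3, 2, 1, 2], [3, 2, 0, 1, 2, 3, 2, 1, 2]]

/-- Their images of the fundamental roots. -/
def stabImgsS : List (List ℕ) := [
  [8, 13, 41, 24], [8, 13, 41, 31], [8, 13, 42, 23], [8, 13, 42, 30], [8, 13, 45, 16], [8, 13, 45, 17],
  [8, 20, 30, 24], [8, 20, 30, 42], [8, 20, 31, 23], [8, 20, 31, 41], [8, 20, 45, 5], [8, 20, 45, 6],
  [8, 28, 17, 31], [8, 28, 17, 45], [8, 28, 24, 16], [8, 28, 24, 41], [8, 28, 42, 2], [8, 28, 42, 6],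
  [8, 29, 16, 30], [8, 29, 16, 45], [8, 29, 23, 17], [8, 29, 23, 42], [8, 29, 41, 2], [8, 29, 41, 5],
  [8, 35, 6, 42], [8, 35, 6, 45], [8, 35, 24, 5], [8, 35, 24, 30], [8, 35, 31, 2], [8, 35, 31, 17], [8, 36, 5, 41],
  [8, 36, 5, 45], [8, 36, 23, 6], [8, 36, 23, 31], [8, 36, 30, 2], [8, 36, 30, 16], [8, 40, 2, 41], [8, 40, 2, 42],
  [8, 40, 16, 6], [8, 40, 16, 24], [8, 40, 17, 5], [8, 40, 17, 23], [8, 44, 2, 30], [8, 44, 2, 31], [8, 44, 5, 17],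
  [8, 44, 5, 24], [8, 44, 6, 16], [8, 44, 6, 23], [9, 12, 41, 26], [9, 12, 41, 32], [9, 12, 43, 21],
  [9, 12, 43, 30], [9, 12, 46, 15], [9, 12, 46, 17], [9, 19, 30, 26], [9, 19, 30, 43], [9, 19, 32, 21],
  [9, 19, 32, 41], [9, 19, 46, 4], [9, 19, 46, 6], [9, 27, 17, 32], [9, 27, 17, 46], [9, 27, 26, 15],
  [9, 27, 26, 41], [9, 27, 43, 1], [9, 27, 43, 6], [9, 29, 15, 30], [9, 29, 15, 46], [9, 29, 21, 17],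
  [9, 29, 21, 43], [9, 29, 41, 1], [9, 29, 41, 4], [9, 34, 6, 43], [9, 34, 6, 46], [9, 34, 26, 4], [9, 34, 26, 30],
  [9, 34, 32, 1], [9, 34, 32, 17], [9, 36, 4, 41], [9, 36, 4, 46], [9, 36, 21, 6], [9, 36, 21, 32], [9, 36, 30, 1],
  [9, 36, 30, 15], [9, 40, 1, 41], [9, 40, 1, 43], [9, 40, 15, 6], [9, 40, 15, 26], [9, 40, 17, 4],
  [9, 40, 17, 21], [9, 44, 1, 30], [9, 44, 1, 32], [9, 44, 4, 17], [9, 44, 4, 26], [9, 44, 6, 15], [9, 44, 6, 21],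
  [10, 11, 42, 25], [10, 11, 42, 32], [10, 11, 43, 22], [10, 11, 43, 31], [10, 11, 47, 15], [10, 11, 47, 16],
  [10, 18, 31, 25], [10, 18, 31, 43], [10, 18, 32, 22], [10, 18, 32, 42], [10, 18, 47, 4], [10, 18, 47, 5],
  [10, 27, 16, 32], [10, 27, 16, 47], [10, 27, 25, 15], [10, 27, 25, 42], [10, 27, 43, 0], [10, 27, 43, 5],
  [10, 28, 15, 31], [10, 28, 15, 47], [10, 28, 22, 16], [10, 28, 22, 43], [10, 28, 42, 0], [10, 28, 42, 4],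
  [10, 34, 5, 43], [10, 34, 5, 47], [10, 34, 25, 4], [10, 34, 25, 31], [10, 34, 32, 0], [10, 34, 32, 16],
  [10, 35, 4, 42], [10, 35, 4, 47], [10, 35, 22, 5], [10, 35, 22, 32], [10, 35, 31, 0], [10, 35, 31, 15],
  [10, 40, 0, 42], [10, 40, 0, 43], [10, 40, 15, 5], [10, 40, 15, 25], [10, 40, 16, 4], [10, 40, 16, 22],
  [10, 44, 0, 31], [10, 44, 0, 32], [10, 44, 4, 16], [10, 44, 4, 25], [10, 44, 5, 15], [10, 44, 5, 22],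
  [14, 7, 45, 25], [14, 7, 45, 26], [14, 7, 46, 22], [14, 7, 46, 24], [14, 7, 47, 21], [14, 7, 47, 23],
  [14, 18, 24, 25], [14, 18, 24, 46], [14, 18, 26, 22], [14, 18, 26, 45], [14, 18, 47, 1], [14, 18, 47, 2],
  [14, 19, 23, 26], [14, 19, 23, 47], [14, 19, 25, 21], [14, 19, 25, 45], [14, 19, 46, 0], [14, 19, 46, 2],
  [14, 20, 21, 24], [14, 20, 21, 47], [14, 20, 22, 23], [14, 20, 22, 46], [14, 20, 45, 0], [14, 20, 45, 1],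
  [14, 34, 2, 46], [14, 34, 2, 47], [14, 34, 25, 1], [14, 34, 25, 24], [14, 34, 26, 0], [14, 34, 26, 23],
  [14, 35, 1, 45], [14, 35, 1, 47], [14, 35, 22, 2], [14, 35, 22, 26], [14, 35, 24, 0], [14, 35, 24, 21],
  [14, 36, 0, 45], [14, 36, 0, 46], [14, 36, 21, 2], [14, 36, 21, 25], [14, 36, 23, 1], [14, 36, 23, 22],
  [14, 44, 0, 24], [14, 44, 0, 26], [14, 44, 1, 23], [14, 44, 1, 25], [14, 44, 2, 21], [14, 44, 2, 22],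
  [33, 3, 45, 25], [33, 3, 45, 26], [33, 3, 46, 22], [33, 3, 46, 24], [33, 3, 47, 21], [33, 3, 47, 23],
  [33, 11, 24, 25], [33, 11, 24, 46], [33, 11, 26, 22], [33, 11, 26, 45], [33, 11, 47, 1], [33, 11, 47, 2],
  [33, 12, 23, 26], [33, 12, 23, 47], [33, 12, 25, 21], [33, 12, 25, 45], [33, 12, 46, 0], [33, 12, 46, 2],
  [33, 13, 21, 24], [33, 13, 21, 47], [33, 13, 22, 23], [33, 13, 22, 46], [33, 13, 45, 0], [33, 13, 45, 1],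
  [33, 27, 2, 46], [33, 27, 2, 47], [33, 27, 25, 1], [33, 27, 25, 24], [33, 27, 26, 0], [33, 27, 26, 23],
  [33, 28, 1, 45], [33, 28, 1, 47], [33, 28, 22, 2], [33, 28, 22, 26], [33, 28, 24, 0], [33, 28, 24, 21],
  [33, 29, 0, 45], [33, 29, 0, 46], [33, 29, 21, 2], [33, 29, 21, 25], [33, 29, 23, 1], [33, 29, 23, 22],
  [33, 40, 0, 24], [33, 40, 0, 26], [33, 40, 1, 23], [33, 40, 1, 25], [33, 40, 2, 21], [33, 40, 2, 22],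
  [37, 3, 42, 25], [37, 3, 42, 32], [37, 3, 43, 22], [37, 3, 43, 31], [37, 3, 47, 15], [37, 3, 47, 16],
  [37, 7, 31, 25], [37, 7, 31, 43], [37, 7, 32, 22], [37, 7, 32, 42], [37, 7, 47, 4], [37, 7, 47, 5],
  [37, 12, 16, 32], [37, 12, 16, 47], [37, 12, 25, 15], [37, 12, 25, 42], [37, 12, 43, 0], [37, 12, 43, 5],
  [37, 13, 15, 31], [37, 13, 15, 47], [37, 13, 22, 16], [37, 13, 22, 43], [37, 13, 42, 0], [37, 13, 42, 4],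
  [37, 19, 5, 43], [37, 19, 5, 47], [37, 19, 25, 4], [37, 19, 25, 31], [37, 19, 32, 0], [37, 19, 32, 16],
  [37, 20, 4, 42], [37, 20, 4, 47], [37, 20, 22, 5], [37, 20, 22, 32], [37, 20, 31, 0], [37, 20, 31, 15],
  [37, 29, 0, 42], [37, 29, 0, 43], [37, 29, 15, 5], [37, 29, 15, 25], [37, 29, 16, 4], [37, 29, 16, 22],
  [37, 36, 0, 31], [37, 36, 0, 32], [37, 36, 4, 16], [37, 36, 4, 25], [37, 36, 5, 15], [37, 36, 5, 22],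
  [38, 3, 41, 26], [38, 3, 41, 32], [38, 3, 43, 21], [38, 3, 43, 30], [38, 3, 46, 15], [38, 3, 46, 17],
  [38, 7, 30, 26], [38, 7, 30, 43], [38, 7, 32, 21], [38, 7, 32, 41], [38, 7, 46, 4], [38, 7, 46, 6],
  [38, 11, 17, 32], [38, 11, 17, 46], [38, 11, 26, 15], [38, 11, 26, 41], [38, 11, 43, 1], [38, 11, 43, 6],
  [38, 13, 15, 30], [38, 13, 15, 46], [38, 13, 21, 17], [38, 13, 21, 43], [38, 13, 41, 1], [38, 13, 41, 4],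
  [38, 18, 6, 43], [38, 18, 6, 46], [38, 18, 26, 4], [38, 18, 26, 30], [38, 18, 32, 1], [38, 18, 32, 17],
  [38, 20, 4, 41], [38, 20, 4, 46], [38, 20, 21, 6], [38, 20, 21, 32], [38, 20, 30, 1], [38, 20, 30, 15],
  [38, 28, 1, 41], [38, 28, 1, 43], [38, 28, 15, 6], [38, 28, 15, 26], [38, 28, 17, 4], [38, 28, 17, 21],
  [38, 35, 1, 30], [38, 35, 1, 32], [38, 35, 4, 17], [38, 35, 4, 26], [38, 35, 6, 15], [38, 35, 6, 21],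
  [39, 3, 41, 24], [39, 3, 41, 31], [39, 3, 42, 23], [39, 3, 42, 30], [39, 3, 45, 16], [39, 3, 45, 17],
  [39, 7, 30, 24], [39, 7, 30, 42], [39, 7, 31, 23], [39, 7, 31, 41], [39, 7, 45, 5], [39, 7, 45, 6],
  [39, 11, 17, 31], [39, 11, 17, 45], [39, 11, 24, 16], [39, 11, 24, 41], [39, 11, 42, 2], [39, 11, 42, 6],
  [39, 12, 16, 30], [39, 12, 16, 45], [39, 12, 23, 17], [39, 12, 23, 42], [39, 12, 41, 2], [39, 12, 41, 5],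
  [39, 18, 6, 42], [39, 18, 6, 45], [39, 18, 24, 5], [39, 18, 24, 30], [39, 18, 31, 2], [39, 18, 31, 17],
  [39, 19, 5, 41], [39, 19, 5, 45], [39, 19, 23, 6], [39, 19, 23, 31], [39, 19, 30, 2], [39, 19, 30, 16],
  [39, 27, 2, 41], [39, 27, 2, 42], [39, 27, 16, 6], [39, 27, 16, 24], [39, 27, 17, 5], [39, 27, 17, 23],
  [39, 34, 2, 30], [39, 34, 2, 31], [39, 34, 5, 17], [39, 34, 5, 24], [39, 34, 6, 16], [39, 34, 6, 23]]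

/-- Left multiplication by the generators. -/
def nextS : List (List ℕ) := [
  [2, 48, 1, 6], [3, 49, 0, 7], [0, 50, 4, 8], [1, 51, 5, 9], [5, 52, 2, 10], [4, 53, 3, 11], [8, 54, 12, 0],
  [9, 55, 13, 1], [6, 56, 14, 2], [7, 57, 15, 3], [11, 58, 16, 4], [10, 59, 17, 5], [18, 60, 6, 24],
  [19, 61, 7, 25], [20, 62, 8, 26], [21, 63, 9, 27], [22, 64, 10, 28], [23, 65, 11, 29], [12, 66, 20, 30],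
  [13, 67, 21, 31], [14, 68, 18, 32], [15, 69, 19, 33], [16, 70, 23, 34], [17, 71, 22, 35], [30, 72, 25, 12],
  [31, 73, 24, 13], [32, 74, 28, 14], [33, 75, 29, 15], [34, 76, 26, 16], [35, 77, 27, 17], [24, 78, 36, 18],
  [25, 79, 37, 19], [26, 80, 38, 20], [27, 81, 39, 21], [28, 82, 40, 22], [29, 83, 41, 23], [37, 84, 30, 42],
  [36, 85, 31, 43], [40, 86, 32, 44], [41, 87, 33, 45], [38, 88, 34, 46], [39, 89, 35, 47], [43, 90, 44, 36],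
  [42, 91, 45, 37], [46, 92, 42, 38], [47, 93, 43, 39], [44, 94, 47, 40], [45, 95, 46, 41], [96, 0, 49, 54],
  [97, 1, 48, 55], [98, 2, 52, 56], [99, 3, 53, 57], [100, 4, 50, 58], [101, 5, 51, 59], [102, 6, 60, 48],
  [103, 7, 61, 49], [104, 8, 62, 50], [105, 9, 63, 51], [106, 10, 64, 52], [107, 11, 65, 53], [108, 12, 54, 72],
  [109, 13, 55, 73], [110, 14, 56, 74], [111, 15, 57, 75], [112, 16, 58, 76], [113, 17, 59, 77], [114, 18, 68, 78],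
  [115, 19, 69, 79], [116, 20, 66, 80], [117, 21, 67, 81], [118, 22, 71, 82], [119, 23, 70, 83], [120, 24, 73, 60],
  [121, 25, 72, 61], [122, 26, 76, 62], [123, 27, 77, 63], [124, 28, 74, 64], [125, 29, 75, 65], [126, 30, 84, 66],
  [127, 31, 85, 67], [128, 32, 86, 68], [129, 33, 87, 69], [130, 34, 88, 70], [131, 35, 89, 71], [132, 36, 78, 90],
  [133, 37, 79, 91], [134, 38, 80, 92], [135, 39, 81, 93], [136, 40, 82, 94], [137, 41, 83, 95], [138, 42, 92, 84],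
  [139, 43, 93, 85], [140, 44, 90, 86], [141, 45, 91, 87], [142, 46, 95, 88], [143, 47, 94, 89],
  [48, 98, 144, 102], [49, 99, 145, 103], [50, 96, 146, 104], [51, 97, 147, 105], [52, 101, 148, 106],
  [53, 100, 149, 107], [54, 104, 150, 96], [55, 105, 151, 97], [56, 102, 152, 98], [57, 103, 153, 99],
  [58, 107, 154, 100], [59, 106, 155, 101], [60, 114, 156, 120], [61, 115, 157, 121], [62, 116, 158, 122],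
  [63, 117, 159, 123], [64, 118, 160, 124], [65, 119, 161, 125], [66, 108, 162, 126], [67, 109, 163, 127],
  [68, 110, 164, 128], [69, 111, 165, 129], [70, 112, 166, 130], [71, 113, 167, 131], [72, 126, 168, 108],
  [73, 127, 169, 109], [74, 128, 170, 110], [75, 129, 171, 111], [76, 130, 172, 112], [77, 131, 173, 113],
  [78, 120, 174, 114], [79, 121, 175, 115], [80, 122, 176, 116], [81, 123, 177, 117], [82, 124, 178, 118],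
  [83, 125, 179, 119], [84, 133, 180, 138], [85, 132, 181, 139], [86, 136, 182, 140], [87, 137, 183, 141],
  [88, 134, 184, 142], [89, 135, 185, 143], [90, 139, 186, 132], [91, 138, 187, 133], [92, 142, 188, 134],
  [93, 143, 189, 135], [94, 140, 190, 136], [95, 141, 191, 137], [145, 146, 96, 192], [144, 147, 97, 193],
  [148, 144, 98, 194], [149, 145, 99, 195], [146, 149, 100, 196], [147, 148, 101, 197], [156, 152, 102, 198],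
  [157, 153, 103, 199], [158, 150, 104, 200], [159, 151, 105, 201], [160, 155, 106, 202], [161, 154, 107, 203],
  [150, 162, 108, 204], [151, 163, 109, 205], [152, 164, 110, 206], [153, 165, 111, 207], [154, 166, 112, 208],
  [155, 167, 113, 209], [164, 156, 114, 210], [165, 157, 115, 211], [162, 158, 116, 212], [163, 159, 117, 213],
  [167, 160, 118, 214], [166, 161, 119, 215], [169, 174, 120, 216], [168, 175, 121, 217], [172, 176, 122, 218],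
  [173, 177, 123, 219], [170, 178, 124, 220], [171, 179, 125, 221], [180, 168, 126, 222], [181, 169, 127, 223],
  [182, 170, 128, 224], [183, 171, 129, 225], [184, 172, 130, 226], [185, 173, 131, 227], [174, 181, 132, 228],
  [175, 180, 133, 229], [176, 184, 134, 230], [177, 185, 135, 231], [178, 182, 136, 232], [179, 183, 137, 233],
  [188, 187, 138, 234], [189, 186, 139, 235], [186, 190, 140, 236], [187, 191, 141, 237], [191, 188, 142, 238],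
  [190, 189, 143, 239], [193, 194, 240, 144], [192, 195, 241, 145], [196, 192, 242, 146], [197, 193, 243, 147],
  [194, 197, 244, 148], [195, 196, 245, 149], [204, 200, 246, 150], [205, 201, 247, 151], [206, 198, 248, 152],
  [207, 199, 249, 153], [208, 203, 250, 154], [209, 202, 251, 155], [198, 210, 252, 156], [199, 211, 253, 157],
  [200, 212, 254, 158], [201, 213, 255, 159], [202, 214, 256, 160], [203, 215, 257, 161], [212, 204, 258, 162],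
  [213, 205, 259, 163], [210, 206, 260, 164], [211, 207, 261, 165], [215, 208, 262, 166], [214, 209, 263, 167],
  [217, 222, 264, 168], [216, 223, 265, 169], [220, 224, 266, 170], [221, 225, 267, 171], [218, 226, 268, 172],
  [219, 227, 269, 173], [228, 216, 270, 174], [229, 217, 271, 175], [230, 218, 272, 176], [231, 219, 273, 177],
  [232, 220, 274, 178], [233, 221, 275, 179], [222, 229, 276, 180], [223, 228, 277, 181], [224, 232, 278, 182],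
  [225, 233, 279, 183], [226, 230, 280, 184], [227, 231, 281, 185], [236, 235, 282, 186], [237, 234, 283, 187],
  [234, 238, 284, 188], [235, 239, 285, 189], [239, 236, 286, 190], [238, 237, 287, 191], [288, 242, 192, 246],
  [289, 243, 193, 247], [290, 240, 194, 248], [291, 241, 195, 249], [292, 245, 196, 250], [293, 244, 197, 251],
  [294, 248, 198, 240], [295, 249, 199, 241], [296, 246, 200, 242], [297, 247, 201, 243], [298, 251, 202, 244],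
  [299, 250, 203, 245], [300, 258, 204, 264], [301, 259, 205, 265], [302, 260, 206, 266], [303, 261, 207, 267],
  [304, 262, 208, 268], [305, 263, 209, 269], [306, 252, 210, 270], [307, 253, 211, 271], [308, 254, 212, 272],
  [309, 255, 213, 273], [310, 256, 214, 274], [311, 257, 215, 275], [312, 270, 216, 252], [313, 271, 217, 253],
  [314, 272, 218, 254], [315, 273, 219, 255], [316, 274, 220, 256], [317, 275, 221, 257], [318, 264, 222, 258],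
  [319, 265, 223, 259], [320, 266, 224, 260], [321, 267, 225, 261], [322, 268, 226, 262], [323, 269, 227, 263],
  [324, 277, 228, 282], [325, 276, 229, 283], [326, 280, 230, 284], [327, 281, 231, 285], [328, 278, 232, 286],
  [329, 279, 233, 287], [330, 283, 234, 276], [331, 282, 235, 277], [332, 286, 236, 278], [333, 287, 237, 279],
  [334, 284, 238, 280], [335, 285, 239, 281], [240, 336, 289, 294], [241, 337, 288, 295], [242, 338, 292, 296],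
  [243, 339, 293, 297], [244, 340, 290, 298], [245, 341, 291, 299], [246, 342, 300, 288], [247, 343, 301, 289],
  [248, 344, 302, 290], [249, 345, 303, 291], [250, 346, 304, 292], [251, 347, 305, 293], [252, 348, 294, 312],
  [253, 349, 295, 313], [254, 350, 296, 314], [255, 351, 297, 315], [256, 352, 298, 316], [257, 353, 299, 317],
  [258, 354, 308, 318], [259, 355, 309, 319], [260, 356, 306, 320], [261, 357, 307, 321], [262, 358, 311, 322],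
  [263, 359, 310, 323], [264, 360, 313, 300], [265, 361, 312, 301], [266, 362, 316, 302], [267, 363, 317, 303],
  [268, 364, 314, 304], [269, 365, 315, 305], [270, 366, 324, 306], [271, 367, 325, 307], [272, 368, 326, 308],
  [273, 369, 327, 309], [274, 370, 328, 310], [275, 371, 329, 311], [276, 372, 318, 330], [277, 373, 319, 331],
  [278, 374, 320, 332], [279, 375, 321, 333], [280, 376, 322, 334], [281, 377, 323, 335], [282, 378, 332, 324],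
  [283, 379, 333, 325], [284, 380, 330, 326], [285, 381, 331, 327], [286, 382, 335, 328], [287, 383, 334, 329],
  [338, 288, 337, 342], [339, 289, 336, 343], [336, 290, 340, 344], [337, 291, 341, 345], [341, 292, 338, 346],
  [340, 293, 339, 347], [344, 294, 348, 336], [345, 295, 349, 337], [342, 296, 350, 338], [343, 297, 351, 339],
  [347, 298, 352, 340], [346, 299, 353, 341], [354, 300, 342, 360], [355, 301, 343, 361], [356, 302, 344, 362],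
  [357, 303, 345, 363], [358, 304, 346, 364], [359, 305, 347, 365], [348, 306, 356, 366], [349, 307, 357, 367],
  [350, 308, 354, 368], [351, 309, 355, 369], [352, 310, 359, 370], [353, 311, 358, 371], [366, 312, 361, 348],
  [367, 313, 360, 349], [368, 314, 364, 350], [369, 315, 365, 351], [370, 316, 362, 352], [371, 317, 363, 353],
  [360, 318, 372, 354], [361, 319, 373, 355], [362, 320, 374, 356], [363, 321, 375, 357], [364, 322, 376, 358],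
  [365, 323, 377, 359], [373, 324, 366, 378], [372, 325, 367, 379], [376, 326, 368, 380], [377, 327, 369, 381],
  [374, 328, 370, 382], [375, 329, 371, 383], [379, 330, 380, 372], [378, 331, 381, 373], [382, 332, 378, 374],
  [383, 333, 379, 375], [380, 334, 383, 376], [381, 335, 382, 377]]

/-- Their numbers of even inversions. -/
def evenInvS : List ℕ := [
  9, 8, 10, 7, 9, 8, 10, 7, 11, 6, 8, 7, 11, 8, 12, 5, 9, 6, 12, 7, 13, 6, 8, 7, 10, 9, 11, 4, 10, 5, 11, 8, 12, 5,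
  9, 6, 10, 9, 11, 6, 10, 7, 9, 8, 10, 7, 9, 8, 10, 9, 11, 6, 10, 7, 11, 8, 12, 5, 9, 6, 12, 9, 13, 4, 10, 5, 13,
  6, 14, 5, 7, 6, 11, 10, 12, 3, 11, 4, 12, 7, 13, 4, 8, 5, 11, 8, 12, 5, 9, 6, 10, 7, 11, 6, 8, 7, 11, 8, 12, 7,
  9, 8, 12, 7, 13, 6, 8, 7, 13, 8, 14, 3, 9, 4, 14, 7, 15, 4, 8, 5, 12, 9, 13, 2, 10, 3, 13, 8, 14, 3, 9, 4, 10, 9,
  11, 4, 10, 5, 9, 8, 10, 5, 9, 6, 10, 9, 11, 8, 10, 9, 13, 6, 14, 5, 7, 6, 14, 7, 15, 4, 8, 5, 15, 6, 16, 5, 7, 6,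
  11, 10, 12, 1, 11, 2, 12, 9, 13, 2, 10, 3, 11, 10, 12, 3, 11, 4, 8, 7, 9, 6, 8, 7, 9, 8, 10, 7, 9, 8, 12, 5, 13,
  4, 6, 5, 13, 6, 14, 3, 7, 4, 14, 5, 15, 4, 6, 5, 10, 9, 11, 0, 10, 1, 11, 8, 12, 1, 9, 2, 10, 9, 11, 2, 10, 3, 7,
  6, 8, 5, 7, 6, 10, 7, 11, 6, 8, 7, 11, 6, 12, 5, 7, 6, 12, 7, 13, 2, 8, 3, 13, 6, 14, 3, 7, 4, 11, 8, 12, 1, 9,
  2, 12, 7, 13, 2, 8, 3, 9, 8, 10, 3, 9, 4, 8, 7, 9, 4, 8, 5, 9, 8, 10, 5, 9, 6, 10, 7, 11, 4, 8, 5, 11, 8, 12, 3,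
  9, 4, 12, 5, 13, 4, 6, 5, 10, 9, 11, 2, 10, 3, 11, 6, 12, 3, 7, 4, 10, 7, 11, 4, 8, 5, 9, 6, 10, 5, 7, 6, 8, 7,
  9, 6, 8, 7, 9, 6, 10, 5, 7, 6, 10, 7, 11, 4, 8, 5, 11, 6, 12, 5, 7, 6, 9, 8, 10, 3, 9, 4, 10, 7, 11, 4, 8, 5, 9,
  8, 10, 5, 9, 6, 8, 7, 9, 6, 8, 7]

/-- The images of the cosets. -/
def schreierS : List (ℕ × List ℕ) := [
  (0, [3]), (1, []), (0, [1]), (0, [0]), (2, []), (0, []), (1, [2]), (1, [0]), (1, []), (2, [3]), (2, [2]),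
  (2, [0])]

/-- The positive roots of even pairing with `24`. -/
def evenT : List ℕ := [
  24, 27, 32, 33, 34, 39, 40, 43, 44, 45]

/-- Representatives of the classes conjugate to that of `24`. -/
def transT : List (List ℕ) := [
  [], [2], [1, 2], [3, 2], [0, 1, 2], [2, 1, 2], [3, 1, 2], [2, 0, 1, 2], [3, 0, 1, 2], [1, 2, 0, 1, 2],
  [2, 1, 2, 0, 1, 2], [3, 2, 1, 2, 0, 1, 2]]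

/-- Reflections generating the stabiliser. -/
def gensT : List (List ℕ) := [
  [3], [1], [2, 3, 1, 2, 1, 3, 2], [0]]

/-- Words of the elements of the stabiliser. -/
def stabT : List (List ℕ) := [
  [2, 3, 1, 2, 0, 1, 2, 3, 0, 1, 2, 1, 0], [2, 3, 2, 1, 2, 0, 1, 2, 3, 0, 1, 2, 1, 0],
  [1, 2, 3, 1, 2, 0, 1, 2, 3, 0, 1, 2, 1, 0], [1, 2, 3, 2, 1, 2, 0, 1, 2, 3, 0, 1, 2, 1, 0],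
  [2, 0, 1, 2, 3, 2, 1, 2, 1, 0], [3, 2, 0, 1, 2, 3, 2, 1, 2, 1, 0], [1, 2, 0, 1, 2, 3, 2, 1, 2, 1, 0],
  [3, 1, 2, 0, 1, 2, 3, 2, 1, 2, 1, 0], [2, 3, 1, 2, 0, 1, 2, 3, 0, 1, 2, 0, 1, 0],
  [2, 3, 2, 1, 2, 0, 1, 2, 3, 0, 1, 2, 0, 1, 0], [0, 1, 2, 3, 1, 2, 0, 1, 2, 3, 0, 1, 2, 1, 0],
  [0, 1, 2, 3, 2, 1, 2, 0, 1, 2, 3, 0, 1, 2, 1, 0], [2, 1, 2, 3, 2, 1, 2, 1, 0], [3, 2, 1, 2, 3, 2, 1, 2, 1, 0],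
  [1, 2, 0, 1, 2, 3, 2, 1, 2, 0], [3, 1, 2, 0, 1, 2, 3, 2, 1, 2, 0], [1, 2, 3, 1, 2, 0, 1, 2, 3, 0, 1, 2, 0, 1, 0],
  [1, 2, 3, 2, 1, 2, 0, 1, 2, 3, 0, 1, 2, 0, 1, 0], [0, 1, 2, 3, 1, 2, 0, 1, 2, 3, 0, 1, 2, 0, 1, 0],
  [0, 1, 2, 3, 2, 1, 2, 0, 1, 2, 3, 0, 1, 2, 0, 1, 0], [2, 1, 2, 3, 2, 1, 2, 0], [3, 2, 1, 2, 3, 2, 1, 2, 0],
  [2, 0, 1, 2, 3, 2, 1, 2, 0], [3, 2, 0, 1, 2, 3, 2, 1, 2, 0], [2, 0, 1, 2, 3, 2, 1, 2, 0, 1, 0],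
  [3, 2, 0, 1, 2, 3, 2, 1, 2, 0, 1, 0], [2, 1, 2, 0, 1, 2, 3, 2, 1, 2, 0, 1, 2, 3, 2, 1, 2, 0, 1, 2, 1, 0],
  [3, 2, 1, 2, 0, 1, 2, 3, 2, 1, 2, 0, 1, 2, 3, 2, 1, 2, 0, 1, 2, 1, 0], [1, 0], [3, 1, 0],
  [1, 2, 3, 1, 2, 0, 1, 2, 3, 0, 1, 2, 0], [1, 2, 3, 2, 1, 2, 0, 1, 2, 3, 0, 1, 2, 0],
  [1, 2, 0, 1, 2, 3, 2, 1, 2, 0, 1, 0], [3, 1, 2, 0, 1, 2, 3, 2, 1, 2, 0, 1, 0],
  [2, 1, 2, 0, 1, 2, 3, 2, 1, 2, 0, 1, 2, 3, 2, 1, 2, 0, 1, 2, 0, 1, 0],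
  [3, 2, 1, 2, 0, 1, 2, 3, 2, 1, 2, 0, 1, 2, 3, 2, 1, 2, 0, 1, 2, 0, 1, 0], [0], [3, 0],
  [2, 3, 1, 2, 0, 1, 2, 3, 0, 1, 2, 0], [2, 3, 2, 1, 2, 0, 1, 2, 3, 0, 1, 2, 0], [2, 1, 2, 3, 2, 1, 2, 0, 1, 0],
  [3, 2, 1, 2, 3, 2, 1, 2, 0, 1, 0], [0, 1, 0], [3, 0, 1, 0],
  [2, 1, 2, 0, 1, 2, 3, 2, 1, 2, 0, 1, 2, 3, 2, 1, 2, 0, 1, 2, 0],
  [3, 2, 1, 2, 0, 1, 2, 3, 2, 1, 2, 0, 1, 2, 3, 2, 1, 2, 0, 1, 2, 0], [0, 1, 2, 3, 1, 2, 0, 1, 2, 3, 0, 1, 2, 0],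
  [0, 1, 2, 3, 2, 1, 2, 0, 1, 2, 3, 0, 1, 2, 0], [2, 1, 2, 3, 2, 1, 2, 0, 1], [3, 2, 1, 2, 3, 2, 1, 2, 0, 1],
  [0, 1], [3, 0, 1], [2, 1, 2, 0, 1, 2, 3, 2, 1, 2, 0, 1, 2, 3, 2, 1, 2, 0, 1, 2],
  [3, 2, 1, 2, 0, 1, 2, 3, 2, 1, 2, 0, 1, 2, 3, 2, 1, 2, 0, 1, 2], [0, 1, 2, 3, 1, 2, 0, 1, 2, 3, 0, 1, 2],
  [0, 1, 2, 3, 2, 1, 2, 0, 1, 2, 3, 0, 1, 2], [1, 2, 0, 1, 2, 3, 2, 1, 2, 0, 1],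
  [3, 1, 2, 0, 1, 2, 3, 2, 1, 2, 0, 1], [2, 1, 2, 0, 1, 2, 3, 2, 1, 2, 0, 1, 2, 3, 2, 1, 2, 0, 1, 2, 0, 1],
  [3, 2, 1, 2, 0, 1, 2, 3, 2, 1, 2, 0, 1, 2, 3, 2, 1, 2, 0, 1, 2, 0, 1], [], [3],
  [2, 3, 1, 2, 0, 1, 2, 3, 0, 1, 2], [2, 3, 2, 1, 2, 0, 1, 2, 3, 0, 1, 2], [2, 0, 1, 2, 3, 2, 1, 2, 0, 1],
  [3, 2, 0, 1, 2, 3, 2, 1, 2, 0, 1], [2, 1, 2, 0, 1, 2, 3, 2, 1, 2, 0, 1, 2, 3, 2, 1, 2, 0, 1, 2, 1],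
  [3, 2, 1, 2, 0, 1, 2, 3, 2, 1, 2, 0, 1, 2, 3, 2, 1, 2, 0, 1, 2, 1], [1], [3, 1],
  [1, 2, 3, 1, 2, 0, 1, 2, 3, 0, 1, 2], [1, 2, 3, 2, 1, 2, 0, 1, 2, 3, 0, 1, 2],
  [1, 2, 3, 1, 2, 0, 1, 2, 3, 0, 1, 2, 0, 1], [1, 2, 3, 2, 1, 2, 0, 1, 2, 3, 0, 1, 2, 0, 1],
  [0, 1, 2, 3, 1, 2, 0, 1, 2, 3, 0, 1, 2, 0, 1], [0, 1, 2, 3, 2, 1, 2, 0, 1, 2, 3, 0, 1, 2, 0, 1],
  [2, 1, 2, 3, 2, 1, 2], [3, 2, 1, 2, 3, 2, 1, 2], [2, 0, 1, 2, 3, 2, 1, 2], [3, 2, 0, 1, 2, 3, 2, 1, 2],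
  [2, 3, 1, 2, 0, 1, 2, 3, 0, 1, 2, 0, 1], [2, 3, 2, 1, 2, 0, 1, 2, 3, 0, 1, 2, 0, 1],
  [0, 1, 2, 3, 1, 2, 0, 1, 2, 3, 0, 1, 2, 1], [0, 1, 2, 3, 2, 1, 2, 0, 1, 2, 3, 0, 1, 2, 1],
  [2, 1, 2, 3, 2, 1, 2, 1], [3, 2, 1, 2, 3, 2, 1, 2, 1], [1, 2, 0, 1, 2, 3, 2, 1, 2],
  [3, 1, 2, 0, 1, 2, 3, 2, 1, 2], [2, 3, 1, 2, 0, 1, 2, 3, 0, 1, 2, 1], [2, 3, 2, 1, 2, 0, 1, 2, 3, 0, 1, 2, 1],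
  [1, 2, 3, 1, 2, 0, 1, 2, 3, 0, 1, 2, 1], [1, 2, 3, 2, 1, 2, 0, 1, 2, 3, 0, 1, 2, 1], [2, 0, 1, 2, 3, 2, 1, 2, 1],
  [3, 2, 0, 1, 2, 3, 2, 1, 2, 1], [1, 2, 0, 1, 2, 3, 2, 1, 2, 1], [3, 1, 2, 0, 1, 2, 3, 2, 1, 2, 1]]

/-- Their images of the fundamental roots. -/
def stabImgsT : List (List ℕ) := [
  [3, 33, 30, 24], [3, 33, 31, 23], [3, 34, 25, 24], [3, 34, 26, 23], [3, 39, 21, 24], [3, 39, 22, 23],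
  [3, 40, 16, 24], [3, 40, 17, 23], [7, 14, 41, 24], [7, 14, 42, 23], [7, 27, 25, 24], [7, 27, 26, 23],
  [7, 39, 21, 24], [7, 39, 22, 23], [7, 44, 5, 24], [7, 44, 6, 23], [8, 13, 41, 24], [8, 13, 42, 23],
  [8, 20, 30, 24], [8, 20, 31, 23], [8, 40, 16, 24], [8, 40, 17, 23], [8, 44, 5, 24], [8, 44, 6, 23],
  [13, 8, 46, 24], [13, 8, 47, 23], [13, 27, 16, 24], [13, 27, 17, 23], [13, 33, 30, 24], [13, 33, 31, 23],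
  [13, 44, 0, 24], [13, 44, 1, 23], [14, 7, 46, 24], [14, 7, 47, 23], [14, 20, 21, 24], [14, 20, 22, 23],
  [14, 34, 25, 24], [14, 34, 26, 23], [14, 44, 0, 24], [14, 44, 1, 23], [20, 8, 46, 24], [20, 8, 47, 23],
  [20, 14, 41, 24], [20, 14, 42, 23], [20, 34, 5, 24], [20, 34, 6, 23], [20, 40, 0, 24], [20, 40, 1, 23],
  [27, 7, 46, 24], [27, 7, 47, 23], [27, 13, 41, 24], [27, 13, 42, 23], [27, 33, 5, 24], [27, 33, 6, 23],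
  [27, 39, 0, 24], [27, 39, 1, 23], [33, 3, 46, 24], [33, 3, 47, 23], [33, 13, 21, 24], [33, 13, 22, 23],
  [33, 27, 25, 24], [33, 27, 26, 23], [33, 40, 0, 24], [33, 40, 1, 23], [34, 3, 46, 24], [34, 3, 47, 23],
  [34, 14, 16, 24], [34, 14, 17, 23], [34, 20, 30, 24], [34, 20, 31, 23], [34, 39, 0, 24], [34, 39, 1, 23],
  [39, 3, 41, 24], [39, 3, 42, 23], [39, 7, 30, 24], [39, 7, 31, 23], [39, 27, 16, 24], [39, 27, 17, 23],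
  [39, 34, 5, 24], [39, 34, 6, 23], [40, 3, 41, 24], [40, 3, 42, 23], [40, 8, 25, 24], [40, 8, 26, 23],
  [40, 20, 21, 24], [40, 20, 22, 23], [40, 33, 5, 24], [40, 33, 6, 23], [44, 7, 30, 24], [44, 7, 31, 23],
  [44, 8, 25, 24], [44, 8, 26, 23], [44, 13, 21, 24], [44, 13, 22, 23], [44, 14, 16, 24], [44, 14, 17, 23]]

/-- Left multiplication by the generators. -/
def nextT : List (List ℕ) := [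
  [1, 2, 4, 8], [0, 3, 5, 9], [3, 0, 6, 10], [2, 1, 7, 11], [5, 6, 0, 12], [4, 7, 1, 13], [7, 4, 2, 14],
  [6, 5, 3, 15], [9, 16, 24, 0], [8, 17, 25, 1], [11, 18, 26, 2], [10, 19, 27, 3], [13, 20, 28, 4],
  [12, 21, 29, 5], [15, 22, 30, 6], [14, 23, 31, 7], [17, 8, 32, 18], [16, 9, 33, 19], [19, 10, 34, 16],
  [18, 11, 35, 17], [21, 12, 36, 22], [20, 13, 37, 23], [23, 14, 38, 20], [22, 15, 39, 21], [25, 32, 8, 40],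
  [24, 33, 9, 41], [27, 34, 10, 44], [26, 35, 11, 45], [29, 36, 12, 42], [28, 37, 13, 43], [31, 38, 14, 46],
  [30, 39, 15, 47], [33, 24, 16, 56], [32, 25, 17, 57], [35, 26, 18, 58], [34, 27, 19, 59], [37, 28, 20, 60],
  [36, 29, 21, 61], [39, 30, 22, 62], [38, 31, 23, 63], [41, 48, 42, 24], [40, 49, 43, 25], [43, 50, 40, 28],
  [42, 51, 41, 29], [45, 52, 46, 26], [44, 53, 47, 27], [47, 54, 44, 30], [46, 55, 45, 31], [49, 40, 50, 64],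
  [48, 41, 51, 65], [51, 42, 48, 68], [50, 43, 49, 69], [53, 44, 54, 66], [52, 45, 55, 67], [55, 46, 52, 70],
  [54, 47, 53, 71], [57, 64, 72, 32], [56, 65, 73, 33], [59, 66, 74, 34], [58, 67, 75, 35], [61, 68, 76, 36],
  [60, 69, 77, 37], [63, 70, 78, 38], [62, 71, 79, 39], [65, 56, 80, 48], [64, 57, 81, 49], [67, 58, 82, 52],
  [66, 59, 83, 53], [69, 60, 84, 50], [68, 61, 85, 51], [71, 62, 86, 54], [70, 63, 87, 55], [73, 80, 56, 74],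
  [72, 81, 57, 75], [75, 82, 58, 72], [74, 83, 59, 73], [77, 84, 60, 78], [76, 85, 61, 79], [79, 86, 62, 76],
  [78, 87, 63, 77], [81, 72, 64, 88], [80, 73, 65, 89], [83, 74, 66, 90], [82, 75, 67, 91], [85, 76, 68, 92],
  [84, 77, 69, 93], [87, 78, 70, 94], [86, 79, 71, 95], [89, 90, 92, 80], [88, 91, 93, 81], [91, 88, 94, 82],
  [90, 89, 95, 83], [93, 94, 88, 84], [92, 95, 89, 85], [95, 92, 90, 86], [94, 93, 91, 87]]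

/-- Their numbers of even inversions. -/
def evenInvT : List ℕ := [
  5, 6, 6, 7, 4, 5, 5, 6, 6, 7, 7, 8, 3, 4, 4, 5, 7, 8, 8, 9, 2, 3, 3, 4, 5, 6, 8, 9, 2, 3, 5, 6, 6, 7, 9, 10, 1,
  2, 4, 5, 4, 5, 3, 4, 7, 8, 6, 7, 3, 4, 2, 3, 6, 7, 5, 6, 5, 6, 8, 9, 0, 1, 3, 4, 4, 5, 7, 8, 1, 2, 4, 5, 6, 7, 7,
  8, 1, 2, 2, 3, 5, 6, 6, 7, 2, 3, 3, 4, 4, 5, 5, 6, 3, 4, 4, 5]

/-- The images of the cosets. -/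
def schreierT : List (ℕ × List ℕ) := [
  (0, [3]), (0, [1]), (1, []), (0, [0]), (1, [3]), (2, []), (0, []), (3, []), (4, []), (1, []), (5, []), (6, []),
  (3, [3]), (6, []), (3, [0]), (1, []), (2, []), (4, [3]), (7, []), (8, []), (7, []), (5, [1]), (2, []), (5, [2]),
  (8, []), (3, []), (6, [2]), (2, []), (5, []), (9, []), (4, []), (7, [2]), (6, []), (8, [3]), (8, [2]), (4, []),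
  (9, [1]), (7, []), (10, []), (9, [2]), (10, [1]), (10, [3]), (9, []), (11, []), (11, [1]), (11, [3]), (11, [2]),
  (10, [])]

end CfsgLib.Chev.F4Invol
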