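import Mathlib
import Cfsg.Agent.Lib.Chev.InvolMono
import Cfsg.Agent.Lib.Chev.TwistWeyl
import Cfsg.Agent.Lib.Chev.Good
import Cfsg.Agent.Lib.Chev.CommGood
import Cfsg.Agent.Lib.Chev.StTorus
import Cfsg.Agent.Lib.Chev.OrderTables
import Cfsg.Agent.Lib.Chev.F4InvolData

/-!
F₄(q), q odd: every involution is conjugate to `h₃₃(-1)` or to `h₂₄(-1)`.
-/

set_option autoImplicit false
set_option linter.unusedSectionVars false
set_option maxRecDepth 100000

namespace CfsgLib.Chev.F4Invol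

open Cfsg.Lie

theorem hc : HasComm chevF4 := hasComm_of_mem (by simp)

/-- An index as a fundamental index. -/
def fi (k : ℕ) : Fin chevF4.rank := ⟨k % 4, Nat.mod_lt _ (by decide)⟩

/-- A word of indices as a word. -/
def toW (w : List ℕ) : List (Fin chevF4.rank) := w.map fi

/-- A word applied to a root, in the tables. -/
noncomputable def app (w : List ℕ) (s : ℕ) : ℕ := wordApp sdataF4 (w.map fun k => k % 4) s

/-- The images of the fundamental roots. -/
noncomputable def imgN (w : List ℕ) : List ℕ := [33, 27, 25, 24].map (app w)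

theorem wperm_app (w : List ℕ) (s : Fin chevF4.nroots) : (goodF4.wperm (toW w) s).val = app w s := by
  rw [goodF4.wperm_tab checksF4 structChecksF4, toW, List.map_map]
  rfl

theorem toW_append (u v : List ℕ) : toW (u ++ v) = toW u ++ toW v := List.map_append

theorem toW_cons (k : ℕ) (v : List ℕ) : toW (k :: v) = fi k :: toW v := rfl

theorem sroot_val : ∀ q : Fin chevF4.rank, chevF4.simple q = [33, 27, 25, 24].getD q 0 := by decide +kernel

theorem wperm_eq_of_img {u v : List ℕ} (h : imgN u = imgN v) : goodF4.wperm (toW u) = goodF4.wperm (toW v) := by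
  refine InvolMono.wperm_ext goodF4 fun q => Fin.ext ?_
  rw [wperm_app, wperm_app, show (goodF4.sroot q : ℕ) = [33, 27, 25, 24].getD q 0 from sroot_val q]
  simp only [imgN, List.map_cons, List.map_nil, List.cons.injEq, and_true] at h
  obtain ⟨h0, h1, h2, h3⟩ := h
  have hq : (q : ℕ) < 4 := q.2
  interval_cases (q : ℕ)
  exacts [h0, h1, h2, h3]

theorem img_eq_of_wperm {u v : List ℕ} (h : goodF4.wperm (toW u) = goodF4.wperm (toW v)) : imgN u = imgN v := by
  refine List.map_congr_left fun s hs => ?_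
  have hs' : s < chevF4.nroots :=
    (show ∀ s ∈ [33, 27, 25, 24], s < chevF4.nroots by decide) s hs
  rw [← wperm_app u ⟨s, hs'⟩, ← wperm_app v ⟨s, hs'⟩, h]

/-! ### The tables -/

theorem invImgs_eq : invWords.map imgN = invImgs := by decide +kernel

theorem invWords_closed : ∀ w ∈ invWords, ∀ i : Fin 4,
    (imgN ((i : ℕ) :: w) = imgN (w ++ [(i : ℕ)]) → imgN ((i : ℕ) :: w) ∈ invImgs) ∧
      imgN ((i : ℕ) :: (w ++ [(i : ℕ)])) ∈ invImgs := by
  decide +kernel

/-- The word of a reflection. -/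
def rW (l : List ℕ) (i : ℕ) : List ℕ := l ++ i :: l.reverse

/-- The root of a word and an index. -/
noncomputable def rootOf (l : List ℕ) (i : ℕ) : ℕ := app l ([33, 27, 25, 24].getD (i % 4) 0)

theorem certA_ok : ∀ p ∈ certA, p.1 < 140 ∧
    app (invWords.getD p.1 []) (rootOf p.2.1 p.2.2.1) = 47 - rootOf p.2.1 p.2.2.1 ∧
    app (invWords.getD p.1 []) (rootOf p.2.2.2.1 p.2.2.2.2) = 47 - rootOf p.2.2.2.1 p.2.2.2.2 ∧
    pair chevF4 (rootOf p.2.1 p.2.2.1) (rootOf p.2.2.2.1 p.2.2.2.2) % 2 = 1 ∧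
    pair chevF4 (rootOf p.2.1 p.2.2.1) (47 - app (rW p.2.1 p.2.2.1) (rootOf p.2.2.2.1 p.2.2.2.2)) % 2 = 1 ∧
    imgN (rW p.2.1 p.2.2.1 ++ invWords.getD p.1 []) ∈ invImgs.take p.1 ∧
    imgN (rW p.2.2.2.1 p.2.2.2.2 ++ invWords.getD p.1 []) ∈ invImgs.take p.1 ∧
    imgN (rW (rW p.2.1 p.2.2.1 ++ p.2.2.2.1) p.2.2.2.2 ++ invWords.getD p.1 []) ∈ invImgs.take p.1 := by
  decide +kernel

theorem certB_ok : ∀ p ∈ certB, p.1 < 140 ∧ p.2.2.2 < 48 ∧
    app (invWords.getD p.1 []) (rootOf p.2.1 p.2.2.1) = 47 - rootOf p.2.1 p.2.2.1 ∧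
    app (invWords.getD p.1 []) p.2.2.2 = app (rW p.2.1 p.2.2.1) p.2.2.2 ∧
    pair chevF4 (rootOf p.2.1 p.2.2.1) p.2.2.2 % 2 = 1 ∧
    imgN (rW p.2.1 p.2.2.1 ++ invWords.getD p.1 []) ∈ invImgs.take p.1 := by
  decide +kernel

theorem cert_cover : ∀ k : Fin 140, k.val = 0 ∨ k.val ∈ certA.map Prod.fst ∨ k.val ∈ certB.map Prod.fst := by
  decide +kernel

theorem invWords_zero : imgN (invWords.getD 0 []) = imgN [] ∧ invWords.length = 140 := by decide +kernel

theorem torusReps_ok : ∀ p : Fin chevF4.rank → Bool, (∀ j, p j = false) ∨ ∃ e ∈ torusReps,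
    ∀ j : Fin chevF4.rank,
      decide (corootCo chevF4 (app e.1 (if e.2 then 24 else 33)) j % 2 = 1) = p j := by
  show ∀ p : Fin 4 → Bool, (∀ j, p j = false) ∨ ∃ e ∈ torusReps,
    ∀ j : Fin 4, decide (corootCo chevF4 (app e.1 (if e.2 then 24 else 33)) j % 2 = 1) = p j
  decide +kernel

/-! ### The involutions of the Weyl group -/

theorem exists_invWord {π : Equiv.Perm (Fin chevF4.nroots)} (hπ : π ∈ goodF4.weyl) (hsq : π * π = 1) :
    ∃ w ∈ invWords, π = goodF4.wperm (toW w) := by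
  have hmem : ∀ u, imgN u ∈ invImgs → ∃ w ∈ invWords, goodF4.wperm (toW u) = goodF4.wperm (toW w) := by
    intro u hu
    rw [← invImgs_eq, List.mem_map] at hu
    obtain ⟨w, hw, he⟩ := hu
    exact ⟨w, hw, (wperm_eq_of_img he).symm⟩
  have hfi : ∀ i : Fin chevF4.rank, fi (i : ℕ) = i := fun i => Fin.ext (Nat.mod_eq_of_lt i.2)
  refine InvolMono.weyl_invol_induction goodF4
    (P := fun π => ∃ w ∈ invWords, π = goodF4.wperm (toW w)) ?_ ?_ ?_ hπ hsq
  · have h0 : invWords.getD 0 [] ∈ invWords := by decide +kernel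
    exact ⟨_, h0, (wperm_eq_of_img invWords_zero.1).symm⟩
  · rintro _ i ⟨w, hw, rfl⟩ hcm
    have hi := invWords_closed w hw ⟨i, i.2⟩
    have e : goodF4.wperm (toW ((i : ℕ) :: w)) = goodF4.rperm i * goodF4.wperm (toW w) := by
      rw [toW_cons, goodF4.wperm_cons, hfi]
    obtain ⟨w', hw', e'⟩ := hmem _ (hi.1 (img_eq_of_wperm (by
      rw [e, hcm, toW_append, goodF4.wperm_append, toW_cons, goodF4.wperm_cons, hfi]
      simp [toW, Good.wperm])))
    exact ⟨w', hw', e ▸ e'⟩
  · rintro _ i ⟨w, hw, rfl⟩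
    obtain ⟨w', hw', e'⟩ := hmem _ (invWords_closed w hw ⟨i, i.2⟩).2
    refine ⟨w', hw', ?_⟩
    rw [← e', toW_cons, toW_append, goodF4.wperm_cons, goodF4.wperm_append, toW_cons, goodF4.wperm_cons, hfi,
      mul_assoc]
    simp [toW, Good.wperm]

theorem toW_rW (l : List ℕ) (i : ℕ) : toW (rW l i) = InvolMono.refWord (toW l) (fi i) := by
  simp [rW, toW, InvolMono.refWord, List.map_reverse]

theorem rootOf_eq (l : List ℕ) (i : ℕ) :
    (goodF4.wperm (toW l) (goodF4.sroot (fi i))).val = rootOf l i := by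
  rw [wperm_app, rootOf]
  congr 1
  exact sroot_val (fi i)

theorem mem_take_imgs {u : List ℕ} {k : ℕ} (h : imgN u ∈ invImgs.take k) :
    ∃ j < k, goodF4.wperm (toW u) = goodF4.wperm (toW (invWords.getD j [])) := by
  rw [← invImgs_eq, ← List.map_take, List.mem_map] at h
  obtain ⟨w, hw, he⟩ := h
  obtain ⟨j, hj, rfl⟩ := List.mem_iff_getElem.1 hw
  rw [List.length_take] at hj
  refine ⟨j, by omega, (wperm_eq_of_img ?_).symm⟩
  rw [List.getD_eq_getElem _ _ (by omega : j < invWords.length), ← he, List.getElem_take]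

theorem nroot_val (a : Fin chevF4.nroots) : (goodF4.nroot a).val = 47 - a.val := by
  rw [show (goodF4.nroot a).val = chevF4.neg a from rfl, goodF4.neg_rev a.2]
  rfl

variable {F : Type*} [Field F] [Fintype F]

theorem two_ne (hF : Odd (Fintype.card F)) : (2 : F) ≠ 0 := fun h => by
  have h3 : ringChar F ≠ 2 := fun e => by
    have h4 : Fintype.card F % 2 = 0 := FiniteField.even_card_of_char_two e
    rw [Nat.odd_iff] at hF
    omega
  exact Ring.two_ne_zero h3 h

open InvolMono in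
/-- A monomial involution is conjugate to an involution of the torus. -/
theorem descend (hF : Odd (Fintype.card F)) : ∀ k < 140, ∀ n ∈ chevF4.monomialSubgroup F, n * n = 1 →
    goodF4.Acts n (goodF4.wperm (toW (invWords.getD k []))) →
    ∃ h ∈ chevF4.diagonalSubgroup F, h * h = 1 ∧ GConj n h := by
  intro k
  induction k using Nat.strong_induction_on with
  | _ k ih =>
  intro hk n hn hsq hact
  have h2 := two_ne (F := F) hF
  -- the common last step
  have next_ : ∀ (u : List ℕ) (n' : GL chevF4.Idx F), imgN (u ++ invWords.getD k []) ∈ invImgs.take k →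
      n' ∈ chevF4.monomialSubgroup F → n' * n' = 1 → GConj n n' →
      goodF4.Acts n' (goodF4.wperm (toW u) * goodF4.wperm (toW (invWords.getD k []))) →
      ∃ h ∈ chevF4.diagonalSubgroup F, h * h = 1 ∧ GConj n h := by
    intro u n' hu hn' hsq' hgc ha'
    obtain ⟨j, hj, he⟩ := mem_take_imgs hu
    rw [toW_append, goodF4.wperm_append] at he
    rw [he] at ha'
    obtain ⟨h, h1, h3, h4⟩ := ih j hj (by omega) n' hn' hsq' ha'
    exact ⟨h, h1, h3, hgc.trans h4⟩
  have negd : ∀ l i, app (invWords.getD k []) (rootOf l i) = 47 - rootOf l i →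
      goodF4.wperm (toW (invWords.getD k [])) (goodF4.wperm (toW l) (goodF4.sroot (fi i))) =
        goodF4.nroot (goodF4.wperm (toW l) (goodF4.sroot (fi i))) := fun l i h => Fin.ext (by
    rw [nroot_val, wperm_app (invWords.getD k []), rootOf_eq, h])
  rcases cert_cover ⟨k, hk⟩ with h0 | hA | hB
  · simp only at h0
    subst h0
    rw [wperm_eq_of_img invWords_zero.1] at hact
    refine ⟨n, ?_, hsq, GConj.refl _⟩
    let z : ↥(chevF4.monomialSubgroup F) := ⟨n, hn⟩
    have hz : z ∈ (goodF4.rootAct (F := F)).ker := by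
      rw [MonoidHom.mem_ker]
      exact Subtype.ext (goodF4.rootAct_eq (x := z) hact)
    rwa [goodF4.rootAct_ker, Subgroup.mem_subgroupOf] at hz
  · obtain ⟨⟨k', la, ia, lb, ib⟩, hp, hk'⟩ := List.mem_map.1 hA
    simp only at hk'
    subst hk'
    obtain ⟨-, c1, c2, c3, c4, c5, c6, c7⟩ := certA_ok _ hp
    simp only at c1 c2 c3 c4 c5 c6 c7
    obtain ⟨n', hn', hsq', hgc, ha'⟩ := stepA goodF4 hF h2 hn hsq hact (toW la) (fi ia) (toW lb) (fi ib)
      (negd la ia c1) (negd lb ib c2) (by rw [rootOf_eq, rootOf_eq]; exact c3)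
      (by rw [nroot_val, rootOf_eq, ← toW_rW, wperm_app, rootOf_eq]; exact c4)
    rw [← toW_rW, ← toW_rW, ← toW_append, ← toW_rW] at ha'
    rcases ha' with ha' | ha' | ha'
    · exact next_ _ n' c5 hn' hsq' hgc ha'
    · exact next_ _ n' c6 hn' hsq' hgc ha'
    · exact next_ _ n' c7 hn' hsq' hgc ha'
  · obtain ⟨⟨k', la, ia, r⟩, hp, hk'⟩ := List.mem_map.1 hB
    simp only at hk'
    subst hk'
    obtain ⟨-, c0, c1, c2, c3, c4⟩ := certB_ok _ hp
    simp only at c0 c1 c2 c3 c4
    obtain ⟨n', hn', hsq', hgc, ha'⟩ := stepB goodF4 h2 hn hsq hact (toW la) (fi ia) (negd la ia c1) ⟨r, c0⟩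
      (Fin.ext (by rw [← toW_rW, wperm_app, wperm_app]; exact c2)) (by rw [rootOf_eq]; exact c3)
    rw [← toW_rW] at ha'
    exact next_ _ n' c4 hn' hsq' hgc ha'

theorem injTor : Function.Injective (torHom chevF4 F) :=
  goodF4.torHom_injective_st checksF4 smithF4 fun i => by revert i; show ∀ i : Fin 4, _; decide +kernel

open InvolMono in
/-- An involution of the torus is conjugate to `h₃₃(-1)` or `h₂₄(-1)`. -/
theorem torus_class (hF : Odd (Fintype.card F)) {h : GL chevF4.Idx F} (hh : h ∈ chevF4.diagonalSubgroup F)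
    (hsq : h * h = 1) (h1 : h ≠ 1) :
    GConj h (goodF4.hG 33 (-1)) ∨ GConj h (goodF4.hG 24 (-1)) := by
  classical
  rw [goodF4.diagonal_eq_range] at hh
  obtain ⟨c, rfl⟩ := hh
  rw [← map_mul, ← map_one (torHom chevF4 F)] at hsq
  have hc2 := injTor hsq
  have hcj : ∀ j, c j = 1 ∨ c j = -1 := fun j => by
    have e : ((c j : Fˣ) : F) * c j = 1 := by rw [← Units.val_mul]; exact congrArg Units.val (congrFun hc2 j)
    rcases mul_self_eq_one_iff.1 e with e' | e'
    · exact Or.inl (Units.ext e')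
    · exact Or.inr (Units.ext e')
  rcases torusReps_ok (fun j => decide (c j ≠ 1)) with hz | ⟨⟨w, b⟩, -, hw⟩
  · refine absurd ?_ h1
    rw [show c = 1 from funext fun j => by simpa using hz j, map_one]
  · obtain ⟨r₀, hr₀⟩ : ∃ r₀ : Fin chevF4.nroots, r₀.val = if b then 24 else 33 :=
      ⟨⟨if b then 24 else 33, by cases b <;> decide⟩, rfl⟩
    have e : torHom chevF4 F c = goodF4.hG (goodF4.wperm (toW w) r₀) (-1) := by
      rw [← goodF4.torHom_pow_coroot (goodF4.wperm (toW w) r₀).2]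
      congr 1
      funext j
      have hj := hw j
      simp only at hj
      rw [wperm_app, hr₀]
      rcases hcj j with e | e
      · rw [e] at hj ⊢
        simp only [ne_eq, not_true_eq_false, decide_false, decide_eq_false_iff_not] at hj
        rw [(Int.even_iff.2 (by omega)).neg_one_zpow]
      · have hne : c j ≠ 1 := fun h => by
          rw [e] at h
          have : (-1 : F) = 1 := congrArg Units.val h
          exact two_ne (F := F) hF (by linear_combination -this)
        simp only [hne, ne_eq, not_false_eq_true, decide_true, decide_eq_true_iff] at hj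
        rw [e, (Int.odd_iff.2 hj).neg_one_zpow]
    rw [e, ← goodF4.wordN_conj_hG]
    have hg : GConj (goodF4.wordN (toW w) * goodF4.hG (r₀ : ℕ) (-1 : Fˣ) * (goodF4.wordN (toW w))⁻¹)
        (goodF4.hG (r₀ : ℕ) (-1 : Fˣ)) :=
      GConj.symm ⟨_, goodF4.monomial_le_group (goodF4.wordN_mem _), rfl⟩
    rw [hr₀] at hg ⊢
    cases b
    · exact Or.inl hg
    · exact Or.inr hg

open InvolMono in
/-- Every involution is conjugate to `h₃₃(-1)` or to `h₂₄(-1)`. -/
theorem invol_class (hF : Odd (Fintype.card F)) {x : GL chevF4.Idx F} (hx : x ∈ chevF4.group F)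
    (hsq : x * x = 1) (h1 : x ≠ 1) :
    GConj x (goodF4.hG 33 (-1)) ∨ GConj x (goodF4.hG 24 (-1)) := by
  obtain ⟨n, hn, hnsq, hgc⟩ := exists_monomial_conj goodF4 hc hF hx hsq
  obtain ⟨π, hπw, hπ⟩ := goodF4.exists_acts hn
  have hππ : π * π = 1 := by
    refine goodF4.acts_unique (goodF4.acts_mul hπ hπ) ?_
    rw [hnsq]
    exact goodF4.acts_one
  obtain ⟨w, hw, rfl⟩ := exists_invWord hπw hππ
  obtain ⟨k, hk, rfl⟩ := List.mem_iff_getElem.1 hw
  rw [← List.getD_eq_getElem _ [] hk] at hπ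
  obtain ⟨h, hh, hhsq, hgc'⟩ := descend hF k (by rw [← invWords_zero.2]; exact hk) n hn hnsq hπ
  have hg := hgc.trans hgc'
  have hh1 : h ≠ 1 := fun e => h1 (by
    obtain ⟨z, -, hz⟩ := hg
    rw [e, conj_eq_one_iff] at hz
    exact hz)
  rcases torus_class hF hh hhsq hh1 with h' | h'
  · exact Or.inl (hg.trans h')
  · exact Or.inr (hg.trans h')

end CfsgLib.Chev.F4Invol
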