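import Mathlib
import Cfsg.Agent.Lib.Chev.F4InvolWeyl
import Cfsg.Agent.Lib.Chev.InvolTorusCent

/-!
F₄(q), q odd: the orders of the centralisers of `h₃₃(-1)` and `h₂₄(-1)`.
-/

set_option autoImplicit false
set_option linter.unusedSectionVars false
set_option maxRecDepth 100000

namespace CfsgLib.Chev.F4Invol

open Cfsg.Lie

/-- The tables of the stabiliser of a class of the torus. -/
structure StabData where
  /-- the root -/
  r₀ : ℕ
  /-- the positive roots of even pairing -/
  ev : List ℕ
  /-- coset representatives -/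
  trans : List (List ℕ)
  /-- generators -/
  gens : List (List ℕ)
  /-- the elements -/
  stab : List (List ℕ)
  /-- their images -/
  imgs : List (List ℕ)
  /-- left multiplication by the generators -/
  nxt : List (List ℕ)
  /-- numbers of even inversions -/
  inv : List ℕ
  /-- the images of the cosets -/
  sch : List (ℕ × List ℕ)

/-- The class modulo two of a root. -/
noncomputable def cls (r : ℕ) : List ℤ := (List.range 4).map fun j => corootCo chevF4 r j % 2

/-- The checks on the tables. -/
structure StabOK (d : StabData) : Prop where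
  r₀_lt : d.r₀ < 48
  ev_eq : (List.range' 24 24).filter (fun u => pair chevF4 d.r₀ u % 2 == 0) = d.ev
  imgs_eq : d.stab.map imgN = d.imgs
  nodup : d.imgs.Nodup
  one_mem : imgN [] ∈ d.imgs
  trans_zero : d.trans.getD 0 [1] = [] ∧ 0 < d.trans.length
  gens_len : d.gens.length = 4
  mul_gen : ∀ p < d.stab.length, ∀ k < 4, (d.nxt.getD p []).getD k 0 < d.stab.length ∧
    imgN (d.gens.getD k [] ++ d.stab.getD p []) = d.imgs.getD ((d.nxt.getD p []).getD k 0) []
  schreier : ∀ t < d.trans.length, ∀ i < 4, (d.sch.getD (t * 4 + i) (0, [])).1 < d.trans.length ∧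
    (∀ k ∈ (d.sch.getD (t * 4 + i) (0, [])).2, k < 4) ∧
    imgN (i :: d.trans.getD t []) = imgN (d.trans.getD (d.sch.getD (t * 4 + i) (0, [])).1 [] ++
      ((d.sch.getD (t * 4 + i) (0, [])).2.map fun k => d.gens.getD k []).flatten)
  stable : ∀ w ∈ d.stab, cls (app w d.r₀) = cls d.r₀
  separate : ∀ t < d.trans.length, t ≠ 0 → ∀ w ∈ d.stab, cls (app (d.trans.getD t []) (app w d.r₀)) ≠ cls d.r₀
  inv_eq : d.stab.map (fun w => (d.ev.filter fun u => Nat.blt (app w u) 24).length) = d.inv

/-- The tables of the class of the root `33`. -/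
def stabDataS : StabData := ⟨33, evenS, transS, gensS, stabS, stabImgsS, nextS, evenInvS, schreierS⟩

/-- The tables of the class of the root `24`. -/
def stabDataT : StabData := ⟨24, evenT, transT, gensT, stabT, stabImgsT, nextT, evenInvT, schreierT⟩

set_option maxHeartbeats 4000000 in
theorem stabOK_S : StabOK stabDataS where
  r₀_lt := by decide +kernel
  ev_eq := by decide +kernel
  imgs_eq := by decide +kernel
  nodup := by decide +kernel
  one_mem := by decide +kernel
  trans_zero := by decide +kernel
  gens_len := by decide +kernel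
  mul_gen := by decide +kernel
  schreier := by decide +kernel
  stable := by decide +kernel
  separate := by decide +kernel
  inv_eq := by decide +kernel

set_option maxHeartbeats 4000000 in
theorem stabOK_T : StabOK stabDataT where
  r₀_lt := by decide +kernel
  ev_eq := by decide +kernel
  imgs_eq := by decide +kernel
  nodup := by decide +kernel
  one_mem := by decide +kernel
  trans_zero := by decide +kernel
  gens_len := by decide +kernel
  mul_gen := by decide +kernel
  schreier := by decide +kernel
  stable := by decide +kernel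
  separate := by decide +kernel
  inv_eq := by decide +kernel

/-- The root as an element of `Fin`. -/
def StabData.root (d : StabData) : Fin chevF4.nroots := ⟨d.r₀ % 48, Nat.mod_lt _ (by decide)⟩

theorem root_val {d : StabData} (h : StabOK d) : d.root.val = d.r₀ := Nat.mod_eq_of_lt h.r₀_lt

theorem stab_mul {d : StabData} (h : StabOK d) (ks : List ℕ) (hks : ∀ k ∈ ks, k < 4) :
    ∀ w ∈ d.stab, ∃ w' ∈ d.stab,
      goodF4.wperm (toW ((ks.map fun k => d.gens.getD k []).flatten ++ w)) = goodF4.wperm (toW w') := by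
  induction ks with
  | nil => exact fun w hw => ⟨w, hw, rfl⟩
  | cons k ks ih =>
    intro w hw
    obtain ⟨w', hw', e⟩ := ih (fun x hx => hks x (List.mem_cons_of_mem _ hx)) w hw
    obtain ⟨p, hp, rfl⟩ := List.mem_iff_getElem.1 hw'
    obtain ⟨hq, he⟩ := h.mul_gen p hp k (hks k List.mem_cons_self)
    set q := (d.nxt.getD p []).getD k 0
    refine ⟨d.stab[q], List.getElem_mem hq, ?_⟩
    rw [List.map_cons, List.flatten_cons, List.append_assoc, toW_append, goodF4.wperm_append, e,
      ← goodF4.wperm_append, ← toW_append]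
    refine wperm_eq_of_img ?_
    rw [List.getD_eq_getElem _ _ hp] at he
    rw [he, ← h.imgs_eq, List.getD_eq_getElem _ _ (by rw [List.length_map]; exact hq), List.getElem_map]

theorem weyl_cover {d : StabData} (h : StabOK d) (l : List (Fin chevF4.rank)) :
    ∃ t < d.trans.length, ∃ w ∈ d.stab, goodF4.wperm l = goodF4.wperm (toW (d.trans.getD t [] ++ w)) := by
  induction l with
  | nil =>
    obtain ⟨w, hw, he⟩ := List.mem_map.1 (h.imgs_eq ▸ h.one_mem)
    refine ⟨0, h.trans_zero.2, w, hw, ?_⟩
    rw [List.getD_eq_getElem _ _ h.trans_zero.2, ← List.getD_eq_getElem _ [1] h.trans_zero.2, h.trans_zero.1,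
      List.nil_append, wperm_eq_of_img he]
    rfl
  | cons i l ih =>
    obtain ⟨t, ht, w, hw, e⟩ := ih
    obtain ⟨hs, hk, he⟩ := h.schreier t ht i i.2
    set s := d.sch.getD (t * 4 + i) (0, [])
    obtain ⟨w', hw', e'⟩ := stab_mul h s.2 hk w hw
    refine ⟨s.1, hs, w', hw', ?_⟩
    rw [goodF4.wperm_cons, e, toW_append, goodF4.wperm_append, ← mul_assoc,
      show goodF4.rperm i * goodF4.wperm (toW (d.trans.getD t [])) = goodF4.wperm (toW ((i : ℕ) :: d.trans.getD t [])) by
        rw [toW_cons, goodF4.wperm_cons, show fi (i : ℕ) = i from Fin.ext (Nat.mod_eq_of_lt i.2)],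
      wperm_eq_of_img he, toW_append, goodF4.wperm_append, toW_append (d.trans.getD s.1 []), goodF4.wperm_append,
      ← e', toW_append, goodF4.wperm_append, mul_assoc]

theorem cls_eq_iff {a b : ℕ} :
    cls a = cls b ↔ ∀ j : Fin chevF4.rank, corootCo chevF4 a j % 2 = corootCo chevF4 b j % 2 := by
  rw [cls, cls, List.map_inj_left]
  exact ⟨fun h j => h j (List.mem_range.2 j.2), fun h j hj => h ⟨j, List.mem_range.1 hj⟩⟩

open scoped Classical in
/-- The stabiliser as a finite set. -/
noncomputable def StabData.perms (d : StabData) : Finset (Equiv.Perm (Fin chevF4.nroots)) :=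
  (d.stab.map fun w => goodF4.wperm (toW w)).toFinset

theorem mem_perms {d : StabData} (h : StabOK d) (π : Equiv.Perm (Fin chevF4.nroots)) :
    π ∈ d.perms ↔ π ∈ goodF4.weyl ∧
      ∀ j : Fin chevF4.rank, corootCo chevF4 (π d.root) j % 2 = corootCo chevF4 d.root j % 2 := by
  classical
  rw [StabData.perms, List.mem_toFinset, List.mem_map, ← cls_eq_iff, root_val h]
  constructor
  · rintro ⟨w, hw, rfl⟩
    refine ⟨goodF4.wperm_mem _, ?_⟩
    rw [wperm_app, root_val h]
    exact h.stable w hw
  · rintro ⟨hπ, hst⟩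
    obtain ⟨l, rfl⟩ := goodF4.exists_wperm hπ
    obtain ⟨t, ht, w, hw, e⟩ := weyl_cover h l
    refine ⟨w, hw, ?_⟩
    by_cases h0 : t = 0
    · subst h0
      rw [e, List.getD_eq_getElem _ _ ht, ← List.getD_eq_getElem _ [1] ht, h.trans_zero.1, List.nil_append]
    · exfalso
      rw [e, toW_append, goodF4.wperm_append, Equiv.Perm.mul_apply, wperm_app, wperm_app, root_val h] at hst
      exact h.separate t ht h0 w hw hst

theorem card_eq_filter {d : StabData} (h : StabOK d) (p : ℕ → Bool) :
    Nat.card {r : Fin chevF4.nroots // half chevF4 ≤ r.val ∧ p r.val = true ∧ pair chevF4 d.root r % 2 = 0} =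
      (d.ev.filter p).length := by
  classical
  rw [root_val h, Nat.card_eq_fintype_card, Fintype.card_subtype, ← h.ev_eq, List.filter_filter,
    ← List.toFinset_card_of_nodup ((List.nodup_range' (s := 24) (n := 24)).filter _),
    ← Finset.card_map Fin.valEmbedding]
  congr 1
  ext u
  simp only [Finset.mem_map, Finset.mem_filter, Finset.mem_univ, true_and, Fin.valEmbedding_apply, List.mem_toFinset,
    List.mem_filter, List.mem_range'_1, Bool.and_eq_true, beq_iff_eq]
  constructor
  · rintro ⟨r, ⟨h1, h2, h3⟩, rfl⟩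
    exact ⟨⟨h1, r.2⟩, h2, h3⟩
  · rintro ⟨⟨h1, h4⟩, h2, h3⟩
    exact ⟨⟨u, h4⟩, ⟨h1, h2, h3⟩, rfl⟩

variable {F : Type*} [Field F] [Fintype F]

theorem card_centralizer_stab (hF : Odd (Fintype.card F)) {d : StabData} (h : StabOK d)
    (τ : ↥(chevF4.group F)) (hτ : (τ : GL chevF4.Idx F) = goodF4.hG d.r₀ (-1)) :
    (Nat.card (Subgroup.centralizer ({τ} : Set ↥(chevF4.group F))) : ℤ) =
      (Fintype.card F : ℤ) ^ d.ev.length *
        pev (Fintype.card F) (pmul ((List.replicate 4 [-1, 1]).foldr pmul [1]) ((d.inv.map pmono).foldr padd [])) := by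
  classical
  rw [InvolTorus.card_centralizer goodF4 hc (two_ne hF) injTor d.root d.perms (mem_perms h) τ
    (by rw [hτ, InvolTorus.tauOf, root_val h])]
  have h1 : Nat.card {r : Fin chevF4.nroots // half chevF4 ≤ r.val ∧ pair chevF4 d.root r % 2 = 0} =
      d.ev.length := by
    rw [show d.ev.length = (d.ev.filter fun _ => true).length by rw [List.filter_true], ← card_eq_filter h]
    simp
  have hd : Nat.card (chevF4.diagonalSubgroup F) = (Fintype.card F - 1) ^ 4 := by
    have := card_diagonalF4 F
    rw [one_mul] at this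
    exact this
  have hnd : (d.stab.map fun w => goodF4.wperm (toW w)).Nodup := by
    have h2 : (d.stab.map imgN).Nodup := h.imgs_eq.symm ▸ h.nodup
    refine List.Nodup.map_on (fun a ha b hb hab => ?_) h2.of_map
    exact List.inj_on_of_nodup_map h2 ha hb (img_eq_of_wperm hab)
  rw [h1, hd, StabData.perms, List.sum_toFinset _ hnd, List.map_map, pev_pmul, pev_foldr_pmul, pev_foldr_padd,
    List.map_replicate, List.prod_replicate]
  have e1 : pev (Fintype.card F : ℤ) [-1, 1] = ((Fintype.card F - 1 : ℕ) : ℤ) := by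
    rw [Nat.cast_sub Fintype.card_pos]; simp [pev]; ring
  rw [e1, ← h.inv_eq, List.map_map, List.map_map]
  push_cast
  rw [List.map_map, mul_assoc]
  congr 3
  refine List.map_congr_left fun w _ => ?_
  simp only [Function.comp_apply, Nat.coe_castRingHom, Nat.cast_pow, pev_pmono]
  congr 1
  rw [← card_eq_filter h]
  refine Nat.card_congr (Equiv.subtypeEquivRight fun r => ?_)
  rw [Nat.blt, Nat.ble_eq, wperm_app]
  rfl

/-- The polynomial identity of a stabiliser. -/
theorem poly_eval {inv : List ℕ} {ds : List ℕ} (q : ℤ)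
    (h : pzero (padd (pmul ((List.replicate 4 [-1, 1]).foldr pmul [1]) ((inv.map pmono).foldr padd []))
      (pscal (-1) ((ds.map fun d => padd [-1] (pmono d)).foldr pmul [1]))) = true) :
    pev q (pmul ((List.replicate 4 [-1, 1]).foldr pmul [1]) ((inv.map pmono).foldr padd [])) =
      (ds.map fun d => q ^ d - 1).prod := by
  have h1 := pev_pzero q _ h
  rw [pev_padd, pev_pscal, pev_foldr_pmul q (ds.map _), List.map_map] at h1
  have h2 : (ds.map (pev q ∘ fun d => padd [-1] (pmono d))) = ds.map fun d => q ^ d - 1 :=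
    List.map_congr_left fun d _ => by simp [pev_padd, pev_pmono, pev]; ring
  rw [h2] at h1
  linarith

theorem polyS : pzero (padd (pmul ((List.replicate 4 [-1, 1]).foldr pmul [1]) ((evenInvS.map pmono).foldr padd []))
    (pscal (-1) (([2, 4, 6, 8].map fun d => padd [-1] (pmono d)).foldr pmul [1]))) = true := by
  decide +kernel

theorem polyT : pzero (padd (pmul ((List.replicate 4 [-1, 1]).foldr pmul [1]) ((evenInvT.map pmono).foldr padd []))
    (pscal (-1) (([2, 2, 4, 6].map fun d => padd [-1] (pmono d)).foldr pmul [1]))) = true := by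
  decide +kernel

theorem card_centralizer_S (hF : Odd (Fintype.card F)) (τ : ↥(chevF4.group F))
    (hτ : (τ : GL chevF4.Idx F) = goodF4.hG 33 (-1)) :
    Nat.card (Subgroup.centralizer ({τ} : Set ↥(chevF4.group F))) =
      Fintype.card F ^ 16 * (Fintype.card F ^ 2 - 1) * (Fintype.card F ^ 4 - 1) * (Fintype.card F ^ 6 - 1) *
        (Fintype.card F ^ 8 - 1) := by
  have h := card_centralizer_stab hF stabOK_S τ hτ
  rw [show stabDataS.ev.length = 16 by decide, show stabDataS.inv = evenInvS from rfl, poly_eval _ polyS] at h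
  have hq : ∀ k, 1 ≤ Fintype.card F ^ k := fun k => Nat.one_le_pow _ _ Fintype.card_pos
  zify [hq]
  rw [h]
  simp only [List.map_cons, List.map_nil, List.prod_cons, List.prod_nil]
  ring

theorem card_centralizer_T (hF : Odd (Fintype.card F)) (τ : ↥(chevF4.group F))
    (hτ : (τ : GL chevF4.Idx F) = goodF4.hG 24 (-1)) :
    Nat.card (Subgroup.centralizer ({τ} : Set ↥(chevF4.group F))) =
      Fintype.card F ^ 10 * (Fintype.card F ^ 2 - 1) ^ 2 * (Fintype.card F ^ 4 - 1) *
        (Fintype.card F ^ 6 - 1) := by
  have h := card_centralizer_stab hF stabOK_T τ hτ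
  rw [show stabDataT.ev.length = 10 by decide, show stabDataT.inv = evenInvT from rfl, poly_eval _ polyT] at h
  have hq : ∀ k, 1 ≤ Fintype.card F ^ k := fun k => Nat.one_le_pow _ _ Fintype.card_pos
  zify [hq]
  rw [h]
  simp only [List.map_cons, List.map_nil, List.prod_cons, List.prod_nil]
  ring

end CfsgLib.Chev.F4Invol
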