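import Mathlib

/-!
An elementary abelian module spanned by root elements, in characteristic two: reduction of an involution
`v * w`, with `v` a product of root elements at pairwise orthogonal roots acting on the module and `w` in the
module, to a product of root elements at pairwise orthogonal roots.
-/

set_option autoImplicit false

namespace CfsgLib.Chev.SLInvol

variable {G : Type*} [Group G] {F : Type*} [Field F]

/-- The subgroup generated by the root elements at the roots of `S`. -/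
def X (x : ℕ → F → G) (S : Set ℕ) : Subgroup G :=
  Subgroup.closure {g | ∃ r ∈ S, ∃ t : F, g = x r t}

theorem mem_X {x : ℕ → F → G} {S : Set ℕ} {r : ℕ} (hr : r ∈ S) (t : F) : x r t ∈ X x S :=
  Subgroup.subset_closure ⟨r, hr, t, rfl⟩

theorem X_le {x : ℕ → F → G} {S : Set ℕ} {K : Subgroup G} (h : ∀ r ∈ S, ∀ t : F, x r t ∈ K) :
    X x S ≤ K :=
  (Subgroup.closure_le _).2 (by rintro g ⟨r, hr, t, rfl⟩; exact h r hr t)

theorem X_mono {x : ℕ → F → G} {S T : Set ℕ} (h : S ⊆ T) : X x S ≤ X x T :=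
  X_le fun _ hr t => mem_X (h hr) t

theorem X_sub {x : ℕ → F → G} {S T : Set ℕ} {w : G} (hw : w ∈ X x S) (h : S ⊆ T) : w ∈ X x T :=
  X_mono h hw

/-- The product of a list of root elements. -/
def vA (x : ℕ → F → G) (A : List (ℕ × F)) : G := (A.map fun p => x p.1 p.2).prod

theorem vA_nil (x : ℕ → F → G) : vA x [] = 1 := rfl

theorem vA_cons (x : ℕ → F → G) (p : ℕ × F) (A : List (ℕ × F)) : vA x (p :: A) = x p.1 p.2 * vA x A := rfl

theorem vA_append (x : ℕ → F → G) (A B : List (ℕ × F)) : vA x (A ++ B) = vA x A * vA x B := by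
  simp [vA]

/-- The element with the given coordinates. -/
def ev (x : ℕ → F → G) (Q : List ℕ) (f : ℕ → F) : G := (Q.map fun r => x r (f r)).prod

/-- The axioms. -/
structure RootAct (x : ℕ → F → G) (Q L : List ℕ) (pr : ℕ → ℕ → ℤ) (sm : ℕ → ℕ → ℕ) : Prop where
  nodup : Q.Nodup
  add : ∀ (r : ℕ) (s t : F), x r s * x r t = x r (s + t)
  self : ∀ r, r ∈ Q ++ L → pr r r = 2
  disjQL : ∀ r ∈ L, r ∉ Q
  symm : ∀ r ∈ Q ++ L, ∀ s ∈ Q ++ L, pr r s = pr s r
  vals : ∀ r ∈ Q ++ L, ∀ s ∈ Q, r ≠ s → pr r s = -1 ∨ pr r s = 0 ∨ pr r s = 1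
  commQ : ∀ r ∈ Q, ∀ s ∈ Q, ∀ t u : F, Commute (x r t) (x s u)
  act0 : ∀ s ∈ L, ∀ r ∈ Q, pr s r ≠ -1 → ∀ t u : F, Commute (x s u) (x r t)
  commL : ∀ s ∈ L, ∀ s' ∈ L, pr s s' = 0 → ∀ t u : F, Commute (x s u) (x s' t)
  sm_mem : ∀ s ∈ L, ∀ r ∈ Q, pr s r = -1 → sm s r ∈ Q
  conj : ∀ s ∈ L, ∀ r ∈ Q, pr s r = -1 → ∀ t u : F,
    x s u * x r t * (x s u)⁻¹ = x r t * x (sm s r) (u * t)
  lin : ∀ s ∈ L, ∀ r ∈ Q, pr s r = -1 → ∀ a ∈ Q ++ L, pr a (sm s r) = pr a r + pr a s
  inj : ∀ s ∈ L, ∀ r ∈ Q, ∀ r' ∈ Q, pr s r = -1 → pr s r' = -1 → sm s r = sm s r' → r = r'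
  diffQ : ∀ b ∈ Q, ∀ c ∈ Q, pr b c = 1 → ∃ s ∈ L, pr s b = -1 ∧ sm s b = c
  diffL : ∀ a ∈ L, ∀ c ∈ Q, pr a c = 1 → ∃ d ∈ Q, pr a d = -1 ∧ sm a d = c
  indep : ∀ f : ℕ → F, ev x Q f = 1 → ∀ r ∈ Q, f r = 0

/-- The roots of `Q` orthogonal to all of `P`. -/
def SP (pr : ℕ → ℕ → ℤ) (Q P : List ℕ) : Set ℕ := {r | r ∈ Q ∧ ∀ p ∈ P, pr p r = 0}

/-- The conjugators allowed over `P`. -/
def HP (x : ℕ → F → G) (pr : ℕ → ℕ → ℤ) (L P : List ℕ) : Subgroup G :=
  X x {s | s ∈ L ∧ ∀ p ∈ P, pr p s = 0}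

namespace RootAct

variable {x : ℕ → F → G} {Q L : List ℕ} {pr : ℕ → ℕ → ℤ} {sm : ℕ → ℕ → ℕ}
variable [CharP F 2] (R : RootAct x Q L pr sm)
include R

theorem zero (r : ℕ) : x r 0 = 1 := by
  have h := R.add r 0 0
  rw [add_zero] at h
  exact mul_eq_left.mp h

theorem sq (r : ℕ) (t : F) : x r t * x r t = 1 := by
  rw [R.add, CharTwo.add_self_eq_zero, R.zero]

theorem inv (r : ℕ) (t : F) : (x r t)⁻¹ = x r t := inv_eq_of_mul_eq_one_right (R.sq r t)

theorem X_comm {S T : Set ℕ} (hS : S ⊆ {r | r ∈ Q}) (hT : T ⊆ {r | r ∈ Q}) {a b : G}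
    (ha : a ∈ X x S) (hb : b ∈ X x T) : Commute a b := by
  have h1 : ∀ r ∈ S, ∀ t : F, Commute (x r t) b := by
    intro r hr t
    have : X x T ≤ Subgroup.centralizer {x r t} := X_le fun s hs u => by
      rw [Subgroup.mem_centralizer_singleton_iff]
      exact (R.commQ s (hT hs) r (hS hr) u t).eq
    exact (Subgroup.mem_centralizer_singleton_iff.1 (this hb)).symm
  have : X x S ≤ Subgroup.centralizer {b} := X_le fun r hr t => by
    rw [Subgroup.mem_centralizer_singleton_iff]
    exact (h1 r hr t).eq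
  exact Subgroup.mem_centralizer_singleton_iff.1 (this ha)

theorem ev_add_aux (f f' : ℕ → F) : ∀ l : List ℕ, (∀ r ∈ l, r ∈ Q) →
    (l.map fun r => x r (f r + f' r)).prod = (l.map fun r => x r (f r)).prod * (l.map fun r => x r (f' r)).prod := by
  intro l
  induction l with
  | nil => intro _; simp
  | cons a l ih =>
    intro h
    have hc : Commute (x a (f' a)) (l.map fun r => x r (f r)).prod := by
      refine Commute.list_prod_right _ _ fun y hy => ?_
      obtain ⟨r, hr, rfl⟩ := List.mem_map.1 hy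
      exact R.commQ a (h a (by simp)) r (h r (by simp [hr])) _ _
    simp only [List.map_cons, List.prod_cons]
    rw [ih fun r hr => h r (by simp [hr]), ← R.add]
    calc x a (f a) * x a (f' a) * ((l.map fun r => x r (f r)).prod * (l.map fun r => x r (f' r)).prod)
        = x a (f a) * (x a (f' a) * (l.map fun r => x r (f r)).prod) * (l.map fun r => x r (f' r)).prod := by
          group
      _ = x a (f a) * ((l.map fun r => x r (f r)).prod * x a (f' a)) * (l.map fun r => x r (f' r)).prod := by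
          rw [hc.eq]
      _ = _ := by group

theorem ev_add (f f' : ℕ → F) : ev x Q (f + f') = ev x Q f * ev x Q f' :=
  R.ev_add_aux f f' Q fun _ h => h

theorem ev_zero : ev x Q 0 = 1 := by simp [ev, R.zero]

theorem ev_single {r : ℕ} (hr : r ∈ Q) (c : F) : ev x Q (Pi.single r c) = x r c := by
  have key : ∀ l : List ℕ, l.Nodup →
      (l.map fun s => x s ((Pi.single r c : ℕ → F) s)).prod = if r ∈ l then x r c else 1 := by
    intro l
    induction l with
    | nil => simp
    | cons a l ih =>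
      intro h
      rw [List.nodup_cons] at h
      rw [List.map_cons, List.prod_cons, ih h.2]
      by_cases e : a = r
      · subst e; simp [h.1]
      · simp [e, Ne.symm e, R.zero]
  rw [ev, key Q R.nodup, if_pos hr]

theorem ev_mem {S : Set ℕ} {f : ℕ → F} (h : ∀ r ∈ Q, r ∉ S → f r = 0) : ev x Q f ∈ X x S := by
  refine Subgroup.list_prod_mem _ fun y hy => ?_
  obtain ⟨r, hr, rfl⟩ := List.mem_map.1 hy
  by_cases hS : r ∈ S
  · exact mem_X hS _
  · rw [h r hr hS, R.zero]; exact one_mem _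

theorem mem_ev {S : Set ℕ} (hS : S ⊆ {r | r ∈ Q}) {w : G} (hw : w ∈ X x S) :
    ∃ f : ℕ → F, (∀ r, r ∉ S → f r = 0) ∧ w = ev x Q f := by
  induction hw using Subgroup.closure_induction with
  | mem y hy =>
    obtain ⟨r, hr, t, rfl⟩ := hy
    refine ⟨Pi.single r t, fun s hs => ?_, (R.ev_single (hS hr) t).symm⟩
    rw [Pi.single_eq_of_ne]
    rintro rfl
    exact hs hr
  | one => exact ⟨0, fun _ _ => rfl, R.ev_zero.symm⟩
  | mul a b _ _ ha hb =>
    obtain ⟨f, hf, rfl⟩ := ha
    obtain ⟨f', hf', rfl⟩ := hb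
    exact ⟨f + f', fun r hr => by simp [hf r hr, hf' r hr], (R.ev_add f f').symm⟩
  | inv a _ ha =>
    obtain ⟨f, hf, rfl⟩ := ha
    refine ⟨f, hf, inv_eq_of_mul_eq_one_right ?_⟩
    rw [← R.ev_add, show f + f = 0 from funext fun r => CharTwo.add_self_eq_zero _, R.ev_zero]

theorem X_sq {S : Set ℕ} (hS : S ⊆ {r | r ∈ Q}) {w : G} (hw : w ∈ X x S) : w * w = 1 := by
  obtain ⟨f, -, rfl⟩ := R.mem_ev hS hw
  rw [← R.ev_add, show f + f = 0 from funext fun r => CharTwo.add_self_eq_zero _, R.ev_zero]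

theorem disjoint {S T : Set ℕ} (hS : S ⊆ {r | r ∈ Q}) (hT : T ⊆ {r | r ∈ Q}) (h : ∀ r ∈ S, r ∉ T)
    {w : G} (h1 : w ∈ X x S) (h2 : w ∈ X x T) : w = 1 := by
  obtain ⟨f, hf, e1⟩ := R.mem_ev hS h1
  obtain ⟨f', hf', e2⟩ := R.mem_ev hT h2
  have h0 : ev x Q (f + f') = 1 := by rw [R.ev_add, ← e1, ← e2, R.X_sq hS h1]
  have : ∀ r ∈ Q, f r = 0 := by
    intro r hr
    have := R.indep _ h0 r hr
    simp only [Pi.add_apply] at this
    by_cases hrS : r ∈ S
    · rwa [hf' r (h r hrS), add_zero] at this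
    · exact hf r hrS
  rw [e1, ← R.ev_zero]
  exact congrArg List.prod (List.map_congr_left fun r hr => by rw [this r hr]; rfl)

theorem split {S : Set ℕ} (p : ℕ → Prop) (hS : S ⊆ {r | r ∈ Q}) {w : G} (hw : w ∈ X x S) :
    ∃ a ∈ X x {r | r ∈ S ∧ p r}, ∃ b ∈ X x {r | r ∈ S ∧ ¬ p r}, w = a * b := by
  classical
  obtain ⟨f, hf, rfl⟩ := R.mem_ev hS hw
  refine ⟨ev x Q (fun r => if p r then f r else 0), R.ev_mem fun r _ hr => ?_,
    ev x Q (fun r => if p r then 0 else f r), R.ev_mem fun r _ hr => ?_, ?_⟩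
  · by_cases hp : p r
    · simp only [if_pos hp]; exact hf r fun h => hr ⟨h, hp⟩
    · simp [hp]
  · by_cases hp : p r
    · simp [hp]
    · simp only [if_neg hp]; exact hf r fun h => hr ⟨h, hp⟩
  · rw [← R.ev_add]
    congr 1
    funext r
    by_cases hp : p r <;> simp [hp]

/-- Conjugation by a root element stabilises a stable set of roots. -/
theorem conj_mem {s : ℕ} (hs : s ∈ L) {S : Set ℕ} (hS : S ⊆ {r | r ∈ Q})
    (hst : ∀ r ∈ S, pr s r = -1 → sm s r ∈ S) (u : F) {w : G} (hw : w ∈ X x S) :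
    x s u * w * (x s u)⁻¹ ∈ X x S := by
  have : X x S ≤ (X x S).comap (MulAut.conj (x s u)).toMonoidHom := X_le fun r hr t => by
    show x s u * x r t * (x s u)⁻¹ ∈ X x S
    by_cases h : pr s r = -1
    · rw [R.conj s hs r (hS hr) h]
      exact mul_mem (mem_X hr t) (mem_X (hst r hr h) _)
    · rw [(R.act0 s hs r (hS hr) h t u).eq, mul_inv_cancel_right]
      exact mem_X hr t
  exact this hw

theorem commute_zero {p q : ℕ} (hp : p ∈ Q ++ L) (hq : q ∈ Q ++ L) (h : pr p q = 0) (t u : F) :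
    Commute (x p u) (x q t) := by
  rcases List.mem_append.1 hp with hp' | hp' <;> rcases List.mem_append.1 hq with hq' | hq'
  · exact R.commQ p hp' q hq' u t
  · exact (R.act0 q hq' p hp' (by rw [R.symm q hq p hp, h]; norm_num) u t).symm
  · exact R.act0 p hp' q hq' (by rw [h]; norm_num) t u
  · exact R.commL p hp' q hq' h t u

theorem vA_comm {A : List (ℕ × F)} (hA : ∀ p ∈ A, p.1 ∈ L) (hp : A.Pairwise fun p q => pr p.1 q.1 = 0) :
    vA x A * vA x A = 1 := by
  induction A with
  | nil => simp [vA]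
  | cons a A ih =>
    rw [List.pairwise_cons] at hp
    have hc : Commute (x a.1 a.2) (vA x A) := by
      refine Commute.list_prod_right _ _ fun y hy => ?_
      obtain ⟨q, hq, rfl⟩ := List.mem_map.1 hy
      exact R.commL _ (hA a (by simp)) _ (hA q (by simp [hq])) (hp.1 q hq) _ _
    rw [vA_cons]
    calc x a.1 a.2 * vA x A * (x a.1 a.2 * vA x A)
        = x a.1 a.2 * (vA x A * x a.1 a.2) * vA x A := by group
      _ = (x a.1 a.2 * x a.1 a.2) * (vA x A * vA x A) := by rw [← hc.eq]; group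
      _ = 1 := by rw [R.sq, ih (fun q hq => hA q (by simp [hq])) hp.2, one_mul]

theorem vA_conj_mem {S : Set ℕ} (hS : S ⊆ {r | r ∈ Q}) : ∀ {A : List (ℕ × F)}, (∀ p ∈ A, p.1 ∈ L) →
    (∀ p ∈ A, ∀ r ∈ S, pr p.1 r = -1 → sm p.1 r ∈ S) → ∀ {w : G}, w ∈ X x S →
    vA x A * w * (vA x A)⁻¹ ∈ X x S := by
  intro A
  induction A with
  | nil => intro _ _ w hw; simpa [vA] using hw
  | cons a A ih =>
    intro hA hst w hw
    have h1 := ih (fun q hq => hA q (by simp [hq])) (fun q hq => hst q (by simp [hq])) hw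
    have h2 := R.conj_mem (hA a (by simp)) hS (hst a (by simp)) a.2 h1
    rw [vA_cons, _root_.mul_inv_rev]
    simpa [mul_assoc] using h2

/-- A fixed element of the part moved by a root element is trivial. -/
theorem eq_one_of_fixed {a : ℕ} (haL : a ∈ L) {t : F} (ht : t ≠ 0) {S T : Set ℕ}
    (hT : T = {r | r ∈ S ∧ pr a r = -1}) (hS : S ⊆ {r | r ∈ Q}) {y : G} (hy : y ∈ X x T)
    (h : x a t * y * x a t * y = 1) : y = 1 := by
  classical
  have hTQ : T ⊆ {r | r ∈ Q} := by rw [hT]; exact fun r hr => hS hr.1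
  obtain ⟨f, hf, rfl⟩ := R.mem_ev hTQ hy
  obtain ⟨g, hg⟩ : ∃ g : ℕ → F, g = fun c => ((Q.filter fun d => decide (pr a d = -1 ∧ sm a d = c)).map
    fun d => t * f d).sum := ⟨_, rfl⟩
  have key : ∀ l : List ℕ, (∀ r ∈ l, r ∈ Q) →
      x a t * (l.map fun r => x r (f r)).prod * x a t =
        (l.map fun r => x r (f r)).prod *
          ev x Q (fun c => ((l.filter fun d => decide (pr a d = -1 ∧ sm a d = c)).map fun d => t * f d).sum) := by
    intro l
    induction l with
    | nil =>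
      intro _
      simp only [List.map_nil, List.prod_nil, mul_one, List.filter_nil, List.sum_nil, one_mul, R.sq]
      exact R.ev_zero.symm
    | cons d l ih =>
      intro hl
      have hd : d ∈ Q := hl d (by simp)
      have ihl := ih fun r hr => hl r (by simp [hr])
      have hcc : ∀ (e : ℕ), e ∈ Q → ∀ s : F, Commute (x e s) (l.map fun r => x r (f r)).prod := fun e he s => by
        refine Commute.list_prod_right _ _ fun z hz => ?_
        obtain ⟨r, hr, rfl⟩ := List.mem_map.1 hz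
        exact R.commQ e he r (hl r (by simp [hr])) _ _
      simp only [List.map_cons, List.prod_cons]
      rw [show x a t * (x d (f d) * (l.map fun r => x r (f r)).prod) * x a t =
        x a t * x d (f d) * (x a t * x a t) * (l.map fun r => x r (f r)).prod * x a t by rw [R.sq]; group,
        show x a t * x d (f d) * (x a t * x a t) * (l.map fun r => x r (f r)).prod * x a t =
        (x a t * x d (f d) * x a t) * (x a t * (l.map fun r => x r (f r)).prod * x a t) by group, ihl]
      by_cases hda : pr a d = -1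
      · have hm := R.sm_mem a haL d hd hda
        have hcj := R.conj a haL d hd hda (f d) t
        rw [R.inv a t] at hcj
        rw [hcj]
        have hfun : (fun c => (((d :: l).filter fun e => decide (pr a e = -1 ∧ sm a e = c)).map fun e => t * f e).sum)
            = Pi.single (sm a d) (t * f d) +
              fun c => ((l.filter fun e => decide (pr a e = -1 ∧ sm a e = c)).map fun e => t * f e).sum := by
          funext c
          by_cases e : sm a d = c
          · subst e; simp [hda]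
          · simp [hda, e, Ne.symm e]
        rw [hfun, R.ev_add, R.ev_single hm]
        generalize ev x Q (fun c => ((l.filter fun e => decide (pr a e = -1 ∧ sm a e = c)).map fun e => t * f e).sum) = E
        calc x d (f d) * x (sm a d) (t * f d) * ((l.map fun r => x r (f r)).prod * E)
            = x d (f d) * (x (sm a d) (t * f d) * (l.map fun r => x r (f r)).prod) * E := by group
          _ = _ := by rw [(hcc _ hm _).eq]; group
      · have hc := R.act0 a haL d hd hda (f d) t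
        rw [hc.eq, mul_assoc (x d (f d)), R.sq, mul_one]
        have hfun : (fun c => (((d :: l).filter fun e => decide (pr a e = -1 ∧ sm a e = c)).map fun e => t * f e).sum)
            = fun c => ((l.filter fun e => decide (pr a e = -1 ∧ sm a e = c)).map fun e => t * f e).sum := by
          funext c; simp [hda]
        rw [hfun, mul_assoc]
  have h2 := key Q fun _ hr => hr
  have h3 : ev x Q g = 1 := by
    have e : x a t * ev x Q f * x a t = ev x Q f * ev x Q g := by rw [hg]; exact h2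
    rw [e] at h
    have hc : Commute (ev x Q g) (ev x Q f) :=
      R.X_comm (Set.Subset.rfl) (Set.Subset.rfl) (R.ev_mem fun r hr h => absurd hr h)
        (R.ev_mem fun r hr h => absurd hr h)
    rw [mul_assoc, hc.eq, ← mul_assoc, R.X_sq hTQ hy, one_mul] at h
    exact h
  have h0 : ∀ r ∈ Q, f r = 0 := by
    intro r hr
    by_cases hrT : r ∈ T
    · rw [hT] at hrT
      have hg0 := R.indep g h3 (sm a r) (R.sm_mem a haL r hr hrT.2)
      have : g (sm a r) = t * f r := by
        rw [hg]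
        show ((Q.filter fun d => decide (pr a d = -1 ∧ sm a d = sm a r)).map fun d => t * f d).sum = _
        have hfl : Q.filter (fun d => decide (pr a d = -1 ∧ sm a d = sm a r)) = [r] := by
          have : Q.filter (fun d => decide (pr a d = -1 ∧ sm a d = sm a r)) = Q.filter (fun d => decide (d = r)) :=
            List.filter_congr fun d hd => by
              simp only [decide_eq_decide]
              exact ⟨fun h => R.inj a haL d hd r hr h.1 hrT.2 h.2, fun h => by subst h; exact ⟨hrT.2, rfl⟩⟩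
          rw [this]
          simpa [List.count_eq_one_of_mem R.nodup hr] using (List.filter_eq (l := Q) r)
        rw [hfl]; simp
      rw [this] at hg0
      exact (mul_eq_zero.1 hg0).resolve_left ht
    · exact hf r hrT
  rw [← R.ev_zero]
  exact congrArg List.prod (List.map_congr_left fun r hr => by rw [h0 r hr]; rfl)

/-- Removing the coordinates not orthogonal to the roots of `A`. -/
theorem clear : ∀ (A : List (ℕ × F)) (P : List ℕ), (∀ p ∈ A, p.1 ∈ L ∧ p.2 ≠ 0) → (∀ p ∈ P, p ∈ Q ++ L) →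
    (A.Pairwise fun p q => pr p.1 q.1 = 0) → (∀ p ∈ P, ∀ q ∈ A, pr p q.1 = 0) →
    ∀ w ∈ X x (SP pr Q P), (vA x A * w) * (vA x A * w) = 1 →
    ∃ z ∈ X x (SP pr Q P), ∃ w' ∈ X x (SP pr Q (A.map Prod.fst ++ P)),
      z * (vA x A * w) * z⁻¹ = vA x A * w' := by
  intro A
  induction A with
  | nil =>
    intro P _ _ _ _ w hw _
    exact ⟨1, one_mem _, w, by simpa using hw, by group⟩
  | cons a A ih =>
    intro P hA hP hpw hPA w hw hinv
    obtain ⟨a, t⟩ := a
    rw [List.pairwise_cons] at hpw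
    have haL : a ∈ L := (hA (a, t) (by simp)).1
    have ht : t ≠ 0 := (hA (a, t) (by simp)).2
    have haQL : a ∈ Q ++ L := List.mem_append.2 (Or.inr haL)
    have hAL : ∀ p ∈ A, p.1 ∈ L := fun p hp => (hA p (by simp [hp])).1
    set S := SP pr Q P with hSdef
    set Sm : Set ℕ := {r | r ∈ S ∧ pr a r = -1} with hSm
    set S0 : Set ℕ := {r | r ∈ S ∧ pr a r = 0} with hS0
    set Sp : Set ℕ := {r | r ∈ S ∧ pr a r = 1} with hSp
    have hSQ : S ⊆ {r | r ∈ Q} := fun r hr => hr.1
    have hSmQ : Sm ⊆ {r | r ∈ Q} := fun r hr => hSQ hr.1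
    have hS0Q : S0 ⊆ {r | r ∈ Q} := fun r hr => hSQ hr.1
    have hSpQ : Sp ⊆ {r | r ∈ Q} := fun r hr => hSQ hr.1
    have hmP : ∀ r ∈ Sm, sm a r ∈ Sp := by
      rintro r ⟨⟨hrQ, hrP⟩, hra⟩
      refine ⟨⟨R.sm_mem a haL r hrQ hra, fun p hp => ?_⟩, ?_⟩
      · rw [R.lin a haL r hrQ hra p (hP p hp), hrP p hp, hPA p hp (a, t) (by simp), add_zero]
      · rw [R.lin a haL r hrQ hra a haQL, hra, R.self a haQL]; norm_num
    have hA' : ∀ p ∈ A, ∀ r ∈ S, ∀ c : ℤ, pr a r = c → pr p.1 r = -1 →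
        sm p.1 r ∈ S ∧ pr a (sm p.1 r) = c := by
      rintro p hp r ⟨hrQ, hrP⟩ c hc hpr
      refine ⟨⟨R.sm_mem _ (hAL p hp) r hrQ hpr, fun q hq => ?_⟩, ?_⟩
      · rw [R.lin _ (hAL p hp) r hrQ hpr q (hP q hq), hrP q hq, hPA q hq p (by simp [hp]), add_zero]
      · rw [R.lin _ (hAL p hp) r hrQ hpr a haQL, hc, hpw.1 p hp, add_zero]
    -- the decomposition
    have hvals : ∀ r ∈ S, pr a r = -1 ∨ pr a r = 0 ∨ pr a r = 1 ∨ r = a := fun r hr => by
      by_cases e : a = r
      · exact Or.inr (Or.inr (Or.inr e.symm))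
      · rcases R.vals a haQL r hr.1 e with h | h | h <;> simp [h]
    have haQ : a ∉ Q := R.disjQL a haL
    obtain ⟨wm, hwm, wr, hwr, hw1⟩ := R.split (fun r => pr a r = -1) hSQ hw
    obtain ⟨w0, hw0, wp, hwp, hw2⟩ := R.split (fun r => pr a r = 0) (fun r hr => hSQ hr.1) hwr
    have hwm' : wm ∈ X x Sm := hwm
    have hw0' : w0 ∈ X x S0 := X_sub hw0 (fun r hr => ⟨hr.1.1, hr.2⟩)
    have hwp' : wp ∈ X x Sp := X_sub hwp (fun r hr => ⟨hr.1.1, by
      rcases hvals r hr.1.1 with h | h | h | h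
      · exact absurd h hr.1.2
      · exact absurd h hr.2
      · exact h
      · exact absurd (h ▸ hr.1.1.1) haQ⟩)
    -- the map onto Sp
    have honto : ∀ q ∈ X x Sp, ∃ y ∈ X x Sm, x a t * y * (x a t)⁻¹ = y * q := by
      intro q hq
      induction hq using Subgroup.closure_induction with
      | mem y hy =>
        obtain ⟨c, hc, s, rfl⟩ := hy
        obtain ⟨d, hd, hda, rfl⟩ := R.diffL a haL c hc.1.1 hc.2
        refine ⟨x d (t⁻¹ * s), mem_X (show d ∈ Sm from ⟨⟨hd, fun p hp => ?_⟩, hda⟩) _, ?_⟩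
        · have := hc.1.2 p hp
          rw [R.lin a haL d hd hda p (hP p hp), hPA p hp (a, t) (by simp), add_zero] at this
          exact this
        · rw [R.conj a haL d hd hda, ← mul_assoc, mul_inv_cancel₀ ht, one_mul]
      | one => exact ⟨1, one_mem _, by group⟩
      | mul q1 q2 hq1 _ h1 h2 =>
        obtain ⟨y1, hy1, e1⟩ := h1
        obtain ⟨y2, hy2, e2⟩ := h2
        refine ⟨y1 * y2, mul_mem hy1 hy2, ?_⟩
        have hc : Commute q1 y2 := R.X_comm hSpQ hSmQ hq1 hy2
        calc x a t * (y1 * y2) * (x a t)⁻¹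
            = (x a t * y1 * (x a t)⁻¹) * (x a t * y2 * (x a t)⁻¹) := by group
          _ = y1 * (q1 * y2) * q2 := by rw [e1, e2]; group
          _ = y1 * y2 * (q1 * q2) := by rw [hc.eq]; group
      | inv q hq h =>
        obtain ⟨y, hy, e⟩ := h
        exact ⟨y, hy, by rw [e, inv_eq_of_mul_eq_one_right (R.X_sq hSpQ hq)]⟩
    obtain ⟨y, hy, hyq⟩ := honto wp hwp'
    set v' := vA x A with hv'
    have hv'2 : v' * v' = 1 := R.vA_comm hAL hpw.2
    have hv'i : v'⁻¹ = v' := inv_eq_of_mul_eq_one_right hv'2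
    have hca : Commute (x a t) v' := by
      refine Commute.list_prod_right _ _ fun z hz => ?_
      obtain ⟨q, hq, rfl⟩ := List.mem_map.1 hz
      exact R.commL _ haL _ (hAL q hq) (hpw.1 q hq) _ _
    have hv'm : ∀ {z : G}, z ∈ X x Sm → v' * z * v' ∈ X x Sm := by
      intro z hz
      have := R.vA_conj_mem hSmQ hAL (fun p hp r hr h => hA' p hp r hr.1 (-1) hr.2 h) hz
      rwa [← hv', hv'i] at this
    have hv'0 : ∀ {z : G}, z ∈ X x S0 → v' * z * v' ∈ X x S0 := by
      intro z hz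
      have := R.vA_conj_mem hS0Q hAL (fun p hp r hr h => hA' p hp r hr.1 0 hr.2 h) hz
      rwa [← hv', hv'i] at this
    obtain ⟨z, hz⟩ : ∃ z, z = v' * y * v' := ⟨_, rfl⟩
    have hzm : z ∈ X x Sm := hz ▸ hv'm hy
    obtain ⟨ym, hym⟩ : ∃ ym, ym = y * z * wm := ⟨_, rfl⟩
    have hymm : ym ∈ X x Sm := hym ▸ mul_mem (mul_mem hy hzm) hwm'
    have hv : vA x ((a, t) :: A) = x a t * v' := vA_cons x (a, t) A
    have hxa : (x a t)⁻¹ = x a t := R.inv a t
    rw [hxa] at hyq
    have hzi : z⁻¹ = z := inv_eq_of_mul_eq_one_right (R.X_sq hSmQ hzm)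
    have hvv : (x a t * v') * (x a t * v') = 1 := by
      calc x a t * v' * (x a t * v') = x a t * (v' * x a t) * v' := by group
        _ = (x a t * x a t) * (v' * v') := by rw [← hca.eq]; group
        _ = 1 := by rw [R.sq, hv'2, one_mul]
    have e1 : (x a t * v') * z * (x a t * v') = y * wp := by
      calc (x a t * v') * z * (x a t * v') = x a t * (v' * z) * (v' * x a t) := by rw [← hca.eq]; group
        _ = x a t * ((v' * v') * y * (v' * v')) * x a t := by rw [hz]; group
        _ = y * wp := by rw [hv'2, one_mul, mul_one, hyq]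
    have e2 : z * ((x a t * v') * w) * z⁻¹ = (x a t * v') * (ym * w0) := by
      have hzw : Commute z w := R.X_comm hSmQ hSQ hzm hw
      have hc1 : Commute wp z := R.X_comm hSpQ hSmQ hwp' hzm
      have hc2 : Commute wp wm := R.X_comm hSpQ hSmQ hwp' hwm'
      have hc3 : Commute wp w0 := R.X_comm hSpQ hS0Q hwp' hw0'
      calc z * ((x a t * v') * w) * z⁻¹
          = z * (x a t * v') * (w * z) := by rw [hzi]; group
        _ = ((x a t * v') * (x a t * v')) * z * (x a t * v') * (z * w) := by rw [hvv, one_mul, hzw.eq]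
        _ = (x a t * v') * ((x a t * v') * z * (x a t * v')) * (z * w) := by group
        _ = (x a t * v') * (y * (wp * z) * (wm * (w0 * wp))) := by rw [e1, hw1, hw2]; group
        _ = (x a t * v') * (y * z * wm * w0 * (wp * wp)) := by
            rw [hc1.eq, show y * (z * wp) * (wm * (w0 * wp)) = y * z * (wp * wm) * (w0 * wp) by group,
              hc2.eq, show y * z * (wm * wp) * (w0 * wp) = y * z * wm * (wp * w0) * wp by group, hc3.eq]
            group
        _ = (x a t * v') * (ym * w0) := by rw [R.X_sq hSpQ hwp', mul_one, hym]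
    have hinv' : (x a t * v') * (ym * w0) * ((x a t * v') * (ym * w0)) = 1 := by
      rw [← e2, ← hv, show ∀ g : G, z * g * z⁻¹ * (z * g * z⁻¹) = z * (g * g) * z⁻¹ from fun g => by group, hinv]
      group
    have hm0Q : {r | r ∈ S ∧ pr a r ≠ 1} ⊆ {r | r ∈ Q} := fun r hr => hSQ hr.1
    have hfix : (x a t * v') * (ym * w0) * (x a t * v') = ym * w0 := by
      have h2 : (ym * w0) * (ym * w0) = 1 := by
        have hc : Commute ym w0 := R.X_comm hSmQ hS0Q hymm hw0'
        calc ym * w0 * (ym * w0) = ym * (w0 * ym) * w0 := by group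
          _ = (ym * ym) * (w0 * w0) := by rw [← hc.eq]; group
          _ = 1 := by rw [R.X_sq hSmQ hymm, R.X_sq hS0Q hw0', one_mul]
      calc (x a t * v') * (ym * w0) * (x a t * v')
          = ((x a t * v') * (ym * w0) * ((x a t * v') * (ym * w0))) * (ym * w0)⁻¹ := by group
        _ = ym * w0 := by rw [hinv', one_mul, inv_eq_of_mul_eq_one_right h2]
    -- the negative part vanishes
    obtain ⟨y', hy'⟩ : ∃ y', y' = v' * ym * v' := ⟨_, rfl⟩
    have hy'm : y' ∈ X x Sm := hy' ▸ hv'm hymm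
    have himg : x a t * y' * x a t * y' ∈ X x Sp := by
      obtain ⟨f, hf, hfe⟩ := R.mem_ev hSmQ hy'm
      have key : ∀ q ∈ X x Sm, x a t * q * x a t * q ∈ X x Sp := by
        intro q hq
        induction hq using Subgroup.closure_induction with
        | mem q hq =>
          obtain ⟨d, hd, s, rfl⟩ := hq
          have h := R.conj a haL d (hSmQ hd) hd.2 s t
          rw [hxa] at h
          rw [h, (R.commQ d (hSmQ hd) _ (R.sm_mem a haL d (hSmQ hd) hd.2) s (t * s)).eq, mul_assoc, R.sq,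
            mul_one]
          exact mem_X (hmP d hd) _
        | one => simp [R.sq]
        | mul q1 q2 hq1 hq2 h1 h2 =>
          have hc : Commute (x a t * q2 * x a t * q2) q1 := R.X_comm hSpQ hSmQ h2 hq1
          have hc' : Commute q1 q2 := R.X_comm hSmQ hSmQ hq1 hq2
          have : x a t * (q1 * q2) * x a t * (q1 * q2) =
              (x a t * q1 * x a t * q1) * (x a t * q2 * x a t * q2) := by
            calc x a t * (q1 * q2) * x a t * (q1 * q2)
                = x a t * q1 * (x a t * x a t) * q2 * x a t * (q2 * q1) := by rw [R.sq, ← hc'.eq]; group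
              _ = x a t * q1 * x a t * ((x a t * q2 * x a t * q2) * q1) := by group
              _ = _ := by rw [hc.eq]; group
          rw [this]
          exact mul_mem h1 h2
        | inv q hq h => rw [inv_eq_of_mul_eq_one_right (R.X_sq hSmQ hq)]; exact h
      exact key y' hy'm
    have hy1 : x a t * y' * x a t * y' = 1 := by
      refine R.disjoint hSpQ hm0Q (fun r hr h => h.2 hr.2) himg ?_
      have e : x a t * y' * x a t * (v' * w0 * v') = ym * w0 := by
        rw [← hfix, hy']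
        have : x a t * (v' * w0 * v') * x a t = v' * w0 * v' := by
          have hcw : Commute (x a t) (v' * w0 * v') := by
            have : X x S0 ≤ Subgroup.centralizer {x a t} := X_le fun r hr s => by
              rw [Subgroup.mem_centralizer_singleton_iff]
              exact (R.act0 a haL r (hS0Q hr) (by rw [hr.2]; norm_num) s t).eq.symm
            exact (Subgroup.mem_centralizer_singleton_iff.1 (this (hv'0 hw0'))).symm
          rw [hcw.eq, mul_assoc, R.sq, mul_one]
        calc x a t * (v' * ym * v') * x a t * (v' * w0 * v')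
            = x a t * (v' * ym * v') * x a t * (x a t * (v' * w0 * v') * x a t) := by rw [this]
          _ = x a t * v' * ym * v' * (x a t * x a t) * v' * w0 * (v' * x a t) := by group
          _ = x a t * v' * ym * (v' * v') * w0 * (v' * x a t) := by rw [R.sq]; group
          _ = _ := by rw [hv'2, ← hca.eq]; group
      have e' : x a t * y' * x a t * y' = ym * w0 * (v' * w0 * v')⁻¹ * y' := by rw [← e]; group
      rw [e']
      exact mul_mem (mul_mem (mul_mem (X_sub hymm (fun r hr => ⟨hr.1, by rw [hr.2]; norm_num⟩))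
        (X_sub hw0' (fun r hr => ⟨hr.1, by rw [hr.2]; norm_num⟩)))
        (inv_mem (X_sub (hv'0 hw0') (fun r hr => ⟨hr.1, by rw [hr.2]; norm_num⟩))))
        (X_sub hy'm (fun r hr => ⟨hr.1, by rw [hr.2]; norm_num⟩))
    have hym1 : ym = 1 := by
      have h1 : y' = 1 := R.eq_one_of_fixed haL ht hSm hSQ hy'm hy1
      rw [hy'] at h1
      calc ym = (v' * v') * ym * (v' * v') := by rw [hv'2, one_mul, mul_one]
        _ = v' * (v' * ym * v') * v' := by group
        _ = 1 := by rw [h1, mul_one, hv'2]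
    rw [hym1, one_mul] at e2 hinv'
    -- recursion
    have hw0SP : w0 ∈ X x (SP pr Q (a :: P)) := X_sub hw0' (fun r hr => ⟨hr.1.1, fun p hp => by
      rcases List.mem_cons.1 hp with rfl | hp
      · exact hr.2
      · exact hr.1.2 p hp⟩)
    have hcw0 : Commute (x a t) w0 := by
      have : X x S0 ≤ Subgroup.centralizer {x a t} := X_le fun r hr s => by
        rw [Subgroup.mem_centralizer_singleton_iff]
        exact (R.act0 a haL r (hS0Q hr) (by rw [hr.2]; norm_num) s t).eq.symm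
      exact (Subgroup.mem_centralizer_singleton_iff.1 (this hw0')).symm
    have hca2 : Commute (x a t) (v' * w0) := hca.mul_right hcw0
    have hinv'' : v' * w0 * (v' * w0) = 1 := by
      calc v' * w0 * (v' * w0) = (x a t * x a t) * (v' * w0) * (v' * w0) := by rw [R.sq, one_mul]
        _ = x a t * (x a t * (v' * w0)) * (v' * w0) := by group
        _ = x a t * v' * w0 * (x a t * v' * w0) := by rw [hca2.eq]; group
        _ = 1 := by simpa [mul_assoc] using hinv'
    obtain ⟨z', hz', w', hw', e3⟩ := ih (a :: P) (fun p hp => hA p (by simp [hp]))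
      (fun p hp => (List.mem_cons.1 hp).elim (fun h => h ▸ haQL) (hP p)) hpw.2
      (fun p hp q hq => (List.mem_cons.1 hp).elim (fun h => h ▸ hpw.1 q hq)
        (fun h => hPA p h q (by simp [hq]))) w0 hw0SP hinv''
    have hz'S0 : z' ∈ X x S0 := X_sub hz' (fun r hr => (⟨⟨hr.1, fun p hp => hr.2 p (by simp [hp])⟩,
      hr.2 a (by simp)⟩ : r ∈ S0))
    refine ⟨z' * z, mul_mem (X_sub hz'S0 (fun r hr => hr.1)) (X_sub hzm (fun r hr => hr.1)), w', ?_, ?_⟩
    · refine X_sub hw' (fun r hr => (⟨hr.1, fun p hp => ?_⟩ : r ∈ SP pr Q (((a, t) :: A).map Prod.fst ++ P)))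
      simp only [List.map_cons, List.cons_append, List.mem_cons, List.mem_append] at hp
      apply hr.2
      simp only [List.mem_append, List.mem_cons]
      tauto
    · have hcz' : Commute (x a t) z' := by
        have : X x S0 ≤ Subgroup.centralizer {x a t} := X_le fun r hr s => by
          rw [Subgroup.mem_centralizer_singleton_iff]
          exact (R.act0 a haL r (hS0Q hr) (by rw [hr.2]; norm_num) s t).eq.symm
        exact (Subgroup.mem_centralizer_singleton_iff.1 (this hz'S0)).symm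
      calc z' * z * (vA x ((a, t) :: A) * w) * (z' * z)⁻¹
          = z' * (z * (x a t * v' * w) * z⁻¹) * z'⁻¹ := by rw [hv]; group
        _ = z' * x a t * (v' * w0) * z'⁻¹ := by rw [e2]; group
        _ = x a t * (z' * (v' * w0) * z'⁻¹) := by rw [← hcz'.eq]; group
        _ = vA x ((a, t) :: A) * w' := by rw [e3, hv]; group

theorem conj_SP {s : ℕ} (hs : s ∈ L) {P : List ℕ} (hP : ∀ p ∈ P, p ∈ Q ++ L) (hsP : ∀ p ∈ P, pr p s = 0) {r : ℕ}
    (hr : r ∈ SP pr Q P) (h : pr s r = -1) : sm s r ∈ SP pr Q P :=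
  ⟨R.sm_mem s hs r hr.1 h, fun p hp => by rw [R.lin s hs r hr.1 h p (hP p hp), hr.2 p hp, hsP p hp, add_zero]⟩

/-- Killing the coordinates at the roots at angle sixty degrees from a pivot. -/
theorem pivot {b : ℕ} (hb : b ∈ Q) {t : F} (ht : t ≠ 0) {P : List ℕ} (hP : ∀ p ∈ P, p ∈ Q ++ L)
    (hbP : ∀ p ∈ P, pr p b = 0) {w : G} (hw : w ∈ X x {r | r ∈ SP pr Q P ∧ r ≠ b}) :
    ∃ h ∈ HP x pr L P, ∃ w' ∈ X x {r | r ∈ SP pr Q P ∧ pr b r ≤ 0},
      h * (x b t * w) * h⁻¹ = x b t * w' := by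
  classical
  have hbQL : b ∈ Q ++ L := List.mem_append.2 (Or.inl hb)
  obtain ⟨N, hN⟩ : ∃ N : Set ℕ, N = {r | r ∈ SP pr Q P ∧ r ≠ b ∧ pr b r = 1} := ⟨_, rfl⟩
  obtain ⟨Rs, hRs⟩ : ∃ Rs : Set ℕ, Rs = {r | r ∈ SP pr Q P ∧ pr b r ≤ 0} := ⟨_, rfl⟩
  have hNQ : N ⊆ {r | r ∈ Q} := by rw [hN]; exact fun r hr => hr.1.1
  have hRQ : Rs ⊆ {r | r ∈ Q} := by rw [hRs]; exact fun r hr => hr.1.1
  obtain ⟨w1, hw1, w2, hw2, rfl⟩ := R.split (fun r => pr b r = 1) (fun r hr => hr.1.1) hw
  have hw1' : w1 ∈ X x N := X_sub hw1 (fun r hr => by rw [hN]; exact ⟨hr.1.1, hr.1.2, hr.2⟩)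
  have hw2' : w2 ∈ X x Rs := X_sub hw2 (fun r hr => by
    rw [hRs]
    refine ⟨hr.1.1, ?_⟩
    rcases R.vals b hbQL r hr.1.1.1 (Ne.symm hr.1.2) with h | h | h
    · omega
    · omega
    · exact absurd h hr.2)
  suffices ∀ u ∈ X x N, ∀ v ∈ X x Rs, ∃ h ∈ HP x pr L P, ∃ w' ∈ X x Rs,
      h * (x b t * (u * v)) * h⁻¹ = x b t * w' by
    rw [← hRs]; exact this _ hw1' _ hw2'
  suffices gen : ∀ c ∈ N, ∀ e : F, ∀ y ∈ X x N,
      (∀ v ∈ X x Rs, ∃ h ∈ HP x pr L P, ∃ w' ∈ X x Rs, h * (x b t * (y * v)) * h⁻¹ = x b t * w') →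
      ∀ v ∈ X x Rs, ∃ h ∈ HP x pr L P, ∃ w' ∈ X x Rs,
        h * (x b t * (x c e * y * v)) * h⁻¹ = x b t * w' by
    intro u hu
    induction hu using Subgroup.closure_induction_left with
    | one => exact fun v hv => ⟨1, one_mem _, v, hv, by group⟩
    | mul_left g hg y hy ih =>
      obtain ⟨c, hc, e, rfl⟩ := hg
      exact gen c hc e y hy ih
    | inv_mul_cancel g hg y hy ih =>
      obtain ⟨c, hc, e, rfl⟩ := hg
      rw [R.inv]
      exact gen c hc e y hy ih
  intro c hc e y hy ih v hv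
  obtain ⟨hcSP, hcb, hc1⟩ : c ∈ SP pr Q P ∧ c ≠ b ∧ pr b c = 1 := by rw [hN] at hc; exact hc
  obtain ⟨s, hs, hsb, hsc⟩ := R.diffQ b hb c hcSP.1 hc1
  subst hsc
  have hsQL : s ∈ Q ++ L := List.mem_append.2 (Or.inr hs)
  have hsP : ∀ p ∈ P, pr p s = 0 := fun p hp => by
    have := hcSP.2 p hp
    rw [R.lin s hs b hb hsb p (hP p hp), hbP p hp, zero_add] at this
    exact this
  have hsc : pr s (sm s b) = 1 := by rw [R.lin s hs b hb hsb s hsQL, hsb, R.self s hsQL]; norm_num
  have hbs : pr b s = -1 := by rw [R.symm b hbQL s hsQL]; exact hsb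
  have hmove : ∀ r ∈ SP pr Q P, r ≠ b → pr s r = -1 → sm s r ∈ Rs := fun r hr hrb h => by
    rw [hRs]
    refine ⟨R.conj_SP hs hP hsP hr h, ?_⟩
    rw [R.lin s hs r hr.1 h b hbQL, hbs]
    rcases R.vals b hbQL r hr.1 (Ne.symm hrb) with h' | h' | h' <;> omega
  have hh : x s (e / t) ∈ HP x pr L P := mem_X (show s ∈ {s | s ∈ L ∧ ∀ p ∈ P, pr p s = 0} from ⟨hs, hsP⟩) _
  obtain ⟨k, hk⟩ : ∃ k, k = x s (e / t) := ⟨_, rfl⟩
  have hk1 : k * x b t * k⁻¹ = x b t * x (sm s b) e := by
    rw [hk, R.conj s hs b hb hsb, div_mul_cancel₀ e ht]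
  have hk2 : k * x (sm s b) e * k⁻¹ = x (sm s b) e := by
    rw [hk, (R.act0 s hs _ hcSP.1 (by rw [hsc]; norm_num) e _).eq, mul_inv_cancel_right]
  have hk3 : k * y * k⁻¹ * y ∈ X x Rs := by
    clear ih
    induction hy using Subgroup.closure_induction with
    | mem z hz =>
      obtain ⟨r, hr, a, rfl⟩ := hz
      obtain ⟨hrSP, hrb, hr1⟩ : r ∈ SP pr Q P ∧ r ≠ b ∧ pr b r = 1 := by rw [hN] at hr; exact hr
      by_cases h : pr s r = -1
      · rw [hk, R.conj s hs r hrSP.1 h, (R.commQ r hrSP.1 _ (R.sm_mem s hs r hrSP.1 h) _ _).eq, mul_assoc,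
          R.sq, mul_one]
        exact mem_X (hmove r hrSP hrb h) _
      · rw [hk, (R.act0 s hs r hrSP.1 h a _).eq, mul_inv_cancel_right, R.sq]
        exact one_mem _
    | one => simp
    | mul z1 z2 hz1 hz2 h1 h2 =>
      have hc : Commute (k * z2 * k⁻¹ * z2) z1 := R.X_comm hRQ hNQ h2 hz1
      have hc' : Commute z1 z2 := R.X_comm hNQ hNQ hz1 hz2
      have : k * (z1 * z2) * k⁻¹ * (z1 * z2) = (k * z1 * k⁻¹ * z1) * (k * z2 * k⁻¹ * z2) := by
        calc k * (z1 * z2) * k⁻¹ * (z1 * z2) = k * z1 * k⁻¹ * ((k * z2 * k⁻¹ * z2) * z1) := by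
              rw [hc'.eq]; rw [← hc'.eq]; simp only [mul_assoc, inv_mul_cancel_left]; rw [hc'.eq]
          _ = _ := by rw [hc.eq]; group
      rw [this]
      exact mul_mem h1 h2
    | inv z hz h => rw [inv_eq_of_mul_eq_one_right (R.X_sq hNQ hz)]; exact h
  have hkv : k * v * k⁻¹ ∈ X x Rs := by
    rw [hk]
    refine R.conj_mem hs hRQ (fun r hr h => ?_) _ hv
    rw [hRs] at hr
    refine hmove r hr.1 (fun he => ?_) h
    subst he
    have := hr.2
    rw [R.self r hbQL] at this
    omega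
  have hy' : y * y = 1 := R.X_sq hNQ hy
  have hce : x (sm s b) e * x (sm s b) e = 1 := R.sq _ _
  obtain ⟨h', hh', w', hw', e'⟩ := ih ((k * y * k⁻¹ * y) * (k * v * k⁻¹)) (mul_mem hk3 hkv)
  refine ⟨h' * k, mul_mem hh' (hk ▸ hh), w', hw', ?_⟩
  have hcm : Commute (k * y * k⁻¹ * y) y := R.X_comm hRQ hNQ hk3 hy
  have : k * (x b t * (x (sm s b) e * y * v)) * k⁻¹ = x b t * (y * ((k * y * k⁻¹ * y) * (k * v * k⁻¹))) := by
    calc k * (x b t * (x (sm s b) e * y * v)) * k⁻¹
        = (k * x b t * k⁻¹) * (k * x (sm s b) e * k⁻¹) * (k * y * k⁻¹) * (k * v * k⁻¹) := by group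
      _ = x b t * (x (sm s b) e * x (sm s b) e) * ((k * y * k⁻¹) * (y * y)) * (k * v * k⁻¹) := by
          rw [hk1, hk2, hy', mul_one]; group
      _ = x b t * ((k * y * k⁻¹ * y) * y * (k * v * k⁻¹)) := by rw [hce, mul_one]; group
      _ = _ := by rw [hcm.eq]; group
  calc h' * k * (x b t * (x (sm s b) e * y * v)) * (h' * k)⁻¹
      = h' * (k * (x b t * (x (sm s b) e * y * v)) * k⁻¹) * h'⁻¹ := by group
    _ = x b t * w' := by rw [this, e']

theorem HP_commute {P : List ℕ} {p : ℕ} (hp : p ∈ P) (hpQL : p ∈ Q ++ L) (a : F) {h : G}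
    (hh : h ∈ HP x pr L P) : Commute (x p a) h := by
  have : HP x pr L P ≤ Subgroup.centralizer {x p a} := X_le fun s hs u => by
    rw [Subgroup.mem_centralizer_singleton_iff]
    exact (R.commute_zero hpQL (List.mem_append.2 (Or.inr hs.1)) (hs.2 p hp) u a).eq.symm
  exact (Subgroup.mem_centralizer_singleton_iff.1 (this hh)).symm

/-- Reduction to pairwise orthogonal roots when no two roots make an obtuse angle. -/
theorem reduce (P : List ℕ) (hP : ∀ p ∈ P, p ∈ Q ++ L)
    (hpos : ∀ r ∈ SP pr Q P, ∀ r' ∈ SP pr Q P, pr r r' ≠ -1) (w : G) (hw : w ∈ X x (SP pr Q P)) :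
    ∃ h ∈ HP x pr L P, ∃ B : List (ℕ × F), (∀ p ∈ B, p.1 ∈ SP pr Q P ∧ p.2 ≠ 0) ∧
      (B.Pairwise fun p q => pr p.1 q.1 = 0) ∧ h * w * h⁻¹ = vA x B := by
  classical
  induction hn : (Q.filter fun r => decide (r ∈ SP pr Q P)).length using Nat.strong_induction_on generalizing P w with
  | _ n ih =>
    obtain ⟨f, hf, rfl⟩ := R.mem_ev (fun r hr => hr.1) hw
    by_cases h0 : ∀ r ∈ Q, f r = 0
    · refine ⟨1, one_mem _, [], by simp, List.Pairwise.nil, ?_⟩
      rw [one_mul, inv_one, mul_one, vA_nil, ← R.ev_zero]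
      exact congrArg List.prod (List.map_congr_left fun r hr => by rw [h0 r hr]; rfl)
    push Not at h0
    obtain ⟨b, hb, hfb⟩ := h0
    have hbSP : b ∈ SP pr Q P := by by_contra h; exact hfb (hf b h)
    have hbQL : b ∈ Q ++ L := List.mem_append.2 (Or.inl hb)
    have hrest : ev x Q (Function.update f b 0) ∈ X x {r | r ∈ SP pr Q P ∧ r ≠ b} := R.ev_mem fun r _ hr => by
      by_cases e : r = b
      · subst e; simp
      · rw [Function.update_of_ne e]
        exact hf r fun h => hr ⟨h, e⟩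
    have hsplit : ev x Q f = x b (f b) * ev x Q (Function.update f b 0) := by
      rw [← R.ev_single hb (f b), ← R.ev_add]
      congr 1
      funext r
      by_cases e : r = b
      · subst e; simp
      · simp [e]
    obtain ⟨h, hh, w', hw', e⟩ := R.pivot hb hfb hP hbSP.2 hrest
    have hw'' : w' ∈ X x (SP pr Q (b :: P)) := X_sub hw' (fun r hr => (⟨hr.1.1, fun p hp => by
      rcases List.mem_cons.1 hp with rfl | hp
      · have h1 := hpos p hbSP r hr.1
        rcases R.vals p hbQL r hr.1.1 (fun he => by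
          subst he; have := hr.2; rw [R.self p hbQL] at this; omega) with h' | h' | h'
        · exact absurd h' h1
        · exact h'
        · have := hr.2; omega
      · exact hr.1.2 p hp⟩ : r ∈ SP pr Q (b :: P)))
    have hsub : ∀ r ∈ SP pr Q (b :: P), r ∈ SP pr Q P := fun r hr => ⟨hr.1, fun p hp => hr.2 p (by simp [hp])⟩
    have hlt : (Q.filter fun r => decide (r ∈ SP pr Q (b :: P))).length < n := by
      rw [← hn, ← List.countP_eq_length_filter, ← List.countP_eq_length_filter]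
      have hle : ∀ l : List ℕ, l.countP (fun r => decide (r ∈ SP pr Q (b :: P))) ≤
          l.countP fun r => decide (r ∈ SP pr Q P) := fun l => List.countP_mono_left fun r _ hr => by
        simp only [decide_eq_true_eq] at hr ⊢; exact hsub r hr
      obtain ⟨l1, l2, rfl⟩ := List.append_of_mem hb
      rw [List.countP_append, List.countP_append, List.countP_cons, List.countP_cons]
      have h1 := hle l1
      have h2 := hle l2
      have hnot : b ∉ SP pr (l1 ++ b :: l2) (b :: P) := fun hb' => by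
        have := hb'.2 b (by simp); rw [R.self b hbQL] at this; omega
      simp only [hbSP, hnot, decide_true, decide_false, if_true, Bool.false_eq_true, if_false]
      omega
    obtain ⟨h', hh', B, hB, hBp, e'⟩ := ih _ hlt (b :: P)
      (fun p hp => (List.mem_cons.1 hp).elim (fun h => h ▸ hbQL) (hP p))
      (fun r hr r' hr' => hpos r (hsub r hr) r' (hsub r' hr')) w' hw'' rfl
    refine ⟨h' * h, mul_mem (X_sub hh' fun s hs => (⟨hs.1, fun p hp => hs.2 p (by simp [hp])⟩ :
      s ∈ {s | s ∈ L ∧ ∀ p ∈ P, pr p s = 0})) hh, (b, f b) :: B, ?_, ?_, ?_⟩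
    · intro p hp
      rcases List.mem_cons.1 hp with rfl | hp
      · exact ⟨hbSP, hfb⟩
      · exact ⟨hsub _ (hB p hp).1, (hB p hp).2⟩
    · exact List.pairwise_cons.2 ⟨fun q hq => (hB q hq).1.2 b (by simp), hBp⟩
    · have hc : Commute (x b (f b)) h' := R.HP_commute (List.mem_cons_self) hbQL _ hh'
      rw [hsplit, vA_cons, ← e']
      calc h' * h * (x b (f b) * ev x Q (Function.update f b 0)) * (h' * h)⁻¹
          = h' * (h * (x b (f b) * ev x Q (Function.update f b 0)) * h⁻¹) * h'⁻¹ := by group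
        _ = (h' * x b (f b)) * w' * h'⁻¹ := by rw [e]; group
        _ = _ := by rw [← hc.eq]; group

end RootAct

end CfsgLib.Chev.SLInvol
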