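import Mathlib
import Cfsg.Agent.Lib.Chev.Bruhat
import Cfsg.Agent.Lib.Chev.InvolMono
import Cfsg.Agent.Lib.Classical.ChevRootCent
import Cfsg.Agent.Lib.Chev.SLInvolRad

/-!
Boolean checks for a simply laced datum in characteristic two and the facts they give.
-/

set_option autoImplicit false

namespace CfsgLib.Chev.SLInvol

open Cfsg.Lie CfsgLib.Classical.ChevFix

variable (D : ChevalleyDatum) (dat : LieData)

/-- The sum of two roots at angle 120 degrees, read off the commutator formula. -/
noncomputable def smR (s r : ℕ) : ℕ := List.rec 0 (fun c _ _ => c.1) (fterms D s r)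

/-- The term of the commutator formula is the sum, with odd coefficient. -/
noncomputable def sumOK (s r : ℕ) (c : ℕ × ℤ × ℕ × ℕ) : Bool :=
  Int.beq' (c.2.1 % 2) 1 && Nat.beq c.2.2.1 1 && Nat.beq c.2.2.2 1 && Nat.blt c.1 D.nroots &&
    allR (fun i => Int.beq' (rootCo dat c.1 i) (rootCo dat s i + rootCo dat r i) &&
      Int.beq' (fcartan D i c.1) (fcartan D i s + fcartan D i r)) (upto D.rank)

/-- The check at a pair of roots. -/
noncomputable def slPair (s r : ℕ) : Bool :=
  Int.beq' (fpair D s r) (fpair D r s) &&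
  bif Nat.beq s r then Int.beq' (fpair D s r) 2
  else bif Nat.beq r (fneg D s) then true
  else bif Int.beq' (fpair D s r) (-1) then
    List.rec false (fun c l _ => sumOK D dat s r c && List.rec true (fun _ _ _ => false) l) (fterms D s r)
  else evenOK D r s && (Int.beq' (fpair D s r) 0 || Int.beq' (fpair D s r) 1)

/-- A block of rows of the check. -/
noncomputable def slBlock (m c : ℕ) : Bool :=
  allR (fun i => Nat.ble D.nroots (c * m + i) || allR (slPair D dat (c * m + i)) (upto D.nroots)) (upto m)

/-- The whole check. -/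
def SLOK : Prop := ∀ s < D.nroots, ∀ r < D.nroots, slPair D dat s r = true

theorem slOK_intro {m k : ℕ} (hk : D.nroots ≤ k * m) (hm : 0 < m)
    (hb : ∀ c < k, slBlock D dat m c = true) : SLOK D dat := by
  intro s hs r hr
  have hc : s / m < k := Nat.div_lt_of_lt_mul (by nlinarith)
  have h := allR_upto (hb _ hc) (Nat.mod_lt s hm)
  rw [show s / m * m + s % m = s by rw [mul_comm]; exact Nat.div_add_mod s m, Bool.or_eq_true] at h
  refine allR_upto (h.resolve_left fun hle => ?_) hr
  rw [Nat.ble_eq] at hle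
  omega

variable {D} {dat}

/-- What is needed from a datum. -/
structure SLFacts (D : ChevalleyDatum) (dat : LieData) (sd : StructData) : Prop where
  good : Good D
  comm : HasComm D
  lie : LieChecks D dat
  struc : StructChecks D dat sd
  ord : orderOK D dat = true
  sl : SLOK D dat

namespace SLFacts

variable {sd : StructData} (h : SLFacts D dat sd)
include h

theorem pair_symm {r s : ℕ} (hr : r < D.nroots) (hs : s < D.nroots) : pair D r s = pair D s r := by
  have h1 := h.sl r hr s hs
  simp only [slPair, Bool.and_eq_true, Int.beq'_eq] at h1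
  rw [← h.good.fpair_eq r hs, ← h.good.fpair_eq s hr]
  exact h1.1

theorem pair_self {r : ℕ} (hr : r < D.nroots) : pair D r r = 2 := by
  have h1 := h.sl r hr r hr
  simp only [slPair, Bool.and_eq_true] at h1
  have h2 := h1.2
  rw [show Nat.beq r r = true from Nat.beq_eq ▸ rfl, cond_true, Int.beq'_eq, h.good.fpair_eq r hr] at h2
  exact h2

theorem row {s r : ℕ} (hs : s < D.nroots) (hr : r < D.nroots) (hne : s ≠ r) (hneg : r ≠ D.neg s) :
    (pair D s r = -1 ∧ ∃ c, fterms D s r = [c] ∧ sumOK D dat s r c = true) ∨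
      ((pair D s r = 0 ∨ pair D s r = 1) ∧ evenOK D r s = true) := by
  have h1 := h.sl s hs r hr
  simp only [slPair, Bool.and_eq_true] at h1
  have h2 := h1.2
  have e1 : Nat.beq s r = false := by
    cases e : Nat.beq s r with
    | false => rfl
    | true => exact absurd (Nat.beq_eq ▸ e) hne
  have e2 : Nat.beq r (fneg D s) = false := by
    cases e : Nat.beq r (fneg D s) with
    | false => rfl
    | true =>
      exfalso; apply hneg
      rw [h.good.neg_rev hs]
      exact Nat.beq_eq ▸ e
  rw [e1, cond_false, e2, cond_false] at h2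
  cases e : Int.beq' (fpair D s r) (-1) with
  | true =>
    rw [e, cond_true] at h2
    rw [Int.beq'_eq, h.good.fpair_eq s hr] at e
    refine Or.inl ⟨e, ?_⟩
    cases hf : fterms D s r with
    | nil => rw [hf] at h2; exact absurd h2 (by simp)
    | cons c l =>
      rw [hf] at h2
      simp only [Bool.and_eq_true] at h2
      cases l with
      | nil => exact ⟨c, rfl, h2.1⟩
      | cons => exact absurd h2.2 (by simp)
  | false =>
    rw [e, cond_false] at h2
    simp only [Bool.and_eq_true, Bool.or_eq_true, Int.beq'_eq, h.good.fpair_eq s hr] at h2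
    exact Or.inr ⟨h2.2, h2.1⟩

theorem vals {s r : ℕ} (hs : s < D.nroots) (hr : r < D.nroots) (hne : s ≠ r) (hneg : r ≠ D.neg s) :
    pair D s r = -1 ∨ pair D s r = 0 ∨ pair D s r = 1 := by
  rcases h.row hs hr hne hneg with ⟨e, -⟩ | ⟨e, -⟩
  · exact Or.inl e
  · exact Or.inr e

theorem pair_neg_left {r u : ℕ} (hr : r < D.nroots) (hu : u < D.nroots) :
    pair D (D.neg r) u = - pair D r u := by
  rw [h.pair_symm (h.good.neg_lt hr) hu, h.pair_symm hr hu]
  exact CfsgLib.Chev.InvolMono.pair_nroot h.good u ⟨r, hr⟩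

theorem ne_of_pair {s r : ℕ} (hs : s < D.nroots) (hr : r < D.nroots) (hp : pair D s r = -1) :
    s ≠ r ∧ r ≠ D.neg s := by
  refine ⟨fun e => ?_, fun e => ?_⟩
  · subst e; rw [h.pair_self hs] at hp; omega
  · subst e
    rw [h.pair_symm hs hr, h.pair_neg_left hs hs, h.pair_self hs] at hp
    omega

theorem commute {F : Type*} [Field F] [CharP F 2] {s r : ℕ} (hs : s < D.nroots) (hr : r < D.nroots)
    (hp : pair D s r ≠ -1) (hneg : r ≠ D.neg s) (t u : F) :
    Commute (h.good.xG s u) (h.good.xG r t) := by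
  by_cases e : s = r
  · subst e
    show _ * _ = _ * _
    rw [h.good.xG_add, h.good.xG_add, add_comm]
  · rcases h.row hs hr e hneg with ⟨e', -⟩ | ⟨-, e'⟩
    · exact absurd e' hp
    · exact commute_of_evenOK h.good h.comm hr hs e' t u

theorem sum_facts {s r : ℕ} (hs : s < D.nroots) (hr : r < D.nroots) (hp : pair D s r = -1) :
    smR D s r < D.nroots ∧ (∀ i < D.rank, rootCo dat (smR D s r) i = rootCo dat s i + rootCo dat r i) ∧
      ∀ a < D.nroots, pair D a (smR D s r) = pair D a r + pair D a s := by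
  obtain ⟨hne, hneg⟩ := h.ne_of_pair hs hr hp
  rcases h.row hs hr hne hneg with ⟨-, c, hc, hok⟩ | ⟨e, -⟩
  swap
  · omega
  obtain ⟨k, z, i, j⟩ := c
  simp only [sumOK, Bool.and_eq_true, Int.beq'_eq, Nat.beq_eq, Nat.blt, Nat.ble_eq] at hok
  obtain ⟨⟨⟨⟨hz, hi⟩, hj⟩, hk⟩, hall⟩ := hok
  have hsm : smR D s r = k := by simp [smR, hc]
  have hall' : ∀ m < D.rank, rootCo dat k m = rootCo dat s m + rootCo dat r m ∧
      fcartan D m k = fcartan D m s + fcartan D m r := fun m hm => by
    have := allR_upto hall hm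
    simpa [Bool.and_eq_true, Int.beq'_eq] using this
  rw [hsm]
  refine ⟨by omega, fun m hm => (hall' m hm).1, fun a ha => ?_⟩
  · simp only [pair, ← Finset.sum_add_distrib]
    refine Finset.sum_congr rfl fun m hm => ?_
    have hm' := Finset.mem_range.1 hm
    rw [cartan_eq h.good.lie.pack hm' (by omega), cartan_eq h.good.lie.pack hm' hr,
      cartan_eq h.good.lie.pack hm' hs, (hall' m hm').2]
    ring

theorem sum_conj {F : Type*} [Field F] [CharP F 2] {s r : ℕ} (hs : s < D.nroots) (hr : r < D.nroots)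
    (hp : pair D s r = -1) (t u : F) : h.good.xG s u * h.good.xG r t * (h.good.xG s u)⁻¹ =
      h.good.xG r t * h.good.xG (smR D s r) (u * t) := by
  obtain ⟨hne, hneg⟩ := h.ne_of_pair hs hr hp
  rcases h.row hs hr hne hneg with ⟨-, c, hc, hok⟩ | ⟨e, -⟩
  swap
  · omega
  obtain ⟨k, z, i, j⟩ := c
  simp only [sumOK, Bool.and_eq_true, Int.beq'_eq, Nat.beq_eq, Nat.blt, Nat.ble_eq] at hok
  obtain ⟨⟨⟨⟨hz, hi⟩, hj⟩, hk⟩, -⟩ := hok
  have hsm : smR D s r = k := by simp [smR, hc]
  rw [hsm]
  rw [h.good.xG_conj h.comm hr hs (Ne.symm hne) (fun e => hneg e), ← h.good.fterms_eq hs hr, hc]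
  have hz' : ((z : ℤ) : F) = 1 := by
    rw [show z = 2 * (z / 2) + 1 by omega]
    push_cast
    rw [CharTwo.two_eq_zero]
    ring
  subst hi hj
  simp [hz']

theorem root_inj {u v : ℕ} (hu : u < D.nroots) (hv : v < D.nroots)
    (he : ∀ i < D.rank, rootCo dat u i = rootCo dat v i) : u = v := by
  have hw : lexWt D dat u = lexWt D dat v := by
    simp only [lexWt, sumUpto_eq]
    exact Finset.sum_congr rfl fun i hi => by rw [he i (Finset.mem_range.1 hi)]
  have mono : ∀ b a : ℕ, a < b → b < D.nroots → lexWt D dat a < lexWt D dat b := by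
    intro b
    induction b with
    | zero => omega
    | succ b ih =>
      intro a hab hb
      have := allR_upto h.ord (k := b) (by omega)
      simp only [Bool.or_eq_true, Nat.beq_eq, decide_eq_true_eq] at this
      rcases this with h' | h'
      · omega
      · rcases Nat.lt_succ_iff_lt_or_eq.1 hab with h'' | rfl
        · exact (ih a h'' (by omega)).trans h'
        · exact h'
  rcases lt_trichotomy u v with h' | h' | h'
  · exact absurd hw (mono v u h' hv).ne
  · exact h'
  · exact absurd hw (mono u v h' hu).ne'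

theorem rootCo_neg {u : ℕ} (hu : u < D.nroots) {j : ℕ} (hj : j < D.rank) :
    rootCo dat (D.neg u) j = - rootCo dat u j := by
  rw [neg_eq h.lie.pack hu]
  exact (h.struc.co_lin hu).2.1 j hj

theorem rootCo_nonneg {u : ℕ} (hu : u < D.nroots) (hp : half D ≤ u) {j : ℕ} (hj : j < D.rank) :
    0 ≤ rootCo dat u j := (h.struc.co_lin hu).2.2 hp j hj

end SLFacts

end CfsgLib.Chev.SLInvol
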