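import Mathlib
import Cfsg.Agent.Lib.Chev.SLInvolCheck

/-!
Every involution of the unipotent radical of a Borel subgroup of a simply laced Chevalley group in
characteristic two is conjugate to a product of root elements at pairwise orthogonal roots: the step through
an abelian radical.
-/

set_option autoImplicit false

namespace CfsgLib.Chev.SLInvol

open Cfsg.Lie

variable {D : ChevalleyDatum} {dat : LieData} {sd : StructData}

/-- The first `k` coordinates of the chosen order vanish. -/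
def ZeroK (dat : LieData) (ord : List ℕ) (k r : ℕ) : Prop := ∀ j ∈ ord.take k, rootCo dat r j = 0

/-- The positive roots with the first `k` coordinates zero. -/
def MK (D : ChevalleyDatum) (dat : LieData) (ord : List ℕ) (k : ℕ) : Set ℕ :=
  {r | r < D.nroots ∧ half D ≤ r ∧ ZeroK dat ord k r}

/-- All roots with the first `k` coordinates zero. -/
def LK (D : ChevalleyDatum) (dat : LieData) (ord : List ℕ) (k : ℕ) : Set ℕ :=
  {r | r < D.nroots ∧ ZeroK dat ord k r}

/-- The roots of the radical of level `k`. -/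
def QK (D : ChevalleyDatum) (dat : LieData) (ord : List ℕ) (k : ℕ) : Set ℕ :=
  {r | r < D.nroots ∧ half D ≤ r ∧ ZeroK dat ord k r ∧ 1 ≤ rootCo dat r (ord.getD k 0)}

/-- A product of root elements at pairwise orthogonal roots of `S`. -/
def OrthProd {F : Type*} [Field F] (g : Good D) (S : Set ℕ) (y : GL D.Idx F) : Prop :=
  ∃ B : List (ℕ × F), (∀ p ∈ B, p.1 ∈ S ∧ p.2 ≠ 0) ∧
    (B.Pairwise fun p q => pair D p.1 q.1 = 0) ∧ y = vA (fun r t => g.xG r t) B

theorem zeroK_succ {ord : List ℕ} {k : ℕ} (hk : k < ord.length) {r : ℕ} :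
    ZeroK dat ord (k + 1) r ↔ ZeroK dat ord k r ∧ rootCo dat r (ord.getD k 0) = 0 := by
  simp only [ZeroK]
  rw [List.take_succ_eq_append_getElem hk,
    show ord.getD k 0 = ord[k] from List.getD_eq_getElem _ _ hk]
  constructor
  · exact fun h => ⟨fun j hj => h j (List.mem_append_left _ hj), h _ (List.mem_append_right _ (List.mem_singleton_self _))⟩
  · intro h j hj
    rcases List.mem_append.1 hj with hj | hj
    · exact h.1 j hj
    · rw [List.mem_singleton.1 hj]; exact h.2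

/-- The root element as a function. -/
noncomputable def xf (g : Good D) (F : Type*) [Field F] : ℕ → F → GL D.Idx F := fun r t => g.xG r t

namespace SLFacts

variable (h : SLFacts D dat sd) {F : Type*} [Field F] [CharP F 2] {ord : List ℕ}
include h

theorem zeroK_sum {k : ℕ} (hord : ∀ j ∈ ord, j < D.rank) {s r : ℕ} (hs : s < D.nroots) (hr : r < D.nroots)
    (hp : pair D s r = -1) (h1 : ZeroK dat ord k s) (h2 : ZeroK dat ord k r) : ZeroK dat ord k (smR D s r) :=
  fun j hj => by rw [(h.sum_facts hs hr hp).2.1 j (hord j (List.mem_of_mem_take hj)), h1 j hj, h2 j hj, add_zero]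

theorem zeroK_neg {k : ℕ} (hord : ∀ j ∈ ord, j < D.rank) {s : ℕ} (hs : s < D.nroots)
    (h1 : ZeroK dat ord k s) : ZeroK dat ord k (D.neg s) :=
  fun j hj => by rw [h.rootCo_neg hs (hord j (List.mem_of_mem_take hj)), h1 j hj, neg_zero]

theorem pos_of_coord {u j : ℕ} (hu : u < D.nroots) (hj : j < D.rank) (hc : 1 ≤ rootCo dat u j) : half D ≤ u := by
  by_contra hn
  have hn' : half D ≤ D.neg u := by
    have := h.good.nroots_eq
    rw [h.good.neg_rev hu]; omega
  have := h.rootCo_nonneg (h.good.neg_lt hu) hn' hj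
  rw [h.rootCo_neg hu hj] at this
  omega

theorem ord_lt (hord : ∀ j ∈ ord, j < D.rank) {k : ℕ} (hk : k < ord.length) : ord.getD k 0 < D.rank := by
  rw [List.getD_eq_getElem _ _ hk]; exact hord _ (List.getElem_mem hk)

/-- The lower group normalises the radical. -/
theorem LK_normalizes (hord : ∀ j ∈ ord, j < D.rank) {k : ℕ} (hk : k < ord.length) :
    X (xf h.good F) (LK D dat ord (k + 1)) ≤
      Subgroup.normalizer (X (xf h.good F) (QK D dat ord k) : Set (GL D.Idx F)) := by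
  have key : ∀ s ∈ LK D dat ord (k + 1), ∀ u : F, ∀ w ∈ X (xf h.good F) (QK D dat ord k),
      h.good.xG s u * w * (h.good.xG s u)⁻¹ ∈ X (xf h.good F) (QK D dat ord k) := by
    intro s hs u
    have hz := (zeroK_succ hk).1 hs.2
    suffices X (xf h.good F) (QK D dat ord k) ≤
        (X (xf h.good F) (QK D dat ord k)).comap (MulAut.conj (h.good.xG s u)).toMonoidHom from
      fun w hw => this hw
    refine X_le fun r hr t => ?_
    show h.good.xG s u * h.good.xG r t * (h.good.xG s u)⁻¹ ∈ X (xf h.good F) (QK D dat ord k)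
    obtain ⟨hr1, hr2, hr3, hr4⟩ := hr
    have hneg : r ≠ D.neg s := fun e => by
      subst e; rw [h.rootCo_neg hs.1 (h.ord_lt hord hk), hz.2] at hr4; omega
    by_cases hp : pair D s r = -1
    · obtain ⟨e1, e2, -⟩ := h.sum_facts hs.1 hr1 hp
      rw [h.sum_conj hs.1 hr1 hp t u]
      have hc : 1 ≤ rootCo dat (smR D s r) (ord.getD k 0) := by
        rw [e2 _ (h.ord_lt hord hk), hz.2, zero_add]; exact hr4
      exact mul_mem (mem_X (x := xf h.good F) (⟨hr1, hr2, hr3, hr4⟩ : r ∈ QK D dat ord k) t)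
        (mem_X (x := xf h.good F) (⟨e1, h.pos_of_coord e1 (h.ord_lt hord hk) hc, h.zeroK_sum hord hs.1 hr1 hp hz.1 hr3, hc⟩ : smR D s r ∈ QK D dat ord k) _)
    · rw [(h.commute hs.1 hr1 hp hneg t u).eq, mul_inv_cancel_right]
      exact mem_X (x := xf h.good F) (⟨hr1, hr2, hr3, hr4⟩ : r ∈ QK D dat ord k) t
  refine X_le fun s hs u => ?_
  rw [Subgroup.mem_normalizer_iff]
  refine fun w => ⟨key s hs u w, fun hw => ?_⟩
  have := key s hs (-u) _ hw
  rw [← h.good.xG_inv] at this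
  simpa [xf, mul_assoc] using this

omit [CharP F 2] in
/-- A root element and the weight of a coordinate. -/
theorem x_entry {r j : ℕ} (hr : r < D.nroots) (hj : j < D.rank) (t : F) (a b : D.Idx) :
    (a = b → rootCo dat r j ≠ 0 → D.x F r t a b = 1) ∧
    (a ≠ b → D.x F r t a b ≠ 0 → ∃ k : ℕ, 1 ≤ k ∧ wCo D dat j a - wCo D dat j b = (k : ℤ) * rootCo dat r j) := by
  have hz : ∀ k ∈ [1, 2, 3], rmat D r k a b ≠ 0 → wCo D dat j a - wCo D dat j b = (k : ℤ) * rootCo dat r j := by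
    intro k hk hne
    have h' := Good.rmat_grade h.lie hr (StructChecks.graded_one h.lie h.struc hr hj) hk a b hne
    simp only at h'
    omega
  rw [h.good.x_eq_xr hr]
  simp only [xr, amat, Matrix.add_apply, Matrix.smul_apply, Matrix.map_apply, smul_eq_mul]
  refine ⟨?_, fun hab hne => ?_⟩
  · rintro rfl hw
    have h0 : ∀ k ∈ [1, 2, 3], rmat D r k a a = 0 := by
      intro k hk
      by_contra hne
      have h' := hz k hk hne
      rw [sub_self] at h'
      rcases mul_eq_zero.1 h'.symm with h'' | h''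
      · simp only [List.mem_cons, List.not_mem_nil, or_false] at hk
        rcases hk with rfl | rfl | rfl <;> simp at h''
      · exact hw h''
    simp [h0 1 (by simp), h0 2 (by simp), h0 3 (by simp)]
  · by_contra hno
    push Not at hno
    have h0 : ∀ k ∈ [1, 2, 3], rmat D r k a b = 0 := by
      intro k hk
      by_contra hne'
      refine hno k ?_ (hz k hk hne')
      simp only [List.mem_cons, List.not_mem_nil, or_false] at hk
      omega
    simp [Matrix.one_apply_ne hab, h0 1 (by simp), h0 2 (by simp), h0 3 (by simp)] at hne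

omit [CharP F 2] in
/-- The lower group meets the radical trivially. -/
theorem LK_inf_QK (hord : ∀ j ∈ ord, j < D.rank) {k : ℕ} (hk : k < ord.length) {v : GL D.Idx F}
    (h1 : v ∈ X (xf h.good F) (LK D dat ord (k + 1))) (h2 : v ∈ X (xf h.good F) (QK D dat ord k)) : v = 1 := by
  obtain ⟨j, hj⟩ : ∃ j, j = ord.getD k 0 := ⟨_, rfl⟩
  have hjr : j < D.rank := hj ▸ h.ord_lt hord hk
  obtain ⟨W, hW⟩ : ∃ W : D.Idx → ℤ, W = wCo D dat j := ⟨_, rfl⟩
  have keep : ∀ v ∈ X (xf h.good F) (LK D dat ord (k + 1)), ∀ a b,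
      (v : Matrix D.Idx D.Idx F) a b ≠ 0 → W a = W b := by
    intro v hv
    have gen : ∀ (r : ℕ) (t : F), r ∈ LK D dat ord (k + 1) → ∀ a b, D.x F r t a b ≠ 0 → W a = W b := by
      intro r t hr a b hne
      by_cases hab : a = b
      · rw [hab]
      · obtain ⟨m, -, e⟩ := (h.x_entry hr.1 hjr t a b).2 hab hne
        rw [hj, ((zeroK_succ hk).1 hr.2).2, mul_zero, ← hj] at e
        rw [hW]; omega
    induction hv using Subgroup.closure_induction'' with
    | mem y hy => obtain ⟨r, hr, t, rfl⟩ := hy; exact gen r t hr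
    | inv_mem y hy =>
      obtain ⟨r, hr, t, rfl⟩ := hy
      show ∀ a b, (((h.good.xG r t)⁻¹ : GL D.Idx F) : Matrix D.Idx D.Idx F) a b ≠ 0 → W a = W b
      rw [h.good.xG_inv]
      exact gen r (-t) hr
    | one => exact fun a b hne => by by_contra hab; exact hne (Matrix.one_apply_ne fun e => hab (e ▸ rfl))
    | mul y z _ _ py pz =>
      intro a b hne
      rw [Units.val_mul, Matrix.mul_apply] at hne
      obtain ⟨i, -, hi⟩ := Finset.exists_ne_zero_of_sum_ne_zero hne
      rw [py a i (left_ne_zero_of_mul hi), pz i b (right_ne_zero_of_mul hi)]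
  have raise : ∀ v ∈ X (xf h.good F) (QK D dat ord k), Above W 0 (v : Matrix D.Idx D.Idx F) := by
    intro v hv
    have gen : ∀ (r : ℕ) (t : F), r ∈ QK D dat ord k → Above W 0 (D.x F r t) := by
      intro r t hr a b
      have hc : 1 ≤ rootCo dat r j := hj ▸ hr.2.2.2
      obtain ⟨e1, e2⟩ := h.x_entry hr.1 hjr t a b
      refine ⟨fun e => e1 e (by omega), fun hab hne => ?_⟩
      obtain ⟨m, hm, e⟩ := e2 hab hne
      rw [hW, e]
      nlinarith [show (1 : ℤ) ≤ m from by exact_mod_cast hm]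
    induction hv using Subgroup.closure_induction'' with
    | mem y hy => obtain ⟨r, hr, t, rfl⟩ := hy; exact gen r t hr
    | inv_mem y hy =>
      obtain ⟨r, hr, t, rfl⟩ := hy
      show Above W 0 (((h.good.xG r t)⁻¹ : GL D.Idx F) : Matrix D.Idx D.Idx F)
      rw [h.good.xG_inv]
      exact gen r (-t) hr
    | one => exact above_one _ _
    | mul y z _ _ py pz => rw [Units.val_mul]; exact py.mul le_rfl pz
  refine Units.ext (Matrix.ext fun a b => ?_)
  by_cases hab : a = b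
  · subst hab
    rw [(raise v h2 a a).1 rfl]; simp
  · rw [Units.val_one, Matrix.one_apply_ne hab]
    by_contra hne
    have := (raise v h2 a b).2 hab hne
    rw [keep v h1 a b hne] at this
    omega

omit [CharP F 2] in
theorem prod_filter (p : ℕ → Bool) (f : ℕ → F) : ∀ l : List ℕ,
    ((l.filter p).map fun r => h.good.xG r (f r)).prod =
      (l.map fun r => h.good.xG r (if p r then f r else 0)).prod := by
  intro l
  induction l with
  | nil => rfl
  | cons a l ih => cases hp : p a <;> simp [hp, ih, h.good.xG_zero]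

/-- Splitting an involution of level `k`. -/
theorem level_split (hord : ∀ j ∈ ord, j < D.rank) {k : ℕ} (hk : k < ord.length) {u : GL D.Idx F}
    (hu : u ∈ X (xf h.good F) (MK D dat ord k)) (hu2 : u * u = 1) :
    ∃ v ∈ X (xf h.good F) (MK D dat ord (k + 1)), v * v = 1 ∧
      ∃ w ∈ X (xf h.good F) (QK D dat ord k), u = v * w := by
  have hle : X (xf h.good F) (MK D dat ord (k + 1)) ≤
      Subgroup.normalizer (X (xf h.good F) (QK D dat ord k) : Set (GL D.Idx F)) :=
    le_trans (X_mono (T := LK D dat ord (k + 1)) fun r hr => ⟨hr.1, hr.2.2⟩) (h.LK_normalizes hord hk)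
  have hsup : X (xf h.good F) (MK D dat ord k) ≤
      X (xf h.good F) (MK D dat ord (k + 1)) ⊔ X (xf h.good F) (QK D dat ord k) :=
    X_le fun r hr t => by
      have h0 := h.rootCo_nonneg hr.1 hr.2.1 (h.ord_lt hord hk)
      rcases eq_or_lt_of_le h0 with h1 | h1
      · exact Subgroup.mem_sup_left (mem_X (x := xf h.good F) (show r ∈ MK D dat ord (k + 1) from
          ⟨hr.1, hr.2.1, (zeroK_succ hk).2 ⟨hr.2.2, h1.symm⟩⟩) t)
      · exact Subgroup.mem_sup_right (mem_X (x := xf h.good F) (show r ∈ QK D dat ord k from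
          ⟨hr.1, hr.2.1, hr.2.2, h1⟩) t)
  have hu' := SetLike.mem_coe.2 (hsup hu)
  rw [Subgroup.coe_mul_of_left_le_normalizer_right _ _ hle] at hu'
  obtain ⟨v, hv, w, hw, huv⟩ := Set.mem_mul.1 hu'
  refine ⟨v, hv, ?_, w, hw, huv.symm⟩
  have hc : v⁻¹ * w * v ∈ X (xf h.good F) (QK D dat ord k) := by
    have := (Subgroup.mem_normalizer_iff.1 (hle (inv_mem hv)) w).1 hw
    simpa using this
  have hvv : v * v = ((v⁻¹ * w * v) * w)⁻¹ := by
    rw [eq_inv_iff_mul_eq_one, ← hu2, ← huv]; group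
  exact h.LK_inf_QK hord hk (mul_mem (X_sub hv fun r hr => ⟨hr.1, hr.2.2⟩) (X_sub hv fun r hr => ⟨hr.1, hr.2.2⟩))
    (hvv ▸ inv_mem (mul_mem hc hw))

omit [CharP F 2] in
theorem OrthProd_mono {S T : Set ℕ} (hST : S ⊆ T) {y : GL D.Idx F} (hy : OrthProd h.good S y) :
    OrthProd h.good T y := by
  obtain ⟨B, hB, hp, e⟩ := hy
  exact ⟨B, fun p hp => ⟨hST (hB p hp).1, (hB p hp).2⟩, hp, e⟩

/-- The axioms at an abelian level. -/
theorem rootAct (hord : ∀ j ∈ ord, j < D.rank) {k : ℕ} (hk : k < ord.length)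
    (hle1 : ∀ r ∈ MK D dat ord k, rootCo dat r (ord.getD k 0) ≤ 1) :
    ∃ Q L : List ℕ,
    (∀ r, r ∈ Q ↔ r ∈ QK D dat ord k) ∧ (∀ r, r ∈ L ↔ r ∈ LK D dat ord (k + 1)) ∧
    RootAct (xf h.good F) Q L (fun r s => pair D r s) (smR D) ∧
    ∀ r ∈ Q, ∀ r' ∈ Q, pair D r r' ≠ -1 := by
  have hn := h.good.nroots_eq
  obtain ⟨Q, hQ⟩ : ∃ Q : List ℕ, Q = (List.range' (half D) (D.nroots - half D)).filter fun r =>
      decide (∀ j ∈ ord.take k, rootCo dat r j = 0) && decide (1 ≤ rootCo dat r (ord.getD k 0)) := ⟨_, rfl⟩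
  obtain ⟨L, hL⟩ : ∃ L : List ℕ, L = (List.range D.nroots).filter fun r =>
      (ord.take (k + 1)).all fun j => Int.beq' (rootCo dat r j) 0 := ⟨_, rfl⟩
  have hQm : ∀ r, r ∈ Q ↔ r ∈ QK D dat ord k := fun r => by
    simp only [hQ, List.mem_filter, List.mem_range'_1, Bool.and_eq_true, decide_eq_true_eq, QK, ZeroK,
      Set.mem_setOf_eq]
    constructor
    · rintro ⟨⟨a, b⟩, c, d⟩; exact ⟨by omega, a, c, d⟩
    · rintro ⟨a, b, c, d⟩; exact ⟨⟨b, by omega⟩, c, d⟩
  have hLm : ∀ r, r ∈ L ↔ r ∈ LK D dat ord (k + 1) := fun r => by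
    simp [hL, LK, ZeroK, List.all_eq_true, Int.beq'_eq]
  have hj := h.ord_lt hord hk
  have hlt : ∀ r, r ∈ Q ++ L → r < D.nroots := fun r hr =>
    (List.mem_append.1 hr).elim (fun h' => ((hQm r).1 h').1) (fun h' => ((hLm r).1 h').1)
  have hQ1 : ∀ r ∈ Q, rootCo dat r (ord.getD k 0) = 1 := fun r hr => by
    obtain ⟨a, b, c, d⟩ := (hQm r).1 hr
    have := hle1 r ⟨a, b, c⟩; omega
  have hL0 : ∀ s ∈ L, rootCo dat s (ord.getD k 0) = 0 := fun s hs => ((zeroK_succ hk).1 ((hLm s).1 hs).2).2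
  have hLz : ∀ s ∈ L, ZeroK dat ord k s := fun s hs => ((zeroK_succ hk).1 ((hLm s).1 hs).2).1
  have hnegQ : ∀ r ∈ Q ++ L, ∀ s ∈ Q, s ≠ D.neg r := by
    intro r hr s hs e
    have h1 := hQ1 s hs
    rw [e, h.rootCo_neg (hlt r hr) hj] at h1
    rcases List.mem_append.1 hr with h' | h'
    · rw [hQ1 r h'] at h1; omega
    · rw [hL0 r h'] at h1; omega
  have hQQ : ∀ r ∈ Q, ∀ r' ∈ Q, pair D r r' ≠ -1 := by
    intro r hr r' hr' hp
    obtain ⟨a, b, c, d⟩ := (hQm r).1 hr
    obtain ⟨a', b', c', d'⟩ := (hQm r').1 hr'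
    obtain ⟨e1, e2, -⟩ := h.sum_facts a a' hp
    have h1 : rootCo dat (smR D r r') (ord.getD k 0) = 2 := by rw [e2 _ hj, hQ1 r hr, hQ1 r' hr']; norm_num
    have := hle1 _ ⟨e1, h.pos_of_coord e1 hj (by omega), h.zeroK_sum hord a a' hp c c'⟩
    omega
  refine ⟨Q, L, hQm, hLm, ?_, hQQ⟩
  refine
    { nodup := hQ ▸ List.Nodup.filter _ List.nodup_range'
      add := fun r s t => h.good.xG_add r s t
      self := fun r hr => h.pair_self (hlt r hr)
      disjQL := fun r hr hr' => by have := hQ1 r hr'; rw [hL0 r hr] at this; omega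
      symm := fun r hr s hs => h.pair_symm (hlt r hr) (hlt s hs)
      vals := fun r hr s hs hne => h.vals (hlt r hr) ((hQm s).1 hs).1 hne (hnegQ r hr s hs)
      commQ := fun r hr s hs t u => h.commute ((hQm r).1 hr).1 ((hQm s).1 hs).1 (hQQ r hr s hs)
        (hnegQ r (by simp [hr]) s hs) u t
      act0 := fun s hs r hr hp t u => h.commute ((hLm s).1 hs).1 ((hQm r).1 hr).1 hp
        (hnegQ s (by simp [hs]) r hr) t u
      commL := ?_
      sm_mem := fun s hs r hr hp => ?_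
      conj := fun s hs r hr hp t u => h.sum_conj ((hLm s).1 hs).1 ((hQm r).1 hr).1 hp t u
      lin := fun s hs r hr hp a ha => (h.sum_facts ((hLm s).1 hs).1 ((hQm r).1 hr).1 hp).2.2 a (hlt a ha)
      inj := fun s hs r hr r' hr' hp hp' e => ?_
      diffQ := fun b hb c hc hp => ?_
      diffL := fun a ha c hc hp => ?_
      indep := fun f hf r hr => ?_ }
  · intro s hs s' hs' hp t u
    have e : s' ≠ D.neg s := fun e => by
      subst e
      change pair D s (D.neg s) = 0 at hp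
      rw [h.pair_symm ((hLm s).1 hs).1 ((hLm _).1 hs').1, h.pair_neg_left ((hLm s).1 hs).1 ((hLm s).1 hs).1,
        h.pair_self ((hLm s).1 hs).1] at hp
      omega
    exact h.commute ((hLm s).1 hs).1 ((hLm s').1 hs').1 (by change pair D s s' = 0 at hp; omega) e t u
  · obtain ⟨e1, e2, -⟩ := h.sum_facts ((hLm s).1 hs).1 ((hQm r).1 hr).1 hp
    have hc : 1 ≤ rootCo dat (smR D s r) (ord.getD k 0) := by rw [e2 _ hj, hQ1 r hr, hL0 s hs]; norm_num
    exact (hQm _).2 ⟨e1, h.pos_of_coord e1 hj hc,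
      h.zeroK_sum hord ((hLm s).1 hs).1 ((hQm r).1 hr).1 hp (hLz s hs) ((hQm r).1 hr).2.2.1, hc⟩
  · obtain ⟨-, e2, -⟩ := h.sum_facts ((hLm s).1 hs).1 ((hQm r).1 hr).1 hp
    obtain ⟨-, e2', -⟩ := h.sum_facts ((hLm s).1 hs).1 ((hQm r').1 hr').1 hp'
    refine h.root_inj ((hQm r).1 hr).1 ((hQm r').1 hr').1 fun i hi => ?_
    have := e2 i hi; rw [e, e2' i hi] at this; omega
  · obtain ⟨ab, -, cb, -⟩ := (hQm b).1 hb
    obtain ⟨ac, -, cc, -⟩ := (hQm c).1 hc
    change pair D b c = 1 at hp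
    have hnb := h.good.neg_lt ab
    have hp' : pair D (D.neg b) c = -1 := by rw [h.pair_neg_left ab ac, hp]
    obtain ⟨e1, e2, e3⟩ := h.sum_facts hnb ac hp'
    have hsL : smR D (D.neg b) c ∈ L := (hLm _).2 ⟨e1, (zeroK_succ hk).2
      ⟨h.zeroK_sum hord hnb ac hp' (h.zeroK_neg hord ab cb) cc,
        by rw [e2 _ hj, h.rootCo_neg ab hj, hQ1 b hb, hQ1 c hc]; norm_num⟩⟩
    have hsb : pair D (smR D (D.neg b) c) b = -1 := by
      rw [h.pair_symm e1 ab, e3 b ab, hp, h.pair_symm ab hnb, h.pair_neg_left ab ab, h.pair_self ab]; norm_num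
    obtain ⟨d1, d2, -⟩ := h.sum_facts e1 ab hsb
    refine ⟨_, hsL, hsb, h.root_inj d1 ac fun i hi => ?_⟩
    rw [d2 i hi, e2 i hi, h.rootCo_neg ab hi]; ring
  · have haa := ((hLm a).1 ha).1
    obtain ⟨ac, -, cc, -⟩ := (hQm c).1 hc
    change pair D a c = 1 at hp
    have hna := h.good.neg_lt haa
    have hp' : pair D (D.neg a) c = -1 := by rw [h.pair_neg_left haa ac, hp]
    obtain ⟨e1, e2, e3⟩ := h.sum_facts hna ac hp'
    have hco : 1 ≤ rootCo dat (smR D (D.neg a) c) (ord.getD k 0) := by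
      rw [e2 _ hj, h.rootCo_neg haa hj, hL0 a ha, hQ1 c hc]; norm_num
    have hdQ := (hQm _).2 ⟨e1, h.pos_of_coord e1 hj hco,
      h.zeroK_sum hord hna ac hp' (h.zeroK_neg hord haa (hLz a ha)) cc, hco⟩
    have had : pair D a (smR D (D.neg a) c) = -1 := by
      rw [e3 a haa, hp, h.pair_symm haa hna, h.pair_neg_left haa haa, h.pair_self haa]; norm_num
    obtain ⟨d1, d2, -⟩ := h.sum_facts haa e1 had
    refine ⟨_, hdQ, had, h.root_inj d1 ac fun i hi => ?_⟩
    rw [d2 i hi, e2 i hi, h.rootCo_neg haa hi]; ring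
  · rw [ev, hQ] at hf
    simp only [xf] at hf
    rw [h.prod_filter] at hf
    have h0 : (List.map (fun r => h.good.xG r (0 : F)) (List.range' (half D) (D.nroots - half D))).prod = 1 := by
      simp [h.good.xG_zero]
    have hr' := (hQm r).1 hr
    have := h.good.xProd_inj le_rfl (s := fun s => if (decide (∀ j ∈ ord.take k, rootCo dat s j = 0) &&
      decide (1 ≤ rootCo dat s (ord.getD k 0))) then f s else 0) (t := fun _ => 0) (hf.trans h0.symm) hr'.2.1 hr'.1
    simp only [show decide (∀ j ∈ ord.take k, rootCo dat r j = 0) = true from decide_eq_true hr'.2.2.1,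
      decide_eq_true hr'.2.2.2, Bool.and_self, if_true] at this
    exact this

/-- The step at an abelian level. -/
theorem level_step (hord : ∀ j ∈ ord, j < D.rank) {k : ℕ} (hk : k < ord.length)
    (hle1 : ∀ r ∈ MK D dat ord k, rootCo dat r (ord.getD k 0) ≤ 1)
    (ih : ∀ v ∈ X (xf h.good F) (MK D dat ord (k + 1)), v * v = 1 →
      ∃ z ∈ X (xf h.good F) (LK D dat ord (k + 1)), OrthProd h.good (MK D dat ord (k + 1)) (z * v * z⁻¹))
    {u : GL D.Idx F} (hu : u ∈ X (xf h.good F) (MK D dat ord k)) (hu2 : u * u = 1) :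
    ∃ z ∈ X (xf h.good F) (LK D dat ord k), OrthProd h.good (MK D dat ord k) (z * u * z⁻¹) := by
  obtain ⟨v, hv, hv2, w, hw, rfl⟩ := h.level_split hord hk hu hu2
  obtain ⟨z, hz, A, hA, hAp, hzA⟩ := ih v hv hv2
  obtain ⟨Q, L, hQm, hLm, R, hQQ⟩ := h.rootAct (F := F) hord hk hle1
  have hQeq : QK D dat ord k = SP (fun r s => pair D r s) Q [] :=
    Set.ext fun r => ⟨fun hr => ⟨(hQm r).2 hr, by simp⟩, fun hr => (hQm r).1 hr.1⟩
  have hw1 : z * w * z⁻¹ ∈ X (xf h.good F) (QK D dat ord k) :=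
    (Subgroup.mem_normalizer_iff.1 (h.LK_normalizes hord hk hz) w).1 hw
  have hA' : ∀ p ∈ A, p.1 ∈ L ∧ p.2 ≠ 0 := fun p hp =>
    ⟨(hLm p.1).2 ⟨(hA p hp).1.1, (hA p hp).1.2.2⟩, (hA p hp).2⟩
  have e1 : z * (v * w) * z⁻¹ = vA (xf h.good F) A * (z * w * z⁻¹) := by
    rw [show z * (v * w) * z⁻¹ = (z * v * z⁻¹) * (z * w * z⁻¹) by group, hzA]; rfl
  have hinv : vA (xf h.good F) A * (z * w * z⁻¹) * (vA (xf h.good F) A * (z * w * z⁻¹)) = 1 := by
    rw [← e1, show z * (v * w) * z⁻¹ * (z * (v * w) * z⁻¹) = z * (v * w * (v * w)) * z⁻¹ by group, hu2]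
    group
  rw [hQeq] at hw1
  obtain ⟨z2, hz2, w2, hw2, e2⟩ := R.clear A [] hA' (by simp) hAp (by simp) _ hw1 hinv
  rw [List.append_nil] at hw2
  have hPm : ∀ p ∈ A.map Prod.fst, p ∈ Q ++ L := fun p hp => by
    obtain ⟨q, hq, rfl⟩ := List.mem_map.1 hp
    exact List.mem_append.2 (Or.inr (hA' q hq).1)
  obtain ⟨z3, hz3, B, hB, hBp, e3⟩ := R.reduce (A.map Prod.fst) hPm
    (fun r hr r' hr' => hQQ r hr.1 r' hr'.1) w2 hw2
  have hlift : ∀ {r}, r ∈ LK D dat ord (k + 1) → r ∈ LK D dat ord k := fun {r} hr =>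
    ⟨hr.1, ((zeroK_succ hk).1 hr.2).1⟩
  refine ⟨z3 * z2 * z, mul_mem (mul_mem (X_sub hz3 fun r hr => hlift ((hLm r).1 hr.1))
    (X_sub hz2 fun r hr => ⟨((hQm r).1 hr.1).1, ((hQm r).1 hr.1).2.2.1⟩)) (X_sub hz fun r hr => hlift hr),
    A ++ B, ?_, List.pairwise_append.2 ⟨hAp, hBp, fun p hp q hq => (hB q hq).1.2 p.1 (List.mem_map.2 ⟨p, hp, rfl⟩)⟩, ?_⟩
  · intro p hp
    rcases List.mem_append.1 hp with hp | hp
    · exact ⟨⟨(hA p hp).1.1, (hA p hp).1.2.1, ((zeroK_succ hk).1 (hA p hp).1.2.2).1⟩, (hA p hp).2⟩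
    · obtain ⟨a, b, c, -⟩ := (hQm p.1).1 (hB p hp).1.1
      exact ⟨⟨a, b, c⟩, (hB p hp).2⟩
  · have hcA : Commute (vA (xf h.good F) A) z3 := by
      refine Commute.list_prod_left _ _ fun y hy => ?_
      obtain ⟨p, hp, rfl⟩ := List.mem_map.1 hy
      exact R.HP_commute (List.mem_map.2 ⟨p, hp, rfl⟩) (hPm _ (List.mem_map.2 ⟨p, hp, rfl⟩)) _ hz3
    show z3 * z2 * z * (v * w) * (z3 * z2 * z)⁻¹ = vA (xf h.good F) (A ++ B)
    rw [vA_append, ← e3]
    calc z3 * z2 * z * (v * w) * (z3 * z2 * z)⁻¹ = z3 * (z2 * (z * (v * w) * z⁻¹) * z2⁻¹) * z3⁻¹ := by group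
      _ = (z3 * vA (xf h.good F) A) * w2 * z3⁻¹ := by rw [e1, e2]; group
      _ = _ := by rw [← hcA.eq]; group

/-- The last level is trivial. -/
theorem level_top (hall : ∀ r ∈ MK D dat ord ord.length, False) {u : GL D.Idx F}
    (hu : u ∈ X (xf h.good F) (MK D dat ord ord.length)) :
    ∃ z ∈ X (xf h.good F) (LK D dat ord ord.length), OrthProd h.good (MK D dat ord ord.length) (z * u * z⁻¹) := by
  have hb : X (xf h.good F) (MK D dat ord ord.length) ≤ ⊥ := X_le fun r hr => (hall r hr).elim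
  refine ⟨1, one_mem _, [], by simp, List.Pairwise.nil, ?_⟩
  rw [Subgroup.mem_bot.1 (hb hu)]
  simp [vA]

/-- All levels from `k0` on are abelian. -/
theorem levels (hord : ∀ j ∈ ord, j < D.rank) (hall : ∀ r ∈ MK D dat ord ord.length, False) {k0 : ℕ}
    (hle1 : ∀ k, k0 ≤ k → k < ord.length → ∀ r ∈ MK D dat ord k, rootCo dat r (ord.getD k 0) ≤ 1) :
    ∀ n k, k0 ≤ k → k + n = ord.length → ∀ u ∈ X (xf h.good F) (MK D dat ord k), u * u = 1 →
      ∃ z ∈ X (xf h.good F) (LK D dat ord k), OrthProd h.good (MK D dat ord k) (z * u * z⁻¹) := by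
  intro n
  induction n with
  | zero => intro k _ e u hu _; obtain rfl : k = ord.length := by omega
            exact h.level_top hall hu
  | succ n ih =>
    intro k hk0 e u hu hu2
    exact h.level_step hord (by omega) (hle1 k hk0 (by omega)) (ih (k + 1) (by omega) (by omega)) hu hu2

end SLFacts

end CfsgLib.Chev.SLInvol
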