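import Mathlib
import Cfsg.Agent.Lib.Chev.SLInvolUni
import Cfsg.Agent.Lib.Chev.WeylJ
import Cfsg.Agent.Lib.Chev.TorusH
import Cfsg.Agent.Lib.Chev.BNChev
import Cfsg.Agent.Lib.KnownA.Chev.Basic

/-!
Involutions of a simply laced Chevalley group in characteristic two: normalising the coefficients, and a
certificate reducing products over sets of pairwise orthogonal roots to representatives.
-/

set_option autoImplicit false

namespace CfsgLib.Chev.SLInvol

open Cfsg.Lie CfsgLib.Chev.InvolMono

variable {D : ChevalleyDatum} {dat : LieData} {sd : StructData}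

/-- The image of a root under a word in the fundamental reflections. -/
noncomputable def imgW (sd : StructData) (w : List ℕ) (r : ℕ) : ℕ :=
  List.rec r (fun i _ ih => refl sd i ih) w

/-- Collection: put `x_r(1)` into its place in an increasing product. -/
noncomputable def insR (D : ChevalleyDatum) : ℕ → ℕ → List ℕ → Option (List ℕ)
  | 0, _, _ => none
  | _ + 1, r, [] => some [r]
  | f + 1, r, a :: l =>
    if r = a then some l
    else if r < a then some (r :: a :: l)
    else if r = fneg D a then none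
    else if fpair D a r = -1 then
      (insR D f (smR D a r) l).bind fun l' => (insR D f r l').map fun o => a :: o
    else (insR D f r l).map fun o => a :: o

/-- The normal form of a product of root elements with coefficient one. -/
noncomputable def normR (D : ChevalleyDatum) : List ℕ → Option (List ℕ)
  | [] => some []
  | r :: l => (normR D l).bind fun l' => insR D 64 r l'

/-- Conjugation by `x_s(1)`. -/
noncomputable def stepR (D : ChevalleyDatum) (s : ℕ) : List ℕ → Option (List ℕ)
  | [] => some []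
  | r :: l => if r = fneg D s then none else (stepR D s l).map fun o =>
      if fpair D s r = -1 then r :: smR D s r :: o else r :: o

/-- Conjugations by root elements, then a word in the fundamental reflections, then normal form. -/
noncomputable def moveR (D : ChevalleyDatum) (sd : StructData) (ss : List ℕ) (w : List ℕ) (l : List ℕ) :
    Option (List ℕ) :=
  (List.rec (some l) (fun s _ ih => ih.bind fun o =>
      if s < D.nroots then (stepR D s o).bind (normR D) else none) ss : Option (List ℕ)).bind fun o =>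
    if w.all fun i => decide (i < D.rank) then normR D (o.map (imgW sd w)) else none

/-- A sequence of moves. -/
noncomputable def movesR (D : ChevalleyDatum) (sd : StructData) (ms : List (List ℕ × List ℕ)) (l : List ℕ) :
    Option (List ℕ) :=
  List.rec (normR D l) (fun m _ ih => ih.bind (moveR D sd m.1 m.2)) ms

/-- The product of root elements with coefficient one. -/
noncomputable def prodOne (g : Good D) (F : Type*) [Field F] (l : List ℕ) : GL D.Idx F :=
  (l.map fun r => g.xG r (1 : F)).prod

/-- The transition table is correct. -/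
noncomputable def transOK (D : ChevalleyDatum) (sd : StructData) (N : List (List ℕ))
    (T : List (List (ℕ × List ℕ × ℕ))) (i : ℕ) : Bool :=
  allR (fun r => !((N.getD i []).all fun a => Int.beq' (fpair D a r) 0) ||
    anyR (fun e => Nat.beq e.1 r && (e.2.1.all fun k => Nat.blt k D.rank) &&
      Nat.blt e.2.2 N.length && ((N.getD i []).all fun a => Nat.beq (imgW sd e.2.1 a) a) &&
      (imgW sd e.2.1 r :: N.getD i []).isPerm (N.getD e.2.2 [])) (T.getD i [])) (upto D.nroots)

/-- A node reduces to one of the representatives. -/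
noncomputable def termOK (D : ChevalleyDatum) (sd : StructData) (N : List (List ℕ)) (reps : List (List ℕ))
    (M : List (List (List ℕ × List ℕ) × ℕ)) (i : ℕ) : Bool :=
  let m := M.getD i ([], 0)
  let n := N.getD i []
  (n.all fun a => Nat.blt a D.nroots) &&
  match movesR D sd m.1 n, normR D (reps.getD m.2 []) with
  | some a, some b => a == b && ((i == 0 && n == []) ||
      (Nat.blt m.2 reps.length && (reps.getD m.2 []).all fun a => Nat.blt a D.nroots))
  | _, _ => false

namespace SLFacts

variable (h : SLFacts D dat sd) {F : Type*} [Field F] [CharP F 2]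
include h

omit [CharP F 2] in
theorem imgW_eq (w : List (Fin D.rank)) (r : Fin D.nroots) :
    (h.good.wperm w r).val = imgW sd (w.map Fin.val) r := by
  induction w with
  | nil => rfl
  | cons i w ih =>
    rw [h.good.wperm_cons, Equiv.Perm.mul_apply, h.good.rperm_tab h.lie h.struc, ih]
    rfl

omit [CharP F 2] in
theorem imgW_lt {w : List ℕ} (hw : ∀ i ∈ w, i < D.rank) {r : ℕ} (hr : r < D.nroots) :
    imgW sd w r < D.nroots := by
  obtain ⟨w', rfl⟩ : ∃ w' : List (Fin D.rank), w'.map Fin.val = w :=
    ⟨w.pmap (fun i hi => ⟨i, hi⟩) hw, by simp [List.map_pmap]⟩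
  rw [← h.imgW_eq w' ⟨r, hr⟩]; exact Fin.isLt _

/-- A word moves a product with coefficient one. -/
theorem word_conj (w : List (Fin D.rank)) {l : List ℕ} (hl : ∀ r ∈ l, r < D.nroots) :
    GConj (prodOne h.good F l) (prodOne h.good F (l.map (imgW sd (w.map Fin.val)))) := by
  refine ⟨h.good.wordN w, h.good.monomial_le_group (h.good.wordN_mem w), ?_⟩
  have key : ∀ r ∈ l, MulAut.conj (h.good.wordN w : GL D.Idx F) (h.good.xG r 1) =
      h.good.xG (imgW sd (w.map Fin.val) r) 1 := by
    intro r hr
    obtain ⟨η, hη, e, -⟩ := sgn_wordN (F := F) h.good w ⟨r, hl r hr⟩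
    have h1 : (η : F) = 1 := by
      have h2 : (η : F) * η = 1 := by rw [← Units.val_mul, hη, Units.val_one]
      have h3 : ((η : F) - 1) * ((η : F) - 1) = 0 := by
        have h4 : (2 : F) = 0 := CharTwo.two_eq_zero
        linear_combination h2 + (1 - (η : F)) * h4
      exact sub_eq_zero.1 (mul_self_eq_zero.1 h3)
    rw [MulAut.conj_apply, e, h.imgW_eq, h1, one_mul]
  show MulAut.conj (h.good.wordN w : GL D.Idx F) (prodOne h.good F l) = _
  rw [prodOne, map_list_prod, prodOne, List.map_map, List.map_map]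
  exact congrArg List.prod (List.map_congr_left fun r hr => key r hr)

theorem insR_sound : ∀ (f r : ℕ) (l o : List ℕ), r < D.nroots → (∀ a ∈ l, a < D.nroots) →
    insR D f r l = some o →
    (∀ a ∈ o, a < D.nroots) ∧ prodOne h.good F o = h.good.xG r 1 * prodOne h.good F l := by
  intro f
  induction f with
  | zero => intro r l o _ _ e; simp [insR] at e
  | succ f ih =>
    intro r l o hr hl e
    cases l with
    | nil =>
      simp only [insR, Option.some.injEq] at e
      subst e
      exact ⟨by simpa using hr, by simp [prodOne]⟩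
    | cons a l =>
      have ha : a < D.nroots := hl a (by simp)
      have hl' : ∀ b ∈ l, b < D.nroots := fun b hb => hl b (by simp [hb])
      have hcons : ∀ b l, prodOne h.good F (b :: l) = h.good.xG b 1 * prodOne h.good F l := fun b l => by
        simp [prodOne]
      simp only [insR] at e
      split at e
      · next hra =>
        simp only [Option.some.injEq] at e
        subst e hra
        exact ⟨hl', by rw [hcons, ← mul_assoc, h.good.xG_add, CharTwo.add_self_eq_zero, h.good.xG_zero, one_mul]⟩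
      split at e
      · simp only [Option.some.injEq] at e
        subst e
        exact ⟨fun b hb => (List.mem_cons.1 hb).elim (fun e => e ▸ hr) (hl b), hcons _ _⟩
      split at e
      · simp at e
      next hne hlt hneg =>
      have hneg' : r ≠ D.neg a := by
        rw [h.good.neg_rev ha]; exact hneg
      rw [h.good.fpair_eq a hr] at e
      split at e
      · next hp =>
        simp only [Option.bind_eq_some_iff, Option.map_eq_some_iff] at e
        obtain ⟨l', e1, o', e2, rfl⟩ := e
        obtain ⟨hk, -⟩ := h.sum_facts ha hr hp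
        obtain ⟨hl1, p1⟩ := ih _ _ _ hk hl' e1
        obtain ⟨hl2, p2⟩ := ih _ _ _ hr hl1 e2
        refine ⟨fun b hb => (List.mem_cons.1 hb).elim (fun e => e ▸ ha) (hl2 b), ?_⟩
        rw [hcons, hcons, p2, p1]
        have e3 := h.sum_conj (F := F) ha hr hp 1 1
        rw [one_mul] at e3
        have e4 : h.good.xG a (1 : F) * h.good.xG r 1 = h.good.xG r 1 * h.good.xG (smR D a r) 1 * h.good.xG a 1 := by
          rw [← e3]; group
        have hpk : pair D a (smR D a r) ≠ -1 := by
          rw [(h.sum_facts ha hr hp).2.2 a ha, hp, h.pair_self ha]; norm_num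
        have hnk : smR D a r ≠ D.neg a := fun e => by
          have := (h.sum_facts ha hr hp).2.2 a ha
          rw [e, h.pair_symm ha (h.good.neg_lt ha), h.pair_neg_left ha ha, h.pair_self ha, hp] at this
          omega
        have hc := (h.commute (F := F) ha hk hpk hnk 1 1).eq
        rw [← mul_assoc, e4, mul_assoc, ← mul_assoc (h.good.xG a (1 : F)), hc, mul_assoc (h.good.xG r (1 : F)),
          mul_assoc (h.good.xG (smR D a r) (1 : F)), ← mul_assoc (h.good.xG (smR D a r) (1 : F)),
          h.good.xG_add, CharTwo.add_self_eq_zero, h.good.xG_zero, one_mul]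
      · next hp =>
        simp only [Option.map_eq_some_iff] at e
        obtain ⟨o', e2, rfl⟩ := e
        obtain ⟨hl2, p2⟩ := ih _ _ _ hr hl' e2
        refine ⟨fun b hb => (List.mem_cons.1 hb).elim (fun e => e ▸ ha) (hl2 b), ?_⟩
        rw [hcons, hcons, p2, ← mul_assoc, (h.commute (F := F) ha hr hp hneg' 1 1).eq, mul_assoc]

theorem normR_sound : ∀ (l o : List ℕ), (∀ a ∈ l, a < D.nroots) → normR D l = some o →
    (∀ a ∈ o, a < D.nroots) ∧ prodOne h.good F o = prodOne h.good F l := by
  intro l
  induction l with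
  | nil =>
    intro o _ e
    simp only [normR, Option.some.injEq] at e
    subst e; exact ⟨by simp, rfl⟩
  | cons r l ih =>
    intro o hl e
    simp only [normR, Option.bind_eq_some_iff] at e
    obtain ⟨l', e1, e2⟩ := e
    obtain ⟨h1, p1⟩ := ih l' (fun b hb => hl b (by simp [hb])) e1
    obtain ⟨h2, p2⟩ := h.insR_sound (F := F) _ _ _ _ (hl r (by simp)) h1 e2
    exact ⟨h2, by rw [p2, p1]; simp [prodOne]⟩

theorem stepR_sound {s : ℕ} (hs : s < D.nroots) : ∀ (l o : List ℕ), (∀ a ∈ l, a < D.nroots) →
    stepR D s l = some o → (∀ a ∈ o, a < D.nroots) ∧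
      prodOne h.good F o = h.good.xG s 1 * prodOne h.good F l * (h.good.xG s (1 : F))⁻¹ := by
  intro l
  induction l with
  | nil =>
    intro o _ e
    simp only [stepR, Option.some.injEq] at e
    subst e; exact ⟨by simp, by simp [prodOne]⟩
  | cons r l ih =>
    intro o hl e
    simp only [stepR] at e
    split at e
    · simp at e
    next hneg =>
    have hr : r < D.nroots := hl r (by simp)
    simp only [Option.map_eq_some_iff] at e
    obtain ⟨o', e1, rfl⟩ := e
    obtain ⟨h1, p1⟩ := ih o' (fun b hb => hl b (by simp [hb])) e1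
    have hcons : ∀ b l, prodOne h.good F (b :: l) = h.good.xG b 1 * prodOne h.good F l := fun b l => by
      simp [prodOne]
    rw [h.good.fpair_eq s hr]
    have e0 : h.good.xG s 1 * (h.good.xG r 1 * prodOne h.good F l) * (h.good.xG s (1 : F))⁻¹ =
        (h.good.xG s 1 * h.good.xG r 1 * (h.good.xG s (1 : F))⁻¹) *
          (h.good.xG s 1 * prodOne h.good F l * (h.good.xG s (1 : F))⁻¹) := by group
    by_cases hp : pair D s r = -1
    · rw [if_pos hp]
      refine ⟨fun b hb => ?_, ?_⟩
      · simp only [List.mem_cons] at hb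
        rcases hb with rfl | rfl | hb
        · exact hr
        · exact (h.sum_facts hs hr hp).1
        · exact h1 b hb
      · rw [hcons, hcons, hcons, e0, h.sum_conj hs hr hp, one_mul, p1]; group
    · rw [if_neg hp]
      refine ⟨fun b hb => (List.mem_cons.1 hb).elim (fun e => e ▸ hr) (h1 b), ?_⟩
      have hneg' : r ≠ D.neg s := by rw [h.good.neg_rev hs]; exact hneg
      rw [hcons, hcons, e0, (h.commute (F := F) hs hr hp hneg' 1 1).eq, mul_inv_cancel_right, p1]

theorem moveR_sound (ss w : List ℕ) (l o : List ℕ) (hl : ∀ a ∈ l, a < D.nroots)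
    (e : moveR D sd ss w l = some o) :
    (∀ a ∈ o, a < D.nroots) ∧ GConj (prodOne h.good F l) (prodOne h.good F o) := by
  simp only [moveR, Option.bind_eq_some_iff] at e
  obtain ⟨o1, e1, e2⟩ := e
  have key : ∀ ss : List ℕ, ∀ o1, (List.rec (some l) (fun s _ ih => ih.bind fun o =>
      if s < D.nroots then (stepR D s o).bind (normR D) else none) ss : Option (List ℕ)) = some o1 →
      (∀ a ∈ o1, a < D.nroots) ∧ GConj (prodOne h.good F l) (prodOne h.good F o1) := by
    intro ss
    induction ss with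
    | nil => intro o1 e; simp only [Option.some.injEq] at e; subst e; exact ⟨hl, GConj.refl _⟩
    | cons s ss ih =>
      intro o1 e
      simp only [Option.bind_eq_some_iff] at e
      obtain ⟨o2, e1, e2⟩ := e
      split at e2
      swap
      · simp at e2
      next hs =>
      simp only [Option.bind_eq_some_iff] at e2
      obtain ⟨o3, e3, e4⟩ := e2
      obtain ⟨h2, c2⟩ := ih o2 e1
      obtain ⟨h3, p3⟩ := h.stepR_sound (F := F) hs _ _ h2 e3
      obtain ⟨h4, p4⟩ := h.normR_sound (F := F) _ _ h3 e4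
      exact ⟨h4, c2.trans ⟨_, h.good.xG_mem_group hs 1, (p4.trans p3).symm⟩⟩
  obtain ⟨h1, c1⟩ := key ss o1 e1
  split at e2
  swap
  · simp at e2
  next hw =>
  simp only [List.all_eq_true, decide_eq_true_eq] at hw
  obtain ⟨w', rfl⟩ : ∃ w' : List (Fin D.rank), w'.map Fin.val = w :=
    ⟨w.pmap (fun i hi => ⟨i, hi⟩) hw, by simp [List.map_pmap]⟩
  have hmap : ∀ a ∈ o1.map (imgW sd (w'.map Fin.val)), a < D.nroots := by
    intro a ha
    obtain ⟨r, hr, rfl⟩ := List.mem_map.1 ha
    exact h.imgW_lt hw (h1 r hr)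
  obtain ⟨h5, p5⟩ := h.normR_sound (F := F) _ _ hmap e2
  exact ⟨h5, c1.trans (p5 ▸ h.word_conj w' h1)⟩

theorem movesR_sound : ∀ (ms : List (List ℕ × List ℕ)) (l o : List ℕ), (∀ a ∈ l, a < D.nroots) →
    movesR D sd ms l = some o →
    (∀ a ∈ o, a < D.nroots) ∧ GConj (prodOne h.good F l) (prodOne h.good F o) := by
  intro ms
  induction ms with
  | nil =>
    intro l o hl e
    obtain ⟨h1, p1⟩ := h.normR_sound (F := F) l o hl e
    exact ⟨h1, p1 ▸ GConj.refl _⟩
  | cons m ms ih =>
    intro l o hl e
    simp only [movesR, Option.bind_eq_some_iff] at e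
    obtain ⟨o', e1, e2⟩ := e
    obtain ⟨h1, c1⟩ := ih l o' hl e1
    obtain ⟨h2, c2⟩ := h.moveR_sound (F := F) _ _ _ _ h1 e2
    exact ⟨h2, c1.trans c2⟩

theorem prodOne_perm {l l' : List ℕ} (hl : ∀ r ∈ l, r < D.nroots)
    (hp : l.Pairwise fun a b => pair D a b = 0) (hperm : l.Perm l') :
    prodOne h.good F l = prodOne h.good F l' := by
  refine (hperm.map _).prod_eq' ?_
  rw [List.pairwise_map]
  exact hp.imp_of_mem fun {a b} ha hb hab => h.commute (hl a ha) (hl b hb) (by omega) (fun e => by
    subst e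
    rw [h.pair_symm (hl a ha) (h.good.neg_lt (hl a ha)), h.pair_neg_left (hl a ha) (hl a ha),
      h.pair_self (hl a ha)] at hab
    omega) 1 1

omit [CharP F 2] in
/-- Every set of pairwise orthogonal roots is moved onto a node. -/
theorem orth_node (N : List (List ℕ)) (T : List (List (ℕ × List ℕ × ℕ))) (hN : N.getD 0 [] = []) (hN0 : 0 < N.length)
    (hT : ∀ i < N.length, transOK D sd N T i = true) :
    ∀ B : List ℕ, (∀ r ∈ B, r < D.nroots) → B.Pairwise (fun a b => pair D a b = 0) →
      ∃ w : List (Fin D.rank), ∃ i < N.length, (B.map (imgW sd (w.map Fin.val))).Perm (N.getD i []) := by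
  intro B
  induction B with
  | nil => intro _ _; exact ⟨[], 0, hN0, by rw [hN]; simp⟩
  | cons b B ih =>
    intro hB hp
    rw [List.pairwise_cons] at hp
    have hbn : b < D.nroots := hB b (by simp)
    obtain ⟨w, i, hi, hperm⟩ := ih (fun r hr => hB r (by simp [hr])) hp.2
    obtain ⟨b', hb'⟩ : ∃ b', b' = imgW sd (w.map Fin.val) b := ⟨_, rfl⟩
    have hb'n : b' < D.nroots := by rw [hb', ← h.imgW_eq w ⟨b, hbn⟩]; exact Fin.isLt _
    have hmemN : ∀ a ∈ N.getD i [], pair D a b' = 0 ∧ a < D.nroots := by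
      intro a ha
      obtain ⟨c, hc, rfl⟩ := List.mem_map.1 (hperm.mem_iff.2 ha)
      have hcn : c < D.nroots := hB c (by simp [hc])
      rw [hb', ← h.imgW_eq w ⟨b, hbn⟩, ← h.imgW_eq w ⟨c, hcn⟩, h.good.pair_wperm]
      refine ⟨?_, Fin.isLt _⟩
      rw [h.pair_symm hcn hbn]; exact hp.1 c hc
    have ht := allR_upto (hT i hi) hb'n
    rw [Bool.or_eq_true] at ht
    rcases ht with ht | ht
    · exfalso
      rw [Bool.not_eq_true', ← Bool.not_eq_true, List.all_eq_true] at ht
      exact ht fun a ha => by rw [Int.beq'_eq, h.good.fpair_eq a hb'n]; exact (hmemN a ha).1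
    rw [anyR_eq, List.any_eq_true] at ht
    obtain ⟨⟨r, wd, j⟩, -, ht⟩ := ht
    simp only [Bool.and_eq_true, Nat.beq_eq, List.all_eq_true, Nat.blt, Nat.ble_eq, List.isPerm_iff] at ht
    obtain ⟨⟨⟨⟨hr, hwd⟩, hj⟩, hfix⟩, hpj⟩ := ht
    subst hr
    obtain ⟨wd', rfl⟩ : ∃ w' : List (Fin D.rank), w'.map Fin.val = wd :=
      ⟨wd.pmap (fun k hk => ⟨k, hk⟩) fun k hk => hwd k hk, by simp [List.map_pmap]⟩
    refine ⟨wd' ++ w, j, hj, ?_⟩
    have himg : ∀ x, imgW sd ((wd' ++ w).map Fin.val) x = imgW sd (wd'.map Fin.val) (imgW sd (w.map Fin.val) x) := by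
      intro x
      rw [List.map_append]
      generalize wd'.map Fin.val = u
      induction u with
      | nil => rfl
      | cons c u ihu => exact congrArg (refl sd c) ihu
    refine List.Perm.trans ?_ hpj
    rw [List.map_cons, himg, ← hb', show B.map (imgW sd ((wd' ++ w).map Fin.val)) =
      (B.map (imgW sd (w.map Fin.val))).map (imgW sd (wd'.map Fin.val)) by
        rw [List.map_map]; exact List.map_congr_left fun x _ => himg x]
    refine List.Perm.cons _ ((hperm.map _).trans ?_)
    rw [List.map_congr_left fun a ha => hfix a ha, List.map_id']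

/-- Every product over pairwise orthogonal roots is conjugate to a representative, or trivial. -/
theorem orth_rep (N : List (List ℕ)) (T : List (List (ℕ × List ℕ × ℕ))) (reps : List (List ℕ))
    (M : List (List (List ℕ × List ℕ) × ℕ)) (hN : N.getD 0 [] = []) (hN0 : 0 < N.length)
    (hT : ∀ i < N.length, transOK D sd N T i = true) (hM : ∀ i < N.length, termOK D sd N reps M i = true)
    {B : List ℕ} (hB : ∀ r ∈ B, r < D.nroots) (hp : B.Pairwise fun a b => pair D a b = 0) :
    prodOne h.good F B = 1 ∨ ∃ R ∈ reps, GConj (prodOne h.good F B) (prodOne h.good F R) := by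
  obtain ⟨w, i, hi, hperm⟩ := h.orth_node N T hN hN0 hT B hB hp
  have hlt : ∀ r ∈ B.map (imgW sd (w.map Fin.val)), r < D.nroots := by
    intro r hr
    obtain ⟨c, hc, rfl⟩ := List.mem_map.1 hr
    rw [← h.imgW_eq w ⟨c, hB c hc⟩]; exact Fin.isLt _
  have hpw : (B.map (imgW sd (w.map Fin.val))).Pairwise fun a b => pair D a b = 0 := by
    rw [List.pairwise_map]
    exact hp.imp_of_mem fun {a b} ha hb hab => by
      rw [← h.imgW_eq w ⟨a, hB a ha⟩, ← h.imgW_eq w ⟨b, hB b hb⟩, h.good.pair_wperm]; exact hab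
  have c1 : GConj (prodOne h.good F B) (prodOne h.good F (N.getD i [])) :=
    h.prodOne_perm (F := F) hlt hpw hperm ▸ h.word_conj w hB
  have hterm := hM i hi
  simp only [termOK, Bool.and_eq_true, List.all_eq_true, Nat.blt, Nat.ble_eq] at hterm
  obtain ⟨hn, hterm⟩ := hterm
  split at hterm
  swap
  · simp at hterm
  next a b ea eb =>
  simp only [Bool.and_eq_true, Bool.or_eq_true, beq_iff_eq, List.all_eq_true, Nat.ble_eq] at hterm
  obtain ⟨rfl, hterm⟩ := hterm
  rcases hterm with ⟨-, h0⟩ | ⟨hm, hR⟩
  · left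
    rw [h0] at c1
    obtain ⟨z, -, hz⟩ := c1
    rw [show prodOne h.good F ([] : List ℕ) = 1 from rfl] at hz
    exact conj_eq_one_iff.1 hz
  · refine Or.inr ⟨reps.getD (M.getD i ([], 0)).2 [], ?_, ?_⟩
    · rw [List.getD_eq_getElem _ _ (by omega)]; exact List.getElem_mem _
    obtain ⟨-, c2⟩ := h.movesR_sound (F := F) _ _ _ (fun a ha => hn a ha) ea
    obtain ⟨-, p3⟩ := h.normR_sound (F := F) _ _ (fun a ha => hR a ha) eb
    exact c1.trans (p3 ▸ c2)

/-- The coefficients can be normalised to one. -/
theorem normalise [Fintype F] : ∀ B : List (ℕ × F), (∀ p ∈ B, p.1 < D.nroots ∧ p.2 ≠ 0) →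
    (B.Pairwise fun p q => pair D p.1 q.1 = 0) →
    ∃ z ∈ D.group F, z * vA (fun r t => h.good.xG r t) B * z⁻¹ = prodOne h.good F (B.map Prod.fst) ∧
      ∀ r < D.nroots, (∀ p ∈ B, pair D p.1 r = 0) → ∀ t : F, Commute z (h.good.xG r t) := by
  intro B
  induction B with
  | nil => intro _ _; exact ⟨1, one_mem _, by simp [vA, prodOne], fun _ _ _ t => Commute.one_left _⟩
  | cons p B ih =>
    intro hB hp
    rw [List.pairwise_cons] at hp
    obtain ⟨b, t⟩ := p
    obtain ⟨hbn, ht⟩ := hB (b, t) (by simp)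
    obtain ⟨z, hz, ez, hzc⟩ := ih (fun p hp => hB p (by simp [hp])) hp.2
    obtain ⟨s, hs⟩ := FiniteField.isSquare_of_char_two (ringChar.eq F 2) t
    have hs0 : s ≠ 0 := fun e => ht (by rw [hs, e, mul_zero])
    obtain ⟨k, hk⟩ : ∃ k, k = h.good.hG b (Units.mk0 s hs0)⁻¹ := ⟨_, rfl⟩
    have hkG : k ∈ D.group F := hk ▸ h.good.diagonal_le_group (h.good.hG_mem hbn _)
    have hkc : ∀ r < D.nroots, pair D b r = 0 → ∀ u : F, Commute k (h.good.xG r u) := fun r hr hbr u => by
      show k * _ = _ * k
      rw [← mul_inv_eq_iff_eq_mul, hk, h.good.hG_conj_xG hr, hbr, zpow_zero, Units.val_one, one_mul]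
    have hkb : k * h.good.xG b t * k⁻¹ = h.good.xG b 1 := by
      rw [hk, h.good.hG_conj_xG hbn, h.pair_self hbn]
      congr 1
      rw [Units.val_zpow_eq_zpow_val, Units.val_inv_eq_inv_val, Units.val_mk0, hs]
      field_simp
    refine ⟨k * z, mul_mem hkG hz, ?_, fun r hr hpr u => (hkc r hr (hpr (b, t) (by simp)) u).mul_left
      (hzc r hr (fun q hq => hpr q (by simp [hq])) u)⟩
    have hzb : Commute z (h.good.xG b t) := hzc b hbn (fun q hq => by
      rw [h.pair_symm (hB q (by simp [hq])).1 hbn]; exact hp.1 q hq) t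
    have hkB : Commute k (prodOne h.good F (B.map Prod.fst)) := by
      refine Commute.list_prod_right _ _ fun y hy => ?_
      simp only [List.map_map, List.mem_map] at hy
      obtain ⟨q, hq, rfl⟩ := hy
      exact hkc q.1 (hB q (by simp [hq])).1 (hp.1 q hq) 1
    have hr : prodOne h.good F (((b, t) :: B).map Prod.fst) = h.good.xG b 1 * prodOne h.good F (B.map Prod.fst) := by
      simp [prodOne]
    rw [hr, vA_cons, ← hkb]
    calc k * z * (h.good.xG b t * vA (fun r t => h.good.xG r t) B) * (k * z)⁻¹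
        = k * (z * h.good.xG b t) * z⁻¹ * (z * vA (fun r t => h.good.xG r t) B * z⁻¹) * k⁻¹ := by group
      _ = k * h.good.xG b t * (prodOne h.good F (B.map Prod.fst) * k⁻¹) := by rw [hzb.eq, ez]; group
      _ = k * h.good.xG b t * (k⁻¹ * prodOne h.good F (B.map Prod.fst)) := by rw [hkB.inv_left.eq]
      _ = _ := by group

/-- Every involution of the group is conjugate to a product with coefficient one over orthogonal roots. -/
theorem exists_orth [Fintype F] {ord : List ℕ}
    (hU : ∀ u ∈ X (xf h.good F) (MK D dat ord 0), u * u = 1 →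
      ∃ z ∈ D.group F, OrthProd h.good (MK D dat ord 0) (z * u * z⁻¹))
    {x : GL D.Idx F} (hx : x ∈ D.group F) (ho : orderOf x = 2) :
    ∃ B : List ℕ, (∀ r ∈ B, r < D.nroots) ∧ (B.Pairwise fun a b => pair D a b = 0) ∧
      GConj x (prodOne h.good F B) := by
  haveI : Fact (Nat.Prime 2) := ⟨Nat.prime_two⟩
  have hx2 : x * x = 1 := by rw [← sq, ← ho, pow_orderOf_eq_one]
  obtain ⟨P, hP⟩ := CfsgLib.KnownA.Chev.exists_sylow_posUnipotent h.good (F := F) h.comm 2
  obtain ⟨xx, hxx⟩ : ∃ xx : ↥(D.group F), xx = ⟨x, hx⟩ := ⟨_, rfl⟩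
  have hzp : IsPGroup 2 (Subgroup.zpowers xx) :=
    IsPGroup.of_card (n := 1) (by rw [Nat.card_zpowers, pow_one, ← Subgroup.orderOf_coe, hxx]; exact ho)
  obtain ⟨Q, hQ⟩ := hzp.exists_le_sylow
  obtain ⟨k, hk⟩ := MulAction.exists_smul_eq (↥(D.group F)) Q P
  have hmem : k * xx * k⁻¹ ∈ (P : Subgroup ↥(D.group F)) := by
    rw [← hk, Sylow.coe_subgroup_smul]
    exact ⟨xx, hQ (Subgroup.mem_zpowers _), rfl⟩
  rw [hP, Subgroup.mem_subgroupOf, Subgroup.coe_mul, Subgroup.coe_mul, Subgroup.coe_inv, hxx] at hmem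
  have c1 : GConj x ((k : GL D.Idx F) * x * (k : GL D.Idx F)⁻¹) := ⟨k, k.2, rfl⟩
  have hle : D.posUnipotent F ≤ X (xf h.good F) (MK D dat ord 0) := by
    rw [h.good.posUnipotent_eq]
    exact h.good.rootGen_le fun r hr hrn t =>
      mem_X (x := xf h.good F) (show r ∈ MK D dat ord 0 from ⟨hrn, hr, by simp [ZeroK]⟩) t
  obtain ⟨z, hz, B, hB, hBp, e⟩ := hU _ (hle hmem) (by
    rw [show (k : GL D.Idx F) * x * (k : GL D.Idx F)⁻¹ * ((k : GL D.Idx F) * x * (k : GL D.Idx F)⁻¹) =
      (k : GL D.Idx F) * (x * x) * (k : GL D.Idx F)⁻¹ by group, hx2]; group)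
  obtain ⟨z', hz', e', -⟩ := h.normalise B (fun p hp => ⟨(hB p hp).1.1, (hB p hp).2⟩) hBp
  refine ⟨B.map Prod.fst, ?_, by rw [List.pairwise_map]; exact hBp, (c1.trans ⟨z, hz, e⟩).trans ⟨z', hz', e'⟩⟩
  intro r hr
  obtain ⟨p, hp, rfl⟩ := List.mem_map.1 hr
  exact (hB p hp).1.1

end SLFacts

end CfsgLib.Chev.SLInvol
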