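import Mathlib
import Cfsg.Agent.Lib.Chev.SLInvolSets

/-!
The rank of `y - 1` on the adjoint module, in characteristic two, by a sparse certificate.
-/

set_option autoImplicit false

namespace CfsgLib.Chev.SLInvol

open Cfsg.Lie CfsgLib.Chev.InvolMono

variable (D : ChevalleyDatum)

/-- A column of `x_r(1)`. -/
noncomputable def xcolR (r j : ℕ) : SVec :=
  (j, 1) :: appR (fcol D r 1 j) (appR (fcol D r 2 j) (fcol D r 3 j))

/-- A column of a product of root elements with coefficient one. -/
noncomputable def ycolR (l : List ℕ) (j : ℕ) : SVec :=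
  List.rec [(j, 1)] (fun r _ ih => sapp (xcolR D r) ih) l

/-- A column of `y - 1`. -/
noncomputable def mcolR (l : List ℕ) (j : ℕ) : SVec := appR (ycolR D l j) [(j, -1)]

/-- A column of a table. -/
noncomputable def tabCol (T : List (List ℕ)) (j : ℕ) : SVec := mapR (fun i => (i, (1 : ℤ))) (nth [] T j)

/-- A column of the truncated identity. -/
noncomputable def eCol (k j : ℕ) : SVec := bif Nat.blt j k then [(j, 1)] else []

/-- All indices are in range. -/
noncomputable def bddR (v : SVec) : Bool := allR (fun p => Nat.blt p.1 (dimL D)) v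

/-- Equality modulo two. -/
noncomputable def vEq2 (u v : SVec) : Bool :=
  allR (fun p => Int.beq' (coef (appR u v) p.1 % 2) 0) (appR u v)

/-- `U (y - 1) W = E` and `y - 1 = B E C`, modulo two. -/
noncomputable def rankOK (l : List ℕ) (k : ℕ) (U W B C : List (List ℕ)) : Bool :=
  Nat.ble k (dimL D) && allR (fun r => Nat.blt r D.nroots) l &&
  allR (fun j =>
    bddR D (mcolR D l j) && bddR D (ycolR D l j) && bddR D (tabCol W j) && bddR D (tabCol U j) &&
      bddR D (tabCol B j) && bddR D (tabCol C j) && bddR D (eCol k j) &&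
      bddR D (sapp (mcolR D l) (tabCol W j)) && bddR D (sapp (eCol k) (tabCol C j)) &&
      vEq2 (sapp (tabCol U) (sapp (mcolR D l) (tabCol W j))) (eCol k j) &&
      vEq2 (sapp (tabCol B) (sapp (eCol k) (tabCol C j))) (mcolR D l j)) (upto (dimL D))

variable {D} {F : Type*} [Field F]

/-- The matrix over `F` of integer columns. -/
noncomputable def fmat (D : ChevalleyDatum) (F : Type*) [Field F] (M : ℕ → SVec) : Matrix D.Idx D.Idx F :=
  (smat (ix D) M).map (Int.cast : ℤ → F)

theorem bddR_range {v : SVec} (h : bddR D v = true) : ∀ p ∈ v, p.1 ∈ Set.range (ix D) := by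
  intro p hp
  have := allR_true h hp
  simp only [Nat.blt, Nat.ble_eq, dimL] at this
  exact mem_range_ix D (by omega)

theorem fmat_mul (A B : ℕ → SVec) (hB : ∀ j : D.Idx, ∀ p ∈ B (ix D j), p.1 ∈ Set.range (ix D)) :
    fmat D F A * fmat D F B = fmat D F (fun j => sapp A (B j)) := by
  have e : smat (ix D) A * smat (ix D) B = smat (ix D) (fun j => sapp A (B j)) := by
    refine Matrix.ext fun i j => ?_
    rw [smat_mul_apply _ (ix_injective D) A B i j (hB j)]
    rfl
  show (smat (ix D) A).map (Int.castRingHom F) * (smat (ix D) B).map (Int.castRingHom F) = _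
  rw [← Matrix.map_mul, e]
  rfl

theorem fmat_congr2 [CharP F 2] {A B : ℕ → SVec} (h : ∀ j : D.Idx, vEq2 (A (ix D j)) (B (ix D j)) = true) :
    fmat D F A = fmat D F B := by
  refine Matrix.ext fun i j => ?_
  have key : ∀ x : ℕ, ((coef (A (ix D j) ++ B (ix D j)) x : ℤ) : F) = 0 := by
    intro x
    by_cases hm : ∃ p ∈ A (ix D j) ++ B (ix D j), p.1 = x
    · obtain ⟨p, hp, rfl⟩ := hm
      have := allR_true (h j) (by rw [appR_eq]; exact hp)
      rw [appR_eq, Int.beq'_eq] at this
      obtain ⟨c, hc⟩ := Int.dvd_of_emod_eq_zero this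
      rw [hc, Int.cast_mul, Int.cast_ofNat, CharTwo.two_eq_zero, zero_mul]
    · push Not at hm
      rw [coef_eq_zero_of_not_mem _ _ hm, Int.cast_zero]
  have := key (ix D i)
  rw [coef_append, Int.cast_add] at this
  simp only [fmat, smat, Matrix.map_apply, Matrix.of_apply]
  rw [← sub_eq_zero, sub_eq_add_neg, CharTwo.neg_eq]
  exact this

theorem fmat_eCol (k : ℕ) (hk : k ≤ dimL D) :
    (fmat D F (eCol k)).rank = k := by
  classical
  have e : fmat D F (eCol k) = Matrix.diagonal (fun j : D.Idx => if ix D j < k then (1 : F) else 0) := by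
    refine Matrix.ext fun i j => ?_
    simp only [fmat, smat, Matrix.map_apply, Matrix.of_apply, Matrix.diagonal_apply, eCol]
    by_cases hj : ix D j < k
    · have hb : Nat.blt (ix D j) k = true := by simp [Nat.blt, Nat.ble_eq]; omega
      rw [hb, cond_true, coef_cons, coef_nil]
      by_cases hij : i = j
      · subst hij; simp [hj]
      · have : ¬ ix D j = ix D i := fun e => hij (ix_injective D e).symm
        simp [hij, this]
    · have hb : Nat.blt (ix D j) k = false := by
        rw [← Bool.not_eq_true]; simp [Nat.blt, Nat.ble_eq]; omega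
      rw [hb, cond_false, coef_nil]
      by_cases hij : i = j
      · subst hij; simp [hj]
      · simp [hij]
  rw [e, Matrix.rank_diagonal]
  have hset : ∀ j : D.Idx, ((if ix D j < k then (1 : F) else 0) ≠ 0) ↔ ix D j < k := fun j => by
    by_cases h : ix D j < k <;> simp [h]
  rw [Fintype.card_congr (Equiv.subtypeEquivRight hset)]
  have hbij : Function.Bijective (fun j : {j : D.Idx // ix D j < k} => (⟨ix D j.1, j.2⟩ : Fin k)) := by
    refine ⟨fun a b e => Subtype.ext (ix_injective D (congrArg Fin.val e)), fun m => ?_⟩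
    obtain ⟨j, hj⟩ := mem_range_ix D (m := m.val) (by have := m.2; simp only [dimL] at hk; omega)
    exact ⟨⟨j, hj ▸ m.2⟩, Fin.ext hj⟩
  rw [Fintype.card_of_bijective hbij, Fintype.card_fin]

namespace SLFacts

variable {dat : LieData} {sd : StructData} (h : SLFacts D dat sd)
include h

omit [Field F] in
theorem xcol_matrix {F : Type*} [Field F] {r : ℕ} (hr : r < D.nroots) :
    (h.good.xG r (1 : F) : Matrix D.Idx D.Idx F) = fmat D F (xcolR D r) := by
  rw [Good.coe_xG, h.good.x_eq_xr hr]
  refine Matrix.ext fun i j => ?_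
  simp only [xr, amat, one_pow, one_smul, Matrix.add_apply, Matrix.map_apply, fmat, smat, Matrix.of_apply,
    xcolR, appR_eq, coef_cons, coef_append, Int.cast_add, h.lie.rmat_apply hr (k := 1) (by simp),
    h.lie.rmat_apply hr (k := 2) (by simp), h.lie.rmat_apply hr (k := 3) (by simp)]
  by_cases hij : i = j
  · subst hij; simp; ring
  · have : ¬ ix D j = ix D i := fun e => hij (ix_injective D e).symm
    simp [hij, this, Matrix.one_apply_ne hij]; ring

theorem rank_eq [CharP F 2] {l : List ℕ} {k : ℕ} {U W B C : List (List ℕ)} (hok : rankOK D l k U W B C = true) :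
    ((prodOne h.good F l : GL D.Idx F).val - 1 : Matrix D.Idx D.Idx F).rank = k := by
  simp only [rankOK, Bool.and_eq_true, Nat.ble_eq] at hok
  obtain ⟨⟨hk, hl⟩, hall⟩ := hok
  have hix : ∀ j : D.Idx, ix D j < dimL D := by
    rintro (a | a) <;> simp only [ix_inl, ix_inr, dimL] <;> omega
  have hj : ∀ j : D.Idx, _ := fun j => allR_upto hall (hix j)
  simp only [Bool.and_eq_true] at hj
  have hl' : ∀ r ∈ l, r < D.nroots := fun r hr => by
    have := allR_true hl hr; simp only [Nat.blt, Nat.ble_eq] at this; omega
  have hy : ∀ l : List ℕ, (∀ r ∈ l, r < D.nroots) →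
      (prodOne h.good F l : GL D.Idx F).val = fmat D F (ycolR D l) ∧
        ∀ j : D.Idx, ∀ p ∈ ycolR D l (ix D j), p.1 ∈ Set.range (ix D) := by
    intro l
    induction l with
    | nil =>
      intro _
      refine ⟨Matrix.ext fun i j => ?_, fun j p hp => ?_⟩
      · simp only [prodOne, List.map_nil, List.prod_nil, Units.val_one, fmat, smat, Matrix.map_apply,
          Matrix.of_apply, ycolR, coef_cons, coef_nil]
        by_cases hij : i = j
        · subst hij; simp
        · have : ¬ ix D j = ix D i := fun e => hij (ix_injective D e).symm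
          simp [Matrix.one_apply_ne hij, this]
      · simp only [ycolR, List.mem_singleton] at hp
        subst hp; exact ⟨j, rfl⟩
    | cons r l ih =>
      intro hrl
      obtain ⟨e, hr'⟩ := ih fun s hs => hrl s (by simp [hs])
      refine ⟨?_, fun j p hp => ?_⟩
      · show (h.good.xG r (1 : F) * prodOne h.good F l : GL D.Idx F).val = _
        rw [Units.val_mul, h.xcol_matrix (hrl r (by simp)), e, fmat_mul _ _ hr']
        rfl
      · have hp' : p ∈ sapp (xcolR D r) (ycolR D l (ix D j)) := hp
        have hgen : ∀ v : SVec, (∀ q ∈ v, q.1 ∈ Set.range (ix D)) →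
            ∀ q ∈ sapp (xcolR D r) v, q.1 ∈ Set.range (ix D) := by
          intro v
          induction v with
          | nil => intro _ q hq; simp [sapp] at hq
          | cons a v ihv =>
            intro hv q hq
            have hq' : q ∈ appR (vsmul a.2 (xcolR D r a.1)) (sapp (xcolR D r) v) := hq
            rw [appR_eq, List.mem_append] at hq'
            rcases hq' with hq' | hq'
            · have hsm : ∀ u : SVec, ∀ q ∈ vsmul a.2 u, ∃ q' ∈ u, q'.1 = q.1 := by
                intro u
                induction u with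
                | nil => intro q hq; simp [vsmul] at hq
                | cons b u ihu =>
                  intro q hq
                  have hq2 : q ∈ (b.1, a.2 * b.2) :: vsmul a.2 u := hq
                  rcases List.mem_cons.1 hq2 with rfl | hq2
                  · exact ⟨b, by simp, rfl⟩
                  · obtain ⟨q', h1, h2⟩ := ihu q hq2; exact ⟨q', by simp [h1], h2⟩
              obtain ⟨q', hq'1, hq'2⟩ := hsm _ q hq'
              rw [← hq'2]
              simp only [xcolR, appR_eq, List.mem_cons, List.mem_append] at hq'1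
              rcases hq'1 with rfl | hq'1 | hq'1 | hq'1
              · exact hv a (by simp)
              all_goals exact h.lie.fcol_range (hrl r (by simp)) (by simp) _ _ hq'1
            · exact ihv (fun b hb => hv b (by simp [hb])) q hq'
        exact hgen _ (hr' j) p hp'
  have hM : (prodOne h.good F l : GL D.Idx F).val - 1 = fmat D F (mcolR D l) := by
    rw [(hy l hl').1]
    refine Matrix.ext fun i j => ?_
    simp only [Matrix.sub_apply, fmat, smat, Matrix.map_apply, Matrix.of_apply, mcolR, appR_eq, coef_append,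
      coef_cons, coef_nil, Int.cast_add]
    by_cases hij : i = j
    · subst hij; simp; ring
    · have : ¬ ix D j = ix D i := fun e => hij (ix_injective D e).symm
      simp [Matrix.one_apply_ne hij, this]
  obtain ⟨M, hMd⟩ : ∃ M, M = fmat D F (mcolR D l) := ⟨_, rfl⟩
  have eU : fmat D F (tabCol U) * (M * fmat D F (tabCol W)) = fmat D F (eCol k) := by
    rw [hMd, fmat_mul _ _ fun j => bddR_range (hj j).1.1.1.1.1.1.1.1.2,
      fmat_mul _ _ fun j => bddR_range (hj j).1.1.1.2]
    exact fmat_congr2 fun j => (hj j).1.2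
  have eB : fmat D F (tabCol B) * (fmat D F (eCol k) * fmat D F (tabCol C)) = M := by
    rw [hMd, fmat_mul _ _ fun j => bddR_range (hj j).1.1.1.1.1.2,
      fmat_mul _ _ fun j => bddR_range (hj j).1.1.2]
    exact fmat_congr2 fun j => (hj j).2
  rw [hM, ← hMd]
  refine le_antisymm ?_ ?_
  · rw [← eB]
    refine le_trans (Matrix.rank_mul_le_right _ _) (le_trans (Matrix.rank_mul_le_left _ _) ?_)
    rw [fmat_eCol k hk]
  · rw [← fmat_eCol (F := F) k hk, ← eU]
    exact le_trans (Matrix.rank_mul_le_right _ _) (Matrix.rank_mul_le_left _ _)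

/-- Conjugate elements have `y - 1` of equal rank. -/
theorem rank_of_conj [CharP F 2] {l l' : List ℕ} {k k' : ℕ} {U W B C U' W' B' C' : List (List ℕ)}
    (hok : rankOK D l k U W B C = true) (hok' : rankOK D l' k' U' W' B' C' = true)
    (hc : GConj (prodOne h.good F l) (prodOne h.good F l')) : k = k' := by
  obtain ⟨z, -, hz⟩ := hc
  have e : ((prodOne h.good F l' : GL D.Idx F).val - 1 : Matrix D.Idx D.Idx F) =
      z.val * ((prodOne h.good F l : GL D.Idx F).val - 1) * z⁻¹.val := by
    rw [← hz, Units.val_mul, Units.val_mul, mul_sub, sub_mul, mul_one, Units.mul_inv]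
  rw [← h.rank_eq (F := F) hok, ← h.rank_eq (F := F) hok', e,
    Matrix.rank_mul_eq_left_of_isUnit_det _ _ ((Matrix.isUnit_iff_isUnit_det _).1 z⁻¹.isUnit),
    Matrix.rank_mul_eq_right_of_isUnit_det _ _ ((Matrix.isUnit_iff_isUnit_det _).1 z.isUnit)]

/-- A product over pairwise orthogonal roots squares to one. -/
theorem prodOne_sq [CharP F 2] {l : List ℕ} (hl : ∀ r ∈ l, r < D.nroots)
    (hp : l.Pairwise fun a b => pair D a b = 0) :
    prodOne h.good F l * prodOne h.good F l = 1 := by
  induction l with
  | nil => simp [prodOne]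
  | cons r l ih =>
    rw [List.pairwise_cons] at hp
    have hc : Commute (h.good.xG r (1 : F)) (prodOne h.good F l) := by
      refine Commute.list_prod_right _ _ fun y hy => ?_
      obtain ⟨s, hs, rfl⟩ := List.mem_map.1 hy
      refine h.commute (hl r (by simp)) (hl s (by simp [hs])) (by rw [hp.1 s hs]; norm_num) (fun e => ?_) 1 1
      subst e
      have h0 := hp.1 _ hs
      rw [h.pair_symm (hl r (by simp)) (h.good.neg_lt (hl r (by simp))),
        h.pair_neg_left (hl r (by simp)) (hl r (by simp)), h.pair_self (hl r (by simp))] at h0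
      omega
    rw [show prodOne h.good F (r :: l) = h.good.xG r 1 * prodOne h.good F l by simp [prodOne],
      mul_assoc, ← mul_assoc (prodOne h.good F l), ← hc.eq, mul_assoc (h.good.xG r (1 : F)) (prodOne h.good F l),
      ← mul_assoc (h.good.xG r (1 : F)) (h.good.xG r (1 : F)), h.good.xG_add, CharTwo.add_self_eq_zero, h.good.xG_zero, one_mul]
    exact ih (fun s hs => hl s (by simp [hs])) hp.2

/-- A representative is an element of order two of the group. -/
theorem prodOne_order [CharP F 2] {l : List ℕ} (hl : ∀ r ∈ l, r < D.nroots)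
    (hp : l.Pairwise fun a b => pair D a b = 0) {k : ℕ} {U W B C : List (List ℕ)}
    (hok : rankOK D l k U W B C = true) (hk : k ≠ 0) :
    prodOne h.good F l ∈ D.group F ∧ orderOf (prodOne h.good F l) = 2 := by
  refine ⟨Subgroup.list_prod_mem _ fun y hy => ?_, orderOf_eq_prime (p := 2) (hp := ⟨Nat.prime_two⟩) ?_ fun e => ?_⟩
  · obtain ⟨s, hs, rfl⟩ := List.mem_map.1 hy
    exact h.good.xG_mem_group (hl s hs) 1
  · rw [sq]; exact h.prodOne_sq hl hp
  · have := h.rank_eq (F := F) hok
    rw [e, Units.val_one, sub_self, Matrix.rank_zero] at this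
    exact hk this.symm

end SLFacts

end CfsgLib.Chev.SLInvol
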