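import Mathlib
import Cfsg.Agent.Lib.Chev.F4CertData
import Cfsg.Agent.Lib.Chev.SLInvolRank
import Cfsg.Agent.Lib.Chev.SigmaIsoTables
import Cfsg.Agent.Lib.KnownA.Chev.Basic

/-!
The classes of involutions of F₄ over a finite field of characteristic two.
-/

set_option autoImplicit false
set_option linter.unusedSectionVars false

namespace CfsgLib.Chev.F4Cert

open Cfsg.Lie CfsgLib.Chev.UniCert CfsgLib.Chev.InvolMono CfsgLib.Chev.SLInvol

variable (D : ChevalleyDatum)

/-- The product of root elements with coefficient one. -/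
noncomputable def oneProd (g : Good D) (F : Type*) [Field F] (l : List ℕ) : GL D.Idx F :=
  (l.map fun r => g.xG r (1 : F)).prod

/-- The projection on the coordinates of a list. -/
noncomputable def projS (F : Type*) [Field F] (S : List ℕ) : Matrix D.Idx D.Idx F :=
  Matrix.diagonal fun j => if ix D j ∈ S then (1 : F) else 0

/-- A column of `(y - 1) P`. -/
noncomputable def pcolR (S l : List ℕ) (j : ℕ) : SVec := bif inL S j then mcolR D l j else []

/-- `U (y - 1) P W = E` and `(y - 1) P = B E C`, modulo two. -/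
noncomputable def rankOn (S l : List ℕ) (k : ℕ) (U W B C : List (List ℕ)) : Bool :=
  Nat.ble k (dimL D) && allR (fun r => Nat.blt r D.nroots) l &&
  allR (fun j =>
    bddR D (pcolR D S l j) && bddR D (mcolR D l j) && bddR D (ycolR D l j) && bddR D (tabCol W j) && bddR D (tabCol U j) &&
      bddR D (tabCol B j) && bddR D (tabCol C j) && bddR D (eCol k j) &&
      bddR D (sapp (pcolR D S l) (tabCol W j)) && bddR D (sapp (eCol k) (tabCol C j)) &&
      vEq2 (sapp (tabCol U) (sapp (pcolR D S l) (tabCol W j))) (eCol k j) &&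
      vEq2 (sapp (tabCol B) (sapp (eCol k) (tabCol C j))) (pcolR D S l j)) (upto (dimL D))


variable {D} (g : Good D) {F : Type*} [Field F]
variable {dat : LieData} (hL : LieChecks D dat)
include g hL

theorem xcol_matrix {r : ℕ} (hr : r < D.nroots) :
    (g.xG r (1 : F) : Matrix D.Idx D.Idx F) = fmat D F (xcolR D r) := by
  rw [Good.coe_xG, g.x_eq_xr hr]
  refine Matrix.ext fun i j => ?_
  simp only [xr, amat, one_pow, one_smul, Matrix.add_apply, Matrix.map_apply, fmat, smat, Matrix.of_apply,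
    xcolR, appR_eq, coef_cons, coef_append, Int.cast_add, hL.rmat_apply hr (k := 1) (by simp),
    hL.rmat_apply hr (k := 2) (by simp), hL.rmat_apply hr (k := 3) (by simp)]
  by_cases hij : i = j
  · subst hij; simp; ring
  · have : ¬ ix D j = ix D i := fun e => hij (ix_injective D e).symm
    simp [hij, this, Matrix.one_apply_ne hij]; ring

theorem rankOn_eq [CharP F 2] {S l : List ℕ} {k : ℕ} {U W B C : List (List ℕ)} (hok : rankOn D S l k U W B C = true) :
    (((oneProd D g F l : GL D.Idx F).val - 1) * projS D F S).rank = k := by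
  simp only [rankOn, Bool.and_eq_true, Nat.ble_eq] at hok
  obtain ⟨⟨hk, hl⟩, hall⟩ := hok
  have hix : ∀ j : D.Idx, ix D j < dimL D := by
    rintro (a | a) <;> simp only [ix_inl, ix_inr, dimL] <;> omega
  have hj : ∀ j : D.Idx, _ := fun j => allR_upto hall (hix j)
  simp only [Bool.and_eq_true] at hj
  have hl' : ∀ r ∈ l, r < D.nroots := fun r hr => by
    have := allR_true hl hr; simp only [Nat.blt, Nat.ble_eq] at this; omega
  have hy : ∀ l : List ℕ, (∀ r ∈ l, r < D.nroots) →
      (oneProd D g F l : GL D.Idx F).val = fmat D F (ycolR D l) ∧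
        ∀ j : D.Idx, ∀ p ∈ ycolR D l (ix D j), p.1 ∈ Set.range (ix D) := by
    intro l
    induction l with
    | nil =>
      intro _
      refine ⟨Matrix.ext fun i j => ?_, fun j p hp => ?_⟩
      · simp only [oneProd, List.map_nil, List.prod_nil, Units.val_one, fmat, smat, Matrix.map_apply,
          Matrix.of_apply, ycolR, coef_cons, coef_nil]
        by_cases hij : i = j
        · subst hij; simp
        · have : ¬ ix D j = ix D i := fun e => hij (ix_injective D e).symm
          simp [Matrix.one_apply_ne hij, this]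
      · simp only [ycolR, List.mem_singleton] at hp
        subst hp; exact ⟨j, rfl⟩
    | cons r l ih =>
      intro hrl
      obtain ⟨e, hr'⟩ := ih fun s hs => hrl s (by simp [hs])
      refine ⟨?_, fun j p hp => ?_⟩
      · show (g.xG r (1 : F) * oneProd D g F l : GL D.Idx F).val = _
        rw [Units.val_mul, xcol_matrix g hL (hrl r (by simp)), e, fmat_mul _ _ hr']
        rfl
      · have hp' : p ∈ sapp (xcolR D r) (ycolR D l (ix D j)) := hp
        have hgen : ∀ v : SVec, (∀ q ∈ v, q.1 ∈ Set.range (ix D)) →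
            ∀ q ∈ sapp (xcolR D r) v, q.1 ∈ Set.range (ix D) := by
          intro v
          induction v with
          | nil => intro _ q hq; simp [sapp] at hq
          | cons a v ihv =>
            intro hv q hq
            have hq' : q ∈ appR (vsmul a.2 (xcolR D r a.1)) (sapp (xcolR D r) v) := hq
            rw [appR_eq, List.mem_append] at hq'
            rcases hq' with hq' | hq'
            · have hsm : ∀ u : SVec, ∀ q ∈ vsmul a.2 u, ∃ q' ∈ u, q'.1 = q.1 := by
                intro u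
                induction u with
                | nil => intro q hq; simp [vsmul] at hq
                | cons b u ihu =>
                  intro q hq
                  have hq2 : q ∈ (b.1, a.2 * b.2) :: vsmul a.2 u := hq
                  rcases List.mem_cons.1 hq2 with rfl | hq2
                  · exact ⟨b, by simp, rfl⟩
                  · obtain ⟨q', h1, h2⟩ := ihu q hq2; exact ⟨q', by simp [h1], h2⟩
              obtain ⟨q', hq'1, hq'2⟩ := hsm _ q hq'
              rw [← hq'2]
              simp only [xcolR, appR_eq, List.mem_cons, List.mem_append] at hq'1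
              rcases hq'1 with rfl | hq'1 | hq'1 | hq'1
              · exact hv a (by simp)
              all_goals exact hL.fcol_range (hrl r (by simp)) (by simp) _ _ hq'1
            · exact ihv (fun b hb => hv b (by simp [hb])) q hq'
        exact hgen _ (hr' j) p hp'
  have hM : (oneProd D g F l : GL D.Idx F).val - 1 = fmat D F (mcolR D l) := by
    rw [(hy l hl').1]
    refine Matrix.ext fun i j => ?_
    simp only [Matrix.sub_apply, fmat, smat, Matrix.map_apply, Matrix.of_apply, mcolR, appR_eq, coef_append,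
      coef_cons, coef_nil, Int.cast_add]
    by_cases hij : i = j
    · subst hij; simp; ring
    · have : ¬ ix D j = ix D i := fun e => hij (ix_injective D e).symm
      simp [Matrix.one_apply_ne hij, this]
  have hP : ((oneProd D g F l : GL D.Idx F).val - 1) * projS D F S = fmat D F (pcolR D S l) := by
    rw [hM]
    refine Matrix.ext fun i j => ?_
    rw [projS, Matrix.mul_diagonal]
    simp only [fmat, smat, Matrix.map_apply, Matrix.of_apply, pcolR]
    by_cases hS : ix D j ∈ S
    · rw [if_pos hS, (inL_iff _ _).2 hS, cond_true, mul_one]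
    · rw [if_neg hS, Bool.eq_false_iff.2 fun e => hS ((inL_iff _ _).1 e), cond_false, coef_nil, Int.cast_zero, mul_zero]
  obtain ⟨M, hMd⟩ : ∃ M, M = fmat D F (pcolR D S l) := ⟨_, rfl⟩
  have eU : fmat D F (tabCol U) * (M * fmat D F (tabCol W)) = fmat D F (eCol k) := by
    rw [hMd, fmat_mul _ _ fun j => bddR_range (hj j).1.1.1.1.1.1.1.1.2,
      fmat_mul _ _ fun j => bddR_range (hj j).1.1.1.2]
    exact fmat_congr2 fun j => (hj j).1.2
  have eB : fmat D F (tabCol B) * (fmat D F (eCol k) * fmat D F (tabCol C)) = M := by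
    rw [hMd, fmat_mul _ _ fun j => bddR_range (hj j).1.1.1.1.1.2,
      fmat_mul _ _ fun j => bddR_range (hj j).1.1.2]
    exact fmat_congr2 fun j => (hj j).2
  rw [hP, ← hMd]
  refine le_antisymm ?_ ?_
  · rw [← eB]
    refine le_trans (Matrix.rank_mul_le_right _ _) (le_trans (Matrix.rank_mul_le_left _ _) ?_)
    rw [fmat_eCol k hk]
  · rw [← fmat_eCol (F := F) k hk, ← eU]
    exact le_trans (Matrix.rank_mul_le_right _ _) (Matrix.rank_mul_le_left _ _)

end CfsgLib.Chev.F4Cert

namespace CfsgLib.Chev.F4Cert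

open Cfsg.Lie CfsgLib.Chev.UniCert CfsgLib.Chev.InvolMono CfsgLib.Chev.SLInvol

variable {F : Type*} [Field F] [CharP F 2]

theorem hcF4 : HasComm chevF4 := hasComm_of_mem (by simp)

/-- Elements of the group map the span of the short roots into itself. -/
theorem group_short {z : GL chevF4.Idx F} (hz : z ∈ chevF4.group F) :
    ∀ i j : chevF4.Idx, ix chevF4 i ∉ isoF4.sub → ix chevF4 j ∈ isoF4.sub → z.val i j = 0 := by
  haveI : CharP F isoF4.p := ‹CharP F 2›
  obtain ⟨e, Φ, -⟩ := exists_isoFacts goodF4 checksF4 structChecksF4 rhoIsoF4_ok isoF4_ok F (by decide)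
  have hx : ∀ u < chevF4.nroots, ∀ (t : F) (i j : chevF4.Idx), ix chevF4 i ∉ isoF4.sub → ix chevF4 j ∈ isoF4.sub →
      (goodF4.xG u t : GL chevF4.Idx F).val i j = 0 := fun u hu t i j hi hj => by
    rw [Good.coe_xG]; exact Φ.inv u hu t i j hi hj
  have hmul : ∀ a b : GL chevF4.Idx F,
      (∀ i j : chevF4.Idx, ix chevF4 i ∉ isoF4.sub → ix chevF4 j ∈ isoF4.sub → a.val i j = 0) →
      (∀ i j : chevF4.Idx, ix chevF4 i ∉ isoF4.sub → ix chevF4 j ∈ isoF4.sub → b.val i j = 0) →
      ∀ i j : chevF4.Idx, ix chevF4 i ∉ isoF4.sub → ix chevF4 j ∈ isoF4.sub → (a * b).val i j = 0 := by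
    intro a b ha hb i j hi hj
    rw [Units.val_mul, Matrix.mul_apply]
    refine Finset.sum_eq_zero fun k _ => ?_
    by_cases hk : ix chevF4 k ∈ isoF4.sub
    · rw [ha i k hi hk, zero_mul]
    · rw [hb k j hk hj, mul_zero]
  have gen : ∀ y : GL chevF4.Idx F,
      (∃ (r : Fin chevF4.nroots) (t : F), (y : Matrix chevF4.Idx chevF4.Idx F) = chevF4.xMat F r t) →
      ∃ r < chevF4.nroots, ∃ t : F, y = goodF4.xG r t := by
    rintro y ⟨r, t, h⟩
    refine ⟨r, r.2, t, Units.ext ?_⟩
    rw [Good.coe_xG, h, ChevalleyDatum.x, dif_pos r.2]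
  induction hz using Subgroup.closure_induction'' with
  | one =>
    intro i j hi hj
    exact Matrix.one_apply_ne (fun e => hi (e ▸ hj))
  | mem y hy =>
    obtain ⟨r, hr, t, rfl⟩ := gen y hy
    exact hx r hr t
  | inv_mem y hy =>
    obtain ⟨r, hr, t, rfl⟩ := gen y hy
    rw [Good.xG_inv]
    exact hx r hr (-t)
  | mul a b _ _ ha hb => exact hmul a b ha hb

omit [CharP F 2] in
theorem projS_all : projS chevF4 F (upto (dimL chevF4)) = 1 := by
  refine Eq.trans (congrArg Matrix.diagonal (funext fun j => ?_)) Matrix.diagonal_one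
  rw [if_pos]
  rw [upto_eq, List.mem_range]
  rcases j with a | a <;> simp only [ix_inl, ix_inr, dimL] <;> omega

theorem proj_short {z : GL chevF4.Idx F} (hz : z ∈ chevF4.group F) :
    projS chevF4 F isoF4.sub * z.val * projS chevF4 F isoF4.sub = z.val * projS chevF4 F isoF4.sub := by
  refine Matrix.ext fun i j => ?_
  simp only [projS, Matrix.mul_diagonal, Matrix.diagonal_mul]
  by_cases hj : ix chevF4 j ∈ isoF4.sub
  · by_cases hi : ix chevF4 i ∈ isoF4.sub
    · rw [if_pos hi, one_mul]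
    · rw [group_short hz i j hi hj]; simp
  · rw [if_neg hj, mul_zero, mul_zero]

/-- Conjugate elements have equal ranks on a stable subspace. -/
theorem rank_conj_le {P : Matrix chevF4.Idx chevF4.Idx F}
    (hP : ∀ z ∈ chevF4.group F, P * (z : GL chevF4.Idx F).val * P = (z : GL chevF4.Idx F).val * P)
    {x y : GL chevF4.Idx F} (h : GConj x y) : ((y.val - 1) * P).rank ≤ ((x.val - 1) * P).rank := by
  obtain ⟨z, hz, rfl⟩ := h
  have e : ((z * x * z⁻¹).val - 1) * P = z.val * ((x.val - 1) * P) * (z⁻¹.val * P) := by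
    have : (z * x * z⁻¹).val - 1 = z.val * (x.val - 1) * z⁻¹.val := by
      rw [Units.val_mul, Units.val_mul, mul_sub, sub_mul, mul_one, Units.mul_inv]
    calc ((z * x * z⁻¹).val - 1) * P = z.val * (x.val - 1) * (z⁻¹.val * P) := by rw [this, mul_assoc _ _ P]
      _ = z.val * (x.val - 1) * (P * z⁻¹.val * P) := by rw [hP z⁻¹ (inv_mem hz)]
      _ = _ := by simp only [mul_assoc]
  rw [e]
  exact le_trans (Matrix.rank_mul_le_left _ _) (Matrix.rank_mul_le_right _ _)

theorem rank_sep {S l l' : List ℕ} {k k' : ℕ} {U W B C U' W' B' C' : List (List ℕ)}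
    (hS : S = upto (dimL chevF4) ∨ S = isoF4.sub)
    (hok : rankOn chevF4 S l k U W B C = true) (hok' : rankOn chevF4 S l' k' U' W' B' C' = true)
    (h : GConj (oneProd chevF4 goodF4 F l) (oneProd chevF4 goodF4 F l')) : k = k' := by
  have hP : ∀ z ∈ chevF4.group F, projS chevF4 F S * (z : GL chevF4.Idx F).val * projS chevF4 F S =
      (z : GL chevF4.Idx F).val * projS chevF4 F S := by
    intro z hz
    rcases hS with rfl | rfl
    · rw [projS_all]; simp
    · exact proj_short hz
  rw [← rankOn_eq goodF4 checksF4 (F := F) hok, ← rankOn_eq goodF4 checksF4 (F := F) hok']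
  exact le_antisymm (rank_conj_le hP h.symm) (rank_conj_le hP h)

/-- `x = 1` or `x` is conjugate to one of the four representatives. -/
def Classed (x : GL chevF4.Idx F) : Prop :=
  x = 1 ∨ ∃ R ∈ ([[47], [44], [47, 44], [39, 45]] : List (List ℕ)), GConj x (oneProd chevF4 goodF4 F R)

theorem classed_stable : Stable (Classed (F := F)) := by
  rintro z hz x (e | ⟨R, hR, h⟩)
  · exact Or.inl (conj_eq_one_iff.1 e)
  · exact Or.inr ⟨R, hR, GConj.trans ⟨z, hz, rfl⟩ h⟩

theorem XT_nil : XT chevF4 F [] = ⊥ :=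
  le_bot_iff.1 (goodF4.rootGen_le fun r hr _ t => absurd hr (by simp))

/-- Bring one coefficient to one, fixing another. -/
theorem scale_one [Fintype F] {a r s : ℕ} (ha : a < chevF4.nroots) (hr : r < chevF4.nroots) (hs : s < chevF4.nroots)
    (h1 : pair chevF4 a r = 1 ∨ pair chevF4 a r = 2) (h0 : r = s ∨ pair chevF4 a s = 0) {t : F} (ht : t ≠ 0) :
    ∃ z ∈ chevF4.group F, z * goodF4.xG r t * z⁻¹ = goodF4.xG r 1 ∧
      (r ≠ s → ∀ u : F, z * goodF4.xG s u * z⁻¹ = goodF4.xG s u) := by
  obtain ⟨c, hc⟩ : ∃ c : Fˣ, (((c ^ pair chevF4 a r : Fˣ) : F)) * t = 1 := by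
    rcases h1 with h1 | h1
    · exact ⟨(Units.mk0 t ht)⁻¹, by rw [h1]; simp [ht]⟩
    · obtain ⟨q, hq⟩ := FiniteField.isSquare_of_char_two (ringChar.eq F 2) t
      have hq0 : q ≠ 0 := fun e => ht (by rw [hq, e, mul_zero])
      refine ⟨(Units.mk0 q hq0)⁻¹, ?_⟩
      rw [h1, Units.val_zpow_eq_zpow_val, Units.val_inv_eq_inv_val, Units.val_mk0, hq]
      field_simp
  refine ⟨goodF4.hG a c, goodF4.diagonal_le_group (goodF4.hG_mem ha c), ?_, fun hrs u => ?_⟩
  · rw [goodF4.hG_conj_xG hr, hc]
  · rw [goodF4.hG_conj_xG hs, h0.resolve_left hrs, zpow_zero, Units.val_one, one_mul]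

theorem rep_one [Fintype F] {r : ℕ} (hr : r < chevF4.nroots) (h : pair chevF4 r r = 2) {t : F} (ht : t ≠ 0) :
    GConj (goodF4.xG r t) (oneProd chevF4 goodF4 F [r]) := by
  obtain ⟨z, hz, e, -⟩ := scale_one hr hr hr (Or.inr h) (Or.inl rfl) ht
  exact ⟨z, hz, by rw [e]; simp [oneProd]⟩

theorem rep_two [Fintype F] {r s a b : ℕ} (ha : a < chevF4.nroots) (hb : b < chevF4.nroots) (hr : r < chevF4.nroots)
    (hs : s < chevF4.nroots) (hrs : r ≠ s) (h1 : pair chevF4 a r = 1 ∨ pair chevF4 a r = 2)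
    (h2 : pair chevF4 a s = 0) (h3 : pair chevF4 b s = 1 ∨ pair chevF4 b s = 2) (h4 : pair chevF4 b r = 0)
    {t u : F} (ht : t ≠ 0) (hu : u ≠ 0) :
    GConj (goodF4.xG r t * goodF4.xG s u) (oneProd chevF4 goodF4 F [r, s]) := by
  obtain ⟨z, hz, e1, e2⟩ := scale_one ha hr hs h1 (Or.inr h2) ht
  obtain ⟨w, hw, e3, e4⟩ := scale_one hb hs hr h3 (Or.inr h4) hu
  refine ⟨w * z, mul_mem hw hz, ?_⟩
  calc w * z * (goodF4.xG r t * goodF4.xG s u) * (w * z)⁻¹
      = w * (z * goodF4.xG r t * z⁻¹) * w⁻¹ * (w * (z * goodF4.xG s u * z⁻¹) * w⁻¹) := by group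
    _ = _ := by rw [e1, e2 hrs, e3, e4 hrs.symm]; simp [oneProd]

theorem pairs_ok : pair chevF4 47 47 = 2 ∧ pair chevF4 44 44 = 2 ∧ pair chevF4 39 39 = 2 ∧ pair chevF4 45 45 = 2 ∧
    pair chevF4 39 45 = 0 ∧ pair chevF4 45 39 = 0 ∧ pair chevF4 29 47 = 2 ∧ pair chevF4 29 44 = 0 ∧
    pair chevF4 41 44 = 1 ∧ pair chevF4 41 47 = 0 := by
  have key : fpair chevF4 47 47 = 2 ∧ fpair chevF4 44 44 = 2 ∧ fpair chevF4 39 39 = 2 ∧ fpair chevF4 45 45 = 2 ∧
      fpair chevF4 39 45 = 0 ∧ fpair chevF4 45 39 = 0 ∧ fpair chevF4 29 47 = 2 ∧ fpair chevF4 29 44 = 0 ∧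
      fpair chevF4 41 44 = 1 ∧ fpair chevF4 41 47 = 0 := by decide +kernel
  simp only [goodF4.fpair_eq _ (show (47 : ℕ) < chevF4.nroots by decide),
    goodF4.fpair_eq _ (show (45 : ℕ) < chevF4.nroots by decide),
    goodF4.fpair_eq _ (show (44 : ℕ) < chevF4.nroots by decide),
    goodF4.fpair_eq _ (show (39 : ℕ) < chevF4.nroots by decide)] at key
  exact key

theorem reps_ok [Fintype F] : ∀ R ∈ repsF4, Ok goodF4 (Classed (F := F)) R [] := by
  intro R hR A hA hne x hx hx2
  have e : x = vG goodF4 A := by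
    rw [Cng, XT_nil, Subgroup.mem_bot, inv_mul_eq_one] at hx
    exact hx.symm
  subst e
  obtain ⟨p1, p2, p3, p4, p5, p6, p7, p8, p9, p10⟩ := pairs_ok
  simp only [repsF4, List.mem_cons, List.not_mem_nil, or_false] at hR
  rcases hR with rfl | rfl | rfl | rfl | rfl
  · obtain ⟨⟨r, t⟩, B, rfl, rfl, hB⟩ := List.map_eq_cons_iff.1 hA
    rw [List.map_eq_nil_iff] at hB; subst hB
    exact Or.inr ⟨[47], by simp, by rw [vG_single]; exact rep_one (by decide) p1 (hne (47, t) (by simp))⟩
  · obtain ⟨⟨r, t⟩, B, rfl, rfl, hB⟩ := List.map_eq_cons_iff.1 hA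
    rw [List.map_eq_nil_iff] at hB; subst hB
    exact Or.inr ⟨[44], by simp, by rw [vG_single]; exact rep_one (by decide) p2 (hne (44, t) (by simp))⟩
  · obtain ⟨⟨r, t⟩, B, rfl, rfl, hB⟩ := List.map_eq_cons_iff.1 hA
    obtain ⟨⟨s, u⟩, B', rfl, rfl, hB'⟩ := List.map_eq_cons_iff.1 hB
    rw [List.map_eq_nil_iff] at hB'; subst hB'
    refine Or.inr ⟨[47, 44], by simp, ?_⟩
    rw [vG_cons, vG_single]
    exact rep_two (a := 29) (b := 41) (by decide) (by decide) (by decide) (by decide) (by decide) (Or.inr p7) p8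
      (Or.inl p9) p10 (hne (47, t) (by simp)) (hne (44, u) (by simp))
  · obtain ⟨⟨r, t⟩, B, rfl, rfl, hB⟩ := List.map_eq_cons_iff.1 hA
    obtain ⟨⟨s, u⟩, B', rfl, rfl, hB'⟩ := List.map_eq_cons_iff.1 hB
    rw [List.map_eq_nil_iff] at hB'; subst hB'
    refine Or.inr ⟨[39, 45], by simp, ?_⟩
    rw [vG_cons, vG_single]
    exact rep_two (a := 39) (b := 45) (by decide) (by decide) (by decide) (by decide) (by decide) (Or.inr p3) p5
      (Or.inr p4) p6 (hne (39, t) (by simp)) (hne (45, u) (by simp))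
  · rw [List.map_eq_nil_iff] at hA; subst hA
    exact Or.inl (vA_nil _)

theorem root_node : (nth ([], [], Step.leaf) nodesF4 (nodesF4.length - 1)).1 = [] ∧
    (nth ([], [], Step.leaf) nodesF4 (nodesF4.length - 1)).2.1 = List.range' 24 24 := by
  decide +kernel

/-- Every involution is conjugate to a representative. -/
theorem classesF4 [Fintype F] {x : GL chevF4.Idx F} (hx : x ∈ chevF4.group F) (ho : orderOf x = 2) :
    ∃ R ∈ ([[47], [44], [47, 44], [39, 45]] : List (List ℕ)), GConj x (oneProd chevF4 goodF4 F R) := by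
  haveI : Fact (Nat.Prime 2) := ⟨Nat.prime_two⟩
  have hx2 : x * x = 1 := by rw [← sq, ← ho, pow_orderOf_eq_one]
  obtain ⟨P, hP⟩ := CfsgLib.KnownA.Chev.exists_sylow_posUnipotent goodF4 (F := F) hcF4 2
  obtain ⟨xx, hxx⟩ : ∃ xx : ↥(chevF4.group F), xx = ⟨x, hx⟩ := ⟨_, rfl⟩
  have hzp : IsPGroup 2 (Subgroup.zpowers xx) :=
    IsPGroup.of_card (n := 1) (by rw [Nat.card_zpowers, pow_one, ← Subgroup.orderOf_coe, hxx]; exact ho)
  obtain ⟨S, hS⟩ := hzp.exists_le_sylow
  obtain ⟨k, hk⟩ := MulAction.exists_smul_eq (↥(chevF4.group F)) S P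
  have hmem : k * xx * k⁻¹ ∈ (P : Subgroup ↥(chevF4.group F)) := by
    rw [← hk, Sylow.coe_subgroup_smul]
    exact ⟨xx, hS (Subgroup.mem_zpowers _), rfl⟩
  rw [hP, Subgroup.mem_subgroupOf, Subgroup.coe_mul, Subgroup.coe_mul, Subgroup.coe_inv, hxx] at hmem
  have hlast : nodesF4.length - 1 < nodesF4.length := by rw [nodesF4_len]; norm_num
  have hroot := nodes_sound goodF4 hcF4 (F := F) tabF4_ok checksF4 structChecksF4 classed_stable reps_ok nodesF4_ok
    _ hlast
  rw [root_node.1, root_node.2] at hroot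
  have hle : chevF4.posUnipotent F ≤ XT chevF4 F (List.range' 24 24) := by
    rw [goodF4.posUnipotent_eq]
    refine goodF4.rootGen_le fun r hr hrn t => goodF4.mem_rootGen hrn ?_ t
    have e1 : half chevF4 = 24 := by decide
    have e2 : chevF4.nroots = 48 := rfl
    simp only [Set.mem_Ici, e1] at hr
    exact List.mem_range'_1.2 ⟨hr, by omega⟩
  have hcl : Classed ((k : GL chevF4.Idx F) * x * (k : GL chevF4.Idx F)⁻¹) := by
    refine hroot [] rfl (by simp) _ ?_ (by
      rw [show (k : GL chevF4.Idx F) * x * (k : GL chevF4.Idx F)⁻¹ * ((k : GL chevF4.Idx F) * x * (k : GL chevF4.Idx F)⁻¹) =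
        (k : GL chevF4.Idx F) * (x * x) * (k : GL chevF4.Idx F)⁻¹ by group, hx2]; group)
    simpa [Cng, vG, vA] using hle hmem
  rcases classed_stable _ k.2 x hcl with e | h
  · rw [e, orderOf_one] at ho; omega
  · exact h

/-- The representatives are involutions of the group. -/
theorem repsF4_order [Fintype F] {R : List ℕ} (hR : R ∈ ([[47], [44], [47, 44], [39, 45]] : List (List ℕ))) {k : ℕ}
    {U W B C : List (List ℕ)} (hok : rankOn chevF4 (upto (dimL chevF4)) R k U W B C = true) (hk : k ≠ 0) :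
    oneProd chevF4 goodF4 F R ∈ chevF4.group F ∧ orderOf (oneProd chevF4 goodF4 F R) = 2 := by
  have hb : R.all (fun r => decide (r < chevF4.nroots)) = true ∧
      allR (fun p => nrmB chevF4 tabF4 [] (maskT []) p && allR (fun q => inB chevF4 tabF4 (maskT []) p q) R) R = true := by
    simp only [List.mem_cons, List.not_mem_nil, or_false] at hR
    rcases hR with rfl | rfl | rfl | rfl <;> decide +kernel
  have hlt : ∀ r ∈ R, r < chevF4.nroots := fun r hr => of_decide_eq_true (List.all_eq_true.1 hb.1 r hr)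
  refine ⟨Subgroup.list_prod_mem _ fun y hy => ?_, orderOf_eq_prime (p := 2) (hp := ⟨Nat.prime_two⟩) ?_ fun e => ?_⟩
  · obtain ⟨r, hr, rfl⟩ := List.mem_map.1 hy
    exact goodF4.xG_mem_group (hlt r hr) 1
  · have hcm := commB_sound goodF4 hcF4 (F := F) tabF4_ok hb.2
    have h1 := cng_sq goodF4 hcF4 (R.map fun r => (r, (1 : F))) (by
      rw [List.map_map]; simpa [Function.comp_def] using hcm)
    have e : vG goodF4 (R.map fun r => (r, (1 : F))) = oneProd chevF4 goodF4 F R := by
      simp [vA, oneProd, List.map_map, Function.comp_def]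
    rw [e, Cng, XT_nil, Subgroup.mem_bot, inv_mul_eq_one] at h1
    rw [sq, h1]
  · have := rankOn_eq goodF4 checksF4 (F := F) hok
    rw [e, Units.val_one, sub_self, zero_mul, Matrix.rank_zero] at this
    exact hk this.symm

end CfsgLib.Chev.F4Cert
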