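import Mathlib
import Cfsg.Agent.Lib.Chev.SylowEigen
import Cfsg.Agent.Lib.Chev.SylowBound
import Cfsg.Agent.Lib.Chev.RootLattice

/-!
Weyl group elements modulo a prime which does not divide the order of the Weyl group: eigenvalues
give cyclotomic factors, and the pointwise stabiliser of a maximal eigenspace is trivial.
-/

set_option autoImplicit false

namespace CfsgLib.Chev.Springer

open Cfsg.Lie Matrix Polynomial

variable {D : ChevalleyDatum} (g : Good D) {r : ℕ} [Fact r.Prime]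

/-- An eigenvalue of order `d` modulo `r` puts `Φ_d` into the characteristic polynomial. -/
theorem weyl_cyclotomic_dvd (hrW : ¬ r ∣ Nat.card g.weyl) {π : Equiv.Perm (Fin D.nroots)} (hπ : π ∈ g.weyl)
    {d : ℕ} {ζ : ZMod r} (hζ : IsPrimitiveRoot ζ d) (hd : d ≠ 0) {v : Fin D.rank → ZMod r} (hv : v ≠ 0)
    (hRv : (g.coMat π).map (Int.cast : ℤ → ZMod r) *ᵥ v = ζ • v) :
    cyclotomic d ℤ ∣ (g.coMat π).charpoly := by
  have hζ0 : ζ ≠ 0 := hζ.ne_zero hd
  have hdr : d ∣ r - 1 := hζ.dvd_of_pow_eq_one _ (ZMod.pow_card_sub_one_eq_one hζ0)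
  have hrd : ¬ r ∣ d := fun h => by
    have := Nat.le_of_dvd (Nat.pos_of_ne_zero hd) h
    have := Nat.le_of_dvd (Nat.sub_pos_of_lt (Fact.out : r.Prime).one_lt) hdr
    omega
  have hRe : g.coMat π ^ orderOf (⟨π, hπ⟩ : ↥g.weyl) = 1 := by
    rw [← g.coMat_pow hπ, show π ^ orderOf (⟨π, hπ⟩ : ↥g.weyl) =
      ((⟨π, hπ⟩ : ↥g.weyl) ^ orderOf (⟨π, hπ⟩ : ↥g.weyl) : ↥g.weyl).1 from rfl, pow_orderOf_eq_one]
    exact g.coMat_one
  obtain ⟨t, ht, htd⟩ := exists_cyclotomic_pow_dvd hζ (orderOf_pos (⟨π, hπ⟩ : ↥g.weyl))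
    (fun h => hrW (h.trans (orderOf_dvd_natCard _))) hrd _ _ rfl (g.coMat π).charpoly_monic
    (fun μ hμ => charpoly_root_pow _ hRe μ hμ)
  have hroot : IsRoot ((g.coMat π).map (Int.cast : ℤ → ZMod r)).charpoly ζ := by
    rw [IsRoot.def, Matrix.eval_charpoly]
    refine Matrix.exists_mulVec_eq_zero_iff.1 ⟨v, hv, ?_⟩
    rw [Matrix.sub_mulVec, hRv, sub_eq_zero]
    funext a
    simp [Matrix.scalar_apply, Matrix.mulVec_diagonal]
  rw [show (g.coMat π).map (Int.cast : ℤ → ZMod r) = (g.coMat π).map (Int.castRingHom (ZMod r)) from rfl,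
    Matrix.charpoly_map] at hroot
  have hpos : 0 < t := ht ▸ (rootMultiplicity_pos ((g.coMat π).charpoly_monic.map _).ne_zero).2 hroot
  exact (dvd_pow_self _ hpos.ne').trans htd

omit [Fact r.Prime] in
lemma one_add_pow_sq_zero {S : Type*} [Ring S] {A : S} (hA : A * A = 0) (e : ℕ) :
    (1 + A) ^ e = 1 + (e : S) * A := by
  induction e with
  | zero => simp
  | succ e ih =>
    rw [pow_succ, ih, mul_add, mul_one, add_mul, one_mul, mul_assoc, hA, mul_zero, add_zero, Nat.cast_succ,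
      add_mul, one_mul, add_assoc]

/-- A Weyl element of order prime to `r` which is unipotent of level two modulo `r ^ j` is one. -/
theorem weyl_unipotent_eq_one (hrW : ¬ r ∣ Nat.card g.weyl) {π : Equiv.Perm (Fin D.nroots)} (hπ : π ∈ g.weyl)
    (j : ℕ) (h : (((g.coMat π).map (Int.cast : ℤ → ZMod (r ^ j))) - 1) *
      (((g.coMat π).map (Int.cast : ℤ → ZMod (r ^ j))) - 1) = 0) :
    (g.coMat π).map (Int.cast : ℤ → ZMod (r ^ j)) = 1 := by
  set M := (g.coMat π).map (Int.cast : ℤ → ZMod (r ^ j)) with hM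
  set e := orderOf (⟨π, hπ⟩ : ↥g.weyl) with he
  have hRe : g.coMat π ^ e = 1 := by
    rw [← g.coMat_pow hπ, show π ^ e = ((⟨π, hπ⟩ : ↥g.weyl) ^ e : ↥g.weyl).1 from rfl, he, pow_orderOf_eq_one]
    exact g.coMat_one
  have hMe : M ^ e = 1 := by
    rw [hM, show (g.coMat π).map (Int.cast : ℤ → ZMod (r ^ j)) =
      (Int.castRingHom (ZMod (r ^ j))).mapMatrix (g.coMat π) from rfl, ← map_pow, hRe, map_one]
  have h1 := one_add_pow_sq_zero h e
  rw [add_sub_cancel, hMe, left_eq_add] at h1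
  have hu : IsUnit ((e : ℕ) : ZMod (r ^ j)) := by
    rw [ZMod.isUnit_iff_coprime]
    exact Nat.Coprime.pow_right _ (((Fact.out : r.Prime).coprime_iff_not_dvd.2
      fun hd => hrW (hd.trans (orderOf_dvd_natCard _))).symm)
  have hu' : IsUnit ((e : ℕ) : Matrix (Fin D.rank) (Fin D.rank) (ZMod (r ^ j))) := by
    rw [← map_natCast (Matrix.scalar (Fin D.rank))]
    exact hu.map _
  exact sub_eq_zero.1 (hu'.mul_right_eq_zero.1 h1)

/-- A Weyl element congruent to one modulo `r` is one. -/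
theorem weyl_congr_eq_one (hrW : ¬ r ∣ Nat.card g.weyl) {π : Equiv.Perm (Fin D.nroots)} (hπ : π ∈ g.weyl)
    (h : (g.coMat π).map (Int.cast : ℤ → ZMod r) = 1) : π = 1 := by
  have hall : ∀ j : ℕ, ∀ a b, (r : ℤ) ^ (j + 1) ∣ (g.coMat π - 1) a b := by
    intro j
    induction j with
    | zero =>
      intro a b
      rw [pow_one, ← ZMod.intCast_zmod_eq_zero_iff_dvd]
      have h1 := congrFun (congrFun h a) b
      rw [Matrix.map_apply] at h1
      rw [Matrix.sub_apply, Int.cast_sub, h1, Matrix.one_apply, Matrix.one_apply]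
      split <;> simp
    | succ j ih =>
      intro a b
      have hm : ∀ a b, (((g.coMat π).map (Int.cast : ℤ → ZMod (r ^ (j + 1 + 1)))) - 1) a b =
          (((g.coMat π - 1) a b : ℤ) : ZMod (r ^ (j + 1 + 1))) := by
        intro a b
        rw [Matrix.sub_apply, Matrix.sub_apply, Int.cast_sub, Matrix.map_apply, Matrix.one_apply,
          Matrix.one_apply]
        split <;> simp
      have hM := weyl_unipotent_eq_one g hrW hπ (j + 1 + 1) (Matrix.ext fun a b => by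
        rw [Matrix.mul_apply, Matrix.zero_apply]
        refine Finset.sum_eq_zero fun c _ => ?_
        rw [hm, hm, ← Int.cast_mul, ZMod.intCast_zmod_eq_zero_iff_dvd, Nat.cast_pow]
        exact (pow_dvd_pow _ (by omega : j + 1 + 1 ≤ (j + 1) + (j + 1))).trans
          (pow_add (r : ℤ) _ _ ▸ mul_dvd_mul (ih a c) (ih c b)))
      rw [← Nat.cast_pow, ← ZMod.intCast_zmod_eq_zero_iff_dvd, ← hm, hM, sub_self, Matrix.zero_apply]
  refine g.coMat_eq_one hπ (sub_eq_zero.1 (Matrix.ext fun a b => ?_))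
  rw [Matrix.zero_apply]
  obtain ⟨j, hj⟩ := pow_unbounded_of_one_lt ((g.coMat π - 1) a b).natAbs
    (show 1 < r from (Fact.out : r.Prime).one_lt)
  refine Int.eq_zero_of_dvd_of_natAbs_lt_natAbs (hall j a b) ?_
  rw [Int.natAbs_pow, Int.natAbs_natCast, pow_succ]
  exact lt_of_lt_of_le hj (Nat.le_mul_of_pos_right _ (Fact.out : r.Prime).pos)

/-- An invariant form makes the pointwise stabiliser of a half-dimensional eigenspace trivial. -/
theorem weyl_eq_one_of_fix_eigen (hrW : ¬ r ∣ Nat.card g.weyl)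
    (N : Matrix (Fin D.rank) (Fin D.rank) ℤ) (hN : ∀ π ∈ g.weyl, (g.coMat π)ᵀ * N * g.coMat π = N)
    (hdet : ¬ (r : ℤ) ∣ N.det)
    {π ρ : Equiv.Perm (Fin D.nroots)} (hπ : π ∈ g.weyl) (hρ : ρ ∈ g.weyl)
    {q q' : ZMod r} (hqq : q * q' = 1) (hne : q ≠ q')
    (hquad : (g.coMat π).map (Int.cast : ℤ → ZMod r) * (g.coMat π).map (Int.cast : ℤ → ZMod r) -
      (q + q') • (g.coMat π).map (Int.cast : ℤ → ZMod r) + 1 = 0)
    (hfix : ∀ v, (g.coMat π).map (Int.cast : ℤ → ZMod r) *ᵥ v = q • v →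
      (g.coMat ρ).map (Int.cast : ℤ → ZMod r) *ᵥ v = v) : ρ = 1 := by
  set R := (g.coMat π).map (Int.cast : ℤ → ZMod r) with hR
  set P := (g.coMat ρ).map (Int.cast : ℤ → ZMod r) with hP
  set Nr := N.map (Int.cast : ℤ → ZMod r) with hNr
  have hinv : ∀ σ ∈ g.weyl, ∀ x y, ((g.coMat σ).map (Int.cast : ℤ → ZMod r) *ᵥ x) ⬝ᵥ
      (Nr *ᵥ ((g.coMat σ).map (Int.cast : ℤ → ZMod r) *ᵥ y)) = x ⬝ᵥ (Nr *ᵥ y) := by
    intro σ hσ x y
    have h := congrArg (fun A : Matrix (Fin D.rank) (Fin D.rank) ℤ => (Int.castRingHom (ZMod r)).mapMatrix A) (hN σ hσ)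
    simp only [map_mul] at h
    rw [Matrix.mulVec_mulVec, Matrix.dotProduct_mulVec, Matrix.vecMul_mulVec, ← Matrix.dotProduct_mulVec,
      ← Matrix.mul_assoc]
    exact congrArg (fun A => x ⬝ᵥ (A *ᵥ y)) h
  have hiso : ∀ (c : ZMod r) x y, c * c ≠ 1 → R *ᵥ x = c • x → R *ᵥ y = c • y → x ⬝ᵥ (Nr *ᵥ y) = 0 := by
    intro c x y hc hx hy
    have h := hinv π hπ x y
    rw [← hR, hx, hy, Matrix.mulVec_smul, smul_dotProduct, dotProduct_smul, smul_eq_mul, smul_eq_mul] at h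
    have : (c * c - 1) * (x ⬝ᵥ (Nr *ᵥ y)) = 0 := by linear_combination h
    exact (mul_eq_zero.1 this).resolve_left (sub_ne_zero.2 hc)
  have hqne : q * q ≠ 1 := fun h => hne (by
    have hq0 : q ≠ 0 := fun h0 => by rw [h0, zero_mul] at hqq; exact zero_ne_one hqq
    exact mul_left_cancel₀ hq0 (h.trans hqq.symm))
  have hqne' : q' * q' ≠ 1 := fun h => hne (by
    have hq0 : q' ≠ 0 := fun h0 => by rw [h0, mul_zero] at hqq; exact zero_ne_one hqq
    exact (mul_right_cancel₀ hq0 (hqq.trans h.symm)))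
  set k := (q - q')⁻¹ with hk
  have hk1 : k * (q - q') = 1 := inv_mul_cancel₀ (sub_ne_zero.2 hne)
  have hquad' : ∀ w, R *ᵥ (R *ᵥ w) = (q + q') • (R *ᵥ w) - w := fun w => by
    have h := congrArg (· *ᵥ w) hquad
    simp only [Matrix.add_mulVec, Matrix.sub_mulVec, Matrix.smul_mulVec, Matrix.one_mulVec, Matrix.zero_mulVec,
      ← Matrix.mulVec_mulVec] at h
    rw [eq_sub_iff_add_eq, ← sub_eq_zero, ← h]
    abel
  have hsplit : ∀ w, R *ᵥ (k • (R *ᵥ w - q' • w)) = q • (k • (R *ᵥ w - q' • w)) ∧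
      R *ᵥ (k • (q • w - R *ᵥ w)) = q' • (k • (q • w - R *ᵥ w)) ∧
      w = k • (R *ᵥ w - q' • w) + k • (q • w - R *ᵥ w) := by
    intro w
    refine ⟨?_, ?_, ?_⟩
    · funext i
      rw [Matrix.mulVec_smul, Matrix.mulVec_sub, Matrix.mulVec_smul, hquad']
      simp only [Pi.smul_apply, Pi.sub_apply, smul_eq_mul]
      linear_combination (k * w i) * hqq
    · funext i
      rw [Matrix.mulVec_smul, Matrix.mulVec_sub, Matrix.mulVec_smul, hquad']
      simp only [Pi.smul_apply, Pi.sub_apply, smul_eq_mul]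
      linear_combination (-k * w i) * hqq
    · funext i
      simp only [Pi.smul_apply, Pi.sub_apply, Pi.add_apply, smul_eq_mul]
      linear_combination (-(w i)) * hk1
  have hperp : ∀ w, (∀ v, R *ᵥ v = q • v → w ⬝ᵥ (Nr *ᵥ v) = 0) → R *ᵥ w = q • w := by
    intro w hw
    obtain ⟨h1, h2, h3⟩ := hsplit w
    set w1 := k • (R *ᵥ w - q' • w)
    set w2 := k • (q • w - R *ᵥ w)
    have hall : w2 ᵥ* Nr = 0 := by
      refine dotProduct_eq_zero _ fun z => ?_
      obtain ⟨z1, z2, z3⟩ := hsplit z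
      rw [← Matrix.dotProduct_mulVec, z3, Matrix.mulVec_add, dotProduct_add,
        hiso q' w2 _ hqne' h2 z2, add_zero]
      have h4 := hw _ z1
      rwa [h3, add_dotProduct, hiso q w1 _ hqne h1 z1, zero_add] at h4
    have hw2 : w2 = 0 := by
      refine Matrix.eq_zero_of_vecMul_eq_zero ?_ hall
      rw [hNr, show N.map (Int.cast : ℤ → ZMod r) = (Int.castRingHom (ZMod r)).mapMatrix N from rfl,
        ← RingHom.map_det, eq_intCast, ne_eq, ZMod.intCast_zmod_eq_zero_iff_dvd]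
      exact hdet
    rw [h3, hw2, add_zero]
    exact h1
  have hsq : (P - 1) * (P - 1) = 0 := by
    refine Matrix.toLin'.injective (LinearMap.ext fun u => ?_)
    rw [Matrix.toLin'_apply, map_zero, LinearMap.zero_apply, ← Matrix.mulVec_mulVec]
    have hu : R *ᵥ ((P - 1) *ᵥ u) = q • ((P - 1) *ᵥ u) := by
      refine hperp _ fun v hv => ?_
      have h := hinv ρ hρ u v
      rw [← hP, hfix v hv] at h
      rw [Matrix.sub_mulVec, Matrix.one_mulVec, sub_dotProduct, h, sub_self]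
    have h2 := hfix _ hu
    rw [Matrix.sub_mulVec P 1 ((P - 1) *ᵥ u), h2, Matrix.one_mulVec, sub_self]
  refine weyl_congr_eq_one g hrW hρ ?_
  haveI : Fact (r ^ 1).Prime := ⟨by rw [pow_one]; exact Fact.out⟩
  have h := weyl_unipotent_eq_one g hrW hρ 1
  rw [pow_one] at h
  exact h hsq

end CfsgLib.Chev.Springer
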