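import Mathlib
import Cfsg.Agent.Lib.Chev.OrderTables
import Cfsg.Agent.Lib.Chev.WeylEigen
import Cfsg.Agent.Lib.Chev.TwistFGTorus

/-!
Arithmetic of the order of F₄(q) at an odd prime, and the invariant form of its Weyl group.
-/

set_option autoImplicit false
set_option maxRecDepth 100000

namespace CfsgLib.Chev.F4Graph

open Cfsg.Lie Matrix Polynomial

variable {r : ℕ} [Fact r.Prime]

/-- The `r`-part of `Q ^ i - 1`. -/
theorem factorization_pow_sub_one {Q i : ℕ} (hQ : 2 ≤ Q) (hr : r ∣ Q - 1) (hi : 0 < i) (hri : ¬ r ∣ i) :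
    (Q ^ i - 1).factorization r = (Q - 1).factorization r := by
  have h1 : (Q - 1) * (∑ t ∈ Finset.range i, Q ^ t) = Q ^ i - 1 := by
    rw [mul_comm, Nat.geomSum_eq hQ, Nat.div_mul_cancel (Nat.sub_one_dvd_pow_sub_one Q i)]
  have hs : ¬ r ∣ ∑ t ∈ Finset.range i, Q ^ t := by
    rw [← CharP.cast_eq_zero_iff (ZMod r) r, Nat.cast_sum]
    have hQ1 : (Q : ZMod r) = 1 := by
      rw [show Q = Q - 1 + 1 by omega, Nat.cast_add, (CharP.cast_eq_zero_iff (ZMod r) r _).2 hr, zero_add,
        Nat.cast_one]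
    simp only [Nat.cast_pow, hQ1, one_pow, Finset.sum_const, Finset.card_range, nsmul_eq_mul, mul_one]
    rwa [CharP.cast_eq_zero_iff (ZMod r) r]
  have hs0 : ∑ t ∈ Finset.range i, Q ^ t ≠ 0 := fun h => hs (h ▸ dvd_zero r)
  rw [← h1, Nat.factorization_mul (by omega) hs0, Finsupp.add_apply,
    Nat.factorization_eq_zero_of_not_dvd hs, add_zero]

variable {q : ℕ}

lemma dvd_pow_sub_one_iff (hq : 1 ≤ q) (d : ℕ) : r ∣ q ^ d - 1 ↔ orderOf (q : ZMod r) ∣ d := by
  rw [orderOf_dvd_iff_pow_eq_one, ← CharP.cast_eq_zero_iff (ZMod r) r, Nat.cast_sub (Nat.one_le_pow _ _ hq),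
    Nat.cast_pow, Nat.cast_one, sub_eq_zero]

/-- The possible orders of `q` modulo a prime dividing the group order. -/
theorem order_mem (F : Type*) [Field F] [Fintype F] (hF : Fintype.card F = q) (hrq : ¬ r ∣ q)
    (h : r ∣ Nat.card ↥(chevF4.group F)) :
    orderOf (q : ZMod r) ∈ ({1, 2, 3, 4, 6, 8, 12} : Finset ℕ) := by
  have hq : 1 ≤ q := hF ▸ Fintype.card_pos
  have hc := card_groupF4 F
  rw [one_mul, hF] at hc
  rw [hc] at h
  have hp : r.Prime := Fact.out
  simp only [hp.dvd_mul, dvd_pow_sub_one_iff hq] at h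
  have hd : orderOf (q : ZMod r) ∣ 2 ∨ orderOf (q : ZMod r) ∣ 6 ∨ orderOf (q : ZMod r) ∣ 8 ∨
      orderOf (q : ZMod r) ∣ 12 := by
    rcases h with (((h | h) | h) | h) | h
    exacts [absurd (hp.dvd_of_dvd_pow h) hrq, Or.inl h, Or.inr (Or.inl h), Or.inr (Or.inr (Or.inl h)),
      Or.inr (Or.inr (Or.inr h))]
  have hmem : ∀ d ∈ ({2, 6, 8, 12} : Finset ℕ), d.divisors ⊆ ({1, 2, 3, 4, 6, 8, 12} : Finset ℕ) := by decide
  rcases hd with h | h | h | h <;>
    exact hmem _ (by decide) (Nat.mem_divisors.2 ⟨h, by norm_num⟩)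

/-- A prime with `q` of order at least three is prime to the order of the Weyl group. -/
theorem not_dvd_weyl (he : 3 ≤ orderOf (q : ZMod r)) (hrq : ¬ r ∣ q) : 5 ≤ r ∧ ¬ r ∣ 1152 := by
  have hp : r.Prime := Fact.out
  have h0 : (q : ZMod r) ≠ 0 := by rwa [ne_eq, CharP.cast_eq_zero_iff (ZMod r) r]
  have h1 := Nat.le_of_dvd (Nat.sub_pos_of_lt hp.one_lt)
    (orderOf_dvd_of_pow_eq_one (ZMod.pow_card_sub_one_eq_one h0))
  have h5 : 5 ≤ r := by
    by_contra h
    have : r = 4 := by omega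
    exact absurd (this ▸ hp) (by norm_num)
  refine ⟨h5, fun h => ?_⟩
  rw [show 1152 = 2 ^ 7 * 3 ^ 2 by norm_num] at h
  rcases hp.dvd_mul.1 h with h | h
  · have := (Nat.prime_dvd_prime_iff_eq hp Nat.prime_two).1 (hp.dvd_of_dvd_pow h); omega
  · have := (Nat.prime_dvd_prime_iff_eq hp Nat.prime_three).1 (hp.dvd_of_dvd_pow h); omega

/-- The `r`-part of the order of the group for a regular number with two-dimensional eigenspace. -/
theorem factorization_card (F : Type*) [Field F] [Fintype F] (hF : Fintype.card F = q) (hrq : ¬ r ∣ q)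
    (he : orderOf (q : ZMod r) ∈ ({3, 4, 6} : Finset ℕ)) :
    (Nat.card ↥(chevF4.group F)).factorization r = 2 * (q ^ orderOf (q : ZMod r) - 1).factorization r := by
  have hq : 1 ≤ q := hF ▸ Fintype.card_pos
  have hq2 : 2 ≤ q := hF ▸ Fintype.one_lt_card
  have he3 : 3 ≤ orderOf (q : ZMod r) := by
    simp only [Finset.mem_insert, Finset.mem_singleton] at he
    omega
  obtain ⟨h5, -⟩ := not_dvd_weyl he3 hrq
  have hp : r.Prime := Fact.out
  have hne : ∀ d, 1 ≤ d → q ^ d - 1 ≠ 0 := fun d hd => by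
    have : 2 ≤ q ^ d := le_trans hq2 (Nat.le_self_pow (by omega) q)
    omega
  set e := orderOf (q : ZMod r) with hedef
  have hval : ∀ d, 1 ≤ d → d ≤ 12 → (q ^ d - 1).factorization r =
      if e ∣ d then (q ^ e - 1).factorization r else 0 := by
    intro d hd1 hd12
    split
    · rename_i hdvd
      obtain ⟨i, rfl⟩ := hdvd
      rw [pow_mul]
      refine factorization_pow_sub_one (le_trans hq2 (Nat.le_self_pow (by omega) q))
        ((dvd_pow_sub_one_iff hq e).2 dvd_rfl) (Nat.pos_of_ne_zero fun h => by rw [h, mul_zero] at hd1; omega) ?_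
      intro hri
      have hi : i ≤ 4 := by
        have : 3 * i ≤ e * i := Nat.mul_le_mul_right i he3
        omega
      have hi0 : 0 < i := Nat.pos_of_ne_zero fun h => by rw [h, mul_zero] at hd1; omega
      have := Nat.le_of_dvd hi0 hri
      omega
    · rename_i hdvd
      exact Nat.factorization_eq_zero_of_not_dvd fun h => hdvd ((dvd_pow_sub_one_iff hq d).1 h)
  have hc := card_groupF4 F
  rw [one_mul, hF] at hc
  have n2 := hne 2 (by norm_num)
  have n6 := hne 6 (by norm_num)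
  have n8 := hne 8 (by norm_num)
  have n12 := hne 12 (by norm_num)
  have n0 : q ^ 24 ≠ 0 := by positivity
  rw [hc, Nat.factorization_mul (mul_ne_zero (mul_ne_zero (mul_ne_zero n0 n2) n6) n8) n12, Finsupp.add_apply,
    Nat.factorization_mul (mul_ne_zero (mul_ne_zero n0 n2) n6) n8, Finsupp.add_apply,
    Nat.factorization_mul (mul_ne_zero n0 n2) n6, Finsupp.add_apply,
    Nat.factorization_mul n0 n2, Finsupp.add_apply, hval 2 (by norm_num) (by norm_num),
    hval 6 (by norm_num) (by norm_num), hval 8 (by norm_num) (by norm_num), hval 12 (by norm_num) (by norm_num),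
    Nat.factorization_eq_zero_of_not_dvd (fun h => hrq (hp.dvd_of_dvd_pow h))]
  simp only [Finset.mem_insert, Finset.mem_singleton] at he
  rcases he with h | h | h <;> rw [h] <;> norm_num <;> ring

/-- The Gram matrix of the fundamental roots. -/
noncomputable def gramF4 : Matrix (Fin chevF4.rank) (Fin chevF4.rank) ℤ :=
  Matrix.of fun i j => ([1, 1, 2, 2].getD i.val 0 : ℤ) * cartanMat chevF4 i j

lemma gramF4_invariant : ∀ i : Fin chevF4.rank, Springer.simpleRefl chevF4 i * gramF4 * (Springer.simpleRefl chevF4 i)ᵀ = gramF4 := by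
  decide +kernel

lemma gramF4_symm : gramF4ᵀ = gramF4 := by decide +kernel

/-- The invariant form on coweights. -/
noncomputable def formF4 : Matrix (Fin chevF4.rank) (Fin chevF4.rank) ℤ :=
  Matrix.of fun i j => cartanInvF4 i j * ([4, 4, 2, 2].getD j.val 0 : ℤ)

lemma formF4_gram : formF4 * gramF4 = (4 : ℤ) • 1 := by decide +kernel

theorem formF4_invariant : ∀ π ∈ goodF4.weyl, (goodF4.coMat π)ᵀ * formF4 * goodF4.coMat π = formF4 := by
  intro π hπ
  have h := Springer.coMat_form goodF4 gramF4 gramF4_invariant π hπ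
  set M := goodF4.coMat π
  have h4 : gramF4 * formF4 = (4 : ℤ) • 1 := by decide +kernel
  have h1 : M * (gramF4 * Mᵀ * formF4) = (4 : ℤ) • 1 := by
    rw [← Matrix.mul_assoc, ← Matrix.mul_assoc, h, h4]
  have h2 : (gramF4 * Mᵀ * formF4) * M = (4 : ℤ) • 1 := by
    have hinv := goodF4.coMat_inv_mul hπ
    calc (gramF4 * Mᵀ * formF4) * M
        = goodF4.coMat π⁻¹ * M * (gramF4 * Mᵀ * formF4 * M) := by
          first
            | rw [hinv.1, Matrix.one_mul]
            | rw [hinv.2, Matrix.one_mul]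
      _ = goodF4.coMat π⁻¹ * (M * (gramF4 * Mᵀ * formF4)) * M := by simp only [Matrix.mul_assoc]
      _ = (4 : ℤ) • (goodF4.coMat π⁻¹ * M) := by rw [h1, Matrix.mul_smul, Matrix.mul_one, Matrix.smul_mul]
      _ = (4 : ℤ) • 1 := by
          first
            | rw [hinv.1]
            | rw [hinv.2]
  have h3 := congrArg (formF4 * ·) h2
  simp only [← Matrix.mul_assoc, formF4_gram, Matrix.smul_mul, Matrix.one_mul, Matrix.mul_smul, Matrix.mul_one] at h3
  exact smul_right_injective (Matrix (Fin chevF4.rank) (Fin chevF4.rank) ℤ) (by norm_num : (4 : ℤ) ≠ 0) h3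

lemma formF4_det : formF4.det ∣ 256 := by
  refine ⟨gramF4.det, ?_⟩
  have h := congrArg Matrix.det formF4_gram
  rw [Matrix.det_mul, Matrix.det_smul, Matrix.det_one, Fintype.card_fin, mul_one] at h
  rw [h]; rfl

theorem formF4_det_coprime (h5 : 5 ≤ r) : ¬ (r : ℤ) ∣ formF4.det := by
  intro h
  have h2 := h.trans formF4_det
  rw [show (256 : ℤ) = ((2 ^ 8 : ℕ) : ℤ) by norm_num, Int.natCast_dvd_natCast] at h2
  have := (Nat.prime_dvd_prime_iff_eq (Fact.out : r.Prime) Nat.prime_two).1 ((Fact.out : r.Prime).dvd_of_dvd_pow h2)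
  omega

end CfsgLib.Chev.F4Graph
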