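import Mathlib
import Cfsg.Agent.Lib.Chev.F4InvolStab
import Cfsg.Agent.Lib.Chev.WeylEigen

/-!
The Weyl group of type F₄ has no element with characteristic polynomial `Φ₃Φ₄`, `Φ₃Φ₆` or `Φ₄Φ₆`: the
traces of an element and of its square tell them apart.
-/

set_option autoImplicit false
set_option maxRecDepth 100000

namespace CfsgLib.Chev.F4Graph

open Cfsg.Lie Matrix Polynomial CfsgLib.Chev.F4Invol

/-- The rows of a word. -/
noncomputable def rowsOf (w : List ℕ) : List (List ℤ) :=
  (imgN w).map fun u => (List.range 4).map fun j => rootCo dataF4 u j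

/-- An entry. -/
noncomputable def entOf (M : List (List ℤ)) (i j : ℕ) : ℤ := (M.getD i []).getD j 0

/-- The trace. -/
noncomputable def trOf (M : List (List ℤ)) : ℤ := ((List.range 4).map fun i => entOf M i i).sum

/-- The trace of the square. -/
noncomputable def trSqOf (M : List (List ℤ)) : ℤ :=
  ((List.range 4).map fun i => ((List.range 4).map fun j => entOf M i j * entOf M j i).sum).sum

/-- The traces are not those of the three polynomials. -/
noncomputable def traceOK (M : List (List ℤ)) : Bool :=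
  !((trOf M == -1 && trSqOf M == -3) || (trOf M == 0 && trSqOf M == -2) || (trOf M == 1 && trSqOf M == -3))

set_option maxHeartbeats 4000000 in
theorem traceOK_all : (transS.all fun t => stabS.all fun w => traceOK (rowsOf (t ++ w))) = true := by
  decide +kernel

theorem entOf_eq (w : List ℕ) (i j : Fin chevF4.rank) :
    entOf (rowsOf w) i j = goodF4.coMat (goodF4.wperm (toW w)) i j := by
  show _ = goodF4.co (goodF4.wperm (toW w) (goodF4.sroot i) : ℕ) j
  rw [← goodF4.co_eq checksF4 structChecksF4 (goodF4.wperm (toW w) (goodF4.sroot i)).2 j.2, wperm_app,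
    show (goodF4.sroot i : ℕ) = [33, 27, 25, 24].getD i 0 from sroot_val i]
  have hi : (i : ℕ) < 4 := i.2
  have hj : (j : ℕ) < 4 := j.2
  simp only [entOf, rowsOf, imgN, List.map_cons, List.map_nil, show List.range 4 = [0, 1, 2, 3] from rfl]
  interval_cases (i : ℕ) <;> interval_cases (j : ℕ) <;>
    simp only [List.getD_cons_zero, List.getD_cons_succ]

theorem trace_pair {π : Equiv.Perm (Fin chevF4.nroots)} (hπ : π ∈ goodF4.weyl) :
    ¬ ((goodF4.coMat π).trace = -1 ∧ (goodF4.coMat π ^ 2).trace = -3) ∧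
    ¬ ((goodF4.coMat π).trace = 0 ∧ (goodF4.coMat π ^ 2).trace = -2) ∧
    ¬ ((goodF4.coMat π).trace = 1 ∧ (goodF4.coMat π ^ 2).trace = -3) := by
  obtain ⟨l, rfl⟩ := goodF4.exists_wperm hπ
  obtain ⟨t, ht, w, hw, e⟩ := weyl_cover stabOK_S l
  rw [e]
  set u := stabDataS.trans.getD t [] ++ w
  have h := traceOK_all
  rw [List.all_eq_true] at h
  have h1 := h (stabDataS.trans.getD t []) (by
    rw [List.getD_eq_getElem _ _ ht]; exact List.getElem_mem ht)
  rw [List.all_eq_true] at h1
  have h2 := h1 w hw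
  have e1 : trOf (rowsOf u) = (goodF4.coMat (goodF4.wperm (toW u))).trace := by
    rw [Matrix.trace, trOf]
    show _ = ∑ i : Fin 4, goodF4.coMat (goodF4.wperm (toW u)) i i
    rw [Fin.sum_univ_four]
    simp only [show List.range 4 = [0, 1, 2, 3] from rfl, List.map_cons, List.map_nil, List.sum_cons, List.sum_nil]
    rw [← entOf_eq u (0 : Fin 4) (0 : Fin 4), ← entOf_eq u (1 : Fin 4) (1 : Fin 4),
      ← entOf_eq u (2 : Fin 4) (2 : Fin 4), ← entOf_eq u (3 : Fin 4) (3 : Fin 4)]
    show entOf (rowsOf u) 0 0 + (entOf (rowsOf u) 1 1 + (entOf (rowsOf u) 2 2 + (entOf (rowsOf u) 3 3 + 0))) =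
      entOf (rowsOf u) 0 0 + entOf (rowsOf u) 1 1 + entOf (rowsOf u) 2 2 + entOf (rowsOf u) 3 3
    ring
  have e2 : trSqOf (rowsOf u) = (goodF4.coMat (goodF4.wperm (toW u)) ^ 2).trace := by
    rw [pow_two, Matrix.trace, trSqOf]
    show _ = ∑ i : Fin 4, ∑ j : Fin 4, goodF4.coMat (goodF4.wperm (toW u)) i j * goodF4.coMat (goodF4.wperm (toW u)) j i
    simp only [show List.range 4 = [0, 1, 2, 3] from rfl, List.map_cons, List.map_nil, List.sum_cons, List.sum_nil,
      Fin.sum_univ_four]
    have hE := fun a b : Fin 4 => (entOf_eq u a b).symm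
    simp only [hE]
    show entOf (rowsOf u) 0 0 * entOf (rowsOf u) 0 0 + (_ + (_ + (_ + 0))) + _ = _
    simp only [Fin.val_zero, Fin.val_one, Fin.val_two, show ((3 : Fin 4) : ℕ) = 3 from rfl]
    ring
  simp only [traceOK, Bool.not_eq_true', Bool.or_eq_false_iff, Bool.and_eq_false_iff, beq_eq_false_iff_ne] at h2
  rw [← e1, ← e2]
  obtain ⟨⟨hA, hB⟩, hC⟩ := h2
  exact ⟨fun ⟨a, b⟩ => hA.elim (fun h => h a) (fun h => h b), fun ⟨a, b⟩ => hB.elim (fun h => h a) (fun h => h b),
    fun ⟨a, b⟩ => hC.elim (fun h => h a) (fun h => h b)⟩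

end CfsgLib.Chev.F4Graph
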