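import Mathlib
import Cfsg.Agent.Lib.Chev.F4WeylTrace
import Cfsg.Agent.Lib.Chev.F4PrimeArith
import Cfsg.Agent.Lib.Chev.TorusFusePair
import Cfsg.Agent.Lib.Chev.SylowHomocyclic

/-!
F₄(q): two commuting semisimple elements of orders prime to the Weyl group share one Weyl twist, so the
cyclotomic polynomials of both orders of `q` divide one characteristic polynomial.
-/

set_option autoImplicit false
set_option maxHeartbeats 2000000
set_option maxRecDepth 100000

namespace CfsgLib.Chev.F4Graph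

open Cfsg.Lie Matrix Polynomial CfsgLib.Chev.Springer

theorem cartan_small : ∀ u : Fin chevF4.nroots, ∃ i : Fin chevF4.rank,
    chevF4.cartan i u ≠ 0 ∧ (chevF4.cartan i u).natAbs < 5 := by decide +kernel

variable (F : Type*) [Field F] [Fintype F]

theorem exists_common_twist (q : ℕ) (hF : Fintype.card F = q) {r s : ℕ} [Fact r.Prime] [Fact s.Prime]
    (hrq : ¬ r ∣ q) (hsq : ¬ s ∣ q) (her : 3 ≤ orderOf (q : ZMod r)) (hes : 3 ≤ orderOf (q : ZMod s))
    {x z : ↥(chevF4.group F)} (hx : orderOf x = r) (hz : orderOf z = s) (hxz : Commute x z) :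
    ∃ π ∈ goodF4.weyl, cyclotomic (orderOf (q : ZMod r)) ℤ ∣ (goodF4.coMat π).charpoly ∧
      cyclotomic (orderOf (q : ZMod s)) ℤ ∣ (goodF4.coMat π).charpoly := by
  classical
  set g := goodF4
  have hc : HasComm chevF4 := hasComm_of_mem (by simp)
  have hrp : r.Prime := Fact.out
  have hsp : s.Prime := Fact.out
  obtain ⟨hr5, hr1152⟩ := not_dvd_weyl her hrq
  obtain ⟨hs5, hs1152⟩ := not_dvd_weyl hes hsq
  have hrW : ¬ r ∣ Nat.card g.weyl := by rwa [card_weylF4]
  have hsW : ¬ s ∣ Nat.card g.weyl := by rwa [card_weylF4]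
  set p := ringChar F with hp
  haveI : Fact p.Prime := ⟨CharP.char_is_prime F p⟩
  obtain ⟨k₀, -, hk₀⟩ := FiniteField.card F p
  have hqp : q = p ^ (k₀ : ℕ) := by rw [← hF, hk₀]
  set K := orderOf (q : ZMod r) * orderOf (q : ZMod s) with hK
  have hK0 : K ≠ 0 := Nat.mul_ne_zero (by omega) (by omega)
  haveI : NeZero K := ⟨hK0⟩
  let L := FiniteField.Extension F p K
  haveI : Fintype L := Fintype.ofFinite L
  have hL : Fintype.card L = q ^ K := by
    rw [← Nat.card_eq_fintype_card, FiniteField.natCard_extension, Nat.card_eq_fintype_card, hF]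
  have hq2 : 2 ≤ q := hF ▸ Fintype.one_lt_card
  set M := q ^ K - 1 with hM
  have hMr : r ∣ M := (dvd_pow_sub_one_iff (by omega) K).2 (dvd_mul_right _ _)
  have hMs : s ∣ M := (dvd_pow_sub_one_iff (by omega) K).2 (dvd_mul_left _ _)
  have hM0 : 0 < M := Nat.sub_pos_of_lt (Nat.one_lt_pow hK0 (by omega))
  let ι : F →+* L := algebraMap F L
  let φ : L →+* L := (FiniteField.Extension.frob F p K).toRingEquiv.toRingHom
  have hφ : ∀ z : L, φ z = z ^ q := fun z => by
    rw [← hF, ← Nat.card_eq_fintype_card]; exact FiniteField.Extension.frob_apply ..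
  have hφι : ∀ a : F, φ (ι a) = ι a := fun a => by
    rw [hφ, ← map_pow, ← hF, FiniteField.pow_card]
  obtain ⟨γ, hγ⟩ := IsCyclic.exists_generator (α := Lˣ)
  have hγo : orderOf γ = M := by
    rw [orderOf_eq_card_of_forall_mem_zpowers hγ, Nat.card_units, Nat.card_eq_fintype_card, hL]
  have hδ : ∀ r' m : ℕ, M = m * r' → 0 < m → ∀ a b : ℤ, (γ ^ m) ^ a = (γ ^ m) ^ b ↔ (a : ZMod r') = (b : ZMod r') := by
    intro r' m hrm hm a b
    have ho : orderOf (γ ^ m) = r' := by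
      rw [orderOf_pow_of_dvd hm.ne' (by rw [hγo, hrm]; exact dvd_mul_right _ _), hγo, hrm,
        Nat.mul_div_cancel_left _ hm]
    rw [ZMod.intCast_eq_intCast_iff_dvd_sub, ← ho, orderOf_dvd_iff_zpow_eq_one, _root_.zpow_sub, mul_inv_eq_one]
    exact ⟨fun h => h.symm, fun h => h.symm⟩
  have hvec : ∀ r' m : ℕ, M = m * r' → 0 < m → ∀ e : Fin chevF4.rank → Lˣ, torHom chevF4 L e ^ r' = 1 →
      ∃ a : Fin chevF4.rank → ℤ, ∀ u : Fin chevF4.nroots, rootVal e u = (γ ^ m) ^ (∑ i, g.coVec u i * a i) := by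
    intro r' m hrm hm e he
    have hroot : ∀ j : Fin chevF4.rank, ∃ a : ℤ, (γ ^ m) ^ a = rootVal e (chevF4.simple j) := by
      intro j
      have h1 : rootVal e (chevF4.simple j) ^ r' = 1 := by
        rw [← rootVal_pow, g.rootVal_eq_of_torHom (show torHom chevF4 L (e ^ r') = torHom chevF4 L 1 by
          rw [map_pow, he, map_one]) (g.simple_lt j.2), rootVal_one]
      obtain ⟨k, hk⟩ := Subgroup.mem_zpowers_iff.1 (hγ (rootVal e (chevF4.simple j)))
      rw [← hk, ← zpow_natCast, ← _root_.zpow_mul, ← orderOf_dvd_iff_zpow_eq_one, hγo, hrm, Nat.cast_mul] at h1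
      have hr0 : (r' : ℤ) ≠ 0 := by
        intro h0; rw [Int.natCast_eq_zero.1 h0, mul_zero] at hrm; omega
      obtain ⟨a, ha⟩ := (mul_dvd_mul_iff_right hr0).1 h1
      exact ⟨a, by rw [← zpow_natCast, ← _root_.zpow_mul, ← hk, ha]⟩
    choose a ha using hroot
    refine ⟨a, fun u => ?_⟩
    rw [g.rootVal_eq_prod e u.2, zpow_finsum]
    refine Finset.prod_congr rfl fun j _ => ?_
    rw [← ha j, ← _root_.zpow_mul, mul_comm]
    rfl
  have hsum : ∀ (j : Fin chevF4.rank) (k : Fin chevF4.rank → ℤ), ∑ i, g.coVec (g.sroot j) i * k i = k j := by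
    intro j k
    simp [g.coVec_sroot]
  have hφval : ∀ (e : Fin chevF4.rank → Lˣ) (u : ℕ),
      rootVal (fun i => Units.map (φ : L →* L) (e i)) u = rootVal e u ^ q := by
    intro e u
    simp only [rootVal, ← Finset.prod_pow]
    refine Finset.prod_congr rfl fun i _ => ?_
    rw [show Units.map (φ : L →* L) (e i) = e i ^ q from Units.ext (by simp [hφ]), ← zpow_natCast (e i) q,
      ← zpow_natCast _ q, ← _root_.zpow_mul, ← _root_.zpow_mul, mul_comm]
  have heig : ∀ r' m : ℕ, M = m * r' → 0 < m → ∀ (e : Fin chevF4.rank → Lˣ) (a : Fin chevF4.rank → ℤ)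
      (n : GL chevF4.Idx L) (π : Equiv.Perm (Fin chevF4.nroots)), g.Acts n π →
      n * torHom chevF4 L e * n⁻¹ = scalarGL chevF4 φ (torHom chevF4 L e) →
      (∀ u : Fin chevF4.nroots, rootVal e u = (γ ^ m) ^ (∑ i, g.coVec u i * a i)) →
      (g.coMat π⁻¹).map (Int.cast : ℤ → ZMod r') *ᵥ (fun j => (a j : ZMod r')) = (q : ZMod r') • fun j => (a j : ZMod r') := by
    intro r' m hrm hm e a n π hπ hn ha
    funext j
    show ∑ t, ((g.coMat π⁻¹ j t : ℤ) : ZMod r') * ((a t : ℤ) : ZMod r') = (q : ZMod r') * ((a j : ℤ) : ZMod r')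
    rw [Finset.sum_congr rfl fun t _ => (Int.cast_mul (g.coMat π⁻¹ j t) (a t)).symm, ← Int.cast_sum,
      show (q : ZMod r') * ((a j : ℤ) : ZMod r') = (((q : ℤ) * a j : ℤ) : ZMod r') by push_cast; rfl,
      ← hδ r' m hrm hm]
    have h := g.rootVal_conj hπ (c := e) (hn.trans (scalarGL_torHom φ e)) (π⁻¹ (g.sroot j))
    rw [show π (π⁻¹ (g.sroot j)) = g.sroot j from π.apply_symm_apply _, hφval, ha, hsum, ha,
      ← zpow_natCast, ← _root_.zpow_mul, mul_comm (a j)] at h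
    rw [h]
    rfl
  have hne : ∀ r' m : ℕ, ∀ (e : Fin chevF4.rank → Lˣ) (a : Fin chevF4.rank → ℤ), M = m * r' → 0 < m →
      (∀ u : Fin chevF4.nroots, rootVal e u = (γ ^ m) ^ (∑ i, g.coVec u i * a i)) →
      torHom chevF4 L e ≠ 1 → (fun j => (a j : ZMod r')) ≠ 0 := by
    intro r' m e a hrm hm ha he h0
    refine he ?_
    rw [← map_one (torHom chevF4 L)]
    refine g.torHom_eq_of_simple fun j => ?_
    rw [show chevF4.simple j = ((g.sroot j : Fin chevF4.nroots) : ℕ) from rfl, ha, hsum, rootVal_one,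
      ← _root_.zpow_zero (γ ^ m), hδ r' m hrm hm, Int.cast_zero]
    exact congrFun h0 j
  let G' : ↥(chevF4.group F) →* ↥(chevF4.group L) :=
    ((scalarGL chevF4 ι).comp (chevF4.group F).subtype).codRestrict (chevF4.group L) fun w => g.scalarGL_mem ι w.2
  have hindex : ¬ r ∣ ((chevF4.diagonalSubgroup L).subgroupOf (chevF4.group L)).index := by
    intro hdvd
    set T' := (chevF4.diagonalSubgroup L).subgroupOf (chevF4.group L)
    have h1 := T'.card_mul_index
    rw [Nat.card_congr (Subgroup.subgroupOfEquivOfLe g.diagonal_le_group).toEquiv,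
      g.card_group hc, g.card_borel hc] at h1
    have h2 : T'.index = Fintype.card L ^ (chevF4.nroots / 2) * g.weylSum {i | i < chevF4.rank} (Fintype.card L) :=
      Nat.eq_of_mul_eq_mul_left (Nat.card_pos (α := ↥(chevF4.diagonalSubgroup L))) (h1.trans (by ring))
    have hQ : ((Fintype.card L : ℕ) : ZMod r) = 1 := by
      rw [hL, show q ^ K = M + 1 by omega, Nat.cast_add, (CharP.cast_eq_zero_iff (ZMod r) r M).2 hMr, zero_add,
        Nat.cast_one]
    rw [h2, ← CharP.cast_eq_zero_iff (ZMod r) r, Nat.cast_mul, Nat.cast_pow, hQ, one_pow, one_mul,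
      Good.weylSum, ← g.weyl_eq_wJ, Nat.cast_sum] at hdvd
    simp only [Nat.cast_pow, hQ, one_pow, Finset.sum_const, nsmul_eq_mul, mul_one] at hdvd
    rw [CharP.cast_eq_zero_iff (ZMod r) r] at hdvd
    refine hrW ?_
    rwa [Nat.card_eq_fintype_card, Fintype.card_subtype]
  have hxo : x ^ r = 1 := hx ▸ pow_orderOf_eq_one x
  have hzo : z ^ s = 1 := hz ▸ pow_orderOf_eq_one z
  have hx1 : x ≠ 1 := fun h => by rw [h, orderOf_one] at hx; exact hrp.one_lt.ne hx
  have hz1 : z ≠ 1 := fun h => by rw [h, orderOf_one] at hz; exact hsp.one_lt.ne hz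
  obtain ⟨⟨g0, hg0⟩, hmem⟩ := exists_conj_mem _ (show (G' x) ^ r = 1 by rw [← map_pow, hxo, map_one]) hindex
  have htd : g0⁻¹ * scalarGL chevF4 ι x * g0 ∈ chevF4.diagonalSubgroup L := Subgroup.mem_subgroupOf.1 hmem
  have hφx : ∀ w : GL chevF4.Idx F, scalarGL chevF4 φ (scalarGL chevF4 ι w) = scalarGL chevF4 ι w := fun w =>
    Units.ext (Matrix.ext fun i j => hφι _)
  have hinj : ∀ (a : GL chevF4.Idx L) (w : ↥(chevF4.group F)), a⁻¹ * scalarGL chevF4 ι w * a = 1 → w = 1 := by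
    intro a w hw
    refine Subtype.ext (scalarGL_injective ι ?_)
    rw [OneMemClass.coe_one, map_one]
    calc scalarGL chevF4 ι w = a * (a⁻¹ * scalarGL chevF4 ι w * a) * a⁻¹ := by group
      _ = 1 := by rw [hw, mul_one, mul_inv_cancel]
  have hpow : ∀ (a : GL chevF4.Idx L) (w : ↥(chevF4.group F)) (k : ℕ), w ^ k = 1 →
      (a⁻¹ * scalarGL chevF4 ι w * a) ^ k = 1 := by
    intro a w k hw
    rw [show a⁻¹ * scalarGL chevF4 ι w * a = a⁻¹ * scalarGL chevF4 ι w * a⁻¹⁻¹ by rw [inv_inv], conj_pow,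
      ← map_pow, show ((w : GL chevF4.Idx F) ^ k) = 1 from congrArg Subtype.val hw, map_one, mul_one, mul_inv_cancel]
  rw [g.diagonal_eq_range] at htd
  obtain ⟨c, hct⟩ := htd
  have hst : ¬ s ∣ Nat.card {ρ : g.weyl // ∀ u : Fin chevF4.nroots, rootVal c (ρ.1 u) = rootVal c u} := by
    intro hd
    let H : Subgroup g.weyl :=
      { carrier := {ρ | ∀ u : Fin chevF4.nroots, rootVal c (ρ.1 u) = rootVal c u}
        one_mem' := fun u => rfl
        mul_mem' := fun {p q} hp hq u => (hp (q.1 u)).trans (hq u)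
        inv_mem' := fun {p} hp u => by
          have h := hp ((p⁻¹ : ↥g.weyl).1 u)
          rw [show p.1 ((p⁻¹ : ↥g.weyl).1 u) = u from p.1.apply_symm_apply u] at h
          exact h.symm }
    exact hsW ((show s ∣ Nat.card H from hd).trans H.card_subgroup_dvd_card)
  obtain ⟨ms, hms⟩ := hMs
  obtain ⟨mr, hmr⟩ := hMr
  have hms0 : 0 < ms := Nat.pos_of_ne_zero fun h => by rw [h, mul_zero] at hms; omega
  have hmr0 : 0 < mr := Nat.pos_of_ne_zero fun h => by rw [h, mul_zero] at hmr; omega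
  rw [mul_comm] at hms hmr
  have hroot : ∀ u < chevF4.nroots, ∃ e : Fin chevF4.rank → Lˣ, e ^ s = 1 ∧ rootVal e u ≠ 1 := by
    intro u hu
    obtain ⟨i, hi0, hi5⟩ := cartan_small ⟨u, hu⟩
    have hsγ : (γ ^ ms) ^ s = 1 := by rw [← pow_mul, ← hms, ← hγo, pow_orderOf_eq_one]
    refine ⟨Pi.mulSingle i (γ ^ ms), ?_, ?_⟩
    · funext k
      rcases eq_or_ne k i with rfl | hk
      · simp [hsγ]
      · simp [hk]
    · intro h1
      have h2 : rootVal (Pi.mulSingle i (γ ^ ms)) u = (γ ^ ms) ^ chevF4.cartan i u := by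
        rw [rootVal, Finset.prod_eq_single i (fun b _ hb => by simp [hb]) (by simp), Pi.mulSingle_eq_same]
      rw [h2, ← _root_.zpow_zero (γ ^ ms), hδ s ms hms hms0, Int.cast_zero,
        ZMod.intCast_zmod_eq_zero_iff_dvd] at h1
      have h3 := Nat.le_of_dvd (Int.natAbs_pos.2 hi0) (Int.natCast_dvd.1 h1)
      omega
  set zh := g0⁻¹ * scalarGL chevF4 ι z * g0 with hzh
  have hzm : zh ∈ chevF4.group L := mul_mem (mul_mem (inv_mem hg0) (g.scalarGL_mem ι z.2)) hg0
  have hcz : Commute (torHom chevF4 L c) zh := by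
    rw [hct, hzh]
    calc g0⁻¹ * scalarGL chevF4 ι x * g0 * (g0⁻¹ * scalarGL chevF4 ι z * g0)
        = g0⁻¹ * scalarGL chevF4 ι ((x * z : ↥(chevF4.group F)) : GL chevF4.Idx F) * g0 := by
          rw [Subgroup.coe_mul, map_mul]; group
      _ = g0⁻¹ * scalarGL chevF4 ι ((z * x : ↥(chevF4.group F)) : GL chevF4.Idx F) * g0 := by rw [hxz.eq]
      _ = _ := by rw [Subgroup.coe_mul, map_mul]; group
  have hrp' : ¬ r ∣ p := fun h => hrq (hqp ▸ h.trans (dvd_pow_self p k₀.ne_zero))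
  have hsp' : ¬ s ∣ p := fun h => hsq (hqp ▸ h.trans (dvd_pow_self p k₀.ne_zero))
  obtain ⟨g1, hg1, ht1, hz2⟩ := g.exists_conj_torus_pair hc (p := p) (k := (k₀ : ℕ) * K)
    (by rw [hL, hqp, ← pow_mul]) (r := r) (s := s) hrp' hsp' hroot (hct ▸ hpow g0 x r hxo) hst hzm
    (hpow g0 z s hzo) hcz
  set gc := g0 * g1 with hgc
  have e1 : g1⁻¹ * torHom chevF4 L c * g1 = gc⁻¹ * scalarGL chevF4 ι x * gc := by rw [hct, hgc]; group
  have e2 : g1⁻¹ * zh * g1 = gc⁻¹ * scalarGL chevF4 ι z * gc := by rw [hzh, hgc]; group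
  rw [e1, g.diagonal_eq_range] at ht1
  rw [e2, g.diagonal_eq_range] at hz2
  obtain ⟨cx, hcx⟩ := ht1
  obtain ⟨cz, hcz'⟩ := hz2
  set af := gc⁻¹ * scalarGL chevF4 φ gc with haf
  obtain ⟨n, hn, hnt⟩ := diagonal_fusion_all g hc
    (inv_mem (mul_mem (inv_mem (mul_mem hg0 hg1)) (g.scalarGL_mem φ (mul_mem hg0 hg1))) : af⁻¹ ∈ chevF4.group L)
  have htw : ∀ (w : ↥(chevF4.group F)) (e : Fin chevF4.rank → Lˣ),
      torHom chevF4 L e = gc⁻¹ * scalarGL chevF4 ι w * gc →
      n * torHom chevF4 L e * n⁻¹ = scalarGL chevF4 φ (torHom chevF4 L e) := fun w e he => by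
    refine hnt _ _ (g.torHom_mem _) (by rw [scalarGL_torHom]; exact g.torHom_mem _) ?_
    rw [inv_inv, he, map_mul, map_mul, map_inv, hφx, haf]
    group
  obtain ⟨π, hπw, hπ⟩ := g.exists_acts hn
  obtain ⟨ax, hax⟩ := hvec r mr hmr hmr0 cx (hcx ▸ hpow gc x r hxo)
  obtain ⟨az, haz⟩ := hvec s ms hms hms0 cz (hcz' ▸ hpow gc z s hzo)
  refine ⟨π⁻¹, inv_mem hπw, ?_, ?_⟩
  · exact weyl_cyclotomic_dvd g hrW (inv_mem hπw) (IsPrimitiveRoot.orderOf _) (by omega)
      (hne r mr cx ax hmr hmr0 hax (fun h => hx1 (hinj gc x (hcx ▸ h))))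
      (heig r mr hmr hmr0 cx ax n π hπ (htw x cx hcx) hax)
  · exact weyl_cyclotomic_dvd g hsW (inv_mem hπw) (IsPrimitiveRoot.orderOf _) (by omega)
      (hne s ms cz az hms hms0 haz (fun h => hz1 (hinj gc z (hcz' ▸ h))))
      (heig s ms hms hms0 cz az n π hπ (htw z cz hcz') haz)

omit F in
/-- The determinant of a four by four matrix. -/
theorem det_four (A : Matrix (Fin 4) (Fin 4) ℤ) : A.det =
    A 0 0 * (A 1 1 * A 2 2 * A 3 3 - A 1 1 * A 2 3 * A 3 2 - A 1 2 * A 2 1 * A 3 3 + A 1 2 * A 2 3 * A 3 1 + A 1 3 * A 2 1 * A 3 2 - A 1 3 * A 2 2 * A 3 1) -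
    A 0 1 * (A 1 0 * A 2 2 * A 3 3 - A 1 0 * A 2 3 * A 3 2 - A 1 2 * A 2 0 * A 3 3 + A 1 2 * A 2 3 * A 3 0 + A 1 3 * A 2 0 * A 3 2 - A 1 3 * A 2 2 * A 3 0) +
    A 0 2 * (A 1 0 * A 2 1 * A 3 3 - A 1 0 * A 2 3 * A 3 1 - A 1 1 * A 2 0 * A 3 3 + A 1 1 * A 2 3 * A 3 0 + A 1 3 * A 2 0 * A 3 1 - A 1 3 * A 2 1 * A 3 0) -
    A 0 3 * (A 1 0 * A 2 1 * A 3 2 - A 1 0 * A 2 2 * A 3 1 - A 1 1 * A 2 0 * A 3 2 + A 1 1 * A 2 2 * A 3 0 + A 1 2 * A 2 0 * A 3 1 - A 1 2 * A 2 1 * A 3 0) := by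
  rw [Matrix.det_succ_row_zero, Fin.sum_univ_four]
  simp [Matrix.det_fin_three, Fin.succAbove]
  ring

omit F in
/-- The second coefficient of a quartic characteristic polynomial. -/
theorem trace_sq_quartic (M : Matrix (Fin 4) (Fin 4) ℤ) :
    M.charpoly.eval 1 + M.charpoly.eval (-1) - 2 * M.charpoly.eval 0 - 2 = M.trace ^ 2 - (M ^ 2).trace := by
  simp only [Matrix.eval_charpoly, det_four, pow_two M, Matrix.trace, Matrix.diag_apply, Matrix.mul_apply,
    Fin.sum_univ_four, Matrix.sub_apply, Matrix.scalar_apply]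
  simp only [Matrix.diagonal_apply_eq, ne_eq, Fin.reduceEq, not_false_eq_true, Matrix.diagonal_apply_ne]
  ring

/-- Two primes with different orders of `q` in `{3, 4, 6, 8, 12}` have no commuting elements. -/
theorem not_commute_high (q : ℕ) (hF : Fintype.card F = q) {r s : ℕ} [Fact r.Prime] [Fact s.Prime]
    (hrq : ¬ r ∣ q) (hsq : ¬ s ∣ q) (her : orderOf (q : ZMod r) ∈ ({3, 4, 6, 8, 12} : Finset ℕ))
    (hes : orderOf (q : ZMod s) ∈ ({3, 4, 6, 8, 12} : Finset ℕ)) (hne : orderOf (q : ZMod r) ≠ orderOf (q : ZMod s))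
    {x z : ↥(chevF4.group F)} (hx : orderOf x = r) (hz : orderOf z = s) (hxz : Commute x z) : False := by
  have h3 : ∀ e ∈ ({3, 4, 6, 8, 12} : Finset ℕ), 3 ≤ e ∧ (e.totient = 2 ∧ e ∈ ({3, 4, 6} : Finset ℕ) ∨ e.totient = 4) := by
    decide
  obtain ⟨π, hπ, hk, hl⟩ := exists_common_twist F q hF hrq hsq (h3 _ her).1 (h3 _ hes).1 hx hz hxz
  set k := orderOf (q : ZMod r)
  set l := orderOf (q : ZMod s)
  obtain ⟨w, hw⟩ := hk
  have hp : Prime (cyclotomic l ℤ) := (cyclotomic.irreducible (by have := (h3 _ hes).1; omega)).prime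
  have hlw : cyclotomic l ℤ ∣ w := by
    rw [hw] at hl
    refine (hp.dvd_or_dvd hl).resolve_left fun hd => hne ?_
    have he := eq_of_monic_of_associated (cyclotomic.monic l ℤ) (cyclotomic.monic k ℤ)
      (hp.irreducible.associated_of_dvd (cyclotomic.irreducible (by have := (h3 _ her).1; omega)) hd)
    exact (cyclotomic_injective (R := ℤ) he).symm
  have hdvd : cyclotomic k ℤ * cyclotomic l ℤ ∣ (goodF4.coMat π).charpoly := hw ▸ mul_dvd_mul_left _ hlw
  have hdeg := natDegree_le_of_dvd hdvd (Matrix.charpoly_monic _).ne_zero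
  rw [(cyclotomic.monic k ℤ).natDegree_mul (cyclotomic.monic l ℤ), natDegree_cyclotomic, natDegree_cyclotomic,
    Matrix.charpoly_natDegree_eq_dim, Fintype.card_fin, show chevF4.rank = 4 by decide +kernel] at hdeg
  have hk0 := Nat.totient_pos.2 (show 0 < k by have := (h3 _ her).1; omega)
  have hl0 := Nat.totient_pos.2 (show 0 < l by have := (h3 _ hes).1; omega)
  obtain ⟨hk2, hk'⟩ := ((h3 _ her).2.resolve_right fun h => by
    have := (h3 _ hes).2; omega)
  obtain ⟨hl2, hl'⟩ := ((h3 _ hes).2.resolve_right fun h => by omega)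
  have hchar : (goodF4.coMat π).charpoly = cyclotomic k ℤ * cyclotomic l ℤ := by
    refine eq_of_monic_of_dvd_of_natDegree_le ((cyclotomic.monic k ℤ).mul (cyclotomic.monic l ℤ))
      (Matrix.charpoly_monic _) hdvd ?_
    rw [(cyclotomic.monic k ℤ).natDegree_mul (cyclotomic.monic l ℤ), natDegree_cyclotomic, natDegree_cyclotomic,
      Matrix.charpoly_natDegree_eq_dim, Fintype.card_fin, show chevF4.rank = 4 by decide +kernel, hk2, hl2]
  obtain ⟨h34, h36, h46⟩ := trace_pair hπ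
  have hq4 := trace_sq_quartic (goodF4.coMat π)
  have htr : (goodF4.coMat π).trace = -(cyclotomic k ℤ * cyclotomic l ℤ).coeff 3 := by
    haveI : Nonempty (Fin chevF4.rank) := ⟨⟨0, by decide +kernel⟩⟩
    rw [Matrix.trace_eq_neg_charpoly_coeff, hchar, Fintype.card_fin,
      show chevF4.rank - 1 = 3 by decide +kernel]
  have hev : ∀ t : ℤ, (goodF4.coMat π).charpoly.eval t = (cyclotomic k ℤ).eval t * (cyclotomic l ℤ).eval t :=
    fun t => by rw [hchar, eval_mul]
  replace hq4 : (goodF4.coMat π).charpoly.eval 1 + (goodF4.coMat π).charpoly.eval (-1) -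
      2 * (goodF4.coMat π).charpoly.eval 0 - 2 = (goodF4.coMat π).trace ^ 2 - (goodF4.coMat π ^ 2).trace := hq4
  simp only [hev] at hq4
  have c4 : cyclotomic 4 ℤ = X ^ 2 + 1 := by
    haveI : Fact (Nat.Prime 2) := ⟨Nat.prime_two⟩
    rw [show (4 : ℕ) = 2 ^ (1 + 1) by norm_num, cyclotomic_prime_pow_eq_geom_sum Nat.prime_two]
    simp [Finset.sum_range_succ, add_comm]
  simp only [Finset.mem_insert, Finset.mem_singleton] at hk' hl'
  rcases hk' with hk' | hk' | hk' <;> rcases hl' with hl' | hl' | hl' <;>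
    first
      | exact hne (hk'.trans hl'.symm)
      | (rw [hk', hl'] at hq4 htr
         simp only [cyclotomic_three, c4, Polynomial.cyclotomic_six, mul_add, add_mul, mul_sub, sub_mul, mul_one,
           one_mul, ← pow_add, ← pow_succ, ← pow_succ', coeff_add, coeff_sub, coeff_X_pow, coeff_X, coeff_one,
           eval_add, eval_sub, eval_pow, eval_X, eval_one] at hq4 htr
         norm_num [coeff_X, coeff_one, coeff_X_pow] at hq4 htr
         rw [htr] at hq4
         norm_num at hq4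
         first
           | exact h34 ⟨htr, by linarith⟩
           | exact h36 ⟨htr, by linarith⟩
           | exact h46 ⟨htr, by linarith⟩)

end CfsgLib.Chev.F4Graph
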