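import Mathlib
import Cfsg.Agent.Lib.Chev.SpringerTorus
import Cfsg.Agent.Lib.Chev.OrderTables
import Cfsg.Agent.Lib.Chev.WeylTables
import Cfsg.Agent.Lib.Chev.CommGood
import Cfsg.Agent.Lib.Chev.TwistFGTorus

/-!
The cyclic self-centralising tori of F₄(q) and E₈(q).
-/

set_option autoImplicit false
set_option maxHeartbeats 1000000
set_option maxRecDepth 100000

namespace CfsgLib.Chev.Springer

open Cfsg.Lie Matrix Polynomial

theorem eval_cyclotomic_eight (x : ℤ) : (cyclotomic 8 ℤ).eval x = x ^ 4 + 1 := by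
  haveI : Fact (Nat.Prime 2) := ⟨Nat.prime_two⟩
  rw [show (8 : ℕ) = 2 ^ (2 + 1) by norm_num, cyclotomic_prime_pow_eq_geom_sum Nat.prime_two]
  simp [Finset.sum_range_succ, add_comm]

theorem eval_cyclotomic_thirty (x : ℤ) :
    (cyclotomic 30 ℤ).eval x = x ^ 8 + x ^ 7 - x ^ 5 - x ^ 4 - x ^ 3 + x + 1 := by
  have h6 : ∀ y : ℤ, (cyclotomic 6 ℤ).eval y = y ^ 2 - y + 1 := by
    intro y
    rw [Polynomial.cyclotomic_six]
    simp
  have h := congrArg (Polynomial.eval x)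
    (cyclotomic_expand_eq_cyclotomic_mul (p := 5) (n := 6) (by norm_num) (by norm_num) ℤ)
  rw [expand_eval, eval_mul, h6, h6, show 6 * 5 = 30 by norm_num] at h
  have hne : x ^ 2 - x + 1 ≠ 0 := by nlinarith [sq_nonneg (2 * x - 1)]
  refine mul_right_cancel₀ hne (h.symm.trans ?_)
  ring

/-- The inverse of the Cartan matrix of E8. -/
noncomputable def cartanInvE8 : Matrix (Fin chevE8.rank) (Fin chevE8.rank) ℤ :=
  Matrix.of fun i j =>
    nth 0 (nth [] [[4, 5, 7, 10, 8, 6, 4, 2], [5, 8, 10, 15, 12, 9, 6, 3], [7, 10, 14, 20, 16, 12, 8, 4],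
      [10, 15, 20, 30, 24, 18, 12, 6], [8, 12, 16, 24, 20, 15, 10, 5], [6, 9, 12, 18, 15, 12, 8, 4],
      [4, 6, 8, 12, 10, 8, 6, 3], [2, 3, 4, 6, 5, 4, 3, 2]] i.val) j.val

lemma cartanE8_mul_inv : cartanMat chevE8 * cartanInvE8 = 1 := by decide +kernel

lemma zmod_eight_poly {s : ℕ} [NeZero s] (h : ∀ x : ZMod s, x ^ 4 + 1 ≠ 0) (q : ℕ) : ¬ s ∣ q ^ 4 + 1 := by
  intro hd
  rw [← CharP.cast_eq_zero_iff (ZMod s) s] at hd
  push_cast at hd
  exact h _ hd

theorem exists_torus_F4 (F : Type*) [Field F] [Fintype F] (q : ℕ) (hF : Fintype.card F = q) :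
    ∃ H : Subgroup ↥(chevF4.group F), IsCyclic ↥H ∧ Nat.card ↥H = q ^ 4 + 1 ∧
      Subgroup.centralizer (H : Set ↥(chevF4.group F)) = H := by
  have hq2 : 2 ≤ q := hF ▸ Fintype.one_lt_card
  have h4 : ¬ 4 ∣ q ^ 4 + 1 := zmod_eight_poly (by decide) q
  have h3 : ¬ 3 ∣ q ^ 4 + 1 := zmod_eight_poly (by decide) q
  have h16 : 16 ≤ q ^ 4 := le_trans (by norm_num) (Nat.pow_le_pow_left hq2 4)
  obtain ⟨r, hr, hrN, hr2⟩ : ∃ r : ℕ, r.Prime ∧ r ∣ q ^ 4 + 1 ∧ r ≠ 2 := by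
    by_cases h2 : 2 ∣ q ^ 4 + 1
    · obtain ⟨m, hm⟩ := h2
      refine ⟨m.minFac, Nat.minFac_prime (by omega), m.minFac_dvd.trans ⟨2, by omega⟩, fun h => h4 ?_⟩
      rw [hm]
      exact mul_dvd_mul_left 2 (h ▸ m.minFac_dvd)
    · exact ⟨_, Nat.minFac_prime (by omega), Nat.minFac_dvd _, fun h => h2 (h ▸ Nat.minFac_dvd _)⟩
  haveI := Fact.mk hr
  have hN : (cyclotomic 8 ℤ).eval (q : ℤ) = ((q ^ 4 + 1 : ℕ) : ℤ) := by
    rw [eval_cyclotomic_eight]; push_cast; rfl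
  obtain ⟨H, h1, h2, h3'⟩ := exists_torus (d := 8) (r := r) goodF4 (hasComm_of_mem (by simp))
    (mul_eq_one_comm.1 cartanF4_mul_inv) F q hF (by decide +kernel) (by norm_num)
    (by rw [hN]; exact_mod_cast hrN)
    (fun h => hr2 ((Nat.prime_dvd_prime_iff_eq hr Nat.prime_two).1
      (hr.dvd_of_dvd_pow (n := 3) (by norm_num; exact h))))
    (fun h => by
      rw [card_weylF4, show 1152 = 2 ^ 7 * 3 ^ 2 by norm_num] at h
      rcases hr.dvd_mul.1 h with h | h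
      · exact hr2 ((Nat.prime_dvd_prime_iff_eq hr Nat.prime_two).1 (hr.dvd_of_dvd_pow h))
      · exact h3 ((Nat.prime_dvd_prime_iff_eq hr Nat.prime_three).1 (hr.dvd_of_dvd_pow h) ▸ hrN))
    (fun s hs hsd => by
      obtain rfl : s = 2 := (Nat.prime_dvd_prime_iff_eq hs Nat.prime_two).1
        (hs.dvd_of_dvd_pow (n := 3) (by norm_num; exact hsd))
      rw [hN]
      exact_mod_cast h4)
    (by
      have h8 : r ∣ q ^ 8 - 1 := hrN.trans ⟨q ^ 4 - 1, by rw [← Nat.sq_sub_sq _ 1]; ring_nf⟩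
      have h := card_groupF4 F
      rw [one_mul, hF] at h
      rw [h]
      exact dvd_mul_of_dvd_left (dvd_mul_of_dvd_right h8 _) _)
  refine ⟨H, h1, ?_, h3'⟩
  rw [h2, hN, Int.natAbs_natCast]

theorem exists_torus_E8 (F : Type*) [Field F] [Fintype F] (q : ℕ) (hF : Fintype.card F = q) :
    ∃ H : Subgroup ↥(chevE8.group F), IsCyclic ↥H ∧
      Nat.card ↥H = q ^ 8 + q ^ 7 - q ^ 5 - q ^ 4 - q ^ 3 + q + 1 ∧
      Subgroup.centralizer (H : Set ↥(chevE8.group F)) = H := by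
  have hq2 : 2 ≤ q := hF ▸ Fintype.one_lt_card
  have hle : q ^ 5 + q ^ 4 + q ^ 3 ≤ q ^ 8 + q ^ 7 := by
    have e1 : q ^ 5 ≤ q ^ 7 := Nat.pow_le_pow_right (by omega) (by norm_num)
    have e2 : q ^ 4 ≤ q ^ 7 := Nat.pow_le_pow_right (by omega) (by norm_num)
    have e3 : q ^ 3 ≤ q ^ 7 := Nat.pow_le_pow_right (by omega) (by norm_num)
    have e4 : 2 * q ^ 7 ≤ q ^ 8 := by rw [pow_succ q 7, mul_comm (q ^ 7)]; exact Nat.mul_le_mul_right _ hq2
    omega
  set N := q ^ 8 + q ^ 7 - q ^ 5 - q ^ 4 - q ^ 3 + q + 1 with hNdef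
  have hN : (cyclotomic 30 ℤ).eval (q : ℤ) = (N : ℤ) := by
    rw [eval_cyclotomic_thirty, hNdef, Nat.cast_add, Nat.cast_add, Nat.cast_sub (by omega),
      Nat.cast_sub (by omega), Nat.cast_sub (by omega)]
    push_cast
    ring
  have hnd : ∀ s : ℕ, s = 2 ∨ s = 3 ∨ s = 5 ∨ s = 7 → ¬ s ∣ N := by
    intro s hs hd
    have h : (((cyclotomic 30 ℤ).eval (q : ℤ) : ℤ) : ZMod s) = 0 := by
      rw [hN, Int.cast_natCast, CharP.cast_eq_zero_iff (ZMod s) s]; exact hd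
    rw [eval_cyclotomic_thirty] at h
    push_cast at h
    revert h
    generalize (q : ZMod s) = x
    rcases hs with rfl | rfl | rfl | rfl <;> revert x <;> decide
  obtain ⟨r, hr, hrN⟩ : ∃ r : ℕ, r.Prime ∧ r ∣ N :=
    ⟨N.minFac, Nat.minFac_prime (by omega), N.minFac_dvd⟩
  haveI := Fact.mk hr
  have hrne : ∀ s : ℕ, s = 2 ∨ s = 3 ∨ s = 5 ∨ s = 7 → r ≠ s := fun s hs h => hnd s hs (h ▸ hrN)
  have h30 : ∀ s : ℕ, s.Prime → s ∣ 30 → s = 2 ∨ s = 3 ∨ s = 5 := by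
    intro s hs h
    have h' := Nat.le_of_dvd (by norm_num) h
    interval_cases s <;> first | omega | (exfalso; revert hs h; decide)
  obtain ⟨H, h1, h2, h3'⟩ := exists_torus (d := 30) (r := r) goodE8 (hasComm_of_mem (by simp))
    (mul_eq_one_comm.1 cartanE8_mul_inv) F q hF (by decide +kernel) (by norm_num)
    (by rw [hN]; exact_mod_cast hrN)
    (fun h => by rcases h30 r hr h with h | h | h <;> exact hrne _ (by simp) h)
    (fun h => by
      rw [card_weylE8, show 696729600 = 2 ^ 14 * 3 ^ 5 * 5 ^ 2 * 7 ^ 1 by norm_num] at h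
      rcases hr.dvd_mul.1 h with h | h
      · rcases hr.dvd_mul.1 h with h | h
        · rcases hr.dvd_mul.1 h with h | h
          · exact hrne 2 (by simp) ((Nat.prime_dvd_prime_iff_eq hr Nat.prime_two).1 (hr.dvd_of_dvd_pow h))
          · exact hrne 3 (by simp) ((Nat.prime_dvd_prime_iff_eq hr Nat.prime_three).1 (hr.dvd_of_dvd_pow h))
        · exact hrne 5 (by simp) ((Nat.prime_dvd_prime_iff_eq hr (by norm_num)).1 (hr.dvd_of_dvd_pow h))
      · exact hrne 7 (by simp) ((Nat.prime_dvd_prime_iff_eq hr (by norm_num)).1 (hr.dvd_of_dvd_pow h)))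
    (fun s hs hsd => by
      rw [hN, ← Nat.cast_pow, Int.natCast_dvd_natCast]
      intro h
      refine hnd s ?_ ((dvd_pow_self s two_ne_zero).trans h)
      rcases h30 s hs hsd with h | h | h <;> simp [h])
    (by
      have h30' : r ∣ q ^ 30 - 1 := by
        have h := Polynomial.eval_dvd (cyclotomic.dvd_X_pow_sub_one 30 ℤ) (x := (q : ℤ))
        rw [hN, eval_sub, eval_pow, eval_X, eval_one] at h
        have h' : (N : ℤ) ∣ ((q ^ 30 - 1 : ℕ) : ℤ) := by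
          rw [Nat.cast_sub (Nat.one_le_pow _ _ (by omega))]
          simpa using h
        exact hrN.trans (Int.natCast_dvd_natCast.1 h')
      have h := card_groupE8 F
      rw [one_mul, hF] at h
      rw [h]
      exact dvd_mul_of_dvd_right h30' _)
  refine ⟨H, h1, ?_, h3'⟩
  rw [h2, hN, Int.natAbs_natCast]

end CfsgLib.Chev.Springer
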