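import Mathlib
import Cfsg.Agent.Lib.Chev.TorusFusePair

/-!
The centraliser of a family of torus elements without common root and common stabiliser is the torus.
-/

set_option autoImplicit false

namespace CfsgLib.Chev

open Cfsg.Lie Matrix

variable {D : ChevalleyDatum} {F : Type*} [Field F]

namespace Good

variable (g : Good D)
include g

/-- The centraliser of a regular family of torus elements lies in the torus. -/
theorem centralizer_family (hc : HasComm D) (S : Set (Fin D.rank → Fˣ))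
    (hreg : ∀ r < D.nroots, ∃ c ∈ S, rootVal c r ≠ 1)
    (hstab : ∀ π ∈ g.weyl, (∀ c ∈ S, ∀ s : Fin D.nroots, rootVal c (π s) = rootVal c s) → π = 1)
    {y : GL D.Idx F} (hy : y ∈ D.group F) (he : ∀ c ∈ S, y * torHom D F c = torHom D F c * y) :
    y ∈ D.diagonalSubgroup F := by
  obtain ⟨b, hb, n, hn, π, hπw, hπ, u, hu, rfl⟩ := g.exists_canonical hc hy
  obtain ⟨v, hv, h, hh, rfl⟩ := g.mem_borel.1 hb
  have key : ∀ c ∈ S, torHom D F c * v * (torHom D F c)⁻¹ = v ∧ torHom D F c * u * (torHom D F c)⁻¹ = u ∧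
      ∀ s : Fin D.nroots, rootVal c (π s) = rootVal c s := by
    intro c hcS
    have he := he c hcS
    set h₁ := torHom D F c with hh₁
    have h1 : h₁ ∈ D.diagonalSubgroup F := g.torHom_mem c
    have hu1 : h₁⁻¹ * u * h₁ ∈ rootGen D F (minusSet π) := by
      have := (Subgroup.mem_normalizer_iff.1
        (g.diagonal_le_normalizer_rootGen (minusSet π) (inv_mem h1)) u).1 hu
      rwa [inv_inv] at this
    have hk : n * h₁ * n⁻¹ ∈ D.diagonalSubgroup F := g.diag_conj hn h1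
    have hv2 : h₁ * v * h₁⁻¹ ∈ D.posUnipotent F :=
      (Subgroup.mem_normalizer_iff.1 (g.diagonal_le_normalizer_pos h1) v).1 hv
    have e : (v * (h * (n * h₁ * n⁻¹))) * n * (h₁⁻¹ * u * h₁) =
        (h₁ * v * h₁⁻¹ * (h₁ * h)) * n * u := by
      calc (v * (h * (n * h₁ * n⁻¹))) * n * (h₁⁻¹ * u * h₁) = v * h * n * u * h₁ := by group
        _ = h₁ * (v * h * n * u) := he
        _ = _ := by group
    obtain ⟨e3, e5⟩ := g.canonical_unique
      (g.mem_borel.2 ⟨v, hv, _, mul_mem hh hk, rfl⟩) (g.mem_borel.2 ⟨_, hv2, _, mul_mem h1 hh, rfl⟩)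
      hπ hu1 hu e
    have h3 : v⁻¹ * (h₁ * v * h₁⁻¹) ∈ D.posUnipotent F ⊓ D.diagonalSubgroup F := by
      refine Subgroup.mem_inf.2 ⟨mul_mem (inv_mem hv) hv2, ?_⟩
      have : v⁻¹ * (h₁ * v * h₁⁻¹) = h * (n * h₁ * n⁻¹) * (h₁ * h)⁻¹ := by
        rw [eq_mul_inv_iff_mul_eq, mul_assoc v⁻¹, inv_mul_eq_iff_eq_mul]
        exact e3.symm
      rw [this]
      exact mul_mem (mul_mem hh hk) (inv_mem (mul_mem h1 hh))
    rw [g.pos_inf_diagonal, Subgroup.mem_bot, inv_mul_eq_one] at h3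
    rw [← h3] at e3
    have e4 : h * (n * h₁ * n⁻¹) = h₁ * h := mul_left_cancel e3
    rw [g.diagonal_comm h1 hh] at e4
    have hnt : n * h₁ * n⁻¹ = h₁ := mul_left_cancel e4
    refine ⟨h3.symm, ?_, fun s => ?_⟩
    · calc h₁ * u * h₁⁻¹ = h₁ * (h₁⁻¹ * u * h₁) * h₁⁻¹ := by rw [e5]
        _ = u := by group
    ·
      obtain ⟨d, hd⟩ := hπ s
      have k1 := hd ((rootVal c s : F) * 1)
      rw [← g.conj_rootVal c s.2 1] at k1
      have k2 : n * (h₁ * g.xG s (1 : F) * h₁⁻¹) * n⁻¹ =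
          g.xG (π s) ((rootVal c (π s) : F) * ((d : F) * 1)) := by
        rw [← g.conj_rootVal c (π s).2 ((d : F) * 1), ← hd 1]
        calc n * (h₁ * g.xG s (1 : F) * h₁⁻¹) * n⁻¹
            = (n * h₁ * n⁻¹) * (n * g.xG s (1 : F) * n⁻¹) * (n * h₁ * n⁻¹)⁻¹ := by group
          _ = _ := by rw [hnt]
      have k3 : g.xG (π s) ((d : F) * ((rootVal c s : F) * 1)) =
          g.xG (π s) ((rootVal c (π s) : F) * ((d : F) * 1)) := k1.symm.trans k2
      have k4 := congrArg (fun z : GL D.Idx F => z * (g.xG (π s) ((rootVal c (π s) : F) * ((d : F) * 1)))⁻¹) k3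
      rw [mul_inv_cancel, g.xG_inv, g.xG_add] at k4
      have k5 := (g.x_eq_one_iff (π s).2 _).1 (by
        have := congrArg Units.val k4
        rwa [g.coe_xG, Units.val_one] at this)
      refine Units.ext ?_
      have hd0 := d.ne_zero
      have : (d : F) * ((rootVal c s : F) - (rootVal c (π s) : F)) = 0 := by linear_combination k5
      exact (sub_eq_zero.1 ((mul_eq_zero.1 this).resolve_left hd0)).symm
  have hv1 : v = 1 := g.pos_fixed_eq_one_family hc hv fun r hr => by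
    obtain ⟨c, hcS, hne⟩ := hreg r hr
    exact ⟨c, hne, (key c hcS).1⟩
  have hu2 : u = 1 := g.pos_fixed_eq_one_family hc (g.minus_le_pos π hu) fun r hr => by
    obtain ⟨c, hcS, hne⟩ := hreg r hr
    exact ⟨c, hne, (key c hcS).2.1⟩
  have hπ1 : π = 1 := hstab π hπw fun c hcS => (key c hcS).2.2
  have hn1 : n ∈ D.diagonalSubgroup F := by
    have hk' : (⟨n, hn⟩ : ↥(D.monomialSubgroup F)) ∈ (g.rootAct (F := F)).ker :=
      Subtype.ext (g.rootAct_eq (by rw [hπ1] at hπ; exact hπ))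
    rw [g.rootAct_ker, Subgroup.mem_subgroupOf] at hk'
    exact hk'
  rw [hv1, hu2, one_mul, mul_one]
  exact mul_mem hh hn1

end Good

end CfsgLib.Chev
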