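import Mathlib
import Cfsg.Agent.Lib.Chev.SylowHomocyclic
import Cfsg.Agent.Lib.Chev.SpringerTorusInst
import Cfsg.Agent.Lib.Chev.KerTorsion
import Cfsg.Agent.Lib.Chev.TorusCentralFamily
import Cfsg.Agent.Lib.Chev.F4PrimeArith

/-!
F₄(q): for a regular number `e ∈ {3, 4, 6}` a Sylow subgroup of a prime with `q` of order `e` lies in a
maximal torus of order `Φ_e(q)²`, so two such primes are joined in the prime graph.
-/

set_option autoImplicit false
set_option maxHeartbeats 2000000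
set_option maxRecDepth 100000

namespace CfsgLib.Chev.F4Graph

open Cfsg.Lie Matrix Polynomial CfsgLib.Chev.Springer

theorem cyclotomic_quad {e : ℕ} (he : e ∈ ({3, 4, 6} : Finset ℕ)) :
    ∃ s : ℤ, cyclotomic e ℤ = X ^ 2 - C s * X + 1 := by
  simp only [Finset.mem_insert, Finset.mem_singleton] at he
  rcases he with rfl | rfl | rfl
  · exact ⟨-1, by rw [cyclotomic_three]; simp⟩
  · refine ⟨0, ?_⟩
    haveI : Fact (Nat.Prime 2) := ⟨Nat.prime_two⟩
    rw [show (4 : ℕ) = 2 ^ (1 + 1) by norm_num, cyclotomic_prime_pow_eq_geom_sum Nat.prime_two]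
    simp [Finset.sum_range_succ, add_comm]
  · exact ⟨1, by rw [Polynomial.cyclotomic_six]; simp⟩

theorem totient_two {e : ℕ} (he : e ∈ ({3, 4, 6} : Finset ℕ)) : e.totient = 2 := by
  revert e; decide

theorem exists_commuting_same (F : Type*) [Field F] [Fintype F] (q : ℕ) (hF : Fintype.card F = q)
    {r : ℕ} [Fact r.Prime] {s : ℕ} [Fact s.Prime] (hrq : ¬ r ∣ q)
    (he : orderOf (q : ZMod r) ∈ ({3, 4, 6} : Finset ℕ))
    (hs : orderOf (q : ZMod s) = orderOf (q : ZMod r)) :
    ∃ x y : ↥(chevF4.group F), orderOf x = r ∧ orderOf y = s ∧ Commute x y := by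
  set g := goodF4
  have hc : HasComm chevF4 := hasComm_of_mem (by simp)
  have hB : cartanInvF4 * cartanMat chevF4 = 1 := mul_eq_one_comm.1 cartanF4_mul_inv
  have he3 : 3 ≤ orderOf (q : ZMod r) := by
    simp only [Finset.mem_insert, Finset.mem_singleton] at he
    omega
  obtain ⟨h5, hr1152⟩ := not_dvd_weyl he3 hrq
  have hrW : ¬ r ∣ Nat.card g.weyl := by rwa [card_weylF4]
  have ha := factorization_card F hF hrq he
  set v := (q ^ orderOf (q : ZMod r) - 1).factorization r with hvv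
  have hv : 0 < v := by
    have hq2 : 2 ≤ q := hF ▸ Fintype.one_lt_card
    have h1 : 2 ≤ q ^ orderOf (q : ZMod r) := le_trans hq2 (Nat.le_self_pow (by omega) q)
    exact (Fact.out : r.Prime).factorization_pos_of_dvd (by omega) ((dvd_pow_sub_one_iff (by omega) _).2 dvd_rfl)
  obtain ⟨P⟩ : Nonempty (Sylow r ↥(chevF4.group F)) := inferInstance
  classical
  set p := ringChar F
  haveI : Fact p.Prime := ⟨CharP.char_is_prime F p⟩
  have hrp : r.Prime := Fact.out
  set d := orderOf (q : ZMod r) with hd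
  have hq0 : (q : ZMod r) ≠ 0 := by rwa [ne_eq, CharP.cast_eq_zero_iff (ZMod r) r]
  have hdr : d ∣ r - 1 := orderOf_dvd_of_pow_eq_one (ZMod.pow_card_sub_one_eq_one hq0)
  have hd0 : 0 < d := Nat.pos_of_dvd_of_pos hdr (Nat.sub_pos_of_lt hrp.one_lt)
  have hrd : ¬ r ∣ d := fun h => by
    have := Nat.le_of_dvd hd0 h
    have := Nat.le_of_dvd (Nat.sub_pos_of_lt hrp.one_lt) hdr
    omega
  haveI : NeZero d := ⟨hd0.ne'⟩
  let L := FiniteField.Extension F p d
  haveI : Fintype L := Fintype.ofFinite L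
  have hL : Fintype.card L = q ^ d := by
    rw [← Nat.card_eq_fintype_card, FiniteField.natCard_extension, Nat.card_eq_fintype_card, hF]
  have hq2 : 2 ≤ q := hF ▸ Fintype.one_lt_card
  let ι : F →+* L := algebraMap F L
  let φ : L →+* L := (FiniteField.Extension.frob F p d).toRingEquiv.toRingHom
  have hφ : ∀ z : L, φ z = z ^ q := fun z => by
    rw [← hF, ← Nat.card_eq_fintype_card]; exact FiniteField.Extension.frob_apply ..
  have hφι : ∀ a : F, φ (ι a) = ι a := fun a => by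
    rw [hφ, ← map_pow, ← hF, FiniteField.pow_card]
  have hfix : ∀ z : L, φ z = z → ∃ a, ι a = z := fun z hz => by
    by_contra hne
    push Not at hne
    have hP0 : (Polynomial.X ^ q - Polynomial.X : L[X]) ≠ 0 := FiniteField.X_pow_card_sub_X_ne_zero L (by omega)
    have hsub : insert z (Finset.univ.image ι) ⊆ (Polynomial.X ^ q - Polynomial.X : L[X]).roots.toFinset := by
      intro w hw
      rw [Multiset.mem_toFinset, Polynomial.mem_roots hP0]
      rcases Finset.mem_insert.1 hw with rfl | hw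
      · simp [← hφ, hz]
      · obtain ⟨a, -, rfl⟩ := Finset.mem_image.1 hw
        simp [← hφ, hφι]
    have h1 := (Finset.card_le_card hsub).trans (Multiset.toFinset_card_le _) |>.trans (Polynomial.card_roots' _)
    rw [FiniteField.X_pow_card_sub_X_natDegree_eq L (by omega), Finset.card_insert_of_notMem (by
      simpa using hne), Finset.card_image_of_injective _ ι.injective, Finset.card_univ, hF] at h1
    omega
  obtain ⟨γ, hγ⟩ := IsCyclic.exists_generator (α := Lˣ)
  set M : ℕ := q ^ d - 1 with hMdef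
  have hqd : 1 < q ^ d := Nat.one_lt_pow hd0.ne' (by omega)
  have hγo : orderOf γ = M := by
    rw [orderOf_eq_card_of_forall_mem_zpowers hγ, Nat.card_units, Nat.card_eq_fintype_card, hL]
  set m := r ^ v with hm
  haveI : NeZero m := ⟨pow_ne_zero _ hrp.ne_zero⟩
  obtain ⟨M', hM'⟩ : m ∣ M := by rw [hm, hvv]; exact Nat.ordProj_dvd _ _
  have hM'0 : 0 < M' := Nat.pos_of_ne_zero fun h => by rw [h, mul_zero] at hM'; omega
  have hM'r : ¬ r ∣ M' := fun h => by
    have h1 : r ^ (v + 1) ∣ M := by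
      rw [hM', pow_succ]
      exact mul_dvd_mul_left _ h
    rw [hrp.pow_dvd_iff_le_factorization (by omega), ← hvv] at h1
    omega
  have hqv : (q : ZMod m) ^ d = 1 := by
    rw [← Nat.cast_pow, show q ^ d = M + 1 by omega, Nat.cast_add, Nat.cast_one,
      (CharP.cast_eq_zero_iff (ZMod m) m M).2 ⟨M', hM'⟩, zero_add]
  have hrM : r ∣ M := hM' ▸ (dvd_pow_self r hv.ne').trans (dvd_mul_right m M')
  have hQr : ((Fintype.card L : ℕ) : ZMod r) = 1 := by
    rw [hL, show q ^ d = M + 1 by omega, Nat.cast_add, (CharP.cast_eq_zero_iff (ZMod r) r M).2 hrM,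
      zero_add, Nat.cast_one]
  set δ := γ ^ M' with hδ
  have hδo : orderOf δ = m := by
    rw [hδ, orderOf_pow_of_dvd hM'0.ne' (by rw [hγo, hM']; exact dvd_mul_left _ _), hγo, hM',
      Nat.mul_div_cancel _ hM'0]
  have hδz : ∀ x y : ℤ, δ ^ x = δ ^ y ↔ (x : ZMod m) = (y : ZMod m) := fun x y => by
    rw [ZMod.intCast_eq_intCast_iff_dvd_sub, ← hδo, orderOf_dvd_iff_zpow_eq_one, _root_.zpow_sub,
      mul_inv_eq_one]
    exact ⟨fun h => h.symm, fun h => h.symm⟩
  have hroot : ∀ (z : Lˣ) (k : ℕ), z ^ r ^ k = 1 → ∃ a : ℤ, δ ^ a = z := by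
    intro z k hz
    obtain ⟨i, rfl⟩ := Subgroup.mem_zpowers_iff.1 (hγ z)
    rw [← zpow_natCast, ← _root_.zpow_mul, ← orderOf_dvd_iff_zpow_eq_one, hγo, hM', Nat.cast_mul] at hz
    have hco : IsCoprime (M' : ℤ) ((r ^ k : ℕ) : ℤ) := by
      rw [Int.isCoprime_iff_nat_coprime, Int.natAbs_natCast, Int.natAbs_natCast]
      exact Nat.Coprime.pow_right _ ((hrp.coprime_iff_not_dvd.2 hM'r).symm)
    obtain ⟨b, hb⟩ := hco.dvd_of_dvd_mul_right ((dvd_mul_left _ _).trans hz)
    exact ⟨b, by rw [hδ, ← zpow_natCast, ← _root_.zpow_mul, hb]⟩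
  -- conjugate the Sylow subgroup into the diagonal subgroup
  let G' : ↥(chevF4.group F) →* ↥(chevF4.group L) :=
    ((scalarGL chevF4 ι).comp (chevF4.group F).subtype).codRestrict (chevF4.group L) fun y => g.scalarGL_mem ι y.2
  set P' := (P : Subgroup ↥(chevF4.group F)).map G' with hP'
  have hP'p : IsPGroup r P' := P.2.map G'
  have hindex : ¬ r ∣ ((chevF4.diagonalSubgroup L).subgroupOf (chevF4.group L)).index := by
    intro hdvd
    set T' := (chevF4.diagonalSubgroup L).subgroupOf (chevF4.group L)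
    have h1 := T'.card_mul_index
    rw [Nat.card_congr (Subgroup.subgroupOfEquivOfLe g.diagonal_le_group).toEquiv,
      g.card_group hc, g.card_borel hc] at h1
    have h2 : T'.index = Fintype.card L ^ (chevF4.nroots / 2) * g.weylSum {i | i < chevF4.rank} (Fintype.card L) :=
      Nat.eq_of_mul_eq_mul_left (Nat.card_pos (α := ↥(chevF4.diagonalSubgroup L))) (h1.trans (by ring))
    rw [h2, ← CharP.cast_eq_zero_iff (ZMod r) r, Nat.cast_mul, Nat.cast_pow, hQr, one_pow, one_mul,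
      Good.weylSum, ← g.weyl_eq_wJ, Nat.cast_sum] at hdvd
    simp only [Nat.cast_pow, hQr, one_pow, Finset.sum_const, nsmul_eq_mul, mul_one] at hdvd
    rw [CharP.cast_eq_zero_iff (ZMod r) r] at hdvd
    refine hrW ?_
    rwa [Nat.card_eq_fintype_card, Fintype.card_subtype]
  obtain ⟨cc, hcc⟩ := hP'p.nonempty_fixed_point_of_prime_not_dvd_card
    (↥(chevF4.group L) ⧸ (chevF4.diagonalSubgroup L).subgroupOf (chevF4.group L)) hindex
  obtain ⟨⟨gc, hgc⟩, rfl⟩ := QuotientGroup.mk_surjective cc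
  let Θ : ↥(P : Subgroup ↥(chevF4.group F)) →* GL chevF4.Idx L :=
    (MulAut.conj gc⁻¹).toMonoidHom.comp
      ((scalarGL chevF4 ι).comp ((chevF4.group F).subtype.comp (P : Subgroup ↥(chevF4.group F)).subtype))
  have hΘv : ∀ y : ↥(P : Subgroup ↥(chevF4.group F)), Θ y = gc⁻¹ * scalarGL chevF4 ι (y : ↥(chevF4.group F)) * gc := fun y => by
    show gc⁻¹ * scalarGL chevF4 ι (y : ↥(chevF4.group F)) * gc⁻¹⁻¹ = _
    rw [inv_inv]
  have hΘinj : Function.Injective Θ := fun a b h =>
    Subtype.ext (Subtype.ext (scalarGL_injective ι ((MulEquiv.injective (MulAut.conj gc⁻¹)) h)))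
  have hΘd : ∀ y, Θ y ∈ chevF4.diagonalSubgroup L := by
    intro y
    have h := hcc ⟨G' y, Subgroup.mem_map_of_mem _ y.2⟩
    change (QuotientGroup.mk (G' y * ⟨gc, hgc⟩) : ↥(chevF4.group L) ⧸ _) = QuotientGroup.mk ⟨gc, hgc⟩ at h
    rw [eq_comm, QuotientGroup.eq, Subgroup.mem_subgroupOf] at h
    rw [hΘv]
    simpa [mul_assoc, G'] using h
  -- the exponents
  have hexp : ∀ y, ∃ a : Fin chevF4.rank → ℤ, ∀ c, torHom chevF4 L c = Θ y →
      ∀ u : Fin chevF4.nroots, rootVal c u = δ ^ (∑ i, g.coVec u i * a i) := by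
    intro y
    have hd' := hΘd y
    rw [g.diagonal_eq_range] at hd'
    obtain ⟨c, hct⟩ := hd'
    obtain ⟨k, hk⟩ := P.2 y
    have hcr : ∀ j : Fin chevF4.rank, ∃ a : ℤ, δ ^ a = rootVal c (chevF4.simple j) := fun j => by
      refine hroot _ k ?_
      have h1 : torHom chevF4 L (c ^ r ^ k) = torHom chevF4 L 1 := by
        rw [map_one, map_pow, hct, ← map_pow, hk, map_one]
      rw [← rootVal_pow, g.rootVal_eq_of_torHom h1 (g.simple_lt j.2), rootVal_one]
    choose a ha using hcr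
    refine ⟨a, fun c' hc' u => ?_⟩
    rw [g.rootVal_eq_of_torHom (hc'.trans hct.symm) u.2, g.rootVal_eq_prod c u.2, zpow_finsum]
    refine Finset.prod_congr rfl fun j _ => ?_
    rw [← ha j, ← _root_.zpow_mul, mul_comm]
    rfl
  choose ex hex using hexp
  have hsum : ∀ (j : Fin chevF4.rank) (k : Fin chevF4.rank → ℤ), ∑ i, g.coVec (g.sroot j) i * k i = k j := by
    intro j k
    simp [g.coVec_sroot]
  have hexj : ∀ y c, torHom chevF4 L c = Θ y → ∀ j : Fin chevF4.rank, rootVal c (chevF4.simple j) = δ ^ ex y j := by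
    intro y c hc' j
    rw [show chevF4.simple j = ((g.sroot j : Fin chevF4.nroots) : ℕ) from rfl, hex y c hc', hsum]
  have hdt : ∀ y, ∃ c, torHom chevF4 L c = Θ y := fun y => by
    have hd' := hΘd y
    rw [g.diagonal_eq_range] at hd'
    exact hd'
  choose ct hct using hdt
  let f : ↥(P : Subgroup ↥(chevF4.group F)) →* Multiplicative (Fin chevF4.rank → ZMod m) :=
    MonoidHom.mk' (fun y => Multiplicative.ofAdd fun j => (ex y j : ZMod m)) fun y y' => by
      rw [← ofAdd_add]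
      congr 1
      funext j
      rw [Pi.add_apply, ← Int.cast_add, ← hδz, _root_.zpow_add, ← hexj y _ (hct y), ← hexj y' _ (hct y'),
        ← rootVal_mul, ← hexj (y * y') (ct y * ct y') (by rw [map_mul, map_mul, hct, hct])]
  have hfinj : Function.Injective f := fun y y' h => hΘinj <| by
    rw [← hct y, ← hct y']
    refine g.torHom_eq_of_simple fun j => ?_
    rw [hexj y _ (hct y), hexj y' _ (hct y'), hδz]
    exact congrFun (Multiplicative.ofAdd.injective h) j
  -- the twist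
  have hφm : ∀ {z : GL chevF4.Idx L}, z ∈ chevF4.group L → scalarGL chevF4 φ z ∈ chevF4.group L := fun hz => g.scalarGL_mem φ hz
  have hφx : ∀ y : GL chevF4.Idx F, scalarGL chevF4 φ (scalarGL chevF4 ι y) = scalarGL chevF4 ι y := fun y =>
    Units.ext (Matrix.ext fun i j => hφι _)
  set af := gc⁻¹ * scalarGL chevF4 φ gc with haf
  obtain ⟨n, hn, hnt⟩ := diagonal_fusion_all g hc (inv_mem (mul_mem (inv_mem hgc) (hφm hgc)) : af⁻¹ ∈ chevF4.group L)
  obtain ⟨π, hπw, hπ⟩ := g.exists_acts hn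
  set R := g.coMat π⁻¹ with hR
  have hφval : ∀ (e : Fin chevF4.rank → Lˣ) (u : ℕ),
      rootVal (fun i => Units.map (φ : L →* L) (e i)) u = rootVal e u ^ q := by
    intro e u
    simp only [rootVal, ← Finset.prod_pow]
    refine Finset.prod_congr rfl fun i _ => ?_
    rw [show Units.map (φ : L →* L) (e i) = e i ^ q from Units.ext (by simp [hφ]), ← zpow_natCast (e i) q,
      ← zpow_natCast _ q, ← _root_.zpow_mul, ← _root_.zpow_mul, mul_comm]
  have hfR : ∀ y, R.map (Int.cast : ℤ → ZMod m) *ᵥ (f y).toAdd = (q : ZMod m) • (f y).toAdd := by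
    intro y
    funext j
    show ∑ t, ((R j t : ℤ) : ZMod m) * ((ex y t : ℤ) : ZMod m) = (q : ZMod m) * ((ex y j : ℤ) : ZMod m)
    rw [Finset.sum_congr rfl fun t _ => (Int.cast_mul (R j t) (ex y t)).symm, ← Int.cast_sum,
      ← Int.cast_natCast q, ← Int.cast_mul, ← hδz]
    have h1 : scalarGL chevF4 φ (torHom chevF4 L (ct y)) = af⁻¹ * torHom chevF4 L (ct y) * af := by
      rw [hct, hΘv, map_mul, map_mul, map_inv, hφx, haf]
      group
    have h2 : n * torHom chevF4 L (ct y) * n⁻¹ = scalarGL chevF4 φ (torHom chevF4 L (ct y)) :=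
      hnt _ _ (g.torHom_mem _) (by rw [scalarGL_torHom]; exact g.torHom_mem _) (by rw [h1, inv_inv])
    have h := g.rootVal_conj hπ (c := ct y) (h2.trans (scalarGL_torHom φ (ct y))) (π⁻¹ (g.sroot j))
    rw [show π (π⁻¹ (g.sroot j)) = g.sroot j from π.apply_symm_apply _, hφval, hex y _ (hct y), hsum,
      hex y _ (hct y), ← zpow_natCast, ← _root_.zpow_mul] at h
    rw [hR, mul_comm (q : ℤ), h]
    rfl
  have hπ' := inv_mem hπw
  have hRe : R ^ orderOf (⟨π⁻¹, hπ'⟩ : ↥g.weyl) = 1 := by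
    rw [hR, ← g.coMat_pow hπ', show (π⁻¹) ^ orderOf (⟨π⁻¹, hπ'⟩ : ↥g.weyl) =
      ((⟨π⁻¹, hπ'⟩ : ↥g.weyl) ^ orderOf (⟨π⁻¹, hπ'⟩ : ↥g.weyl) : ↥g.weyl).1 from rfl, pow_orderOf_eq_one]
    exact g.coMat_one
  obtain ⟨k, t, ⟨eK⟩, -, hkt, htd⟩ := eigen_free.{0} R hRe (orderOf_pos _)
    (fun h => hrW (h.trans (orderOf_dvd_natCard _))) hrd hd0 q hd.symm hv hqv
  have he2 : d.totient = 2 := totient_two he
  have ht2 : t ≤ 2 := by
    have h1 := Polynomial.natDegree_le_of_dvd htd R.charpoly_monic.ne_zero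
    rw [Polynomial.natDegree_pow, natDegree_cyclotomic, he2, Matrix.charpoly_natDegree_eq_dim, Fintype.card_fin,
      show chevF4.rank = 4 by decide +kernel] at h1
    omega
  have hcardP : Nat.card ↥(P : Subgroup ↥(chevF4.group F)) = m ^ 2 := by
    rw [P.card_eq_multiplicity, ha, hm, ← pow_mul, mul_comm]
  let W := {w : Fin chevF4.rank → ZMod m //
    R.map (Int.cast : ℤ → ZMod m) *ᵥ w = (q : ZMod m) • w}
  let f' : ↥(P : Subgroup ↥(chevF4.group F)) → W := fun y => ⟨(f y).toAdd, hfR y⟩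
  have hf'inj : Function.Injective f' := fun y y' h =>
    hfinj (Multiplicative.toAdd.injective (congrArg Subtype.val h))
  have hWcard : Nat.card W = m ^ k := by
    rw [Nat.card_congr eK, Nat.card_fun, Nat.card_fin, Nat.card_zmod]
  have hmle : m ^ 2 ≤ m ^ k := by
    rw [← hcardP, ← hWcard]
    exact Nat.card_le_card_of_injective f' hf'inj
  have hk2' : 2 ≤ k := (Nat.pow_le_pow_iff_right (Nat.one_lt_pow hv.ne' hrp.one_lt)).1 hmle
  obtain rfl : k = 2 := by omega
  obtain rfl : t = 2 := by omega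
  have hsurj : Function.Surjective f' :=
    ((Nat.bijective_iff_injective_and_card f').2 ⟨hf'inj, hcardP.trans hWcard.symm⟩).2
  have hchar : R.charpoly = cyclotomic d ℤ ^ 2 := by
    refine (eq_of_monic_of_dvd_of_natDegree_le ((cyclotomic.monic d ℤ).pow 2) R.charpoly_monic htd ?_)
    rw [Polynomial.natDegree_pow, natDegree_cyclotomic, he2, Matrix.charpoly_natDegree_eq_dim, Fintype.card_fin,
      show chevF4.rank = 4 by decide +kernel]
  obtain ⟨σ, hσ⟩ := cyclotomic_quad he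
  set qr : ZMod r := (q : ZMod r) with hqr
  have hroot' : qr * ((σ : ZMod r) - qr) = 1 := by
    have h : (cyclotomic d (ZMod r)).IsRoot qr := by
      haveI : NeZero (d : ZMod r) := ⟨by rw [ne_eq, CharP.cast_eq_zero_iff (ZMod r) r]; exact hrd⟩
      exact isRoot_cyclotomic_iff.2 (hd ▸ IsPrimitiveRoot.orderOf _)
    rw [← map_cyclotomic_int, hσ, IsRoot.def] at h
    simp at h
    linear_combination -h
  have hne' : qr ≠ (σ : ZMod r) - qr := by
    intro h
    rw [← h] at hroot'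
    have h2 := orderOf_dvd_of_pow_eq_one (n := 2) (x := qr) (by rw [sq]; exact hroot')
    have h2' := Nat.le_of_dvd two_pos h2
    rw [← hd] at h2'
    omega
  have hRquad : R.map (Int.cast : ℤ → ZMod r) * R.map (Int.cast : ℤ → ZMod r) -
      (qr + ((σ : ZMod r) - qr)) • R.map (Int.cast : ℤ → ZMod r) + 1 = 0 := by
    have h := aeval_eq_zero_of_charpoly_dvd g hπ' (cyclotomic d ℤ) (k := 2) two_ne_zero (by rw [← hR, hchar])
    rw [← hR, hσ] at h
    simp only [map_add, map_sub, map_pow, map_mul, aeval_X, aeval_C, map_one, Algebra.algebraMap_eq_smul_one,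
      Matrix.smul_mul, Matrix.one_mul] at h
    have h' := congrArg (Int.castRingHom (ZMod r)).mapMatrix h
    rw [map_add, map_sub, map_pow, map_zero, map_one, sq] at h'
    rw [show (Int.castRingHom (ZMod r)).mapMatrix (σ • R) = (σ : ZMod r) • R.map (Int.cast : ℤ → ZMod r) from
      Matrix.ext fun i j => by simp [-zsmul_eq_mul]] at h'
    rw [add_sub_cancel]
    exact h'
  -- every eigenvector modulo r comes from the Sylow subgroup
  obtain ⟨m', hm'⟩ : r ∣ m := dvd_pow_self r hv.ne'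
  have hm'0 : 0 < m' := Nat.pos_of_ne_zero fun h => by
    rw [h, mul_zero] at hm'; exact pow_ne_zero v hrp.ne_zero (hm ▸ hm')
  have hmem : ∀ w : Fin chevF4.rank → ℤ,
      R.map (Int.cast : ℤ → ZMod r) *ᵥ (fun j => (w j : ZMod r)) = qr • (fun j => (w j : ZMod r)) →
      ∃ y, ∀ u : Fin chevF4.nroots, rootVal (ct y) u = (δ ^ m') ^ (∑ i, g.coVec u i * w i) := by
    intro w hw
    obtain ⟨y, hy⟩ := hsurj ⟨fun j => (((m' : ℤ) * w j : ℤ) : ZMod m), by
      funext j
      have h := congrFun hw j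
      rw [Pi.smul_apply, smul_eq_mul, hqr] at h
      show ∑ t, ((R j t : ℤ) : ZMod m) * (((m' : ℤ) * w t : ℤ) : ZMod m) = (q : ZMod m) * _
      change ∑ t, ((R j t : ℤ) : ZMod r) * ((w t : ℤ) : ZMod r) = _ at h
      rw [Finset.sum_congr rfl fun t _ => (Int.cast_mul (R j t) (w t)).symm, ← Int.cast_sum,
        ← Int.cast_natCast q, ← Int.cast_mul, ZMod.intCast_eq_intCast_iff_dvd_sub] at h
      rw [Finset.sum_congr rfl fun t _ => (Int.cast_mul (R j t) ((m' : ℤ) * w t)).symm, ← Int.cast_sum,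
        ← Int.cast_natCast q, ← Int.cast_mul, ZMod.intCast_eq_intCast_iff_dvd_sub, hm', Nat.cast_mul]
      obtain ⟨z, hz⟩ := h
      refine ⟨z, ?_⟩
      rw [Finset.sum_congr rfl fun t _ => show R j t * ((m' : ℤ) * w t) = (m' : ℤ) * (R j t * w t) by ring,
        ← Finset.mul_sum]
      linear_combination (m' : ℤ) * hz⟩
    refine ⟨y, fun u => ?_⟩
    rw [hex y _ (hct y), ← zpow_natCast δ m', ← _root_.zpow_mul, hδz, Finset.mul_sum, Int.cast_sum, Int.cast_sum]
    refine Finset.sum_congr rfl fun i _ => ?_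
    have h : (ex y i : ZMod m) = (((m' : ℤ) * w i : ℤ) : ZMod m) := congrFun (congrArg Subtype.val hy) i
    rw [Int.cast_mul, h]
    push_cast
    ring
  have hδr : ∀ a b : ℤ, (δ ^ m') ^ a = (δ ^ m') ^ b ↔ (a : ZMod r) = (b : ZMod r) := fun a b => by
    rw [ZMod.intCast_eq_intCast_iff_dvd_sub,
      show r = orderOf (δ ^ m') by
        rw [orderOf_pow_of_dvd hm'0.ne' (by rw [hδo, hm']; exact dvd_mul_left _ _), hδo, hm',
          Nat.mul_div_cancel _ hm'0],
      orderOf_dvd_iff_zpow_eq_one, _root_.zpow_sub, mul_inv_eq_one]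
    exact ⟨fun h => h.symm, fun h => h.symm⟩
  have hlift : ∀ v : Fin chevF4.rank → ZMod r, R.map (Int.cast : ℤ → ZMod r) *ᵥ v = qr • v →
      ∃ y, ∃ w : Fin chevF4.rank → ℤ, (fun j => (w j : ZMod r)) = v ∧
        ∀ u : Fin chevF4.nroots, rootVal (ct y) u = (δ ^ m') ^ (∑ i, g.coVec u i * w i) := by
    intro v hv'
    choose w hw using fun j => ZMod.intCast_surjective (v j)
    obtain ⟨y, hy⟩ := hmem w (by rw [show (fun j => (w j : ZMod r)) = v from funext hw]; exact hv')
    exact ⟨y, w, funext hw, hy⟩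
  have hstab : ∀ ρ ∈ g.weyl, (∀ y, ∀ u : Fin chevF4.nroots, rootVal (ct y) (ρ u) = rootVal (ct y) u) → ρ = 1 := by
    intro ρ hρ hfix
    refine weyl_eq_one_of_fix_eigen g hrW formF4 formF4_invariant (formF4_det_coprime h5) hπ' hρ hroot' hne'
      (hR ▸ hRquad) fun v hv' => ?_
    obtain ⟨y, w, hw, hy⟩ := hlift v (hR ▸ hv')
    rw [← hw]
    funext j
    have h := hfix y (g.sroot j)
    rw [hy, hy, hδr, hsum] at h
    rw [← h, Int.cast_sum]
    show ∑ i, ((g.coMat ρ j i : ℤ) : ZMod r) * (w i : ZMod r) = _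
    exact Finset.sum_congr rfl fun i _ => by rw [Int.cast_mul]; rfl
  have hreg : ∀ u < chevF4.nroots, ∃ c ∈ Set.range ct, rootVal c u ≠ 1 := by
    intro u hu
    by_contra hcon
    push Not at hcon
    obtain ⟨ρ, hρ, hρu, hρfix⟩ := g.exists_reflection ⟨u, hu⟩
    have h1 : ρ = 1 := by
      refine weyl_eq_one_of_fix_eigen g hrW formF4 formF4_invariant (formF4_det_coprime h5) hπ' hρ hroot' hne'
        (hR ▸ hRquad) fun v hv' => hρfix _ v ?_
      obtain ⟨y, w, hw, hy⟩ := hlift v (hR ▸ hv')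
      have h := hcon _ ⟨y, rfl⟩
      rw [show u = ((⟨u, hu⟩ : Fin chevF4.nroots) : ℕ) from rfl, hy, ← _root_.zpow_zero (δ ^ m'), hδr,
        Int.cast_zero, Int.cast_sum] at h
      rw [← hw, ← h]
      exact Finset.sum_congr rfl fun i _ => by rw [Int.cast_mul]
    rw [h1, Equiv.Perm.one_apply] at hρu
    exact g.neg_ne hu (congrArg Fin.val hρu).symm
  have hcentral : ∀ {z : GL chevF4.Idx L}, z ∈ chevF4.group L → (∀ y, z * Θ y = Θ y * z) →
      z ∈ chevF4.diagonalSubgroup L := by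
    intro z hz hzc
    refine g.centralizer_family hc (Set.range ct) hreg (fun ρ hρ hfix => hstab ρ hρ fun y u => hfix _ ⟨y, rfl⟩ u)
      hz ?_
    rintro _ ⟨y, rfl⟩
    rw [hct]
    exact hzc y
  have hafm : af ∈ chevF4.group L := mul_mem (inv_mem hgc) (hφm hgc)
  have hafn : af * n ∈ chevF4.diagonalSubgroup L := by
    refine hcentral (mul_mem hafm (g.monomial_le_group hn)) fun y => ?_
    have h1 : scalarGL chevF4 φ (Θ y) = af⁻¹ * Θ y * af := by
      rw [hΘv, map_mul, map_mul, map_inv, hφx, haf]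
      group
    have h2 : n * Θ y * n⁻¹ = scalarGL chevF4 φ (Θ y) := hnt _ _ (hΘd y)
      (by rw [← hct, scalarGL_torHom]; exact g.torHom_mem _) (by rw [h1, inv_inv])
    have h3 : n * Θ y = af⁻¹ * Θ y * af * n := by rw [← h1, ← h2]; group
    rw [mul_assoc, h3]; group
  -- a torus element of order s
  have hsp : s.Prime := Fact.out
  have hsq : ((q : ZMod s)) ^ d = 1 := by rw [← hs]; exact pow_orderOf_eq_one _
  obtain ⟨M₁, hM₁⟩ : s ∣ M := by
    rw [hMdef, dvd_pow_sub_one_iff (by omega : 1 ≤ q), hs]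
  have hM₁0 : 0 < M₁ := Nat.pos_of_ne_zero fun h => by rw [h, mul_zero] at hM₁; omega
  have hd3 : 3 ≤ d := hd ▸ he3
  have hdet : ((Matrix.scalar (Fin chevF4.rank) (q : ℤ) - R).map (Int.cast : ℤ → ZMod s)).det = 0 := by
    rw [show (Matrix.scalar (Fin chevF4.rank) (q : ℤ) - R).map (Int.cast : ℤ → ZMod s) =
      (Int.castRingHom (ZMod s)).mapMatrix (Matrix.scalar (Fin chevF4.rank) (q : ℤ) - R) from rfl, ← RingHom.map_det,
      ← Matrix.eval_charpoly, hchar, eval_pow, map_pow]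
    have hs0 : (q : ZMod s) ≠ 0 := fun h => by
      rw [h, zero_pow (by omega : d ≠ 0)] at hsq; exact zero_ne_one hsq
    have hds : d ∣ s - 1 := hs ▸ orderOf_dvd_of_pow_eq_one (ZMod.pow_card_sub_one_eq_one hs0)
    haveI : NeZero (d : ZMod s) := ⟨by
      rw [ne_eq, CharP.cast_eq_zero_iff (ZMod s) s]
      intro h
      have := Nat.le_of_dvd hd0 h
      have := Nat.le_of_dvd (Nat.sub_pos_of_lt hsp.one_lt) hds
      omega⟩
    have hroot : (cyclotomic d (ZMod s)).IsRoot (q : ZMod s) :=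
      isRoot_cyclotomic_iff.2 (hs ▸ IsPrimitiveRoot.orderOf _)
    rw [← map_cyclotomic_int, IsRoot.def, eval_map, eval₂_at_natCast] at hroot
    rw [hroot, zero_pow two_ne_zero]
  obtain ⟨w0, hw0, hw0e⟩ := Matrix.exists_mulVec_eq_zero_iff.2 hdet
  choose a ha' using fun j => ZMod.intCast_surjective (w0 j)
  have hδs : ∀ x y : ℤ, γ ^ ((M₁ : ℤ) * x) = γ ^ ((M₁ : ℤ) * y) ↔ (x : ZMod s) = (y : ZMod s) := fun x y => by
    rw [ZMod.intCast_eq_intCast_iff_dvd_sub, _root_.zpow_mul, _root_.zpow_mul, zpow_natCast,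
      show s = orderOf (γ ^ M₁) by
        rw [orderOf_pow_of_dvd hM₁0.ne' (by rw [hγo, hM₁]; exact dvd_mul_left _ _), hγo, hM₁,
          Nat.mul_div_cancel _ hM₁0],
      orderOf_dvd_iff_zpow_eq_one, _root_.zpow_sub, mul_inv_eq_one]
    exact ⟨fun h => h.symm, fun h => h.symm⟩
  set e := powMap cartanInvF4 fun j => γ ^ ((M₁ : ℤ) * a j) with hedef
  have heval : ∀ u : Fin chevF4.nroots, rootVal e u = γ ^ ((M₁ : ℤ) * ∑ i, g.coVec u i * a i) := fun u => by
    rw [hedef, g.rootVal_powMap γ hB, Finset.mul_sum]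
    congr 1
    exact Finset.sum_congr rfl fun i _ => by ring
  set z := torHom chevF4 L e with hz
  have hzd : z ∈ chevF4.diagonalSubgroup L := g.torHom_mem _
  have hzfix : scalarGL chevF4 φ z = n * z * n⁻¹ := by
    have hnd : n * z * n⁻¹ ∈ chevF4.diagonalSubgroup L := g.diag_conj hn hzd
    rw [g.diagonal_eq_range] at hnd
    obtain ⟨e', he'⟩ := hnd
    rw [hz, scalarGL_torHom, ← he']
    refine g.torHom_eq_of_simple fun j => ?_
    have h := g.rootVal_conj hπ (c := e) he'.symm (π⁻¹ (g.sroot j))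
    rw [show π (π⁻¹ (g.sroot j)) = g.sroot j from π.apply_symm_apply _, heval] at h
    rw [hφval, show chevF4.simple j = ((g.sroot j : Fin chevF4.nroots) : ℕ) from rfl, h, heval, hsum,
      ← zpow_natCast, ← _root_.zpow_mul, mul_assoc, hδs, Int.cast_sum]
    have h2 := congrFun hw0e j
    rw [Pi.zero_apply] at h2
    change ∑ i, (((Matrix.scalar (Fin chevF4.rank) (q : ℤ) - R) j i : ℤ) : ZMod s) * w0 i = 0 at h2
    rw [Finset.sum_congr rfl fun i _ => show (((Matrix.scalar (Fin chevF4.rank) (q : ℤ) - R) j i : ℤ) : ZMod s) * w0 i =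
      (if j = i then (q : ZMod s) * (a i : ZMod s) else 0) -
        ((g.coVec (π⁻¹ (g.sroot j)) i * a i : ℤ) : ZMod s) by
      rw [← ha' i, hR, Matrix.sub_apply, Matrix.scalar_apply, Matrix.diagonal_apply, g.coMat_row, Int.cast_sub,
        sub_mul, Int.cast_mul]
      split <;> simp, Finset.sum_sub_distrib, Finset.sum_ite_eq, if_pos (Finset.mem_univ j), sub_eq_zero] at h2
    rw [← h2, Int.cast_mul, Int.cast_natCast, mul_comm]
  have hgg : scalarGL chevF4 φ gc = gc * af := by rw [haf]; group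
  have hfixed : scalarGL chevF4 φ (gc * z * gc⁻¹) = gc * z * gc⁻¹ := by
    have hz2 : af⁻¹ * z * af = n * z * n⁻¹ := by
      have h := g.diagonal_comm hafn hzd
      calc af⁻¹ * z * af = n * ((af * n)⁻¹ * (z * (af * n))) * n⁻¹ := by group
        _ = n * z * n⁻¹ := by rw [← h, inv_mul_cancel_left]
    rw [map_mul, map_mul, map_inv, hgg, hzfix, ← hz2]
    group
  obtain ⟨y, hy, hye⟩ := g.fixed_range hc hB ι φ hfix
    (mul_mem (mul_mem hgc (g.diagonal_le_group hzd)) (inv_mem hgc)) hfixed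
  have hzs : z ^ s = 1 := by
    rw [hz, ← map_pow, ← map_one (torHom chevF4 L)]
    refine g.torHom_eq_of_simple fun j => ?_
    rw [rootVal_pow, rootVal_one, show chevF4.simple j = ((g.sroot j : Fin chevF4.nroots) : ℕ) from rfl, heval,
      ← zpow_natCast, ← _root_.zpow_mul, ← _root_.zpow_zero γ, mul_assoc, ← mul_zero (M₁ : ℤ), hδs,
      Int.cast_mul, Int.cast_natCast, ZMod.natCast_self, mul_zero, Int.cast_zero]
  have hz1 : z ≠ 1 := by
    intro h1
    refine hw0 (funext fun j => ?_)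
    have h2 := g.rootVal_eq_of_torHom (c := e) (c' := 1) (by rw [← hz, h1, map_one]) (g.sroot j).2
    rw [rootVal_one, heval, hsum, ← _root_.zpow_zero γ, ← mul_zero (M₁ : ℤ), hδs, Int.cast_zero, ha'] at h2
    exact h2
  obtain ⟨x, hx⟩ := exists_prime_orderOf_dvd_card' (G := ↥(P : Subgroup ↥(chevF4.group F))) r
    (by rw [hcardP, hm, ← pow_mul]; exact dvd_pow_self r (by omega))
  have hΘy : gc⁻¹ * scalarGL chevF4 ι y * gc = z := by rw [hye]; group
  refine ⟨(x : ↥(chevF4.group F)), ⟨y, hy⟩, (Subgroup.orderOf_coe x).trans hx, ?_, ?_⟩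
  · refine orderOf_eq_prime (Subtype.ext (scalarGL_injective ι ?_)) fun h1 => hz1 ?_
    · show scalarGL chevF4 ι (y ^ s) = scalarGL chevF4 ι 1
      rw [map_one, map_pow, hye, conj_pow, hzs, mul_one, mul_inv_cancel]
    · rw [← hΘy, show y = 1 from congrArg Subtype.val h1, map_one, mul_one, inv_mul_cancel]
  · refine Subtype.ext (scalarGL_injective ι ?_)
    show scalarGL chevF4 ι (((x : ↥(chevF4.group F)) : GL chevF4.Idx F) * y) =
      scalarGL chevF4 ι (y * ((x : ↥(chevF4.group F)) : GL chevF4.Idx F))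
    have h := g.diagonal_comm (hΘd x) hzd
    rw [hΘv, ← hΘy] at h
    rw [map_mul, map_mul]
    calc scalarGL chevF4 ι ((x : ↥(chevF4.group F)) : GL chevF4.Idx F) * scalarGL chevF4 ι y
        = gc * ((gc⁻¹ * scalarGL chevF4 ι ((x : ↥(chevF4.group F)) : GL chevF4.Idx F) * gc) *
          (gc⁻¹ * scalarGL chevF4 ι y * gc)) * gc⁻¹ := by group
      _ = _ := by rw [h]; group

end CfsgLib.Chev.F4Graph
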