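import Mathlib
import Cfsg.Agent.Lib.Classical.ChevRootCent
import Cfsg.Agent.Lib.Chev.SL2Hom
import Cfsg.Agent.Lib.Chev.OrthLang
import Cfsg.Agent.Lib.Chev.OrderTables
import Cfsg.Agent.Lib.Chev.SpringerTorus
import Cfsg.Agent.Lib.KnownA.SL2Stem

/-!
F₄(q), q even: the rank one subgroup of the highest root, and the elements centralising it.
-/

set_option autoImplicit false
set_option maxHeartbeats 1000000
set_option maxRecDepth 100000

namespace CfsgLib.Chev.F4Graph

open Cfsg.Lie Matrix CfsgLib.Classical.ChevFix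

variable (F : Type*) [Field F]

/-- The elements scaling a root group. -/
def scaleSub (v : ℕ) : Subgroup (GL chevF4.Idx F) where
  carrier := {y | ∃ χ : Fˣ, ∀ t : F, y * goodF4.xG v t * y⁻¹ = goodF4.xG v ((χ : F) * t)}
  one_mem' := ⟨1, fun t => by simp⟩
  mul_mem' := fun {a b} ⟨χ, hχ⟩ ⟨ψ, hψ⟩ => ⟨χ * ψ, fun t => by
    rw [show a * b * goodF4.xG v t * (a * b)⁻¹ = a * (b * goodF4.xG v t * b⁻¹) * a⁻¹ by group, hψ, hχ,
      Units.val_mul, mul_assoc]⟩
  inv_mem' := fun {a} ⟨χ, hχ⟩ => ⟨χ⁻¹, fun t => by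
    have h : a * goodF4.xG v (((χ⁻¹ : Fˣ) : F) * t) * a⁻¹ = goodF4.xG v t := by rw [hχ, Units.mul_inv_cancel_left]
    rw [← h]; group⟩

variable {F}

lemma mem_scaleSub {v : ℕ} {y : GL chevF4.Idx F} :
    y ∈ scaleSub F v ↔ ∃ χ : Fˣ, ∀ t : F, y * goodF4.xG v t * y⁻¹ = goodF4.xG v ((χ : F) * t) := Iff.rfl

lemma diag_le_scale {v : ℕ} (hv : v < chevF4.nroots) : chevF4.diagonalSubgroup F ≤ scaleSub F v := by
  intro y hy
  rw [goodF4.diagonal_eq_range] at hy
  obtain ⟨c, rfl⟩ := hy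
  exact ⟨rootVal c v, fun t => goodF4.conj_rootVal c hv t⟩

lemma commute_le_scale {v : ℕ} {y : GL chevF4.Idx F} (h : ∀ t : F, Commute y (goodF4.xG v t)) :
    y ∈ scaleSub F v :=
  ⟨1, fun t => by rw [(h t).eq, mul_inv_cancel_right, Units.val_one, one_mul]⟩

lemma acts_mem_scale {v : ℕ} (hv : v < chevF4.nroots) {n : GL chevF4.Idx F} {π : Equiv.Perm (Fin chevF4.nroots)}
    (hn : goodF4.Acts n π) (hπ : π ⟨v, hv⟩ = ⟨v, hv⟩) : n ∈ scaleSub F v := by
  obtain ⟨c, hc⟩ := hn ⟨v, hv⟩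
  exact ⟨c, fun t => by rw [hc, hπ]⟩

/-- The fundamental roots orthogonal to the highest root. -/
def J47 : Set ℕ := {i | i ∈ [0, 1, 2]}

theorem step47 : ∃ hv : 47 < chevF4.nroots,
    goodF4.IsStep {i | i ∈ List.range chevF4.rank} J47 ⟨47, hv⟩ := by
  obtain ⟨hv, -, -, h⟩ := isStep_of_domOK goodF4 checksF4 structChecksF4
    (J := List.range chevF4.rank) (J' := [0, 1, 2]) (v := 47) (by decide +kernel)
  exact ⟨hv, h⟩

theorem wJ_fix {π : Equiv.Perm (Fin chevF4.nroots)} (hπ : π ∈ goodF4.wJ J47) (h47 : 47 < chevF4.nroots)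
    (h0 : 0 < chevF4.nroots) : π ⟨47, h47⟩ = ⟨47, h47⟩ ∧ π ⟨0, h0⟩ = ⟨0, h0⟩ := by
  obtain ⟨hv, hst⟩ := step47
  have h1 : π ⟨47, h47⟩ = ⟨47, h47⟩ := goodF4.fix_of_mem hst hπ
  refine ⟨h1, ?_⟩
  obtain ⟨l, -, hl⟩ := goodF4.exists_wperm_J hπ
  have hneg : goodF4.nroot ⟨47, h47⟩ = ⟨0, h0⟩ := Fin.ext (show chevF4.neg 47 = 0 by decide +kernel)
  rw [← hneg, ← hl, goodF4.wperm_nroot, hl, h1]

theorem centOK47 : centOK chevF4 [0, 1, 2] 47 = true := by decide +kernel

theorem even0 : ∀ r : Fin chevF4.nroots, rootCo dataF4 r 3 = 0 → evenOK chevF4 0 r = true := by decide +kernel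

variable [CharP F 2]

theorem pos_le_scale47 : chevF4.posUnipotent F ≤ scaleSub F 47 := fun y hy =>
  commute_le_scale fun t => commute_parK goodF4 (hasComm_of_mem (by simp)) (J := [0, 1, 2]) (by decide)
    (by decide +kernel) centOK47 t (Subgroup.mem_sup_left hy)

theorem minus_le_scale0 {π : Equiv.Perm (Fin chevF4.nroots)} (hπ : π ∈ goodF4.wJ J47) :
    rootGen chevF4 F (minusSet π) ≤ scaleSub F 0 := by
  refine goodF4.rootGen_le fun r hr hr' t => commute_le_scale fun u => ?_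
  obtain ⟨h, hp, hneg⟩ := hr
  refine commute_of_evenOK goodF4 (hasComm_of_mem (by simp)) (by decide +kernel) hr' (even0 ⟨r, hr'⟩ ?_) u t
  have hs : goodF4.SuppIn J47 ⟨r, h⟩ := by
    by_contra hs
    have := goodF4.pos_of_not_supp hπ hp hs
    omega
  rw [goodF4.co_eq checksF4 structChecksF4 hr' (by decide +kernel)]
  exact hs 3 (by decide +kernel) (by simp [J47])

variable (F) in
/-- The stabiliser of the highest root group. -/
noncomputable def stab47 : Subgroup ↥(chevF4.group F) := (scaleSub F 47).subgroupOf (chevF4.group F)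

variable (F) in
/-- The stabiliser of the two root groups. -/
noncomputable def stabPair : Subgroup ↥(stab47 F) :=
  ((scaleSub F 0).subgroupOf (chevF4.group F)).subgroupOf (stab47 F)

theorem stab47_canonical {x : GL chevF4.Idx F} (hx : x ∈ chevF4.group F) (hs : x ∈ scaleSub F 47) :
    ∃ b ∈ chevF4.borelSubgroup F, ∃ n ∈ chevF4.monomialSubgroup F, ∃ π ∈ goodF4.wJ J47, goodF4.Acts n π ∧
      ∃ u ∈ rootGen chevF4 F (minusSet π), x = b * n * u := by
  have hc : HasComm chevF4 := hasComm_of_mem (by simp)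
  obtain ⟨b, hb, n, hn, π, hπw, hπ, u, hu, rfl⟩ := goodF4.exists_canonical hc hx
  refine ⟨b, hb, n, hn, π, ?_, hπ, u, hu, rfl⟩
  obtain ⟨hv, hst⟩ := step47
  have hbs : b ∈ scaleSub F 47 := sup_le pos_le_scale47 (diag_le_scale hv) hb
  have hus : u ∈ scaleSub F 47 := pos_le_scale47 (goodF4.minus_le_pos π hu)
  have hns : n ∈ scaleSub F 47 := by
    have := mul_mem (mul_mem (inv_mem hbs) hs) (inv_mem hus)
    rwa [show b⁻¹ * (b * n * u) * u⁻¹ = n by group] at this
  obtain ⟨χ, hχ⟩ := hns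
  obtain ⟨c, hc'⟩ := hπ ⟨47, hv⟩
  refine goodF4.mem_of_fix hst ?_ (Fin.ext ?_)
  · rw [show {i | i ∈ List.range chevF4.rank} = {i : ℕ | i < chevF4.rank} from Set.ext fun i => List.mem_range,
      ← goodF4.weyl_eq_wJ]
    exact hπw
  · by_contra hne
    exact c.ne_zero (by simpa using goodF4.eq_of_xG_eq (π ⟨47, hv⟩).2 hv hne ((hc' 1).symm.trans (hχ 1)))

theorem wordN_mem_scale {π : Equiv.Perm (Fin chevF4.nroots)} (hπ : π ∈ goodF4.wJ J47) {n : GL chevF4.Idx F}
    (hn : goodF4.Acts n π) : n ∈ scaleSub F 47 ∧ n ∈ scaleSub F 0 :=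
  ⟨acts_mem_scale (by decide +kernel) hn (wJ_fix hπ (by decide +kernel) (by decide +kernel)).1,
    acts_mem_scale (by decide +kernel) hn (wJ_fix hπ (by decide +kernel) (by decide +kernel)).2⟩

variable [Fintype F]

theorem card_stab47 : Nat.card ↥(stab47 F) = Nat.card (chevF4.borelSubgroup F) *
    goodF4.weylSum J47 (Fintype.card F) := by
  classical
  have hc : HasComm chevF4 := hasComm_of_mem (by simp)
  set g := goodF4
  let W := {w : Equiv.Perm (Fin chevF4.nroots) // w ∈ g.wJ J47}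
  choose word hwJ hword using fun w : W => g.exists_wperm_J w.2
  have hn : ∀ w : W, g.Acts (g.wordN (word w) : GL chevF4.Idx F) w.1 := fun w => by
    have := g.acts_wordN (F := F) (word w)
    rwa [hword w] at this
  have hBs : chevF4.borelSubgroup F ≤ scaleSub F 47 := sup_le pos_le_scale47 (diag_le_scale (by decide +kernel))
  let e : ↥(chevF4.borelSubgroup F) × (Σ w : W, ↥(rootGen chevF4 F (minusSet w.1))) → ↥(stab47 F) := fun p =>
    ⟨⟨(p.1 : GL chevF4.Idx F) * g.wordN (word p.2.1) * (p.2.2 : GL chevF4.Idx F),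
      mul_mem (mul_mem (g.borel_le_group p.1.2) (g.monomial_le_group (g.wordN_mem _)))
        (g.posUnipotent_le_group (g.minus_le_pos _ p.2.2.2))⟩,
      Subgroup.mem_subgroupOf.2 (mul_mem (mul_mem (hBs p.1.2) (wordN_mem_scale p.2.1.2 (hn _)).1)
        (pos_le_scale47 (g.minus_le_pos _ p.2.2.2)))⟩
  have hbij : Function.Bijective e := by
    refine ⟨?_, fun x => ?_⟩
    · rintro ⟨b, w, u⟩ ⟨b', w', u'⟩ h
      have h' : (b : GL chevF4.Idx F) * g.wordN (word w) * (u : GL chevF4.Idx F) =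
          (b' : GL chevF4.Idx F) * g.wordN (word w') * (u' : GL chevF4.Idx F) :=
        congrArg (fun z : ↥(stab47 F) => ((z.1 : ↥(chevF4.group F)) : GL chevF4.Idx F)) h
      have h1 := g.canonical_coset hc b.2 b'.2 (g.wordN_mem _) (g.wordN_mem _)
        (Subgroup.mem_sup_left (g.minus_le_pos _ u.2)) (Subgroup.mem_sup_left (g.minus_le_pos _ u'.2)) h'
      have h2 := g.acts_unique (g.acts_mul (g.acts_inv (hn w)) (hn w')) (g.acts_diagonal h1)
      obtain rfl : w = w' := Subtype.ext (inv_mul_eq_one.1 h2)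
      obtain ⟨e1, e2⟩ := g.canonical_unique b.2 b'.2 (hn w) u.2 u'.2 h'
      rw [Subtype.ext e1, Subtype.ext e2]
    · obtain ⟨b, hb, n, hnm, π, hπw, hπ, u, hu, he⟩ := stab47_canonical x.1.2 (Subgroup.mem_subgroupOf.1 x.2)
      let w : W := ⟨π, hπw⟩
      have hd := g.monomial_same_acts hnm (g.wordN_mem (F := F) (word w)) hπ (hn w)
      refine ⟨(⟨b * (n * (g.wordN (F := F) (word w))⁻¹),
        mul_mem hb (Subgroup.mem_sup_right hd)⟩, ⟨w, ⟨u, hu⟩⟩), Subtype.ext (Subtype.ext ?_)⟩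
      show b * (n * (g.wordN (F := F) (word w))⁻¹) * g.wordN (word w) * u = (x.1 : GL chevF4.Idx F)
      rw [he]; group
  rw [← Nat.card_eq_of_bijective e hbij, Nat.card_prod, Nat.card_sigma]
  congr 1
  simp_rw [fun w : W => g.card_minus hc w.1 (hn w)]
  rw [Good.weylSum]
  exact (Finset.sum_subtype (Finset.univ.filter fun w => w ∈ g.wJ J47) (fun w => by simp)
    (fun w => Fintype.card F ^ ninv chevF4 w)).symm

theorem weylSum47 {q : ℕ} (hq : 1 ≤ q) :
    (q - 1) ^ 3 * goodF4.weylSum J47 q = (q ^ 2 - 1) * ((q ^ 4 - 1) * (q ^ 6 - 1)) := by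
  have h := goodF4.weylSum_chain checksF4 structChecksF4 wchainF4.tail (by decide +kernel) q
  rw [show {i | i ∈ headJ wchainF4.tail} = J47 from rfl] at h
  have hp := orderPoly_spec (r := 3) (l := wchainF4.tail) (ds := [2, 4, 6]) (by decide +kernel) hq
  simp only [List.map_cons, List.map_nil, List.prod_cons, List.prod_nil, mul_one] at hp
  rw [h, hp]

theorem index_stabPair : ∃ i, (stabPair F).index ∣ Fintype.card F ^ i := by
  classical
  set g := goodF4
  let U : Subgroup ↥(stab47 F) := ((chevF4.posUnipotent F).subgroupOf (chevF4.group F)).subgroupOf (stab47 F)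
  letI : MulAction ↥U (↥(stab47 F) ⧸ stabPair F) := MulAction.compHom _ U.subtype
  have htrans : MulAction.IsPretransitive ↥U (↥(stab47 F) ⧸ stabPair F) := by
    suffices key : ∀ z : ↥(stab47 F) ⧸ stabPair F, ∃ v : ↥U, v • (QuotientGroup.mk 1 : ↥(stab47 F) ⧸ stabPair F) = z by
      refine ⟨fun a b => ?_⟩
      obtain ⟨va, rfl⟩ := key a
      obtain ⟨vb, rfl⟩ := key b
      exact ⟨vb * va⁻¹, by rw [← mul_smul, inv_mul_cancel_right]⟩
    intro z
    obtain ⟨x, rfl⟩ := QuotientGroup.mk_surjective z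
    obtain ⟨b, hb, n, hnm, π, hπw, hπ, u, hu, he⟩ := stab47_canonical x.1.2 (Subgroup.mem_subgroupOf.1 x.2)
    obtain ⟨v, hv, h, hh, rfl⟩ := g.mem_borel.1 hb
    have hvG : v ∈ chevF4.group F := g.posUnipotent_le_group hv
    refine ⟨⟨⟨⟨v, hvG⟩, Subgroup.mem_subgroupOf.2 (pos_le_scale47 hv)⟩,
      Subgroup.mem_subgroupOf.2 (Subgroup.mem_subgroupOf.2 hv)⟩, ?_⟩
    show (QuotientGroup.mk _ : ↥(stab47 F) ⧸ stabPair F) = QuotientGroup.mk x
    rw [QuotientGroup.eq]
    refine Subgroup.mem_subgroupOf.2 (Subgroup.mem_subgroupOf.2 ?_)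
    show ((v : GL chevF4.Idx F) * 1)⁻¹ * (x.1 : GL chevF4.Idx F) ∈ scaleSub F 0
    rw [mul_one, he, show v⁻¹ * (v * h * n * u) = h * n * u by group]
    exact mul_mem (mul_mem (diag_le_scale (by decide +kernel) hh) (wordN_mem_scale hπw hπ).2)
      (minus_le_scale0 hπw hu)
  refine ⟨chevF4.nroots / 2, ?_⟩
  rw [← g.card_posUnipotent (hasComm_of_mem (by simp)), Subgroup.index, ← MulAction.index_stabilizer_of_transitive ↥U
    (QuotientGroup.mk 1 : ↥(stab47 F) ⧸ stabPair F)]
  refine (Subgroup.index_dvd_card _).trans (dvd_of_eq ?_)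
  refine Nat.card_congr ⟨fun v => ⟨(v.1.1 : GL chevF4.Idx F), Subgroup.mem_subgroupOf.1 (Subgroup.mem_subgroupOf.1 v.2)⟩,
    fun v => ⟨⟨⟨v.1, g.posUnipotent_le_group v.2⟩, Subgroup.mem_subgroupOf.2 (pos_le_scale47 v.2)⟩,
      Subgroup.mem_subgroupOf.2 (Subgroup.mem_subgroupOf.2 v.2)⟩, fun v => rfl, fun v => rfl⟩

/-- An element of order prime to `q - 1` which scales a root group centralises it. -/
theorem scale_central {s v : ℕ} [Fact s.Prime] (hv : v < chevF4.nroots) (hs : ¬ s ∣ Fintype.card F - 1)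
    {y : GL chevF4.Idx F} (hys : y ^ s = 1) (hy : y ∈ scaleSub F v) (t : F) :
    Commute y (goodF4.xG v t) := by
  classical
  obtain ⟨χ, hχ⟩ := hy
  have hk : ∀ (k : ℕ) (u : F), y ^ k * goodF4.xG v u * (y ^ k)⁻¹ = goodF4.xG v (((χ ^ k : Fˣ) : F) * u) := by
    intro k
    induction k with
    | zero => intro u; simp
    | succ k ih =>
      intro u
      rw [pow_succ', show y * y ^ k * goodF4.xG v u * (y * y ^ k)⁻¹ = y * (y ^ k * goodF4.xG v u * (y ^ k)⁻¹) * y⁻¹ by
        group, ih, hχ, ← mul_assoc, ← Units.val_mul, ← pow_succ']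
  have h1 := hk s 1
  rw [hys, one_mul, inv_one, mul_one, mul_one] at h1
  have h2 : χ ^ s = 1 := Units.ext (CfsgLib.Classical.ChevFix.xG_inj goodF4 hv h1).symm
  have hχ1 : χ = 1 := orderOf_eq_one_iff.1 (by
    rcases (Nat.dvd_prime (Fact.out : s.Prime)).1 (orderOf_dvd_of_pow_eq_one h2) with h | h
    · exact h
    · exfalso
      refine hs ?_
      rw [← h, ← Fintype.card_units]
      exact orderOf_dvd_card)
  show y * goodF4.xG v t = goodF4.xG v t * y
  have h3 := hχ t
  rw [hχ1, Units.val_one, one_mul] at h3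
  rw [← mul_inv_eq_iff_eq_mul]
  exact h3

/-- An element of order `s` centralising both root groups of the highest root. -/
theorem exists_centralizing {q : ℕ} (hF : Fintype.card F = q) {s : ℕ} [Fact s.Prime]
    (he : orderOf (q : ZMod s) ∈ ({2, 3, 4, 6} : Finset ℕ)) :
    ∃ y : ↥(chevF4.group F), orderOf y = s ∧
      (∀ t : F, Commute (y : GL chevF4.Idx F) (goodF4.xG 47 t)) ∧
      ∀ t : F, Commute (y : GL chevF4.Idx F) (goodF4.xG 0 t) := by
  classical
  have hsp : s.Prime := Fact.out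
  have hq2 : 2 ≤ q := hF ▸ Fintype.one_lt_card
  have hdvd : ∀ d, s ∣ q ^ d - 1 ↔ orderOf (q : ZMod s) ∣ d := fun d => by
    rw [orderOf_dvd_iff_pow_eq_one, ← CharP.cast_eq_zero_iff (ZMod s) s, Nat.cast_sub (Nat.one_le_pow _ _ (by omega)),
      Nat.cast_pow, Nat.cast_one, sub_eq_zero]
  have he1 : orderOf (q : ZMod s) ≠ 1 := fun h => by rw [h] at he; simp at he
  have hs1 : ¬ s ∣ q - 1 := fun h => he1 (Nat.dvd_one.1 ((hdvd 1).1 (by rwa [pow_one])))
  have hsq : ¬ s ∣ q := fun h => by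
    rw [(CharP.cast_eq_zero_iff (ZMod s) s q).2 h, orderOf_zero] at he; simp at he
  have hW : s ∣ goodF4.weylSum J47 q := by
    have h := weylSum47 (by omega : 1 ≤ q)
    have hr : s ∣ (q ^ 2 - 1) * ((q ^ 4 - 1) * (q ^ 6 - 1)) := by
      simp only [Finset.mem_insert, Finset.mem_singleton] at he
      rcases he with h' | h' | h' | h'
      · exact dvd_mul_of_dvd_left ((hdvd 2).2 (by rw [h'])) _
      · exact dvd_mul_of_dvd_right (dvd_mul_of_dvd_right ((hdvd 6).2 (by rw [h']; norm_num)) _) _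
      · exact dvd_mul_of_dvd_right (dvd_mul_of_dvd_left ((hdvd 4).2 (by rw [h'])) _) _
      · exact dvd_mul_of_dvd_right (dvd_mul_of_dvd_right ((hdvd 6).2 (by rw [h'])) _) _
    rw [← h] at hr
    exact (hsp.dvd_mul.1 hr).resolve_left fun h' => hs1 (hsp.dvd_of_dvd_pow h')
  obtain ⟨x, hx⟩ := exists_prime_orderOf_dvd_card' (G := ↥(stab47 F)) s (by
    rw [card_stab47, hF]; exact dvd_mul_of_dvd_right hW _)
  obtain ⟨i, hi⟩ := index_stabPair (F := F)
  obtain ⟨g, hg⟩ := Springer.exists_conj_mem (stabPair F) (show x ^ s = 1 from hx ▸ pow_orderOf_eq_one x)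
    (fun h => hsq (hsp.dvd_of_dvd_pow (hF ▸ h.trans hi)))
  set y := g⁻¹ * x * g with hy
  have hyo : orderOf y = s := by
    rw [hy, show g⁻¹ * x * g = MulAut.conj g⁻¹ x by simp, MulEquiv.orderOf_eq, hx]
  have hs1' : ¬ s ∣ Fintype.card F - 1 := hF.symm ▸ hs1
  have hys : ((y : ↥(chevF4.group F)) : GL chevF4.Idx F) ^ s = 1 := by
    rw [← SubmonoidClass.coe_pow, ← SubmonoidClass.coe_pow, ← hyo, pow_orderOf_eq_one]
    rfl
  refine ⟨(y : ↥(chevF4.group F)), (Subgroup.orderOf_coe y).trans hyo, ?_, ?_⟩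
  all_goals intro t
  · exact scale_central (by decide +kernel) hs1' hys (Subgroup.mem_subgroupOf.1 y.2) t
  · exact scale_central (by decide +kernel) hs1' hys (Subgroup.mem_subgroupOf.1 (Subgroup.mem_subgroupOf.1 hg)) t

theorem pair33 : pair chevF4 33 47 = 0 ∧ pair chevF4 33 0 = 0 ∧ pair chevF4 33 33 = 2 := by decide +kernel

/-- A torus element of order `s` dividing `q - 1` centralising both root groups. -/
theorem exists_centralizing_torus {q : ℕ} (hF : Fintype.card F = q) {s : ℕ} [Fact s.Prime]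
    (hs : s ∣ q - 1) :
    ∃ y : ↥(chevF4.group F), orderOf y = s ∧
      (∀ t : F, Commute (y : GL chevF4.Idx F) (goodF4.xG 47 t)) ∧
      ∀ t : F, Commute (y : GL chevF4.Idx F) (goodF4.xG 0 t) := by
  classical
  obtain ⟨c, hc⟩ := exists_prime_orderOf_dvd_card' (G := Fˣ) s (by
    rwa [Nat.card_units, Nat.card_eq_fintype_card, hF])
  have h33 : 33 < chevF4.nroots := by decide +kernel
  have hmem : goodF4.hG 33 c ∈ chevF4.group F := goodF4.diagonal_le_group (goodF4.hG_mem h33 c)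
  obtain ⟨p47, p0, p33⟩ := pair33
  refine ⟨⟨goodF4.hG 33 c, hmem⟩, ?_, fun t => ?_, fun t => ?_⟩
  · refine orderOf_eq_prime (Subtype.ext ?_) fun h => ?_
    · show goodF4.hG 33 c ^ s = (1 : GL chevF4.Idx F)
      rw [← map_pow, ← hc, pow_orderOf_eq_one, map_one]
    · have h1 : goodF4.hG 33 c = (1 : GL chevF4.Idx F) := congrArg Subtype.val h
      have h2 := goodF4.hG_conj_xG (r := 33) h33 c (1 : F)
      rw [h1, one_mul, inv_one, mul_one, p33, mul_one] at h2
      have h3 : ((c ^ (2 : ℤ) : Fˣ) : F) = 1 := (xG_inj goodF4 h33 h2).symm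
      rw [zpow_ofNat, Units.val_pow_eq_pow_val] at h3
      have h4 : (c : F) = 1 := by
        rcases sq_eq_one_iff.1 h3 with h | h
        · exact h
        · rwa [CharTwo.neg_eq] at h
      rw [(Units.ext (by rw [h4, Units.val_one]) : c = 1), orderOf_one] at hc
      exact (Fact.out : s.Prime).one_lt.ne hc
  · have h := goodF4.hG_conj_xG (r := 33) (show 47 < chevF4.nroots by decide +kernel) c t
    rw [p47, _root_.zpow_zero, Units.val_one, one_mul] at h
    exact mul_inv_eq_iff_eq_mul.1 h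
  · have h := goodF4.hG_conj_xG (r := 33) (show 0 < chevF4.nroots by decide +kernel) c t
    rw [p0, _root_.zpow_zero, Units.val_one, one_mul] at h
    exact mul_inv_eq_iff_eq_mul.1 h

/-- The rank one subgroup of the highest root has elements of every prime order dividing `q (q² - 1)`. -/
theorem exists_root_element {q : ℕ} (hF : Fintype.card F = q) {r : ℕ} [Fact r.Prime]
    (hr : r ∣ q * ((q + 1) * (q - 1))) :
    ∃ x : ↥(chevF4.group F), orderOf x = r ∧ ∀ y : ↥(chevF4.group F),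
      (∀ t : F, Commute (y : GL chevF4.Idx F) (goodF4.xG 47 t)) →
      (∀ t : F, Commute (y : GL chevF4.Idx F) (goodF4.xG 0 t)) → Commute x y := by
  classical
  set g := goodF4
  have h47 : 47 < chevF4.nroots := by decide +kernel
  obtain ⟨φ, hU, hL, hD⟩ := g.exists_rootHom (F := F) h47
  have hneg : chevF4.neg 47 = 0 := by decide +kernel
  rw [hneg] at hL
  obtain ⟨A, hA⟩ := exists_prime_orderOf_dvd_card' (G := Matrix.SpecialLinearGroup (Fin 2) F) r (by
    rw [CfsgLib.KnownA.SL2Stem.card_sl2, hF]; exact hr)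
  have hmemG : ∀ B, φ B ∈ chevF4.group F := by
    intro B
    have hle : Subgroup.closure (Set.range (slU (F := F)) ∪ Set.range slL) ≤ (chevF4.group F).comap φ := by
      refine (Subgroup.closure_le _).2 ?_
      rintro _ (⟨t, rfl⟩ | ⟨t, rfl⟩)
      · show φ (slU t) ∈ chevF4.group F; rw [hU]; exact g.xG_mem_group h47 t
      · show φ (slL t) ∈ chevF4.group F; rw [hL]; exact g.xG_mem_group (by decide +kernel) t
    exact hle (by rw [closure_slU_slL]; trivial)
  have hne : φ A ≠ 1 := by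
    intro h1
    let Q : GL chevF4.Idx F := g.nG 47 1
    let R : SL2Rel (G := Matrix.SpecialLinearGroup (Fin 2) F ⧸ (⊤ : Subgroup _))
        (fun _ : F => 1) (fun _ => 1) 1 1 :=
      ⟨by simp, by simp, by simp, by simp, by simp, by simp⟩
    rcases R.normal_form A with ⟨a, β, rfl⟩ | ⟨α, a, β, rfl⟩
    · rw [map_mul, hU, hD] at h1
      have hβ : g.xG 47 β = (1 : GL chevF4.Idx F) := by
        have hi : g.xG 47 β ∈ chevF4.posUnipotent F ⊓ chevF4.diagonalSubgroup F := by
          refine Subgroup.mem_inf.2 ⟨g.xG_mem_posUnipotent ((g.isPosRoot_iff 47).2 ⟨by decide +kernel, h47⟩) β, ?_⟩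
          rw [eq_inv_of_mul_eq_one_right h1]
          exact inv_mem (g.hG_mem h47 a)
        rwa [g.pos_inf_diagonal, Subgroup.mem_bot] at hi
      rw [hβ, mul_one] at h1
      have h2 := g.hG_conj_xG (r := 47) h47 a (1 : F)
      rw [h1, one_mul, inv_one, mul_one, mul_one, show pair chevF4 47 47 = 2 by decide +kernel] at h2
      have h3 : ((a ^ (2 : ℤ) : Fˣ) : F) = 1 := (xG_inj g h47 h2).symm
      rw [zpow_ofNat, Units.val_pow_eq_pow_val] at h3
      have h4 : (a : F) = 1 := by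
        rcases sq_eq_one_iff.1 h3 with h | h
        · exact h
        · rwa [CharTwo.neg_eq] at h
      have hβ0 : β = 0 := (g.x_eq_one_iff h47 β).1 (congrArg Units.val hβ)
      refine (Fact.out : r.Prime).one_lt.ne (hA ▸ ?_)
      rw [(Units.ext (by rw [h4, Units.val_one]) : a = 1), hβ0]
      rw [show slD (1 : Fˣ) * slU (0 : F) = 1 from Subtype.ext (by rw [Matrix.SpecialLinearGroup.coe_mul]; simp [slD, slU, Matrix.one_fin_two]), orderOf_one]
    · have hW : φ (slD a * slW) = g.xG 47 (-α) * g.xG 47 (-β) := by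
        rw [show slD a * slW = (slU α)⁻¹ * (slU α * slD a * slW * slU β) * (slU β)⁻¹ by group, map_mul, map_mul,
          h1, mul_one, map_inv, map_inv, hU, hU, g.xG_inv, g.xG_inv]
      have hWc : ∀ t : F, slD a * slW * slU t * (slD a * slW)⁻¹ = slL (-(((a⁻¹ : Fˣ) : F) * (a⁻¹ : Fˣ) * t)) := by
        intro t
        rw [mul_inv_eq_iff_eq_mul]
        refine Subtype.ext ?_
        simp only [Matrix.SpecialLinearGroup.coe_mul]
        ext i j
        fin_cases i <;> fin_cases j <;> simp [slD, slW, slU, slL, Matrix.mul_apply, Fin.sum_univ_two] <;> field_simp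
      have h2 := congrArg φ (hWc 1)
      rw [map_mul, map_mul, map_inv, hW, hU, hL] at h2
      have h3 : g.xG 47 (1 : F) = g.xG 0 (-(((a⁻¹ : Fˣ) : F) * (a⁻¹ : Fˣ) * 1)) := by
        rw [← h2, g.xG_add, g.xG_add, g.xG_inv, g.xG_add]
        congr 1; ring
      exact one_ne_zero (g.eq_of_xG_eq h47 (show 0 < chevF4.nroots by decide +kernel) (by norm_num) h3)
  refine ⟨⟨φ A, hmemG A⟩, orderOf_eq_prime ?_ fun h => hne (congrArg Subtype.val h), fun y hy hy0 => ?_⟩
  · refine Subtype.ext ?_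
    show φ A ^ r = 1
    rw [← map_pow, ← hA, pow_orderOf_eq_one, map_one]
  · refine Subtype.ext ?_
    have hle : Subgroup.closure (Set.range (slU (F := F)) ∪ Set.range slL) ≤
        (Subgroup.centralizer ({(y : GL chevF4.Idx F)} : Set (GL chevF4.Idx F))).comap φ := by
      refine (Subgroup.closure_le _).2 ?_
      rintro _ (⟨t, rfl⟩ | ⟨t, rfl⟩) <;> refine Subgroup.mem_centralizer_singleton_iff.2 ?_
      · rw [hU]; exact (hy t).symm.eq
      · rw [hL]; exact (hy0 t).symm.eq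
    exact Subgroup.mem_centralizer_singleton_iff.1 (hle (show A ∈ _ by rw [closure_slU_slL]; trivial))

end CfsgLib.Chev.F4Graph
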