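import Mathlib
import Cfsg.Agent.Lib.Chev.SpringerTorus

/-!
The centraliser of every element of primitive prime order of a regular number.
-/

set_option autoImplicit false
set_option maxHeartbeats 2000000

namespace CfsgLib.Chev.Springer

open Cfsg.Lie Matrix Polynomial


/-- The centraliser of an element of primitive prime order. -/
theorem centralizer_torus_element {D : ChevalleyDatum} (g : Good D) (hc : HasComm D)
    {B : Matrix (Fin D.rank) (Fin D.rank) ℤ} (hB : B * cartanMat D = 1)
    (F : Type*) [Field F] [Fintype F] (q : ℕ) (hF : Fintype.card F = q) {d : ℕ}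
    (hd : d.totient = D.rank) (hd2 : 2 < d) {r : ℕ} [Fact r.Prime]
    (hr : (r : ℤ) ∣ (cyclotomic d ℤ).eval (q : ℤ)) (hrd : ¬ r ∣ d) (hrW : ¬ r ∣ Nat.card g.weyl)
    (hcyc : ∀ s : ℕ, s.Prime → s ∣ d → ¬ ((s : ℤ) ^ 2 ∣ (cyclotomic d ℤ).eval (q : ℤ)))
    {x : ↥(D.group F)} (hx : orderOf x = r) :
    IsCyclic ↥(Subgroup.centralizer ({x} : Set ↥(D.group F))) ∧
      Nat.card ↥(Subgroup.centralizer ({x} : Set ↥(D.group F))) = ((cyclotomic d ℤ).eval (q : ℤ)).natAbs := by
  classical
  haveI hgf : Finite ↥(D.group F) := inferInstance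
  set p := ringChar F
  haveI : Fact p.Prime := ⟨CharP.char_is_prime F p⟩
  haveI : NeZero d := ⟨by omega⟩
  let L := FiniteField.Extension F p d
  haveI : Fintype L := Fintype.ofFinite L
  have hL : Fintype.card L = q ^ d := by
    rw [← Nat.card_eq_fintype_card, FiniteField.natCard_extension, Nat.card_eq_fintype_card, hF]
  have hq2 : 2 ≤ q := hF ▸ Fintype.one_lt_card
  let ι : F →+* L := algebraMap F L
  let φ : L →+* L := (FiniteField.Extension.frob F p d).toRingEquiv.toRingHom
  have hφ : ∀ z : L, φ z = z ^ q := fun z => by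
    rw [← hF, ← Nat.card_eq_fintype_card]; exact FiniteField.Extension.frob_apply ..
  have hφι : ∀ a : F, φ (ι a) = ι a := fun a => by
    rw [hφ, ← map_pow, ← hF, FiniteField.pow_card]
  have hfix : ∀ z : L, φ z = z → ∃ a, ι a = z := fun z hz => by
    by_contra hne
    push Not at hne
    have hP0 : (Polynomial.X ^ q - Polynomial.X : L[X]) ≠ 0 := FiniteField.X_pow_card_sub_X_ne_zero L (by omega)
    have hsub : insert z (Finset.univ.image ι) ⊆ (Polynomial.X ^ q - Polynomial.X : L[X]).roots.toFinset := by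
      intro w hw
      rw [Multiset.mem_toFinset, Polynomial.mem_roots hP0]
      rcases Finset.mem_insert.1 hw with rfl | hw
      · simp [← hφ, hz]
      · obtain ⟨a, -, rfl⟩ := Finset.mem_image.1 hw
        simp [← hφ, hφι]
    have h1 := (Finset.card_le_card hsub).trans (Multiset.toFinset_card_le _) |>.trans (Polynomial.card_roots' _)
    rw [FiniteField.X_pow_card_sub_X_natDegree_eq L (by omega), Finset.card_insert_of_notMem (by
      simpa using hne), Finset.card_image_of_injective _ ι.injective, Finset.card_univ, hF] at h1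
    omega
  obtain ⟨γ, hγ⟩ := IsCyclic.exists_generator (α := Lˣ)
  set M : ℕ := q ^ d - 1 with hMdef
  have hqd : 1 < q ^ d := Nat.one_lt_pow (by omega) (by omega)
  haveI : NeZero M := ⟨by omega⟩
  have hγo : orderOf γ = M := by
    rw [orderOf_eq_card_of_forall_mem_zpowers hγ, Nat.card_units, Nat.card_eq_fintype_card, hL]
  have hMcast : (M : ℤ) = (q : ℤ) ^ d - 1 := by rw [hMdef, Nat.cast_sub hqd.le]; push_cast; ring
  have hzz : ∀ a b : ℤ, γ ^ a = γ ^ b ↔ (a : ZMod M) = (b : ZMod M) := fun a b => by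
    rw [ZMod.intCast_eq_intCast_iff_dvd_sub, ← hγo, orderOf_dvd_iff_zpow_eq_one, _root_.zpow_sub,
      mul_inv_eq_one]
    exact ⟨fun h => h.symm, fun h => h.symm⟩
  set N : ℤ := (cyclotomic d ℤ).eval (q : ℤ) with hN
  have hNM : N ∣ (M : ℤ) := by
    rw [hMcast, hN]
    have h := Polynomial.eval_dvd (cyclotomic.dvd_X_pow_sub_one d ℤ) (x := (q : ℤ))
    simpa using h
  have hN0 : 0 < N := cyclotomic_pos hd2 _
  have hrM : r ∣ M := Int.natCast_dvd_natCast.1 (hr.trans hNM)
  have hr1 : 1 < r := (Fact.out : r.Prime).one_lt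
  have hrq : ¬ r ∣ q := fun h => by
    have h1 : r ∣ q ^ d := dvd_pow h (by omega)
    have h2 := Nat.dvd_sub h1 hrM
    rw [show q ^ d - M = 1 by omega, Nat.dvd_one] at h2
    omega
  have hQr : ((Fintype.card L : ℕ) : ZMod r) = 1 := by
    rw [hL, show q ^ d = M + 1 by omega, Nat.cast_add, (CharP.cast_eq_zero_iff (ZMod r) r M).2 hrM,
      zero_add, Nat.cast_one]
  -- an element of order r
  set xh : ↥(D.group L) := ⟨scalarGL D ι x, g.scalarGL_mem ι x.2⟩ with hxh
  have hxr : xh ^ r = 1 := by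
    refine Subtype.ext ?_
    show scalarGL D ι x ^ r = 1
    rw [← map_pow, ← SubmonoidClass.coe_pow, ← hx, pow_orderOf_eq_one, OneMemClass.coe_one, map_one]
  have hindex : ¬ r ∣ ((D.diagonalSubgroup L).subgroupOf (D.group L)).index := by
    intro hdvd
    set T' := (D.diagonalSubgroup L).subgroupOf (D.group L)
    have h1 := T'.card_mul_index
    rw [Nat.card_congr (Subgroup.subgroupOfEquivOfLe g.diagonal_le_group).toEquiv,
      g.card_group hc, g.card_borel hc] at h1
    have h2 : T'.index = Fintype.card L ^ (D.nroots / 2) * g.weylSum {i | i < D.rank} (Fintype.card L) :=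
      Nat.eq_of_mul_eq_mul_left (Nat.card_pos (α := ↥(D.diagonalSubgroup L))) (h1.trans (by ring))
    rw [h2, ← CharP.cast_eq_zero_iff (ZMod r) r, Nat.cast_mul, Nat.cast_pow, hQr, one_pow, one_mul,
      Good.weylSum, ← g.weyl_eq_wJ, Nat.cast_sum] at hdvd
    simp only [Nat.cast_pow, hQr, one_pow, Finset.sum_const, nsmul_eq_mul, mul_one] at hdvd
    rw [CharP.cast_eq_zero_iff (ZMod r) r] at hdvd
    refine hrW ?_
    rwa [Nat.card_eq_fintype_card, Fintype.card_subtype]
  obtain ⟨⟨gc, hgc⟩, hmem⟩ := exists_conj_mem _ hxr hindex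
  have htd : gc⁻¹ * scalarGL D ι x * gc ∈ D.diagonalSubgroup L := Subgroup.mem_subgroupOf.1 hmem
  let Θ : ↥(D.group F) →* GL D.Idx L :=
    (MulAut.conj gc⁻¹).toMonoidHom.comp ((scalarGL D ι).comp (D.group F).subtype)
  have hΘv : ∀ y : ↥(D.group F), Θ y = gc⁻¹ * scalarGL D ι y * gc := fun y => by
    show gc⁻¹ * scalarGL D ι y * gc⁻¹⁻¹ = _
    rw [inv_inv]
  have hΘinj : Function.Injective Θ := fun a b h =>
    Subtype.ext (scalarGL_injective ι ((MulEquiv.injective (MulAut.conj gc⁻¹)) h))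
  have hdiag := htd
  rw [g.diagonal_eq_range] at hdiag
  obtain ⟨c, hct⟩ := hdiag
  -- the exponents of every torus element
  have hexp : ∀ e : Fin D.rank → Lˣ, ∃ k : Fin D.rank → ℤ,
      ∀ u : Fin D.nroots, rootVal e u = γ ^ (∑ i, g.coVec u i * k i) := by
    intro e
    choose k hk using fun j : Fin D.rank => Subgroup.mem_zpowers_iff.1 (hγ (rootVal e (D.simple j)))
    refine ⟨k, fun u => ?_⟩
    rw [g.rootVal_eq_prod e u.2, zpow_finsum]
    refine Finset.prod_congr rfl fun j _ => ?_
    rw [← hk j, ← _root_.zpow_mul, mul_comm]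
    rfl
  obtain ⟨k, hk⟩ := hexp c
  have hsum : ∀ (j : Fin D.rank) (k : Fin D.rank → ℤ), ∑ i, g.coVec (g.sroot j) i * k i = k j := by
    intro j k
    simp [g.coVec_sroot]
  have hcr : ∀ u : Fin D.nroots, rootVal c u ^ r = 1 := by
    intro u
    have h1 : torHom D L (c ^ r) = torHom D L 1 := by
      rw [map_one, map_pow, hct, show gc⁻¹ * scalarGL D ι x * gc = Θ x from (hΘv x).symm, ← map_pow, ← hx,
        pow_orderOf_eq_one, map_one]
    rw [← rootVal_pow, g.rootVal_eq_of_torHom h1 u.2, rootVal_one]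
  obtain ⟨m, hm⟩ := hrM
  have hm0 : 0 < m := Nat.pos_of_ne_zero fun h => by rw [h, mul_zero] at hm; omega
  have hka : ∀ j, ∃ a : ℤ, (m : ℤ) * a = k j := by
    intro j
    have h1 := hcr (g.sroot j)
    rw [hk, hsum, ← zpow_natCast, ← _root_.zpow_mul, ← _root_.zpow_zero γ, hzz, Int.cast_zero,
      ZMod.intCast_zmod_eq_zero_iff_dvd] at h1
    obtain ⟨b, hb⟩ := h1
    rw [hm, Nat.cast_mul] at hb
    exact ⟨b, mul_right_cancel₀ (b := (r : ℤ)) (by exact_mod_cast (Fact.out : r.Prime).ne_zero) (by rw [hb]; ring)⟩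
  choose a ha using hka
  set v : Fin D.rank → ZMod r := fun j => (a j : ZMod r) with hv
  have hval : ∀ u : Fin D.nroots, rootVal c u = γ ^ ((m : ℤ) * ∑ i, g.coVec u i * a i) := by
    intro u
    rw [hk, Finset.mul_sum]
    congr 1
    exact Finset.sum_congr rfl fun i _ => by rw [← ha i]; ring
  have hmr : ∀ z z' : ℤ, γ ^ ((m : ℤ) * z) = γ ^ ((m : ℤ) * z') ↔ (z : ZMod r) = (z' : ZMod r) := by
    intro z z'
    rw [hzz, ZMod.intCast_eq_intCast_iff_dvd_sub, ZMod.intCast_eq_intCast_iff_dvd_sub, ← mul_sub, hm,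
      Nat.cast_mul, mul_comm (r : ℤ), mul_dvd_mul_iff_left (by exact_mod_cast hm0.ne')]
  have hvec : ∀ (ρ : Equiv.Perm (Fin D.nroots)) (j : Fin D.rank),
      ((g.coMat ρ).map (Int.cast : ℤ → ZMod r) *ᵥ v) j =
        ((∑ i, g.coVec (ρ (g.sroot j)) i * a i : ℤ) : ZMod r) := by
    intro ρ j
    show ∑ t, ((g.coMat ρ j t : ℤ) : ZMod r) * v t = _
    rw [Int.cast_sum]
    exact Finset.sum_congr rfl fun i _ => by rw [Int.cast_mul]; rfl
  have hv0 : v ≠ 0 := by
    intro h0
    have h1 : c = 1 := g.torHom_injective_of_inv hB (g.torHom_eq_of_simple fun j => by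
      rw [show D.simple j = ((g.sroot j : Fin D.nroots) : ℕ) from rfl, hval, hsum, rootVal_one,
        ← _root_.zpow_zero γ, ← mul_zero (m : ℤ), hmr, Int.cast_zero]
      exact congrFun h0 j)
    rw [h1, map_one, eq_comm, show gc⁻¹ * scalarGL D ι x * gc = Θ x from (hΘv x).symm, ← map_one Θ] at hct
    rw [hΘinj hct, orderOf_one] at hx
    omega
  -- the Frobenius twist
  have hφm : ∀ {z : GL D.Idx L}, z ∈ D.group L → scalarGL D φ z ∈ D.group L := fun hz => g.scalarGL_mem φ hz
  have hφx : ∀ y : GL D.Idx F, scalarGL D φ (scalarGL D ι y) = scalarGL D ι y := fun y =>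
    Units.ext (Matrix.ext fun i j => hφι _)
  set af := gc⁻¹ * scalarGL D φ gc with haf
  have hafm : af ∈ D.group L := mul_mem (inv_mem hgc) (hφm hgc)
  have hφt : scalarGL D φ (torHom D L c) = af⁻¹ * torHom D L c * af := by
    rw [hct, map_mul, map_mul, map_inv, hφx, haf]
    group
  obtain ⟨n, hn, hnt⟩ := g.diagonal_fusion hc (g.torHom_mem c)
    (show scalarGL D φ (torHom D L c) ∈ D.diagonalSubgroup L by rw [scalarGL_torHom]; exact g.torHom_mem _)
    (inv_mem hafm) (by rw [hφt, inv_inv])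
  obtain ⟨π, hπw, hπ⟩ := g.exists_acts hn
  set R := g.coMat π⁻¹ with hR
  have hφval : ∀ (e : Fin D.rank → Lˣ) (u : ℕ),
      rootVal (fun i => Units.map (φ : L →* L) (e i)) u = rootVal e u ^ q := by
    intro e u
    simp only [rootVal, ← Finset.prod_pow]
    refine Finset.prod_congr rfl fun i _ => ?_
    rw [show Units.map (φ : L →* L) (e i) = e i ^ q from Units.ext (by simp [hφ]), ← zpow_natCast (e i) q,
      ← zpow_natCast _ q, ← _root_.zpow_mul, ← _root_.zpow_mul, mul_comm]
  have hRv : R.map (Int.cast : ℤ → ZMod r) *ᵥ v = ((q : ℤ) : ZMod r) • v := by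
    funext j
    rw [Pi.smul_apply, smul_eq_mul, hR, hvec, show ((q : ℤ) : ZMod r) * v j = (((q : ℤ) * a j : ℤ) : ZMod r) by
      rw [Int.cast_mul], ← hmr]
    have h := g.rootVal_conj hπ (c := c) (hnt.trans (scalarGL_torHom φ c)) (π⁻¹ (g.sroot j))
    rw [show π (π⁻¹ (g.sroot j)) = g.sroot j from π.apply_symm_apply _, hφval, hval, hsum, hval,
      ← zpow_natCast, ← _root_.zpow_mul] at h
    rw [← h]
    congr 1
    ring
  have hπ' := inv_mem hπw
  set e := orderOf (⟨π⁻¹, hπ'⟩ : ↥g.weyl) with he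
  have hRe : R ^ e = 1 := by
    rw [hR, ← g.coMat_pow hπ', show (π⁻¹) ^ e = ((⟨π⁻¹, hπ'⟩ : ↥g.weyl) ^ e : ↥g.weyl).1 from rfl,
      he, pow_orderOf_eq_one]
    exact g.coMat_one
  have hchar : R.charpoly = cyclotomic d ℤ :=
    charpoly_eq_cyclotomic R hRe (orderOf_pos _) (by rw [hd, Fintype.card_fin]) hrd
      (fun h => hrW (h.trans (orderOf_dvd_natCard _))) hr hv0 hRv
  have hmm : ∀ A A' : Matrix (Fin D.rank) (Fin D.rank) ℤ,
      (A * A').map (Int.cast : ℤ → ZMod r) = A.map (Int.cast : ℤ → ZMod r) * A'.map (Int.cast : ℤ → ZMod r) :=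
    fun A A' => Matrix.map_mul (f := Int.castRingHom (ZMod r))
  have hq0 : ((q : ℤ) : ZMod r) ≠ 0 := by
    rw [Int.cast_natCast, ne_eq, CharP.cast_eq_zero_iff (ZMod r) r]; exact hrq
  have hstab : ∀ ρ ∈ g.weyl, (g.coMat ρ).map (Int.cast : ℤ → ZMod r) *ᵥ v = v → ρ = 1 := by
    intro ρ₀ hρ₀ hρ₀v
    set S : Finset (Equiv.Perm (Fin D.nroots)) := Finset.univ.filter fun ρ =>
      ρ ∈ g.weyl ∧ (g.coMat ρ).map (Int.cast : ℤ → ZMod r) *ᵥ v = v with hS
    have hmul : ∀ ρ ∈ S, ∀ σ ∈ S, ρ * σ ∈ S := by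
      intro ρ hρ σ hσ
      simp only [hS, Finset.mem_filter, Finset.mem_univ, true_and] at hρ hσ ⊢
      refine ⟨mul_mem hρ.1 hσ.1, ?_⟩
      rw [g.coMat_mul hρ.1, hmm, ← Matrix.mulVec_mulVec, hρ.2, hσ.2]
    have hS1 : (1 : Equiv.Perm (Fin D.nroots)) ∈ S := by
      simp only [hS, Finset.mem_filter, Finset.mem_univ, true_and]
      refine ⟨one_mem _, ?_⟩
      rw [g.coMat_one, Matrix.map_one _ Int.cast_zero Int.cast_one, Matrix.one_mulVec]
    have hρS : ρ₀ ∈ S := by simp [hS, hρ₀, hρ₀v]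
    set E : Matrix (Fin D.rank) (Fin D.rank) ℤ := ∑ ρ ∈ S, g.coMat ρ with hE
    have hEv : E.map (Int.cast : ℤ → ZMod r) *ᵥ v = ((S.card : ℕ) : ZMod r) • v := by
      rw [show E.map (Int.cast : ℤ → ZMod r) = (Int.castRingHom (ZMod r)).mapMatrix E from rfl, hE, map_sum,
        Matrix.sum_mulVec]
      have hone : ∀ ρ ∈ S, (Int.castRingHom (ZMod r)).mapMatrix (g.coMat ρ) *ᵥ v = v := fun ρ hρ => by
        simp only [hS, Finset.mem_filter] at hρ
        exact hρ.2.2
      rw [Finset.sum_congr rfl hone, Finset.sum_const, Nat.cast_smul_eq_nsmul]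
    have hScard : ¬ r ∣ S.card := by
      intro hdvd
      let SG : Subgroup (Equiv.Perm (Fin D.nroots)) :=
        { carrier := ↑S
          mul_mem' := fun h1 h2 => hmul _ h1 _ h2
          one_mem' := hS1
          inv_mem' := fun {ρ} hρ => by
            have hpow : ∀ i : ℕ, ρ ^ i ∈ S := fun i => by
              induction i with
              | zero => simpa using hS1
              | succ i ih => rw [pow_succ]; exact hmul _ ih _ hρ
            show ρ⁻¹ ∈ S
            rw [show ρ⁻¹ = ρ ^ (orderOf ρ - 1) from inv_eq_of_mul_eq_one_right (by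
              rw [← pow_succ', Nat.sub_add_cancel (orderOf_pos ρ), pow_orderOf_eq_one])]
            exact hpow _ }
      have hle : SG ≤ g.weyl := fun ρ hρ => by
        have hρ' : ρ ∈ S := hρ
        simp only [hS, Finset.mem_filter] at hρ'
        exact hρ'.2.1
      refine hrW (hdvd.trans ?_)
      refine dvd_trans (dvd_of_eq ?_) (Subgroup.card_dvd_of_le hle)
      show S.card = Nat.card ↥(↑S : Set (Equiv.Perm (Fin D.nroots)))
      simp
    have hEne : E ≠ 0 := by
      intro h0
      rw [h0, Matrix.map_zero _ Int.cast_zero, Matrix.zero_mulVec, eq_comm, smul_eq_zero] at hEv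
      rcases hEv with h | h
      · exact hScard ((CharP.cast_eq_zero_iff (ZMod r) r _).1 h)
      · exact hv0 h
    have hconjS : ∀ ρ ∈ S, π * ρ * π⁻¹ ∈ S := by
      intro ρ hρ
      simp only [hS, Finset.mem_filter, Finset.mem_univ, true_and] at hρ ⊢
      refine ⟨mul_mem (mul_mem hπw hρ.1) hπ', ?_⟩
      have hv' : v = ((q : ℤ) : ZMod r) • ((g.coMat π).map (Int.cast : ℤ → ZMod r) *ᵥ v) := by
        rw [← Matrix.mulVec_smul, ← hRv, Matrix.mulVec_mulVec, ← hmm, hR, (g.coMat_inv_mul hπw).2,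
          Matrix.map_one _ Int.cast_zero Int.cast_one, Matrix.one_mulVec]
      rw [g.coMat_mul (mul_mem hπw hρ.1), g.coMat_mul hπw, hmm, hmm, ← Matrix.mulVec_mulVec,
        ← Matrix.mulVec_mulVec]
      refine smul_right_injective (Fin D.rank → ZMod r) hq0 ?_
      show ((q : ℤ) : ZMod r) • _ = ((q : ℤ) : ZMod r) • v
      rw [← hRv, hR]
      conv_rhs => rw [← hρ.2]
      rw [← Matrix.mulVec_smul, ← Matrix.mulVec_smul, ← Matrix.mulVec_smul]
      congr 1
      rw [Matrix.mulVec_smul _ _ v, ← hv']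
    have hcomm : E * R = R * E := by
      have h : R * E * g.coMat π = E := by
        rw [hE, Finset.mul_sum, Finset.sum_mul]
        have hterm : ∀ ρ ∈ S, R * g.coMat ρ * g.coMat π = g.coMat (π * ρ * π⁻¹) := fun ρ hρ => by
          have hρw : ρ ∈ g.weyl := by simp only [hS, Finset.mem_filter] at hρ; exact hρ.2.1
          rw [g.coMat_mul (mul_mem hπw hρw), g.coMat_mul hπw, hR, Matrix.mul_assoc]
        rw [Finset.sum_congr rfl hterm]
        refine Finset.sum_bij (fun ρ _ => π * ρ * π⁻¹) hconjS (fun ρ _ σ _ h => by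
          simpa using h) (fun ρ hρ => ?_) fun ρ _ => rfl
        have hsurj : (S.image fun ρ => π * ρ * π⁻¹) = S :=
          Finset.eq_of_subset_of_card_le (Finset.image_subset_iff.2 hconjS)
            (by rw [Finset.card_image_of_injective _ fun _ _ h => by simpa using h])
        rw [← hsurj, Finset.mem_image] at hρ
        obtain ⟨σ, hσ, hσ'⟩ := hρ
        exact ⟨σ, hσ, hσ'⟩
      calc E * R = R * E * g.coMat π * R := by rw [h]
        _ = R * E := by rw [Matrix.mul_assoc (R * E), hR, (g.coMat_inv_mul hπw).2, Matrix.mul_one]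
    have hEd := det_ne_zero_of_commute (by omega) hchar hcomm hEne
    refine g.coMat_eq_one hρ₀ ?_
    have h2 : g.coMat ρ₀ * E = E := by
      rw [hE, Finset.mul_sum]
      have hterm : ∀ σ ∈ S, g.coMat ρ₀ * g.coMat σ = g.coMat (σ * ρ₀) := fun σ hσ => by
        simp only [hS, Finset.mem_filter] at hσ
        rw [g.coMat_mul hσ.2.1]
      rw [Finset.sum_congr rfl hterm]
      refine Finset.sum_bij (fun σ _ => σ * ρ₀) (fun σ hσ => hmul _ hσ _ hρS)
        (fun σ _ τ _ h => mul_right_cancel h) (fun σ hσ => ?_) fun σ _ => rfl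
      have hsurj : (S.image fun τ => τ * ρ₀) = S :=
        Finset.eq_of_subset_of_card_le (Finset.image_subset_iff.2 fun τ hτ => hmul _ hτ _ hρS)
          (by rw [Finset.card_image_of_injective _ fun _ _ h => mul_right_cancel h])
      rw [← hsurj, Finset.mem_image] at hσ
      obtain ⟨τ, hτ, hτ'⟩ := hσ
      exact ⟨τ, hτ, hτ'⟩
    have h3 : (g.coMat ρ₀ - 1) * (E.det • (1 : Matrix (Fin D.rank) (Fin D.rank) ℤ)) = 0 := by
      rw [← Matrix.mul_adjugate, ← Matrix.mul_assoc, Matrix.sub_mul, Matrix.one_mul, h2, sub_self, Matrix.zero_mul]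
    rw [Matrix.mul_smul, Matrix.mul_one, smul_eq_zero] at h3
    exact sub_eq_zero.1 (h3.resolve_left hEd)
  have hne : ∀ u : Fin D.nroots, rootVal c u ≠ 1 := by
    intro u h1
    rw [hval, ← _root_.zpow_zero γ, ← mul_zero (m : ℤ), hmr, Int.cast_zero] at h1
    obtain ⟨s, hs, hsu, hsfix⟩ := g.exists_reflection u
    have := hstab s hs (hsfix _ v (by rw [← h1, Int.cast_sum]; simp [hv]))
    rw [this, Equiv.Perm.one_apply] at hsu
    exact g.neg_ne u.2 (congrArg Fin.val hsu).symm
  have hcentral : ∀ {y : GL D.Idx L}, y ∈ D.group L → y * torHom D L c = torHom D L c * y →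
      y ∈ D.diagonalSubgroup L := by
    intro y hy hcy
    refine g.centralizer_regular_stab hc (c := c) (fun u hu => hne ⟨u, hu⟩) ?_ hy hcy
    intro _ ρ hρw _ hρfix
    refine hstab ρ hρw (funext fun j => ?_)
    rw [hvec, hv]
    have h := hρfix (g.sroot j)
    rw [hval, hval, hmr, hsum] at h
    exact h
  have hafn : af * n ∈ D.diagonalSubgroup L := by
    refine hcentral (mul_mem hafm (g.monomial_le_group hn)) ?_
    have h1 : n * torHom D L c = af⁻¹ * torHom D L c * af * n := by
      rw [← hφt, ← hnt]; group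
    rw [mul_assoc, h1]; group
  have hkey : ∀ {z : GL D.Idx L}, z ∈ D.diagonalSubgroup L →
      (scalarGL D φ (gc * z * gc⁻¹) = gc * z * gc⁻¹ ↔ scalarGL D φ z = n * z * n⁻¹) := by
    intro z hz
    have hgg : scalarGL D φ gc = gc * af := by rw [haf]; group
    have hz2 : af⁻¹ * z * af = n * z * n⁻¹ := by
      have h := g.diagonal_comm hafn hz
      calc af⁻¹ * z * af = n * ((af * n)⁻¹ * (z * (af * n))) * n⁻¹ := by group
        _ = n * z * n⁻¹ := by rw [← h, inv_mul_cancel_left]
    rw [map_mul, map_mul, map_inv, hgg, ← hz2]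
    constructor
    · intro h
      calc scalarGL D φ z = af⁻¹ * (gc⁻¹ * (gc * af * scalarGL D φ z * (gc * af)⁻¹) * gc) * af := by group
        _ = af⁻¹ * z * af := by rw [h]; group
    · intro h; rw [h]; group
  -- the exponent group
  set A : Matrix (Fin D.rank) (Fin D.rank) ℤ := Matrix.scalar _ (q : ℤ) - R with hA
  have hdet : A.det = N := by rw [hA, hN, ← hchar, Matrix.eval_charpoly]
  set K := (Matrix.toLin' (A.map (Int.cast : ℤ → ZMod M))).toAddMonoidHom.ker with hK
  have hKcard : Nat.card K = N.natAbs := by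
    rw [hK, card_ker_mod A (by rw [hdet]; exact hN0.ne') (by rw [hdet]; exact hNM), hdet]
  have hKmem : ∀ κ : Fin D.rank → ℤ, (fun j => (κ j : ZMod M)) ∈ K ↔
      ∀ j, (((q : ℤ) * κ j : ℤ) : ZMod M) = ((∑ i, g.coVec (π⁻¹ (g.sroot j)) i * κ i : ℤ) : ZMod M) := by
    intro κ
    rw [hK, AddMonoidHom.mem_ker, funext_iff]
    refine forall_congr' fun j => ?_
    show (A.map (Int.cast : ℤ → ZMod M) *ᵥ fun i => (κ i : ZMod M)) j = 0 ↔ _
    rw [show A.map (Int.cast : ℤ → ZMod M) = (Int.castRingHom (ZMod M)).mapMatrix A from rfl, hA, map_sub,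
      Matrix.sub_mulVec, Pi.sub_apply, sub_eq_zero]
    refine Iff.of_eq (congrArg₂ (· = ·) ?_ ?_)
    · rw [show (Int.castRingHom (ZMod M)).mapMatrix (Matrix.scalar (Fin D.rank) (q : ℤ)) =
        Matrix.scalar (Fin D.rank) ((q : ℤ) : ZMod M) from Matrix.ext fun x y => by
          simp [Matrix.scalar_apply, Matrix.diagonal_apply, apply_ite (Int.cast : ℤ → ZMod M)]]
      simp [Matrix.scalar_apply, Matrix.mulVec_diagonal]
    · show ∑ t, ((R j t : ℤ) : ZMod M) * ((κ t : ℤ) : ZMod M) = _
      rw [Int.cast_sum]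
      exact Finset.sum_congr rfl fun i _ => by rw [Int.cast_mul, hR]; rfl
  let zk : (Fin D.rank → ℤ) → GL D.Idx L := fun κ => torHom D L (powMap B fun j => γ ^ κ j)
  have hzkd : ∀ κ, zk κ ∈ D.diagonalSubgroup L := fun κ => g.torHom_mem _
  have hzcongr : ∀ κ κ' : Fin D.rank → ℤ, (∀ j, (κ j : ZMod M) = (κ' j : ZMod M)) → zk κ = zk κ' := by
    intro κ κ' h
    show torHom D L _ = torHom D L _
    congr 2
    funext j
    exact (hzz _ _).2 (h j)
  have hfixiff : ∀ κ, scalarGL D φ (zk κ) = n * zk κ * n⁻¹ ↔ (fun j => (κ j : ZMod M)) ∈ K := by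
    intro κ
    have hnd : n * zk κ * n⁻¹ ∈ D.diagonalSubgroup L := g.diag_conj hn (hzkd κ)
    rw [g.diagonal_eq_range] at hnd
    obtain ⟨e', he'⟩ := hnd
    rw [hKmem, show scalarGL D φ (zk κ) = _ from scalarGL_torHom φ _, ← he']
    have hR' : ∀ j : Fin D.rank, rootVal e' (D.simple j) = γ ^ (∑ i, g.coVec (π⁻¹ (g.sroot j)) i * κ i) := by
      intro j
      have h := g.rootVal_conj hπ (c := powMap B fun j => γ ^ κ j) he'.symm (π⁻¹ (g.sroot j))
      rw [show π (π⁻¹ (g.sroot j)) = g.sroot j from π.apply_symm_apply _, g.rootVal_powMap γ hB] at h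
      exact h
    have hL' : ∀ j : Fin D.rank, rootVal (fun i => Units.map (φ : L →* L) ((powMap B fun j => γ ^ κ j) i))
        (D.simple j) = γ ^ ((q : ℤ) * κ j) := by
      intro j
      rw [hφval, show D.simple j = ((g.sroot j : Fin D.nroots) : ℕ) from rfl, g.rootVal_powMap γ hB, hsum,
        ← zpow_natCast, ← _root_.zpow_mul, mul_comm]
    constructor
    · intro h j
      rw [← hzz, ← hR', ← hL']
      exact g.rootVal_eq_of_torHom h (g.simple_lt j.2)
    · intro h
      refine g.torHom_eq_of_simple fun j => ?_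
      rw [hR', hL', hzz]
      exact h j
  let ψ : Multiplicative K →* GL D.Idx L :=
    MonoidHom.mk' (fun κ => zk fun j => (((Multiplicative.toAdd κ).1 j).val : ℤ)) fun κ κ' => by
      rw [← map_mul]
      show torHom D L _ = _
      congr 1
      rw [← map_mul]
      congr 1
      funext j
      show γ ^ (((Multiplicative.toAdd (κ * κ')).1 j).val : ℤ) = _
      rw [Pi.mul_apply, ← _root_.zpow_add, hzz]
      simp
  have hcastval : ∀ (κ : Fin D.rank → ZMod M), (fun j => (((κ j).val : ℤ) : ZMod M)) = κ := fun κ =>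
    funext fun j => by simp
  have hψinj : Function.Injective ψ := by
    intro κ κ' h
    have h' := fun j : Fin D.rank => g.rootVal_eq_of_torHom h (g.simple_lt j.2)
    refine Multiplicative.toAdd.injective (Subtype.ext (funext fun j => ?_))
    have h2 := h' j
    rw [show D.simple j = ((g.sroot j : Fin D.nroots) : ℕ) from rfl, g.rootVal_powMap γ hB,
      g.rootVal_powMap γ hB, hsum, hsum, hzz] at h2
    simpa using h2
  set C : Subgroup ↥(D.group F) := (D.diagonalSubgroup L).comap Θ with hC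
  have hCmap : C.map Θ = ψ.range := by
    ext z
    constructor
    · rintro ⟨y, hy, rfl⟩
      have hd' : Θ y ∈ D.diagonalSubgroup L := hy
      rw [g.diagonal_eq_range] at hd'
      obtain ⟨e', he'⟩ := hd'
      obtain ⟨κ, hκ⟩ := hexp e'
      have hz : zk κ = Θ y := by
        rw [← he']
        refine g.torHom_eq_of_simple fun j => ?_
        rw [show D.simple j = ((g.sroot j : Fin D.nroots) : ℕ) from rfl, g.rootVal_powMap γ hB, hκ]
      have hmemK : (fun j => (κ j : ZMod M)) ∈ K := by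
        rw [← hfixiff, ← hkey (hzkd κ), hz, hΘv,
          show gc * (gc⁻¹ * scalarGL D ι y * gc) * gc⁻¹ = scalarGL D ι y by group]
        exact hφx y
      refine ⟨Multiplicative.ofAdd ⟨_, hmemK⟩, ?_⟩
      rw [← hz]
      exact hzcongr _ _ fun j => by simp
    · rintro ⟨κ, rfl⟩
      set κ' : Fin D.rank → ℤ := fun j => (((Multiplicative.toAdd κ).1 j).val : ℤ)
      have hψ : ψ κ = zk κ' := rfl
      have hmemK : (fun j => (κ' j : ZMod M)) ∈ K := by
        rw [hcastval]; exact (Multiplicative.toAdd κ).2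
      have hfixed := (hkey (hzkd κ')).2 ((hfixiff κ').2 hmemK)
      obtain ⟨y, hy, hye⟩ := g.fixed_range hc hB ι φ hfix
        (mul_mem (mul_mem hgc (g.diagonal_le_group (hzkd κ'))) (inv_mem hgc)) hfixed
      have hΘy : Θ ⟨y, hy⟩ = zk κ' := by rw [hΘv]; show gc⁻¹ * scalarGL D ι y * gc = _; rw [hye]; group
      exact ⟨⟨y, hy⟩, show Θ ⟨y, hy⟩ ∈ _ from hΘy ▸ hzkd κ', hΘy.trans hψ.symm⟩
  haveI : Finite (Multiplicative K) := inferInstanceAs (Finite K)
  have hKcyc : IsCyclic (Multiplicative K) := by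
    refine isCyclic_of_prime_torsion fun s hs => ?_
    haveI : Fact s.Prime := ⟨hs⟩
    by_cases hsd : s ∣ d
    · let T : Subgroup (Multiplicative K) := (powMonoidHom s).ker
      have hT : Nat.card {z : Multiplicative K // z ^ s = 1} = Nat.card T :=
        Nat.card_congr (Equiv.subtypeEquivRight fun z => by simp [T, MonoidHom.mem_ker])
      have hTp : IsPGroup s T := fun z => ⟨1, Subtype.ext (by
        rw [pow_one, SubmonoidClass.coe_pow]; exact MonoidHom.mem_ker.1 z.2)⟩
      obtain ⟨i, hi⟩ := IsPGroup.iff_card.1 hTp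
      rw [hT, hi]
      have hdvd : s ^ i ∣ N.natAbs := by
        rw [← hi, ← hKcard, ← Nat.card_congr (Multiplicative.toAdd (α := ↥K))]
        exact T.card_subgroup_dvd_card
      have hi1 : i ≤ 1 := by
        by_contra hi2
        refine hcyc s hs hsd ?_
        rw [← Nat.cast_pow, Int.natCast_dvd]
        exact (pow_dvd_pow s (by omega)).trans hdvd
      calc s ^ i ≤ s ^ 1 := Nat.pow_le_pow_right hs.pos hi1
        _ = s := pow_one s
    · refine le_trans ?_ (card_eigen_le hchar hsd (q : ℤ))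
      have hker : ∀ z : {z : Multiplicative K // z ^ s = 1}, ∀ j, M ∣ s * ((Multiplicative.toAdd z.1).1 j).val := by
        intro z j
        have h1 := congrArg (fun w : Multiplicative K => (Multiplicative.toAdd w).1 j) z.2
        simp only [toAdd_pow, toAdd_one, AddSubgroup.coe_nsmul, ZeroMemClass.coe_zero, Pi.smul_apply,
          Pi.zero_apply, nsmul_eq_mul] at h1
        rw [← ZMod.natCast_zmod_val ((Multiplicative.toAdd z.1).1 j), ← Nat.cast_mul,
          CharP.cast_eq_zero_iff (ZMod M) M] at h1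
        exact h1
      by_cases hsM : s ∣ M
      · obtain ⟨m', hm'⟩ := hsM
        have hm'0 : 0 < m' := Nat.pos_of_ne_zero fun h => by rw [h, mul_zero] at hm'; omega
        have hdiv : ∀ z : {z : Multiplicative K // z ^ s = 1}, ∀ j,
            ∃ u : ℕ, ((Multiplicative.toAdd z.1).1 j).val = m' * u := fun z j => by
          exact (Nat.mul_dvd_mul_iff_left hs.pos).1 ((dvd_of_eq hm'.symm).trans (hker z j))
        choose u hu using hdiv
        refine Nat.card_le_card_of_injective (fun z => ⟨fun j => ((u z j : ℕ) : ZMod s), ?_⟩) ?_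
        · have hz := (Multiplicative.toAdd z.1).2
          rw [show (Multiplicative.toAdd z.1).1 = fun j => (((m' * u z j : ℕ) : ℤ) : ZMod M) from
            funext fun j => by rw [Int.cast_natCast, ← hu, ZMod.natCast_zmod_val], hKmem] at hz
          funext j
          have hj := hz j
          rw [ZMod.intCast_eq_intCast_iff_dvd_sub] at hj
          have hj' : (M : ℤ) ∣ (m' : ℤ) * (∑ i, g.coVec (π⁻¹ (g.sroot j)) i * (u z i : ℤ) - (q : ℤ) * (u z j : ℤ)) := by
            convert hj using 1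
            rw [mul_sub, Finset.mul_sum]
            push_cast
            congr 1
            · exact Finset.sum_congr rfl fun i _ => by ring
            · ring
          rw [hm', Nat.cast_mul, mul_comm (s : ℤ), mul_dvd_mul_iff_left (by exact_mod_cast hm'0.ne'),
            ← ZMod.intCast_zmod_eq_zero_iff_dvd, Int.cast_sub, sub_eq_zero, Int.cast_sum] at hj'
          rw [Pi.smul_apply, smul_eq_mul]
          calc (R.map (Int.cast : ℤ → ZMod s) *ᵥ fun i => ((u z i : ℕ) : ZMod s)) j
              = ∑ i, ((g.coVec (π⁻¹ (g.sroot j)) i * (u z i : ℤ) : ℤ) : ZMod s) :=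
                (show ∑ t, ((R j t : ℤ) : ZMod s) * ((u z t : ℕ) : ZMod s) = _ from
                  Finset.sum_congr rfl fun i _ => by rw [Int.cast_mul, Int.cast_natCast, hR]; rfl)
            _ = _ := by rw [hj', Int.cast_mul, Int.cast_natCast (u z j)]
        · intro z z' h
          refine Subtype.ext (Multiplicative.toAdd.injective (Subtype.ext (funext fun j => ?_)))
          have h1 : ((u z j : ℕ) : ZMod s) = ((u z' j : ℕ) : ZMod s) := congrFun (congrArg Subtype.val h) j
          rw [ZMod.natCast_eq_natCast_iff] at h1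
          apply ZMod.val_injective M
          rw [hu, hu]
          congr 1
          have b1 := ZMod.val_lt ((Multiplicative.toAdd z.1).1 j)
          have b2 := ZMod.val_lt ((Multiplicative.toAdd z'.1).1 j)
          rw [hu, hm', mul_comm s] at b1 b2
          exact Nat.ModEq.eq_of_lt_of_lt h1 (Nat.lt_of_mul_lt_mul_left b1) (Nat.lt_of_mul_lt_mul_left b2)
      · refine Nat.card_le_card_of_injective (fun _ => ⟨0, by rw [Matrix.mulVec_zero, smul_zero]⟩) ?_
        intro z z' _
        refine Subtype.ext (Multiplicative.toAdd.injective (Subtype.ext (funext fun j => ?_)))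
        have hz0 : ∀ z : {z : Multiplicative K // z ^ s = 1}, (Multiplicative.toAdd z.1).1 j = 0 := fun z => by
          refine (ZMod.val_eq_zero _).1 (Nat.eq_zero_of_dvd_of_lt ?_ (ZMod.val_lt _))
          exact ((Nat.Prime.coprime_iff_not_dvd hs).2 hsM).symm.dvd_of_dvd_mul_left (hker z j)
        rw [hz0, hz0]
  have hCcard : Nat.card C = N.natAbs := by
    rw [← Subgroup.card_map_of_injective hΘinj, hCmap, ← hKcard]
    exact (Nat.card_congr (MonoidHom.ofInjective hψinj).toEquiv).symm
  haveI : IsCyclic ↥C := by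
    haveI : IsCyclic ↥ψ.range := isCyclic_of_surjective ψ.rangeRestrict ψ.rangeRestrict_surjective
    exact (((C.equivMapOfInjective Θ hΘinj).trans (MulEquiv.subgroupCongr hCmap)).symm).isCyclic.1 inferInstance
  have hxC : x ∈ C := show Θ x ∈ _ by rw [hΘv]; exact htd
  have hCx : Subgroup.centralizer ({x} : Set ↥(D.group F)) = C := by
    refine le_antisymm (fun z hz => ?_) fun z hz => ?_
    · have hzx : z * x = x * z := Subgroup.mem_centralizer_singleton_iff.1 hz
      show Θ z ∈ D.diagonalSubgroup L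
      have hΘm : Θ z ∈ D.group L := by
        rw [hΘv]; exact mul_mem (mul_mem (inv_mem hgc) (g.scalarGL_mem ι z.2)) hgc
      refine hcentral hΘm ?_
      rw [show torHom D L c = Θ x from hct.trans (hΘv x).symm, ← map_mul, ← map_mul, hzx]
    · refine Subgroup.mem_centralizer_singleton_iff.2 (hΘinj ?_)
      rw [map_mul, map_mul]
      exact g.diagonal_comm hz hxC
  rw [hCx]
  exact ⟨inferInstance, hCcard⟩

end CfsgLib.Chev.Springer
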