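import Mathlib
import Cfsg.Agent.Lib.Chev.SpringerCent
import Cfsg.Agent.Lib.Chev.E6Coxeter
import Cfsg.Agent.Lib.Chev.F4PrimeTorus
import Cfsg.Agent.Lib.Chev.F4PrimePair
import Cfsg.Agent.Lib.Chev.F4RootSL2

/-!
The prime graph of F₄(2 ^ n).
-/

set_option autoImplicit false
set_option maxHeartbeats 1000000
set_option maxRecDepth 100000

namespace CfsgLib.Chev.F4Graph

open Cfsg.Lie Matrix Polynomial

variable {F : Type*} [Field F] [Fintype F] {q : ℕ}

theorem eval_regular (l : ℕ) (hl : l ∈ ({8, 12} : Finset ℕ)) :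
    (cyclotomic l ℤ).eval (q : ℤ) = (q : ℤ) ^ 4 + 1 ∧ l = 8 ∨
      (cyclotomic l ℤ).eval (q : ℤ) = (q : ℤ) ^ 4 - (q : ℤ) ^ 2 + 1 ∧ l = 12 := by
  simp only [Finset.mem_insert, Finset.mem_singleton] at hl
  rcases hl with rfl | rfl
  · exact Or.inl ⟨Springer.eval_cyclotomic_eight _, rfl⟩
  · refine Or.inr ⟨?_, rfl⟩
    rw [Springer.cyclotomic_twelve]
    simp

lemma phi12_mod_three : ∀ z : ZMod 3, z ^ 4 - z ^ 2 + 1 ≠ 0 := by decide

lemma dvd_eval_of_order {s : ℕ} [Fact s.Prime] {l : ℕ} (hl : orderOf (q : ZMod s) = l) (hl0 : 0 < l) :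
    (s : ℤ) ∣ (cyclotomic l ℤ).eval (q : ℤ) ∧ ¬ s ∣ l := by
  have hq0 : (q : ZMod s) ≠ 0 := fun h => by rw [h, orderOf_zero] at hl; omega
  have hd : l ∣ s - 1 := hl ▸ orderOf_dvd_of_pow_eq_one (ZMod.pow_card_sub_one_eq_one hq0)
  have hsl : ¬ s ∣ l := fun h => by
    have := Nat.le_of_dvd hl0 h
    have := Nat.le_of_dvd (Nat.sub_pos_of_lt (Fact.out : s.Prime).one_lt) hd
    omega
  refine ⟨?_, hsl⟩
  haveI : NeZero (l : ZMod s) := ⟨by rw [ne_eq, CharP.cast_eq_zero_iff (ZMod s) s]; exact hsl⟩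
  have hroot : (cyclotomic l (ZMod s)).IsRoot (q : ZMod s) :=
    isRoot_cyclotomic_iff.2 (hl ▸ IsPrimitiveRoot.orderOf _)
  rw [← map_cyclotomic_int, IsRoot.def, eval_map, eval₂_at_natCast] at hroot
  exact (ZMod.intCast_zmod_eq_zero_iff_dvd _ _).1 hroot

/-- The centraliser of an element of regular order. -/
theorem centralizer_regular_order (hF : Fintype.card F = q) (hq : 2 ∣ q) {s : ℕ} [Fact s.Prime] {l : ℕ}
    (hl : l ∈ ({8, 12} : Finset ℕ)) (hs : orderOf (q : ZMod s) = l) {x : ↥(chevF4.group F)} (hx : orderOf x = s) :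
    IsCyclic ↥(Subgroup.centralizer ({x} : Set ↥(chevF4.group F))) ∧
      Nat.card ↥(Subgroup.centralizer ({x} : Set ↥(chevF4.group F))) = ((cyclotomic l ℤ).eval (q : ℤ)).natAbs := by
  have hl0 : 3 ≤ l ∧ l.totient = 4 :=
    (show ∀ e ∈ ({8, 12} : Finset ℕ), 3 ≤ e ∧ e.totient = 4 by decide) l hl
  obtain ⟨hsd, hsl⟩ := dvd_eval_of_order hs (by omega)
  have hsq : ¬ s ∣ q := fun h => by
    rw [(CharP.cast_eq_zero_iff (ZMod s) s q).2 h, orderOf_zero] at hs; omega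
  obtain ⟨h5, h1152⟩ := not_dvd_weyl (hs ▸ hl0.1) hsq
  have hq2 : ((q : ℤ) : ZMod 2) = 0 := by
    rw [Int.cast_natCast]; exact (CharP.cast_eq_zero_iff (ZMod 2) 2 q).2 hq
  refine Springer.centralizer_torus_element (d := l) (r := s) goodF4 (hasComm_of_mem (by simp))
    (mul_eq_one_comm.1 cartanF4_mul_inv) F q hF (hl0.2.trans (by decide +kernel)) (by omega) hsd hsl
    (by rwa [card_weylF4]) ?_ hx
  intro p hp hpl hdvd
  have hp' : (p : ℤ) ∣ (cyclotomic l ℤ).eval (q : ℤ) := (dvd_pow_self _ two_ne_zero).trans hdvd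
  have h2 : ¬ (2 : ℤ) ∣ (cyclotomic l ℤ).eval (q : ℤ) := by
    intro h
    have h' : ((((cyclotomic l ℤ).eval (q : ℤ)) : ℤ) : ZMod 2) = 0 := (ZMod.intCast_zmod_eq_zero_iff_dvd _ 2).2 h
    rcases eval_regular (q := q) l hl with ⟨e, -⟩ | ⟨e, -⟩ <;> rw [e] at h' <;> push_cast at h' <;>
      rw [Int.cast_natCast] at hq2 <;> simp [hq2] at h'
  rcases eval_regular (q := q) l hl with ⟨e, rfl⟩ | ⟨e, rfl⟩
  · have : p = 2 := (Nat.prime_dvd_prime_iff_eq hp Nat.prime_two).1 (hp.dvd_of_dvd_pow (n := 3) (by norm_num; exact hpl))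
    exact h2 (by rw [this] at hp'; exact_mod_cast hp')
  · rcases hp.dvd_mul.1 (show p ∣ 2 ^ 2 * 3 from hpl) with h | h
    · rw [(Nat.prime_dvd_prime_iff_eq hp Nat.prime_two).1 (hp.dvd_of_dvd_pow h)] at hp'
      exact h2 (by exact_mod_cast hp')
    · rw [(Nat.prime_dvd_prime_iff_eq hp Nat.prime_three).1 h, e, ← ZMod.intCast_zmod_eq_zero_iff_dvd] at hp'
      exact phi12_mod_three ((q : ℤ) : ZMod 3) (by push_cast at hp' ⊢; exact hp')

/-- An element of regular order commutes with no element of a prime order with another order of `q`. -/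
theorem not_commute_regular (hF : Fintype.card F = q) (hq : 2 ∣ q) {r s : ℕ} [Fact r.Prime] [Fact s.Prime] {l : ℕ}
    (hl : l ∈ ({8, 12} : Finset ℕ)) (hs : orderOf (q : ZMod s) = l) (hr : orderOf (q : ZMod r) ≠ l)
    {x y : ↥(chevF4.group F)} (hx : orderOf x = s) (hy : orderOf y = r) (hxy : Commute x y) : False := by
  obtain ⟨-, hcard⟩ := centralizer_regular_order hF hq hl hs hx
  have h1 : r ∣ ((cyclotomic l ℤ).eval (q : ℤ)).natAbs := by
    rw [← hcard, ← hy,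
      ← Subgroup.orderOf_mk y (show y ∈ Subgroup.centralizer ({x} : Set ↥(chevF4.group F)) from
        Subgroup.mem_centralizer_singleton_iff.2 hxy.symm.eq)]
    exact orderOf_dvd_natCard _
  have h2 : ((((cyclotomic l ℤ).eval (q : ℤ)) : ℤ) : ZMod r) = 0 :=
    (ZMod.intCast_zmod_eq_zero_iff_dvd _ _).2 (Int.natCast_dvd.2 h1)
  by_cases hrl : r ∣ l
  · have hrp : r.Prime := Fact.out
    rcases eval_regular (q := q) l hl with ⟨e, rfl⟩ | ⟨e, rfl⟩ <;> rw [e] at h2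
    · obtain rfl := (Nat.prime_dvd_prime_iff_eq hrp Nat.prime_two).1 (hrp.dvd_of_dvd_pow (n := 3) (by norm_num; exact hrl))
      push_cast at h2
      rw [(CharP.cast_eq_zero_iff (ZMod 2) 2 q).2 hq] at h2
      simp at h2
    · rcases hrp.dvd_mul.1 (show r ∣ 2 ^ 2 * 3 from hrl) with h | h
      · obtain rfl := (Nat.prime_dvd_prime_iff_eq hrp Nat.prime_two).1 (hrp.dvd_of_dvd_pow h)
        push_cast at h2
        rw [(CharP.cast_eq_zero_iff (ZMod 2) 2 q).2 hq] at h2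
        simp at h2
      · obtain rfl := (Nat.prime_dvd_prime_iff_eq hrp Nat.prime_three).1 h
        exact phi12_mod_three (q : ZMod 3) (by push_cast at h2 ⊢; exact h2)
  · haveI : NeZero (l : ZMod r) := ⟨by rw [ne_eq, CharP.cast_eq_zero_iff (ZMod r) r]; exact hrl⟩
    refine hr (IsPrimitiveRoot.eq_orderOf ?_).symm
    rw [← isRoot_cyclotomic_iff, ← map_cyclotomic_int, IsRoot.def, eval_map, eval₂_at_natCast]
    exact h2

/-- Primes with orders of `q` in `{0, 1, 2}` and `{1, 2, 3, 4, 6}` are joined. -/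
theorem commute_low [CharP F 2] (hF : Fintype.card F = q) {r s : ℕ} [Fact r.Prime] [Fact s.Prime]
    (hr : r ∣ q * ((q + 1) * (q - 1))) (hs : orderOf (q : ZMod s) ∈ ({1, 2, 3, 4, 6} : Finset ℕ)) :
    ∃ x y : ↥(chevF4.group F), orderOf x = r ∧ orderOf y = s ∧ Commute x y := by
  obtain ⟨x, hx, hcx⟩ := exists_root_element (F := F) hF hr
  rw [Finset.mem_insert] at hs
  rcases hs with h1 | hs
  · obtain ⟨y, hy, h47, h0⟩ := exists_centralizing_torus (F := F) hF (s := s)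
      (by have := (dvd_pow_sub_one_iff (r := s) (hF ▸ Fintype.card_pos : 1 ≤ q) 1).2 (by rw [h1]); rwa [pow_one] at this)
    exact ⟨x, y, hx, hy, hcx y h47 h0⟩
  · obtain ⟨y, hy, h47, h0⟩ := exists_centralizing (F := F) hF hs
    exact ⟨x, y, hx, hy, hcx y h47 h0⟩

/-- The non-adjacent pairs of orders. -/
def NonAdj (k l : ℕ) : Prop := k < l ∧ (l = 8 ∨ l = 12 ∨ l = 6 ∧ (k = 3 ∨ k = 4) ∨ l = 4 ∧ k = 3)

instance (k l : ℕ) : Decidable (NonAdj k l) := by unfold NonAdj; infer_instance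

theorem nonAdj_cases : ∀ k ∈ ({0, 1, 2, 3, 4, 6, 8, 12} : Finset ℕ), ∀ l ∈ ({1, 2, 3, 4, 6, 8, 12} : Finset ℕ),
    k ≤ l →
    (NonAdj k l ∧ (k ≠ l ∧ (l = 8 ∨ l = 12) ∨
        k ≠ l ∧ k ∈ ({3, 4, 6, 8, 12} : Finset ℕ) ∧ l ∈ ({3, 4, 6, 8, 12} : Finset ℕ))) ∨
    (¬ NonAdj k l ∧ (k ∈ ({0, 1, 2} : Finset ℕ) ∧ l ∈ ({1, 2, 3, 4, 6} : Finset ℕ) ∨
        k = l ∧ (l ∈ ({3, 4, 6} : Finset ℕ) ∨ l ∈ ({8, 12} : Finset ℕ)))) := by
  decide

/-- Adjacency, with the orders of `q` in increasing position. -/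
theorem adjacent_iff_le [CharP F 2] (hF : Fintype.card F = q) (hq : 2 ∣ q) {r s : ℕ} [Fact r.Prime] [Fact s.Prime]
    (hrs : r ≠ s) (hk : orderOf (q : ZMod r) ∈ ({0, 1, 2, 3, 4, 6, 8, 12} : Finset ℕ))
    (hl : orderOf (q : ZMod s) ∈ ({1, 2, 3, 4, 6, 8, 12} : Finset ℕ))
    (hkl : orderOf (q : ZMod r) ≤ orderOf (q : ZMod s)) (hrG : r ∣ Nat.card ↥(chevF4.group F))
    (hsG : s ∣ Nat.card ↥(chevF4.group F)) :
    (¬ ∃ x : ↥(chevF4.group F), orderOf x = r * s) ↔ NonAdj (orderOf (q : ZMod r)) (orderOf (q : ZMod s)) := by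
  classical
  have hrp : r.Prime := Fact.out
  have hsp : s.Prime := Fact.out
  have hpair : (∃ x : ↥(chevF4.group F), orderOf x = r * s) ↔
      ∃ x y : ↥(chevF4.group F), orderOf x = r ∧ orderOf y = s ∧ Commute x y := by
    constructor
    · rintro ⟨z, hz⟩
      refine ⟨z ^ s, z ^ r, ?_, ?_, (Commute.refl z).pow_pow s r⟩
      · rw [orderOf_pow_of_dvd hsp.ne_zero (hz ▸ dvd_mul_left s r), hz, Nat.mul_div_cancel _ hsp.pos]
      · rw [orderOf_pow_of_dvd hrp.ne_zero (hz ▸ dvd_mul_right r s), hz, Nat.mul_div_cancel_left _ hrp.pos]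
    · rintro ⟨x, y, hx, hy, hc⟩
      exact ⟨x * y, by rw [hc.orderOf_mul_eq_mul_orderOf_of_coprime
        (by rw [hx, hy]; exact (Nat.coprime_primes hrp hsp).2 hrs), hx, hy]⟩
  have hq1 : 1 ≤ q := hF ▸ Fintype.card_pos
  rw [hpair]
  rcases nonAdj_cases _ hk _ hl hkl with ⟨hN, hcase⟩ | ⟨hN, hcase⟩
  · refine iff_of_true ?_ hN
    rintro ⟨x, y, hx, hy, hc⟩
    rcases hcase with ⟨hne, h8⟩ | ⟨hne, hk3, hl3⟩
    · exact not_commute_regular hF hq (l := orderOf (q : ZMod s)) (by simpa using h8) rfl hne hy hx hc.symm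
    · have hrq : ∀ {t : ℕ} [Fact t.Prime], orderOf (q : ZMod t) ∈ ({3, 4, 6, 8, 12} : Finset ℕ) → ¬ t ∣ q := by
        intro t _ ht h
        rw [(CharP.cast_eq_zero_iff (ZMod t) t q).2 h, orderOf_zero] at ht
        simp at ht
      exact not_commute_high F q hF (hrq hk3) (hrq hl3) hk3 hl3 hne hx hy hc
  · refine iff_of_false (not_not_intro ?_) hN
    rcases hcase with ⟨hk2, hl6⟩ | ⟨he, h346 | h812⟩
    · refine commute_low hF ?_ hl6
      by_cases hrq : r ∣ q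
      · exact dvd_mul_of_dvd_left hrq _
      · have h2 : orderOf (q : ZMod r) ∣ 2 := by
          simp only [Finset.mem_insert, Finset.mem_singleton] at hk2
          rcases hk2 with h | h | h
          · exfalso
            refine hrq ((CharP.cast_eq_zero_iff (ZMod r) r q).1 ?_)
            by_contra h0
            exact (orderOf_pos_iff.2 (isOfFinOrder_iff_pow_eq_one.2
              ⟨r - 1, Nat.sub_pos_of_lt hrp.one_lt, ZMod.pow_card_sub_one_eq_one h0⟩)).ne' h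
          · rw [h]; exact one_dvd 2
          · rw [h]
        refine dvd_mul_of_dvd_right ?_ _
        rw [← Nat.sq_sub_sq, one_pow]
        exact (dvd_pow_sub_one_iff hq1 2).2 h2
    · exact exists_commuting_same F q hF (fun h => by
        rw [he.symm.trans rfl] at h346
        rw [(CharP.cast_eq_zero_iff (ZMod r) r q).2 h, orderOf_zero] at he
        rw [(CharP.cast_eq_zero_iff (ZMod r) r q).2 h, orderOf_zero] at h346
        simp at h346) (he ▸ h346) he.symm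
    · obtain ⟨x, hx⟩ := exists_prime_orderOf_dvd_card' (G := ↥(chevF4.group F)) r hrG
      obtain ⟨-, hcard⟩ := centralizer_regular_order hF hq h812 he hx
      obtain ⟨y, hy⟩ := exists_prime_orderOf_dvd_card'
        (G := ↥(Subgroup.centralizer ({x} : Set ↥(chevF4.group F)))) s (by
          rw [hcard, ← Int.natCast_dvd]
          exact (dvd_eval_of_order (q := q) (s := s) rfl (by
            have : ∀ e ∈ ({8, 12} : Finset ℕ), 0 < e := by decide
            exact this _ h812)).1)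
      exact ⟨x, y, hx, (Subgroup.orderOf_coe y).trans hy, (Subgroup.mem_centralizer_singleton_iff.1 y.2).symm⟩

end CfsgLib.Chev.F4Graph
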