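import Mathlib

/-!
The real numbers in the proof of the Feit-Higman theorem: the three-term recurrence, the sum of squares and
the rationality arguments.
-/

set_option autoImplicit false

namespace CfsgLib.Chev.FH

open Real

/-- The solution of `w (j+2) = 2 C w (j+1) - w j` with `w 0 = 1`. -/
def seqW (C w₁ : ℝ) : ℕ → ℝ
  | 0 => 1
  | 1 => w₁
  | j + 2 => 2 * C * seqW C w₁ (j + 1) - seqW C w₁ j

lemma seqW_succ_succ (C w₁ : ℝ) (j : ℕ) :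
    seqW C w₁ (j + 2) = 2 * C * seqW C w₁ (j + 1) - seqW C w₁ j := rfl

lemma seqW_invariant (C w₁ : ℝ) (j : ℕ) :
    seqW C w₁ j ^ 2 + seqW C w₁ (j + 1) ^ 2 - 2 * C * seqW C w₁ j * seqW C w₁ (j + 1) =
      1 + w₁ ^ 2 - 2 * C * w₁ := by
  induction j with
  | zero => simp [seqW]
  | succ j ih => rw [seqW_succ_succ]; linear_combination ih

/-- The sum of the squares. -/
lemma seqW_sum_sq (C w₁ : ℝ) (N : ℕ) :
    2 * (1 - C ^ 2) * (∑ j ∈ Finset.range N, seqW C w₁ (j + 1) ^ 2) +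
        seqW C w₁ (N + 1) ^ 2 - w₁ ^ 2 - C * (seqW C w₁ N * seqW C w₁ (N + 1) - w₁) =
      N * (1 + w₁ ^ 2 - 2 * C * w₁) := by
  induction N with
  | zero => simp [seqW]
  | succ N ih =>
    rw [Finset.sum_range_succ, Nat.cast_succ]
    have h1 := seqW_invariant C w₁ (N + 1)
    rw [seqW_succ_succ] at h1 ⊢
    linear_combination ih + h1

lemma seqW_eq_trig (φ w₁ : ℝ) (hS : sin φ ≠ 0) (j : ℕ) :
    seqW (cos φ) w₁ j = cos (j * φ) + (w₁ - cos φ) / sin φ * sin (j * φ) := by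
  induction j using Nat.twoStepInduction with
  | zero => simp [seqW]
  | one => simp [seqW, hS]
  | more j h0 h1 =>
    have e2 : ((j + 2 : ℕ) : ℝ) * φ = ((j + 1 : ℕ) : ℝ) * φ + φ := by push_cast; ring
    have e0 : ((j : ℕ) : ℝ) * φ = ((j + 1 : ℕ) : ℝ) * φ - φ := by push_cast; ring
    rw [seqW_succ_succ, h1, h0, e2, e0, cos_add, cos_sub, sin_add, sin_sub]
    ring

lemma seqW_even_boundary {h k : ℕ} (hk : 0 < k) (hkh : k < h) (w₁ : ℝ) :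
    seqW (cos (k * π / h)) w₁ h = (-1) ^ k ∧
      seqW (cos (k * π / h)) w₁ (h + 1) = (-1) ^ k * w₁ := by
  set φ : ℝ := k * π / h with hφ
  have hh : (h : ℝ) ≠ 0 := by norm_cast; omega
  have hS : sin φ ≠ 0 := by
    refine (sin_pos_of_pos_of_lt_pi ?_ ?_).ne'
    · have : (0 : ℝ) < k := by exact_mod_cast hk
      have : (0 : ℝ) < h := by exact_mod_cast hk.trans hkh
      positivity
    · rw [hφ, div_lt_iff₀ (by exact_mod_cast hk.trans hkh), mul_comm π]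
      exact mul_lt_mul_of_pos_right (by exact_mod_cast hkh) pi_pos
  have e : (h : ℝ) * φ = k * π := by rw [hφ]; field_simp
  refine ⟨?_, ?_⟩
  · rw [seqW_eq_trig φ w₁ hS, e, cos_nat_mul_pi, sin_nat_mul_pi, mul_zero, add_zero]
  · rw [seqW_eq_trig φ w₁ hS, show ((h + 1 : ℕ) : ℝ) * φ = (h : ℝ) * φ + φ by push_cast; ring,
      cos_add, sin_add, e, cos_nat_mul_pi, sin_nat_mul_pi]
    field_simp
    ring

lemma seqW_odd_boundary {h : ℕ} (hh : 0 < h) (q : ℝ) (hq : q + 1 ≠ 0) :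
    seqW (cos (2 * π / (2 * h + 1))) ((q - 1 + 2 * q * cos (2 * π / (2 * h + 1))) / (q + 1)) (h + 1) =
      q * seqW (cos (2 * π / (2 * h + 1)))
        ((q - 1 + 2 * q * cos (2 * π / (2 * h + 1))) / (q + 1)) h := by
  set φ : ℝ := 2 * π / (2 * h + 1) with hφ
  have hd : (0 : ℝ) < 2 * h + 1 := by positivity
  have hS : sin φ ≠ 0 := by
    refine (sin_pos_of_pos_of_lt_pi (by positivity) ?_).ne'
    rw [hφ, div_lt_iff₀ hd]
    have : (1 : ℝ) ≤ h := by exact_mod_cast hh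
    nlinarith [pi_pos]
  have e : ((h + 1 : ℕ) : ℝ) * φ = 2 * π - h * φ := by rw [hφ]; push_cast; field_simp; ring
  have key : sin (h * φ) + sin (h * φ) * cos φ + cos (h * φ) * sin φ = 0 := by
    have : sin ((h + 1 : ℕ) * φ) = - sin (h * φ) := by rw [e, sin_two_pi_sub]
    rw [show ((h + 1 : ℕ) : ℝ) * φ = (h : ℝ) * φ + φ by push_cast; ring, sin_add] at this
    linear_combination this
  rw [seqW_eq_trig φ _ hS, seqW_eq_trig φ _ hS, e, cos_two_pi_sub, sin_two_pi_sub]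
  field_simp
  linear_combination ((1 + q) * (1 - q)) * key

/-- The rationality argument, even case. -/
lemma rat_even {h : ℕ} (hh : 2 ≤ h) {q r : ℕ} (hq : 2 ≤ q) (hr : 2 ≤ r) {C w₁ A : ℝ}
    (hC : C ^ 2 < 1)
    (hw : w₁ = √(q * r) * ((r : ℝ) - 1 + 2 * √(q * r) * C) / (r * (q + 1)))
    (hA : (h : ℝ) * (1 + w₁ ^ 2 - 2 * C * w₁) = 2 * (1 - C ^ 2) * A)
    (hrat : ∃ x : ℚ, A = x) :
    ∃ x : ℚ, (((r : ℝ) ^ 2 * ((q : ℝ) - 1) ^ 2 + q * r * ((r : ℝ) - 1) ^ 2) +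
        2 * r * ((q : ℝ) - 1) * ((r : ℝ) - 1) * (√(q * r) * C)) / (1 - C ^ 2) = x := by
  obtain ⟨x, hx⟩ := hrat
  have hs : √((q : ℝ) * r) ^ 2 = q * r := Real.sq_sqrt (by positivity)
  have hr0 : (r : ℝ) ≠ 0 := by norm_cast; omega
  have hq1 : (q : ℝ) + 1 ≠ 0 := by positivity
  have hh0 : (h : ℝ) ≠ 0 := by norm_cast; omega
  have hS : (1 : ℝ) - C ^ 2 ≠ 0 := by linarith
  refine ⟨2 * (r : ℚ) ^ 2 * ((q : ℚ) + 1) ^ 2 * x / h - 4 * (q : ℚ) * (r : ℚ) ^ 2, ?_⟩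
  push_cast
  rw [← hx]
  have key : ((r : ℝ) * (q + 1)) ^ 2 * (1 + w₁ ^ 2 - 2 * C * w₁) =
      (r : ℝ) ^ 2 * ((q : ℝ) - 1) ^ 2 + q * r * ((r : ℝ) - 1) ^ 2 +
        2 * r * ((q : ℝ) - 1) * ((r : ℝ) - 1) * (√(q * r) * C) +
          4 * q * r ^ 2 * (1 - C ^ 2) := by
    rw [hw]
    set s := √((q : ℝ) * r) with hs'
    field_simp
    linear_combination (((r : ℝ) - 1) ^ 2 + 4 * s * ((r : ℝ) - 1) * C +
      4 * C ^ 2 * (s ^ 2 + q * r) - 4 * C ^ 2 * r * (q + 1)) * hs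
  rw [div_eq_iff hS]
  have hA' : (1 + w₁ ^ 2 - 2 * C * w₁) = 2 * (1 - C ^ 2) * A / h := by
    rw [eq_div_iff hh0, ← hA]; ring
  rw [hA'] at key
  field_simp at key ⊢
  linear_combination - key

/-- The rationality argument, odd case. -/
lemma rat_odd {h q : ℕ} (hq : 2 ≤ q) {C w₁ u A : ℝ} (hC : C ^ 2 < 1)
    (hw : w₁ = ((q : ℝ) - 1 + 2 * q * C) / (q + 1))
    (hu : u ^ 2 + (q * u) ^ 2 - 2 * C * u * (q * u) = 1 + w₁ ^ 2 - 2 * C * w₁)
    (hA : 2 * (1 - C ^ 2) * A + (q * u) ^ 2 - w₁ ^ 2 - C * (u * (q * u) - w₁) =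
      h * (1 + w₁ ^ 2 - 2 * C * w₁))
    (hrat : ∃ x : ℚ, A = x) : ∃ x : ℚ, C = x := by
  obtain ⟨x, hx⟩ := hrat
  have hq2 : (2 : ℝ) ≤ q := by exact_mod_cast hq
  have hq1 : (q : ℝ) + 1 ≠ 0 := by positivity
  have hC1 : C < 1 ∧ -1 < C := abs_lt.1 ((sq_lt_one_iff_abs_lt_one C).1 hC) |>.symm
  have hK : (q : ℝ) ^ 2 + 1 - 2 * q * C ≠ 0 := by nlinarith
  have hI : ((q : ℝ) + 1) ^ 2 * (1 + w₁ ^ 2 - 2 * C * w₁) =
      2 * (1 + C) * ((q : ℝ) ^ 2 + 1 - 2 * q * C) := by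
    rw [hw]; field_simp; ring
  have hu2 : ((q : ℝ) + 1) ^ 2 * u ^ 2 = 2 * (1 + C) := by
    refine mul_right_cancel₀ hK ?_
    linear_combination ((q : ℝ) + 1) ^ 2 * hu + hI
  have hw2 : ((q : ℝ) + 1) ^ 2 * (w₁ ^ 2 - C * w₁) =
      ((q : ℝ) - 1 + 2 * q * C) ^ 2 - C * (q + 1) * ((q : ℝ) - 1 + 2 * q * C) := by
    rw [hw]; field_simp
  have hfin : 2 * ((q : ℝ) + 1) ^ 2 * (1 - C) * A =
      (2 * h + 1) * ((q : ℝ) - 1) ^ 2 + (4 * h * q - 2 * q ^ 2) * (1 - C) := by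
    refine mul_right_cancel₀ (show (1 : ℝ) + C ≠ 0 by linarith) ?_
    linear_combination ((q : ℝ) + 1) ^ 2 * hA - ((q : ℝ) ^ 2 - q * C) * hu2 + hw2 + (h : ℝ) * hI
  refine ⟨1 - (2 * (h : ℚ) + 1) * ((q : ℚ) - 1) ^ 2 /
    (2 * ((q : ℚ) + 1) ^ 2 * x - (4 * h * q - 2 * (q : ℚ) ^ 2)), ?_⟩
  push_cast
  rw [← hx]
  have hne : 2 * ((q : ℝ) + 1) ^ 2 * A - (4 * h * q - 2 * q ^ 2) ≠ 0 := by
    intro h0
    have : (2 * (h : ℝ) + 1) * ((q : ℝ) - 1) ^ 2 = 0 := by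
      linear_combination (1 - C) * h0 - hfin
    have : (0 : ℝ) < (2 * (h : ℝ) + 1) * ((q : ℝ) - 1) ^ 2 :=
      mul_pos (by positivity) (by nlinarith)
    linarith
  rw [eq_sub_iff_add_eq, ← eq_sub_iff_add_eq', div_eq_iff hne]
  linear_combination -hfin

lemma even_rat_pair {h : ℕ} {q r : ℕ} (hq : 2 ≤ q) (hr : 2 ≤ r) {C : ℝ} (hC : C ^ 2 < 1)
    (h1 : ∃ x : ℚ, (((r : ℝ) ^ 2 * ((q : ℝ) - 1) ^ 2 + q * r * ((r : ℝ) - 1) ^ 2) +
        2 * r * ((q : ℝ) - 1) * ((r : ℝ) - 1) * (√(q * r) * C)) / (1 - C ^ 2) = x)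
    (h2 : ∃ x : ℚ, (((r : ℝ) ^ 2 * ((q : ℝ) - 1) ^ 2 + q * r * ((r : ℝ) - 1) ^ 2) +
        2 * r * ((q : ℝ) - 1) * ((r : ℝ) - 1) * (√(q * r) * (-C))) / (1 - (-C) ^ 2) = x) :
    (∃ x : ℚ, C ^ 2 = x) ∧ ∃ x : ℚ, √(q * r) * C = x := by
  obtain ⟨x, hx⟩ := h1
  obtain ⟨y, hy⟩ := h2
  have hS : (1 : ℝ) - C ^ 2 ≠ 0 := by linarith
  rw [neg_sq] at hy
  rw [div_eq_iff hS] at hx hy
  have hq2 : (2 : ℝ) ≤ q := by exact_mod_cast hq
  have hr2 : (2 : ℝ) ≤ r := by exact_mod_cast hr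
  set K : ℝ := (r : ℝ) ^ 2 * ((q : ℝ) - 1) ^ 2 + q * r * ((r : ℝ) - 1) ^ 2 with hKdef
  have hKpos : 0 < K := by
    have : 0 < (r : ℝ) ^ 2 * ((q : ℝ) - 1) ^ 2 := mul_pos (by positivity) (by nlinarith)
    have : 0 ≤ (q : ℝ) * r * ((r : ℝ) - 1) ^ 2 := by positivity
    linarith
  have hxy : ((x : ℝ) + y) ≠ 0 := fun h0 => by nlinarith
  have hC2 : C ^ 2 = 1 - 2 * K / ((x : ℝ) + y) := by
    rw [eq_sub_iff_add_eq, ← eq_sub_iff_add_eq', div_eq_iff hxy]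
    linear_combination hx + hy
  refine ⟨⟨1 - 2 * ((r : ℚ) ^ 2 * ((q : ℚ) - 1) ^ 2 + q * r * ((r : ℚ) - 1) ^ 2) / (x + y),
    by rw [hC2, hKdef]; push_cast; rfl⟩, ?_⟩
  refine ⟨(x - y) * (2 * ((r : ℚ) ^ 2 * ((q : ℚ) - 1) ^ 2 + q * r * ((r : ℚ) - 1) ^ 2) / (x + y)) /
    (4 * r * ((q : ℚ) - 1) * ((r : ℚ) - 1)), ?_⟩
  push_cast
  rw [← hKdef, show 2 * K / ((x : ℝ) + y) = 1 - C ^ 2 by rw [hC2]; ring, eq_div_iff
    (mul_ne_zero (mul_ne_zero (by positivity) (by linarith)) (by linarith))]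
  linear_combination hx - hy

/-- The half-periods allowed by rationality. -/
lemma even_small {h : ℕ} (hh : 2 ≤ h) {q r : ℕ} (hq : 2 ≤ q) (hr : 2 ≤ r)
    (H : ∀ k : ℕ, 0 < k → k < h →
      (∃ x : ℚ, cos (k * π / h) ^ 2 = x) ∧ ∃ x : ℚ, √(q * r) * cos (k * π / h) = x) :
    h = 2 ∨ h = 3 ∨ h = 4 := by
  obtain ⟨⟨x, hx⟩, ⟨y, hy⟩⟩ := H 1 one_pos (by omega)
  rw [Nat.cast_one, one_mul] at hx hy
  have hrat : ¬ Irrational (cos (((2 / (h : ℚ)) : ℚ) * π)) := by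
    refine not_not_intro ⟨2 * x - 1, ?_⟩
    push_cast
    rw [← hx, show (2 : ℝ) / h * π = 2 * (π / h) by ring, cos_two_mul]
  have hden : (2 / (h : ℚ)).den ≤ 3 := by
    by_contra hc
    exact hrat (irrational_cos_rat_mul_pi (by omega))
  have hh6 : h ≤ 4 ∨ h = 6 := by
    set z : ℚ := 2 / (h : ℚ) with hz
    have h0 : (h : ℚ) ≠ 0 := by norm_cast; omega
    have e : (z.num : ℚ) * h = 2 * z.den := by
      have h1 : z * h = 2 := by rw [hz]; field_simp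
      rw [← Rat.num_div_den z] at h1
      field_simp at h1
      linear_combination h1
    have e' : z.num * (h : ℤ) = 2 * (z.den : ℤ) := by exact_mod_cast e
    have hd := z.den_pos
    have hnum : 0 < z.num := by
      by_contra hn
      nlinarith [show (0 : ℤ) < z.den from by exact_mod_cast hd, show (0 : ℤ) ≤ h from by positivity]
    by_contra hc
    push Not at hc
    obtain ⟨hc1, hc2⟩ := hc
    have hnd : z.num * (h : ℤ) ≤ 6 := by omega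
    have hh' : h = 5 := by
      have : (h : ℤ) ≤ z.num * h := le_mul_of_one_le_left (by positivity) hnum
      omega
    subst hh'
    omega
  rcases hh6 with hle | rfl
  · omega
  exfalso
  obtain ⟨-, ⟨z, hz⟩⟩ := H 2 two_pos (by norm_num)
  rw [show ((2 : ℕ) : ℝ) * π / ((6 : ℕ) : ℝ) = π / 3 by push_cast; ring, cos_pi_div_three] at hz
  rw [show π / ((6 : ℕ) : ℝ) = π / 6 by norm_num, cos_pi_div_six] at hy
  have hs : √((q : ℝ) * r) ≠ 0 := by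
    rw [ne_eq, Real.sqrt_eq_zero (by positivity)]
    have : (0 : ℝ) < q * r := by
      have : 0 < q * r := Nat.mul_pos (by omega) (by omega)
      exact_mod_cast this
    linarith
  refine (show Irrational √3 from Nat.Prime.irrational_sqrt (p := 3) Nat.prime_three) ⟨y / z, ?_⟩
  push_cast
  rw [← hy, ← hz]
  field_simp

/-- The odd periods allowed by rationality. -/
lemma odd_small {h : ℕ} (hh : 0 < h) (H : ∃ x : ℚ, cos (2 * π / (2 * h + 1)) = x) : h = 1 := by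
  by_contra hne
  obtain ⟨x, hx⟩ := H
  have hden : (2 / (2 * (h : ℚ) + 1)).den ≤ 3 := by
    by_contra hc
    refine irrational_cos_rat_mul_pi (r := 2 / (2 * (h : ℚ) + 1)) (by omega) ⟨x, ?_⟩
    rw [← hx]
    push_cast
    congr 1
    ring
  set z : ℚ := 2 / (2 * (h : ℚ) + 1) with hz
  have e : (z.num : ℚ) * (2 * h + 1) = 2 * z.den := by
    have h1 : z * (2 * h + 1) = 2 := by rw [hz]; field_simp
    rw [← Rat.num_div_den z] at h1
    field_simp at h1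
    linear_combination h1
  have e' : z.num * (2 * (h : ℤ) + 1) = 2 * (z.den : ℤ) := by exact_mod_cast e
  have hd := z.den_pos
  have hnum : 0 < z.num := by
    by_contra hn
    nlinarith [show (0 : ℤ) < z.den from by exact_mod_cast hd]
  have h1 : (2 * (h : ℤ) + 1) ≤ z.num * (2 * h + 1) :=
    le_mul_of_one_le_left (by positivity) hnum
  obtain hh2 : h = 2 := by omega
  subst hh2
  omega

end CfsgLib.Chev.FH
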