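import Mathlib
import Cfsg.Agent.Lib.Chev.FHTrig

/-!
The Feit-Higman theorem for two symmetric matrices satisfying the relations of a dihedral Hecke algebra.
-/

set_option autoImplicit false

namespace CfsgLib.Chev.FH

open Matrix

variable {X : Type*} [Fintype X] [DecidableEq X]

/-- Two symmetric matrices with the quadratic relations, the braid relation of length `m` and vanishing traces
of the alternating products of length at most `m`. -/
structure Dih (a b : Matrix X X ℝ) (q r : ℝ) where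
  symm_a : aᵀ = a
  symm_b : bᵀ = b
  sq_a : a * a = (q - 1) • a + q • (1 : Matrix X X ℝ)
  sq_b : b * b = (r - 1) • b + r • (1 : Matrix X X ℝ)

variable (a b : Matrix X X ℝ)

/-- Alternating products ending in `b`. -/
def Pw : ℕ → Matrix X X ℝ
  | 0 => 1
  | i + 1 => (if Even i then b else a) * Pw i

/-- `1 + a`. -/
def eA : Matrix X X ℝ := 1 + a

/-- The basis of the module generated by `1 + a`. -/
def Gv (i : ℕ) : Matrix X X ℝ := Pw a b i * eA a

/-- The sums over the double cosets. -/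
def Fv : ℕ → Matrix X X ℝ
  | 0 => eA a
  | j + 1 => eA a * Gv a b (2 * j + 1)

variable {a b}

lemma Pw_odd (j : ℕ) : Pw a b (2 * j + 1) = b * Pw a b (2 * j) := by
  rw [Pw, if_pos (even_two_mul j)]

lemma Pw_even (j : ℕ) : Pw a b (2 * j + 2) = a * Pw a b (2 * j + 1) := by
  rw [Pw, if_neg (by rw [Nat.not_even_iff_odd]; exact odd_two_mul_add_one j)]

lemma Pw_odd_symm (j : ℕ) :
    Pw a b (2 * j + 1) * a * b = b * a * Pw a b (2 * j + 1) := by
  induction j with
  | zero => simp [Pw, mul_assoc]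
  | succ j ih =>
    have e : Pw a b (2 * (j + 1) + 1) = b * a * Pw a b (2 * j + 1) := by
      rw [Pw_odd, show 2 * (j + 1) = 2 * j + 2 by ring, Pw_even, mul_assoc]
    rw [e, show b * a * Pw a b (2 * j + 1) * a * b = b * a * (Pw a b (2 * j + 1) * a * b) by
      simp only [mul_assoc], ih]

namespace Dih

variable {q r : ℝ} (H : Dih a b q r)
include H

lemma Pw_odd_transpose (j : ℕ) : (Pw a b (2 * j + 1))ᵀ = Pw a b (2 * j + 1) := by
  induction j with
  | zero => simp [Pw, H.symm_b]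
  | succ j ih =>
    have e : Pw a b (2 * (j + 1) + 1) = b * a * Pw a b (2 * j + 1) := by
      rw [Pw_odd, show 2 * (j + 1) = 2 * j + 2 by ring, Pw_even, mul_assoc]
    rw [e, transpose_mul, transpose_mul, ih, H.symm_a, H.symm_b, ← mul_assoc, Pw_odd_symm]

lemma eA_transpose : (eA a)ᵀ = eA a := by rw [eA, transpose_add, transpose_one, H.symm_a]

lemma a_mul_eA : a * eA a = q • eA a := by
  rw [eA, mul_add, mul_one, H.sq_a]; module

lemma eA_mul_a : eA a * a = q • eA a := by
  rw [eA, add_mul, one_mul, H.sq_a]; module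

lemma eA_mul_eA : eA a * eA a = (q + 1) • eA a := by
  conv_lhs => arg 1; rw [eA]
  rw [add_mul, one_mul, H.a_mul_eA]; module

lemma Fv_transpose (j : ℕ) : (Fv a b j)ᵀ = Fv a b j := by
  rcases j with _ | j
  · exact H.eA_transpose
  · rw [Fv, Gv, transpose_mul, transpose_mul, H.eA_transpose, H.Pw_odd_transpose]
    simp only [mul_assoc]

lemma Gv_even (j : ℕ) : Gv a b (2 * j + 2) = a * Gv a b (2 * j + 1) := by
  rw [Gv, Gv, Pw_even, mul_assoc]

lemma Gv_odd (j : ℕ) : Gv a b (2 * j + 1) = b * Gv a b (2 * j) := by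
  rw [Gv, Gv, Pw_odd, mul_assoc]

lemma Fv_succ_split (j : ℕ) : Fv a b (j + 1) = Gv a b (2 * j + 1) + Gv a b (2 * j + 2) := by
  rw [Fv, H.Gv_even]
  conv_lhs => arg 1; rw [eA]
  rw [add_mul, one_mul]

lemma eA_Gv_even (j : ℕ) : eA a * Gv a b (2 * j + 2) = q • Fv a b (j + 1) := by
  rw [H.Gv_even, ← mul_assoc, H.eA_mul_a, Fv, Matrix.smul_mul]

lemma eA_Gv_zero : eA a * Gv a b 0 = (q + 1) • Fv a b 0 := by
  rw [Gv, Pw, one_mul, H.eA_mul_eA, Fv]

/-- The operator `(1 + a) b`. -/
lemma K_Fv_zero : eA a * b * Fv a b 0 = Fv a b 1 := by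
  rw [Fv, Fv, H.Gv_odd, Gv, Pw, one_mul, mul_assoc]

lemma K_Fv_succ (j : ℕ) :
    eA a * b * Fv a b (j + 1) =
      r • (eA a * Gv a b (2 * j)) + (r - 1) • Fv a b (j + 1) + Fv a b (j + 2) := by
  rw [H.Fv_succ_split, mul_add (eA a * b), Fv,
    show 2 * (j + 1) + 1 = 2 * (j + 1) + 1 from rfl, H.Gv_odd (j + 1),
    show 2 * (j + 1) = 2 * j + 2 by ring]
  have e : eA a * b * Gv a b (2 * j + 1) =
      (r - 1) • (eA a * Gv a b (2 * j + 1)) + r • (eA a * Gv a b (2 * j)) := by
    rw [H.Gv_odd, mul_assoc, ← mul_assoc b b, H.sq_b, add_mul, Matrix.smul_mul, Matrix.smul_mul,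
      one_mul, mul_add, Matrix.mul_smul, Matrix.mul_smul]
  rw [e, ← H.Fv_succ_split]
  simp only [Fv, mul_assoc]
  abel

lemma K_Fv_one : eA a * b * Fv a b 1 =
    (r * (q + 1)) • Fv a b 0 + (r - 1) • Fv a b 1 + Fv a b 2 := by
  have h := H.K_Fv_succ 0
  rw [mul_zero, H.eA_Gv_zero, smul_smul] at h
  exact h

lemma K_Fv_two (j : ℕ) : eA a * b * Fv a b (j + 2) =
    (r * q) • Fv a b (j + 1) + (r - 1) • Fv a b (j + 2) + Fv a b (j + 3) := by
  have h := H.K_Fv_succ (j + 1)
  rw [show 2 * (j + 1) = 2 * j + 2 by ring, H.eA_Gv_even, smul_smul] at h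
  exact h

/-- The coefficients. -/
lemma partial_eigen {θ : ℝ} {u : ℕ → ℝ} (h0 : u 0 = 1) (h1 : r * (q + 1) * u 1 = θ)
    (hrec : ∀ j, u j + (r - 1) * u (j + 1) + q * r * u (j + 2) = θ * u (j + 1)) (N : ℕ) :
    eA a * b * (∑ j ∈ Finset.range (N + 2), u j • Fv a b j) -
        θ • (∑ j ∈ Finset.range (N + 2), u j • Fv a b j) =
      u (N + 1) • Fv a b (N + 2) - (q * r * u (N + 2)) • Fv a b (N + 1) := by
  induction N with
  | zero =>
    rw [Finset.sum_range_succ, Finset.sum_range_one, mul_add, Matrix.mul_smul, Matrix.mul_smul,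
      H.K_Fv_zero, H.K_Fv_one, h0, one_smul, one_smul]
    have e := hrec 0
    rw [h0] at e
    have e2 : q * r * u 2 = θ * u 1 - 1 - (r - 1) * u 1 := by linarith
    rw [e2]
    simp only [smul_add, smul_smul, mul_comm (u 1) (r * (q + 1)), h1]
    module
  | succ N ih =>
    rw [Finset.sum_range_succ, mul_add, smul_add, add_sub_add_comm, ih, Matrix.mul_smul,
      H.K_Fv_two]
    have e := hrec (N + 1)
    have e2 : q * r * u (N + 1 + 2) = θ * u (N + 1 + 1) - u (N + 1) - (r - 1) * u (N + 1 + 1) := by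
      linarith
    rw [show N + 2 = N + 1 + 1 from rfl, show N + 3 = N + 1 + 2 from rfl] at *
    rw [e2]
    module

/-- The values of a symmetric eigen-element on the `F_j`. -/
lemma E_mul_Fv {θ : ℝ} {E : Matrix X X ℝ} (hE : Eᵀ = E) (hK : eA a * b * E = θ • E)
    (he : eA a * E = (q + 1) • E) :
    E * Fv a b 0 = (q + 1) • E ∧ E * Fv a b 1 = ((q + 1) * θ) • E ∧
      E * Fv a b 2 = ((θ - (r - 1)) * ((q + 1) * θ) - r * (q + 1) * (q + 1)) • E ∧
      ∀ (j : ℕ) (x y : ℝ), E * Fv a b (j + 1) = x • E → E * Fv a b (j + 2) = y • E →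
        E * Fv a b (j + 3) = ((θ - (r - 1)) * y - r * q * x) • E := by
  have hEe : E * eA a = (q + 1) • E := by
    have := congrArg transpose he
    rwa [transpose_mul, hE, H.eA_transpose, transpose_smul, hE] at this
  have hEK : E * (b * eA a) = θ • E := by
    have := congrArg transpose hK
    rwa [transpose_mul, transpose_mul, hE, H.symm_b, H.eA_transpose, transpose_smul, hE] at this
  have hKF : ∀ j, E * (eA a * b * Fv a b j) = θ • (E * Fv a b j) := by
    intro j
    obtain ⟨Y, hY⟩ : ∃ Y, Fv a b j = eA a * Y := by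
      rcases j with _ | j
      exacts [⟨1, by rw [Fv, mul_one]⟩, ⟨_, rfl⟩]
    rw [hY, show E * (eA a * b * (eA a * Y)) = E * eA a * (b * eA a) * Y by
      simp only [mul_assoc], hEe, Matrix.smul_mul, hEK, ← mul_assoc E, hEe]
    simp only [Matrix.smul_mul, smul_smul]
    rw [mul_comm]
  have v0 : E * Fv a b 0 = (q + 1) • E := hEe
  have v1 : E * Fv a b 1 = ((q + 1) * θ) • E := by
    have h := hKF 0
    rw [H.K_Fv_zero, v0, smul_smul, mul_comm θ] at h
    exact h
  refine ⟨v0, v1, ?_, fun j x y hx hy => ?_⟩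
  · have h := hKF 1
    rw [H.K_Fv_one, mul_add, mul_add, Matrix.mul_smul, Matrix.mul_smul, v0, v1] at h
    simp only [smul_smul] at h
    rw [← eq_sub_iff_add_eq'] at h
    rw [h]
    module
  · have h := hKF (j + 2)
    rw [H.K_Fv_two, mul_add, mul_add, Matrix.mul_smul, Matrix.mul_smul, hx, hy] at h
    simp only [smul_smul] at h
    rw [← eq_sub_iff_add_eq'] at h
    rw [h]
    module

end Dih

omit [DecidableEq X] in
/-- A multiple of an idempotent has a rational trace over its factor. -/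
lemma rat_of_idempotent [DecidableEq X] {E : Matrix X X ℝ} {c : ℝ} {n : ℕ} (hc : c ≠ 0)
    (hn : n ≠ 0) (hE : E * E = c • E) (htr : E.trace = n) : ∃ x : ℚ, c = x := by
  have hid : IsIdempotentElem (Matrix.toLin' (c⁻¹ • E)) := by
    show Matrix.toLin' (c⁻¹ • E) * Matrix.toLin' (c⁻¹ • E) = _
    rw [Module.End.mul_eq_comp, ← Matrix.toLin'_mul, Matrix.smul_mul, Matrix.mul_smul, hE,
      smul_smul, smul_smul, mul_assoc, inv_mul_cancel₀ hc, mul_one]
  have h1 := (LinearMap.IsIdempotentElem.isProj_range _ hid).trace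
  rw [Matrix.trace_toLin'_eq, Matrix.trace_smul, htr, smul_eq_mul] at h1
  set k := Module.finrank ℝ (LinearMap.range (Matrix.toLin' (c⁻¹ • E)))
  refine ⟨(n : ℚ) / k, ?_⟩
  push_cast
  rw [← h1]
  have : (n : ℝ) ≠ 0 := by exact_mod_cast hn
  field_simp

namespace Dih

variable {q r : ℕ}

lemma trace_Gv {m i : ℕ} (hPQ : ∀ i, 1 ≤ i → i ≤ m → (Pw a b i).trace = 0)
    (hQ : ∀ i, i < m → (Pw a b i * a).trace = 0) (h1 : 1 ≤ i) (h2 : i < m) :
    (Gv a b i).trace = 0 := by
  rw [Gv, eA, mul_add, mul_one, trace_add, hPQ i h1 h2.le, hQ i h2, add_zero]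

lemma trace_Fv_zero {m : ℕ} (hm : 0 < m) (hQ : ∀ i, i < m → (Pw a b i * a).trace = 0) :
    (Fv a b 0).trace = (Fintype.card X : ℝ) := by
  have := hQ 0 hm
  rw [Pw, one_mul] at this
  rw [Fv, eA, trace_add, trace_one, this, add_zero]

/-- An even period. -/
theorem small_even (H : Dih a b (q : ℝ) r) [Nonempty X] (hq : 2 ≤ q) (hr : 2 ≤ r) {h : ℕ}
    (hh : 2 ≤ h) (hbraid : Pw a b (2 * h) = Pw a b (2 * h - 1) * a)
    (hP : ∀ i, 1 ≤ i → i ≤ 2 * h → (Pw a b i).trace = 0)
    (hQ : ∀ i, i < 2 * h → (Pw a b i * a).trace = 0) : h = 2 ∨ h = 3 ∨ h = 4 := by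
  obtain ⟨g, rfl⟩ : ∃ g, h = g + 2 := ⟨h - 2, by omega⟩
  rw [show 2 * (g + 2) - 1 = 2 * (g + 1) + 1 by omega] at hbraid
  have hqr : (0 : ℝ) < (q : ℝ) * r := by
    have : 0 < q * r := Nat.mul_pos (by omega) (by omega)
    exact_mod_cast this
  have hr0 : (r : ℝ) ≠ 0 := by norm_cast; omega
  have hq0 : (q : ℝ) ≠ 0 := by norm_cast; omega
  have hq1 : (q : ℝ) + 1 ≠ 0 := by positivity
  set s := √((q : ℝ) * r) with hsdef
  have hs : s ^ 2 = (q : ℝ) * r := Real.sq_sqrt hqr.le
  have hs0 : s ≠ 0 := (Real.sqrt_pos.2 hqr).ne'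
  have hG : Gv a b (2 * (g + 1) + 2) = (q : ℝ) • Gv a b (2 * (g + 1) + 1) := by
    rw [Gv, Gv, show 2 * (g + 1) + 2 = 2 * (g + 2) by ring, hbraid, mul_assoc, H.a_mul_eA,
      Matrix.mul_smul]
  have hFlast : Fv a b (g + 3) =
      (q : ℝ) • (eA a * b * Gv a b (2 * (g + 1) + 1)) := by
    rw [Fv, H.Gv_odd, show 2 * (g + 2) = 2 * (g + 1) + 2 by ring, hG, Matrix.mul_smul,
      Matrix.mul_smul, mul_assoc]
  have hKlast : eA a * b * Fv a b (g + 2) =
      ((q : ℝ) + 1) • (((r : ℝ) * q) • Fv a b (g + 1) + ((r : ℝ) - 1) • Fv a b (g + 2)) := by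
    have e2 : Fv a b (g + 2) = ((q : ℝ) + 1) • Gv a b (2 * (g + 1) + 1) := by
      rw [H.Fv_succ_split, hG]; module
    have h3 := H.K_Fv_two g
    rw [hFlast] at h3
    rw [e2, Matrix.mul_smul] at h3
    rw [e2, Matrix.mul_smul]
    refine congrArg (fun M => ((q : ℝ) + 1) • M) ?_
    linear_combination (norm := module) h3
  -- the multiplicities
  have main : ∀ k : ℕ, 0 < k → k < g + 2 →
      ∃ x : ℚ, (((r : ℝ) ^ 2 * ((q : ℝ) - 1) ^ 2 + q * r * ((r : ℝ) - 1) ^ 2) +
          2 * r * ((q : ℝ) - 1) * ((r : ℝ) - 1) *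
            (√(q * r) * Real.cos (k * Real.pi / (g + 2 : ℕ)))) /
            (1 - Real.cos (k * Real.pi / (g + 2 : ℕ)) ^ 2) = x := by
    intro k hk hkh
    set C := Real.cos (k * Real.pi / (g + 2 : ℕ)) with hCdef
    have hC : C ^ 2 < 1 := by
      have hsin : 0 < Real.sin (k * Real.pi / (g + 2 : ℕ)) := by
        refine Real.sin_pos_of_pos_of_lt_pi ?_ ?_
        · have : (0 : ℝ) < k := by exact_mod_cast hk
          have : (0 : ℝ) < (g + 2 : ℕ) := by exact_mod_cast (show 0 < g + 2 by omega)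
          positivity
        · rw [div_lt_iff₀ (by exact_mod_cast (show 0 < g + 2 by omega)), mul_comm Real.pi]
          exact mul_lt_mul_of_pos_right (by exact_mod_cast hkh) Real.pi_pos
      have := Real.sin_sq_add_cos_sq (k * Real.pi / (g + 2 : ℕ))
      nlinarith
    set θ : ℝ := (r : ℝ) - 1 + 2 * s * C with hθ
    set w₁ : ℝ := s * θ / (r * ((q : ℝ) + 1)) with hw₁
    set w : ℕ → ℝ := seqW C w₁ with hw
    set u : ℕ → ℝ := fun j => w j / s ^ j with hu
    have h0 : u 0 = 1 := by simp [hu, hw, seqW]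
    have h1 : (r : ℝ) * (q + 1) * u 1 = θ := by
      simp only [hu, hw, seqW, pow_one, hw₁]; field_simp
    have hrec : ∀ j, u j + ((r : ℝ) - 1) * u (j + 1) + (q : ℝ) * r * u (j + 2) = θ * u (j + 1) := by
      intro j
      simp only [hu, hw, seqW_succ_succ, hθ]
      rw [show s ^ (j + 2) = s ^ j * ((q : ℝ) * r) by rw [pow_add, hs], pow_succ]
      field_simp
      ring
    obtain ⟨hwh, hwh1⟩ := seqW_even_boundary hk hkh w₁
    rw [← hCdef, ← hw] at hwh hwh1
    set ε : ℝ := (-1) ^ k with hε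
    have hε2 : ε ^ 2 = 1 := by rw [hε, ← pow_mul, mul_comm, pow_mul]; simp
    set u' : ℝ := u (g + 2) / ((q : ℝ) + 1) with hu'
    set E := (∑ j ∈ Finset.range (g + 2), u j • Fv a b j) + u' • Fv a b (g + 2) with hE
    have hbd : u (g + 1) = u' * (θ - ((q : ℝ) + 1) * ((r : ℝ) - 1)) := by
      have e : w (g + 2 + 1) = 2 * C * w (g + 2) - w (g + 1) := by
        rw [hw]; exact seqW_succ_succ C w₁ (g + 1)
      rw [hwh, hwh1] at e
      simp only [hu', hu, hwh]
      rw [show w (g + 1) = ε * (2 * C - w₁) by linarith, hw₁, hθ,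
        show s ^ (g + 2) = s ^ (g + 1) * s from pow_succ s (g + 1)]
      field_simp
      linear_combination (ε * (-((r : ℝ) - 1) - 2 * s * C)) * hs
    have hKE : eA a * b * E = θ • E := by
      rw [← sub_eq_zero, hE, mul_add, smul_add, add_sub_add_comm, H.partial_eigen h0 h1 hrec g,
        Matrix.mul_smul, hKlast, hbd]
      have e : u' * ((q : ℝ) + 1) = u (g + 2) := by rw [hu']; field_simp
      rw [← e]
      module
    have heE : eA a * E = ((q : ℝ) + 1) • E := by
      have hF : ∀ j, eA a * Fv a b j = ((q : ℝ) + 1) • Fv a b j := by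
        intro j
        rcases j with _ | j
        · exact H.eA_mul_eA
        · rw [Fv, ← mul_assoc, H.eA_mul_eA, Matrix.smul_mul]
      simp only [hE, mul_add, Finset.mul_sum, Matrix.mul_smul, hF, smul_add, Finset.smul_sum,
        smul_comm ((q : ℝ) + 1)]
    have hEt : Eᵀ = E := by
      simp only [hE, transpose_add, transpose_sum, transpose_smul, H.Fv_transpose]
    obtain ⟨v0, v1, v2, vstep⟩ := H.E_mul_Fv hEt hKE heE
    set κ : ℝ := ((q : ℝ) + 1) ^ 2 / q with hκ
    have hv : ∀ j, E * Fv a b (j + 1) = (κ * ((q : ℝ) * r) ^ (j + 1) * u (j + 1)) • E := by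
      intro j
      induction j using Nat.twoStepInduction with
      | zero =>
        rw [v1, ← h1]
        congr 1
        rw [hκ]; field_simp; ring
      | one =>
        rw [v2]
        congr 1
        have e := hrec 0
        rw [h0] at e
        have e2 : (q : ℝ) * r * u (0 + 2) = θ * u 1 - 1 - ((r : ℝ) - 1) * u 1 := by
          norm_num at e ⊢
          linarith
        rw [show κ * ((q : ℝ) * r) ^ (1 + 1) * u (1 + 1) =
            κ * ((q : ℝ) * r) * ((q : ℝ) * r * u (0 + 2)) by ring, e2, hκ, ← h1]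
        field_simp
        ring
      | more j hj0 hj1 =>
        rw [vstep j _ _ hj0 hj1]
        congr 1
        have e := hrec (j + 1)
        rw [show j + 1 + 2 = j + 2 + 1 from rfl] at *
        linear_combination (κ * ((q : ℝ) * r) ^ (j + 2)) * (-e)
    set A : ℝ := (∑ j ∈ Finset.range (g + 1), w (j + 1) ^ 2) + 1 with hA
    have hwu : ∀ j, ((q : ℝ) * r) ^ j * u j * u j = w j ^ 2 := by
      intro j
      simp only [hu]
      rw [← hs, ← pow_mul, show 2 * j = j + j by ring, pow_add]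
      field_simp
    have hEE : E * E = (κ * A) • E := by
      conv_lhs => arg 2; rw [hE, Finset.sum_range_succ']
      simp only [mul_add, Finset.mul_sum, Matrix.mul_smul, hv, v0, smul_smul]
      rw [← Finset.sum_smul, ← add_smul, ← add_smul]
      congr 1
      have e1 : ∀ j, u j * (κ * ((q : ℝ) * r) ^ j * u j) = κ * w j ^ 2 := fun j => by
        rw [← hwu j]; ring
      rw [Finset.sum_congr rfl fun j _ => e1 (j + 1), ← Finset.mul_sum, h0, hu', hA, mul_add,
        show u (g + 2) / ((q : ℝ) + 1) * (κ * ((q : ℝ) * r) ^ (g + 1 + 1) * u (g + 1 + 1)) =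
          (u (g + 2) * (κ * ((q : ℝ) * r) ^ (g + 2) * u (g + 2))) / ((q : ℝ) + 1) by ring, e1,
        hwh, hε2, hκ]
      field_simp
      ring
    have htr : E.trace = (Fintype.card X : ℝ) := by
      have hz : ∀ j, j < g + 2 → (Fv a b (j + 1)).trace = 0 := by
        intro j hj
        rcases Nat.lt_or_ge j (g + 1) with hjg | hjg
        · rw [H.Fv_succ_split, trace_add, trace_Gv hP hQ (by omega) (by omega),
            trace_Gv hP hQ (by omega) (by omega), add_zero]
        · obtain rfl : j = g + 1 := by omega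
          rw [H.Fv_succ_split, hG, trace_add, trace_smul,
            trace_Gv hP hQ (by omega) (by omega), smul_zero, add_zero]
      rw [hE, trace_add, trace_sum, Finset.sum_range_succ']
      simp only [trace_smul, h0, one_smul,
        trace_Fv_zero (show 0 < 2 * (g + 2) by omega) hQ]
      rw [Finset.sum_eq_zero fun j hj => by rw [hz j (by simp at hj; omega), smul_zero],
        hz (g + 1) (by omega), smul_zero, zero_add, add_zero]
    have hApos : 0 < A := by rw [hA]; positivity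
    have hκ0 : 0 < κ := by rw [hκ]; positivity
    obtain ⟨x, hx⟩ := rat_of_idempotent (mul_pos hκ0 hApos).ne' Fintype.card_ne_zero hEE htr
    refine rat_even (h := g + 2) (w₁ := w₁) (A := A) (by omega) hq hr hC (by rw [hw₁, hθ]) ?_ ?_
    · have e := seqW_sum_sq C w₁ (g + 1)
      have e2 : w (g + 2 + 1) = 2 * C * w (g + 2) - w (g + 1) := by
        rw [hw]; exact seqW_succ_succ C w₁ (g + 1)
      rw [hwh, hwh1] at e2
      rw [← hw, hwh, show w (g + 1) = ε * (2 * C - w₁) by linarith] at e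
      push_cast at e ⊢
      rw [hA]
      linear_combination -e + (1 - C * (2 * C - w₁)) * hε2
    · refine ⟨x * q / ((q : ℚ) + 1) ^ 2, ?_⟩
      push_cast
      rw [← hx, hκ]
      field_simp
  refine even_small hh hq hr fun k hk hkh => ?_
  have hC : Real.cos (k * Real.pi / (g + 2 : ℕ)) ^ 2 < 1 := by
    have hsin : 0 < Real.sin (k * Real.pi / (g + 2 : ℕ)) := by
      refine Real.sin_pos_of_pos_of_lt_pi ?_ ?_
      · have : (0 : ℝ) < k := by exact_mod_cast hk
        have : (0 : ℝ) < (g + 2 : ℕ) := by exact_mod_cast (show 0 < g + 2 by omega)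
        positivity
      · rw [div_lt_iff₀ (by exact_mod_cast (show 0 < g + 2 by omega)), mul_comm Real.pi]
        exact mul_lt_mul_of_pos_right (by exact_mod_cast hkh) Real.pi_pos
    have := Real.sin_sq_add_cos_sq (k * Real.pi / (g + 2 : ℕ))
    nlinarith
  refine even_rat_pair (h := g + 2) hq hr hC (main k hk hkh) ?_
  have h' := main (g + 2 - k) (by omega) (by omega)
  have e : Real.cos (((g + 2 - k : ℕ) : ℝ) * Real.pi / (g + 2 : ℕ)) =
      - Real.cos (k * Real.pi / (g + 2 : ℕ)) := by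
    rw [Nat.cast_sub hkh.le, ← Real.cos_pi_sub]
    congr 1
    have : ((g + 2 : ℕ) : ℝ) ≠ 0 := by positivity
    field_simp
  rwa [e] at h'

/-- An odd period. -/
theorem small_odd (H : Dih a b (q : ℝ) r) [Nonempty X] (hq : 2 ≤ q) (hr : 2 ≤ r) {h : ℕ}
    (hh : 0 < h) (hbraid : Pw a b (2 * h + 1) = Pw a b (2 * h) * a)
    (hP : ∀ i, 1 ≤ i → i ≤ 2 * h + 1 → (Pw a b i).trace = 0)
    (hQ : ∀ i, i < 2 * h + 1 → (Pw a b i * a).trace = 0) : h = 1 := by
  obtain ⟨g, rfl⟩ : ∃ g, h = g + 1 := ⟨h - 1, by omega⟩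
  have hq0 : (q : ℝ) ≠ 0 := by norm_cast; omega
  have hq1 : (q : ℝ) + 1 ≠ 0 := by positivity
  have hG : Gv a b (2 * (g + 1) + 1) = (q : ℝ) • Gv a b (2 * (g + 1)) := by
    rw [Gv, Gv, hbraid, mul_assoc, H.a_mul_eA, Matrix.mul_smul]
  have htr : ∀ j, j < g + 1 → (Fv a b (j + 1)).trace = 0 := by
    intro j hj
    rw [H.Fv_succ_split, trace_add, trace_Gv hP hQ (by omega) (by omega),
      trace_Gv hP hQ (by omega) (by omega), add_zero]
  have hG0 : (Gv a b (2 * (g + 1))).trace = 0 := trace_Gv hP hQ (by omega) (by omega)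
  have hqr : q = r := by
    have hb : b * Gv a b (2 * (g + 1)) = (q : ℝ) • Gv a b (2 * (g + 1)) := by
      rw [← H.Gv_odd, hG]
    have h2 : b * b * Gv a b (2 * (g + 1)) = ((q : ℝ) * q) • Gv a b (2 * (g + 1)) := by
      rw [mul_assoc, hb, Matrix.mul_smul, hb, smul_smul]
    rw [H.sq_b, add_mul, Matrix.smul_mul, Matrix.smul_mul, one_mul, hb, smul_smul,
      ← add_smul] at h2
    by_contra hne
    have hne' : ((r : ℝ) - 1) * q + r - q * q ≠ 0 := by
      intro h0
      have : ((r : ℝ) - q) * ((q : ℝ) + 1) = 0 := by linear_combination h0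
      rcases mul_eq_zero.1 this with h | h
      · exact hne (by exact_mod_cast (sub_eq_zero.1 h).symm)
      · exact hq1 h
    have hG00 : Gv a b (2 * (g + 1)) = 0 := by
      rw [← sub_eq_zero, ← sub_smul, smul_eq_zero] at h2
      exact h2.resolve_left hne'
    -- `G` is the product of `b`, `a` and `1 + a`, which are cancellable
    have hinv : ∀ (c : Matrix X X ℝ) (p : ℕ), 2 ≤ p →
        c * c = ((p : ℝ) - 1) • c + (p : ℝ) • (1 : Matrix X X ℝ) → ∀ M, c * M = 0 → M = 0 := by
      intro c p hp hcc M hM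
      have : c * c * M = 0 := by rw [mul_assoc, hM, mul_zero]
      rw [hcc, add_mul, Matrix.smul_mul, Matrix.smul_mul, one_mul, hM, smul_zero, zero_add,
        smul_eq_zero] at this
      exact this.resolve_left (by norm_cast; omega)
    have hall : ∀ i, Gv a b i = 0 → Gv a b 0 = 0 := by
      intro i
      induction i with
      | zero => exact id
      | succ i ih =>
        intro h0
        apply ih
        rw [Gv, Pw, mul_assoc] at h0
        split_ifs at h0
        · exact hinv b r hr H.sq_b _ h0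
        · exact hinv a q hq H.sq_a _ h0
    have h3 := trace_Fv_zero (show 0 < 2 * (g + 1) + 1 by omega) hQ
    have h4 : Fv a b 0 = 0 := by
      have := hall _ hG00
      rwa [Gv, Pw, one_mul] at this
    rw [h4, trace_zero] at h3
    exact Fintype.card_ne_zero (α := X) (by exact_mod_cast h3.symm)
  subst hqr
  have hFlast : Fv a b (g + 2) = ((q : ℝ) * q) • Fv a b (g + 1) := by
    rw [Fv, hG, Matrix.mul_smul, show 2 * (g + 1) = 2 * g + 2 by ring, H.eA_Gv_even, smul_smul]
  set φ : ℝ := 2 * Real.pi / (2 * (g + 1 : ℕ) + 1) with hφ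
  set C := Real.cos φ with hCdef
  have hC : C ^ 2 < 1 := by
    have hsin : 0 < Real.sin φ := by
      refine Real.sin_pos_of_pos_of_lt_pi (by positivity) ?_
      rw [hφ, div_lt_iff₀ (by positivity)]
      push_cast
      have : (0 : ℝ) ≤ g := by positivity
      nlinarith [Real.pi_pos]
    have := Real.sin_sq_add_cos_sq φ
    nlinarith
  set θ : ℝ := (q : ℝ) - 1 + 2 * q * C with hθ
  set w₁ : ℝ := ((q : ℝ) - 1 + 2 * q * C) / (q + 1) with hw₁
  set w : ℕ → ℝ := seqW C w₁ with hw
  set u : ℕ → ℝ := fun j => w j / (q : ℝ) ^ j with hu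
  have h0 : u 0 = 1 := by simp [hu, hw, seqW]
  have h1 : (q : ℝ) * (q + 1) * u 1 = θ := by
    simp only [hu, hw, seqW, pow_one, hw₁, hθ]; field_simp
  have hrec : ∀ j, u j + ((q : ℝ) - 1) * u (j + 1) + (q : ℝ) * q * u (j + 2) = θ * u (j + 1) := by
    intro j
    simp only [hu, hw, seqW_succ_succ, hθ]
    field_simp
    ring
  have hwh : w (g + 1 + 1) = (q : ℝ) * w (g + 1) := by
    rw [hw, hw₁, hCdef, hφ]
    exact seqW_odd_boundary (h := g + 1) (by omega) (q : ℝ) hq1
  have hbd : u (g + 2) = u (g + 1) := by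
    simp only [hu, hwh]; field_simp; ring
  set E := ∑ j ∈ Finset.range (g + 2), u j • Fv a b j with hE
  have hKE : eA a * b * E = θ • E := by
    rw [← sub_eq_zero, hE, H.partial_eigen h0 h1 hrec g, hFlast, hbd]
    module
  have heE : eA a * E = ((q : ℝ) + 1) • E := by
    have hF : ∀ j, eA a * Fv a b j = ((q : ℝ) + 1) • Fv a b j := by
      intro j
      rcases j with _ | j
      · exact H.eA_mul_eA
      · rw [Fv, ← mul_assoc, H.eA_mul_eA, Matrix.smul_mul]
    simp only [hE, Finset.mul_sum, Matrix.mul_smul, hF, Finset.smul_sum,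
      smul_comm ((q : ℝ) + 1)]
  have hEt : Eᵀ = E := by
    simp only [hE, transpose_sum, transpose_smul, H.Fv_transpose]
  obtain ⟨v0, v1, v2, vstep⟩ := H.E_mul_Fv hEt hKE heE
  set κ : ℝ := ((q : ℝ) + 1) ^ 2 / q with hκ
  have hv : ∀ j, E * Fv a b (j + 1) = (κ * ((q : ℝ) * q) ^ (j + 1) * u (j + 1)) • E := by
    intro j
    induction j using Nat.twoStepInduction with
    | zero =>
      rw [v1, ← h1]
      congr 1
      rw [hκ]; field_simp; ring
    | one =>
      rw [v2]
      congr 1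
      have e := hrec 0
      rw [h0] at e
      have e2 : (q : ℝ) * q * u (0 + 2) = θ * u 1 - 1 - ((q : ℝ) - 1) * u 1 := by
        norm_num at e ⊢
        linarith
      rw [show κ * ((q : ℝ) * q) ^ (1 + 1) * u (1 + 1) =
          κ * ((q : ℝ) * q) * ((q : ℝ) * q * u (0 + 2)) by ring, e2, hκ, ← h1]
      field_simp
      ring
    | more j hj0 hj1 =>
      rw [vstep j _ _ hj0 hj1]
      congr 1
      have e := hrec (j + 1)
      rw [show j + 1 + 2 = j + 2 + 1 from rfl] at *
      linear_combination (κ * ((q : ℝ) * q) ^ (j + 2)) * (-e)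
  set A : ℝ := ∑ j ∈ Finset.range (g + 1), w (j + 1) ^ 2 with hA
  have hEE : E * E = (((q : ℝ) + 1) + κ * A) • E := by
    conv_lhs => arg 2; rw [hE, Finset.sum_range_succ']
    simp only [mul_add, Finset.mul_sum, Matrix.mul_smul, hv, v0, smul_smul]
    rw [← Finset.sum_smul, ← add_smul]
    congr 1
    have e1 : ∀ j, u j * (κ * ((q : ℝ) * q) ^ j * u j) = κ * w j ^ 2 := fun j => by
      simp only [hu]; rw [mul_pow]; field_simp
    rw [Finset.sum_congr rfl fun j _ => e1 (j + 1), ← Finset.mul_sum, h0, hA]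
    ring
  have htrE : E.trace = (Fintype.card X : ℝ) := by
    rw [hE, trace_sum, Finset.sum_range_succ']
    simp only [trace_smul, h0, one_smul,
      trace_Fv_zero (show 0 < 2 * (g + 1) + 1 by omega) hQ]
    rw [Finset.sum_eq_zero fun j hj => by rw [htr j (by simp at hj; omega), smul_zero], zero_add]
  have hκ0 : 0 < κ := by rw [hκ]; positivity
  have hc : 0 < (q : ℝ) + 1 + κ * A := by
    have : 0 ≤ A := by rw [hA]; positivity
    positivity
  obtain ⟨x, hx⟩ := rat_of_idempotent hc.ne' Fintype.card_ne_zero hEE htrE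
  obtain ⟨y, hy⟩ := rat_odd (h := g + 1) (A := A) (u := w (g + 1)) hq hC hw₁
    (by have := seqW_invariant C w₁ (g + 1); rwa [← hw, hwh] at this)
    (by have := seqW_sum_sq C w₁ (g + 1); rwa [← hw, hwh] at this)
    ⟨(x - ((q : ℚ) + 1)) * q / ((q : ℚ) + 1) ^ 2, by push_cast; rw [← hx, hκ]; field_simp; ring⟩
  exact odd_small (by omega) ⟨y, by rw [← hy, hCdef, hφ]⟩

end Dih

end CfsgLib.Chev.FH
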