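import Mathlib
import Cfsg.Agent.Lib.Chev.FHAlgebra
import Cfsg.Agent.Lib.Chev.BNCoxeter

/-!
The adjacency matrices of a (B,N)-pair of rank two and the proof of the Feit-Higman theorem.
-/

set_option autoImplicit false

namespace CfsgLib.Chev.FH

open Cfsg CfsgLib.Chev.BN
open scoped Matrix
open scoped Classical

/-! ### Two involutions -/

section TwoInv

variable {W : Type*} [Group W] (σ τ : W)

/-- The signed enumeration of the group generated by two involutions. -/
def phi (z : ℤ) : W := if Even z then (σ * τ) ^ (z / 2) else τ * (σ * τ) ^ (z / 2)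

lemma phi_even (e : ℤ) : phi σ τ (2 * e) = (σ * τ) ^ e := by
  rw [phi, if_pos (even_two_mul e)]
  congr 1
  omega

lemma phi_odd (e : ℤ) : phi σ τ (2 * e + 1) = τ * (σ * τ) ^ e := by
  rw [phi, if_neg (by simp [parity_simps])]
  congr 2
  omega

variable {σ τ}

lemma tau_mul_phi (hτ : τ * τ = 1) (z : ℤ) :
    τ * phi σ τ z = phi σ τ (if Even z then z + 1 else z - 1) := by
  rcases Int.even_or_odd' z with ⟨e, rfl | rfl⟩
  · rw [if_pos (even_two_mul e), phi_even, phi_odd]
  · rw [if_neg (by simp [parity_simps]), show 2 * e + 1 - 1 = 2 * e by ring, phi_even, phi_odd,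
      ← mul_assoc, hτ, one_mul]

lemma sigma_mul_phi (hσ : σ * σ = 1) (hτ : τ * τ = 1) (z : ℤ) :
    σ * phi σ τ z = phi σ τ (if Even z then z - 1 else z + 1) := by
  have e1 : τ * (σ * τ)⁻¹ = σ := by
    rw [mul_inv_rev, ← mul_assoc, mul_inv_cancel, one_mul, inv_eq_of_mul_eq_one_right hσ]
  rcases Int.even_or_odd' z with ⟨e, rfl | rfl⟩
  · rw [if_pos (even_two_mul e), phi_even, show 2 * e - 1 = 2 * (e - 1) + 1 by ring, phi_odd]
    conv_lhs => arg 1; rw [← e1]
    rw [mul_assoc, ← zpow_neg_one, ← zpow_add, neg_add_eq_sub]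
  · rw [if_neg (by simp [parity_simps]), show 2 * e + 1 + 1 = 2 * (e + 1) by ring, phi_even, phi_odd,
      ← mul_assoc, add_comm, zpow_add, zpow_one]

lemma prod_eq_phi (hσ : σ * σ = 1) (hτ : τ * τ = 1) (l : List W)
    (hl : ∀ x ∈ l, x = σ ∨ x = τ) :
    ∃ z : ℤ, |z| ≤ l.length ∧ l.prod = phi σ τ z := by
  induction l with
  | nil => exact ⟨0, by simp, by simp [phi]⟩
  | cons x l ih =>
    obtain ⟨z, hz, e⟩ := ih fun y hy => hl y (List.mem_cons_of_mem _ hy)
    rw [abs_le] at hz
    rcases hl x (by simp) with rfl | rfl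
    · refine ⟨_, ?_, by rw [List.prod_cons, e, sigma_mul_phi hσ hτ]⟩
      rw [List.length_cons, abs_le]; split_ifs <;> push_cast <;> omega
    · refine ⟨_, ?_, by rw [List.prod_cons, e, tau_mul_phi hτ]⟩
      rw [List.length_cons, abs_le]; split_ifs <;> push_cast <;> omega

lemma phi_eq_iff (hnot : τ ∉ Subgroup.zpowers (σ * τ)) {z z' : ℤ} :
    phi σ τ z = phi σ τ z' ↔ (2 * orderOf (σ * τ) : ℤ) ∣ z - z' := by
  have hdvd : ∀ e e' : ℤ,
      (2 * orderOf (σ * τ) : ℤ) ∣ 2 * e - 2 * e' ↔ (σ * τ) ^ e = (σ * τ) ^ e' := by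
    intro e e'
    rw [← mul_sub, Int.mul_dvd_mul_iff_left two_ne_zero, orderOf_dvd_iff_zpow_eq_one, zpow_sub,
      mul_inv_eq_one]
  rcases Int.even_or_odd' z with ⟨e, rfl | rfl⟩ <;>
    rcases Int.even_or_odd' z' with ⟨e', rfl | rfl⟩
  · rw [phi_even, phi_even, hdvd]
  · refine iff_of_false (fun h => hnot ?_) (fun h => ?_)
    · rw [phi_even, phi_odd] at h
      exact ⟨e - e', by show (σ * τ) ^ (e - e') = τ; rw [zpow_sub, h, mul_inv_cancel_right]⟩
    · have := (dvd_mul_right (2 : ℤ) _).trans h
      omega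
  · refine iff_of_false (fun h => hnot ?_) (fun h => ?_)
    · rw [phi_even, phi_odd] at h
      exact ⟨e' - e, by show (σ * τ) ^ (e' - e) = τ; rw [zpow_sub, ← h, mul_inv_cancel_right]⟩
    · have := (dvd_mul_right (2 : ℤ) _).trans h
      omega
  · rw [phi_odd, phi_odd, mul_right_inj, show 2 * e + 1 - (2 * e' + 1) = 2 * e - 2 * e' by ring,
      hdvd]

end TwoInv

/-! ### Adjacency matrices -/

variable {G : Type*} [Group G] [Finite G] (P : BNPair G)

noncomputable instance : Fintype (G ⧸ P.B) := Fintype.ofFinite _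

/-- Two cosets are in relative position `n`. -/
def rel (n : G) (x y : G ⧸ P.B) : Prop := x.out⁻¹ * y.out ∈ cell P n

/-- The adjacency matrix. -/
noncomputable def adj (n : G) : Matrix (G ⧸ P.B) (G ⧸ P.B) ℝ :=
  fun x y => if rel P n x y then 1 else 0

omit [Finite G] in
lemma rel_mk (n g h : G) : rel P n (g : G ⧸ P.B) (h : G ⧸ P.B) ↔ g⁻¹ * h ∈ cell P n := by
  obtain ⟨b, hb⟩ := QuotientGroup.mk_out_eq_mul P.B g
  obtain ⟨c, hc⟩ := QuotientGroup.mk_out_eq_mul P.B h
  rw [rel, hb, hc]
  constructor
  · intro hm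
    have := mul_mem_cell P b.2 (P.B.inv_mem c.2) hm
    simpa [mul_assoc] using this
  · intro hm
    have := mul_mem_cell P (P.B.inv_mem b.2) c.2 hm
    simpa [mul_assoc] using this

omit [Finite G] in
lemma rel_smul (n g : G) (x y : G ⧸ P.B) : rel P n (g • x) (g • y) ↔ rel P n x y := by
  induction x using QuotientGroup.induction_on with | H x => ?_
  induction y using QuotientGroup.induction_on with | H y => ?_
  rw [MulAction.Quotient.smul_mk, MulAction.Quotient.smul_mk, rel_mk, rel_mk]
  simp [mul_assoc]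

omit [Finite G] in
lemma rel_one (x y : G ⧸ P.B) : rel P 1 x y ↔ x = y := by
  rw [rel, mem_cell_one, ← QuotientGroup.eq, QuotientGroup.out_eq', QuotientGroup.out_eq']

omit [Finite G] in
lemma rel_symm {s : G} (hs : s ∈ P.S) {x y : G ⧸ P.B} (h : rel P s x y) : rel P s y x := by
  have := inv_mem_cell P h
  rw [cell_s_inv P hs, mul_inv_rev, inv_inv] at this
  exact this

lemma adj_one : adj P 1 = 1 := by
  funext x y
  by_cases h : x = y
  · simp [adj, rel_one, h, Matrix.one_apply]
  · simp [adj, rel_one, h, Matrix.one_apply]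

omit [Finite G] in
lemma adj_congr {n n' : G} (h : n⁻¹ * n' ∈ P.B) : adj P n = adj P n' := by
  funext x y
  simp only [adj, rel, cell_congr P h]
  congr

omit [Finite G] in
lemma adj_transpose {s : G} (hs : s ∈ P.S) : (adj P s)ᵀ = adj P s := by
  funext x y
  simp only [Matrix.transpose_apply, adj]
  exact if_congr ⟨rel_symm P hs, rel_symm P hs⟩ rfl rfl

lemma adj_trace {n : G} (hn : n ∈ P.N) (hB : n ∉ P.B) : (adj P n).trace = 0 := by
  refine Finset.sum_eq_zero fun x _ => if_neg fun h => hB ?_
  rw [rel, inv_mul_cancel] at h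
  simpa using equiv_of_mem_cells P P.N.one_mem hn (self_mem_cell P 1) h

lemma adj_mul_apply (n n' : G) (x z : G ⧸ P.B) :
    (adj P n * adj P n') x z =
      ((Finset.univ.filter fun y => rel P n x y ∧ rel P n' y z).card : ℝ) := by
  rw [Matrix.mul_apply, ← Finset.sum_boole]
  exact Finset.sum_congr rfl fun y _ => by simp only [adj, ite_and]; split_ifs <;> simp

/-- If the lengths add up, the adjacency matrices multiply. -/
lemma adj_mul {s n : G} (hs : s ∈ P.S) (hn : n ∈ P.N) (hle : len P n ≤ len P (s * n)) :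
    adj P s * adj P n = adj P (s * n) := by
  funext x z
  rw [adj_mul_apply, adj]
  split_ifs with h
  · rw [Nat.cast_eq_one, Finset.card_eq_one]
    obtain ⟨b, hb, c, hc, e⟩ := (mem_cell P).1 h
    refine ⟨((x.out * b * s : G) : G ⧸ P.B), Finset.eq_singleton_iff_unique_mem.2 ⟨?_, ?_⟩⟩
    · simp only [Finset.mem_filter_univ]
      rw [← QuotientGroup.out_eq' x, ← QuotientGroup.out_eq' z, rel_mk, rel_mk,
        QuotientGroup.out_eq']
      refine ⟨?_, ?_⟩
      · simpa [mul_assoc] using mul_mem_cell P hb P.B.one_mem (self_mem_cell P s)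
      · rw [show (x.out * b * s)⁻¹ * z.out = s⁻¹ * b⁻¹ * (x.out⁻¹ * z.out) by group, e,
          show s⁻¹ * b⁻¹ * (b * (s * n) * c) = 1 * n * c by group]
        exact mul_mem_cell P P.B.one_mem hc (self_mem_cell P n)
    · intro y hy
      simp only [Finset.mem_filter_univ] at hy
      set y₀ : G ⧸ P.B := ((x.out * b * s : G) : G ⧸ P.B) with hy₀
      have h₀ : rel P s x y₀ ∧ rel P n y₀ z := by
        rw [hy₀, ← QuotientGroup.out_eq' x, ← QuotientGroup.out_eq' z, rel_mk, rel_mk,
          QuotientGroup.out_eq']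
        refine ⟨?_, ?_⟩
        · simpa [mul_assoc] using mul_mem_cell P hb P.B.one_mem (self_mem_cell P s)
        · rw [show (x.out * b * s)⁻¹ * z.out = s⁻¹ * b⁻¹ * (x.out⁻¹ * z.out) by group, e,
            show s⁻¹ * b⁻¹ * (b * (s * n) * c) = 1 * n * c by group]
          exact mul_mem_cell P P.B.one_mem hc (self_mem_cell P n)
      have hyy := cell_mul_cell P hs (s_mem P hs) (rel_symm P hs hy.1) h₀.1
      rw [mul_assoc, mul_inv_cancel_left] at hyy
      rcases hyy with h' | h'
      · rw [← one_mul (s * s), cell_mul_right P (P.sq_mem s hs)] at h'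
        exact (rel_one P y y₀).1 h'
      · exfalso
        have h2 := cell_mul_of_len_le P hs hn hle h' h₀.2
        rw [mul_assoc, mul_inv_cancel_left] at h2
        have h3 := equiv_of_mem_cells P hn (P.N.mul_mem (s_mem P hs) hn) hy.2 h2
        apply s_not_mem_B P hs
        have := P.conj_mem _ hn _
          ⟨h3, P.N.mul_mem (P.N.inv_mem hn) (P.N.mul_mem (s_mem P hs) hn)⟩
        simpa [mul_assoc] using this
  · rw [Nat.cast_eq_zero, Finset.card_eq_zero, Finset.filter_eq_empty_iff]
    rintro y - ⟨h1, h2⟩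
    apply h
    have := cell_mul_of_len_le P hs hn hle h1 h2
    rwa [mul_assoc, mul_inv_cancel_left] at this

/-- The number of neighbours of type `s`. -/
noncomputable def deg (s : G) : ℕ := (Finset.univ.filter (rel P s ((1 : G) : G ⧸ P.B))).card

lemma deg_eq (s : G) (x : G ⧸ P.B) : (Finset.univ.filter (rel P s x)).card = deg P s := by
  refine Finset.card_bij' (fun y _ => x.out⁻¹ • y) (fun y _ => x.out • y) ?_ ?_ ?_ ?_
  · intro y hy
    simp only [Finset.mem_filter_univ] at hy ⊢
    rw [← rel_smul P s x.out, smul_inv_smul, MulAction.Quotient.smul_mk, smul_eq_mul, mul_one,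
      QuotientGroup.out_eq']
    exact hy
  · intro y hy
    simp only [Finset.mem_filter_univ] at hy ⊢
    rw [← rel_smul P s x.out, MulAction.Quotient.smul_mk, smul_eq_mul, mul_one,
      QuotientGroup.out_eq'] at hy
    exact hy
  · exact fun y _ => smul_inv_smul _ _
  · exact fun y _ => inv_smul_smul _ _

lemma two_le_deg {s : G} (hs : s ∈ P.S) : 2 ≤ deg P s := by
  obtain ⟨b, hb, hmem⟩ := exists_s_mul_s_mem_cell P hs
  refine Finset.one_lt_card.2 ⟨((s : G) : G ⧸ P.B), ?_, ((b * s : G) : G ⧸ P.B), ?_, ?_⟩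
  · simp [rel_mk, self_mem_cell]
  · simp only [Finset.mem_filter_univ, rel_mk, inv_one, one_mul]
    simpa using mul_mem_cell P hb P.B.one_mem (self_mem_cell P s)
  · intro h
    rw [QuotientGroup.eq] at h
    apply s_not_mem_B P hs
    have h2 : s⁻¹ * (b * s) ∈ cell P s := by
      have := mul_mem_cell P (P.B.inv_mem (P.sq_mem s hs)) P.B.one_mem hmem
      simpa [mul_assoc] using this
    simpa using equiv_of_mem_cells P P.N.one_mem (s_mem P hs) ((mem_cell_one P).2 h) h2

lemma adj_sq {s : G} (hs : s ∈ P.S) : adj P s * adj P s =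
    ((deg P s : ℝ) - 1) • adj P s + (deg P s : ℝ) • (1 : Matrix (G ⧸ P.B) (G ⧸ P.B) ℝ) := by
  funext x z
  have hnot : ¬ rel P s x x := fun h => by
    rw [rel, inv_mul_cancel] at h
    apply s_not_mem_B P hs
    simpa using equiv_of_mem_cells P P.N.one_mem (s_mem P hs) (self_mem_cell P 1) h
  rw [adj_mul_apply, Matrix.add_apply, Matrix.smul_apply, Matrix.smul_apply, smul_eq_mul,
    smul_eq_mul, adj, Matrix.one_apply]
  by_cases hxz : x = z
  · subst hxz
    rw [if_neg hnot, if_pos rfl, mul_zero, mul_one, zero_add, ← deg_eq P s x]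
    congr 2
    ext y
    simp only [Finset.mem_filter_univ]
    exact ⟨fun h => h.1, fun h => ⟨h, rel_symm P hs h⟩⟩
  rw [if_neg hxz, mul_zero, add_zero]
  split_ifs with h
  · have e : (Finset.univ.filter fun y => rel P s x y ∧ rel P s y z) =
        (Finset.univ.filter (rel P s x)).erase z := by
      ext y
      simp only [Finset.mem_filter_univ, Finset.mem_erase]
      refine ⟨fun hy => ⟨?_, hy.1⟩, fun hy => ⟨hy.2, ?_⟩⟩
      · rintro rfl
        simp only [rel, inv_mul_cancel] at hy
        exact s_not_mem_B P hs (by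
          simpa using equiv_of_mem_cells P P.N.one_mem (s_mem P hs) (self_mem_cell P 1) hy.2)
      · have hyz := cell_mul_cell P hs (s_mem P hs) (rel_symm P hs hy.2) h
        rw [mul_assoc, mul_inv_cancel_left] at hyz
        rcases hyz with h' | h'
        · rw [← one_mul (s * s), cell_mul_right P (P.sq_mem s hs)] at h'
          exact absurd ((rel_one P y z).1 h') hy.1
        · exact h'
    rw [e, Finset.card_erase_of_mem (by simpa using h), deg_eq, mul_one,
      Nat.cast_sub (show 1 ≤ deg P s by have := two_le_deg P hs; omega), Nat.cast_one]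
  · rw [mul_zero, Nat.cast_eq_zero, Finset.card_eq_zero, Finset.filter_eq_empty_iff]
    rintro y - ⟨h1, h2⟩
    have h3 := cell_mul_cell P hs (s_mem P hs) h1 h2
    rw [mul_assoc, mul_inv_cancel_left] at h3
    rcases h3 with h' | h'
    · rw [← one_mul (s * s), cell_mul_right P (P.sq_mem s hs)] at h'
      exact hxz ((rel_one P x z).1 h')
    · exact h h'

/-! ### Rank two -/

theorem index_mem (h2 : P.rank = 2) :
    ((P.B ⊓ P.N).subgroupOf P.N).index ∈ ({4, 6, 8, 12, 16} : Set ℕ) := by
  haveI : ((P.B ⊓ P.N).subgroupOf P.N).Normal := ⟨fun t ht n => by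
    rw [Subgroup.mem_subgroupOf] at ht ⊢
    exact ⟨P.conj_mem n n.2 t ht, (n * t * n⁻¹).2⟩⟩
  obtain ⟨M, cs, hcs⟩ := weyl_coxeter P
  rw [BNPair.rank, Nat.card_eq_two_iff] at h2
  obtain ⟨s, t, hst, huniv⟩ := h2
  have hall : ∀ x : P.S, x = s ∨ x = t := fun x => by
    have : x ∈ ({s, t} : Set P.S) := huniv ▸ Set.mem_univ x
    simpa using this
  set σ := wgen P s with hσd
  set τ := wgen P t with hτd
  have hE := exchangeData P
  have hσ : σ * σ = 1 := hE.sq s
  have hτ : τ * τ = 1 := hE.sq t
  set m := orderOf (σ * τ) with hm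
  have hm2 : 2 ≤ m := by
    have h0 : 0 < m := orderOf_pos _
    have h1 : m ≠ 1 := fun h => hst (hE.inj (by
      rw [hm, orderOf_eq_one_iff] at h
      exact (eq_inv_of_mul_eq_one_left h).trans (inv_eq_of_mul_eq_one_right hτ)))
    omega
  have hnot : τ ∉ Subgroup.zpowers (σ * τ) := by
    have hpar : ∀ x : P.S, cs.lengthParity (wgen P x) = Multiplicative.ofAdd (1 : ZMod 2) := fun x =>
      (congrArg cs.lengthParity (hcs x).symm).trans (cs.lengthParity_simple x)
    rintro ⟨e, he⟩
    have h1 := congrArg cs.lengthParity he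
    simp only [map_zpow, map_mul, hσd, hτd, hpar] at h1
    rw [show Multiplicative.ofAdd (1 : ZMod 2) * Multiplicative.ofAdd (1 : ZMod 2) = 1 by decide,
      one_zpow] at h1
    exact absurd h1 (by decide)
  -- the image of an element of `N` and its length
  let img : P.N → P.N ⧸ (P.B ⊓ P.N).subgroupOf P.N := QuotientGroup.mk
  have himg : ∀ n : P.N, ∃ z : ℤ, |z| ≤ len P (n : G) ∧ img n = phi σ τ z := by
    intro n
    obtain ⟨l, hl, hlen⟩ := exists_reduced P n.2
    obtain ⟨l', hl'l, hl'⟩ := exists_subtype_word P hl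
    obtain ⟨z, hz, he⟩ := prod_eq_phi hσ hτ (l'.map (wgen P)) (fun x hx => by
      obtain ⟨y, -, rfl⟩ := List.mem_map.1 hx
      rcases hall y with rfl | rfl
      exacts [Or.inl rfl, Or.inr rfl])
    refine ⟨z, ?_, ?_⟩
    · rw [List.length_map, hl'l, hlen] at hz; exact hz
    · rw [← he]
      show _ = wordVal (wgen P) l'
      rw [wordVal_wgen]
      exact ((mk_eq_mk P).2 hl').symm
  have hge : ∀ (n : P.N) (z₀ : ℤ), |z₀| ≤ m → img n = phi σ τ z₀ → |z₀| ≤ len P (n : G) := by
    intro n z₀ hz₀ he
    obtain ⟨z, hz, he'⟩ := himg n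
    rw [he, phi_eq_iff hnot] at he'
    rw [abs_le] at hz hz₀
    by_contra hlt
    push Not at hlt
    have hlt' := lt_abs.1 hlt
    obtain ⟨c, hc⟩ := he'
    rcases lt_trichotomy c 0 with hc0 | rfl | hc0
    · have : (2 * (m : ℤ)) * c ≤ (2 * m) * (-1) :=
        mul_le_mul_of_nonneg_left (by omega) (by positivity)
      rw [hm] at *
      omega
    · rw [mul_zero] at hc
      omega
    · have : (2 * (m : ℤ)) * 1 ≤ (2 * m) * c :=
        mul_le_mul_of_nonneg_left (by omega) (by positivity)
      rw [hm] at *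
      omega
  have hcard : ((P.B ⊓ P.N).subgroupOf P.N).index = 2 * m := by
    have hbij : Function.Bijective (fun i : Fin (2 * m) => phi σ τ (i : ℤ)) := by
      constructor
      · intro i j h
        simp only [phi_eq_iff hnot] at h
        have h' : ((2 * m : ℕ) : ℤ) ∣ (i : ℤ) - j := by push_cast; exact h
        have := Int.eq_zero_of_abs_lt_dvd h' (by
          rw [abs_lt]; have := i.2; have := j.2; omega)
        exact Fin.ext (by omega)
      · intro w
        obtain ⟨n, rfl⟩ := QuotientGroup.mk_surjective w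
        obtain ⟨z, -, hz⟩ := himg n
        have hpos : (0 : ℤ) < 2 * m := by omega
        refine ⟨⟨(z % (2 * m)).toNat, by
          have := Int.emod_lt_of_pos z hpos; have := Int.emod_nonneg z hpos.ne'; omega⟩, ?_⟩
        refine Eq.trans ?_ hz.symm
        rw [phi_eq_iff hnot]
        simp only [Int.toNat_of_nonneg (Int.emod_nonneg z hpos.ne')]
        exact ⟨-(z / (2 * m)), by have := Int.mul_ediv_add_emod z (2 * m); linear_combination this⟩
    rw [Subgroup.index, ← Nat.card_eq_of_bijective _ hbij, Nat.card_fin]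
  -- the alternating products
  let lt : ℕ → P.N := fun i =>
    if Even i then ⟨(t : G), P.subset t.2⟩ else ⟨(s : G), P.subset s.2⟩
  let nw : ℕ → P.N := fun i => Nat.rec 1 (fun j n => lt j * n) i
  have hlt_val : ∀ i, (lt i : G) ∈ P.S := by
    intro i; simp only [lt]; split_ifs
    exacts [t.2, s.2]
  have hnw : ∀ i, img (nw i) = phi σ τ i ∧
      img (nw i * ⟨(s : G), P.subset s.2⟩) = phi σ τ (-(i + 1 : ℕ) : ℤ) := by
    intro i
    induction i with
    | zero =>
      refine ⟨by simp [nw, img, phi], ?_⟩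
      have h0 := sigma_mul_phi hσ hτ (0 : ℤ)
      rw [if_pos (by simp), show phi σ τ (0 : ℤ) = 1 by simp [phi], mul_one] at h0
      show img (1 * _) = _
      rw [one_mul]
      exact h0
    | succ i ih =>
      have e : ∀ x : P.N, img (lt i * x) = (if Even i then τ else σ) * img x := by
        intro x; simp only [lt]; split_ifs <;> exact QuotientGroup.mk_mul _ _ _
      refine ⟨?_, ?_⟩
      · show img (lt i * nw i) = _
        rw [e, ih.1]
        by_cases hi : Even i
        · rw [if_pos hi, tau_mul_phi hτ, if_pos (by exact_mod_cast hi)]; push_cast; rfl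
        · rw [if_neg hi, sigma_mul_phi hσ hτ, if_neg (by exact_mod_cast hi)]; push_cast; rfl
      · show img (lt i * nw i * _) = _
        rw [mul_assoc, e, ih.2]
        by_cases hi : Even i
        · rw [if_pos hi, tau_mul_phi hτ, if_neg (by simp [parity_simps, hi])]
          congr 1
        · rw [if_neg hi, sigma_mul_phi hσ hτ, if_pos (by simp [parity_simps, hi])]
          congr 1
  have hlen : ∀ i ≤ m, len P (nw i).1 = i ∧
      (i < m → len P ((nw i).1 * s) = i + 1) := by
    intro i hi
    have hup : ∀ j, len P (nw j).1 ≤ j := by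
      intro j
      induction j with
      | zero => exact ((len_eq_zero P P.N.one_mem).2 P.B.one_mem).le
      | succ j ih =>
        refine (len_mul_le P (lt j).2 (nw j).2).trans ?_
        have := len_s_le P (hlt_val j)
        omega
    refine ⟨le_antisymm (hup i) ?_, fun hi' => le_antisymm ?_ ?_⟩
    · have := hge (nw i) i (by rw [abs_le]; omega) (hnw i).1
      rw [Nat.abs_cast] at this; exact_mod_cast this
    · refine (len_mul_le P (nw i).2 (P.subset s.2)).trans ?_
      have := hup i; have := len_s_le P s.2; omega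
    · have := hge (nw i * ⟨(s : G), P.subset s.2⟩) (-(i + 1 : ℕ) : ℤ)
        (by rw [abs_neg, Nat.abs_cast]; omega) (hnw i).2
      rw [abs_neg, Nat.abs_cast] at this; exact_mod_cast this
  set a := adj P (s : G) with ha
  set b := adj P (t : G) with hb
  have H : FH.Dih a b (deg P (s : G) : ℝ) (deg P (t : G)) :=
    ⟨adj_transpose P s.2, adj_transpose P t.2, adj_sq P s.2, adj_sq P t.2⟩
  have hadj : ∀ i, (if Even i then b else a) = adj P (lt i : G) := by
    intro i; simp only [lt]; split_ifs <;> rfl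
  have hPw : ∀ i ≤ m, Pw a b i = adj P (nw i).1 := by
    intro i
    induction i with
    | zero => intro _; exact (adj_one P).symm
    | succ i ih =>
      intro hi
      rw [Pw, hadj, ih (by omega), adj_mul P (hlt_val i) (nw i).2 (by
        have h1 := (hlen i (by omega)).1
        have h2 := (hlen (i + 1) hi).1
        rw [h1]; exact le_trans (Nat.le_succ i) h2.ge)]
      rfl
  have hPwa : ∀ i < m, Pw a b i * a = adj P ((nw i).1 * s) := by
    intro i
    induction i with
    | zero => intro _; simp [Pw, nw, ha]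
    | succ i ih =>
      intro hi
      rw [Pw, mul_assoc, hadj, ih (by omega),
        adj_mul P (hlt_val i) (P.N.mul_mem (nw i).2 (P.subset s.2)) (by
          have h1 := (hlen i (by omega)).2 (by omega)
          have h2 := (hlen (i + 1) hi.le).2 hi
          rw [h1, ← mul_assoc]
          exact le_trans (Nat.le_succ _) h2.ge), ← mul_assoc]
      rfl
  have hP : ∀ i, 1 ≤ i → i ≤ m → (Pw a b i).trace = 0 := by
    intro i h1 h2
    rw [hPw i h2]
    refine adj_trace P (nw i).2 fun hB => ?_
    have := (len_eq_zero P (nw i).2).2 hB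
    rw [(hlen i h2).1] at this; omega
  have hQ : ∀ i, i < m → (Pw a b i * a).trace = 0 := by
    intro i h1
    have hN := P.N.mul_mem (nw i).2 (P.subset s.2)
    rw [hPwa i h1]
    refine adj_trace P hN fun hB => ?_
    have := (len_eq_zero P hN).2 hB
    rw [(hlen i h1.le).2 h1] at this; omega
  have hbraid : Pw a b m = Pw a b (m - 1) * a := by
    rw [hPw m le_rfl, hPwa (m - 1) (by omega)]
    refine adj_congr P ?_
    have e : img (nw m) = img (nw (m - 1) * ⟨(s : G), P.subset s.2⟩) := by
      rw [(hnw m).1, (hnw (m - 1)).2, phi_eq_iff hnot, show m - 1 + 1 = m by omega]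
      exact ⟨1, by ring⟩
    exact (mk_eq_mk P).1 e
  have hq := two_le_deg P s.2
  have hr := two_le_deg P t.2
  rw [hcard]
  rcases Nat.even_or_odd' m with ⟨h, hh | hh⟩
  · rcases Nat.lt_or_ge h 2 with h' | h'
    · have : m = 2 := by omega
      simp [this]
    rw [hh] at hP hQ hbraid
    rcases Dih.small_even H hq hr h' hbraid hP hQ with rfl | rfl | rfl <;> simp [hh]
  · rw [hh] at hP hQ hbraid
    rw [show 2 * h + 1 - 1 = 2 * h from rfl] at hbraid
    obtain rfl := Dih.small_odd H hq hr (by omega) hbraid hP hQ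
    simp [hh]

end CfsgLib.Chev.FH
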