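import Cfsg.Agent.Lib.Chev.Fi78Mat
import Cfsg.Agent.Lib.Chev.Fi78Data

/-!
Kernel checks of products of the matrices of size 78 over thirteen elements.
-/

set_option autoImplicit false
set_option maxRecDepth 100000

namespace CfsgLib.Chev.FiSeventyEight

theorem c13 : mulOK m0 w0 m13 = true := by decide +kernel

theorem c14 : mulOK m1 w1 m14 = true := by decide +kernel

theorem c15 : mulOK m2 w2 m15 = true := by decide +kernel

theorem c16 : mulOK m3 w3 m16 = true := by decide +kernel

theorem c17 : mulOK m4 w4 m17 = true := by decide +kernel

theorem c18 : mulOK m5 w5 m18 = true := by decide +kernel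

theorem c19 : mulOK m6 w6 m19 = true := by decide +kernel

theorem c20 : mulOK m7 w7 m20 = true := by decide +kernel

theorem c21 : mulOK m8 w8 m21 = true := by decide +kernel

theorem c22 : mulOK m0 w1 m22 = true := by decide +kernel

theorem c23 : mulOK m22 w0 m23 = true := by decide +kernel

theorem c24 : mulOK m1 w0 m24 = true := by decide +kernel

theorem c25 : mulOK m24 w1 m25 = true := by decide +kernel

theorem c26 : mulOK m0 w2 m26 = true := by decide +kernel

theorem c27 : mulOK m2 w0 m27 = true := by decide +kernel

theorem c28 : mulOK m0 w3 m28 = true := by decide +kernel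

theorem c29 : mulOK m3 w0 m29 = true := by decide +kernel

theorem c30 : mulOK m0 w4 m30 = true := by decide +kernel

theorem c31 : mulOK m4 w0 m31 = true := by decide +kernel

theorem c32 : mulOK m0 w5 m32 = true := by decide +kernel

theorem c33 : mulOK m5 w0 m33 = true := by decide +kernel

theorem c34 : mulOK m0 w6 m34 = true := by decide +kernel

theorem c35 : mulOK m6 w0 m35 = true := by decide +kernel

theorem c36 : mulOK m0 w7 m36 = true := by decide +kernel

theorem c37 : mulOK m7 w0 m37 = true := by decide +kernel

theorem c38 : mulOK m0 w8 m38 = true := by decide +kernel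

theorem c39 : mulOK m8 w0 m39 = true := by decide +kernel

theorem c40 : mulOK m1 w2 m40 = true := by decide +kernel

theorem c41 : mulOK m40 w1 m41 = true := by decide +kernel

theorem c42 : mulOK m2 w1 m42 = true := by decide +kernel

theorem c43 : mulOK m42 w2 m43 = true := by decide +kernel

theorem c44 : mulOK m1 w3 m44 = true := by decide +kernel

theorem c45 : mulOK m3 w1 m45 = true := by decide +kernel

theorem c46 : mulOK m1 w4 m46 = true := by decide +kernel

theorem c47 : mulOK m4 w1 m47 = true := by decide +kernel

theorem c48 : mulOK m1 w5 m48 = true := by decide +kernel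

theorem c49 : mulOK m5 w1 m49 = true := by decide +kernel

theorem c50 : mulOK m1 w6 m50 = true := by decide +kernel

theorem c51 : mulOK m6 w1 m51 = true := by decide +kernel

theorem c52 : mulOK m1 w7 m52 = true := by decide +kernel

theorem c53 : mulOK m7 w1 m53 = true := by decide +kernel

theorem c54 : mulOK m1 w8 m54 = true := by decide +kernel

theorem c55 : mulOK m8 w1 m55 = true := by decide +kernel

theorem c56 : mulOK m2 w3 m56 = true := by decide +kernel

theorem c57 : mulOK m56 w2 m57 = true := by decide +kernel

theorem c58 : mulOK m3 w2 m58 = true := by decide +kernel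

theorem c59 : mulOK m58 w3 m59 = true := by decide +kernel

theorem c60 : mulOK m2 w4 m60 = true := by decide +kernel

theorem wide0 : wideOK m0 w0 = true := by decide +kernel

theorem wide1 : wideOK m1 w1 = true := by decide +kernel

theorem wide2 : wideOK m2 w2 = true := by decide +kernel

theorem wide3 : wideOK m3 w3 = true := by decide +kernel

theorem wide4 : wideOK m4 w4 = true := by decide +kernel

theorem wide5 : wideOK m5 w5 = true := by decide +kernel

theorem wide6 : wideOK m6 w6 = true := by decide +kernel

theorem wide7 : wideOK m7 w7 = true := by decide +kernel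

theorem wide8 : wideOK m8 w8 = true := by decide +kernel

theorem wide9 : wideOK m9 w9 = true := by decide +kernel

theorem wide10 : wideOK m10 w10 = true := by decide +kernel

theorem wide11 : wideOK m11 w11 = true := by decide +kernel

end CfsgLib.Chev.FiSeventyEight
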