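import Cfsg.Agent.Lib.Chev.Fi78Mat
import Cfsg.Agent.Lib.Chev.Fi78Data

/-!
Kernel checks of products of the matrices of size 78 over thirteen elements.
-/

set_option autoImplicit false
set_option maxRecDepth 100000

namespace CfsgLib.Chev.FiSeventyEight

theorem c61 : mulOK m4 w2 m61 = true := by decide +kernel

theorem c62 : mulOK m2 w5 m62 = true := by decide +kernel

theorem c63 : mulOK m5 w2 m63 = true := by decide +kernel

theorem c64 : mulOK m2 w6 m64 = true := by decide +kernel

theorem c65 : mulOK m6 w2 m65 = true := by decide +kernel

theorem c66 : mulOK m2 w7 m66 = true := by decide +kernel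

theorem c67 : mulOK m7 w2 m67 = true := by decide +kernel

theorem c68 : mulOK m2 w8 m68 = true := by decide +kernel

theorem c69 : mulOK m8 w2 m69 = true := by decide +kernel

theorem c70 : mulOK m3 w4 m70 = true := by decide +kernel

theorem c71 : mulOK m70 w3 m71 = true := by decide +kernel

theorem c72 : mulOK m4 w3 m72 = true := by decide +kernel

theorem c73 : mulOK m72 w4 m73 = true := by decide +kernel

theorem c74 : mulOK m3 w5 m74 = true := by decide +kernel

theorem c75 : mulOK m5 w3 m75 = true := by decide +kernel

theorem c76 : mulOK m3 w6 m76 = true := by decide +kernel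

theorem c77 : mulOK m6 w3 m77 = true := by decide +kernel

theorem c78 : mulOK m3 w7 m78 = true := by decide +kernel

theorem c79 : mulOK m78 w3 m79 = true := by decide +kernel

theorem c80 : mulOK m7 w3 m80 = true := by decide +kernel

theorem c81 : mulOK m80 w7 m81 = true := by decide +kernel

theorem c82 : mulOK m3 w8 m82 = true := by decide +kernel

theorem c83 : mulOK m8 w3 m83 = true := by decide +kernel

theorem c84 : mulOK m4 w5 m84 = true := by decide +kernel

theorem c85 : mulOK m84 w4 m85 = true := by decide +kernel

theorem c86 : mulOK m5 w4 m86 = true := by decide +kernel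

theorem c87 : mulOK m86 w5 m87 = true := by decide +kernel

theorem c88 : mulOK m4 w6 m88 = true := by decide +kernel

theorem c89 : mulOK m6 w4 m89 = true := by decide +kernel

theorem c90 : mulOK m4 w7 m90 = true := by decide +kernel

theorem c91 : mulOK m7 w4 m91 = true := by decide +kernel

theorem c92 : mulOK m4 w8 m92 = true := by decide +kernel

theorem c93 : mulOK m8 w4 m93 = true := by decide +kernel

theorem c94 : mulOK m5 w6 m94 = true := by decide +kernel

theorem c95 : mulOK m94 w5 m95 = true := by decide +kernel

theorem c96 : mulOK m6 w5 m96 = true := by decide +kernel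

theorem c97 : mulOK m96 w6 m97 = true := by decide +kernel

theorem c98 : mulOK m5 w7 m98 = true := by decide +kernel

theorem c99 : mulOK m7 w5 m99 = true := by decide +kernel

theorem c100 : mulOK m5 w8 m100 = true := by decide +kernel

theorem c101 : mulOK m8 w5 m101 = true := by decide +kernel

theorem c102 : mulOK m6 w7 m102 = true := by decide +kernel

theorem c103 : mulOK m7 w6 m103 = true := by decide +kernel

theorem c104 : mulOK m6 w8 m104 = true := by decide +kernel

theorem c105 : mulOK m8 w6 m105 = true := by decide +kernel

theorem c106 : mulOK m7 w8 m106 = true := by decide +kernel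

theorem c107 : mulOK m106 w7 m107 = true := by decide +kernel

theorem c108 : mulOK m8 w7 m108 = true := by decide +kernel

end CfsgLib.Chev.FiSeventyEight
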