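import Cfsg.Agent.Lib.Chev.Fi78Mat
import Cfsg.Agent.Lib.Chev.Fi78Data

/-!
Kernel checks of products of the matrices of size 78 over thirteen elements.
-/

set_option autoImplicit false
set_option maxRecDepth 100000

namespace CfsgLib.Chev.FiSeventyEight

theorem c109 : mulOK m108 w8 m109 = true := by decide +kernel

theorem c110 : mulOK m3 w2 m110 = true := by decide +kernel

theorem c111 : mulOK m110 w1 m111 = true := by decide +kernel

theorem c112 : mulOK m111 w3 m112 = true := by decide +kernel

theorem c113 : mulOK m112 w4 m113 = true := by decide +kernel

theorem c114 : mulOK m113 w5 m114 = true := by decide +kernel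

theorem c115 : mulOK m114 w3 m115 = true := by decide +kernel

theorem c116 : mulOK m115 w7 m116 = true := by decide +kernel

theorem c117 : mulOK m116 w8 m117 = true := by decide +kernel

theorem c118 : mulOK m0 w1 m118 = true := by decide +kernel

theorem c119 : mulOK m118 w2 m119 = true := by decide +kernel

theorem c120 : mulOK m119 w3 m120 = true := by decide +kernel

theorem c121 : mulOK m120 w4 m121 = true := by decide +kernel

theorem c122 : mulOK m121 w5 m122 = true := by decide +kernel

theorem c123 : mulOK m122 w7 m123 = true := by decide +kernel

theorem c124 : mulOK m1 w2 m124 = true := by decide +kernel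

theorem c125 : mulOK m124 w3 m125 = true := by decide +kernel

theorem c126 : mulOK m125 w4 m126 = true := by decide +kernel

theorem c127 : mulOK m126 w5 m127 = true := by decide +kernel

theorem c128 : mulOK m127 w6 m128 = true := by decide +kernel

theorem c129 : mulOK m128 w7 m129 = true := by decide +kernel

theorem c130 : mulOK m9 w9 m130 = true := by decide +kernel

theorem c131 : mulOK m130 w9 m131 = true := by decide +kernel

theorem c132 : mulOK m131 w9 m132 = true := by decide +kernel

theorem c133 : mulOK m132 w9 m133 = true := by decide +kernel

theorem c134 : mulOK m133 w9 m134 = true := by decide +kernel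

theorem c135 : mulOK m134 w9 m135 = true := by decide +kernel

theorem c136 : mulOK m135 w9 m136 = true := by decide +kernel

theorem c137 : mulOK m136 w9 m137 = true := by decide +kernel

theorem c138 : mulOK m137 w9 m138 = true := by decide +kernel

theorem c139 : mulOK m10 w10 m139 = true := by decide +kernel

theorem c140 : mulOK m139 w10 m140 = true := by decide +kernel

theorem c141 : mulOK m140 w10 m141 = true := by decide +kernel

theorem c142 : mulOK m141 w10 m142 = true := by decide +kernel

theorem c143 : mulOK m142 w10 m143 = true := by decide +kernel

theorem c144 : mulOK m143 w10 m144 = true := by decide +kernel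

theorem c145 : mulOK m144 w10 m145 = true := by decide +kernel

theorem c146 : mulOK m145 w10 m146 = true := by decide +kernel

theorem c147 : mulOK m11 w11 m147 = true := by decide +kernel

theorem c148 : mulOK m147 w11 m148 = true := by decide +kernel

theorem c149 : mulOK m148 w11 m149 = true := by decide +kernel

theorem c150 : mulOK m149 w11 m150 = true := by decide +kernel

theorem c151 : mulOK m150 w11 m151 = true := by decide +kernel

theorem c152 : mulOK m151 w11 m152 = true := by decide +kernel

theorem c153 : mulOK m152 w11 m153 = true := by decide +kernel

theorem c154 : mulOK m153 w11 m154 = true := by decide +kernel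

end CfsgLib.Chev.FiSeventyEight
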