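import Cfsg.Agent.Lib.Chev.Fi78Rels
import Cfsg.Agent.Lib.InvChar.SporFi22Simple

/-!
The presented Fischer group embeds in the general linear group of degree 78 over thirteen elements.
-/

set_option autoImplicit false
set_option maxRecDepth 100000

namespace CfsgLib.Chev.FiSeventyEight

open CfsgLib.InvChar

theorem coe_fGen_zero : ((fGen 0 : GL (Fin 78) (ZMod 13)) : Matrix (Fin 78) (Fin 78) (ZMod 13)) = mat m0 :=
  rfl

theorem mat_apply_eq (M : List ℕ) (a b : Fin 78) : mat M a b = ((dig (M.getD a 0) b : ℕ) : ZMod 13) := rfl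

attribute [local irreducible] fGen mat

theorem fGen_sq_gl : ∀ x, fGen x * fGen x = (1 : GL (Fin 78) (ZMod 13)) := fGen_sq

theorem all_rels_gl : ∀ r ∈ Coset.FiA.rels, Coset.wprod fGen r = (1 : GL (Fin 78) (ZMod 13)) :=
  all_rels

theorem exists_injective : ∃ f : Cfsg.Spor.Fi22 →* GL (Fin 78) (ZMod 13), Function.Injective f := by
  have hex := SporFi22.pres.exists_hom (K := GL (Fin 78) (ZMod 13)) fGen fGen_sq_gl all_rels_gl
  obtain ⟨φ, hφ⟩ := hex
  refine ⟨φ, ?_⟩
  haveI := SporFi22.isSimpleGroup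
  rw [← MonoidHom.ker_eq_bot_iff]
  refine (Subgroup.Normal.eq_bot_or_eq_top inferInstance).resolve_right fun htop => ?_
  have hg : fGen 0 = 1 := by
    rw [← hφ 0 (by norm_num)]
    exact MonoidHom.mem_ker.1 (htop ▸ Subgroup.mem_top _)
  have h : mat m0 = 1 := by
    rw [← coe_fGen_zero, hg, Units.val_one]
  have hne : ∃ a b : Fin 78, dig (m0.getD a 0) b ≠ if a = b then 1 else 0 := by decide +kernel
  obtain ⟨a, b, hab⟩ := hne
  have hd : dig (m0.getD a 0) b < 13 := by
    have := allR_upto wide0 a.isLt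
    rw [Bool.and_eq_true] at this
    have := allR_upto this.2 b.isLt
    rw [Bool.and_eq_true] at this
    exact Nat.ble_eq.mp this.2
  have e := congrArg ZMod.val (congrFun (congrFun h a) b)
  rw [mat_apply_eq, ZMod.val_natCast,
    Nat.mod_eq_of_lt hd, Matrix.one_apply] at e
  refine hab ?_
  rw [e]
  split <;> rfl

end CfsgLib.Chev.FiSeventyEight
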