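import Cfsg.Agent.Lib.Chev.Sparse
import Mathlib.LinearAlgebra.Matrix.GeneralLinearGroup.Defs

/-!
Packed matrices of size 78 over thirteen elements: rows with four bit digits, right factors with
sixteen bit digits.
-/

set_option autoImplicit false
set_option maxRecDepth 100000
set_option linter.unusedSimpArgs false

namespace CfsgLib.Chev.FiSeventyEight

open CfsgLib.Chev

/-- A digit of four bits. -/
noncomputable def dig (r k : ℕ) : ℕ := Nat.land (Nat.shiftRight r (Nat.mul 4 k)) 15

/-- A digit of sixteen bits. -/
noncomputable def wdig (w k : ℕ) : ℕ := Nat.land (Nat.shiftRight w (Nat.mul 16 k)) 65535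

/-- A row times the rows of a right factor from `k` on. -/
noncomputable def acc (r : ℕ) (W : List ℕ) : ℕ → ℕ :=
  List.rec (motive := fun _ => ℕ → ℕ) (fun _ => 0)
    (fun w _ ih k => Nat.add (Nat.mul (dig r k) w) (ih (Nat.add k 1))) W

/-- Successive digits of a sum agree with the digits of a row modulo thirteen. -/
noncomputable def redLoop (n : ℕ) : ℕ → ℕ → Bool :=
  Nat.rec (motive := fun _ => ℕ → ℕ → Bool) (fun _ _ => true)
    (fun _ ih a r => Nat.beq (Nat.mod (Nat.land a 65535) 13) (Nat.land r 15) &&
      ih (Nat.shiftRight a 16) (Nat.shiftRight r 4)) n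

/-- The rows of a product agree with a table. -/
noncomputable def mulOK (A W C : List ℕ) : Bool :=
  Nat.beq A.length 78 && Nat.beq W.length 78 && Nat.beq C.length 78 &&
    allR (fun i => redLoop 78 (acc (A.getD i 0) W 0) (C.getD i 0)) (upto 78)

/-- A right factor is the wide form of a table. -/
noncomputable def wideOK (B W : List ℕ) : Bool :=
  allR (fun k => Nat.blt (W.getD k 0) (Nat.pow 2 1248) &&
    allR (fun j => Nat.beq (wdig (W.getD k 0) j) (dig (B.getD k 0) j) &&
      Nat.blt (dig (B.getD k 0) j) 13) (upto 78)) (upto 78)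

/-- Equal tables. -/
noncomputable def sameOK (A B : List ℕ) : Bool :=
  allR (fun i => Nat.beq (A.getD i 0) (B.getD i 0)) (upto 78)

end CfsgLib.Chev.FiSeventyEight
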