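import Cfsg.Agent.Lib.Chev.Fi78Sem
import Cfsg.Agent.Lib.Chev.Fi78ChecksA
import Cfsg.Agent.Lib.Chev.Fi78ChecksB
import Cfsg.Agent.Lib.Chev.Fi78ChecksC
import Cfsg.Agent.Lib.InvChar.SporData.FiA.Data
import Cfsg.Agent.Lib.InvChar.CosetPres

/-!
The relators of the presented Fischer group hold for the matrices of size 78.
-/

set_option autoImplicit false
set_option maxRecDepth 100000

namespace CfsgLib.Chev.FiSeventyEight

open CfsgLib.InvChar.Coset

theorem mat_one : mat m12 = 1 := by
  ext a b
  have h : ∀ a b : Fin 78, dig (m12.getD a 0) b = if a = b then 1 else 0 := by decide +kernel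
  show ((dig (m12.getD a 0) b : ℕ) : ZMod 13) = _
  rw [h, Matrix.one_apply]
  split <;> simp

theorem p13 : mat m13 = mat m0 * mat m0 := (mat_mul c13 wide0).symm

theorem p14 : mat m14 = mat m1 * mat m1 := (mat_mul c14 wide1).symm

theorem p15 : mat m15 = mat m2 * mat m2 := (mat_mul c15 wide2).symm

theorem p16 : mat m16 = mat m3 * mat m3 := (mat_mul c16 wide3).symm

theorem p17 : mat m17 = mat m4 * mat m4 := (mat_mul c17 wide4).symm

theorem p18 : mat m18 = mat m5 * mat m5 := (mat_mul c18 wide5).symm

theorem p19 : mat m19 = mat m6 * mat m6 := (mat_mul c19 wide6).symm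

theorem p20 : mat m20 = mat m7 * mat m7 := (mat_mul c20 wide7).symm

theorem p21 : mat m21 = mat m8 * mat m8 := (mat_mul c21 wide8).symm

theorem p22 : mat m22 = mat m0 * mat m1 := (mat_mul c22 wide1).symm

theorem p23 : mat m23 = mat m22 * mat m0 := (mat_mul c23 wide0).symm

theorem p24 : mat m24 = mat m1 * mat m0 := (mat_mul c24 wide0).symm

theorem p25 : mat m25 = mat m24 * mat m1 := (mat_mul c25 wide1).symm

theorem p26 : mat m26 = mat m0 * mat m2 := (mat_mul c26 wide2).symm

theorem p27 : mat m27 = mat m2 * mat m0 := (mat_mul c27 wide0).symm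

theorem p28 : mat m28 = mat m0 * mat m3 := (mat_mul c28 wide3).symm

theorem p29 : mat m29 = mat m3 * mat m0 := (mat_mul c29 wide0).symm

theorem p30 : mat m30 = mat m0 * mat m4 := (mat_mul c30 wide4).symm

theorem p31 : mat m31 = mat m4 * mat m0 := (mat_mul c31 wide0).symm

theorem p32 : mat m32 = mat m0 * mat m5 := (mat_mul c32 wide5).symm

theorem p33 : mat m33 = mat m5 * mat m0 := (mat_mul c33 wide0).symm

theorem p34 : mat m34 = mat m0 * mat m6 := (mat_mul c34 wide6).symm

theorem p35 : mat m35 = mat m6 * mat m0 := (mat_mul c35 wide0).symm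

theorem p36 : mat m36 = mat m0 * mat m7 := (mat_mul c36 wide7).symm

theorem p37 : mat m37 = mat m7 * mat m0 := (mat_mul c37 wide0).symm

theorem p38 : mat m38 = mat m0 * mat m8 := (mat_mul c38 wide8).symm

theorem p39 : mat m39 = mat m8 * mat m0 := (mat_mul c39 wide0).symm

theorem p40 : mat m40 = mat m1 * mat m2 := (mat_mul c40 wide2).symm

theorem p41 : mat m41 = mat m40 * mat m1 := (mat_mul c41 wide1).symm

theorem p42 : mat m42 = mat m2 * mat m1 := (mat_mul c42 wide1).symm

theorem p43 : mat m43 = mat m42 * mat m2 := (mat_mul c43 wide2).symm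

theorem p44 : mat m44 = mat m1 * mat m3 := (mat_mul c44 wide3).symm

theorem p45 : mat m45 = mat m3 * mat m1 := (mat_mul c45 wide1).symm

theorem p46 : mat m46 = mat m1 * mat m4 := (mat_mul c46 wide4).symm

theorem p47 : mat m47 = mat m4 * mat m1 := (mat_mul c47 wide1).symm

theorem p48 : mat m48 = mat m1 * mat m5 := (mat_mul c48 wide5).symm

theorem p49 : mat m49 = mat m5 * mat m1 := (mat_mul c49 wide1).symm

theorem p50 : mat m50 = mat m1 * mat m6 := (mat_mul c50 wide6).symm

theorem p51 : mat m51 = mat m6 * mat m1 := (mat_mul c51 wide1).symm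

theorem p52 : mat m52 = mat m1 * mat m7 := (mat_mul c52 wide7).symm

theorem p53 : mat m53 = mat m7 * mat m1 := (mat_mul c53 wide1).symm

theorem p54 : mat m54 = mat m1 * mat m8 := (mat_mul c54 wide8).symm

theorem p55 : mat m55 = mat m8 * mat m1 := (mat_mul c55 wide1).symm

theorem p56 : mat m56 = mat m2 * mat m3 := (mat_mul c56 wide3).symm

theorem p57 : mat m57 = mat m56 * mat m2 := (mat_mul c57 wide2).symm

theorem p58 : mat m58 = mat m3 * mat m2 := (mat_mul c58 wide2).symm

theorem p59 : mat m59 = mat m58 * mat m3 := (mat_mul c59 wide3).symm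

theorem p60 : mat m60 = mat m2 * mat m4 := (mat_mul c60 wide4).symm

theorem p61 : mat m61 = mat m4 * mat m2 := (mat_mul c61 wide2).symm

theorem p62 : mat m62 = mat m2 * mat m5 := (mat_mul c62 wide5).symm

theorem p63 : mat m63 = mat m5 * mat m2 := (mat_mul c63 wide2).symm

theorem p64 : mat m64 = mat m2 * mat m6 := (mat_mul c64 wide6).symm

theorem p65 : mat m65 = mat m6 * mat m2 := (mat_mul c65 wide2).symm

theorem p66 : mat m66 = mat m2 * mat m7 := (mat_mul c66 wide7).symm

theorem p67 : mat m67 = mat m7 * mat m2 := (mat_mul c67 wide2).symm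

theorem p68 : mat m68 = mat m2 * mat m8 := (mat_mul c68 wide8).symm

theorem p69 : mat m69 = mat m8 * mat m2 := (mat_mul c69 wide2).symm

theorem p70 : mat m70 = mat m3 * mat m4 := (mat_mul c70 wide4).symm

theorem p71 : mat m71 = mat m70 * mat m3 := (mat_mul c71 wide3).symm

theorem p72 : mat m72 = mat m4 * mat m3 := (mat_mul c72 wide3).symm

theorem p73 : mat m73 = mat m72 * mat m4 := (mat_mul c73 wide4).symm

theorem p74 : mat m74 = mat m3 * mat m5 := (mat_mul c74 wide5).symm

theorem p75 : mat m75 = mat m5 * mat m3 := (mat_mul c75 wide3).symm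

theorem p76 : mat m76 = mat m3 * mat m6 := (mat_mul c76 wide6).symm

theorem p77 : mat m77 = mat m6 * mat m3 := (mat_mul c77 wide3).symm

theorem p78 : mat m78 = mat m3 * mat m7 := (mat_mul c78 wide7).symm

theorem p79 : mat m79 = mat m78 * mat m3 := (mat_mul c79 wide3).symm

theorem p80 : mat m80 = mat m7 * mat m3 := (mat_mul c80 wide3).symm

theorem p81 : mat m81 = mat m80 * mat m7 := (mat_mul c81 wide7).symm

theorem p82 : mat m82 = mat m3 * mat m8 := (mat_mul c82 wide8).symm

theorem p83 : mat m83 = mat m8 * mat m3 := (mat_mul c83 wide3).symm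

theorem p84 : mat m84 = mat m4 * mat m5 := (mat_mul c84 wide5).symm

theorem p85 : mat m85 = mat m84 * mat m4 := (mat_mul c85 wide4).symm

theorem p86 : mat m86 = mat m5 * mat m4 := (mat_mul c86 wide4).symm

theorem p87 : mat m87 = mat m86 * mat m5 := (mat_mul c87 wide5).symm

theorem p88 : mat m88 = mat m4 * mat m6 := (mat_mul c88 wide6).symm

theorem p89 : mat m89 = mat m6 * mat m4 := (mat_mul c89 wide4).symm

theorem p90 : mat m90 = mat m4 * mat m7 := (mat_mul c90 wide7).symm

theorem p91 : mat m91 = mat m7 * mat m4 := (mat_mul c91 wide4).symm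

theorem p92 : mat m92 = mat m4 * mat m8 := (mat_mul c92 wide8).symm

theorem p93 : mat m93 = mat m8 * mat m4 := (mat_mul c93 wide4).symm

theorem p94 : mat m94 = mat m5 * mat m6 := (mat_mul c94 wide6).symm

theorem p95 : mat m95 = mat m94 * mat m5 := (mat_mul c95 wide5).symm

theorem p96 : mat m96 = mat m6 * mat m5 := (mat_mul c96 wide5).symm

theorem p97 : mat m97 = mat m96 * mat m6 := (mat_mul c97 wide6).symm

theorem p98 : mat m98 = mat m5 * mat m7 := (mat_mul c98 wide7).symm

theorem p99 : mat m99 = mat m7 * mat m5 := (mat_mul c99 wide5).symm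

theorem p100 : mat m100 = mat m5 * mat m8 := (mat_mul c100 wide8).symm

theorem p101 : mat m101 = mat m8 * mat m5 := (mat_mul c101 wide5).symm

theorem p102 : mat m102 = mat m6 * mat m7 := (mat_mul c102 wide7).symm

theorem p103 : mat m103 = mat m7 * mat m6 := (mat_mul c103 wide6).symm

theorem p104 : mat m104 = mat m6 * mat m8 := (mat_mul c104 wide8).symm

theorem p105 : mat m105 = mat m8 * mat m6 := (mat_mul c105 wide6).symm

theorem p106 : mat m106 = mat m7 * mat m8 := (mat_mul c106 wide8).symm

theorem p107 : mat m107 = mat m106 * mat m7 := (mat_mul c107 wide7).symm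

theorem p108 : mat m108 = mat m8 * mat m7 := (mat_mul c108 wide7).symm

theorem p109 : mat m109 = mat m108 * mat m8 := (mat_mul c109 wide8).symm

theorem p110 : mat m110 = mat m3 * mat m2 := (mat_mul c110 wide2).symm

theorem p111 : mat m111 = mat m110 * mat m1 := (mat_mul c111 wide1).symm

theorem p112 : mat m112 = mat m111 * mat m3 := (mat_mul c112 wide3).symm

theorem p113 : mat m113 = mat m112 * mat m4 := (mat_mul c113 wide4).symm

theorem p114 : mat m114 = mat m113 * mat m5 := (mat_mul c114 wide5).symm

theorem p115 : mat m115 = mat m114 * mat m3 := (mat_mul c115 wide3).symm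

theorem p116 : mat m116 = mat m115 * mat m7 := (mat_mul c116 wide7).symm

theorem p117 : mat m117 = mat m116 * mat m8 := (mat_mul c117 wide8).symm

theorem p118 : mat m118 = mat m0 * mat m1 := (mat_mul c118 wide1).symm

theorem p119 : mat m119 = mat m118 * mat m2 := (mat_mul c119 wide2).symm

theorem p120 : mat m120 = mat m119 * mat m3 := (mat_mul c120 wide3).symm

theorem p121 : mat m121 = mat m120 * mat m4 := (mat_mul c121 wide4).symm

theorem p122 : mat m122 = mat m121 * mat m5 := (mat_mul c122 wide5).symm

theorem p123 : mat m123 = mat m122 * mat m7 := (mat_mul c123 wide7).symm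

theorem p124 : mat m124 = mat m1 * mat m2 := (mat_mul c124 wide2).symm

theorem p125 : mat m125 = mat m124 * mat m3 := (mat_mul c125 wide3).symm

theorem p126 : mat m126 = mat m125 * mat m4 := (mat_mul c126 wide4).symm

theorem p127 : mat m127 = mat m126 * mat m5 := (mat_mul c127 wide5).symm

theorem p128 : mat m128 = mat m127 * mat m6 := (mat_mul c128 wide6).symm

theorem p129 : mat m129 = mat m128 * mat m7 := (mat_mul c129 wide7).symm

theorem p130 : mat m130 = mat m9 * mat m9 := (mat_mul c130 wide9).symm

theorem p131 : mat m131 = mat m130 * mat m9 := (mat_mul c131 wide9).symm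

theorem p132 : mat m132 = mat m131 * mat m9 := (mat_mul c132 wide9).symm

theorem p133 : mat m133 = mat m132 * mat m9 := (mat_mul c133 wide9).symm

theorem p134 : mat m134 = mat m133 * mat m9 := (mat_mul c134 wide9).symm

theorem p135 : mat m135 = mat m134 * mat m9 := (mat_mul c135 wide9).symm

theorem p136 : mat m136 = mat m135 * mat m9 := (mat_mul c136 wide9).symm

theorem p137 : mat m137 = mat m136 * mat m9 := (mat_mul c137 wide9).symm

theorem p138 : mat m138 = mat m137 * mat m9 := (mat_mul c138 wide9).symm

theorem p139 : mat m139 = mat m10 * mat m10 := (mat_mul c139 wide10).symm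

theorem p140 : mat m140 = mat m139 * mat m10 := (mat_mul c140 wide10).symm

theorem p141 : mat m141 = mat m140 * mat m10 := (mat_mul c141 wide10).symm

theorem p142 : mat m142 = mat m141 * mat m10 := (mat_mul c142 wide10).symm

theorem p143 : mat m143 = mat m142 * mat m10 := (mat_mul c143 wide10).symm

theorem p144 : mat m144 = mat m143 * mat m10 := (mat_mul c144 wide10).symm

theorem p145 : mat m145 = mat m144 * mat m10 := (mat_mul c145 wide10).symm

theorem p146 : mat m146 = mat m145 * mat m10 := (mat_mul c146 wide10).symm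

theorem p147 : mat m147 = mat m11 * mat m11 := (mat_mul c147 wide11).symm

theorem p148 : mat m148 = mat m147 * mat m11 := (mat_mul c148 wide11).symm

theorem p149 : mat m149 = mat m148 * mat m11 := (mat_mul c149 wide11).symm

theorem p150 : mat m150 = mat m149 * mat m11 := (mat_mul c150 wide11).symm

theorem p151 : mat m151 = mat m150 * mat m11 := (mat_mul c151 wide11).symm

theorem p152 : mat m152 = mat m151 * mat m11 := (mat_mul c152 wide11).symm

theorem p153 : mat m153 = mat m152 * mat m11 := (mat_mul c153 wide11).symm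

theorem p154 : mat m154 = mat m153 * mat m11 := (mat_mul c154 wide11).symm

theorem same0 : mat m13 = mat m12 := mat_same (by decide +kernel)

theorem same1 : mat m14 = mat m12 := mat_same (by decide +kernel)

theorem same2 : mat m15 = mat m12 := mat_same (by decide +kernel)

theorem same3 : mat m16 = mat m12 := mat_same (by decide +kernel)

theorem same4 : mat m17 = mat m12 := mat_same (by decide +kernel)

theorem same5 : mat m18 = mat m12 := mat_same (by decide +kernel)

theorem same6 : mat m19 = mat m12 := mat_same (by decide +kernel)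

theorem same7 : mat m20 = mat m12 := mat_same (by decide +kernel)

theorem same8 : mat m21 = mat m12 := mat_same (by decide +kernel)

theorem same9 : mat m23 = mat m25 := mat_same (by decide +kernel)

theorem same10 : mat m26 = mat m27 := mat_same (by decide +kernel)

theorem same11 : mat m28 = mat m29 := mat_same (by decide +kernel)

theorem same12 : mat m30 = mat m31 := mat_same (by decide +kernel)

theorem same13 : mat m32 = mat m33 := mat_same (by decide +kernel)

theorem same14 : mat m34 = mat m35 := mat_same (by decide +kernel)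

theorem same15 : mat m36 = mat m37 := mat_same (by decide +kernel)

theorem same16 : mat m38 = mat m39 := mat_same (by decide +kernel)

theorem same17 : mat m41 = mat m43 := mat_same (by decide +kernel)

theorem same18 : mat m44 = mat m45 := mat_same (by decide +kernel)

theorem same19 : mat m46 = mat m47 := mat_same (by decide +kernel)

theorem same20 : mat m48 = mat m49 := mat_same (by decide +kernel)

theorem same21 : mat m50 = mat m51 := mat_same (by decide +kernel)

theorem same22 : mat m52 = mat m53 := mat_same (by decide +kernel)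

theorem same23 : mat m54 = mat m55 := mat_same (by decide +kernel)

theorem same24 : mat m57 = mat m59 := mat_same (by decide +kernel)

theorem same25 : mat m60 = mat m61 := mat_same (by decide +kernel)

theorem same26 : mat m62 = mat m63 := mat_same (by decide +kernel)

theorem same27 : mat m64 = mat m65 := mat_same (by decide +kernel)

theorem same28 : mat m66 = mat m67 := mat_same (by decide +kernel)

theorem same29 : mat m68 = mat m69 := mat_same (by decide +kernel)

theorem same30 : mat m71 = mat m73 := mat_same (by decide +kernel)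

theorem same31 : mat m74 = mat m75 := mat_same (by decide +kernel)

theorem same32 : mat m76 = mat m77 := mat_same (by decide +kernel)

theorem same33 : mat m79 = mat m81 := mat_same (by decide +kernel)

theorem same34 : mat m82 = mat m83 := mat_same (by decide +kernel)

theorem same35 : mat m85 = mat m87 := mat_same (by decide +kernel)

theorem same36 : mat m88 = mat m89 := mat_same (by decide +kernel)

theorem same37 : mat m90 = mat m91 := mat_same (by decide +kernel)

theorem same38 : mat m92 = mat m93 := mat_same (by decide +kernel)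

theorem same39 : mat m95 = mat m97 := mat_same (by decide +kernel)

theorem same40 : mat m98 = mat m99 := mat_same (by decide +kernel)

theorem same41 : mat m100 = mat m101 := mat_same (by decide +kernel)

theorem same42 : mat m102 = mat m103 := mat_same (by decide +kernel)

theorem same43 : mat m104 = mat m105 := mat_same (by decide +kernel)

theorem same44 : mat m107 = mat m109 := mat_same (by decide +kernel)

theorem same45 : mat m117 = mat m9 := mat_same (by decide +kernel)

theorem same46 : mat m123 = mat m10 := mat_same (by decide +kernel)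

theorem same47 : mat m129 = mat m11 := mat_same (by decide +kernel)

theorem same48 : mat m138 = mat m12 := mat_same (by decide +kernel)

theorem same49 : mat m146 = mat m12 := mat_same (by decide +kernel)

theorem same50 : mat m154 = mat m12 := mat_same (by decide +kernel)

theorem sq0 : mat m0 * mat m0 = 1 := by rw [← p13, same0, mat_one]

theorem sq1 : mat m1 * mat m1 = 1 := by rw [← p14, same1, mat_one]

theorem sq2 : mat m2 * mat m2 = 1 := by rw [← p15, same2, mat_one]

theorem sq3 : mat m3 * mat m3 = 1 := by rw [← p16, same3, mat_one]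

theorem sq4 : mat m4 * mat m4 = 1 := by rw [← p17, same4, mat_one]

theorem sq5 : mat m5 * mat m5 = 1 := by rw [← p18, same5, mat_one]

theorem sq6 : mat m6 * mat m6 = 1 := by rw [← p19, same6, mat_one]

theorem sq7 : mat m7 * mat m7 = 1 := by rw [← p20, same7, mat_one]

theorem sq8 : mat m8 * mat m8 = 1 := by rw [← p21, same8, mat_one]

/-- The nine invertible matrices. -/
noncomputable def fGen : ℕ → Matrix.GeneralLinearGroup (Fin 78) (ZMod 13)
  | 0 => ⟨mat m0, mat m0, sq0, sq0⟩
  | 1 => ⟨mat m1, mat m1, sq1, sq1⟩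
  | 2 => ⟨mat m2, mat m2, sq2, sq2⟩
  | 3 => ⟨mat m3, mat m3, sq3, sq3⟩
  | 4 => ⟨mat m4, mat m4, sq4, sq4⟩
  | 5 => ⟨mat m5, mat m5, sq5, sq5⟩
  | 6 => ⟨mat m6, mat m6, sq6, sq6⟩
  | 7 => ⟨mat m7, mat m7, sq7, sq7⟩
  | 8 => ⟨mat m8, mat m8, sq8, sq8⟩
  | _ => 1

theorem fGen_sq (x : ℕ) : fGen x * fGen x = 1 := by
  match x with
  | 0 => exact Units.ext sq0
  | 1 => exact Units.ext sq1
  | 2 => exact Units.ext sq2
  | 3 => exact Units.ext sq3
  | 4 => exact Units.ext sq4
  | 5 => exact Units.ext sq5
  | 6 => exact Units.ext sq6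
  | 7 => exact Units.ext sq7
  | 8 => exact Units.ext sq8
  | n + 9 => exact mul_one _

theorem braid_of_eq {G : Type*} [Group G] {x y : G} (hx : x * x = 1) (hy : y * y = 1)
    (h : x * y * x = y * x * y) : x * (y * (x * (y * (x * y)))) = 1 := by
  calc x * (y * (x * (y * (x * y)))) = (x * y * x) * (y * x * y) := by group
    _ = (x * y * x) * (x * y * x) := by rw [h]
    _ = x * (y * (x * x) * y) * x := by group
    _ = 1 := by rw [hx, mul_one, hy, mul_one, hx]

theorem comm_of_eq {G : Type*} [Group G] {x y : G} (hx : x * x = 1) (hy : y * y = 1)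
    (h : x * y = y * x) : x * (y * (x * y)) = 1 := by
  calc x * (y * (x * y)) = x * (y * x) * y := by group
    _ = 1 := by rw [← h, ← mul_assoc, hx, one_mul, hy]

theorem wprod_flatten {G : Type*} [Monoid G] (f : ℕ → G) (w : List ℕ) :
    ∀ k, wprod f (List.replicate k w).flatten = wprod f w ^ k
  | 0 => by simp [wprod]
  | k + 1 => by
    have := wprod_flatten f w k
    rw [List.replicate_succ, List.flatten_cons, wprod, List.map_append, List.prod_append, pow_succ']
    rw [wprod] at this
    rw [this]
    rfl

theorem rel0 : wprod fGen [0, 0] = 1 := by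
  simp only [wprod, List.map_cons, List.map_nil, List.prod_cons, List.prod_nil, mul_one]
  exact fGen_sq 0

theorem rel1 : wprod fGen [1, 1] = 1 := by
  simp only [wprod, List.map_cons, List.map_nil, List.prod_cons, List.prod_nil, mul_one]
  exact fGen_sq 1

theorem rel2 : wprod fGen [2, 2] = 1 := by
  simp only [wprod, List.map_cons, List.map_nil, List.prod_cons, List.prod_nil, mul_one]
  exact fGen_sq 2

theorem rel3 : wprod fGen [3, 3] = 1 := by
  simp only [wprod, List.map_cons, List.map_nil, List.prod_cons, List.prod_nil, mul_one]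
  exact fGen_sq 3

theorem rel4 : wprod fGen [4, 4] = 1 := by
  simp only [wprod, List.map_cons, List.map_nil, List.prod_cons, List.prod_nil, mul_one]
  exact fGen_sq 4

theorem rel5 : wprod fGen [5, 5] = 1 := by
  simp only [wprod, List.map_cons, List.map_nil, List.prod_cons, List.prod_nil, mul_one]
  exact fGen_sq 5

theorem rel6 : wprod fGen [6, 6] = 1 := by
  simp only [wprod, List.map_cons, List.map_nil, List.prod_cons, List.prod_nil, mul_one]
  exact fGen_sq 6

theorem rel7 : wprod fGen [7, 7] = 1 := by
  simp only [wprod, List.map_cons, List.map_nil, List.prod_cons, List.prod_nil, mul_one]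
  exact fGen_sq 7

theorem rel8 : wprod fGen [8, 8] = 1 := by
  simp only [wprod, List.map_cons, List.map_nil, List.prod_cons, List.prod_nil, mul_one]
  exact fGen_sq 8

theorem rel9 : wprod fGen [0, 1, 0, 1, 0, 1] = 1 := by
  simp only [wprod, List.map_cons, List.map_nil, List.prod_cons, List.prod_nil, mul_one]
  refine braid_of_eq (fGen_sq 0) (fGen_sq 1) (Units.ext ?_)
  simp only [Units.val_mul, fGen]
  rw [← p22, ← p23, ← p24, ← p25, same9]

theorem rel10 : wprod fGen [0, 2, 0, 2] = 1 := by
  simp only [wprod, List.map_cons, List.map_nil, List.prod_cons, List.prod_nil, mul_one]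
  refine comm_of_eq (fGen_sq 0) (fGen_sq 2) (Units.ext ?_)
  simp only [Units.val_mul, fGen]
  rw [← p26, ← p27, same10]

theorem rel11 : wprod fGen [0, 3, 0, 3] = 1 := by
  simp only [wprod, List.map_cons, List.map_nil, List.prod_cons, List.prod_nil, mul_one]
  refine comm_of_eq (fGen_sq 0) (fGen_sq 3) (Units.ext ?_)
  simp only [Units.val_mul, fGen]
  rw [← p28, ← p29, same11]

theorem rel12 : wprod fGen [0, 4, 0, 4] = 1 := by
  simp only [wprod, List.map_cons, List.map_nil, List.prod_cons, List.prod_nil, mul_one]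
  refine comm_of_eq (fGen_sq 0) (fGen_sq 4) (Units.ext ?_)
  simp only [Units.val_mul, fGen]
  rw [← p30, ← p31, same12]

theorem rel13 : wprod fGen [0, 5, 0, 5] = 1 := by
  simp only [wprod, List.map_cons, List.map_nil, List.prod_cons, List.prod_nil, mul_one]
  refine comm_of_eq (fGen_sq 0) (fGen_sq 5) (Units.ext ?_)
  simp only [Units.val_mul, fGen]
  rw [← p32, ← p33, same13]

theorem rel14 : wprod fGen [0, 6, 0, 6] = 1 := by
  simp only [wprod, List.map_cons, List.map_nil, List.prod_cons, List.prod_nil, mul_one]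
  refine comm_of_eq (fGen_sq 0) (fGen_sq 6) (Units.ext ?_)
  simp only [Units.val_mul, fGen]
  rw [← p34, ← p35, same14]

theorem rel15 : wprod fGen [0, 7, 0, 7] = 1 := by
  simp only [wprod, List.map_cons, List.map_nil, List.prod_cons, List.prod_nil, mul_one]
  refine comm_of_eq (fGen_sq 0) (fGen_sq 7) (Units.ext ?_)
  simp only [Units.val_mul, fGen]
  rw [← p36, ← p37, same15]

theorem rel16 : wprod fGen [0, 8, 0, 8] = 1 := by
  simp only [wprod, List.map_cons, List.map_nil, List.prod_cons, List.prod_nil, mul_one]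
  refine comm_of_eq (fGen_sq 0) (fGen_sq 8) (Units.ext ?_)
  simp only [Units.val_mul, fGen]
  rw [← p38, ← p39, same16]

theorem rel17 : wprod fGen [1, 2, 1, 2, 1, 2] = 1 := by
  simp only [wprod, List.map_cons, List.map_nil, List.prod_cons, List.prod_nil, mul_one]
  refine braid_of_eq (fGen_sq 1) (fGen_sq 2) (Units.ext ?_)
  simp only [Units.val_mul, fGen]
  rw [← p40, ← p41, ← p42, ← p43, same17]

theorem rel18 : wprod fGen [1, 3, 1, 3] = 1 := by
  simp only [wprod, List.map_cons, List.map_nil, List.prod_cons, List.prod_nil, mul_one]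
  refine comm_of_eq (fGen_sq 1) (fGen_sq 3) (Units.ext ?_)
  simp only [Units.val_mul, fGen]
  rw [← p44, ← p45, same18]

theorem rel19 : wprod fGen [1, 4, 1, 4] = 1 := by
  simp only [wprod, List.map_cons, List.map_nil, List.prod_cons, List.prod_nil, mul_one]
  refine comm_of_eq (fGen_sq 1) (fGen_sq 4) (Units.ext ?_)
  simp only [Units.val_mul, fGen]
  rw [← p46, ← p47, same19]

theorem rel20 : wprod fGen [1, 5, 1, 5] = 1 := by
  simp only [wprod, List.map_cons, List.map_nil, List.prod_cons, List.prod_nil, mul_one]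
  refine comm_of_eq (fGen_sq 1) (fGen_sq 5) (Units.ext ?_)
  simp only [Units.val_mul, fGen]
  rw [← p48, ← p49, same20]

theorem rel21 : wprod fGen [1, 6, 1, 6] = 1 := by
  simp only [wprod, List.map_cons, List.map_nil, List.prod_cons, List.prod_nil, mul_one]
  refine comm_of_eq (fGen_sq 1) (fGen_sq 6) (Units.ext ?_)
  simp only [Units.val_mul, fGen]
  rw [← p50, ← p51, same21]

theorem rel22 : wprod fGen [1, 7, 1, 7] = 1 := by
  simp only [wprod, List.map_cons, List.map_nil, List.prod_cons, List.prod_nil, mul_one]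
  refine comm_of_eq (fGen_sq 1) (fGen_sq 7) (Units.ext ?_)
  simp only [Units.val_mul, fGen]
  rw [← p52, ← p53, same22]

theorem rel23 : wprod fGen [1, 8, 1, 8] = 1 := by
  simp only [wprod, List.map_cons, List.map_nil, List.prod_cons, List.prod_nil, mul_one]
  refine comm_of_eq (fGen_sq 1) (fGen_sq 8) (Units.ext ?_)
  simp only [Units.val_mul, fGen]
  rw [← p54, ← p55, same23]

theorem rel24 : wprod fGen [2, 3, 2, 3, 2, 3] = 1 := by
  simp only [wprod, List.map_cons, List.map_nil, List.prod_cons, List.prod_nil, mul_one]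
  refine braid_of_eq (fGen_sq 2) (fGen_sq 3) (Units.ext ?_)
  simp only [Units.val_mul, fGen]
  rw [← p56, ← p57, ← p58, ← p59, same24]

theorem rel25 : wprod fGen [2, 4, 2, 4] = 1 := by
  simp only [wprod, List.map_cons, List.map_nil, List.prod_cons, List.prod_nil, mul_one]
  refine comm_of_eq (fGen_sq 2) (fGen_sq 4) (Units.ext ?_)
  simp only [Units.val_mul, fGen]
  rw [← p60, ← p61, same25]

theorem rel26 : wprod fGen [2, 5, 2, 5] = 1 := by
  simp only [wprod, List.map_cons, List.map_nil, List.prod_cons, List.prod_nil, mul_one]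
  refine comm_of_eq (fGen_sq 2) (fGen_sq 5) (Units.ext ?_)
  simp only [Units.val_mul, fGen]
  rw [← p62, ← p63, same26]

theorem rel27 : wprod fGen [2, 6, 2, 6] = 1 := by
  simp only [wprod, List.map_cons, List.map_nil, List.prod_cons, List.prod_nil, mul_one]
  refine comm_of_eq (fGen_sq 2) (fGen_sq 6) (Units.ext ?_)
  simp only [Units.val_mul, fGen]
  rw [← p64, ← p65, same27]

theorem rel28 : wprod fGen [2, 7, 2, 7] = 1 := by
  simp only [wprod, List.map_cons, List.map_nil, List.prod_cons, List.prod_nil, mul_one]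
  refine comm_of_eq (fGen_sq 2) (fGen_sq 7) (Units.ext ?_)
  simp only [Units.val_mul, fGen]
  rw [← p66, ← p67, same28]

theorem rel29 : wprod fGen [2, 8, 2, 8] = 1 := by
  simp only [wprod, List.map_cons, List.map_nil, List.prod_cons, List.prod_nil, mul_one]
  refine comm_of_eq (fGen_sq 2) (fGen_sq 8) (Units.ext ?_)
  simp only [Units.val_mul, fGen]
  rw [← p68, ← p69, same29]

theorem rel30 : wprod fGen [3, 4, 3, 4, 3, 4] = 1 := by
  simp only [wprod, List.map_cons, List.map_nil, List.prod_cons, List.prod_nil, mul_one]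
  refine braid_of_eq (fGen_sq 3) (fGen_sq 4) (Units.ext ?_)
  simp only [Units.val_mul, fGen]
  rw [← p70, ← p71, ← p72, ← p73, same30]

theorem rel31 : wprod fGen [3, 5, 3, 5] = 1 := by
  simp only [wprod, List.map_cons, List.map_nil, List.prod_cons, List.prod_nil, mul_one]
  refine comm_of_eq (fGen_sq 3) (fGen_sq 5) (Units.ext ?_)
  simp only [Units.val_mul, fGen]
  rw [← p74, ← p75, same31]

theorem rel32 : wprod fGen [3, 6, 3, 6] = 1 := by
  simp only [wprod, List.map_cons, List.map_nil, List.prod_cons, List.prod_nil, mul_one]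
  refine comm_of_eq (fGen_sq 3) (fGen_sq 6) (Units.ext ?_)
  simp only [Units.val_mul, fGen]
  rw [← p76, ← p77, same32]

theorem rel33 : wprod fGen [3, 7, 3, 7, 3, 7] = 1 := by
  simp only [wprod, List.map_cons, List.map_nil, List.prod_cons, List.prod_nil, mul_one]
  refine braid_of_eq (fGen_sq 3) (fGen_sq 7) (Units.ext ?_)
  simp only [Units.val_mul, fGen]
  rw [← p78, ← p79, ← p80, ← p81, same33]

theorem rel34 : wprod fGen [3, 8, 3, 8] = 1 := by
  simp only [wprod, List.map_cons, List.map_nil, List.prod_cons, List.prod_nil, mul_one]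
  refine comm_of_eq (fGen_sq 3) (fGen_sq 8) (Units.ext ?_)
  simp only [Units.val_mul, fGen]
  rw [← p82, ← p83, same34]

theorem rel35 : wprod fGen [4, 5, 4, 5, 4, 5] = 1 := by
  simp only [wprod, List.map_cons, List.map_nil, List.prod_cons, List.prod_nil, mul_one]
  refine braid_of_eq (fGen_sq 4) (fGen_sq 5) (Units.ext ?_)
  simp only [Units.val_mul, fGen]
  rw [← p84, ← p85, ← p86, ← p87, same35]

theorem rel36 : wprod fGen [4, 6, 4, 6] = 1 := by
  simp only [wprod, List.map_cons, List.map_nil, List.prod_cons, List.prod_nil, mul_one]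
  refine comm_of_eq (fGen_sq 4) (fGen_sq 6) (Units.ext ?_)
  simp only [Units.val_mul, fGen]
  rw [← p88, ← p89, same36]

theorem rel37 : wprod fGen [4, 7, 4, 7] = 1 := by
  simp only [wprod, List.map_cons, List.map_nil, List.prod_cons, List.prod_nil, mul_one]
  refine comm_of_eq (fGen_sq 4) (fGen_sq 7) (Units.ext ?_)
  simp only [Units.val_mul, fGen]
  rw [← p90, ← p91, same37]

theorem rel38 : wprod fGen [4, 8, 4, 8] = 1 := by
  simp only [wprod, List.map_cons, List.map_nil, List.prod_cons, List.prod_nil, mul_one]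
  refine comm_of_eq (fGen_sq 4) (fGen_sq 8) (Units.ext ?_)
  simp only [Units.val_mul, fGen]
  rw [← p92, ← p93, same38]

theorem rel39 : wprod fGen [5, 6, 5, 6, 5, 6] = 1 := by
  simp only [wprod, List.map_cons, List.map_nil, List.prod_cons, List.prod_nil, mul_one]
  refine braid_of_eq (fGen_sq 5) (fGen_sq 6) (Units.ext ?_)
  simp only [Units.val_mul, fGen]
  rw [← p94, ← p95, ← p96, ← p97, same39]

theorem rel40 : wprod fGen [5, 7, 5, 7] = 1 := by
  simp only [wprod, List.map_cons, List.map_nil, List.prod_cons, List.prod_nil, mul_one]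
  refine comm_of_eq (fGen_sq 5) (fGen_sq 7) (Units.ext ?_)
  simp only [Units.val_mul, fGen]
  rw [← p98, ← p99, same40]

theorem rel41 : wprod fGen [5, 8, 5, 8] = 1 := by
  simp only [wprod, List.map_cons, List.map_nil, List.prod_cons, List.prod_nil, mul_one]
  refine comm_of_eq (fGen_sq 5) (fGen_sq 8) (Units.ext ?_)
  simp only [Units.val_mul, fGen]
  rw [← p100, ← p101, same41]

theorem rel42 : wprod fGen [6, 7, 6, 7] = 1 := by
  simp only [wprod, List.map_cons, List.map_nil, List.prod_cons, List.prod_nil, mul_one]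
  refine comm_of_eq (fGen_sq 6) (fGen_sq 7) (Units.ext ?_)
  simp only [Units.val_mul, fGen]
  rw [← p102, ← p103, same42]

theorem rel43 : wprod fGen [6, 8, 6, 8] = 1 := by
  simp only [wprod, List.map_cons, List.map_nil, List.prod_cons, List.prod_nil, mul_one]
  refine comm_of_eq (fGen_sq 6) (fGen_sq 8) (Units.ext ?_)
  simp only [Units.val_mul, fGen]
  rw [← p104, ← p105, same43]

theorem rel44 : wprod fGen [7, 8, 7, 8, 7, 8] = 1 := by
  simp only [wprod, List.map_cons, List.map_nil, List.prod_cons, List.prod_nil, mul_one]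
  refine braid_of_eq (fGen_sq 7) (fGen_sq 8) (Units.ext ?_)
  simp only [Units.val_mul, fGen]
  rw [← p106, ← p107, ← p108, ← p109, same44]

theorem rel45 : wprod fGen (List.replicate 10 [3, 2, 1, 3, 4, 5, 3, 7, 8]).flatten = 1 := by
  rw [wprod_flatten]
  refine Units.ext ?_
  have hw : ((wprod fGen [3, 2, 1, 3, 4, 5, 3, 7, 8] : Matrix.GeneralLinearGroup (Fin 78) (ZMod 13)) :
      Matrix (Fin 78) (Fin 78) (ZMod 13)) = mat m9 := by
    simp only [wprod, List.map_cons, List.map_nil, List.prod_cons, List.prod_nil, mul_one,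
      Units.val_mul, fGen, ← mul_assoc]
    rw [← p110, ← p111, ← p112, ← p113, ← p114, ← p115, ← p116, ← p117, same45]
  rw [Units.val_pow_eq_pow_val, hw, Units.val_one, ← mat_one, ← same48]
  simp only [pow_succ, pow_zero, one_mul]
  rw [← p130, ← p131, ← p132, ← p133, ← p134, ← p135, ← p136, ← p137, ← p138]

theorem rel46 : wprod fGen (List.replicate 9 [0, 1, 2, 3, 4, 5, 7]).flatten = 1 := by
  rw [wprod_flatten]
  refine Units.ext ?_
  have hw : ((wprod fGen [0, 1, 2, 3, 4, 5, 7] : Matrix.GeneralLinearGroup (Fin 78) (ZMod 13)) :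
      Matrix (Fin 78) (Fin 78) (ZMod 13)) = mat m10 := by
    simp only [wprod, List.map_cons, List.map_nil, List.prod_cons, List.prod_nil, mul_one,
      Units.val_mul, fGen, ← mul_assoc]
    rw [← p118, ← p119, ← p120, ← p121, ← p122, ← p123, same46]
  rw [Units.val_pow_eq_pow_val, hw, Units.val_one, ← mat_one, ← same49]
  simp only [pow_succ, pow_zero, one_mul]
  rw [← p139, ← p140, ← p141, ← p142, ← p143, ← p144, ← p145, ← p146]

theorem rel47 : wprod fGen (List.replicate 9 [1, 2, 3, 4, 5, 6, 7]).flatten = 1 := by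
  rw [wprod_flatten]
  refine Units.ext ?_
  have hw : ((wprod fGen [1, 2, 3, 4, 5, 6, 7] : Matrix.GeneralLinearGroup (Fin 78) (ZMod 13)) :
      Matrix (Fin 78) (Fin 78) (ZMod 13)) = mat m11 := by
    simp only [wprod, List.map_cons, List.map_nil, List.prod_cons, List.prod_nil, mul_one,
      Units.val_mul, fGen, ← mul_assoc]
    rw [← p124, ← p125, ← p126, ← p127, ← p128, ← p129, same47]
  rw [Units.val_pow_eq_pow_val, hw, Units.val_one, ← mat_one, ← same50]
  simp only [pow_succ, pow_zero, one_mul]
  rw [← p147, ← p148, ← p149, ← p150, ← p151, ← p152, ← p153, ← p154]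

theorem all_rels : ∀ r ∈ FiA.rels, wprod fGen r = 1 := by
  intro r hr
  simp only [FiA.rels, List.mem_cons, List.not_mem_nil, or_false] at hr
  rcases hr with rfl | rfl | rfl | rfl | rfl | rfl | rfl | rfl | rfl | rfl | rfl | rfl | rfl | rfl | rfl | rfl | rfl | rfl | rfl | rfl | rfl | rfl | rfl | rfl | rfl | rfl | rfl | rfl | rfl | rfl | rfl | rfl | rfl | rfl | rfl | rfl | rfl | rfl | rfl | rfl | rfl | rfl | rfl | rfl | rfl | rfl | rfl | rfl
  exacts [rel0, rel1, rel2, rel3, rel4, rel5, rel6, rel7, rel8, rel9, rel10, rel11, rel12, rel13, rel14, rel15, rel16, rel17, rel18, rel19, rel20, rel21, rel22, rel23, rel24, rel25, rel26, rel27, rel28, rel29, rel30, rel31, rel32, rel33, rel34, rel35, rel36, rel37, rel38, rel39, rel40, rel41, rel42, rel43, rel44, rel45, rel46, rel47]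

end CfsgLib.Chev.FiSeventyEight
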