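import Cfsg.Agent.Lib.Chev.Fi78Mat
import Mathlib

/-!
The value of the packed matrices of size 78 over thirteen elements.
-/

set_option autoImplicit false
set_option maxRecDepth 100000
set_option linter.unusedSimpArgs false

namespace CfsgLib.Chev.FiSeventyEight

open CfsgLib.Chev Finset

lemma dig_eq (r k : ℕ) : dig r k = r / 16 ^ k % 16 := by
  show (r >>> (4 * k)) &&& (2 ^ 4 - 1) = _
  rw [Nat.and_two_pow_sub_one_eq_mod, Nat.shiftRight_eq_div_pow, pow_mul]
  norm_num

lemma wdig_eq (w k : ℕ) : wdig w k = w / 65536 ^ k % 65536 := by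
  show (w >>> (16 * k)) &&& (2 ^ 16 - 1) = _
  rw [Nat.and_two_pow_sub_one_eq_mod, Nat.shiftRight_eq_div_pow, pow_mul]
  norm_num

lemma digit_sum (B : ℕ) : ∀ (i n : ℕ) (S : ℕ → ℕ), (∀ j, S j < B) → i < n →
    (∑ j ∈ range n, S j * B ^ j) / B ^ i % B = S i
  | i, 0, _, _, h => absurd h (Nat.not_lt_zero i)
  | 0, n + 1, S, hS, _ => by
    rw [sum_range_succ', pow_zero, Nat.div_one, mul_one,
      show ∑ j ∈ range n, S (j + 1) * B ^ (j + 1) = (∑ j ∈ range n, S (j + 1) * B ^ j) * B by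
        rw [sum_mul]; exact sum_congr rfl fun j _ => by ring,
      add_comm, Nat.add_mul_mod_self_right, Nat.mod_eq_of_lt (hS 0)]
  | i + 1, n + 1, S, hS, h => by
    have hB : 0 < B := Nat.lt_of_le_of_lt (Nat.zero_le _) (hS 0)
    rw [sum_range_succ', pow_zero, mul_one,
      show ∑ j ∈ range n, S (j + 1) * B ^ (j + 1) = (∑ j ∈ range n, S (j + 1) * B ^ j) * B by
        rw [sum_mul]; exact sum_congr rfl fun j _ => by ring,
      pow_succ', ← Nat.div_div_eq_div_mul, add_comm, Nat.add_mul_div_right _ _ hB,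
      Nat.div_eq_of_lt (hS 0), zero_add]
    exact digit_sum B i n (fun j => S (j + 1)) (fun j => hS _) (Nat.lt_of_succ_lt_succ h)

lemma expand (B : ℕ) : ∀ (n w : ℕ), ∑ j ∈ range n, w / B ^ j % B * B ^ j = w % B ^ n
  | 0, w => by simp [Nat.mod_one]
  | n + 1, w => by rw [sum_range_succ, expand B n w, Nat.mod_pow_succ]; ring

lemma acc_eq (r : ℕ) : ∀ (W : List ℕ) (k : ℕ),
    acc r W k = ∑ i ∈ range W.length, dig r (k + i) * W.getD i 0
  | [], k => by simp [acc]
  | w :: W, k => by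
    show dig r k * w + acc r W (k + 1) = _
    rw [acc_eq r W (k + 1), List.length_cons, sum_range_succ', add_comm]
    simp [add_assoc, add_comm 1]

lemma redLoop_spec : ∀ (n a r : ℕ), redLoop n a r = true →
    ∀ j < n, a / 65536 ^ j % 65536 % 13 = r / 16 ^ j % 16
  | 0, _, _, _, j, hj => absurd hj (Nat.not_lt_zero j)
  | n + 1, a, r, h, j, hj => by
    have h' : (Nat.beq ((a &&& (2 ^ 16 - 1)) % 13) (r &&& (2 ^ 4 - 1)) &&
        redLoop n (a >>> 16) (r >>> 4)) = true := h
    rw [Bool.and_eq_true] at h'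
    rcases j with _ | j
    · have e := Nat.eq_of_beq_eq_true h'.1
      rw [Nat.and_two_pow_sub_one_eq_mod, Nat.and_two_pow_sub_one_eq_mod] at e
      simpa using e
    · have e := redLoop_spec n _ _ h'.2 j (Nat.lt_of_succ_lt_succ hj)
      rw [Nat.shiftRight_eq_div_pow, Nat.shiftRight_eq_div_pow, Nat.div_div_eq_div_mul,
        Nat.div_div_eq_div_mul] at e
      rw [pow_succ' 65536 j, pow_succ' 16 j]
      exact e

/-- The matrix of a table. -/
noncomputable def mat (M : List ℕ) : Matrix (Fin 78) (Fin 78) (ZMod 13) :=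
  Matrix.of fun a b => ((dig (M.getD a 0) b : ℕ) : ZMod 13)

lemma dig_lt (r k : ℕ) : dig r k < 16 := by rw [dig_eq]; exact Nat.mod_lt _ (by norm_num)

theorem mat_mul {A B W C : List ℕ} (h : mulOK A W C = true) (hw : wideOK B W = true) :
    mat A * mat B = mat C := by
  simp only [mulOK, Bool.and_eq_true] at h
  have hW : W.length = 78 := Nat.eq_of_beq_eq_true h.1.1.2
  ext a b
  have hrow := redLoop_spec 78 _ _ (allR_upto h.2 a.isLt) b.val b.isLt
  rw [acc_eq, hW, ← dig_eq] at hrow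
  simp only [zero_add] at hrow
  have hwk : ∀ k < 78, W.getD k 0 = ∑ j ∈ range 78, dig (B.getD k 0) j * 65536 ^ j ∧
      ∀ j < 78, dig (B.getD k 0) j < 13 := by
    intro k hk
    have h1 := allR_upto hw hk
    rw [Bool.and_eq_true] at h1
    have h2 : ∀ j < 78, wdig (W.getD k 0) j = dig (B.getD k 0) j ∧ dig (B.getD k 0) j < 13 := by
      intro j hj
      have h3 := allR_upto h1.2 hj
      rw [Bool.and_eq_true] at h3
      exact ⟨Nat.eq_of_beq_eq_true h3.1, Nat.ble_eq.mp h3.2⟩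
    refine ⟨?_, fun j hj => (h2 j hj).2⟩
    have hlt : W.getD k 0 < 65536 ^ 78 := by
      rw [show (65536 : ℕ) ^ 78 = 2 ^ 1248 by rw [show (65536 : ℕ) = 2 ^ 16 by norm_num, ← pow_mul]]
      exact Nat.ble_eq.mp h1.1
    conv_lhs => rw [← Nat.mod_eq_of_lt hlt, ← expand]
    exact sum_congr rfl fun j hj => by rw [← wdig_eq, (h2 j (mem_range.1 hj)).1]
  set S : ℕ → ℕ := fun j =>
    if j < 78 then ∑ i ∈ range 78, dig (A.getD a 0) i * dig (B.getD i 0) j else 0
  have hS : ∀ j, S j < 65536 := by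
    intro j
    by_cases hj : j < 78
    · simp only [S, if_pos hj]
      calc ∑ i ∈ range 78, dig (A.getD a 0) i * dig (B.getD i 0) j
          ≤ ∑ _i ∈ range 78, 16 * 13 := sum_le_sum fun i hi =>
            Nat.mul_le_mul (dig_lt _ _).le ((hwk i (mem_range.1 hi)).2 j hj).le
        _ < 65536 := by simp
    · simp [S, hj]
  have hsum : ∑ i ∈ range 78, dig (A.getD a 0) i * W.getD i 0 =
      ∑ j ∈ range 78, S j * 65536 ^ j := by
    rw [sum_congr rfl fun i hi => by rw [(hwk i (mem_range.1 hi)).1, mul_sum], sum_comm]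
    refine sum_congr rfl fun j hj => ?_
    simp only [S, if_pos (mem_range.1 hj), sum_mul, mul_assoc]
  rw [hsum, digit_sum 65536 b.val 78 S hS b.isLt] at hrow
  simp only [S, if_pos b.isLt] at hrow
  rw [Matrix.mul_apply]
  show ∑ i : Fin 78, ((dig (A.getD a 0) i : ℕ) : ZMod 13) * ((dig (B.getD i 0) b : ℕ) : ZMod 13) =
    ((dig (C.getD a 0) b : ℕ) : ZMod 13)
  rw [← hrow, ZMod.natCast_mod, Nat.cast_sum,
    Fin.sum_univ_eq_sum_range (fun i => ((dig (A.getD a 0) i : ℕ) : ZMod 13) *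
      ((dig (B.getD i 0) b : ℕ) : ZMod 13)) 78]
  exact sum_congr rfl fun i _ => by rw [Nat.cast_mul]

theorem mat_same {A B : List ℕ} (h : sameOK A B = true) : mat A = mat B := by
  ext a b
  show ((dig (A.getD a 0) b : ℕ) : ZMod 13) = ((dig (B.getD a 0) b : ℕ) : ZMod 13)
  rw [Nat.eq_of_beq_eq_true (allR_upto h a.isLt)]

end CfsgLib.Chev.FiSeventyEight
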