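import Mathlib
import Cfsg.Agent.Lib.Chev.SL2Hom
import Cfsg.Agent.Lib.Chev.Bruhat
import Cfsg.Agent.Lib.Chev.OrderTables

/-!
G₂(q), q odd: the two commuting rank-one subgroups of the roots `11` (long) and `7` (short, orthogonal to it),
their product `Φ : SL₂ × SL₂ → G₂`, and its kernel.
-/

set_option autoImplicit false
set_option linter.unusedSectionVars false
set_option maxRecDepth 100000

namespace CfsgLib.Chev.G2Invol

open Cfsg.Lie

variable {F : Type*} [Field F]

/-- Two by two Cayley-Hamilton. -/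
theorem cayley (M : Matrix (Fin 2) (Fin 2) F) :
    M * M = (M 0 0 + M 1 1) • M - M.det • (1 : Matrix (Fin 2) (Fin 2) F) := by
  rw [Matrix.det_fin_two]
  ext i j
  fin_cases i <;> fin_cases j <;>
    simp [Matrix.mul_apply, Fin.sum_univ_two] <;> ring

theorem hc : HasComm chevG2 := hasComm_of_mem (by simp)

theorem long_lt : 11 < chevG2.nroots := by decide
theorem short_lt : 7 < chevG2.nroots := by decide
theorem mid_lt : 10 < chevG2.nroots := by decide

/-- The rank-one homomorphism of the long root `11`. -/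
noncomputable def phiA : Matrix.SpecialLinearGroup (Fin 2) F →* GL chevG2.Idx F :=
  (goodG2.exists_rootHom (F := F) long_lt).choose

/-- The rank-one homomorphism of the short root `7`. -/
noncomputable def phiB : Matrix.SpecialLinearGroup (Fin 2) F →* GL chevG2.Idx F :=
  (goodG2.exists_rootHom (F := F) short_lt).choose

theorem phiA_U (t : F) : phiA (slU t) = goodG2.xG 11 t :=
  (goodG2.exists_rootHom (F := F) long_lt).choose_spec.1 t

theorem phiA_L (t : F) : phiA (slL t) = goodG2.xG 0 t :=
  (goodG2.exists_rootHom (F := F) long_lt).choose_spec.2.1 t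

theorem phiA_D (t : Fˣ) : phiA (slD t) = goodG2.hG 11 t :=
  (goodG2.exists_rootHom (F := F) long_lt).choose_spec.2.2 t

theorem phiB_U (t : F) : phiB (slU t) = goodG2.xG 7 t :=
  (goodG2.exists_rootHom (F := F) short_lt).choose_spec.1 t

theorem phiB_L (t : F) : phiB (slL t) = goodG2.xG 4 t :=
  (goodG2.exists_rootHom (F := F) short_lt).choose_spec.2.1 t

theorem phiB_D (t : Fˣ) : phiB (slD t) = goodG2.hG 7 t :=
  (goodG2.exists_rootHom (F := F) short_lt).choose_spec.2.2 t

/-- The root elements of `{11, 0}` commute with those of `{7, 4}`. -/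
theorem xG_comm {r s : ℕ} (hr : r = 11 ∨ r = 0) (hs : s = 7 ∨ s = 4) (t u : F) :
    Commute (goodG2.xG r t) (goodG2.xG s u) := by
  have key : chevG2.commTerms s r = [] ∧ r ≠ chevG2.neg s ∧ r < chevG2.nroots ∧ s < chevG2.nroots ∧ r ≠ s := by
    rcases hr with rfl | rfl <;> rcases hs with rfl | rfl <;> decide +kernel
  obtain ⟨h0, h1, h2, h3, h4⟩ := key
  have h := goodG2.xG_conj hc h2 h3 h4 h1 t u
  rw [h0, List.map_nil, List.prod_nil, mul_one, mul_inv_eq_iff_eq_mul] at h
  exact h.symm

theorem phi_commute (A B : Matrix.SpecialLinearGroup (Fin 2) F) : Commute (phiA A) (phiB B) := by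
  have hB : ∀ x : GL chevG2.Idx F, (∀ t, Commute x (goodG2.xG 7 t)) → (∀ t, Commute x (goodG2.xG 4 t)) →
      Commute x (phiB B) := by
    intro x h7 h4
    have hB' : B ∈ Subgroup.closure (Set.range (slU (F := F)) ∪ Set.range slL) := by
      rw [closure_slU_slL]; exact Subgroup.mem_top _
    induction hB' using Subgroup.closure_induction with
    | mem y hy =>
      rcases hy with ⟨t, rfl⟩ | ⟨t, rfl⟩
      · rw [phiB_U]; exact h7 t
      · rw [phiB_L]; exact h4 t
    | one => rw [map_one]; exact Commute.one_right x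
    | mul y z _ _ hy hz => rw [map_mul]; exact hy.mul_right hz
    | inv y _ hy => rw [map_inv]; exact hy.inv_right
  have hA : A ∈ Subgroup.closure (Set.range (slU (F := F)) ∪ Set.range slL) := by
    rw [closure_slU_slL]; exact Subgroup.mem_top _
  induction hA using Subgroup.closure_induction with
  | mem y hy =>
    rcases hy with ⟨t, rfl⟩ | ⟨t, rfl⟩
    · rw [phiA_U]
      exact hB _ (fun u => xG_comm (Or.inl rfl) (Or.inl rfl) t u) fun u => xG_comm (Or.inl rfl) (Or.inr rfl) t u
    · rw [phiA_L]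
      exact hB _ (fun u => xG_comm (Or.inr rfl) (Or.inl rfl) t u) fun u => xG_comm (Or.inr rfl) (Or.inr rfl) t u
  | one => rw [map_one]; exact Commute.one_left _
  | mul y z _ _ hy hz => rw [map_mul]; exact hy.mul_left hz
  | inv y _ hy => rw [map_inv]; exact hy.inv_left

/-- The product of the two rank-one homomorphisms. -/
noncomputable def Phi :
    Matrix.SpecialLinearGroup (Fin 2) F × Matrix.SpecialLinearGroup (Fin 2) F →* GL chevG2.Idx F :=
  phiA.noncommCoprod phiB phi_commute

theorem Phi_mk (A B : Matrix.SpecialLinearGroup (Fin 2) F) : Phi (A, B) = phiA A * phiB B := rfl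

theorem phi_mem_group (A : Matrix.SpecialLinearGroup (Fin 2) F) :
    phiA A ∈ chevG2.group F ∧ phiB A ∈ chevG2.group F := by
  have hA : A ∈ Subgroup.closure (Set.range (slU (F := F)) ∪ Set.range slL) := by
    rw [closure_slU_slL]; exact Subgroup.mem_top _
  induction hA using Subgroup.closure_induction with
  | mem y hy =>
    rcases hy with ⟨t, rfl⟩ | ⟨t, rfl⟩
    · rw [phiA_U, phiB_U]
      exact ⟨goodG2.xG_mem_group long_lt t, goodG2.xG_mem_group short_lt t⟩
    · rw [phiA_L, phiB_L]
      exact ⟨goodG2.xG_mem_group (by decide) t, goodG2.xG_mem_group (by decide) t⟩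
  | one => simp only [map_one]; exact ⟨one_mem _, one_mem _⟩
  | mul y z _ _ hy hz => simp only [map_mul]; exact ⟨mul_mem hy.1 hz.1, mul_mem hy.2 hz.2⟩
  | inv y _ hy => simp only [map_inv]; exact ⟨inv_mem hy.1, inv_mem hy.2⟩

theorem Phi_mem_group (p : Matrix.SpecialLinearGroup (Fin 2) F × Matrix.SpecialLinearGroup (Fin 2) F) :
    Phi p ∈ chevG2.group F :=
  mul_mem (phi_mem_group p.1).1 (phi_mem_group p.2).2

theorem slW_eq : (slW : Matrix.SpecialLinearGroup (Fin 2) F) = slU 1 * slL (-1) * slU 1 := by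
  refine Subtype.ext ?_
  simp only [Matrix.SpecialLinearGroup.coe_mul]
  ext i j
  fin_cases i <;> fin_cases j <;> simp [slW, slU, slL, Matrix.mul_apply, Fin.sum_univ_two]

/-- A rank-one homomorphism of `G₂` with a root of odd pairing is injective. -/
theorem inj_of_rootHom {r s : ℕ} (hr : r < chevG2.nroots) (hrp : half chevG2 ≤ r) (hs : s < chevG2.nroots)
    (hodd : pair chevG2 r r = 2 ∧ (pair chevG2 r s = 1 ∨ pair chevG2 r s = 3))
    (φ : Matrix.SpecialLinearGroup (Fin 2) F →* GL chevG2.Idx F) (hU : ∀ t, φ (slU t) = goodG2.xG r t)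
    (hL : ∀ t, φ (slL t) = goodG2.xG (chevG2.neg r) t) (hD : ∀ t, φ (slD t) = goodG2.hG r t)
    {A : Matrix.SpecialLinearGroup (Fin 2) F} (hA : φ A = 1) : A = 1 := by
  have hpos := (goodG2.isPosRoot_iff r).2 ⟨hrp, hr⟩
  have hUB : ∀ t, φ (slU t) ∈ chevG2.borelSubgroup F := fun t => by
    rw [hU]; exact Subgroup.mem_sup_left (goodG2.xG_mem_posUnipotent hpos t)
  have hDB : ∀ t, φ (slD t) ∈ chevG2.borelSubgroup F := fun t => by
    rw [hD]; exact Subgroup.mem_sup_right (goodG2.hG_mem hr t)
  let R : SL2Rel (G := Matrix.SpecialLinearGroup (Fin 2) F ⧸ (⊤ : Subgroup _))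
      (fun _ : F => 1) (fun _ => 1) 1 1 :=
    ⟨by simp, by simp, by simp, by simp, by simp, by simp⟩
  rcases R.normal_form A with ⟨a, β, rfl⟩ | ⟨α, c, β, rfl⟩
  · rw [map_mul, hD, hU] at hA
    have h1 : goodG2.xG r β ∈ chevG2.posUnipotent F ⊓ chevG2.diagonalSubgroup F :=
      Subgroup.mem_inf.2 ⟨goodG2.xG_mem_posUnipotent hpos β, by
        rw [eq_inv_of_mul_eq_one_right hA]; exact inv_mem (goodG2.hG_mem hr a)⟩
    rw [goodG2.pos_inf_diagonal, Subgroup.mem_bot] at h1
    have hβ : β = 0 := (goodG2.x_eq_one_iff hr β).1 (congrArg Units.val h1)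
    rw [h1, mul_one] at hA
    have hact : ∀ u, u < chevG2.nroots → (a ^ pair chevG2 r u : Fˣ) = 1 := fun u hu => by
      have h := goodG2.hG_conj_xG (r := r) hu a (1 : F)
      rw [hA, one_mul, inv_one, mul_one, mul_one] at h
      by_contra hne
      have h2 : goodG2.xG u (((a ^ pair chevG2 r u : Fˣ) : F) - 1) = 1 := by
        rw [sub_eq_add_neg, ← goodG2.xG_add, ← goodG2.xG_inv, ← h, mul_inv_cancel]
      exact hne (Units.ext (sub_eq_zero.1 ((goodG2.x_eq_one_iff hu _).1 (congrArg Units.val h2))))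
    have h2 := hact r hr
    rw [hodd.1, zpow_two] at h2
    have ha : a = 1 := by
      rcases hodd.2 with h | h
      · have := hact s hs
        rwa [h, zpow_one] at this
      · have := hact s hs
        rw [h, show (3 : ℤ) = 2 + 1 from rfl, _root_.zpow_add, zpow_two, h2, one_mul, zpow_one] at this
        exact this
    subst ha hβ
    refine Subtype.ext ?_
    rw [Matrix.SpecialLinearGroup.coe_mul]
    ext i j
    fin_cases i <;> fin_cases j <;> simp [slD, slU, Matrix.mul_apply, Fin.sum_univ_two]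
  · exfalso
    have hW : φ slW ∈ chevG2.borelSubgroup F := by
      have e : φ slW = (φ (slU α) * φ (slD c))⁻¹ * (φ (slU β))⁻¹ := by
        have h : φ (slU α) * φ (slD c) * φ slW * φ (slU β) = 1 := by
          rw [← map_mul, ← map_mul, ← map_mul, hA]
        calc φ slW = (φ (slU α) * φ (slD c))⁻¹ * (φ (slU α) * φ (slD c) * φ slW * φ (slU β)) *
            (φ (slU β))⁻¹ := by group
          _ = _ := by rw [h, mul_one]
      rw [e]
      exact mul_mem (inv_mem (mul_mem (hUB α) (hDB c))) (inv_mem (hUB β))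
    have hconj : φ slW * goodG2.xG r 1 * (φ slW)⁻¹ = goodG2.xG (chevG2.neg r) (-1) := by
      rw [← hU, ← hL, ← map_inv, ← map_mul, ← map_mul]
      congr 1
      rw [mul_inv_eq_iff_eq_mul]
      refine Subtype.ext ?_
      simp only [Matrix.SpecialLinearGroup.coe_mul]
      ext i j
      fin_cases i <;> fin_cases j <;> simp [slW, slU, slL, Matrix.mul_apply, Fin.sum_univ_two]
    have hneg : chevG2.IsNegRoot (chevG2.neg r) :=
      (goodG2.isNegRoot_iff _).2 ((goodG2.neg_neg_iff hr).2 hrp)
    have h3 : goodG2.xG (chevG2.neg r) (-1 : F) ∈ chevG2.borelSubgroup F ⊓ chevG2.negUnipotent F := by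
      refine Subgroup.mem_inf.2 ⟨?_, goodG2.xG_mem_negUnipotent hneg _⟩
      rw [← hconj]
      exact mul_mem (mul_mem hW (Subgroup.mem_sup_left (goodG2.xG_mem_posUnipotent hpos 1))) (inv_mem hW)
    rw [goodG2.borel_inf_neg, Subgroup.mem_bot] at h3
    have h4 := (goodG2.x_eq_one_iff (goodG2.neg_lt hr) _).1 (congrArg Units.val h3)
    simp at h4

theorem phiA_inj {A : Matrix.SpecialLinearGroup (Fin 2) F} (hA : phiA A = 1) : A = 1 :=
  inj_of_rootHom long_lt (by decide +kernel) mid_lt (by decide +kernel) phiA phiA_U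
    (fun t => by rw [phiA_L, show chevG2.neg 11 = 0 from by decide +kernel]) phiA_D hA

theorem phiB_inj {A : Matrix.SpecialLinearGroup (Fin 2) F} (hA : phiB A = 1) : A = 1 :=
  inj_of_rootHom short_lt (by decide +kernel) mid_lt (by decide +kernel) phiB phiB_U
    (fun t => by rw [phiB_L, show chevG2.neg 7 = 4 from by decide +kernel]) phiB_D hA

theorem slD_neg_one : slD (-1 : Fˣ) = (-1 : Matrix.SpecialLinearGroup (Fin 2) F) := by
  refine Subtype.ext ?_
  rw [Matrix.SpecialLinearGroup.coe_neg, Matrix.SpecialLinearGroup.coe_one, Matrix.one_fin_two]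
  ext i j
  fin_cases i <;> fin_cases j <;> simp [slD]

theorem neg_one_ne_one (h2 : (2 : F) ≠ 0) : (-1 : Matrix.SpecialLinearGroup (Fin 2) F) ≠ 1 := fun h => by
  have := congrArg (fun A : Matrix.SpecialLinearGroup (Fin 2) F => A.1 0 0) h
  simp only [Matrix.SpecialLinearGroup.coe_neg, Matrix.SpecialLinearGroup.coe_one, Matrix.neg_apply,
    Matrix.one_apply_eq] at this
  exact h2 (by linear_combination -this)

/-- `τ = h₁₁(-1) = h₇(-1)`. -/
noncomputable def tau : GL chevG2.Idx F := goodG2.hG 11 (-1 : Fˣ)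

theorem tau_eq_seven : tau = goodG2.hG 7 (-1 : Fˣ) := by
  rw [tau, ← goodG2.torHom_pow_coroot long_lt, ← goodG2.torHom_pow_coroot short_lt]
  congr 1
  funext i
  fin_cases i <;>
    simp [show corootCo chevG2 11 0 = 1 from by decide +kernel, show corootCo chevG2 11 1 = 2 from by decide +kernel,
      show corootCo chevG2 7 0 = 1 from by decide +kernel, show corootCo chevG2 7 1 = 0 from by decide +kernel]

theorem phiA_neg_one : phiA (-1 : Matrix.SpecialLinearGroup (Fin 2) F) = tau := by
  rw [← slD_neg_one, phiA_D]; rfl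

theorem phiB_neg_one : phiB (-1 : Matrix.SpecialLinearGroup (Fin 2) F) = tau := by
  rw [← slD_neg_one, phiB_D, tau_eq_seven]

theorem eq_one_or_neg_one {A : Matrix.SpecialLinearGroup (Fin 2) F} (hU : A * slU 1 = slU 1 * A)
    (hL : A * slL 1 = slL 1 * A) : A = 1 ∨ A = -1 := by
  have e1 := congrArg (fun M : Matrix.SpecialLinearGroup (Fin 2) F => M.1) hU
  have e2 := congrArg (fun M : Matrix.SpecialLinearGroup (Fin 2) F => M.1) hL
  simp only [Matrix.SpecialLinearGroup.coe_mul] at e1 e2
  have a1 : A.1 1 0 = 0 := by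
    have := congrFun (congrFun e1 0) 0
    simpa [slU, Matrix.mul_apply, Fin.sum_univ_two] using this
  have a2 : A.1 0 1 = 0 := by
    have := congrFun (congrFun e2 0) 0
    simpa [slL, Matrix.mul_apply, Fin.sum_univ_two] using this
  have a3 : A.1 1 1 = A.1 0 0 := by
    have := congrFun (congrFun e1 0) 1
    simp [slU, Matrix.mul_apply, Fin.sum_univ_two, a2] at this
    exact this.symm
  have hd := A.2
  rw [Matrix.det_fin_two, a1, a2, a3, mul_zero, sub_zero] at hd
  rcases mul_self_eq_one_iff.1 hd with h | h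
  · left
    refine Subtype.ext ?_
    ext i j
    fin_cases i <;> fin_cases j <;> simp [a1, a2, a3, h]
  · right
    refine Subtype.ext ?_
    ext i j
    fin_cases i <;> fin_cases j <;> simp [a1, a2, a3, h]

/-- The kernel of `Φ` is `{(1, 1), (-1, -1)}`. -/
theorem Phi_eq_one {p : Matrix.SpecialLinearGroup (Fin 2) F × Matrix.SpecialLinearGroup (Fin 2) F}
    (hp : Phi p = 1) : p = (1, 1) ∨ p = (-1, -1) := by
  obtain ⟨A, B⟩ := p
  rw [Phi_mk] at hp
  have eA : phiA A = (phiB B)⁻¹ := eq_inv_of_mul_eq_one_left hp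
  have cA : ∀ k, A * k = k * A := fun k => by
    refine mul_inv_eq_one.1 (phiA_inj ?_)
    rw [map_mul, map_inv, map_mul, map_mul, mul_inv_eq_one, eA]
    exact ((phi_commute k B).inv_right).eq.symm
  rcases eq_one_or_neg_one (cA _) (cA _) with rfl | rfl
  · rw [map_one, one_mul] at hp
    exact Or.inl (by rw [phiB_inj hp])
  · right
    rw [phiA_neg_one, ← phiB_neg_one, ← map_mul] at hp
    have h := phiB_inj hp
    rw [neg_one_mul, neg_eq_iff_eq_neg] at h
    rw [h]

end CfsgLib.Chev.G2Invol
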