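import Mathlib
import Cfsg.Agent.Lib.Chev.Good

/-!
`G₂` in characteristic two: root automorphisms of Zorn's algebra and the fourteen derivations they move,
as lists of monomials `t ^ k • single i j 1`, with the identities checked by parity.
-/

set_option autoImplicit false
set_option maxRecDepth 100000

namespace CfsgLib.Chev.G2Oct

open Cfsg.Lie Matrix CfsgLib.Chev

/-- A monomial entry: exponent, row, column. -/
abbrev Mono : Type := ℕ × Fin 8 × Fin 8

/-- The root automorphism of a root, up to the parameter. -/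
def yTab : ℕ → List Mono
  | 0 => [(0, 0, 0), (0, 1, 1), (0, 2, 2), (0, 3, 3), (0, 4, 4), (0, 5, 5), (0, 6, 6), (0, 7, 7), (1, 3, 1), (1, 4, 6)]
  | 1 => [(0, 0, 0), (0, 1, 1), (0, 2, 2), (0, 3, 3), (0, 4, 4), (0, 5, 5), (0, 6, 6), (0, 7, 7), (1, 3, 2), (1, 5, 6)]
  | 2 => [(0, 0, 0), (0, 1, 1), (0, 2, 2), (0, 3, 3), (0, 4, 4), (0, 5, 5), (0, 6, 6), (0, 7, 7), (1, 0, 6), (1, 3, 0), (1, 3, 7), (1, 4, 2), (1, 5, 1), (1, 7, 6), (2, 3, 6)]
  | 3 => [(0, 0, 0), (0, 1, 1), (0, 2, 2), (0, 3, 3), (0, 4, 4), (0, 5, 5), (0, 6, 6), (0, 7, 7), (1, 0, 1), (1, 2, 6), (1, 3, 5), (1, 4, 0), (1, 4, 7), (1, 7, 1), (2, 4, 1)]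
  | 4 => [(0, 0, 0), (0, 1, 1), (0, 2, 2), (0, 3, 3), (0, 4, 4), (0, 5, 5), (0, 6, 6), (0, 7, 7), (1, 0, 2), (1, 1, 6), (1, 3, 4), (1, 5, 0), (1, 5, 7), (1, 7, 2), (2, 5, 2)]
  | 5 => [(0, 0, 0), (0, 1, 1), (0, 2, 2), (0, 3, 3), (0, 4, 4), (0, 5, 5), (0, 6, 6), (0, 7, 7), (1, 2, 1), (1, 4, 5)]
  | 6 => [(0, 0, 0), (0, 1, 1), (0, 2, 2), (0, 3, 3), (0, 4, 4), (0, 5, 5), (0, 6, 6), (0, 7, 7), (1, 1, 2), (1, 5, 4)]
  | 7 => [(0, 0, 0), (0, 1, 1), (0, 2, 2), (0, 3, 3), (0, 4, 4), (0, 5, 5), (0, 6, 6), (0, 7, 7), (1, 0, 5), (1, 2, 0), (1, 2, 7), (1, 4, 3), (1, 6, 1), (1, 7, 5), (2, 2, 5)]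
  | 8 => [(0, 0, 0), (0, 1, 1), (0, 2, 2), (0, 3, 3), (0, 4, 4), (0, 5, 5), (0, 6, 6), (0, 7, 7), (1, 0, 4), (1, 1, 0), (1, 1, 7), (1, 5, 3), (1, 6, 2), (1, 7, 4), (2, 1, 4)]
  | 9 => [(0, 0, 0), (0, 1, 1), (0, 2, 2), (0, 3, 3), (0, 4, 4), (0, 5, 5), (0, 6, 6), (0, 7, 7), (1, 0, 3), (1, 1, 5), (1, 2, 4), (1, 6, 0), (1, 6, 7), (1, 7, 3), (2, 6, 3)]
  | 10 => [(0, 0, 0), (0, 1, 1), (0, 2, 2), (0, 3, 3), (0, 4, 4), (0, 5, 5), (0, 6, 6), (0, 7, 7), (1, 2, 3), (1, 6, 5)]
  | 11 => [(0, 0, 0), (0, 1, 1), (0, 2, 2), (0, 3, 3), (0, 4, 4), (0, 5, 5), (0, 6, 6), (0, 7, 7), (1, 1, 3), (1, 6, 4)]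
  | _ => []

/-- The derivation of an index of the algebra. -/
def dTab : ℕ → List Mono
  | 0 => [(0, 1, 1), (0, 3, 3), (0, 4, 4), (0, 6, 6)]
  | 1 => [(0, 1, 1), (0, 2, 2), (0, 4, 4), (0, 5, 5)]
  | 2 => [(0, 3, 1), (0, 4, 6)]
  | 3 => [(0, 3, 2), (0, 5, 6)]
  | 4 => [(0, 0, 6), (0, 3, 0), (0, 3, 7), (0, 4, 2), (0, 5, 1), (0, 7, 6)]
  | 5 => [(0, 0, 1), (0, 2, 6), (0, 3, 5), (0, 4, 0), (0, 4, 7), (0, 7, 1)]
  | 6 => [(0, 0, 2), (0, 1, 6), (0, 3, 4), (0, 5, 0), (0, 5, 7), (0, 7, 2)]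
  | 7 => [(0, 2, 1), (0, 4, 5)]
  | 8 => [(0, 1, 2), (0, 5, 4)]
  | 9 => [(0, 0, 5), (0, 2, 0), (0, 2, 7), (0, 4, 3), (0, 6, 1), (0, 7, 5)]
  | 10 => [(0, 0, 4), (0, 1, 0), (0, 1, 7), (0, 5, 3), (0, 6, 2), (0, 7, 4)]
  | 11 => [(0, 0, 3), (0, 1, 5), (0, 2, 4), (0, 6, 0), (0, 6, 7), (0, 7, 3)]
  | 12 => [(0, 2, 3), (0, 6, 5)]
  | 13 => [(0, 1, 3), (0, 6, 4)]
  | _ => []

/-- The derivation attached to a coordinate. -/
def dL (c : chevG2.Idx) : List Mono := dTab (Sum.elim (fun j => j.val) (fun u => 2 + u.val) c)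

/-- Products of monomial lists. -/
def mulL (a b : List Mono) : List Mono :=
  a.flatMap fun x => (b.filter fun y => x.2.2 == y.2.1).map fun y => (x.1 + y.1, x.2.1, y.2.2)

/-- Multiplication by a power of the parameter. -/
def shiftL (k : ℕ) (a : List Mono) : List Mono := a.map fun x => (k + x.1, x.2)

/-- Equality modulo two. -/
def parEq (a b : List Mono) : Bool := (a ++ b).all fun x => (a ++ b).count x % 2 == 0

section Eval

variable {F : Type*} [Field F]

/-- The matrix of a monomial list at a parameter. -/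
def M (t : F) (a : List Mono) : Matrix (Fin 8) (Fin 8) F :=
  (a.map fun x => t ^ x.1 • Matrix.single x.2.1 x.2.2 (1 : F)).sum

theorem M_cons (t : F) (x : Mono) (a : List Mono) :
    M t (x :: a) = t ^ x.1 • Matrix.single x.2.1 x.2.2 (1 : F) + M t a := by
  simp [M]

theorem M_nil (t : F) : M t [] = 0 := by simp [M]

theorem M_append (t : F) (a b : List Mono) : M t (a ++ b) = M t a + M t b := by simp [M]

theorem M_shift (t : F) (k : ℕ) (a : List Mono) : M t (shiftL k a) = t ^ k • M t a := by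
  induction a with
  | nil => simp [shiftL, M_nil]
  | cons x a ih =>
    rw [shiftL, List.map_cons, M_cons, M_cons, smul_add, smul_smul, ← pow_add]
    exact congrArg _ ih

theorem M_const (t s : F) {a : List Mono} (h : ∀ x ∈ a, x.1 = 0) : M t a = M s a := by
  induction a with
  | nil => rw [M_nil, M_nil]
  | cons x a ih => rw [M_cons, M_cons, h x List.mem_cons_self, ih fun y hy => h y (List.mem_cons_of_mem _ hy)]; simp

theorem single_mul_M (t : F) (k : ℕ) (i j : Fin 8) (b : List Mono) :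
    (t ^ k • Matrix.single i j (1 : F)) * M t b =
      M t ((b.filter fun y => j == y.2.1).map fun y => (k + y.1, i, y.2.2)) := by
  induction b with
  | nil => simp [M_nil]
  | cons y b ih =>
    rw [M_cons, mul_add, ih, Matrix.smul_mul, Matrix.mul_smul, smul_smul, ← pow_add, List.filter_cons]
    by_cases h : j = y.2.1
    · subst h
      simp [Matrix.single_mul_single_same, M_cons]
    · simp [h, Matrix.single_mul_single_of_ne]

theorem M_mul (t : F) (a b : List Mono) : M t (mulL a b) = M t a * M t b := by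
  induction a with
  | nil => simp [mulL, M_nil]
  | cons x a ih =>
    rw [mulL, List.flatMap_cons, M_append, M_cons, add_mul, single_mul_M]
    exact congrArg _ ih

theorem M_parEq (h2 : (2 : F) = 0) (t : F) {a b : List Mono} (h : parEq a b = true) : M t a = M t b := by
  have h0 : M t (a ++ b) = 0 := by
    rw [parEq, List.all_eq_true] at h
    rw [M, Finset.sum_list_map_count]
    refine Finset.sum_eq_zero fun x hx => ?_
    obtain ⟨m, hm⟩ := Nat.dvd_of_mod_eq_zero (beq_iff_eq.1 (h x (List.mem_toFinset.1 hx)))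
    have hz : ((2 * m : ℕ) : F) = 0 := by push_cast; rw [h2, zero_mul]
    rw [← Nat.cast_smul_eq_nsmul F]
    convert zero_smul F (t ^ x.1 • Matrix.single x.2.1 x.2.2 (1 : F)) using 2
    convert hz using 2
    convert hm using 2
    exact lawful_beq_subsingleton _ _
  rw [M_append] at h0
  have hneg : ∀ A : Matrix (Fin 8) (Fin 8) F, -A = A := fun A => by
    ext i j
    rw [Matrix.neg_apply]
    linear_combination (-A i j) * h2
  exact (eq_neg_of_add_eq_zero_left h0).trans (hneg _)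

end Eval

/-- The coordinates of the algebra as a list. -/
def allIdx : List chevG2.Idx :=
  (List.finRange chevG2.rank).map Sum.inl ++ (List.finRange chevG2.nroots).map Sum.inr

/-- An entry of a coefficient of a root element. -/
noncomputable def coefK (r k : ℕ) (c b : chevG2.Idx) : ℤ :=
  if k = 0 then (if c = b then 1 else 0) else rmat chevG2 r k c b

/-- A column of a root element modulo two. -/
noncomputable def xCol (r : ℕ) (b : chevG2.Idx) : List (ℕ × chevG2.Idx) :=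
  allIdx.flatMap fun c => ((List.range 4).filter fun k => coefK r k c b % 2 == 1).map fun k => (k, c)

/-- The two sides of the intertwining relation. -/
noncomputable def sides (r : ℕ) (b : chevG2.Idx) : List Mono :=
  mulL ((xCol r b).flatMap fun p => shiftL p.1 (dL p.2)) (yTab r)

theorem rel_check : ∀ r : Fin 12, ∀ b : chevG2.Idx, parEq (mulL (yTab r.val) (dL b)) (sides r.val b) = true := by
  decide +kernel

theorem dL_const : ∀ c : chevG2.Idx, ∀ x ∈ dL c, x.1 = 0 := by decide +kernel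

variable {F : Type*} [Field F]

/-- The linear map from the algebra to the derivations. -/
def Der (v : chevG2.Idx → F) : Matrix (Fin 8) (Fin 8) F := ∑ c, v c • M 1 (dL c)

theorem int_cast_parity (h2 : (2 : F) = 0) (z : ℤ) : (z : F) = if z % 2 = 1 then 1 else 0 := by
  conv_lhs => rw [← Int.emod_add_mul_ediv z 2]
  rcases Int.emod_two_eq_zero_or_one z with h | h <;> simp [h, h2]

theorem allIdx_sum {A : Type*} [AddCommMonoid A] (f : chevG2.Idx → A) : (allIdx.map f).sum = ∑ c, f c := by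
  simp [allIdx, Fintype.sum_sum_type, Fin.sum_univ_def, List.map_map, Function.comp_def]

theorem sum_xCol (h2 : (2 : F) = 0) {r : ℕ} (hr : r < chevG2.nroots) (t : F) (b : chevG2.Idx) :
    M t ((xCol r b).flatMap fun p => shiftL p.1 (dL p.2)) = Der fun c => chevG2.x F r t c b := by
  rw [Der, ← allIdx_sum, xCol, List.flatMap_assoc]
  induction allIdx with
  | nil => simp [M_nil]
  | cons c l ih =>
    rw [List.flatMap_cons, M_append, ih, List.map_cons, List.sum_cons]
    congr 1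
    rw [goodG2.x_eq_xr hr, ← M_const t 1 (dL_const c)]
    have hsum : ∀ l : List ℕ, M t (((l.filter fun k => coefK r k c b % 2 == 1).map fun k => (k, c)).flatMap
        fun p => shiftL p.1 (dL p.2)) = (l.map fun k => (coefK r k c b : F) * t ^ k).sum • M t (dL c) := by
      intro l
      induction l with
      | nil => simp [M_nil]
      | cons k l ih =>
        rw [List.map_cons, List.sum_cons, add_smul, ← ih, int_cast_parity h2, List.filter_cons]
        by_cases hk : coefK r k c b % 2 = 1 <;> simp [hk, M_append, M_shift, List.flatMap_cons]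
    rw [hsum]
    congr 1
    simp [List.range_succ, coefK, xr, amat, Matrix.one_apply, add_assoc, mul_comm]

/-- The intertwining relation of a root element. -/
theorem root_rel (h2 : (2 : F) = 0) {r : ℕ} (hr : r < chevG2.nroots) (t : F) (b : chevG2.Idx) :
    M t (yTab r) * M 1 (dL b) = Der (fun c => chevG2.x F r t c b) * M t (yTab r) := by
  rw [← M_const t 1 (dL_const b), ← M_mul, ← sum_xCol h2 hr, ← M_mul]
  exact M_parEq h2 t (rel_check ⟨r, hr⟩ b)

end CfsgLib.Chev.G2Oct
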