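import Mathlib
import Cfsg.Agent.Lib.Chev.G2OctMono
import Cfsg.Agent.Lib.Chev.TorusH
import Cfsg.Agent.Lib.NormalCover.G2Moves

/-!
In characteristic two the adjoint group of type `G₂` embeds into the automorphism group of Zorn's algebra.
-/

set_option autoImplicit false
set_option maxRecDepth 100000
set_option maxHeartbeats 1000000

namespace CfsgLib.Chev.G2Oct

open Cfsg.Lie Matrix CfsgLib.Chev CfsgLib.NormalCover

variable {F : Type*} [Field F]

theorem M_entry (t : F) (a : List Mono) (i j : Fin 8) :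
    M t a i j = ((a.filter fun x => x.2.1 == i && x.2.2 == j).map fun x => t ^ x.1).sum := by
  induction a with
  | nil => simp [M_nil]
  | cons x a ih =>
    rw [M_cons, Matrix.add_apply, ih, Matrix.smul_apply, Matrix.single_apply, List.filter_cons]
    by_cases h : x.2.1 = i ∧ x.2.2 = j
    · simp [h]
    · rw [if_neg h, if_neg (by simpa using h)]; simp

theorem M_mulVec (t : F) (a : List Mono) (v : Fin 8 → F) (i : Fin 8) :
    (M t a *ᵥ v) i = ((a.filter fun x => x.2.1 == i).map fun x => t ^ x.1 * v x.2.2).sum := by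
  induction a with
  | nil => simp [M_nil]
  | cons x a ih =>
    rw [M_cons, Matrix.add_mulVec, Pi.add_apply, ih, List.filter_cons, Matrix.smul_mulVec]
    by_cases h : x.2.1 = i
    · subst h; simp [Matrix.single_mulVec]
    · simp [h, Matrix.single_mulVec, Ne.symm h]

/-- Every root automorphism preserves the product. -/
theorem root_g2 (h2 : (2 : F) = 0) (r : Fin 12) (t : F) :
    ∃ g ∈ Cfsg.Lie.G2 F, ((g : GL (Fin 8) F) : Matrix (Fin 8) (Fin 8) F) = M t (yTab r.val) := by
  have hneg : ∀ a : F, -a = a := fun a => by linear_combination (-a) * h2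
  have key : ∀ f : (Fin 8 → F) →ₗ[F] Fin 8 → F, Function.Injective f →
      (∀ x y, f (zornMul x y) = zornMul (f x) (f y)) → (∀ x i, (M t (yTab r.val) *ᵥ x) i = f x i) →
      ∃ g ∈ Cfsg.Lie.G2 F, ((g : GL (Fin 8) F) : Matrix (Fin 8) (Fin 8) F) = M t (yTab r.val) := by
    intro f hi hm he
    obtain ⟨g, hg, hgx⟩ := exists_g2 f hi hm
    exact ⟨g, hg, Matrix.ext_iff_mulVec.2 fun x => by rw [hgx]; exact (funext (he x)).symm⟩
  have long : ∀ (i j : Fin 3), i ≠ j → (∀ x k, (M t (yTab r.val) *ᵥ x) k = moveS (1 + single i j t) x k) →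
      ∃ g ∈ Cfsg.Lie.G2 F, ((g : GL (Fin 8) F) : Matrix (Fin 8) (Fin 8) F) = M t (yTab r.val) := by
    intro i j hij he
    have hd : (1 + single i j t : Matrix (Fin 3) (Fin 3) F).det = 1 := Matrix.det_transvection_of_ne i j hij t
    exact key _ (moveS_injective hd) (moveS_mul hd) he
  fin_cases r
  · exact long 2 0 (by decide) fun x k => by
      fin_cases k <;> simp [M_mulVec, yTab, moveS, Matrix.single_apply, Matrix.one_apply, hneg, sub_eq_add_neg] <;> ring
  · exact long 2 1 (by decide) fun x k => by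
      fin_cases k <;> simp [M_mulVec, yTab, moveS, Matrix.single_apply, Matrix.one_apply, hneg, sub_eq_add_neg] <;> ring
  · exact key (moveA ![0, 0, t]) (moveA_injective _) (moveA_mul _) fun x k => by
      fin_cases k <;> simp [M_mulVec, yTab, moveA, hneg, sub_eq_add_neg] <;> ring
  · exact key (moveB ![t, 0, 0]) (moveB_injective _) (moveB_mul _) fun x k => by
      fin_cases k <;> simp [M_mulVec, yTab, moveB, hneg, sub_eq_add_neg] <;> ring
  · exact key (moveB ![0, t, 0]) (moveB_injective _) (moveB_mul _) fun x k => by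
      fin_cases k <;> simp [M_mulVec, yTab, moveB, hneg, sub_eq_add_neg] <;> ring
  · exact long 1 0 (by decide) fun x k => by
      fin_cases k <;> simp [M_mulVec, yTab, moveS, Matrix.single_apply, Matrix.one_apply, hneg, sub_eq_add_neg] <;> ring
  · exact long 0 1 (by decide) fun x k => by
      fin_cases k <;> simp [M_mulVec, yTab, moveS, Matrix.single_apply, Matrix.one_apply, hneg, sub_eq_add_neg] <;> ring
  · exact key (moveA ![0, t, 0]) (moveA_injective _) (moveA_mul _) fun x k => by
      fin_cases k <;> simp [M_mulVec, yTab, moveA, hneg, sub_eq_add_neg] <;> ring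
  · exact key (moveA ![t, 0, 0]) (moveA_injective _) (moveA_mul _) fun x k => by
      fin_cases k <;> simp [M_mulVec, yTab, moveA, hneg, sub_eq_add_neg] <;> ring
  · exact key (moveB ![0, 0, t]) (moveB_injective _) (moveB_mul _) fun x k => by
      fin_cases k <;> simp [M_mulVec, yTab, moveB, hneg, sub_eq_add_neg] <;> ring
  · exact long 1 2 (by decide) fun x k => by
      fin_cases k <;> simp [M_mulVec, yTab, moveS, Matrix.single_apply, Matrix.one_apply, hneg, sub_eq_add_neg] <;> ring
  · exact long 0 2 (by decide) fun x k => by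
      fin_cases k <;> simp [M_mulVec, yTab, moveS, Matrix.single_apply, Matrix.one_apply, hneg, sub_eq_add_neg] <;> ring

/-! ### The derivations -/

theorem Der_single (c : chevG2.Idx) : (Der (Pi.single c 1) : Matrix (Fin 8) (Fin 8) F) = M 1 (dL c) := by
  classical
  simp [Der, Pi.single_apply]

theorem Der_mulVec (X : Matrix chevG2.Idx chevG2.Idx F) (v : chevG2.Idx → F) :
    Der (X *ᵥ v) = ∑ b, v b • Der fun c => X c b := by
  simp only [Der, Finset.smul_sum, smul_smul, Matrix.mulVec, dotProduct, Finset.sum_smul]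
  rw [Finset.sum_comm]
  exact Finset.sum_congr rfl fun b _ => Finset.sum_congr rfl fun c _ => by rw [mul_comm]

/-- A position seen by exactly one derivation. -/
def pos (c : chevG2.Idx) : Fin 8 × Fin 8 :=
  ([(3, 3), (2, 2), (3, 1), (3, 2), (0, 6), (0, 1), (0, 2), (2, 1), (1, 2), (0, 5), (0, 4), (0, 3), (2, 3),
    (1, 3)] : List (Fin 8 × Fin 8)).getD (Sum.elim (fun j => j.val) (fun u => 2 + u.val) c) (0, 0)

theorem pos_check : ∀ c d : chevG2.Idx,
    ((dL d).filter fun x => x.2.1 == (pos c).1 && x.2.2 == (pos c).2) =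
      if c = d then [(0, pos c)] else [] := by
  decide +kernel

theorem Der_injective : Function.Injective (Der : (chevG2.Idx → F) → Matrix (Fin 8) (Fin 8) F) := by
  classical
  have h : ∀ (v : chevG2.Idx → F) (c : chevG2.Idx), Der v (pos c).1 (pos c).2 = v c := by
    intro v c
    rw [Der, Matrix.sum_apply, Finset.sum_eq_single c]
    · simp [M_entry, pos_check]
    · intro d _ hd
      simp [M_entry, pos_check, Ne.symm hd]
    · simp
  intro v w hvw
  funext c
  rw [← h v c, ← h w c, hvw]

/-! ### Commuting with every derivation -/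

/-- The equation of an entry of a commutator. -/
def eqL (c : chevG2.Idx) (i l : Fin 8) : List (Fin 8 × Fin 8) :=
  (((dL c).filter fun x => x.2.2 == l).map fun x => (i, x.2.1)) ++
    (((dL c).filter fun x => x.2.1 == i).map fun x => (x.2.2, l))

theorem eqL_sum (h2 : (2 : F) = 0) {g : Matrix (Fin 8) (Fin 8) F} (hg : ∀ c, g * M 1 (dL c) = M 1 (dL c) * g)
    (c : chevG2.Idx) (i l : Fin 8) : ((eqL c i l).map fun p => g p.1 p.2).sum = 0 := by
  have hl : ∀ a : List Mono, (g * M (1 : F) a) i l =
      (((a.filter fun x => x.2.2 == l).map fun x => (i, x.2.1)).map fun p => g p.1 p.2).sum := by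
    intro a
    induction a with
    | nil => simp [M_nil]
    | cons x a ih =>
      rw [M_cons, mul_add, Matrix.add_apply, ih, List.filter_cons, one_pow, one_smul]
      by_cases h : x.2.2 = l
      · subst h; simp
      · simp [h, Matrix.mul_single_apply_of_ne _ _ _ _ _ (Ne.symm h)]
  have hr : ∀ a : List Mono, (M (1 : F) a * g) i l =
      (((a.filter fun x => x.2.1 == i).map fun x => (x.2.2, l)).map fun p => g p.1 p.2).sum := by
    intro a
    induction a with
    | nil => simp [M_nil]
    | cons x a ih =>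
      rw [M_cons, add_mul, Matrix.add_apply, ih, List.filter_cons, one_pow, one_smul]
      by_cases h : x.2.1 = i
      · subst h; simp
      · simp [h, Matrix.single_mul_apply_of_ne _ _ _ _ _ (Ne.symm h)]
  rw [eqL, List.map_append, List.sum_append, ← hl, ← hr, hg]
  linear_combination ((M (1 : F) (dL c) * g) i l) * h2

/-- The pairs of coordinates not forced to vanish. -/
def freePair (i j : Fin 8) : Bool := i == j || (i == 0 && j == 7) || (i == 7 && j == 0)

theorem eqL_check : ∀ i j : Fin 8, freePair i j = false →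
    ∃ c a b, eqL c a b = [(i, j)] := by
  decide +kernel

theorem eqL_diag :
    (∀ i : Fin 8, i ≠ 0 → i ≠ 7 → ∃ c a b, (eqL c a b).isPerm [(0, 0), (0, 7), (i, i)] = true) ∧
    (∀ i : Fin 8, i ≠ 0 → i ≠ 7 → ∃ c a b, (eqL c a b).isPerm [(0, 7), (7, 7), (i, i)] = true) := by
  decide +kernel

/-- The commutant of the derivations meets `G₂` trivially. -/
theorem eq_one_of_commute (h2 : (2 : F) = 0) {g : GL (Fin 8) F} (hg : g ∈ Cfsg.Lie.G2 F)
    (hc : ∀ c, (g : Matrix (Fin 8) (Fin 8) F) * M 1 (dL c) = M 1 (dL c) * (g : Matrix (Fin 8) (Fin 8) F)) : g = 1 := by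
  obtain ⟨A, hA⟩ : ∃ A, A = (g : Matrix (Fin 8) (Fin 8) F) := ⟨_, rfl⟩
  rw [← hA] at hc
  have heq := eqL_sum h2 hc
  have hoff : ∀ i j, freePair i j = false → A i j = 0 := by
    intro i j hij
    obtain ⟨c, a, b, h⟩ := eqL_check i j hij
    simpa [h] using heq c a b
  have d1 : ∀ i : Fin 8, i ≠ 0 → i ≠ 7 → A 0 0 + A 0 7 + A i i = 0 := by
    intro i h0 h7
    obtain ⟨c, a, b, h⟩ := eqL_diag.1 i h0 h7
    have := heq c a b
    rw [((List.isPerm_iff.1 h).map _).sum_eq] at this
    simpa [add_assoc] using this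
  have d2 : ∀ i : Fin 8, i ≠ 0 → i ≠ 7 → A 0 7 + A 7 7 + A i i = 0 := by
    intro i h0 h7
    obtain ⟨c, a, b, h⟩ := eqL_diag.2 i h0 h7
    have := heq c a b
    rw [((List.isPerm_iff.1 h).map _).sum_eq] at this
    simpa [add_assoc] using this
  have hmul : ∀ x y, A *ᵥ zornMul x y = zornMul (A *ᵥ x) (A *ᵥ y) := hA ▸ hg
  have e17 : A 7 0 + A 7 7 = 1 ∧ A 0 0 + A 0 7 = 1 := by
    obtain ⟨y, hy⟩ : ∃ y, A *ᵥ y = (Pi.single 1 1 : Fin 8 → F) :=
      ⟨((g⁻¹ : GL (Fin 8) F) : Matrix (Fin 8) (Fin 8) F) *ᵥ Pi.single 1 1, by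
        rw [hA, mulVec_mulVec, ← Units.val_mul, mul_inv_cancel, Units.val_one, one_mulVec]⟩
    have hone : ∀ x : Fin 8 → F, zornMul (![1, 0, 0, 0, 0, 0, 0, 1]) x = x ∧ zornMul x ![1, 0, 0, 0, 0, 0, 0, 1] = x :=
      fun x => ⟨by funext i; fin_cases i <;> simp [zornMul, dot3, cross3],
        by funext i; fin_cases i <;> simp [zornMul, dot3, cross3]⟩
    have ho : ∀ i j, freePair i j = false → A i j = 0 := hoff
    have h1 := hmul ![1, 0, 0, 0, 0, 0, 0, 1] y
    rw [(hone y).1, hy] at h1
    have h2' := hmul y ![1, 0, 0, 0, 0, 0, 0, 1]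
    rw [(hone y).2, hy] at h2'
    have a1 := congrFun h1 1
    have a2 := congrFun h2' 1
    simp [zornMul, dot3, cross3, Matrix.mulVec, dotProduct, Fin.sum_univ_eight, hoff _ _ (by decide : freePair 1 0 = false),
      hoff _ _ (by decide : freePair 1 7 = false), hoff _ _ (by decide : freePair 2 0 = false),
      hoff _ _ (by decide : freePair 2 7 = false), hoff _ _ (by decide : freePair 3 0 = false),
      hoff _ _ (by decide : freePair 3 7 = false), hoff _ _ (by decide : freePair 4 0 = false),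
      hoff _ _ (by decide : freePair 4 7 = false), hoff _ _ (by decide : freePair 5 0 = false),
      hoff _ _ (by decide : freePair 5 7 = false), hoff _ _ (by decide : freePair 6 0 = false),
      hoff _ _ (by decide : freePair 6 7 = false)] at a1 a2
    exact ⟨a2.symm, a1.symm⟩
  obtain ⟨e7, e0⟩ := e17
  have hdiag : ∀ i : Fin 8, i ≠ 0 → i ≠ 7 → A i i = 1 := fun i h0 h7 => by
    linear_combination (A i i) * h2 - d1 i h0 h7 + e0
  have e07 : A 0 7 + A 7 7 = 1 := by
    have := d2 1 (by decide) (by decide)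
    linear_combination this - hdiag 1 (by decide) (by decide) - h2
  have e1 : A 0 0 * A 0 0 = A 0 0 := by
    have h := congrFun (hmul (Pi.single 0 1) (Pi.single 0 1)) 0
    have hz : zornMul (Pi.single 0 1 : Fin 8 → F) (Pi.single 0 1) = Pi.single 0 1 := by
      funext i; fin_cases i <;> simp [zornMul, dot3, cross3]
    rw [hz] at h
    simp [zornMul, dot3, Matrix.mulVec, dotProduct, Fin.sum_univ_eight, hoff _ _ (by decide : freePair 1 0 = false),
      hoff _ _ (by decide : freePair 2 0 = false), hoff _ _ (by decide : freePair 3 0 = false),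
      hoff _ _ (by decide : freePair 4 0 = false), hoff _ _ (by decide : freePair 5 0 = false),
      hoff _ _ (by decide : freePair 6 0 = false)] at h
    exact h.symm
  rcases mul_eq_zero.1 (show A 0 0 * (A 0 0 - 1) = 0 by linear_combination e1) with h | h
  · -- the exchanging solution moves the first coordinate vector to its complement
    have h07 : A 0 7 = 1 := by linear_combination e0 - h
    have h70 : A 7 0 = 1 := by linear_combination e7 - e07 + h07
    have h77 : A 7 7 = 0 := by linear_combination e07 - h07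
    have hz : zornMul (Pi.single 0 1 : Fin 8 → F) (Pi.single 1 1) = Pi.single 1 1 := by
      funext i; fin_cases i <;> simp [zornMul, dot3, cross3]
    have hb := congrFun (hmul (Pi.single 0 1) (Pi.single 1 1)) 1
    rw [hz] at hb
    simp [zornMul, dot3, cross3, Matrix.mulVec, dotProduct, Fin.sum_univ_eight, h,
      hdiag 1 (by decide) (by decide), hoff _ _ (by decide : freePair 1 0 = false),
      hoff _ _ (by decide : freePair 2 0 = false), hoff _ _ (by decide : freePair 3 0 = false),
      hoff _ _ (by decide : freePair 4 0 = false), hoff _ _ (by decide : freePair 5 0 = false),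
      hoff _ _ (by decide : freePair 6 0 = false), hoff _ _ (by decide : freePair 7 1 = false)] at hb
  · have h00 : A 0 0 = 1 := by linear_combination h
    have h07 : A 0 7 = 0 := by linear_combination e0 - h00
    have h77 : A 7 7 = 1 := by linear_combination e07 - h07
    have h70 : A 7 0 = 0 := by linear_combination e7 - h77
    refine Units.ext ?_
    rw [← hA, Units.val_one]
    ext i j
    rw [Matrix.one_apply]
    split_ifs with hij
    · subst hij
      rcases eq_or_ne i 0 with rfl | h0
      · exact h00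
      rcases eq_or_ne i 7 with rfl | h7
      · exact h77
      exact hdiag i h0 h7
    · cases hf : freePair i j
      · exact hoff i j hf
      · simp only [freePair, Bool.or_eq_true, beq_iff_eq, Bool.and_eq_true] at hf
        rcases hf with (rfl | ⟨rfl, rfl⟩) | ⟨rfl, rfl⟩
        exacts [(hij rfl).elim, h07, h70]

/-! ### The embedding -/

/-- Pairs of an automorphism of the algebra and the linear map it induces on the derivations. -/
def pairSub : Subgroup (GL chevG2.Idx F × GL (Fin 8) F) where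
  carrier := {p | p.2 ∈ Cfsg.Lie.G2 F ∧ ∀ v, (p.2 : Matrix (Fin 8) (Fin 8) F) * Der v =
    Der ((p.1 : Matrix chevG2.Idx chevG2.Idx F) *ᵥ v) * (p.2 : Matrix (Fin 8) (Fin 8) F)}
  mul_mem' := by
    rintro ⟨X, g⟩ ⟨Y, h⟩ ⟨hg, hX⟩ ⟨hh, hY⟩
    refine ⟨mul_mem hg hh, fun v => ?_⟩
    simp only [Prod.mk_mul_mk, Units.val_mul] at hX hY ⊢
    rw [mul_assoc, hY, ← mul_assoc, hX, mul_assoc, mulVec_mulVec]
  one_mem' := ⟨one_mem _, fun v => by simp⟩
  inv_mem' := by
    rintro ⟨X, g⟩ ⟨hg, hX⟩
    refine ⟨inv_mem hg, fun v => ?_⟩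
    have h := hX (((X⁻¹ : GL chevG2.Idx F) : Matrix chevG2.Idx chevG2.Idx F) *ᵥ v)
    rw [mulVec_mulVec, ← Units.val_mul, mul_inv_cancel, Units.val_one, one_mulVec] at h
    simp only [Prod.inv_mk]
    calc _ = ((g⁻¹ : GL (Fin 8) F) : Matrix (Fin 8) (Fin 8) F) * (Der v * (g : Matrix (Fin 8) (Fin 8) F)) *
          ((g⁻¹ : GL (Fin 8) F) : Matrix (Fin 8) (Fin 8) F) := by
            simp [mul_assoc]
      _ = _ := by rw [← h]; simp [← mul_assoc]

theorem mem_pairSub_root (h2 : (2 : F) = 0) {r : ℕ} (hr : r < chevG2.nroots) (t : F) :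
    ∃ g : GL (Fin 8) F, (g : Matrix (Fin 8) (Fin 8) F) = M t (yTab r) ∧ (goodG2.xG r t, g) ∈ pairSub := by
  obtain ⟨g, hg, hM⟩ := root_g2 h2 ⟨r, hr⟩ t
  refine ⟨g, hM, hg, fun v => ?_⟩
  show (g : Matrix (Fin 8) (Fin 8) F) * Der v = _
  rw [Der_mulVec, Der, Finset.mul_sum, Finset.sum_mul]
  refine Finset.sum_congr rfl fun b _ => ?_
  rw [hM, Matrix.mul_smul, Matrix.smul_mul, root_rel h2 hr, goodG2.coe_xG]

theorem pair_unique (h2 : (2 : F) = 0) {X : GL chevG2.Idx F} {g g' : GL (Fin 8) F}
    (h : (X, g) ∈ pairSub) (h' : (X, g') ∈ pairSub) : g = g' := by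
  have h1 := mul_mem (inv_mem h') h
  simp only [Prod.inv_mk, Prod.mk_mul_mk, inv_mul_cancel] at h1
  refine (inv_mul_eq_one.1 (eq_one_of_commute h2 h1.1 fun c => ?_)).symm
  have := h1.2 (Pi.single c 1)
  simp only [Units.val_one, one_mulVec, Der_single] at this
  simpa using this

theorem exists_pair (h2 : (2 : F) = 0) {X : GL chevG2.Idx F} (hX : X ∈ chevG2.group F) :
    ∃ g, (X, g) ∈ pairSub := by
  have h : chevG2.group F ≤ (pairSub (F := F)).map (MonoidHom.fst _ _) := by
    refine goodG2.group_le fun r hr t => ?_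
    obtain ⟨g, -, hg⟩ := mem_pairSub_root h2 hr t
    exact ⟨_, hg, rfl⟩
  obtain ⟨⟨Y, g⟩, hg, rfl⟩ := h hX
  exact ⟨g, hg⟩

/-- The adjoint group of type `G₂` into the automorphisms of Zorn's algebra. -/
noncomputable def toOct (h2 : (2 : F) = 0) : ↥(chevG2.group F) →* ↥(Cfsg.Lie.G2 F) :=
  MonoidHom.mk' (fun X => ⟨(exists_pair h2 X.2).choose, (exists_pair h2 X.2).choose_spec.1⟩) fun X Y =>
    Subtype.ext (pair_unique h2 (exists_pair h2 (X * Y).2).choose_spec
      (mul_mem (exists_pair h2 X.2).choose_spec (exists_pair h2 Y.2).choose_spec))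

theorem toOct_eq (h2 : (2 : F) = 0) (X : ↥(chevG2.group F)) {g : GL (Fin 8) F}
    (h : ((X : GL chevG2.Idx F), g) ∈ pairSub) : (toOct h2 X : GL (Fin 8) F) = g :=
  pair_unique h2 (exists_pair h2 X.2).choose_spec h

theorem toOct_root (h2 : (2 : F) = 0) {r : ℕ} (hr : r < chevG2.nroots) (t : F) (X : ↥(chevG2.group F))
    (hX : (X : GL chevG2.Idx F) = goodG2.xG r t) :
    ((toOct h2 X : GL (Fin 8) F) : Matrix (Fin 8) (Fin 8) F) = M t (yTab r) := by
  obtain ⟨g, hM, hg⟩ := mem_pairSub_root h2 hr t
  rw [toOct_eq h2 X (hX ▸ hg), hM]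

theorem toOct_injective (h2 : (2 : F) = 0) : Function.Injective (toOct (F := F) h2) := by
  refine (injective_iff_map_eq_one _).2 fun X hX => ?_
  have h := (exists_pair h2 X.2).choose_spec
  rw [show (exists_pair h2 X.2).choose = (toOct h2 X : GL (Fin 8) F) from rfl, hX] at h
  refine Subtype.ext (Units.ext (Matrix.ext_iff_mulVec.2 fun v => Der_injective ?_))
  simpa using (h.2 v).symm

end CfsgLib.Chev.G2Oct
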