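import Mathlib
import Cfsg.Agent.Lib.Chev.TwistG2
import Cfsg.Agent.Lib.Chev.TorusH
import Cfsg.Agent.Lib.Classical.SLGen

/-!
The subgroup SL₃ of G₂ on the long roots, through the decomposition 14 = 8 + 3 + 3' of the algebra.
-/

set_option autoImplicit false
set_option maxHeartbeats 1600000
set_option maxRecDepth 100000
set_option linter.unusedSectionVars false
set_option linter.unusedSimpArgs false

namespace CfsgLib.Chev.G2SL3

open Cfsg.Lie Matrix

variable {R : Type*} [CommRing R]

/-- The model of the algebra as a module of SL₃. -/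
abbrev Mod3 (R : Type*) : Type _ := Matrix (Fin 3) (Fin 3) R × (Fin 3 → R) × (Fin 3 → R)

/-- The basis vectors of the model. -/
def bas : chevG2.Idx → Mod3 R
  | Sum.inl i => if i.val = 0 then (diagonal ![-1, 2, -1], 0, 0) else (diagonal ![1, -1, 0], 0, 0)
  | Sum.inr r =>
    match r.val with
    | 6 => (single 0 1 1, 0, 0)
    | 10 => (single 1 2 1, 0, 0)
    | 11 => (single 0 2 1, 0, 0)
    | 5 => (single 1 0 1, 0, 0)
    | 1 => (single 2 1 1, 0, 0)
    | 0 => (single 2 0 1, 0, 0)
    | 8 => (0, Pi.single 0 1, 0)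
    | 7 => (0, Pi.single 1 1, 0)
    | 2 => (0, Pi.single 2 1, 0)
    | 3 => (0, 0, Pi.single 0 1)
    | 4 => (0, 0, Pi.single 1 1)
    | _ => (0, 0, Pi.single 2 1)

/-- The coordinates of the model. -/
def coord : chevG2.Idx → Mod3 R → R
  | Sum.inl i, X => if i.val = 0 then -X.1 2 2 else X.1 0 0 - X.1 2 2
  | Sum.inr r, X =>
    match r.val with
    | 6 => X.1 0 1
    | 10 => X.1 1 2
    | 11 => X.1 0 2
    | 5 => X.1 1 0
    | 1 => X.1 2 1
    | 0 => X.1 2 0
    | 8 => X.2.1 0
    | 7 => X.2.1 1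
    | 2 => X.2.1 2
    | 3 => X.2.2 0
    | 4 => X.2.2 1
    | _ => X.2.2 2

/-- The action of a matrix and its inverse. -/
def act (g gi : Matrix (Fin 3) (Fin 3) R) (X : Mod3 R) : Mod3 R :=
  (g * X.1 * gi, g *ᵥ X.2.1, giᵀ *ᵥ X.2.2)

/-- The matrix on the algebra. -/
def psiMat (g gi : Matrix (Fin 3) (Fin 3) R) : Matrix chevG2.Idx chevG2.Idx R :=
  Matrix.of fun a b => coord a (act g gi (bas b))

lemma recon (X : Mod3 R) (h : X.1.trace = 0) : X = ∑ b, coord b X • bas b := by
  have h' : X.1 0 0 + X.1 1 1 + X.1 2 2 = 0 := by rw [← h, Matrix.trace_fin_three]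
  rw [show (∑ b, coord b X • bas b : Mod3 R) = ∑ b : Fin 2 ⊕ Fin 12, coord b X • bas b from rfl,
    Fintype.sum_sum_type, Finset.sum_fin_eq_sum_range, Finset.sum_fin_eq_sum_range]
  simp only [Finset.sum_range_succ, Finset.sum_range_zero, zero_add, Nat.reduceLT, dite_true]
  refine Prod.ext ?_ (Prod.ext ?_ ?_)
  · ext i j
    fin_cases i <;> fin_cases j <;> simp [coord, bas, Matrix.single_apply, Matrix.diagonal] <;>
      linear_combination h'
  · funext i; fin_cases i <;> simp [coord, bas]
  · funext i; fin_cases i <;> simp [coord, bas]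

lemma coord_add (a : chevG2.Idx) (X Y : Mod3 R) : coord a (X + Y) = coord a X + coord a Y := by
  rcases a with i | r
  · fin_cases i <;> simp [coord] <;> ring_nf
  · fin_cases r <;> simp [coord]

lemma coord_smul (a : chevG2.Idx) (c : R) (X : Mod3 R) : coord a (c • X) = c * coord a X := by
  rcases a with i | r
  · fin_cases i <;> simp [coord, mul_sub]
  · fin_cases r <;> simp [coord]

lemma coord_sum {ι : Type*} (a : chevG2.Idx) (s : Finset ι) (f : ι → Mod3 R) :
    coord a (∑ i ∈ s, f i) = ∑ i ∈ s, coord a (f i) := by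
  classical
  induction s using Finset.induction with
  | empty =>
    have := coord_smul a (0 : R) (0 : Mod3 R)
    simpa using this
  | insert b s hb ih => rw [Finset.sum_insert hb, Finset.sum_insert hb, coord_add, ih]

lemma act_sum (g gi : Matrix (Fin 3) (Fin 3) R) {ι : Type*} (s : Finset ι) (c : ι → R)
    (f : ι → Mod3 R) : act g gi (∑ i ∈ s, c i • f i) = ∑ i ∈ s, c i • act g gi (f i) := by
  classical
  induction s using Finset.induction with
  | empty => simp [act]
  | insert b s hb ih =>
    rw [Finset.sum_insert hb, Finset.sum_insert hb, ← ih]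
    simp [act, Matrix.mul_add, Matrix.add_mul, Matrix.mulVec_add, Matrix.mulVec_smul]

lemma bas_trace (b : chevG2.Idx) : (bas b : Mod3 R).1.trace = 0 := by
  rcases b with i | r
  · fin_cases i <;> simp [bas, Matrix.trace, Fin.sum_univ_three] <;> ring_nf
  · fin_cases r <;> simp [bas, Matrix.trace_fin_three]

theorem psiMat_mul (g gi h hi : Matrix (Fin 3) (Fin 3) R) (hh : hi * h = 1) :
    psiMat g gi * psiMat h hi = psiMat (g * h) (hi * gi) := by
  ext a c
  rw [Matrix.mul_apply]
  have e : act (g * h) (hi * gi) (bas c) = act g gi (act h hi (bas c : Mod3 R)) := by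
    simp [act, Matrix.mul_assoc, Matrix.mulVec_mulVec, Matrix.transpose_mul]
  have ht : (act h hi (bas c : Mod3 R)).1.trace = 0 := by
    show (h * _ * hi).trace = 0
    rw [Matrix.trace_mul_cycle, hh, Matrix.one_mul, bas_trace]
  simp only [psiMat, Matrix.of_apply]
  rw [e]
  conv_rhs => rw [recon _ ht, act_sum, coord_sum]
  simp only [coord_smul, mul_comm]

theorem psiMat_one : psiMat (1 : Matrix (Fin 3) (Fin 3) R) 1 = 1 := by
  ext a b
  simp only [psiMat, Matrix.of_apply, act, Matrix.one_mul, Matrix.mul_one, Matrix.transpose_one,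
    Matrix.one_mulVec]
  rcases a with i | r <;> rcases b with j | s
  · fin_cases i <;> fin_cases j <;> simp [coord, bas, Matrix.one_apply] <;> first | (intro h; exact absurd (Fin.ext_iff.1 h) (by decide)) | ring_nf
  · fin_cases i <;> fin_cases s <;> simp [coord, bas, Matrix.one_apply]
  · fin_cases r <;> fin_cases j <;> simp [coord, bas, Matrix.one_apply]
  · fin_cases r <;> fin_cases s <;> simp [coord, bas, Matrix.one_apply] <;> (intro h; exact absurd (Fin.ext_iff.1 h) (by decide))

variable (R) in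
/-- SL₃ into the matrices of the algebra. -/
def psi : Matrix.SpecialLinearGroup (Fin 3) R →* GL chevG2.Idx R :=
  MonoidHom.toHomUnits
    { toFun := fun g => psiMat (g : Matrix (Fin 3) (Fin 3) R) ((g⁻¹ :) : Matrix (Fin 3) (Fin 3) R)
      map_one' := by simp [psiMat_one]
      map_mul' := fun g h => by
        rw [psiMat_mul _ _ _ _ (by rw [← Matrix.SpecialLinearGroup.coe_mul, inv_mul_cancel,
          Matrix.SpecialLinearGroup.coe_one]), _root_.mul_inv_rev, Matrix.SpecialLinearGroup.coe_mul,
          Matrix.SpecialLinearGroup.coe_mul] }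

lemma psi_val (g : Matrix.SpecialLinearGroup (Fin 3) R) :
    ((psi R g : GL chevG2.Idx R) : Matrix chevG2.Idx chevG2.Idx R) =
      psiMat (g : Matrix (Fin 3) (Fin 3) R) ((g⁻¹ :) : Matrix (Fin 3) (Fin 3) R) := rfl

/-- The natural representation sits inside. -/
theorem psi_injective : Function.Injective (psi R) := by
  intro g h e
  have hv : psiMat (g : Matrix (Fin 3) (Fin 3) R) ((g⁻¹ :) : Matrix (Fin 3) (Fin 3) R) =
      psiMat (h : Matrix (Fin 3) (Fin 3) R) ((h⁻¹ :) : Matrix (Fin 3) (Fin 3) R) :=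
    congrArg Units.val e
  let sl : Fin 3 → chevG2.Idx := ![Sum.inr ⟨8, by decide⟩, Sum.inr ⟨7, by decide⟩, Sum.inr ⟨2, by decide⟩]
  have key : ∀ (A B : Matrix (Fin 3) (Fin 3) R) (i j : Fin 3), psiMat A B (sl i) (sl j) = A i j := by
    intro A B i j
    fin_cases i <;> fin_cases j <;> simp [sl, psiMat, coord, act, bas]
  refine Subtype.ext (Matrix.ext fun i j => ?_)
  rw [← key (g : Matrix (Fin 3) (Fin 3) R) ((g⁻¹ :) : Matrix (Fin 3) (Fin 3) R) i j, hv, key]

lemma coord_map {S : Type*} [CommRing S] (f : R →+* S) (a : chevG2.Idx) (A : Matrix (Fin 3) (Fin 3) R)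
    (v w : Fin 3 → R) : f (coord a (A, v, w)) = coord a (A.map f, f ∘ v, f ∘ w) := by
  rcases a with i | r
  · fin_cases i <;> simp [coord]
  · fin_cases r <;> simp [coord]

lemma bas_map {S : Type*} [CommRing S] (f : R →+* S) (b : chevG2.Idx) :
    ((bas b : Mod3 R).1.map f = (bas b : Mod3 S).1) ∧ f ∘ (bas b : Mod3 R).2.1 = (bas b : Mod3 S).2.1 ∧
      f ∘ (bas b : Mod3 R).2.2 = (bas b : Mod3 S).2.2 := by
  refine ⟨?_, ?_, ?_⟩
  · ext i j
    rcases b with k | r
    · fin_cases k <;> fin_cases i <;> fin_cases j <;> simp [bas, map_ofNat]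
    · fin_cases r <;> fin_cases i <;> fin_cases j <;> simp [bas]
  all_goals
    funext i
    rcases b with k | r
    · fin_cases k <;> fin_cases i <;> simp [bas]
    · fin_cases r <;> fin_cases i <;> simp [bas]

/-- Naturality in the ring. -/
theorem psi_map {S : Type*} [CommRing S] (f : R →+* S) (g : Matrix.SpecialLinearGroup (Fin 3) R) :
    Units.map f.mapMatrix.toMonoidHom (psi R g) = psi S (Matrix.SpecialLinearGroup.map f g) := by
  refine Units.ext (Matrix.ext fun a b => ?_)
  show f (psiMat _ _ a b) = psiMat _ _ a b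
  simp only [psiMat, Matrix.of_apply, act, coord_map]
  obtain ⟨h1, h2, h3⟩ := bas_map f b
  rw [← map_inv, ← h1, ← h2, ← h3]
  have hadj : (g : Matrix (Fin 3) (Fin 3) R).adjugate.map f =
      ((g : Matrix (Fin 3) (Fin 3) R).map f).adjugate := RingHom.map_adjugate f _
  congr 1
  refine Prod.ext ?_ (Prod.ext ?_ ?_)
  · simp [Matrix.map_mul, ← hadj]
  · funext i; simp [Matrix.mulVec, dotProduct]
  · funext i; simp [Matrix.mulVec, dotProduct, ← hadj]

section Field

variable {F : Type*} [Field F]

/-- The long roots of the off-diagonal places. -/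
def longRoot : Fin 3 → Fin 3 → ℕ := ![![99, 6, 11], ![5, 99, 10], ![0, 1, 99]]

/-- The integral coefficients of a root element. -/
def xCoef (r : Fin chevG2.nroots) : chevG2.Idx → chevG2.Idx → ℤ × ℤ × ℤ
  | Sum.inl i', Sum.inl i => (if i' = i then 1 else 0, 0, 0)
  | Sum.inr u, Sum.inl i =>
    (0, if u = r then -(chevG2.cartanSR.getD i.val #[]).getD r.val 0 else 0, 0)
  | row, Sum.inr s =>
    if s = r then (match row with | Sum.inr u => (if u = r then 1 else 0, 0, 0) | Sum.inl _ => (0, 0, 0))
    else if s.val = chevG2.negIdx.getD r.val 0 then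
      (match row with
       | Sum.inl i => (0, (chevG2.coroot.getD r.val #[]).getD i.val 0, 0)
       | Sum.inr u => if u = s then (1, 0, 0) else if u = r then (0, 0, -1) else (0, 0, 0))
    else
      (match row with
       | Sum.inl _ => (0, 0, 0)
       | Sum.inr u => (if u = s then 1 else 0, ((chevG2.chainCoeff r.val s.val u.val).map Prod.snd).sum, 0))

/-- A cast of a triple of coefficients. -/
def evalCoef (t : F) (c : ℤ × ℤ × ℤ) : F := c.1 + c.2.1 * t + c.2.2 * t ^ 2

lemma sum_chain (t : F) (l : List (ℕ × ℤ)) (h : ∀ km ∈ l, km.1 = 1) :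
    (l.map fun km => ((km.2 : ℤ) : F) * t ^ km.1).sum = (((l.map Prod.snd).sum : ℤ) : F) * t := by
  induction l with
  | nil => simp
  | cons a l ih =>
    rw [List.map_cons, List.sum_cons, List.map_cons, List.sum_cons, Int.cast_add, add_mul,
      ih fun km hk => h km (List.mem_cons_of_mem _ hk), h a List.mem_cons_self, pow_one]

lemma x_eval {r : Fin chevG2.nroots}
    (hr : ∀ s u : Fin chevG2.nroots, ∀ km ∈ chevG2.chainCoeff r.val s.val u.val, km.1 = 1) (t : F)
    (a b : chevG2.Idx) : chevG2.x F r.val t a b = evalCoef t (xCoef r a b) := by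
  simp only [ChevalleyDatum.x, dif_pos r.2, ChevalleyDatum.xMat, Matrix.of_apply, Fin.eta]
  rcases b with i | s
  · rcases a with i' | u <;> simp only [xCoef] <;> split_ifs <;> simp [evalCoef]
  · simp only [xCoef]
    split_ifs with h1 h2
    · rcases a with i | u <;> simp only [] <;> first | (split_ifs <;> simp [evalCoef]) | simp [evalCoef]
    · rcases a with i | u <;> simp only [] <;> first | (split_ifs <;> simp [evalCoef]) | simp [evalCoef]
    · rcases a with i | u <;> simp only []
      · simp [evalCoef]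
      · rw [sum_chain t _ (hr s u)]
        split_ifs <;> simp [evalCoef]

/-- The integral coefficients of the image of a transvection. -/
def psiCoef (i j : Fin 3) (a b : chevG2.Idx) : ℤ × ℤ × ℤ :=
  let E : Matrix (Fin 3) (Fin 3) ℤ := single i j 1
  let X : Mod3 ℤ := bas b
  (coord a X, coord a (E * X.1 - X.1 * E, E *ᵥ X.2.1, -(Eᵀ *ᵥ X.2.2)), coord a (-(E * X.1 * E), 0, 0))

lemma psi_eval (i j : Fin 3) (t : F) (a b : chevG2.Idx) :
    psiMat (1 + single i j t) (1 + single i j (-t)) a b = evalCoef t (psiCoef i j a b) := by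
  simp only [psiCoef, evalCoef]
  set E : Matrix (Fin 3) (Fin 3) ℤ := single i j 1
  have hE : E.map (Int.castRingHom F) = single i j (1 : F) := by
    ext x y; simp [E, Matrix.single_apply, apply_ite (Int.castRingHom F)]
  have h1 : single i j t = t • single i j (1 : F) := by simp [Matrix.smul_single]
  have h2 : single i j (-t) = -(t • single i j (1 : F)) := by rw [← h1, Matrix.single_neg]
  have e : act (1 + single i j t) (1 + single i j (-t)) (bas b : Mod3 F) = bas b +
      t • ((single i j 1 * (bas b : Mod3 F).1 - (bas b : Mod3 F).1 * single i j 1,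
        single i j 1 *ᵥ (bas b : Mod3 F).2.1, -((single i j 1)ᵀ *ᵥ (bas b : Mod3 F).2.2)) : Mod3 F) +
      t ^ 2 • ((-(single i j 1 * (bas b : Mod3 F).1 * single i j 1), 0, 0) : Mod3 F) := by
    rw [h1, h2]
    generalize single i j (1 : F) = G
    refine Prod.ext ?_ (Prod.ext ?_ ?_)
    · simp [act, Matrix.mul_add, Matrix.add_mul, Matrix.mul_assoc, smul_smul, sq]
      module
    · simp [act, Matrix.add_mulVec, Matrix.smul_mulVec]
    · simp [act, Matrix.add_mulVec, Matrix.smul_mulVec, Matrix.neg_mulVec]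
  show coord a _ = _
  rw [e, coord_add, coord_add, coord_smul, coord_smul]
  have hc : ∀ (M : Matrix (Fin 3) (Fin 3) ℤ) (v w : Fin 3 → ℤ),
      ((coord a ((M, v, w) : Mod3 ℤ) : ℤ) : F) = coord a ((M.map (Int.castRingHom F),
        Int.castRingHom F ∘ v, Int.castRingHom F ∘ w) : Mod3 F) := fun M v w =>
    coord_map (Int.castRingHom F) a M v w
  obtain ⟨b1, b2, b3⟩ := bas_map (Int.castRingHom F) b
  have k0 : ((coord a (bas b : Mod3 ℤ) : ℤ) : F) = coord a (bas b : Mod3 F) := by
    rw [show (bas b : Mod3 ℤ) = ((bas b : Mod3 ℤ).1, (bas b : Mod3 ℤ).2.1, (bas b : Mod3 ℤ).2.2) from rfl,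
      hc, b1, b2, b3]
  have d1 : (E * (bas b : Mod3 ℤ).1 - (bas b : Mod3 ℤ).1 * E).map (Int.castRingHom F) =
      single i j 1 * (bas b : Mod3 F).1 - (bas b : Mod3 F).1 * single i j 1 := by
    rw [Matrix.map_sub _ (map_sub _), Matrix.map_mul, Matrix.map_mul, hE, b1]
  have d2 : Int.castRingHom F ∘ (E *ᵥ (bas b : Mod3 ℤ).2.1) = single i j 1 *ᵥ (bas b : Mod3 F).2.1 := by
    funext x; rw [Function.comp_apply, RingHom.map_mulVec, hE, b2]
  have d3 : Int.castRingHom F ∘ (-(Eᵀ *ᵥ (bas b : Mod3 ℤ).2.2)) =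
      -((single i j 1)ᵀ *ᵥ (bas b : Mod3 F).2.2) := by
    funext x; rw [Function.comp_apply, Pi.neg_apply, Pi.neg_apply, map_neg, RingHom.map_mulVec,
      Matrix.transpose_map, hE, b3]
  have d4 : (-(E * (bas b : Mod3 ℤ).1 * E)).map (Int.castRingHom F) =
      -(single i j 1 * (bas b : Mod3 F).1 * single i j 1) := by
    rw [Matrix.map_neg _ (map_neg _), Matrix.map_mul, Matrix.map_mul, hE, b1]
  have d5 : (Int.castRingHom F) ∘ (0 : Fin 3 → ℤ) = 0 := by funext x; simp
  rw [k0, hc, hc, d1, d2, d3, d4, d5]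
  ring

theorem psi_transvection {i j : Fin 3} (hij : i ≠ j) (c : F) :
    psi F (Matrix.SpecialLinearGroup.transvection hij c) = goodG2.xG (longRoot i j) c := by
  refine Units.ext (Matrix.ext fun a b => ?_)
  rw [psi_val, goodG2.coe_xG, Matrix.SpecialLinearGroup.transvection_inv,
    Matrix.SpecialLinearGroup.transvection_coe, Matrix.SpecialLinearGroup.transvection_coe, psi_eval]
  have hchk : ∀ i j : Fin 3, i ≠ j → ∃ r : Fin chevG2.nroots, r.val = longRoot i j ∧
      (∀ s u : Fin chevG2.nroots, ∀ km ∈ chevG2.chainCoeff r.val s.val u.val, km.1 = 1) ∧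
      ∀ a b, psiCoef i j a b = xCoef r a b := by
    decide +kernel
  obtain ⟨r, hr, hch, hco⟩ := hchk i j hij
  rw [hco, ← hr, x_eval hch]

/-- The image lies in the group. -/
theorem psi_mem (g : Matrix.SpecialLinearGroup (Fin 3) F) : psi F g ∈ chevG2.group F := by
  have h : ((chevG2.group F).comap (psi F)) = ⊤ := by
    refine CfsgLib.Classical.sl_transvection_induction _ fun i j hij c => ?_
    rw [Subgroup.mem_comap, psi_transvection hij c]
    refine goodG2.xG_mem_group ?_ _
    have : ∀ i j : Fin 3, i ≠ j → longRoot i j < chevG2.nroots := by decide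
    exact this i j hij
  exact Subgroup.mem_comap.1 (h ▸ Subgroup.mem_top g)

end Field

end CfsgLib.Chev.G2SL3
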