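import Mathlib
import Cfsg.Agent.Lib.Chev.G2SL3
import Cfsg.Agent.Lib.Chev.TorusCentral
import Cfsg.Agent.Lib.Chev.CommGood

/-!
The self-centralising cyclic torus of order q² + q + 1 in G₂(q).
-/

set_option autoImplicit false
set_option maxHeartbeats 1600000
set_option maxRecDepth 100000
set_option linter.unusedSimpArgs false

namespace CfsgLib.Chev.G2Torus

open Cfsg.Lie Matrix G2SL3

lemma xMat_eq_x {L : Type*} [Field L] (r : Fin chevG2.nroots) (s : L) :
    chevG2.xMat L r s = chevG2.x L r.val s := by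
  simp [ChevalleyDatum.x, r.2]

/-- Entrywise application of a ring homomorphism. -/
def baseGL {F K : Type*} [Field F] [Field K] (f : F →+* K) : GL chevG2.Idx F →* GL chevG2.Idx K :=
  Units.map f.mapMatrix.toMonoidHom

lemma baseGL_injective {F K : Type*} [Field F] [Field K] (f : F →+* K) :
    Function.Injective (baseGL f) :=
  fun _ _ h => Units.ext (Matrix.map_injective f.injective (congrArg Units.val h))

lemma baseGL_mem {F K : Type*} [Field F] [Field K] (f : F →+* K) {x : GL chevG2.Idx F}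
    (hx : x ∈ chevG2.group F) : baseGL f x ∈ chevG2.group K := by
  have h : chevG2.group F ≤ (chevG2.group K).comap (baseGL f) := by
    refine (Subgroup.closure_le _).2 ?_
    rintro g ⟨r, t, hg⟩
    refine Subgroup.subset_closure ⟨r, f t, ?_⟩
    show (g : Matrix chevG2.Idx chevG2.Idx F).map f = _
    rw [hg]
    rw [xMat_eq_x, xMat_eq_x, goodG2.x_eq_xr r.2, goodG2.x_eq_xr r.2, xr_map]
  exact Subgroup.mem_comap.1 (h hx)

/-- An element fixed by the Frobenius of order `q` lies in the base field. -/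
lemma fixed_mem {F K : Type*} [Field F] [Fintype F] [Field K] (f : F →+* K) {z : K}
    (hz : z ^ Fintype.card F = z) : ∃ a, f a = z := by
  classical
  by_contra hne
  push Not at hne
  set P : Polynomial K := Polynomial.X ^ Fintype.card F - Polynomial.X with hP
  have hP0 : P ≠ 0 := FiniteField.X_pow_card_sub_X_ne_zero K Fintype.one_lt_card
  have hsub : insert z (Finset.univ.image f) ⊆ P.roots.toFinset := by
    intro w hw
    rw [Multiset.mem_toFinset, Polynomial.mem_roots hP0]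
    rcases Finset.mem_insert.1 hw with rfl | hw
    · simp [hP, hz]
    · obtain ⟨a, -, rfl⟩ := Finset.mem_image.1 hw
      simp [hP, ← map_pow, FiniteField.pow_card]
  have h1 := (Finset.card_le_card hsub).trans (Multiset.toFinset_card_le _) |>.trans (P.card_roots')
  rw [hP, FiniteField.X_pow_card_sub_X_natDegree_eq K Fintype.one_lt_card, Finset.card_insert_of_notMem (by
    simpa using hne), Finset.card_image_of_injective _ f.injective, Finset.card_univ] at h1
  omega

variable {K : Type*} [Field K]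

/-- The diagonal matrices of determinant one. -/
def dSL (d : Fin 3 → K) (h : d 0 * d 1 * d 2 = 1) : Matrix.SpecialLinearGroup (Fin 3) K :=
  ⟨diagonal d, by rw [Matrix.det_diagonal, Fin.prod_univ_three, h]⟩

/-- The weights of the model at a diagonal matrix. -/
def wtMu (d : Fin 3 → K) : chevG2.Idx → K
  | Sum.inl _ => 1
  | Sum.inr r =>
    match r.val with
    | 0 => d 2 * d 1 * d 2
    | 1 => d 2 * d 0 * d 2
    | 2 => d 2
    | 3 => d 1 * d 2
    | 4 => d 0 * d 2
    | 5 => d 1 * d 1 * d 2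
    | 6 => d 0 * d 0 * d 2
    | 7 => d 1
    | 8 => d 0
    | 9 => d 0 * d 1
    | 10 => d 1 * d 0 * d 1
    | _ => d 0 * d 0 * d 1

/-- The first row of Cartan integers. -/
def rowA : ℕ → ℤ
  | 1 => -3
  | 2 => -1
  | 3 => 1
  | 4 => -2
  | 5 => 3
  | 6 => -3
  | 7 => 2
  | 8 => -1
  | 9 => 1
  | 10 => 3
  | _ => 0

/-- The second row of Cartan integers. -/
def rowB : ℕ → ℤ
  | 0 => -1
  | 1 => 1
  | 3 => -1
  | 4 => 1
  | 5 => -2
  | 6 => 2
  | 7 => -1
  | 8 => 1
  | 10 => -1
  | 11 => 1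
  | _ => 0

lemma cartan_rows : ∀ r : Fin 12,
    chevG2.cartan 0 r.val = rowA r.val ∧ chevG2.cartan 1 r.val = rowB r.val := by
  decide

lemma act_diag (d : Fin 3 → K) (h : d 0 * d 1 * d 2 = 1) (b : chevG2.Idx) :
    act (diagonal d) (diagonal ![d 1 * d 2, d 0 * d 2, d 0 * d 1]) (bas b : Mod3 K) =
      wtMu d b • bas b := by
  rcases b with i | r
  · refine Prod.ext ?_ (Prod.ext ?_ ?_)
    · ext x y
      fin_cases i <;> fin_cases x <;> fin_cases y <;>
        simp [act, bas, wtMu, Matrix.mul_apply, Fin.sum_univ_three, Matrix.diagonal] <;>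
        first
          | linear_combination -h
          | linear_combination h
          | linear_combination (2 : K) * h
    · fin_cases i <;> simp [act, bas, wtMu]
    · fin_cases i <;> simp [act, bas, wtMu]
  · refine Prod.ext ?_ (Prod.ext ?_ ?_)
    · ext x y
      fin_cases r <;> fin_cases x <;> fin_cases y <;>
        simp [act, bas, wtMu, Matrix.mul_apply, Fin.sum_univ_three, Matrix.diagonal, Matrix.single_apply] <;>
        ring
    · funext x
      fin_cases r <;> fin_cases x <;> simp [act, bas, wtMu, Matrix.mulVec, dotProduct, Fin.sum_univ_three]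
    · funext x
      fin_cases r <;> fin_cases x <;> simp [act, bas, wtMu, Matrix.mulVec, dotProduct, Fin.sum_univ_three]

lemma psi_dSL (c : Fin chevG2.rank → Kˣ) (d : Fin 3 → K) (h : d 0 * d 1 * d 2 = 1)
    (h0 : d 0 = (c (1 : Fin 2) : K) * (c (0 : Fin 2) : K)⁻¹)
    (h2 : d 2 = (c (0 : Fin 2) : K)⁻¹) : psi K (dSL d h) = torHom chevG2 K c := by
  have hc0 := (c (0 : Fin 2)).ne_zero
  have hc1 := (c (1 : Fin 2)).ne_zero
  have h1 : d 1 = (c (0 : Fin 2) : K) ^ 2 * (c (1 : Fin 2) : K)⁻¹ := by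
    rw [h0, h2] at h
    field_simp at h ⊢
    linear_combination h
  refine Units.ext ?_
  rw [psi_val, torHom_apply]
  have hinv : ((dSL d h)⁻¹ : Matrix.SpecialLinearGroup (Fin 3) K).1 =
      diagonal ![d 1 * d 2, d 0 * d 2, d 0 * d 1] := by
    rw [Matrix.SpecialLinearGroup.coe_inv]
    ext i j
    fin_cases i <;> fin_cases j <;> simp [dSL, Matrix.adjugate_fin_three, Matrix.diagonal]
  rw [hinv]
  have hone : ∀ a b : chevG2.Idx, coord a (bas b : Mod3 K) = (1 : Matrix chevG2.Idx chevG2.Idx K) a b := by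
    intro a b
    rw [← psiMat_one]
    simp [psiMat, act]
  refine Matrix.ext fun a b => ?_
  show coord a (act (diagonal d) _ (bas b)) = _
  rw [act_diag d h, coord_smul, hone, Matrix.one_apply, Matrix.diagonal_apply]
  by_cases hab : a = b
  · subst hab
    rw [if_pos rfl, if_pos rfl, mul_one]
    rcases a with i | r
    · simp [wtMu, torExp]
    · obtain ⟨e0, e1⟩ := cartan_rows r
      rw [show (∏ i : Fin chevG2.rank, c i ^ torExp chevG2 i (Sum.inr r)) =
        ∏ i : Fin 2, c i ^ chevG2.cartan i r.val from rfl, Fin.prod_univ_two,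
        show ((0 : Fin 2) : ℕ) = 0 from rfl, show ((1 : Fin 2) : ℕ) = 1 from rfl, e0, e1]
      simp only [wtMu, h0, h1, h2, Units.val_mul, Units.val_zpow_eq_zpow_val]
      fin_cases r <;> simp [rowA, rowB, _root_.zpow_neg] <;> field_simp
  · rw [if_neg hab, if_neg hab, mul_zero]

/-- The twelve exponents of the roots at the torus element, modulo q² + q + 1. -/
def expo (q : ℤ) : Fin 12 → ℤ :=
  ![-q - 2, -2 * q - 1, -q - 1, -1, -q, q - 1, 1 - q, q, 1, q + 1, 2 * q + 1, q + 2]

lemma expo_distinct {q : ℤ} (hq : 3 ≤ q) :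
    (∀ r, ¬ (q ^ 2 + q + 1 ∣ expo q r)) ∧
      ∀ r s, q ^ 2 + q + 1 ∣ expo q r - expo q s → r = s := by
  rcases eq_or_lt_of_le hq with rfl | h4
  · decide
  have hn : 4 * q + 2 < q ^ 2 + q + 1 := by nlinarith
  have hb : ∀ r, -(2 * q + 1) ≤ expo q r ∧ expo q r ≤ 2 * q + 1 := by
    intro r; fin_cases r <;> simp [expo] <;> omega
  constructor
  · intro r hd
    have : expo q r = 0 := Int.eq_zero_of_abs_lt_dvd hd (by
      rw [abs_lt]; obtain ⟨h1, h2⟩ := hb r; constructor <;> linarith)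
    fin_cases r <;> simp [expo] at this <;> omega
  · intro r s hd
    have : expo q r - expo q s = 0 := Int.eq_zero_of_abs_lt_dvd hd (by
      rw [abs_lt]; obtain ⟨h1, h2⟩ := hb r; obtain ⟨h3, h4⟩ := hb s; constructor <;> linarith)
    fin_cases r <;> fin_cases s <;> first | rfl | (simp [expo] at this <;> omega)

/-- The torus. -/
theorem exists_torus (F : Type*) [Field F] [Fintype F] (q : ℕ) (hF : Fintype.card F = q) (hq : 3 ≤ q) :
    ∃ H : Subgroup ↥(chevG2.group F), IsCyclic ↥H ∧ Nat.card ↥H = q ^ 2 + q + 1 ∧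
      Subgroup.centralizer (H : Set ↥(chevG2.group F)) = H := by
  classical
  set p := ringChar F
  haveI : Fact p.Prime := ⟨CharP.char_is_prime F p⟩
  let L := FiniteField.Extension F p 3
  haveI : Fintype L := Fintype.ofFinite L
  have hL : Fintype.card L = q ^ 3 := by
    rw [← Nat.card_eq_fintype_card, FiniteField.natCard_extension, Nat.card_eq_fintype_card, hF]
  let ι : F →+* L := algebraMap F L
  let σ : L →+* L := (FiniteField.Extension.frob F p 3).toRingEquiv.toRingHom
  have hσ : ∀ x : L, σ x = x ^ q := fun x => by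
    rw [← hF, ← Nat.card_eq_fintype_card]; exact FiniteField.Extension.frob_apply ..
  have hσι : ∀ a : F, σ (ι a) = ι a := fun a => by
    rw [hσ, ← map_pow, ← hF, FiniteField.pow_card]
  -- a root of unity of order n
  obtain ⟨γ, hγ⟩ := IsCyclic.exists_generator (α := Lˣ)
  set n := q ^ 2 + q + 1 with hn
  have hγo : orderOf γ = (q - 1) * n := by
    rw [orderOf_eq_card_of_forall_mem_zpowers hγ, Nat.card_units, Nat.card_eq_fintype_card, hL]
    obtain ⟨m, rfl⟩ : ∃ m, q = m + 1 := ⟨q - 1, by omega⟩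
    simp only [hn, Nat.add_sub_cancel]
    rw [show (m + 1) ^ 3 = m * ((m + 1) ^ 2 + (m + 1) + 1) + 1 by ring, Nat.add_sub_cancel]
  set w : Lˣ := γ ^ (q - 1) with hw
  have hwo : orderOf w = n := by
    rw [hw, orderOf_pow_of_dvd (by omega) (hγo ▸ dvd_mul_right _ _), hγo,
      Nat.mul_div_cancel_left _ (by omega)]
  set ω : L := (w : L) with hω
  have hωn : ω ^ n = 1 := by
    rw [hω, ← Units.val_pow_eq_pow_val, ← hwo, pow_orderOf_eq_one, Units.val_one]
  have hω0 : ω ≠ 0 := w.ne_zero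
  have hωq3 : ω ^ (q ^ 3) = ω := by rw [← hL, FiniteField.pow_card]
  let wv : Fin 3 → L := ![ω, ω ^ q, ω ^ (q ^ 2)]
  have hσw : ∀ i, σ (wv i) = wv (i + 1) := by
    intro i
    fin_cases i <;> simp [wv, hσ, ← pow_mul]
    · rw [← sq]
    · rw [show q ^ 2 * q = q ^ 3 by ring, hωq3]
  have hzp : ∀ a : ℤ, w ^ a = 1 ↔ (n : ℤ) ∣ a := fun a => by
    rw [← hwo, orderOf_dvd_iff_zpow_eq_one]
  have hzz : ∀ a b : ℤ, w ^ a = w ^ b ↔ (n : ℤ) ∣ a - b := fun a b => by
    rw [← hzp, _root_.zpow_sub, mul_inv_eq_one]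
  obtain ⟨hne, hdist⟩ := expo_distinct (q := (q : ℤ)) (by exact_mod_cast hq)
  have hn' : (n : ℤ) = (q : ℤ) ^ 2 + q + 1 := by simp [hn]
  have hwinj : Function.Injective wv := by
    have key : ∀ a b : ℕ, ω ^ a = ω ^ b → (n : ℤ) ∣ (a : ℤ) - b := fun a b h => by
      refine (hzz _ _).1 (Units.ext ?_)
      rwa [zpow_natCast, zpow_natCast, Units.val_pow_eq_pow_val, Units.val_pow_eq_pow_val]
    have k01 : ω ≠ ω ^ q := fun h => by
      have := key 1 q (by rwa [pow_one])
      rw [hn'] at this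
      have h2 := hne 6
      simp [expo] at h2
      exact h2 (by simpa using this)
    intro i j h
    have k12 : ω ^ q ≠ ω ^ (q ^ 2) := fun h => k01 (σ.injective (by rw [hσ, hσ, ← pow_mul, ← sq, h]))
    have k20 : ω ^ (q ^ 2) ≠ ω := fun h => k01 (σ.injective (σ.injective (by
      rw [hσ, hσ, hσ, hσ, ← pow_mul, ← pow_mul,
        show q * q * q = q ^ 3 by ring, hωq3, ← sq, h])))
    fin_cases i <;> fin_cases j <;>
      simp [wv, k01, k12, k20, k01.symm, k12.symm, k20.symm] at h <;> rfl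
  -- the companion matrix
  have hE1 : σ (wv 0 + wv 1 + wv 2) = wv 0 + wv 1 + wv 2 := by
    rw [map_add, map_add, hσw, hσw, hσw]; show wv 1 + wv 2 + wv 0 = _; ring
  have hE2 : σ (wv 0 * wv 1 + wv 1 * wv 2 + wv 2 * wv 0) = wv 0 * wv 1 + wv 1 * wv 2 + wv 2 * wv 0 := by
    simp only [map_add, map_mul, hσw]; show wv 1 * wv 2 + wv 2 * wv 0 + wv 0 * wv 1 = _; ring
  obtain ⟨e1, he1⟩ := fixed_mem ι (z := wv 0 + wv 1 + wv 2) (by rw [hF, ← hσ, hE1])
  obtain ⟨e2, he2⟩ := fixed_mem ι (z := wv 0 * wv 1 + wv 1 * wv 2 + wv 2 * wv 0) (by rw [hF, ← hσ, hE2])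
  have hprod : wv 0 * wv 1 * wv 2 = 1 := by
    show ω * ω ^ q * ω ^ (q ^ 2) = 1
    rw [← hωn, hn]; ring
  let C : Matrix.SpecialLinearGroup (Fin 3) F :=
    ⟨!![0, 0, 1; 1, 0, -e2; 0, 1, e1], by simp [Matrix.det_fin_three]⟩
  let CL : Matrix.SpecialLinearGroup (Fin 3) L := Matrix.SpecialLinearGroup.map ι C
  let Dw : Matrix.SpecialLinearGroup (Fin 3) L := dSL wv hprod
  -- the eigenvectors
  let V : Matrix (Fin 3) (Fin 3) L := Matrix.vandermonde wv
  have hV : V.det ≠ 0 := Matrix.det_vandermonde_ne_zero_iff.2 hwinj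
  have hVC : V * (CL : Matrix (Fin 3) (Fin 3) L) = diagonal wv * V := by
    have hroot : ∀ i, wv i ^ 3 = (wv 0 + wv 1 + wv 2) * wv i ^ 2 -
        (wv 0 * wv 1 + wv 1 * wv 2 + wv 2 * wv 0) * wv i + 1 := by
      intro i
      have h := hprod
      fin_cases i <;> simp only [Fin.reduceFinMk, Fin.zero_eta] <;> linear_combination h
    have hCv : (CL : Matrix (Fin 3) (Fin 3) L) =
        !![0, 0, 1; 1, 0, -(wv 0 * wv 1 + wv 1 * wv 2 + wv 2 * wv 0); 0, 1, wv 0 + wv 1 + wv 2] := by
      ext a b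
      show (!![(0 : F), 0, 1; 1, 0, -e2; 0, 1, e1].map ι) a b = _
      fin_cases a <;> fin_cases b <;> simp [he1, he2]
    ext i j
    rw [Matrix.diagonal_mul, Matrix.mul_apply, Fin.sum_univ_three, hCv]
    fin_cases j
    · simp [V, Matrix.vandermonde]
    · simp [V, Matrix.vandermonde]; ring
    · simp [V, Matrix.vandermonde]; linear_combination -(hroot i)
  let s : Fin 3 → L := ![V.det⁻¹, 1, 1]
  let V' : Matrix.SpecialLinearGroup (Fin 3) L :=
    ⟨diagonal s * V, by rw [Matrix.det_mul, Matrix.det_diagonal, Fin.prod_univ_three]; simp [s]; exact inv_mul_cancel₀ hV⟩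
  have hconj : V' * CL = Dw * V' := by
    refine Subtype.ext ?_
    show diagonal s * V * (CL : Matrix (Fin 3) (Fin 3) L) = diagonal wv * (diagonal s * V)
    rw [Matrix.mul_assoc, hVC, ← Matrix.mul_assoc, ← Matrix.mul_assoc, Matrix.diagonal_mul_diagonal,
      Matrix.diagonal_mul_diagonal]
    simp_rw [mul_comm]
  have hCL : CL = V'⁻¹ * Dw * V' := by rw [mul_assoc, ← hconj]; group
  have hDw : ∀ k : ℕ, ((Dw ^ k :) : Matrix (Fin 3) (Fin 3) L) = diagonal (fun i => wv i ^ k) := by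
    intro k
    rw [Matrix.SpecialLinearGroup.coe_pow]
    show diagonal wv ^ k = _
    rw [Matrix.diagonal_pow]
    rfl
  have hDwo : orderOf Dw = n := by
    rw [← hwo]
    refine orderOf_eq_orderOf_iff.2 fun k => ?_
    constructor
    · intro h
      have h' := congrArg (fun M : Matrix.SpecialLinearGroup (Fin 3) L => M.1 0 0) h
      simp only [hDw, Matrix.SpecialLinearGroup.coe_one, Matrix.diagonal_apply_eq, Matrix.one_apply_eq] at h'
      exact Units.ext (by rw [Units.val_pow_eq_pow_val]; exact h')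
    · intro h
      have h' : ω ^ k = 1 := by rw [hω, ← Units.val_pow_eq_pow_val, h, Units.val_one]
      refine Subtype.ext ?_
      rw [hDw, Matrix.SpecialLinearGroup.coe_one, ← Matrix.diagonal_one]
      congr 1
      funext i
      fin_cases i <;> simp [wv, ← pow_mul, mul_comm _ k] <;> simp [pow_mul, h']
  -- the subgroup
  let h : ↥(chevG2.group F) := ⟨psi F C, psi_mem C⟩
  have hb : baseGL ι (psi F C) = psi L CL := psi_map ι C
  have hho : orderOf h = n := by
    rw [← Subgroup.orderOf_coe, ← orderOf_injective (baseGL ι) (baseGL_injective ι), hb,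
      orderOf_injective (psi L) psi_injective, hCL,
      show V'⁻¹ * Dw * V' = MulAut.conj V'⁻¹ Dw by simp]
    exact (orderOf_injective (MulAut.conj V'⁻¹).toMonoidHom (MulEquiv.injective _) Dw).trans hDwo
  refine ⟨Subgroup.zpowers h, inferInstance, (Nat.card_zpowers h).trans hho, le_antisymm ?_ ?_⟩
  swap
  · intro z hz
    refine Subgroup.mem_centralizer_iff.2 fun y hy => ?_
    obtain ⟨a, rfl⟩ := Subgroup.mem_zpowers_iff.1 hy
    obtain ⟨b, rfl⟩ := Subgroup.mem_zpowers_iff.1 hz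
    rw [← _root_.zpow_add, ← _root_.zpow_add, add_comm]
  intro z hz
  have hzh : h * z = z * h := Subgroup.mem_centralizer_iff.1 hz h (Subgroup.mem_zpowers h)
  set X := baseGL ι (z : GL chevG2.Idx F) with hX
  have hXc : psi L CL * X = X * psi L CL := by
    rw [← hb, hX, ← map_mul, ← map_mul]
    exact congrArg (baseGL ι) (congrArg Subtype.val hzh)
  set y := psi L V' * X * (psi L V')⁻¹ with hy
  let c : Fin chevG2.rank → Lˣ := ![(w ^ q ^ 2)⁻¹, w * (w ^ q ^ 2)⁻¹]
  have hc0 : ((c (0 : Fin 2) : Lˣ) : L) = (ω ^ q ^ 2)⁻¹ := by simp [c, hω]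
  have hc1 : ((c (1 : Fin 2) : Lˣ) : L) = ω * (ω ^ q ^ 2)⁻¹ := by simp [c, hω]
  have ht : psi L Dw = torHom chevG2 L c := psi_dSL c wv hprod
    (by rw [hc0, hc1, inv_inv, mul_assoc, inv_mul_cancel₀ (pow_ne_zero _ hω0), mul_one]; rfl)
    (by rw [hc0, inv_inv]; rfl)
  have hval : ∀ r : Fin 12, rootVal c r.val = w ^ expo q r := by
    intro r
    have hq2 : (w ^ q ^ 2 : Lˣ) = w ^ (-(q : ℤ) - 1) := by
      rw [← zpow_natCast, hzz, hn']; exact ⟨1, by push_cast; ring⟩
    obtain ⟨a0, a1⟩ := cartan_rows r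
    simp only [rootVal]
    rw [show (∏ i : Fin chevG2.rank, c i ^ chevG2.cartan i r.val) =
      ∏ i : Fin 2, c i ^ chevG2.cartan i r.val from rfl, Fin.prod_univ_two,
      show ((0 : Fin 2) : ℕ) = 0 from rfl, show ((1 : Fin 2) : ℕ) = 1 from rfl, a0, a1]
    have k0 : c (0 : Fin 2) = w ^ ((q : ℤ) + 1) := by
      show (w ^ q ^ 2)⁻¹ = _
      rw [hq2, ← _root_.zpow_neg]; congr 1; ring
    have k1 : c (1 : Fin 2) = w ^ ((q : ℤ) + 2) := by
      show w * (w ^ q ^ 2)⁻¹ = _
      rw [hq2, ← _root_.zpow_neg, ← _root_.zpow_one_add]; congr 1; ring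
    rw [k0, k1, ← _root_.zpow_mul, ← _root_.zpow_mul, ← _root_.zpow_add]
    congr 1
    fin_cases r <;> simp [rowA, rowB, expo] <;> ring
  have hyd : y ∈ chevG2.diagonalSubgroup L := by
    refine goodG2.centralizer_regular ⟨_, commG2⟩ (c := c) ?_ ?_
      (mul_mem (mul_mem (psi_mem _) (baseGL_mem ι z.2)) (inv_mem (psi_mem _))) ?_
    · intro r hr
      rw [hval ⟨r, hr⟩, ne_eq, hzp, hn']
      exact hne _
    · intro r r' h
      rw [hval r, hval r', hzz, hn'] at h
      exact hdist r r' h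
    · rw [← ht, hy, show Dw = V' * CL * V'⁻¹ by rw [hconj, mul_inv_cancel_right],
        map_mul, map_mul, map_inv]
      calc psi L V' * X * (psi L V')⁻¹ * (psi L V' * psi L CL * (psi L V')⁻¹)
          = psi L V' * (X * psi L CL) * (psi L V')⁻¹ := by group
        _ = psi L V' * (psi L CL * X) * (psi L V')⁻¹ := by rw [hXc]
        _ = _ := by group
  rw [goodG2.diagonal_eq_range] at hyd
  obtain ⟨c', hc'⟩ := hyd
  let d : Fin 3 → L := ![(c' (1 : Fin 2) : L) * (c' (0 : Fin 2) : L)⁻¹,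
    (c' (0 : Fin 2) : L) ^ 2 * (c' (1 : Fin 2) : L)⁻¹, (c' (0 : Fin 2) : L)⁻¹]
  have hd : d 0 * d 1 * d 2 = 1 := by
    have key : ∀ a b : L, a ≠ 0 → b ≠ 0 → b * a⁻¹ * (a ^ 2 * b⁻¹) * a⁻¹ = 1 := fun a b ha hb => by
      rw [show b * a⁻¹ * (a ^ 2 * b⁻¹) * a⁻¹ = (b * b⁻¹) * ((a * a⁻¹) * (a * a⁻¹)) by ring,
        mul_inv_cancel₀ hb, mul_inv_cancel₀ ha, one_mul, one_mul]
    exact key _ _ (c' (0 : Fin 2)).ne_zero (c' (1 : Fin 2)).ne_zero
  rw [← psi_dSL c' d hd rfl rfl, hy] at hc'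
  set M := V'⁻¹ * dSL d hd * V' with hM
  have hXM : X = psi L M := by
    rw [hM, map_mul, map_mul, map_inv, hc']; group
  have hfix : Matrix.SpecialLinearGroup.map σ M = M := by
    refine psi_injective ?_
    rw [← psi_map, ← hXM]
    refine Units.ext (Matrix.ext fun a b => ?_)
    exact hσι _
  have hVM : V * (M : Matrix (Fin 3) (Fin 3) L) = diagonal d * V := by
    have h1 : V' * M = dSL d hd * V' := by rw [hM]; group
    have h1' := congrArg Subtype.val h1
    replace h1' : diagonal s * V * (M : Matrix (Fin 3) (Fin 3) L) =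
        diagonal d * (diagonal s * V) := h1'
    rw [← Matrix.mul_assoc, Matrix.diagonal_mul_diagonal, Matrix.mul_assoc] at h1'
    simp_rw [mul_comm (d _)] at h1'
    rw [← Matrix.diagonal_mul_diagonal, Matrix.mul_assoc] at h1'
    have hs : ∀ i, s i ≠ 0 := by intro i; fin_cases i <;> simp [s, hV]
    ext i j
    have := congrFun (congrFun h1' i) j
    rw [Matrix.diagonal_mul, Matrix.diagonal_mul] at this
    exact mul_left_cancel₀ (hs i) this
  have hshift : ∀ i, σ (d i) = d (i + 1) := by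
    intro i
    have h1 : ∀ i : Fin 3, (V * (M : Matrix (Fin 3) (Fin 3) L)) i 0 = d i := fun i => by
      rw [hVM, Matrix.diagonal_mul]; simp [V, Matrix.vandermonde]
    rw [← h1 i, ← h1 (i + 1), Matrix.mul_apply, Matrix.mul_apply, map_sum]
    refine Finset.sum_congr rfl fun k _ => ?_
    rw [map_mul]
    congr 1
    · simp [V, Matrix.vandermonde, hσw]
    · exact congrFun (congrFun (congrArg Subtype.val hfix) k) 0
  have hd1 : d 1 = d 0 ^ q := by rw [← hσ, hshift]; rfl
  have hd2 : d 2 = d 0 ^ q ^ 2 := by rw [sq, pow_mul, ← hd1, ← hσ, hshift]; rfl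
  have hd0n : d 0 ^ n = 1 := by
    rw [← hd, hd1, hd2, hn]; ring
  have hprim : IsPrimitiveRoot ω n := by
    rw [← hwo, ← orderOf_units, ← hω]; exact IsPrimitiveRoot.orderOf ω
  haveI : NeZero n := ⟨by omega⟩
  obtain ⟨k, -, hk⟩ := hprim.eq_pow_of_pow_eq_one hd0n
  have hdD : dSL d hd = Dw ^ k := by
    refine Subtype.ext ?_
    rw [hDw]
    show diagonal d = _
    congr 1
    funext i
    fin_cases i
    · simp [wv, hk]
    · show d 1 = wv 1 ^ k
      rw [hd1, ← hk]; simp [wv, ← pow_mul, mul_comm]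
    · show d 2 = wv 2 ^ k
      rw [hd2, ← hk]; simp [wv, ← pow_mul, mul_comm]
  have hXk : X = baseGL ι ((psi F C) ^ k) := by
    rw [hXM, hM, hdD, map_pow, hb, ← map_pow]
    congr 1
    rw [hCL, show V'⁻¹ * Dw * V' = MulAut.conj V'⁻¹ Dw by simp, ← map_pow]
    simp
  refine Subgroup.mem_zpowers_iff.2 ⟨k, Subtype.ext ?_⟩
  rw [zpow_natCast]
  exact (baseGL_injective ι hXk).symm

end CfsgLib.Chev.G2Torus
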