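import Mathlib
import Cfsg.Agent.Lib.Chev.G2OctHom
import Cfsg.Agent.Lib.Chev.G2InvolBasic
import Cfsg.Agent.Lib.Chev.G2Torus

/-!
Elements of the orders `8`, `12`, `2(q ± 1)`, `q² - 1` in `G₂(q)`, `q` even.
-/

set_option autoImplicit false
set_option maxRecDepth 100000

namespace CfsgLib.Chev.G2Oct

open Cfsg.Lie Matrix CfsgLib.Chev CfsgLib.Chev.G2Invol CfsgLib.Chev.G2SL3 CfsgLib.Chev.G2Torus

/-- A matrix diagonalised over a bigger field has the order of its eigenvalues. -/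
theorem orderOf_of_eigen {K E : Type*} [Field K] [Field E] (ι : K →+* E) {n : ℕ}
    (A : Matrix.SpecialLinearGroup (Fin n) K) {V : Matrix (Fin n) (Fin n) E} (hV : V.det ≠ 0) {l : Fin n → E}
    (h : V * (A : Matrix (Fin n) (Fin n) K).map ι = diagonal l * V) (i₀ : Fin n) {d : ℕ}
    (hd : ∀ i, l i ^ d = 1) (hord : ∀ k, l i₀ ^ k = 1 → d ∣ k) : orderOf A = d := by
  have hpow : ∀ k : ℕ, V * ((A ^ k : Matrix.SpecialLinearGroup (Fin n) K) : Matrix (Fin n) (Fin n) K).map ι =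
      diagonal (fun i => l i ^ k) * V := by
    intro k
    induction k with
    | zero => simp [Matrix.map_one]
    | succ k ih =>
      rw [pow_succ', Matrix.SpecialLinearGroup.coe_mul, Matrix.map_mul, ← mul_assoc, h, mul_assoc, ih,
        ← mul_assoc, Matrix.diagonal_mul_diagonal]
      congr 2
      funext i; rw [pow_succ']
  refine Nat.dvd_antisymm (orderOf_dvd_of_pow_eq_one ?_) (hord _ ?_)
  · refine Subtype.ext (Matrix.map_injective ι.injective ?_)
    have h1 := hpow d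
    simp only [hd, diagonal_one, one_mul] at h1
    have hu : IsUnit V := (Matrix.isUnit_iff_isUnit_det V).2 (isUnit_iff_ne_zero.2 hV)
    simp only [Matrix.SpecialLinearGroup.coe_one, Matrix.map_one _ (map_zero ι) (map_one ι)]
    exact hu.mul_left_cancel (h1.trans (mul_one V).symm)
  · have h1 := hpow (orderOf A)
    rw [pow_orderOf_eq_one, Matrix.SpecialLinearGroup.coe_one, Matrix.map_one _ (map_zero ι) (map_one ι),
      mul_one] at h1
    by_contra hne
    refine hV (Matrix.det_eq_zero_of_row_eq_zero i₀ fun j => ?_)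
    have h2 := congrFun (congrFun h1 i₀) j
    rw [Matrix.diagonal_mul] at h2
    exact (mul_eq_zero.1 (show (l i₀ ^ orderOf A - 1) * V i₀ j = 0 by linear_combination -h2)).resolve_left
      (sub_ne_zero.2 hne)

/-- An element of every order dividing the units of a finite field. -/
theorem exists_unit_orderOf {E : Type*} [Field E] [Fintype E] {d : ℕ} (hd : d ∣ Fintype.card E - 1) :
    ∃ ω : Eˣ, orderOf ω = d := by
  obtain ⟨γ, hγ⟩ := IsCyclic.exists_generator (α := Eˣ)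
  have hγo : orderOf γ = Fintype.card E - 1 := by
    rw [orderOf_eq_card_of_forall_mem_zpowers hγ, Nat.card_units, Nat.card_eq_fintype_card]
  have hpos : 0 < Fintype.card E - 1 := by have := Fintype.one_lt_card (α := E); omega
  obtain ⟨c, hc⟩ := hd
  have hc0 : c ≠ 0 := by rintro rfl; omega
  exact ⟨γ ^ c, by rw [orderOf_pow_of_dvd hc0 (hγo ▸ ⟨d, by rw [hc, mul_comm]⟩), hγo, hc, Nat.mul_div_cancel _ (Nat.pos_of_ne_zero hc0)]⟩

variable {F : Type*} [Field F] [Fintype F]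

/-- An element of `SL₂(q)` of each order `d ≥ 3` dividing `q - 1` or `q + 1`. -/
theorem exists_sl2_order (h2 : (2 : F) = 0) {q d : ℕ} (hq : Fintype.card F = q) (h3 : 3 ≤ d)
    (hd : d ∣ q - 1 ∨ d ∣ q + 1) : ∃ A : Matrix.SpecialLinearGroup (Fin 2) F, orderOf A = d := by
  classical
  let p := ringChar F
  haveI : Fact p.Prime := ⟨CharP.char_is_prime F p⟩
  let K := FiniteField.Extension F p 2
  haveI : Fintype K := Fintype.ofFinite K
  have hK : Fintype.card K = q ^ 2 := by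
    rw [← Nat.card_eq_fintype_card, FiniteField.natCard_extension, Nat.card_eq_fintype_card, hq]
  let ι : F →+* K := algebraMap F K
  have hK2 : (2 : K) = 0 := by rw [← map_ofNat ι 2, h2, map_zero]
  have hq1 : 1 ≤ q := hq ▸ Fintype.card_pos
  have h12 : q ^ 2 - 1 = (q + 1) * (q - 1) := by simpa using Nat.sq_sub_sq q 1
  obtain ⟨w, hw⟩ := exists_unit_orderOf (E := K) (d := d)
    (by rw [hK, h12]; rcases hd with h | h; exacts [h.mul_left _, h.mul_right _])
  have hwq : (w : K) ^ q = w ∨ (w : K) ^ q = ((w⁻¹ : Kˣ) : K) := by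
    rcases hd with h | h
    · left
      rw [show q = (q - 1) + 1 by omega, pow_succ, ← Units.val_pow_eq_pow_val,
        orderOf_dvd_iff_pow_eq_one.1 (hw ▸ h), Units.val_one, one_mul]
    · right
      have h1 : w ^ q * w = 1 := by rw [← pow_succ]; exact orderOf_dvd_iff_pow_eq_one.1 (hw ▸ h)
      rw [← Units.val_pow_eq_pow_val, eq_inv_of_mul_eq_one_left h1]
  have hw1 : (w : K) ≠ 1 := fun h => by
    have : w = 1 := Units.ext h
    rw [this, orderOf_one] at hw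
    omega
  obtain ⟨τ, hτ⟩ := fixed_mem ι (z := (w : K) + ((w⁻¹ : Kˣ) : K)) (by
    have hsw : ((w⁻¹ : Kˣ) : K) ^ q = ((w : K) ^ q)⁻¹ := by rw [Units.val_inv_eq_inv_val, inv_pow]
    have hadd : ∀ a b : K, (a + b) ^ q = a ^ q + b ^ q := fun a b => by
      have h := (FiniteField.frobeniusAlgHom F K).map_add a b
      simpa [FiniteField.coe_frobeniusAlgHom, hq] using h
    rw [hq, hadd, hsw]
    rcases hwq with h | h <;> rw [h]
    · rw [Units.val_inv_eq_inv_val]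
    · rw [Units.val_inv_eq_inv_val, inv_inv, add_comm])
  refine ⟨⟨!![0, 1; 1, τ], by simp [Matrix.det_fin_two]; linear_combination -(h2 : (2 : F) = 0)⟩,
    orderOf_of_eigen ι _ (V := !![1, (w : K); 1, ((w⁻¹ : Kˣ) : K)]) (l := ![(w : K), ((w⁻¹ : Kˣ) : K)]) ?_ ?_ 0 ?_ ?_⟩
  · rw [Matrix.det_fin_two_of]
    intro h
    have hmul : (w : K) * ((w⁻¹ : Kˣ) : K) = 1 := by rw [← Units.val_mul, mul_inv_cancel, Units.val_one]
    have : ((w : K) - 1) * ((w : K) - 1) = 0 := by linear_combination (-(w : K)) * h + hmul - ((w : K) - 1) * hK2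
    exact hw1 (sub_eq_zero.1 (mul_self_eq_zero.1 this))
  · have hmul : (w : K) * ((w⁻¹ : Kˣ) : K) = 1 := by rw [← Units.val_mul, mul_inv_cancel, Units.val_one]
    ext i j
    fin_cases i <;> fin_cases j <;> simp [Matrix.mul_apply, Fin.sum_univ_two, hτ]
    · rw [Units.val_inv_eq_inv_val] at hmul
      linear_combination hmul + hK2
    · rw [Units.val_inv_eq_inv_val] at hmul
      linear_combination hmul + hK2
  · intro i
    have h1 : w ^ d = 1 := hw ▸ pow_orderOf_eq_one w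
    fin_cases i
    · show (w : K) ^ d = 1
      rw [← Units.val_pow_eq_pow_val, h1, Units.val_one]
    · show ((w⁻¹ : Kˣ) : K) ^ d = 1
      rw [← Units.val_pow_eq_pow_val, inv_pow, h1, inv_one, Units.val_one]
  · intro k hk
    rw [← hw]
    refine orderOf_dvd_of_pow_eq_one (Units.ext ?_)
    rw [Units.val_pow_eq_pow_val, Units.val_one]
    exact hk

/-- Elements of orders `2 (q - 1)` and `2 (q + 1)`. -/
theorem exists_mixed_order (h2 : (2 : F) = 0) {q d : ℕ} (hq : Fintype.card F = q) (h3 : 3 ≤ d) (hodd : Odd d)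
    (hd : d ∣ q - 1 ∨ d ∣ q + 1) : ∃ x : ↥(chevG2.group F), orderOf x = 2 * d := by
  obtain ⟨A, hA⟩ := exists_sl2_order h2 hq h3 hd
  refine ⟨⟨_, mul_mem (phi_mem_group (slU (1 : F))).1 (phi_mem_group A).2⟩, ?_⟩
  rw [← Subgroup.orderOf_coe]
  have hA' : orderOf (phiB A) = d := (orderOf_injective phiB ((injective_iff_map_eq_one _).2 fun _ => phiB_inj) A).trans hA
  have hU : orderOf (phiA (slU (1 : F))) = 2 := by
    refine orderOf_eq_prime ?_ fun h => ?_
    · rw [← map_pow, pow_two, show (slU (1 : F) : Matrix.SpecialLinearGroup (Fin 2) F) * slU 1 = 1 from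
        Subtype.ext (by rw [Matrix.SpecialLinearGroup.coe_mul]; ext i j; fin_cases i <;> fin_cases j <;>
          simp [slU, Matrix.mul_apply, Fin.sum_univ_two]; linear_combination h2), map_one]
    · have := congrArg (fun M : Matrix.SpecialLinearGroup (Fin 2) F => M.1 0 1) (phiA_inj h)
      simp [slU] at this
  show orderOf (phiA (slU (1 : F)) * phiB A) = _
  rw [(phi_commute _ _).orderOf_mul_eq_mul_orderOf_of_coprime (by rw [hU, hA']; exact Nat.coprime_two_left.2 hodd), hU, hA']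

/-- An element of order `q² - 1`. -/
theorem exists_order_sq_sub_one (h2 : (2 : F) = 0) {q : ℕ} (hq : Fintype.card F = q) (hq4 : 4 ≤ q) :
    ∃ x : ↥(chevG2.group F), orderOf x = q ^ 2 - 1 := by
  classical
  let p := ringChar F
  haveI : Fact p.Prime := ⟨CharP.char_is_prime F p⟩
  let K := FiniteField.Extension F p 2
  haveI : Fintype K := Fintype.ofFinite K
  have hK : Fintype.card K = q ^ 2 := by
    rw [← Nat.card_eq_fintype_card, FiniteField.natCard_extension, Nat.card_eq_fintype_card, hq]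
  let ι : F →+* K := algebraMap F K
  let σ : K →+* K := (FiniteField.frobeniusAlgHom F K).toRingHom
  have hσ : ∀ x : K, σ x = x ^ q := fun x => by
    show (FiniteField.frobeniusAlgHom F K) x = _
    rw [FiniteField.coe_frobeniusAlgHom, hq]
  obtain ⟨w, hw⟩ := exists_unit_orderOf (E := K) (d := q ^ 2 - 1) (by rw [hK])
  have hq2 : 16 ≤ q ^ 2 := by nlinarith
  have hqq : q * 4 ≤ q ^ 2 := by nlinarith
  obtain ⟨x₀, hx₀⟩ : ∃ x₀ : K, x₀ = (w : K) := ⟨_, rfl⟩
  have hne : x₀ ≠ 0 := hx₀ ▸ w.ne_zero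
  have hpow : ∀ k : ℕ, x₀ ^ k = 1 → q ^ 2 - 1 ∣ k := fun k hk => by
    rw [← hw]; exact orderOf_dvd_of_pow_eq_one (Units.ext (by rw [Units.val_pow_eq_pow_val, ← hx₀]; exact hk))
  have hsmall : ∀ k : ℕ, 0 < k → k < q ^ 2 - 1 → x₀ ^ k ≠ 1 := fun k h0 hk h =>
    absurd (Nat.le_of_dvd h0 (hpow k h)) (by omega)
  have hx2 : σ (σ x₀) = x₀ := by rw [hσ, hσ, ← pow_mul, ← pow_two, ← hK, FiniteField.pow_card]
  obtain ⟨x₂, hx₂⟩ : ∃ x₂ : K, x₂ = (x₀ * σ x₀)⁻¹ := ⟨_, rfl⟩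
  have hσ0 : σ x₀ ≠ 0 := by simpa using hne
  have hprod : x₀ * σ x₀ * x₂ = 1 := by rw [hx₂]; exact mul_inv_cancel₀ (mul_ne_zero hne hσ0)
  have hσ2 : σ x₂ = x₂ := by rw [hx₂, map_inv₀, map_mul, hx2, mul_comm]
  obtain ⟨e1, he1⟩ := fixed_mem ι (z := x₀ + σ x₀ + x₂) (by
    rw [hq, ← hσ, map_add, map_add, hx2, hσ2]; ring)
  obtain ⟨e2, he2⟩ := fixed_mem ι (z := x₀ * σ x₀ + σ x₀ * x₂ + x₂ * x₀) (by
    rw [hq, ← hσ]; simp only [map_add, map_mul, hx2, hσ2]; ring)
  let lv : Fin 3 → K := ![x₀, σ x₀, x₂]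
  have hinj : Function.Injective lv := by
    have a01 : x₀ ≠ σ x₀ := fun h => by
      rw [hσ] at h
      refine hsmall (q - 1) (by omega) (by omega) (mul_right_cancel₀ hne ?_)
      rw [← pow_succ, Nat.sub_add_cancel (by omega), ← h, one_mul]
    have a02 : x₀ ≠ x₂ := fun h => by
      refine hsmall (q + 2) (by omega) (by omega) ?_
      rw [← h, hσ] at hprod
      rw [← hprod]; ring
    have a12 : σ x₀ ≠ x₂ := fun h => by
      refine hsmall (2 * q + 1) (by omega) (by omega) ?_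
      rw [← h, hσ] at hprod
      rw [← hprod]; ring
    intro i j h
    fin_cases i <;> fin_cases j <;> simp [lv, a01, a02, a12, a01.symm, a02.symm, a12.symm] at h <;> rfl
  let C : Matrix.SpecialLinearGroup (Fin 3) F :=
    ⟨!![0, 0, 1; 1, 0, -e2; 0, 1, e1], by simp [Matrix.det_fin_three]⟩
  have hd : ∀ i, lv i ^ (q ^ 2 - 1) = 1 := by
    have h0 : ∀ z : K, z ≠ 0 → z ^ (q ^ 2 - 1) = 1 := fun z hz => by rw [← hK]; exact FiniteField.pow_card_sub_one_eq_one z hz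
    intro i
    fin_cases i
    exacts [h0 _ hne, h0 _ hσ0, h0 _ (show x₂ ≠ 0 by rw [hx₂]; exact inv_ne_zero (mul_ne_zero hne hσ0))]
  refine ⟨⟨psi F C, psi_mem C⟩, ?_⟩
  rw [← Subgroup.orderOf_coe, orderOf_injective (psi F) psi_injective]
  refine orderOf_of_eigen ι C (V := Matrix.vandermonde lv) (l := lv)
    (Matrix.det_vandermonde_ne_zero_iff.2 hinj) ?_ 0 hd hpow
  have hroot : ∀ i, lv i ^ 3 = ι e1 * lv i ^ 2 - ι e2 * lv i + 1 := by
    intro i
    rw [he1, he2]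
    fin_cases i <;> simp [lv] <;> linear_combination hprod
  ext i j
  rw [Matrix.diagonal_mul, Matrix.mul_apply, Fin.sum_univ_three]
  fin_cases j
  · simp [C, Matrix.vandermonde]
  · simp [C, Matrix.vandermonde]; ring
  · simp [C, Matrix.vandermonde]; linear_combination -(hroot i)

/-- The automorphism of the algebra attached to a word. -/
def wordL : List ℕ → List Mono
  | [] => (List.finRange 8).map fun i => (0, i, i)
  | r :: l => mulL ((yTab r).map fun x => (0, x.2)) (wordL l)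

omit [Fintype F] in
theorem M_flat (a : List Mono) : M (1 : F) (a.map fun x => (0, x.2)) = M 1 a := by
  induction a with
  | nil => simp [M_nil]
  | cons x a ih => simp [M_cons, ih]

omit [Fintype F] in
theorem exists_word (h2 : (2 : F) = 0) : ∀ l : List ℕ, (∀ r ∈ l, r < chevG2.nroots) →
    ∃ x : ↥(chevG2.group F), ((toOct h2 x : GL (Fin 8) F) : Matrix (Fin 8) (Fin 8) F) = M 1 (wordL l) ∧
      (x : GL chevG2.Idx F) = (l.map fun r => goodG2.xG r (1 : F)).prod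
  | [], _ => ⟨1, by
      rw [map_one, Subgroup.coe_one, Units.val_one]
      ext i j
      fin_cases i <;> fin_cases j <;> simp [wordL, M_entry, List.finRange_succ], rfl⟩
  | r :: l, h => by
    obtain ⟨x, hx, hx'⟩ := exists_word h2 l fun s hs => h s (List.mem_cons_of_mem _ hs)
    have hr := h r List.mem_cons_self
    refine ⟨⟨_, goodG2.xG_mem_group hr (1 : F)⟩ * x, ?_, ?_⟩
    · rw [map_mul, Subgroup.coe_mul, Units.val_mul, hx, toOct_root h2 hr 1 _ rfl, wordL, M_mul, M_flat]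
    · rw [List.map_cons, List.prod_cons, Subgroup.coe_mul, hx']

omit [Fintype F] in
theorem word_order (h2 : (2 : F) = 0) {l : List ℕ} (hl : ∀ r ∈ l, r < chevG2.nroots) {n : ℕ}
    (ha : ∀ x : Matrix (Fin 8) (Fin 8) F, x = M 1 (wordL l) → x ^ n = 1 ∧ ∀ m, m < n → 0 < m → m ∣ n → x ^ m ≠ 1)
    (hn : 0 < n) : ∃ x : ↥(chevG2.group F), orderOf x = n := by
  obtain ⟨x, hx, -⟩ := exists_word h2 l hl
  refine ⟨x, ?_⟩
  rw [← orderOf_injective (toOct h2) (toOct_injective h2), ← Subgroup.orderOf_coe, ← orderOf_units]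
  obtain ⟨h1, h2'⟩ := ha _ hx
  have hdvd := orderOf_dvd_of_pow_eq_one h1
  refine (Nat.le_of_dvd hn hdvd).eq_or_lt.elim id fun hlt => ?_
  exact absurd (pow_orderOf_eq_one _) (h2' _ hlt (orderOf_pos_iff.2 (isOfFinOrder_iff_pow_eq_one.2 ⟨n, hn, h1⟩)) hdvd)

/-- Powers of two special words. -/
def tab : List (List Mono) :=
  [[(0, 0, 0), (0, 0, 4), (0, 1, 0), (0, 1, 1), (0, 1, 4), (0, 1, 7), (0, 2, 2), (0, 3, 0), (0, 3, 1), (0, 3, 3), (0, 3, 4), (0, 3, 7), (0, 4, 2), (0, 4, 4), (0, 4, 6), (0, 5, 3), (0, 5, 5), (0, 6, 2), (0, 6, 6), (0, 7, 4), (0, 7, 7)],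
   [(0, 0, 0), (0, 0, 2), (0, 0, 6), (0, 1, 1), (0, 1, 2), (0, 1, 6), (0, 2, 2), (0, 3, 0), (0, 3, 2), (0, 3, 3), (0, 3, 4), (0, 3, 6), (0, 3, 7), (0, 4, 2), (0, 4, 4), (0, 5, 0), (0, 5, 1), (0, 5, 4), (0, 5, 5), (0, 5, 7), (0, 6, 6), (0, 7, 2), (0, 7, 6), (0, 7, 7)],
   [(0, 0, 0), (0, 1, 1), (0, 2, 2), (0, 3, 2), (0, 3, 3), (0, 4, 4), (0, 5, 5), (0, 5, 6), (0, 6, 6), (0, 7, 7)],
   [(0, 0, 6), (0, 0, 7), (0, 1, 1), (0, 1, 5), (0, 2, 2), (0, 2, 4), (0, 3, 1), (0, 3, 5), (0, 3, 6), (0, 4, 0), (0, 4, 2), (0, 4, 3), (0, 4, 6), (0, 4, 7), (0, 5, 1), (0, 6, 0), (0, 6, 3), (0, 6, 6), (0, 6, 7), (0, 7, 0), (0, 7, 6)],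
   [(0, 0, 3), (0, 0, 7), (0, 1, 5), (0, 2, 0), (0, 2, 3), (0, 2, 4), (0, 2, 6), (0, 2, 7), (0, 3, 0), (0, 3, 3), (0, 3, 5), (0, 3, 6), (0, 3, 7), (0, 4, 1), (0, 4, 2), (0, 4, 3), (0, 4, 4), (0, 4, 5), (0, 5, 1), (0, 5, 5), (0, 6, 1), (0, 6, 3), (0, 6, 5), (0, 7, 0), (0, 7, 3)],
   [(0, 0, 5), (0, 0, 6), (0, 0, 7), (0, 1, 1), (0, 1, 5), (0, 2, 2), (0, 2, 3), (0, 2, 4), (0, 2, 5), (0, 2, 6), (0, 3, 5), (0, 3, 6), (0, 4, 2), (0, 4, 3), (0, 5, 1), (0, 6, 0), (0, 6, 1), (0, 6, 3), (0, 6, 5), (0, 6, 6), (0, 6, 7), (0, 7, 0), (0, 7, 5), (0, 7, 6)],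
   [(0, 0, 0), (0, 1, 1), (0, 2, 1), (0, 2, 2), (0, 3, 3), (0, 4, 4), (0, 4, 5), (0, 5, 5), (0, 6, 6), (0, 7, 7)]]

/-- An entry of the tables. -/
def T (i : ℕ) : List Mono := tab.getD i []

theorem tab_check : parEq (wordL [0, 8]) (T 0) ∧ parEq (mulL (T 0) (T 0)) (T 1) ∧ parEq (mulL (T 1) (T 1)) (T 2) ∧
    parEq (mulL (T 2) (T 2)) (wordL []) ∧ parEq (wordL [0, 2, 9]) (T 3) ∧ parEq (mulL (T 3) (T 3)) (T 4) ∧
    parEq (mulL (T 4) (T 4)) (T 5) ∧ parEq (mulL (T 5) (T 4)) (T 6) ∧ parEq (mulL (T 6) (T 6)) (wordL []) := by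
  decide +kernel

omit [Fintype F] in
theorem exists_eight_twelve (h2 : (2 : F) = 0) :
    (∃ x : ↥(chevG2.group F), orderOf x = 8) ∧ ∃ x : ↥(chevG2.group F), orderOf x = 12 := by
  have e : ∀ {a b : List Mono}, parEq a b = true → M (1 : F) a = M 1 b := fun h => M_parEq h2 1 h
  have hone : M (1 : F) (wordL []) = 1 := by
    ext i j; fin_cases i <;> fin_cases j <;> simp [wordL, M_entry, List.finRange_succ]
  obtain ⟨c1, c2, c3, c4, d1, d2, d3, d4, d5⟩ := tab_check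
  constructor
  · refine word_order h2 (l := [0, 8]) (by decide) (fun x hx => ?_) (by norm_num)
    have x1 : x = M 1 (T 0) := hx.trans (e c1)
    have x2 : x ^ 2 = M 1 (T 1) := by rw [pow_two, x1, ← M_mul]; exact e c2
    have x4 : x ^ 4 = M 1 (T 2) := by rw [(pow_add x 2 2 : x ^ 4 = _), x2, ← M_mul]; exact e c3
    have x8 : x ^ 8 = 1 := by rw [(pow_add x 4 4 : x ^ 8 = _), x4, ← M_mul, e c4, hone]
    refine ⟨x8, fun m hm hm0 hmd hx' => ?_⟩
    have h4 : x ^ 4 = 1 := by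
      obtain ⟨k, hk⟩ : m ∣ 4 := by interval_cases m <;> revert hmd <;> decide
      rw [hk, pow_mul, hx', one_pow]
    rw [x4] at h4
    have := congrFun (congrFun h4 3) 2
    simp [M_entry, T, tab] at this
  · refine word_order h2 (l := [0, 2, 9]) (by decide) (fun x hx => ?_) (by norm_num)
    have x1 : x = M 1 (T 3) := hx.trans (e d1)
    have x2 : x ^ 2 = M 1 (T 4) := by rw [pow_two, x1, ← M_mul]; exact e d2
    have x4 : x ^ 4 = M 1 (T 5) := by rw [(pow_add x 2 2 : x ^ 4 = _), x2, ← M_mul]; exact e d3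
    have x6 : x ^ 6 = M 1 (T 6) := by rw [(pow_add x 4 2 : x ^ 6 = _), x4, x2, ← M_mul]; exact e d4
    have x12 : x ^ 12 = 1 := by rw [(pow_add x 6 6 : x ^ 12 = _), x6, ← M_mul, e d5, hone]
    refine ⟨x12, fun m hm hm0 hmd hx' => ?_⟩
    rcases (show m ∣ 4 ∨ m ∣ 6 by interval_cases m <;> revert hmd <;> decide) with ⟨k, hk⟩ | ⟨k, hk⟩
    · have h4 : x ^ 4 = 1 := by rw [hk, pow_mul, hx', one_pow]
      rw [x4] at h4
      have := congrFun (congrFun h4 0) 7
      simp [M_entry, T, tab] at this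
    · have h6 : x ^ 6 = 1 := by rw [hk, pow_mul, hx', one_pow]
      rw [x6] at h6
      have := congrFun (congrFun h6 2) 1
      simp [M_entry, T, tab] at this

end CfsgLib.Chev.G2Oct
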