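import Mathlib
import Cfsg.Agent.Lib.Chev.G2EvenOrders
import Cfsg.Agent.Lib.Chev.FixedFrob
import Cfsg.Agent.Lib.Geom.HermNorm

/-!
An element of order `q² - q + 1` in `G₂(q)`, `q` even: a unitary matrix moved into `G₂(q)` by a Lang element.
-/

set_option autoImplicit false
set_option maxRecDepth 100000
set_option maxHeartbeats 1000000

namespace CfsgLib.Chev.G2Oct

open Cfsg.Lie Matrix CfsgLib.Chev CfsgLib.Chev.G2Invol CfsgLib.Chev.G2SL3

/-- A three by three unitary matrix of determinant one and order `q² - q + 1`. -/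
theorem exists_unitary_order {K : Type*} [Field K] [Fintype K] [CharP K 2] {a q : ℕ} (hqa : q = 2 ^ a) (ha : 1 ≤ a)
    (hK : Fintype.card K = q ^ 2) :
    ∃ A : Matrix.SpecialLinearGroup (Fin 3) K, orderOf A = q ^ 2 - q + 1 ∧
      (A : Matrix (Fin 3) (Fin 3) K)ᵀ * (A : Matrix (Fin 3) (Fin 3) K).map (iterateFrobenius K 2 a) = 1 := by
  classical
  haveI : Fact (Nat.Prime 2) := ⟨Nat.prime_two⟩
  let L := FiniteField.Extension K 2 3
  haveI : Fintype L := Fintype.ofFinite L
  haveI : CharP L 2 := charP_of_injective_algebraMap (algebraMap K L).injective 2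
  have hL : Fintype.card L = q ^ 6 := by
    rw [← Nat.card_eq_fintype_card, FiniteField.natCard_extension, Nat.card_eq_fintype_card, hK, ← pow_mul]
  have hfr : Module.finrank K L = 3 := by
    have h := Module.card_eq_pow_finrank (K := K) (V := L)
    rw [hL, hK, ← pow_mul] at h
    have := Nat.pow_right_injective (show 2 ≤ q by rw [hqa]; exact Nat.le_self_pow (by omega) 2) h
    omega
  let σ : K →+* K := iterateFrobenius K 2 a
  let τ : L →+* L := iterateFrobenius L 2 (3 * a)
  have hσ : ∀ x : K, σ x = x ^ q := fun x => by rw [hqa]; exact iterateFrobenius_def ..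
  have hτ : ∀ x : L, τ x = x ^ q ^ 3 := fun x => by
    rw [hqa, ← pow_mul, mul_comm a 3]; exact iterateFrobenius_def ..
  have hτK : ∀ c : K, τ (algebraMap K L c) = algebraMap K L (σ c) := fun c => by
    rw [hτ, ← map_pow, hσ, show q ^ 3 = q ^ 2 * q by ring, pow_mul, ← hK, FiniteField.pow_card]
  let B : L →ₛₗ[σ] L →ₗ[K] K := LinearMap.mk₂'ₛₗ σ (RingHom.id K) (fun x y => Algebra.trace K L (τ x * y))
    (fun x x' y => by rw [map_add, add_mul, map_add])
    (fun c x y => by rw [Algebra.smul_def, map_mul τ, hτK, mul_assoc, ← Algebra.smul_def, map_smul])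
    (fun x y y' => by rw [mul_add, map_add])
    (fun c x y => by rw [mul_smul_comm, map_smul, RingHom.id_apply])
  have hσ2 : ∀ c, σ (σ c) = c := fun c => by rw [hσ, hσ, ← pow_mul, ← pow_two, ← hK, FiniteField.pow_card]
  have hσid : σ ≠ RingHom.id K := fun h => by
    obtain ⟨γ, hγ⟩ := exists_unit_orderOf (E := K) (d := q ^ 2 - 1) (by rw [hK])
    have h1 : γ ^ (q - 1) = 1 := by
      refine mul_right_cancel (b := γ) ?_
      rw [← pow_succ, Nat.sub_add_cancel (hqa ▸ Nat.one_le_two_pow), one_mul]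
      refine Units.ext ?_
      rw [Units.val_pow_eq_pow_val, ← hσ, h, RingHom.id_apply]
    have h2 : 2 ≤ q := hqa ▸ Nat.le_self_pow (by omega) 2
    have := Nat.le_of_dvd (by omega) (hγ ▸ orderOf_dvd_of_pow_eq_one h1)
    have : q * 2 ≤ q ^ 2 := by rw [pow_two]; exact Nat.mul_le_mul_left _ h2
    omega
  have hq6 : ∀ z : L, z ^ q ^ 6 = z := fun z => by rw [← hL, FiniteField.pow_card]
  have hS : ∀ u v, σ (B u v) = B v u := by
    intro u v
    apply (algebraMap K L).injective
    show algebraMap K L (σ (Algebra.trace K L (τ u * v))) = algebraMap K L (Algebra.trace K L (τ v * u))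
    rw [hσ, map_pow, FiniteField.algebraMap_trace_eq_sum_pow, FiniteField.algebraMap_trace_eq_sum_pow, hfr,
      Nat.card_eq_fintype_card, hK, hqa, sum_pow_char_pow, ← hqa]
    simp only [Finset.sum_range_succ, Finset.sum_range_zero, zero_add, hτ, mul_pow, ← pow_mul]
    have e7 : ∀ (z : L) (n m : ℕ), n = m + 6 → z ^ q ^ n = z ^ q ^ m := fun z n m h => by
      rw [h, pow_add, mul_comm, pow_mul, hq6]
    ring_nf
    rw [e7 u 6 0 rfl, e7 u 8 2 rfl, e7 v 7 1 rfl]
    simp only [pow_one, pow_zero]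
    ac_rfl
  have hB : ∀ x, (∀ y, B x y = 0) → x = 0 := by
    intro x hx
    by_contra hne
    obtain ⟨z, hz⟩ := Algebra.trace_surjective K L 1
    have h := hx ((τ x)⁻¹ * z)
    change Algebra.trace K L (τ x * ((τ x)⁻¹ * z)) = 0 at h
    rw [← mul_assoc, mul_inv_cancel₀ (by simpa using hne), one_mul, hz] at h
    exact one_ne_zero h
  obtain ⟨b, hb⟩ := CfsgLib.Geom.exists_orthonormal_basis hσid hσ2 3 B hS hB hfr
  have h2 : 2 ≤ q := hqa ▸ Nat.le_self_pow (by omega) 2
  have hle : q ≤ q ^ 2 := Nat.le_self_pow two_ne_zero q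
  have hd3 : q ^ 3 + 1 = (q + 1) * (q ^ 2 - q + 1) := by zify [hle]; ring
  obtain ⟨w, hw⟩ := exists_unit_orderOf (E := L) (d := q ^ 2 - q + 1) (by
    rw [hL, show q ^ 6 - 1 = (q ^ 3 + 1) * (q ^ 3 - 1) by rw [show q ^ 6 = (q ^ 3) ^ 2 by ring]; simpa using Nat.sq_sub_sq (q ^ 3) 1, hd3]
    exact dvd_mul_of_dvd_left (dvd_mul_left _ _) _)
  have hwpow : ∀ n, q ^ 2 - q + 1 ∣ n → (w : L) ^ n = 1 := fun n hn => by
    rw [← Units.val_pow_eq_pow_val, orderOf_dvd_iff_pow_eq_one.1 (hw ▸ hn), Units.val_one]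
  let M := Algebra.leftMulMatrix b (w : L)
  have hdet : M.det = 1 := by
    apply (algebraMap K L).injective
    rw [← Algebra.norm_eq_matrix_det, FiniteField.algebraMap_norm_eq_prod_pow, hfr, Nat.card_eq_fintype_card, hK,
      map_one]
    simp only [Finset.prod_range_succ, Finset.prod_range_zero, one_mul, ← pow_add]
    refine hwpow _ ⟨q ^ 2 + q + 1, ?_⟩
    zify [hle]; ring
  refine ⟨⟨M, hdet⟩, ?_, ?_⟩
  · rw [← hw, ← orderOf_units]
    refine orderOf_eq_orderOf_iff.2 fun k => ?_
    have hinj : Function.Injective (Algebra.leftMulMatrix b) := Algebra.leftMulMatrix_injective b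
    have e : (@HPow.hPow (Matrix.SpecialLinearGroup (Fin 3) K) ℕ (Matrix.SpecialLinearGroup (Fin 3) K) _ ⟨M, hdet⟩ k).1 = Algebra.leftMulMatrix b ((w : L) ^ k) := by
      rw [map_pow]; exact Matrix.SpecialLinearGroup.coe_pow _ _
    refine ⟨fun h => hinj ?_, fun h => Subtype.ext ?_⟩
    · rw [← e, h, map_one]; rfl
    · rw [e, h, map_one]; rfl
  · ext i j
    have hcol : ∀ j, (w : L) * b j = ∑ k, M k j • b k := fun j => by
      conv_lhs => rw [← b.sum_repr ((w : L) * b j)]
      exact Finset.sum_congr rfl fun k _ => by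
        show _ = Algebra.leftMulMatrix b (w : L) k j • b k
        rw [Algebra.leftMulMatrix_eq_repr_mul]
    have h1 : B ((w : L) * b j) ((w : L) * b i) = B (b j) (b i) := by
      show Algebra.trace K L (τ ((w : L) * b j) * ((w : L) * b i)) = Algebra.trace K L (τ (b j) * b i)
      congr 1
      rw [map_mul, hτ (w : L)]
      have := hwpow (q ^ 3 + 1) (hd3 ▸ dvd_mul_left _ _)
      rw [pow_succ] at this
      linear_combination (τ (b j) * b i) * this
    rw [hcol, hcol, hb] at h1
    simp only [map_sum, LinearMap.sum_apply, LinearMap.map_smulₛₗ, LinearMap.smul_apply, map_smul,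
      smul_eq_mul, hb, mul_ite, mul_one, mul_zero, Finset.sum_ite_eq, Finset.mem_univ, if_true] at h1
    rw [Matrix.mul_apply, Matrix.one_apply]
    rw [show (if i = j then (1 : K) else 0) = if j = i then 1 else 0 by simp [eq_comm], ← h1]
    exact Finset.sum_congr rfl fun k _ => by simp [σ, M, mul_comm]

variable {F : Type*} [Field F] [Fintype F]

/-- The inverse transpose. -/
def invT {K : Type*} [Field K] : Matrix.SpecialLinearGroup (Fin 3) K →* Matrix.SpecialLinearGroup (Fin 3) K where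
  toFun g := ⟨((g⁻¹ : Matrix.SpecialLinearGroup (Fin 3) K) : Matrix (Fin 3) (Fin 3) K)ᵀ, by
    rw [Matrix.det_transpose]; exact (g⁻¹).2⟩
  map_one' := Subtype.ext (by simp)
  map_mul' g h := Subtype.ext (by
    show ((g * h)⁻¹ : Matrix.SpecialLinearGroup (Fin 3) K).1ᵀ = (g⁻¹).1ᵀ * (h⁻¹).1ᵀ
    rw [_root_.mul_inv_rev, Matrix.SpecialLinearGroup.coe_mul, Matrix.transpose_mul])

theorem scalar_phi {K E : Type*} [Field K] [Field E] (f : K →+* E)
    (A : Matrix.SpecialLinearGroup (Fin 2) K) :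
    scalarGL chevG2 f (phiA A) = phiA (Matrix.SpecialLinearGroup.map f A) ∧
      scalarGL chevG2 f (phiB A) = phiB (Matrix.SpecialLinearGroup.map f A) := by
  have hU : ∀ t : K, Matrix.SpecialLinearGroup.map f (slU t) = slU (f t) := fun t =>
    Subtype.ext (by show (slU t).1.map f = _; ext i j; fin_cases i <;> fin_cases j <;> simp [slU])
  have hL : ∀ t : K, Matrix.SpecialLinearGroup.map f (slL t) = slL (f t) := fun t =>
    Subtype.ext (by show (slL t).1.map f = _; ext i j; fin_cases i <;> fin_cases j <;> simp [slL])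
  have hA : A ∈ Subgroup.closure (Set.range (slU (F := K)) ∪ Set.range slL) := by
    rw [closure_slU_slL]; exact Subgroup.mem_top _
  induction hA using Subgroup.closure_induction with
  | mem y hy =>
    rcases hy with ⟨t, rfl⟩ | ⟨t, rfl⟩
    · rw [hU, phiA_U, phiB_U, phiA_U, phiB_U, goodG2.scalarGL_xG f long_lt, goodG2.scalarGL_xG f short_lt]
      exact ⟨rfl, rfl⟩
    · rw [hL, phiA_L, phiB_L, phiA_L, phiB_L, goodG2.scalarGL_xG f (by decide), goodG2.scalarGL_xG f (by decide)]
      exact ⟨rfl, rfl⟩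
  | one => simp
  | mul y z _ _ hy hz => simp [hy, hz]
  | inv y _ hy => simp [hy]

/-- The long-root word of the longest element is the exchange. -/
def nTab : List Mono := [(0, 0, 7), (0, 1, 4), (0, 2, 5), (0, 3, 6), (0, 4, 1), (0, 5, 2), (0, 6, 3), (0, 7, 0)]

theorem nTab_check : parEq (wordL [11, 0, 11, 7, 4, 7]) nTab = true ∧ parEq (mulL nTab nTab) (wordL []) = true ∧
    ∀ r ∈ [0, 1, 5, 6, 10, 11], parEq (mulL (mulL nTab (yTab r)) nTab) (yTab (11 - r)) = true := by
  decide +kernel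

/-- The element realising the exchange and its action on the long root subgroups. -/
theorem exists_exchange {K : Type*} [Field K] (h2 : (2 : K) = 0) :
    ∃ N : ↥(chevG2.group K), (N : GL chevG2.Idx K) = phiA slW * phiB slW ∧ N * N = 1 ∧
      ∀ A : Matrix.SpecialLinearGroup (Fin 3) K,
        (N : GL chevG2.Idx K) * psi K A * (N : GL chevG2.Idx K) = psi K (invT A) := by
  have hlt : ∀ r ∈ [11, 0, 11, 7, 4, 7], r < chevG2.nroots := by decide
  obtain ⟨N, hN, hN'⟩ := exists_word h2 [11, 0, 11, 7, 4, 7] hlt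
  obtain ⟨c1, c2, c3⟩ := nTab_check
  have hneg : (-1 : K) = 1 := by linear_combination -h2
  have hW : (N : GL chevG2.Idx K) = phiA slW * phiB slW := by
    rw [hN', slW_eq, hneg, map_mul, map_mul, map_mul, map_mul, phiA_U, phiA_L, phiB_U, phiB_L]
    simp [mul_assoc]
  have hNM : ((toOct h2 N : GL (Fin 8) K) : Matrix (Fin 8) (Fin 8) K) = M 1 nTab := hN.trans (M_parEq h2 1 c1)
  have hnc : ∀ x ∈ nTab, x.1 = 0 := by decide
  have hsq : N * N = 1 := by
    refine toOct_injective h2 (Subtype.ext (Units.ext ?_))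
    rw [map_mul, Subgroup.coe_mul, Units.val_mul, hNM, ← M_mul, M_parEq h2 1 c2, map_one, Subgroup.coe_one,
      Units.val_one]
    ext i j; fin_cases i <;> fin_cases j <;> simp [wordL, M_entry, List.finRange_succ]
  refine ⟨N, hW, hsq, fun A => ?_⟩
  have hinv : (N : GL chevG2.Idx K)⁻¹ = N := by
    rw [← Subgroup.coe_inv, inv_eq_of_mul_eq_one_right hsq]
  let f₁ : Matrix.SpecialLinearGroup (Fin 3) K →* GL chevG2.Idx K :=
    (MulAut.conj (N : GL chevG2.Idx K)).toMonoidHom.comp (psi K)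
  suffices h : f₁ = (psi K).comp invT by
    have := DFunLike.congr_fun h A
    simpa [f₁, hinv] using this
  refine MonoidHom.eq_of_eqOn_top fun x _ => ?_
  suffices h : (f₁.eqLocus ((psi K).comp invT)) = ⊤ from (h ▸ Subgroup.mem_top x : x ∈ f₁.eqLocus ((psi K).comp invT))
  refine CfsgLib.Classical.sl_transvection_induction _ fun i j hij c => ?_
  show f₁ _ = psi K (invT _)
  have hT : invT (Matrix.SpecialLinearGroup.transvection hij c) =
      Matrix.SpecialLinearGroup.transvection hij.symm c := by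
    refine Subtype.ext ?_
    show ((Matrix.SpecialLinearGroup.transvection hij c)⁻¹ : Matrix.SpecialLinearGroup (Fin 3) K).1ᵀ = _
    rw [Matrix.SpecialLinearGroup.transvection_inv, Matrix.SpecialLinearGroup.transvection_coe,
      Matrix.SpecialLinearGroup.transvection_coe, show -c = c by linear_combination (-c) * h2]
    simp [Matrix.transpose_add, Matrix.transpose_single]
  have hr : ∀ i j : Fin 3, i ≠ j → longRoot i j < chevG2.nroots ∧ longRoot j i = 11 - longRoot i j ∧
      longRoot i j ∈ [0, 1, 5, 6, 10, 11] := by decide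
  obtain ⟨r1, r2, r3⟩ := hr i j hij
  have hr2 : 11 - longRoot i j < chevG2.nroots := by rw [← r2]; exact (hr j i hij.symm).1
  rw [hT, psi_transvection, r2]
  show MulAut.conj (N : GL chevG2.Idx K) (psi K (Matrix.SpecialLinearGroup.transvection hij c)) = _
  rw [psi_transvection, MulAut.conj_apply, hinv]
  have key : N * ⟨_, goodG2.xG_mem_group r1 c⟩ * N = ⟨_, goodG2.xG_mem_group hr2 c⟩ := by
    refine toOct_injective h2 (Subtype.ext (Units.ext ?_))
    rw [map_mul, map_mul, Subgroup.coe_mul, Subgroup.coe_mul, Units.val_mul, Units.val_mul, hNM,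
      toOct_root h2 r1 c _ rfl, toOct_root h2 hr2 c _ rfl, ← M_const c 1 hnc, ← M_mul, ← M_mul]
    exact M_parEq h2 c (c3 _ r3)
  exact congrArg Subtype.val key

theorem exists_order_singer_minus (h2 : (2 : F) = 0) {a q : ℕ} (hqa : q = 2 ^ a) (ha : 1 ≤ a)
    (hq : Fintype.card F = q) : ∃ x : ↥(chevG2.group F), orderOf x = q ^ 2 - q + 1 := by
  classical
  haveI : CharP F 2 := CharTwo.of_one_ne_zero_of_two_eq_zero one_ne_zero h2
  haveI : Fact (Nat.Prime 2) := ⟨Nat.prime_two⟩
  let K := FiniteField.Extension F 2 2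
  haveI : Fintype K := Fintype.ofFinite K
  haveI : CharP K 2 := charP_of_injective_algebraMap (algebraMap F K).injective 2
  have hK : Fintype.card K = q ^ 2 := by
    rw [← Nat.card_eq_fintype_card, FiniteField.natCard_extension, Nat.card_eq_fintype_card, hq]
  have hK2 : (2 : K) = 0 := CharTwo.two_eq_zero
  let ι : F →+* K := algebraMap F K
  let σ : K →+* K := iterateFrobenius K 2 a
  have hσ : ∀ x : K, σ x = x ^ q := fun x => by rw [hqa]; exact iterateFrobenius_def ..
  have hfix : ∀ x, σ x = x → ∃ c, ι c = x := fun x hx => G2Torus.fixed_mem ι (by rw [hq, ← hσ]; exact hx)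
  have hσσ : ∀ x : K, σ (σ x) = x := fun x => by rw [hσ, hσ, ← pow_mul, ← pow_two, ← hK, FiniteField.pow_card]
  obtain ⟨A, hAo, hAu⟩ := exists_unitary_order hqa ha hK
  -- an element of trace one over the ground field
  obtain ⟨b, hb⟩ : ∃ b : K, σ b + b = 1 := by
    obtain ⟨γ, hγ⟩ := exists_unit_orderOf (E := K) (d := q ^ 2 - 1) (by rw [hK])
    have h2q : 2 ≤ q := hqa ▸ Nat.le_self_pow (by omega) 2
    have hne : σ (γ : K) + (γ : K) ≠ 0 := fun h => by
      have h' : (γ : K) ^ q = γ := by rw [← hσ]; linear_combination h - (γ : K) * hK2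
      have h1 : γ ^ (q - 1) = 1 := by
        refine mul_right_cancel (b := γ) ?_
        rw [← pow_succ, Nat.sub_add_cancel (by omega), one_mul]
        exact Units.ext (by rw [Units.val_pow_eq_pow_val, h'])
      have := Nat.le_of_dvd (by omega) (hγ ▸ orderOf_dvd_of_pow_eq_one h1)
      have : q * 2 ≤ q ^ 2 := by rw [pow_two]; exact Nat.mul_le_mul_left _ h2q
      omega
    refine ⟨(γ : K) / (σ (γ : K) + γ), ?_⟩
    rw [map_div₀, map_add, hσσ, add_comm (γ : K) (σ γ), ← add_div, div_self hne]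
  let g : Matrix.SpecialLinearGroup (Fin 2) K :=
    ⟨!![1, 1; b, σ b], by rw [Matrix.det_fin_two_of]; linear_combination hb - b * hK2⟩
  obtain ⟨N, hN, hNN, hNA⟩ := exists_exchange hK2
  obtain ⟨G, hG⟩ : ∃ G : GL chevG2.Idx K, G = Phi (g, g) := ⟨_, rfl⟩
  have hgW : Matrix.SpecialLinearGroup.map σ g = g * slW := by
    refine Subtype.ext ?_
    rw [Matrix.SpecialLinearGroup.coe_mul]
    show g.1.map σ = _
    ext i j
    fin_cases i <;> fin_cases j <;> simp [g, slW, Matrix.mul_apply, Fin.sum_univ_two, hσσ] <;>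
      first | exact hK2 | linear_combination hK2 | linear_combination (-1 : K) * hK2 | linear_combination (σ b - 1) * hK2 |
        linear_combination (1 - σ b) * hK2 | linear_combination (σ b) * hK2
  have hGσ : scalarGL chevG2 σ G = G * (N : GL chevG2.Idx K) := by
    rw [hG, Phi_mk, map_mul, (scalar_phi σ g).1, (scalar_phi σ g).2, hgW, map_mul, map_mul, hN,
      mul_assoc (phiA g), mul_assoc (phiA g)]
    rw [← mul_assoc (phiA slW) (phiB g), (phi_commute slW g).eq]
    simp [mul_assoc]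
  have hinvT : invT (Matrix.SpecialLinearGroup.map σ A) = A := by
    refine Subtype.ext ?_
    have h1 : (A : Matrix (Fin 3) (Fin 3) K).map σ * (A : Matrix (Fin 3) (Fin 3) K)ᵀ = 1 := mul_eq_one_comm.1 hAu
    have h3 : (Matrix.SpecialLinearGroup.map σ A)⁻¹ = ⟨(A : Matrix (Fin 3) (Fin 3) K)ᵀ, by rw [det_transpose]; exact A.2⟩ :=
      inv_eq_of_mul_eq_one_right (Subtype.ext h1)
    show ((Matrix.SpecialLinearGroup.map σ A)⁻¹ : Matrix.SpecialLinearGroup (Fin 3) K).1ᵀ = A.1
    rw [h3]
    exact Matrix.transpose_transpose _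
  obtain ⟨y, hy⟩ : ∃ y, y = G * psi K A * G⁻¹ := ⟨_, rfl⟩
  have hymem : y ∈ chevG2.group K :=
    hy ▸ mul_mem (mul_mem (hG ▸ Phi_mem_group _) (psi_mem A)) (inv_mem (hG ▸ Phi_mem_group _))
  have hyfix : scalarGL chevG2 σ y = y := by
    have hps : scalarGL chevG2 σ (psi K A) = psi K (Matrix.SpecialLinearGroup.map σ A) := psi_map σ A
    have hinv : (N : GL chevG2.Idx K)⁻¹ = N := by rw [← Subgroup.coe_inv, inv_eq_of_mul_eq_one_right hNN]
    rw [hy, map_mul, map_mul, map_inv, hGσ, hps, _root_.mul_inv_rev, hinv]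
    calc _ = G * ((N : GL chevG2.Idx K) * psi K (Matrix.SpecialLinearGroup.map σ A) * N) * G⁻¹ := by group
      _ = _ := by rw [hNA, hinvT]
  have hB : (show Matrix (Fin chevG2.rank) (Fin chevG2.rank) ℤ from !![(2 : ℤ), 3; 1, 2]) * cartanMat chevG2 = 1 := by
    decide +kernel
  obtain ⟨x, hx, hxy⟩ := goodG2.fixed_range G2Invol.hc hB ι σ hfix hymem hyfix
  refine ⟨⟨x, hx⟩, ?_⟩
  rw [← Subgroup.orderOf_coe, ← orderOf_injective (scalarGL chevG2 ι) (scalarGL_injective ι)]
  show orderOf (scalarGL chevG2 ι x) = _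
  rw [hxy, hy, show G * psi K A * G⁻¹ = MulAut.conj G (psi K A) from rfl]
  exact ((orderOf_injective (MulAut.conj G).toMonoidHom (MulEquiv.injective _) _).trans
    (orderOf_injective (psi K) psi_injective A)).trans hAo

end CfsgLib.Chev.G2Oct
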