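import Mathlib
import Cfsg.Prelude.Def_ChevG2
import Cfsg.Prelude.Def_ChevStructure
import Cfsg.Agent.Lib.Chev.Sparse
import Cfsg.Agent.Lib.Chev.G2FourData

/-!
Kernel checks for the action of degree 416: Steinberg's relations, orbits and suborbits.
-/

set_option autoImplicit false
set_option maxRecDepth 100000
set_option maxHeartbeats 0

namespace CfsgLib.Chev.G2Four

open Cfsg.Lie CfsgLib.Chev

/-- An entry of a packed table. -/
def px (p x : ℕ) : ℕ := (p >>> (9 * x)) &&& 511

/-- The packed image of a root element. -/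
noncomputable def gp (k : ℕ) : ℕ := gTab.getD k 0

/-- The value of a word of letters at a point. -/
noncomputable def ev (G : ℕ → ℕ) (w : List ℕ) (x : ℕ) : ℕ :=
  List.rec x (fun k _ ih => px (G k) ih) w

/-- Products of the codes `0, 1, ω, ω²` of four elements. -/
def mt (a b : ℕ) : ℕ :=
  (([[0, 0, 0, 0], [0, 1, 2, 3], [0, 2, 3, 1], [0, 3, 1, 2]] : List (List ℕ)).getD a []).getD b 0

/-- Inverses of codes. -/
def invC (a : ℕ) : ℕ := ([0, 1, 3, 2] : List ℕ).getD a 0

/-- Sums of codes. -/
def addC (a b : ℕ) : ℕ :=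
  (([[0, 1, 2, 3], [1, 0, 3, 2], [2, 3, 0, 1], [3, 2, 1, 0]] : List (List ℕ)).getD a []).getD b 0

/-- Powers of codes. -/
def powC (a : ℕ) : ℕ → ℕ
  | 0 => 1
  | k + 1 => mt (powC a k) a

/-- The code of an integer. -/
def intC (c : ℤ) : ℕ := if c % 2 = 0 then 0 else 1

/-- The letter of a root and a code. -/
noncomputable def lt4 (r t : ℕ) : ℕ := 4 * r + t

/-- The letters of the right hand side of the commutator formula. -/
noncomputable def commL (r s t u : ℕ) : List ℕ :=
  (chevG2.commTerms r s).map fun c =>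
    lt4 c.1 (mt (mt (intC c.2.1) (powC t c.2.2.1)) (powC u c.2.2.2))

/-- The letters of `h_r(t)`. -/
noncomputable def hL (r t : ℕ) : List ℕ :=
  [lt4 r t, lt4 (chevG2.neg r) (invC t), lt4 r t, lt4 r 1, lt4 (chevG2.neg r) 1, lt4 r 1]

/-- Equal words. -/
noncomputable def same (w w' : List ℕ) : Bool :=
  allR (fun x => Nat.beq (ev gp w x) (ev gp w' x)) (upto 416)

/-- The tables are permutations, with (R1). -/
noncomputable def addOK : Bool :=
  allR (fun r => allR (fun s => allR (fun x => Nat.blt (px (gp (lt4 r s)) x) 416) (upto 416) &&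
    allR (fun t => same [lt4 r s, lt4 r t] [lt4 r (addC s t)]) (upto 4)) (upto 4) &&
    same [lt4 r 0] []) (upto 12)

/-- (R2) for one root. -/
noncomputable def commOK (r : ℕ) : Bool :=
  allR (fun s => Nat.beq s r || Nat.beq s (chevG2.neg r) || allR (fun t => allR (fun u =>
    same [lt4 s u, lt4 r t, lt4 s u, lt4 r t] (commL r s t u) &&
      allR (fun k => Nat.blt k 48) (commL r s t u)) (upto 4)) (upto 4)) (upto 12)

/-- (R3). -/
noncomputable def torOK : Bool :=
  allR (fun r => Nat.blt (chevG2.neg r) 12 && allR (fun s => allR (fun t =>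
    Nat.beq s 0 || Nat.beq t 0 || same (hL r s ++ hL r t) (hL r (mt s t))) (upto 4)) (upto 4))
    (upto 12)

theorem add_check : addOK = true := by decide +kernel

theorem tor_check : torOK = true := by decide +kernel

theorem comm0 : commOK 0 = true := by decide +kernel

theorem comm1 : commOK 1 = true := by decide +kernel

theorem comm2 : commOK 2 = true := by decide +kernel

theorem comm3 : commOK 3 = true := by decide +kernel

theorem comm4 : commOK 4 = true := by decide +kernel

theorem comm5 : commOK 5 = true := by decide +kernel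

theorem comm6 : commOK 6 = true := by decide +kernel

theorem comm7 : commOK 7 = true := by decide +kernel

theorem comm8 : commOK 8 = true := by decide +kernel

theorem comm9 : commOK 9 = true := by decide +kernel

theorem comm10 : commOK 10 = true := by decide +kernel

theorem comm11 : commOK 11 = true := by decide +kernel

theorem comm_check {r : ℕ} (hr : r < 12) : commOK r = true := by
  interval_cases r
  exacts [comm0, comm1, comm2, comm3, comm4, comm5, comm6, comm7, comm8, comm9, comm10, comm11]

/-! ### Orbits -/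

/-- The packed image of a generator of the point stabiliser. -/
noncomputable def ap (a : ℕ) : ℕ := aTab.getD a 0

/-- A letter of a tree under a list of words. -/
noncomputable def stepW (G : ℕ → ℕ) (ws : List (List ℕ)) (a x : ℕ) : ℕ := ev G (ws.getD a []) x

/-- A tree grows from its root by the letters. -/
noncomputable def trOK (f : ℕ → ℕ → ℕ) (nl : ℕ) (T : Tr) : Bool :=
  Nat.blt 0 T.n && allR (fun i => Nat.blt (px T.pt i) 416 && (Nat.beq i 0 ||
    (Nat.blt (px T.par i) i && Nat.blt (px T.ltr i) nl &&
      Nat.beq (f (px T.ltr i) (px T.pt (px T.par i))) (px T.pt i)))) (upto T.n)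

/-- The total length of the suborbits in a mask. -/
noncomputable def maskSum (subs : List Tr) (m : ℕ) : ℕ :=
  List.rec (motive := fun _ => ℕ → ℕ) (fun _ => 0)
    (fun T _ ih j => (bif Nat.testBit m j then T.n else 0) + ih (j + 1)) subs 0

/-- An orbit with suborbits: trees, matching, and no union of suborbits is a proper block. -/
noncomputable def orbOK (f : ℕ → ℕ → ℕ) (nl : ℕ) (G : ℕ → ℕ) (O : Orb) : Bool :=
  trOK f nl O.tree &&
  allR (fun i => Nat.beq (px O.pos (px O.tree.pt i)) i &&
    Nat.blt (px O.lab (px O.tree.pt i)) O.subs.length &&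
    Nat.blt (px O.sub (px O.tree.pt i)) (O.subs.getD (px O.lab (px O.tree.pt i)) ⟨0, 0, 0, 0⟩).n &&
    Nat.beq (px (O.subs.getD (px O.lab (px O.tree.pt i)) ⟨0, 0, 0, 0⟩).pt
      (px O.sub (px O.tree.pt i))) (px O.tree.pt i)) (upto O.tree.n) &&
  allR (fun T => trOK (stepW G O.words) O.words.length T) O.subs &&
  allR (fun w => allR (fun a => Nat.blt a 4) w &&
    Nat.beq (ev G w (px O.tree.pt 0)) (px O.tree.pt 0)) O.words &&
  Nat.blt 0 O.subs.length &&
  Nat.beq (O.subs.getD 0 ⟨0, 0, 0, 0⟩).n 1 &&
  Nat.beq (px O.lab (px O.tree.pt 0)) 0 &&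
  Nat.beq (maskSum O.subs (2 ^ O.subs.length - 1)) O.tree.n &&
  allR (fun m => !Nat.testBit m 0 || !Nat.beq (O.tree.n % maskSum O.subs m) 0 ||
    Nat.beq (maskSum O.subs m) 1 || Nat.beq (maskSum O.subs m) O.tree.n)
    (upto (2 ^ O.subs.length))

/-- The letters of the transitive action. -/
noncomputable def fG (a x : ℕ) : ℕ := px (gp (gLetters.getD a 0)) x

/-- The generators of the point stabiliser as letters. -/
noncomputable def fA (a x : ℕ) : ℕ := px (ap a) x

theorem orbG_check : orbOK fG 24 ap orbG = true := by decide +kernel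

theorem orbH0_check : orbOK fA 4 ap orbH0 = true := by decide +kernel

theorem orbH1_check : orbOK fA 4 ap orbH1 = true := by decide +kernel

/-- Words, matching with the reflections, and the cover of the points. -/
noncomputable def restOK : Bool :=
  allR (fun a => allR (fun k => Nat.blt k 48) (aWord.getD a []) &&
    allR (fun x => Nat.beq (ev gp (aWord.getD a []) x) (px (ap a) x) && Nat.blt (px (ap a) x) 416)
      (upto 416) &&
    Nat.beq (px (ap a) 0) 0) (upto 4) &&
  allR (fun k => Nat.blt k 48) gLetters && Nat.beq gLetters.length 24 &&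
  allR (fun i => Nat.blt (px eTab i) 416 && Nat.beq (px eInv (px eTab i)) i) (upto 315) &&
  allR (fun y => Nat.beq y 0 ||
    (Nat.blt (px orbH0.pos y) orbH0.tree.n && Nat.beq (px orbH0.tree.pt (px orbH0.pos y)) y) ||
    (Nat.blt (px orbH1.pos y) orbH1.tree.n && Nat.beq (px orbH1.tree.pt (px orbH1.pos y)) y))
    (upto 416) &&
  Nat.beq orbG.tree.n 416 && Nat.beq (px orbG.tree.pt 0) 0 &&
  !Nat.beq (px orbH0.tree.pt 0) 0 && !Nat.beq (px orbH1.tree.pt 0) 0 &&
  Nat.blt 1 orbH0.tree.n && Nat.blt 1 orbH1.tree.n

theorem rest_check : restOK = true := by decide +kernel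

end CfsgLib.Chev.G2Four
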