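import Mathlib
import Cfsg.Agent.Lib.Chev.G2FourChecks

/-!
A point stabiliser is maximal when no union of its suborbits is a block.
-/

set_option autoImplicit false
set_option maxRecDepth 100000

namespace CfsgLib.Chev.G2Four

open CfsgLib.Chev MulAction

/-- A point of the orbit of a table. -/
def InO (O : Orb) (x : ℕ) : Prop := px O.pos x < O.tree.n ∧ px O.tree.pt (px O.pos x) = x

lemma exists_mask (len : ℕ) (p : ℕ → Bool) :
    ∃ m < 2 ^ len, ∀ c < len, Nat.testBit m c = p c := by
  induction len generalizing p with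
  | zero => exact ⟨0, by simp, fun c hc => absurd hc (by omega)⟩
  | succ len ih =>
    obtain ⟨m, hm, hbit⟩ := ih fun c => p (c + 1)
    refine ⟨2 * m + (p 0).toNat, by cases p 0 <;> simp [pow_succ] <;> omega, fun c hc => ?_⟩
    cases c with
    | zero => cases h : p 0 <;> simp [Nat.testBit_zero]
    | succ c =>
      rw [Nat.testBit_succ]
      rw [show (2 * m + (p 0).toNat) / 2 = m by cases p 0 <;> simp <;> omega]
      exact hbit c (by omega)

lemma maskSum_eq (subs : List Tr) (m : ℕ) : maskSum subs m =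
    ∑ c : Fin subs.length, if Nat.testBit m c then (subs.getD c ⟨0, 0, 0, 0⟩).n else 0 := by
  have h : ∀ (l : List Tr) (j : ℕ), List.rec (motive := fun _ => ℕ → ℕ) (fun _ => 0)
      (fun T _ ih j => (bif Nat.testBit m j then T.n else 0) + ih (j + 1)) l j =
      ∑ c : Fin l.length, if Nat.testBit m (j + c) then (l.getD c ⟨0, 0, 0, 0⟩).n else 0 := by
    intro l
    induction l with
    | nil => intro j; simp
    | cons T l ih =>
      intro j
      show (bif Nat.testBit m j then T.n else 0) + _ = _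
      rw [ih (j + 1)]
      simp only [List.length_cons, Fin.sum_univ_succ, Fin.val_zero, add_zero, Fin.val_succ]
      congr 1
      · cases Nat.testBit m j <;> simp
      · refine Finset.sum_congr rfl fun c _ => ?_
        rw [show j + 1 + (c : ℕ) = j + ((c : ℕ) + 1) by ring]
        simp
  simpa [maskSum] using h subs 0

variable {H : Type*} [Group H] [MulAction H (Fin 416)]

lemma tree_mem {f : ℕ → ℕ → ℕ} {nl : ℕ} {T : Tr} (hT : trOK f nl T = true) (L : Subgroup H)
    (hl : ∀ a < nl, ∃ h ∈ L, ∀ x : Fin 416, ((h • x : Fin 416) : ℕ) = f a x) :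
    ∀ i < T.n, ∀ r : Fin 416, (r : ℕ) = px T.pt 0 →
      ∃ h ∈ L, ((h • r : Fin 416) : ℕ) = px T.pt i := by
  simp only [trOK, Bool.and_eq_true] at hT
  intro i
  induction i using Nat.strong_induction_on with
  | _ i ih =>
    intro hi r hr
    have h1 := allR_upto hT.2 hi
    simp only [Bool.and_eq_true, Bool.or_eq_true, Nat.blt, Nat.ble_eq, Nat.beq_eq] at h1
    rcases h1.2 with rfl | ⟨⟨hp, hg⟩, he⟩
    · exact ⟨1, one_mem L, by rw [one_smul, hr]⟩
    · obtain ⟨h, hh, hv⟩ := ih (px T.par i) (by omega) (by omega) r hr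
      obtain ⟨a, ha, hav⟩ := hl _ (show px T.ltr i < nl by omega)
      refine ⟨a * h, mul_mem ha hh, ?_⟩
      rw [mul_smul, hav, hv, he]

lemma ev_cons (G : ℕ → ℕ) (k : ℕ) (w : List ℕ) (x : ℕ) : ev G (k :: w) x = px (G k) (ev G w x) :=
  rfl

lemma word_elt (G : ℕ → ℕ) {nl : ℕ}
    (hG : ∀ a < nl, ∃ h : H, ∀ x : Fin 416, ((h • x : Fin 416) : ℕ) = px (G a) x) :
    ∀ w : List ℕ, allR (fun a => Nat.blt a nl) w = true →
      ∃ h : H, ∀ x : Fin 416, ((h • x : Fin 416) : ℕ) = ev G w x
  | [], _ => ⟨1, fun x => by rw [one_smul]; rfl⟩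
  | a :: w, hw => by
    have hw' : (Nat.blt a nl && allR (fun a => Nat.blt a nl) w) = true := hw
    simp only [Bool.and_eq_true, Nat.blt, Nat.ble_eq] at hw'
    obtain ⟨h, hh⟩ := word_elt G hG w hw'.2
    obtain ⟨g, hg⟩ := hG a hw'.1
    exact ⟨g * h, fun x => by rw [mul_smul, hg, hh, ev_cons]⟩

/-- A point stabiliser in an orbit passing the checks is a maximal subgroup. -/
theorem coatom_of_orb [Finite H] {f : ℕ → ℕ → ℕ} {nl : ℕ} {G : ℕ → ℕ} {O : Orb}
    (hO : orbOK f nl G O = true) (hn : 1 < O.tree.n)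
    (hl : ∀ a < nl, ∃ h : H, ∀ x : Fin 416, ((h • x : Fin 416) : ℕ) = f a x)
    (hG : ∀ a < 4, ∃ h : H, ∀ x : Fin 416, ((h • x : Fin 416) : ℕ) = px (G a) x)
    {y : Fin 416} (hy : (y : ℕ) = px O.tree.pt 0)
    (hclosed : ∀ h : H, InO O (h • y : Fin 416)) :
    IsCoatom (stabilizer H y) ∧ ∀ x : Fin 416, InO O x → ∃ h : H, h • y = x := by
  classical
  simp only [orbOK, Bool.and_eq_true, Nat.blt, Nat.ble_eq, Nat.beq_eq] at hO
  obtain ⟨⟨⟨⟨⟨⟨⟨⟨htree, hptr⟩, hsubs⟩, hwords⟩, hlen⟩, h0n⟩, hlab0⟩, hfull⟩, hmask⟩ := hO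
  have hp : ∀ i < O.tree.n, px O.pos (px O.tree.pt i) = i ∧
      px O.lab (px O.tree.pt i) < O.subs.length ∧
      px O.sub (px O.tree.pt i) < (O.subs.getD (px O.lab (px O.tree.pt i)) ⟨0, 0, 0, 0⟩).n ∧
      px (O.subs.getD (px O.lab (px O.tree.pt i)) ⟨0, 0, 0, 0⟩).pt (px O.sub (px O.tree.pt i)) =
        px O.tree.pt i := by
    intro i hi
    have h := allR_upto hptr hi
    simp only [Bool.and_eq_true, Nat.blt, Nat.ble_eq, Nat.beq_eq] at h
    exact ⟨h.1.1.1, by omega, by omega, h.2⟩
  have hreach : ∀ x : Fin 416, InO O x → ∃ h : H, h • y = x := fun x hx => by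
    obtain ⟨h, -, hv⟩ := tree_mem htree ⊤
      (fun a ha => (hl a ha).imp fun h hh => ⟨Subgroup.mem_top h, hh⟩) _ hx.1 y hy
    exact ⟨h, Fin.ext (hv.trans hx.2)⟩
  refine ⟨?_, hreach⟩
  -- the suborbits
  set sub : Fin O.subs.length → Tr := fun c => O.subs.getD c ⟨0, 0, 0, 0⟩ with hsub
  have hsubtree : ∀ c : Fin O.subs.length, trOK (stepW G O.words) O.words.length (sub c) = true :=
    fun c => allR_true hsubs (by
      simp only [hsub, List.getD_eq_getElem _ _ c.2]
      exact List.getElem_mem c.2)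
  have hword : ∀ a < O.words.length, ∃ h ∈ stabilizer H y,
      ∀ x : Fin 416, ((h • x : Fin 416) : ℕ) = stepW G O.words a x := by
    intro a ha
    have hm : O.words.getD a [] ∈ O.words := by
      rw [List.getD_eq_getElem _ _ ha]; exact List.getElem_mem ha
    have h1 := allR_true hwords hm
    simp only [Bool.and_eq_true, Nat.beq_eq] at h1
    obtain ⟨h, hh⟩ := word_elt G hG _ h1.1
    refine ⟨h, mem_stabilizer_iff.2 (Fin.ext ?_), hh⟩
    rw [hh, hy, h1.2]
  let ι : Fin O.tree.n → Σ c : Fin O.subs.length, Fin (sub c).n := fun i =>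
    ⟨⟨px O.lab (px O.tree.pt i), (hp i i.2).2.1⟩,
      ⟨px O.sub (px O.tree.pt i), (hp i i.2).2.2.1⟩⟩
  let back : (Σ c : Fin O.subs.length, Fin (sub c).n) → ℕ := fun q => px (sub q.1).pt q.2
  have hback : ∀ i, back (ι i) = px O.tree.pt i := fun i => (hp i i.2).2.2.2
  have hιinj : Function.Injective ι := fun i j h => by
    have e := congrArg back h
    rw [hback, hback] at e
    exact Fin.ext (by rw [← (hp i i.2).1, e, (hp j j.2).1])
  have hιbij : Function.Bijective ι := by
    refine ⟨hιinj, (Fintype.bijective_iff_injective_and_card ι).2 ⟨hιinj, ?_⟩ |>.2⟩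
    rw [Fintype.card_fin, Fintype.card_sigma]
    simp only [Fintype.card_fin]
    conv_lhs => rw [← hfull, maskSum_eq]
    refine Finset.sum_congr rfl fun c _ => ?_
    rw [Nat.testBit_two_pow_sub_one, if_pos (decide_eq_true c.2)]
  let eι := Equiv.ofBijective ι hιbij
  -- a subgroup above the stabiliser
  have key : ∀ J : Subgroup H, stabilizer H y ≤ J → J = stabilizer H y ∨ J = ⊤ := by
    intro J hJ
    let B : Set (Fin 416) := {x | ∃ j ∈ J, j • y = x}
    have hBinv : ∀ h ∈ stabilizer H y, ∀ x : Fin 416, (h • x ∈ B ↔ x ∈ B) := by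
      intro h hh x
      constructor
      · rintro ⟨j, hj, e⟩
        exact ⟨h⁻¹ * j, mul_mem (inv_mem (hJ hh)) hj, by rw [mul_smul, e, inv_smul_smul]⟩
      · rintro ⟨j, hj, rfl⟩
        exact ⟨h * j, mul_mem (hJ hh) hj, mul_smul _ _ _⟩
    let rootPt : Fin O.subs.length → Fin 416 := fun c => ⟨px (sub c).pt 0 % 416,
      Nat.mod_lt _ (by norm_num)⟩
    have hroot : ∀ (c : Fin O.subs.length) (k : Fin (sub c).n) (x : Fin 416),
        (x : ℕ) = px (sub c).pt k → (x ∈ B ↔ rootPt c ∈ B) := by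
      intro c k x hx
      have ht := hsubtree c
      simp only [trOK, Bool.and_eq_true, Nat.blt, Nat.ble_eq] at ht
      have h0 := allR_upto ht.2 (show 0 < (sub c).n by omega)
      simp only [Bool.and_eq_true, Nat.blt, Nat.ble_eq] at h0
      have hr : ((rootPt c : Fin 416) : ℕ) = px (sub c).pt 0 := Nat.mod_eq_of_lt (by omega)
      obtain ⟨h, hh, hv⟩ := tree_mem (hsubtree c) (stabilizer H y) hword k k.2 (rootPt c) hr
      rw [show x = h • rootPt c from Fin.ext (hx.trans hv.symm)]
      exact hBinv h hh _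
    obtain ⟨m, hm, hbit⟩ := exists_mask O.subs.length fun c =>
      if hc : c < O.subs.length then decide (rootPt ⟨c, hc⟩ ∈ B) else false
    have hmB : ∀ (i : Fin O.tree.n) (x : Fin 416), (x : ℕ) = px O.tree.pt i →
        (x ∈ B ↔ Nat.testBit m (ι i).1 = true) := by
      intro i x hx
      rw [hroot (ι i).1 (ι i).2 x (hx.trans (hback i).symm), hbit _ (ι i).1.2,
        dif_pos (ι i).1.2, decide_eq_true_iff]
    have hlt : ∀ i : Fin O.tree.n, px O.tree.pt i < 416 := fun i => by
      have h := htree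
      simp only [trOK, Bool.and_eq_true] at h
      have h1 := allR_upto h.2 i.2
      simp only [Bool.and_eq_true, Nat.blt, Nat.ble_eq] at h1
      omega
    let pe : B → {i : Fin O.tree.n // Nat.testBit m (ι i).1 = true} := fun x =>
      ⟨⟨px O.pos (x : Fin 416), by
        obtain ⟨j, -, e⟩ := x.2; have := (hclosed j).1; rw [e] at this; exact this⟩, by
        refine (hmB _ (x : Fin 416) ?_).1 x.2
        obtain ⟨j, -, e⟩ := x.2; have := (hclosed j).2; rw [e] at this; exact this.symm⟩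
    have hpe : Function.Bijective pe := by
      constructor
      · rintro ⟨x, j, hj, rfl⟩ ⟨x', j', hj', rfl⟩ h
        refine Subtype.ext (Fin.ext ?_)
        have e := congrArg (fun z => px O.tree.pt ((z.1 : Fin O.tree.n) : ℕ)) h
        simpa [pe, (hclosed j).2, (hclosed j').2] using e
      · rintro ⟨i, hi⟩
        refine ⟨⟨⟨px O.tree.pt i, hlt i⟩, (hmB i _ rfl).2 hi⟩, Subtype.ext (Fin.ext ?_)⟩
        exact (hp i i.2).1
    have hcardB : Nat.card B = maskSum O.subs m := by
      rw [Nat.card_congr (Equiv.ofBijective pe hpe),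
        Nat.card_congr (show {i : Fin O.tree.n // Nat.testBit m (ι i).1 = true} ≃
          {q : (c : Fin O.subs.length) × Fin (sub c).n // Nat.testBit m q.1 = true} from
          eι.subtypeEquiv fun i => Iff.rfl),
        Nat.card_eq_fintype_card, Fintype.card_subtype, maskSum_eq, Finset.card_eq_sum_ones,
        Finset.sum_filter, Fintype.sum_sigma]
      refine Finset.sum_congr rfl fun c _ => ?_
      by_cases hc : Nat.testBit m (c : ℕ) = true <;> simp [hc, hsub]
    have hB1 : Nat.card B = (stabilizer H y).relIndex J := by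
      have e : B = orbit J y := Set.ext fun x =>
        ⟨fun ⟨j, hj, h⟩ => ⟨⟨j, hj⟩, h⟩, fun ⟨⟨j, hj⟩, h⟩ => ⟨j, hj, h⟩⟩
      rw [e, Nat.card_coe_set_eq, ← index_stabilizer]
      rfl
    have hOn : (stabilizer H y).index = O.tree.n := by
      rw [index_stabilizer, ← Nat.card_coe_set_eq]
      refine (Nat.card_congr (Equiv.ofBijective (fun x : orbit H y =>
        (⟨px O.pos (x : Fin 416), by
          obtain ⟨h, e⟩ := x.2
          have := (hclosed h).1
          simp only at e
          rwa [e] at this⟩ : Fin O.tree.n)) ⟨?_, ?_⟩)).trans (Nat.card_fin _)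
      · rintro ⟨x, j, rfl⟩ ⟨x', j', rfl⟩ h
        refine Subtype.ext (Fin.ext ?_)
        have e := congrArg (fun z : Fin O.tree.n => px O.tree.pt z) h
        simpa [(hclosed j).2, (hclosed j').2] using e
      · intro i
        have hin : InO O (⟨px O.tree.pt i, hlt i⟩ : Fin 416) :=
          ⟨by simp [(hp i i.2).1], by simp [(hp i i.2).1]⟩
        exact ⟨⟨_, hreach _ hin⟩, Fin.ext (hp i i.2).1⟩
    have hdvd : maskSum O.subs m ∣ O.tree.n := by
      rw [← hcardB, hB1, ← hOn]
      exact Subgroup.relIndex_dvd_index_of_le hJ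
    have hm0 : Nat.testBit m 0 = true := by
      have hyB : y ∈ B := ⟨1, one_mem J, one_smul _ _⟩
      have h := (hmB ⟨0, by omega⟩ y hy).1 hyB
      simpa [ι, hlab0] using h
    have hcase := allR_upto hmask hm
    simp only [Bool.or_eq_true, Bool.not_eq_true', Nat.beq_eq, hm0, Bool.true_eq_false, false_or,
      ← Bool.not_eq_true, not_true] at hcase
    rcases hcase with (hc | hc) | hc
    · exact absurd (Nat.mod_eq_zero_of_dvd hdvd) hc
    · left
      exact le_antisymm (Subgroup.relIndex_eq_one.1 (by rw [← hB1, hcardB, hc])) hJ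
    · right
      refine Subgroup.index_eq_one.1 ?_
      have h := Subgroup.relIndex_mul_index hJ
      rw [hOn, ← hB1, hcardB, hc] at h
      exact mul_left_cancel₀ (show O.tree.n ≠ 0 by omega) (by rw [h, mul_one])
  refine ⟨fun h => ?_, fun J hJ => ((key J hJ.le).resolve_left (ne_of_gt hJ))⟩
  have hidx : (stabilizer H y).index = 1 := by rw [h, Subgroup.index_top]
  rw [index_stabilizer, ← Nat.card_coe_set_eq, Nat.card_eq_one_iff_unique] at hidx
  have h2 : ∀ i < O.tree.n, ∃ x : orbit H y, ((x : Fin 416) : ℕ) = px O.tree.pt i := fun i hi => by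
    obtain ⟨h, -, hv⟩ := tree_mem htree ⊤
      (fun a ha => (hl a ha).imp fun h hh => ⟨Subgroup.mem_top h, hh⟩) i hi y hy
    exact ⟨⟨h • y, h, rfl⟩, hv⟩
  obtain ⟨x₀, e₀⟩ := h2 0 (by omega)
  obtain ⟨x₁, e₁⟩ := h2 1 hn
  have := hidx.1.elim x₀ x₁
  subst this
  have h01 := (hp 0 (by omega)).1
  rw [← e₀, e₁, (hp 1 hn).1] at h01
  exact one_ne_zero h01

end CfsgLib.Chev.G2Four
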