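import Mathlib
import Cfsg.Agent.Lib.Chev.G2FourOrbit
import Cfsg.Agent.Lib.Chev.StTorus
import Cfsg.Agent.Lib.Chev.OrderTables

/-!
The action of the Chevalley group of type G2 over a field with four elements on 416 points.
-/

set_option autoImplicit false
set_option maxRecDepth 100000
set_option linter.unusedSimpArgs false

namespace CfsgLib.Chev.G2Four

open Cfsg.Lie CfsgLib.Chev

/-- A table as a permutation. -/
noncomputable def perm (p : ℕ) : Equiv.Perm (Fin 416) :=
  if h : Function.Bijective (fun x : Fin 416 =>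
      (⟨px p x % 416, Nat.mod_lt _ (by norm_num)⟩ : Fin 416)) then Equiv.ofBijective _ h else 1

lemma gp_lt {r t : ℕ} (hr : r < 12) (ht : t < 4) {x : ℕ} (hx : x < 416) :
    px (gp (lt4 r t)) x < 416 := by
  have h := allR_upto add_check hr
  simp only [Bool.and_eq_true] at h
  have h1 := allR_upto h.1 ht
  simp only [Bool.and_eq_true] at h1
  have h2 := allR_upto h1.1 hx
  simp only [Nat.blt, Nat.ble_eq] at h2
  omega

lemma gp_add {r s t : ℕ} (hr : r < 12) (hs : s < 4) (ht : t < 4) :
    same [lt4 r s, lt4 r t] [lt4 r (addC s t)] = true := by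
  have h := allR_upto add_check hr
  simp only [Bool.and_eq_true] at h
  have h1 := allR_upto h.1 hs
  simp only [Bool.and_eq_true] at h1
  exact allR_upto h1.2 ht

lemma gp_zero {r : ℕ} (hr : r < 12) : same [lt4 r 0] [] = true := by
  have h := allR_upto add_check hr
  simp only [Bool.and_eq_true] at h
  exact h.2

lemma add_self_code : ∀ t < 4, addC t t = 0 := by decide

lemma perm_apply {k : ℕ} (hk : k < 48) (x : Fin 416) :
    ((perm (gp k) x : Fin 416) : ℕ) = px (gp k) x := by
  obtain ⟨r, t, hr, ht, rfl⟩ : ∃ r t, r < 12 ∧ t < 4 ∧ k = lt4 r t :=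
    ⟨k / 4, k % 4, by omega, by omega, (Nat.div_add_mod k 4).symm⟩
  have hinv : ∀ x : Fin 416, px (gp (lt4 r t)) (px (gp (lt4 r t)) x) = x := by
    intro x
    have h1 := allR_upto (gp_add hr ht ht) x.2
    have h2 := allR_upto (gp_zero hr) x.2
    rw [Nat.beq_eq] at h1 h2
    simp only [ev_cons, add_self_code t ht] at h1 h2
    exact h1.trans h2
  have hb : Function.Bijective (fun x : Fin 416 =>
      (⟨px (gp (lt4 r t)) x % 416, Nat.mod_lt _ (by norm_num)⟩ : Fin 416)) :=
    Function.Involutive.bijective fun x => Fin.ext (by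
      simp only [Nat.mod_eq_of_lt (gp_lt hr ht x.2), hinv, Nat.mod_eq_of_lt x.2])
  rw [perm, dif_pos hb, Equiv.ofBijective_apply]
  exact Nat.mod_eq_of_lt (gp_lt hr ht x.2)

/-- The permutation of a word of letters. -/
noncomputable def permW (w : List ℕ) : Equiv.Perm (Fin 416) := (w.map fun k => perm (gp k)).prod

lemma permW_apply : ∀ w : List ℕ, (∀ k ∈ w, k < 48) → ∀ x : Fin 416,
    ((permW w x : Fin 416) : ℕ) = ev gp w x
  | [], _, x => rfl
  | k :: w, h, x => by
    rw [permW, List.map_cons, List.prod_cons, Equiv.Perm.mul_apply,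
      perm_apply (h k (List.mem_cons_self ..)), ev_cons]
    exact congrArg _ (permW_apply w (fun j hj => h j (List.mem_cons_of_mem _ hj)) x)

lemma permW_same {w w' : List ℕ} (hw : ∀ k ∈ w, k < 48) (hw' : ∀ k ∈ w', k < 48)
    (h : same w w' = true) : permW w = permW w' :=
  Equiv.ext fun x => Fin.ext (by
    rw [permW_apply w hw, permW_apply w' hw']
    exact Nat.beq_eq ▸ allR_upto h x.2)

lemma lt4_lt {r t : ℕ} (hr : r < 12) (ht : t < 4) : lt4 r t < 48 := by
  simp only [lt4]; omega

/-! ### Four elements -/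

variable {F : Type*} [Field F]

/-- The element with a code. -/
def dec (ω : F) : ℕ → F
  | 1 => 1
  | 2 => ω
  | 3 => ω + 1
  | _ => 0

lemma dec_ops [CharP F 2] {ω : F} (hω : ω ^ 2 + ω + 1 = 0) :
    ∀ a < 4, ∀ b < 4, dec ω (addC a b) = dec ω a + dec ω b ∧ dec ω (mt a b) = dec ω a * dec ω b := by
  have h2 : (2 : F) = 0 := CharTwo.two_eq_zero
  intro a ha b hb
  interval_cases a <;> interval_cases b <;> simp only [addC, mt, dec, List.getD_cons_zero,
    List.getD_cons_succ] <;> constructor <;> grind

lemma mt_lt : ∀ a < 4, ∀ b < 4, mt a b < 4 ∧ addC a b < 4 := by decide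

lemma addC_pos : ∀ u < 4, ∀ v < 4, u ≠ v → 0 < addC u v ∧ addC u v < 4 := by decide

lemma invC_spec : ∀ a < 4, invC a < 4 ∧ (0 < a → mt a (invC a) = 1) := by decide

lemma powC_lt {a : ℕ} (ha : a < 4) : ∀ k, powC a k < 4
  | 0 => by norm_num [powC]
  | k + 1 => (mt_lt _ (powC_lt ha k) _ ha).1

lemma intC_lt (c : ℤ) : intC c < 4 := by unfold intC; split <;> norm_num

/-- A coordinate system for four elements. -/
structure Code (F : Type*) [Field F] where
  ω : F
  eq : ω ^ 2 + ω + 1 = 0
  ch : CharP F 2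
  code : F → ℕ
  lt : ∀ t, code t < 4
  dc : ∀ t, dec ω (code t) = t

lemma exists_code [Fintype F] (hF : Fintype.card F = 4) : Nonempty (Code F) := by
  classical
  haveI : CharP F 2 := by
    have h4 : (4 : F) = 0 := by
      have := Nat.cast_card_eq_zero F
      rw [hF] at this
      exact_mod_cast this
    have h2 : (2 : F) = 0 := by
      have : (2 : F) * 2 = 0 := by linear_combination h4
      exact mul_self_eq_zero.1 this
    exact CharTwo.of_one_ne_zero_of_two_eq_zero one_ne_zero h2
  obtain ⟨ω, -, hω⟩ := Finset.exists_mem_notMem_of_card_lt_card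
    (s := ({0, 1} : Finset F)) (t := Finset.univ)
    (lt_of_le_of_lt Finset.card_le_two (by rw [Finset.card_univ, hF]; norm_num))
  simp only [Finset.mem_insert, Finset.mem_singleton, not_or] at hω
  have h3 : ω ^ 3 = 1 := by
    have := FiniteField.pow_card_sub_one_eq_one ω hω.1
    rwa [hF] at this
  have heq : ω ^ 2 + ω + 1 = 0 := by
    have h : (ω - 1) * (ω ^ 2 + ω + 1) = 0 := by linear_combination h3
    exact (mul_eq_zero.1 h).resolve_left (sub_ne_zero.2 hω.2)
  have hinj : Function.Injective (fun a : Fin 4 => dec ω a) := by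
    have h2 : (2 : F) = 0 := CharTwo.two_eq_zero
    intro a b h
    fin_cases a <;> fin_cases b <;> simp [dec] at h <;>
      first
      | rfl
      | exact absurd h hω.1
      | exact absurd h.symm hω.1
      | exact absurd h hω.2
      | exact absurd h.symm hω.2
      | exact absurd (show ω = 1 by linear_combination h - h2) hω.2
      | exact absurd (show ω = 1 by linear_combination -h - h2) hω.2
      | exact absurd (show (1 : F) = 0 by linear_combination h) one_ne_zero
      | exact absurd (show (1 : F) = 0 by linear_combination -h) one_ne_zero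
      | exact absurd (show ω = 0 by linear_combination h) hω.1
      | exact absurd (show ω = 0 by linear_combination -h) hω.1
  have hbij := (Fintype.bijective_iff_injective_and_card _).2
    ⟨hinj, by rw [Fintype.card_fin, hF]⟩
  exact ⟨⟨ω, heq, inferInstance, fun t => ((Equiv.ofBijective _ hbij).symm t : ℕ),
    fun t => ((Equiv.ofBijective _ hbij).symm t).2,
    fun t => (Equiv.ofBijective _ hbij).apply_symm_apply t⟩⟩

namespace Code

variable (C : Code F)

lemma unique {a : ℕ} (ha : a < 4) {t : F} (h : dec C.ω a = t) : C.code t = a := by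
  haveI := C.ch
  have key : ∀ u v, u < 4 → v < 4 → dec C.ω u = dec C.ω v → u = v := by
    intro u v hu hv e
    by_contra hne
    have hs : dec C.ω (addC u v) = 0 := by
      rw [(dec_ops C.eq u hu v hv).1, e, CharTwo.add_self_eq_zero]
    have hne0 := addC_pos u hu v hv hne
    have := (dec_ops C.eq _ hne0.2 _ (invC_spec _ hne0.2).1).2
    rw [(invC_spec _ hne0.2).2 hne0.1, hs, zero_mul] at this
    exact one_ne_zero this
  exact key _ _ (C.lt t) ha (by rw [C.dc, h])

lemma code_add (s t : F) : C.code (s + t) = addC (C.code s) (C.code t) := by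
  haveI := C.ch
  exact C.unique (mt_lt _ (C.lt s) _ (C.lt t)).2
    (by rw [(dec_ops C.eq _ (C.lt s) _ (C.lt t)).1, C.dc, C.dc])

lemma code_mul (s t : F) : C.code (s * t) = mt (C.code s) (C.code t) := by
  haveI := C.ch
  exact C.unique (mt_lt _ (C.lt s) _ (C.lt t)).1
    (by rw [(dec_ops C.eq _ (C.lt s) _ (C.lt t)).2, C.dc, C.dc])

lemma code_zero : C.code 0 = 0 := C.unique (by norm_num) rfl

lemma code_one : C.code 1 = 1 := C.unique (by norm_num) rfl

lemma code_int (c : ℤ) : C.code (c : F) = intC c := by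
  haveI := C.ch
  refine C.unique (intC_lt c) ?_
  unfold intC
  split
  · rename_i h
    exact ((CharP.intCast_eq_zero_iff F 2 c).2 (Int.dvd_of_emod_eq_zero h)).symm
  · rename_i h
    obtain ⟨d, rfl⟩ : Odd c := Int.not_even_iff_odd.1 fun he => h (Int.even_iff.1 he)
    show (1 : F) = _
    push_cast
    rw [CharTwo.two_eq_zero, zero_mul, zero_add]

lemma code_neg (t : F) : C.code (-t) = C.code t := by
  haveI := C.ch
  rw [CharTwo.neg_eq]

lemma code_pow (t : F) : ∀ k : ℕ, C.code (t ^ k) = powC (C.code t) k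
  | 0 => by rw [pow_zero, C.code_one]; rfl
  | k + 1 => by rw [pow_succ, C.code_mul, code_pow t k]; rfl

lemma code_pos {t : F} (ht : t ≠ 0) : 0 < C.code t := by
  rcases Nat.eq_zero_or_pos (C.code t) with h | h
  · exact absurd (by rw [← C.dc t, h]; rfl) ht
  · exact h

lemma code_inv {t : F} (ht : t ≠ 0) : C.code t⁻¹ = invC (C.code t) := by
  haveI := C.ch
  refine C.unique (invC_spec _ (C.lt t)).1 (eq_inv_of_mul_eq_one_right ?_)
  have := (dec_ops C.eq _ (C.lt t) _ (invC_spec _ (C.lt t)).1).2
  rw [(invC_spec _ (C.lt t)).2 (C.code_pos ht), C.dc] at this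
  exact this.symm

/-- The permutations of the generators. -/
noncomputable def gen : Fin chevG2.nroots × F → Equiv.Perm (Fin 416) :=
  fun p => perm (gp (lt4 p.1 (C.code p.2)))

lemma lift_stX {r : ℕ} (hr : r < 12) (t : F) :
    FreeGroup.lift C.gen (chevG2.stX r t) = perm (gp (lt4 r (C.code t))) := by
  have hr' : r < chevG2.nroots := hr
  rw [ChevalleyDatum.stX, dif_pos hr', FreeGroup.lift_apply_of]
  rfl

lemma lift_word : ∀ w : List (ℕ × F), (∀ p ∈ w, p.1 < 12) →
    FreeGroup.lift C.gen (chevG2.stWord w) = permW (w.map fun p => lt4 p.1 (C.code p.2))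
  | [], _ => by simp [ChevalleyDatum.stWord, permW]
  | p :: w, h => by
    have ih := lift_word w fun q hq => h q (List.mem_cons_of_mem _ hq)
    simp only [ChevalleyDatum.stWord, permW, List.map_cons, List.prod_cons, map_mul] at ih ⊢
    rw [ih, C.lift_stX (h p (List.mem_cons_self ..))]

lemma perm_sq {r t : ℕ} (hr : r < 12) (ht : t < 4) :
    perm (gp (lt4 r t)) * perm (gp (lt4 r t)) = 1 := by
  have h := permW_same (w := [lt4 r t, lt4 r t]) (w' := [lt4 r (addC t t)])
    (by simp [lt4_lt hr ht]) (by simp [lt4_lt hr (mt_lt _ ht _ ht).2]) (gp_add hr ht ht)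
  rw [add_self_code t ht] at h
  rw [permW_same (w := [lt4 r 0]) (w' := []) (by simp [lt4_lt hr]) (by simp) (gp_zero hr)] at h
  simpa [permW] using h

theorem rels : ∀ x ∈ chevG2.steinbergRels F, FreeGroup.lift C.gen x = 1 := by
  intro x hx
  rcases hx with (⟨r, s, t, hr, rfl⟩ | ⟨r, s, t, u, hr, hs, hsr, hneg, rfl⟩) |
    ⟨r, s, t, hr, hs, ht, rfl⟩
  · have hr' : r < 12 := hr
    have h := permW_same (w := [lt4 r (C.code s), lt4 r (C.code t)])
      (w' := [lt4 r (addC (C.code s) (C.code t))]) (by simp [lt4_lt hr' (C.lt _)])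
      (by simp [lt4_lt hr' (mt_lt _ (C.lt _) _ (C.lt _)).2]) (gp_add hr' (C.lt _) (C.lt _))
    rw [map_mul, map_mul, map_inv, C.lift_stX hr', C.lift_stX hr', C.lift_stX hr', C.code_add,
      mul_inv_eq_one]
    simpa [permW] using h
  · have hr' : r < 12 := hr
    have hs' : s < 12 := hs
    have h := allR_upto (comm_check hr') hs'
    simp only [Bool.or_eq_true, Nat.beq_eq] at h
    have h1 := allR_upto (allR_upto ((h.resolve_left (by tauto))) (C.lt t)) (C.lt u)
    simp only [Bool.and_eq_true] at h1
    have hL : ∀ k ∈ commL r s (C.code t) (C.code u), k < 48 := fun k hk => by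
      have := allR_true h1.2 hk
      simp only [Nat.blt, Nat.ble_eq] at this
      omega
    have hfst : ∀ p ∈ chevG2.commWord F r s t u, p.1 < 12 := by
      intro p hp
      simp only [ChevalleyDatum.commWord, List.mem_map] at hp
      obtain ⟨c, hc, rfl⟩ := hp
      have := hL _ (List.mem_map_of_mem hc)
      simp only [lt4] at this ⊢
      omega
    have hcw : (chevG2.commWord F r s t u).map (fun p => lt4 p.1 (C.code p.2)) =
        commL r s (C.code t) (C.code u) := by
      simp only [ChevalleyDatum.commWord, commL, List.map_map]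
      refine List.map_congr_left fun c _ => ?_
      simp only [Function.comp_apply, C.code_mul, C.code_int, C.code_pow, C.code_neg]
    have h2 := permW_same (w := [lt4 s (C.code u), lt4 r (C.code t), lt4 s (C.code u),
      lt4 r (C.code t)]) (by simp [lt4_lt hr' (C.lt _), lt4_lt hs' (C.lt _)]) hL h1.1
    rw [map_mul, map_mul, map_mul, map_mul, map_inv, map_inv, map_inv, C.lift_stX hs',
      C.lift_stX hr', C.lift_word _ hfst, hcw, ← h2,
      inv_eq_of_mul_eq_one_right (perm_sq hs' (C.lt u)),
      inv_eq_of_mul_eq_one_right (perm_sq hr' (C.lt t)), mul_inv_eq_one]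
    simp [permW, mul_assoc]
  · have hr' : r < 12 := hr
    have h := allR_upto tor_check hr'
    simp only [Bool.and_eq_true, Nat.blt, Nat.ble_eq] at h
    obtain ⟨hn, hall⟩ := h
    have hn' : chevG2.neg r < 12 := by omega
    have h1 := allR_upto (allR_upto hall (C.lt s)) (C.lt t)
    simp only [Bool.or_eq_true, Nat.beq_eq] at h1
    have h2 := h1.resolve_left (by
      have := C.code_pos hs; have := C.code_pos ht; omega)
    have hH : ∀ v : F, v ≠ 0 → FreeGroup.lift C.gen (chevG2.stH r v) =
        permW (hL r (C.code v)) ∧ ∀ k ∈ hL r (C.code v), k < 48 := by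
      intro v hv
      refine ⟨?_, ?_⟩
      · rw [ChevalleyDatum.stH, C.lift_word _ (by
          simp [ChevalleyDatum.hWord, ChevalleyDatum.nWord, hr', hn'])]
        simp [ChevalleyDatum.hWord, ChevalleyDatum.nWord, hL, C.code_neg, C.code_inv hv, C.code_one]
      · simp [hL, lt4_lt hr' (C.lt v), lt4_lt hn' (invC_spec _ (C.lt v)).1,
          lt4_lt hr' (show 1 < 4 by norm_num), lt4_lt hn' (show 1 < 4 by norm_num)]
    obtain ⟨e1, k1⟩ := hH s hs
    obtain ⟨e2, k2⟩ := hH t ht
    obtain ⟨e3, k3⟩ := hH (s * t) (mul_ne_zero hs ht)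
    rw [C.code_mul] at e3 k3
    have h3 := permW_same (w := hL r (C.code s) ++ hL r (C.code t))
      (fun k hk => (List.mem_append.1 hk).elim (k1 k) (k2 k)) k3 h2
    rw [map_mul, map_mul, map_inv, e1, e2, e3, mul_inv_eq_one, ← h3, permW, permW, permW,
      List.map_append, List.prod_append]

include C in
/-- The action. -/
theorem exists_action :
    ∃ Φ : ↥(chevG2.group F) →* Equiv.Perm (Fin 416),
      ∀ (r t : ℕ), r < 12 → t < 4 → ∃ x : ↥(chevG2.group F), Φ x = perm (gp (lt4 r t)) := by
  set S := stData goodG2 (hasComm_of_mem (D := chevG2) (by simp)) F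
  have hb : Function.Bijective S.θG := ⟨(MonoidHom.ker_eq_bot_iff _).1 (by
      rw [S.θG_ker]; exact stData_ker_eq_bot (by simp) goodG2 _), S.θG_surjective⟩
  let e := MulEquiv.ofBijective S.θG hb
  refine ⟨(PresentedGroup.toGroup C.rels).comp e.symm.toMonoidHom, fun r t hr ht =>
    ⟨e (PresentedGroup.mk _ (chevG2.stX r (dec C.ω t))), ?_⟩⟩
  show PresentedGroup.toGroup C.rels (e.symm (e _)) = _
  rw [e.symm_apply_apply]
  show FreeGroup.lift C.gen (chevG2.stX r (dec C.ω t)) = _
  rw [C.lift_stX hr, C.unique ht rfl]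

end Code

end CfsgLib.Chev.G2Four
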