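import Mathlib
import Cfsg.Agent.Lib.Chev.G2FourAction
import Cfsg.Agent.Lib.Janko2.Order

/-!
The point stabiliser of the degree 416 action of the Chevalley group of type G2 over four elements
is the Hall–Janko group, and the action is extremely primitive.
-/

set_option autoImplicit false
set_option maxRecDepth 100000

namespace CfsgLib.Chev.G2Four

open Cfsg.Lie CfsgLib.Chev MulAction

/-- The four generators agree with the generators on the reflections, and their orbits are closed. -/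
noncomputable def matchOK : Bool :=
  allR (fun a => allR (fun i => Nat.blt (CfsgLib.Janko2.pimg (CfsgLib.Janko2.gen0 a) i) 315 &&
    Nat.beq (px (ap a) (px eTab i)) (px eTab (CfsgLib.Janko2.pimg (CfsgLib.Janko2.gen0 a) i)))
    (upto 315)) (upto 4) &&
  allR (fun O => allR (fun i => allR (fun a =>
    Nat.blt (px O.pos (px (ap a) (px O.tree.pt i))) O.tree.n &&
    Nat.beq (px O.tree.pt (px O.pos (px (ap a) (px O.tree.pt i)))) (px (ap a) (px O.tree.pt i)))
    (upto 4)) (upto O.tree.n)) [orbH0, orbH1] &&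
  allR (fun x => Nat.blt (px orbG.pos x) 416 && Nat.beq (px orbG.tree.pt (px orbG.pos x)) x)
    (upto 416)

theorem match_check : matchOK = true := by decide +kernel

/-- The generators are involutions. -/
noncomputable def invOK : Bool :=
  allR (fun a => allR (fun x => Nat.beq (px (ap a) (px (ap a) x)) x) (upto 416)) (upto 4)

theorem inv_ok : invOK = true := by decide +kernel

lemma inv_check (a : Fin 4) (z : Fin 416) : px (ap a) (px (ap a) z) = z :=
  Nat.beq_eq ▸ allR_upto (allR_upto inv_ok a.2) z.2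

/-- Subgroups and conjugates. -/
theorem main {F : Type*} [Field F] [Fintype F] (hF : Fintype.card F = 4) :
    ∃ H : Subgroup ↥(chevG2.group F), IsCoatom H ∧ Cfsg.Spor.IsoJ2 H ∧
      ∀ x : ↥(chevG2.group F), x ∉ H →
        IsCoatom ((H ⊓ H.map (MulAut.conj x).toMonoidHom).subgroupOf H) := by
  classical
  obtain ⟨C⟩ := exists_code hF
  obtain ⟨Φ, hΦ⟩ := C.exists_action
  haveI : Finite ↥(chevG2.group F) := inferInstance
  letI : MulAction ↥(chevG2.group F) (Fin 416) := MulAction.compHom (Fin 416) Φ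
  have hsmul : ∀ (g : ↥(chevG2.group F)) (x : Fin 416), g • x = Φ g x := fun g x => rfl
  have hletter : ∀ k < 48, ∃ g : ↥(chevG2.group F), ∀ x : Fin 416,
      ((g • x : Fin 416) : ℕ) = px (gp k) x := by
    intro k hk
    obtain ⟨g, hg⟩ := hΦ (k / 4) (k % 4) (by omega) (by omega)
    refine ⟨g, fun x => ?_⟩
    rw [hsmul, hg, show lt4 (k / 4) (k % 4) = k from Nat.div_add_mod k 4, perm_apply hk]
  have hrest := rest_check
  simp only [restOK, Bool.and_eq_true, Bool.not_eq_true', Nat.beq_eq, Nat.blt, Nat.ble_eq,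
    ← Bool.not_eq_true] at hrest
  obtain ⟨⟨⟨⟨⟨⟨⟨⟨⟨⟨hA, hGl⟩, hGn⟩, hE⟩, hcover⟩, hG416⟩, hGroot⟩, hr0⟩, hr1⟩, hn0⟩, hn1⟩ := hrest
  have hm := match_check
  simp only [matchOK, Bool.and_eq_true] at hm
  obtain ⟨⟨hmatch, hclosedT⟩, hGpos⟩ := hm
  let y₀ : Fin 416 := ⟨0, by norm_num⟩
  -- the generators of the point stabiliser
  have hgen : ∀ a : Fin 4, ∃ g : ↥(chevG2.group F),
      (∀ x : Fin 416, ((g • x : Fin 416) : ℕ) = px (ap a) x) ∧ g • y₀ = y₀ := by
    intro a
    have h := allR_upto hA a.2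
    simp only [Bool.and_eq_true, Nat.beq_eq] at h
    obtain ⟨g, hg⟩ := word_elt gp hletter (aWord.getD (a : ℕ) []) h.1.1
    have hx : ∀ x : Fin 416, ((g • x : Fin 416) : ℕ) = px (ap a) x := fun x => by
      have h2 := allR_upto h.1.2 x.2
      simp only [Bool.and_eq_true, Nat.beq_eq] at h2
      rw [hg, h2.1]
    exact ⟨g, hx, Fin.ext (by rw [hx]; exact h.2)⟩
  choose A hAx hA0 using hgen
  -- the action is transitive, and the stabiliser is maximal
  have hlG : ∀ a < 24, ∃ g : ↥(chevG2.group F), ∀ x : Fin 416,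
      ((g • x : Fin 416) : ℕ) = fG a x := by
    intro a ha
    have hm : gLetters.getD a 0 ∈ gLetters := by
      rw [List.getD_eq_getElem _ _ (show a < gLetters.length by omega)]
      exact List.getElem_mem _
    have := allR_true hGl hm
    simp only [Nat.blt, Nat.ble_eq] at this
    exact hletter _ (by omega)
  have hclosedG : ∀ g : ↥(chevG2.group F), InO orbG (g • y₀ : Fin 416) := fun g => by
    have h := allR_upto hGpos (g • y₀ : Fin 416).2
    simp only [Bool.and_eq_true, Nat.blt, Nat.ble_eq, Nat.beq_eq] at h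
    exact ⟨by rw [hG416]; omega, h.2⟩
  obtain ⟨hcoatom, htrans⟩ := coatom_of_orb (H := ↥(chevG2.group F)) orbG_check
    (by rw [hG416]; norm_num) hlG (fun a ha => ⟨A ⟨a, ha⟩, hAx _⟩) (y := y₀) hGroot.symm hclosedG
  set H : Subgroup ↥(chevG2.group F) := stabilizer _ y₀ with hH
  have hcardH : Nat.card H = 604800 := by
    have h1 := card_groupG2 F
    rw [one_mul, hF] at h1
    have h2 : H.index = 416 := by
      rw [hH, index_stabilizer, show orbit ↥(chevG2.group F) y₀ = Set.univ from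
        Set.eq_univ_of_forall fun x => htrans x (by
          have h := allR_upto hGpos x.2
          simp only [Bool.and_eq_true, Nat.blt, Nat.ble_eq, Nat.beq_eq] at h
          exact ⟨by rw [hG416]; omega, h.2⟩), Set.ncard_univ, Nat.card_fin]
    have h3 := Subgroup.card_mul_index H
    rw [h1, h2] at h3
    omega
  -- the map onto the Hall–Janko group
  let K : Subgroup ↥(chevG2.group F) := Subgroup.closure (Set.range A)
  have hKH : K ≤ H := (Subgroup.closure_le _).2 (by rintro _ ⟨a, rfl⟩; exact hA0 a)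
  let E : Fin 315 → Fin 416 := fun i => ⟨px eTab i % 416, Nat.mod_lt _ (by norm_num)⟩
  have hEv : ∀ i : Fin 315, ((E i : Fin 416) : ℕ) = px eTab i ∧ px eInv (px eTab i) = i := by
    intro i
    have h := allR_upto hE i.2
    simp only [Bool.and_eq_true, Nat.blt, Nat.ble_eq, Nat.beq_eq] at h
    exact ⟨Nat.mod_eq_of_lt (by omega), h.2⟩
  have hEinj : Function.Injective E := fun i j h => Fin.ext (by
    have e := congrArg Fin.val h
    rw [(hEv i).1, (hEv j).1] at e
    rw [← (hEv i).2, e, (hEv j).2])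
  have hAE : ∀ (a : Fin 4) (i : Fin 315),
      A a • E i = E (CfsgLib.Janko2.permOf (CfsgLib.Janko2.gen0 a) i) := by
    intro a i
    have h := allR_upto (allR_upto hmatch a.2) i.2
    simp only [Bool.and_eq_true, Nat.beq_eq] at h
    refine Fin.ext ?_
    rw [hAx, (hEv i).1, (hEv _).1, (CfsgLib.Janko2.gen0_spec a.2).1 i, h.2]
  let ind : Subgroup ↥(chevG2.group F) :=
    { carrier := {g | ∃ π : Equiv.Perm (Fin 315),
        π ∈ CfsgLib.Janko2.PP ∧ ∀ i, g • E i = E (π i)}
      one_mem' := ⟨1, one_mem _, fun i => by rw [one_smul]; rfl⟩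
      mul_mem' := fun {g h} ⟨π, hπ, hg⟩ ⟨σ, hσ, hh⟩ =>
        ⟨π * σ, mul_mem hπ hσ, fun i => by rw [mul_smul, hh, hg]; rfl⟩
      inv_mem' := fun {g} ⟨π, hπ, hg⟩ =>
        ⟨π⁻¹, inv_mem hπ, fun i => by
          rw [inv_smul_eq_iff, hg]; simp⟩ }
  have hKind : ∀ k : K, ∃ π : CfsgLib.Janko2.PP, ∀ i,
      (k : ↥(chevG2.group F)) • E i = E ((π : Equiv.Perm (Fin 315)) i) := fun k => by
    obtain ⟨π, hπ, hk⟩ := ((Subgroup.closure_le ind).2 (by
      rintro _ ⟨a, rfl⟩
      exact ⟨_, Subgroup.subset_closure ⟨a, a.2, rfl⟩, hAE a⟩)) k.2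
    exact ⟨⟨π, hπ⟩, hk⟩
  choose ρ0 hρ0 using hKind
  have huniq : ∀ (k : K) (π : CfsgLib.Janko2.PP), (∀ i,
      (k : ↥(chevG2.group F)) • E i = E ((π : Equiv.Perm (Fin 315)) i)) → ρ0 k = π := fun k π h =>
    Subtype.ext (Equiv.ext fun i => hEinj (by rw [← hρ0, h]))
  let ρ : K →* CfsgLib.Janko2.PP :=
    { toFun := ρ0
      map_one' := huniq 1 1 fun i => by simp
      map_mul' := fun k l => huniq _ _ fun i => by
        rw [Subgroup.coe_mul, mul_smul, hρ0, hρ0]; rfl }
  have hρs : Function.Surjective ρ := by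
    rw [← MonoidHom.range_eq_top, eq_top_iff]
    intro π _
    have : (π : Equiv.Perm (Fin 315)) ∈ ρ.range.map CfsgLib.Janko2.PP.subtype := by
      have hle : CfsgLib.Janko2.PP ≤ ρ.range.map CfsgLib.Janko2.PP.subtype := by
        refine (Subgroup.closure_le _).2 ?_
        rintro _ ⟨a, ha, rfl⟩
        refine ⟨⟨_, Subgroup.subset_closure ⟨a, ha, rfl⟩⟩,
          ⟨⟨A ⟨a, ha⟩, Subgroup.subset_closure ⟨⟨a, ha⟩, rfl⟩⟩, ?_⟩, rfl⟩
        exact huniq _ _ fun i => hAE ⟨a, ha⟩ i
      exact hle π.2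
    obtain ⟨π', hπ', e⟩ := this
    exact Subtype.ext e ▸ hπ'
  have hcardPP : Nat.card CfsgLib.Janko2.PP = 604800 := by
    rw [← CfsgLib.Janko2.card_J2]
    exact Nat.card_congr CfsgLib.Janko2.equivPP.symm.toEquiv
  have hKH' : K = H := Subgroup.eq_of_le_of_card_ge hKH (by
    rw [hcardH, ← hcardPP]
    exact Nat.card_le_card_of_surjective _ hρs)
  have hρb : Function.Bijective ρ := (Nat.bijective_iff_surjective_and_card ρ).2 ⟨hρs, by
    rw [hcardPP, ← hcardH, hKH']⟩
  have hJ2 : Cfsg.Spor.IsoJ2 H :=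
    ⟨(MulEquiv.subgroupCongr hKH'.symm).trans
      ((MulEquiv.ofBijective ρ hρb).trans CfsgLib.Janko2.equivPP.symm)⟩
  refine ⟨H, hcoatom, hJ2, fun x hx => ?_⟩
  -- two-point stabilisers
  set y : Fin 416 := x • y₀ with hy
  have hyne : y ≠ y₀ := fun e => hx (mem_stabilizer_iff.2 e)
  have horb : ∀ O : Orb, O ∈ [orbH0, orbH1] → orbOK fA 4 ap O = true → 1 < O.tree.n →
      InO O (y : ℕ) → IsCoatom (stabilizer H y) := by
    intro O hOm hO hn hyO
    have hcl := allR_true hclosedT hOm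
    have hpt : px O.tree.pt 0 < 416 := by
      have h := hO
      simp only [orbOK, Bool.and_eq_true] at h
      obtain ⟨⟨⟨⟨⟨⟨⟨⟨ht, -⟩, -⟩, -⟩, -⟩, -⟩, -⟩, -⟩, -⟩ := h
      simp only [trOK, Bool.and_eq_true] at ht
      have h1 := allR_upto ht.2 (show 0 < O.tree.n by omega)
      simp only [Bool.and_eq_true, Nat.blt, Nat.ble_eq] at h1
      omega
    have hgens : ∀ a < 4, ∃ h : H, ∀ z : Fin 416, ((h • z : Fin 416) : ℕ) = px (ap a) z :=
      fun a ha => ⟨⟨A ⟨a, ha⟩, hA0 _⟩, fun z => hAx ⟨a, ha⟩ z⟩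
    have hroot0 : InO O (px O.tree.pt 0) := by
      have h := hO
      simp only [orbOK, Bool.and_eq_true] at h
      obtain ⟨⟨⟨⟨⟨⟨⟨⟨-, hp⟩, -⟩, -⟩, -⟩, -⟩, -⟩, -⟩, -⟩ := h
      have h1 := allR_upto hp (show 0 < O.tree.n by omega)
      simp only [Bool.and_eq_true, Nat.beq_eq] at h1
      exact ⟨by rw [h1.1.1.1]; omega, by rw [h1.1.1.1]⟩
    have hstep : ∀ (a : Fin 4) (z : Fin 416), InO O z → InO O (A a • z : Fin 416) := by
      intro a z hz
      have h := allR_upto (allR_upto hcl hz.1) a.2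
      simp only [Bool.and_eq_true, Nat.blt, Nat.ble_eq, Nat.beq_eq] at h
      rw [hz.2] at h
      exact ⟨by rw [hAx]; omega, by rw [hAx]; exact h.2⟩
    have hclosed : ∀ k : H, InO O (k • (⟨px O.tree.pt 0, hpt⟩ : Fin 416) : Fin 416) := by
      intro k
      have hk : (k : ↥(chevG2.group F)) ∈ K := by rw [hKH']; exact k.2
      suffices ∀ g ∈ K, ∀ z : Fin 416, (InO O (g • z : Fin 416) ↔ InO O z) from
        (this _ hk _).2 hroot0
      intro g hg
      induction hg using Subgroup.closure_induction with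
      | mem g hg =>
        obtain ⟨a, rfl⟩ := hg
        intro z
        refine ⟨fun h => ?_, hstep a z⟩
        have h2 := hstep a _ h
        have hinv : A a • (A a • z) = z := by
          refine Fin.ext ?_
          rw [hAx, hAx]
          exact inv_check a z
        rwa [hinv] at h2
      | one => intro z; rw [one_smul]
      | mul g h _ _ ihg ihh => intro z; rw [mul_smul, ihg, ihh]
      | inv g _ ih => intro z; conv_rhs => rw [← smul_inv_smul g z, ih]
    obtain ⟨hc, hreach⟩ := coatom_of_orb (H := H) hO hn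
      (fun a ha => hgens a ha) hgens (y := ⟨px O.tree.pt 0, hpt⟩) rfl hclosed
    obtain ⟨k, hk⟩ := hreach y hyO
    rw [← hk, stabilizer_smul_eq_stabilizer_map_conj]
    exact ((MulAut.conj k).mapSubgroup).isCoatom_iff _ |>.2 hc
  have hco : IsCoatom (stabilizer H y) := by
    have h := allR_upto hcover y.2
    simp only [Bool.or_eq_true, Bool.and_eq_true, Nat.blt, Nat.ble_eq, Nat.beq_eq] at h
    rcases h with (h | ⟨h, h'⟩) | ⟨h, h'⟩
    · exact absurd (Fin.ext h : y = y₀) hyne
    · exact horb orbH0 (by simp) orbH0_check (by omega) ⟨by omega, h'⟩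
    · exact horb orbH1 (by simp) orbH1_check (by omega) ⟨by omega, h'⟩
  convert hco using 1
  ext k
  rw [Subgroup.mem_subgroupOf, Subgroup.mem_inf]
  show (k : ↥(chevG2.group F)) ∈ stabilizer ↥(chevG2.group F) y₀ ∧
    (k : ↥(chevG2.group F)) ∈
      (stabilizer ↥(chevG2.group F) y₀).map (MulAut.conj x).toMonoidHom ↔ _
  rw [← stabilizer_smul_eq_stabilizer_map_conj, mem_stabilizer_iff, mem_stabilizer_iff]
  exact ⟨fun h => h.2, fun h => ⟨k.2, h⟩⟩

end CfsgLib.Chev.G2Four
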