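import Mathlib
import Cfsg.Agent.Lib.Chev.G2InvolBasic

/-!
G₂(q), q odd: the centraliser of `τ = h₁₁(-1)` is `Φ(SL₂ × SL₂) ⋅ h₁₀(F*)`.
-/

set_option autoImplicit false
set_option linter.unusedSectionVars false
set_option maxRecDepth 100000

namespace CfsgLib.Chev.G2Invol

open Cfsg.Lie

variable {F : Type*} [Field F]

local notation "SL₂" => Matrix.SpecialLinearGroup (Fin 2)

/-- Conjugation by `diag (z, 1)`. -/
def sig (z : Fˣ) : SL₂ F →* SL₂ F where
  toFun A := ⟨!![A.1 0 0, (z : F) * A.1 0 1; ((z⁻¹ : Fˣ) : F) * A.1 1 0, A.1 1 1], by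
    have h := A.2
    rw [Matrix.det_fin_two] at h
    rw [Matrix.det_fin_two_of]
    linear_combination h - A.1 0 1 * A.1 1 0 * z.mul_inv⟩
  map_one' := Subtype.ext (by simp [Matrix.one_fin_two])
  map_mul' A B := Subtype.ext (by
    show (!![(A.1 * B.1) 0 0, (z : F) * (A.1 * B.1) 0 1; ((z⁻¹ : Fˣ) : F) * (A.1 * B.1) 1 0, (A.1 * B.1) 1 1] :
        Matrix (Fin 2) (Fin 2) F) =
      !![A.1 0 0, (z : F) * A.1 0 1; ((z⁻¹ : Fˣ) : F) * A.1 1 0, A.1 1 1] *
        !![B.1 0 0, (z : F) * B.1 0 1; ((z⁻¹ : Fˣ) : F) * B.1 1 0, B.1 1 1]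
    ext a b
    fin_cases a <;> fin_cases b <;> simp [Matrix.mul_apply, Fin.sum_univ_two] <;>
      first | ring1 | (field_simp; ring1) | field_simp)

theorem sig_val (z : Fˣ) (A : SL₂ F) :
    (sig z A).1 = !![A.1 0 0, (z : F) * A.1 0 1; ((z⁻¹ : Fˣ) : F) * A.1 1 0, A.1 1 1] := rfl

theorem sig_U (z : Fˣ) (t : F) : sig z (slU t) = slU ((z : F) * t) :=
  Subtype.ext (by rw [sig_val]; simp [slU])

theorem sig_L (z : Fˣ) (t : F) : sig z (slL t) = slL (((z⁻¹ : Fˣ) : F) * t) :=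
  Subtype.ext (by rw [sig_val]; simp [slL])

/-- `t(z) = h₁₀(z)`. -/
noncomputable def tG : Fˣ →* GL chevG2.Idx F := goodG2.hG 10

theorem tG_mem_group (z : Fˣ) : tG z ∈ chevG2.group F :=
  goodG2.diagonal_le_group (goodG2.hG_mem mid_lt z)

theorem tG_conj_phi (z : Fˣ) (A : SL₂ F) :
    tG z * phiA A * (tG z)⁻¹ = phiA (sig z A) ∧ tG z * phiB A * (tG z)⁻¹ = phiB (sig z A) := by
  have hA : A ∈ Subgroup.closure (Set.range (slU (F := F)) ∪ Set.range slL) := by
    rw [closure_slU_slL]; exact Subgroup.mem_top _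
  induction hA using Subgroup.closure_induction with
  | mem y hy =>
    rcases hy with ⟨t, rfl⟩ | ⟨t, rfl⟩
    · rw [sig_U, phiA_U, phiA_U, phiB_U, phiB_U, tG, goodG2.hG_conj_xG long_lt, goodG2.hG_conj_xG short_lt,
        show pair chevG2 10 11 = 1 from by decide +kernel, show pair chevG2 10 7 = 1 from by decide +kernel,
        zpow_one]
      exact ⟨rfl, rfl⟩
    · rw [sig_L, phiA_L, phiA_L, phiB_L, phiB_L, tG, goodG2.hG_conj_xG (by decide), goodG2.hG_conj_xG (by decide),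
        show pair chevG2 10 0 = -1 from by decide +kernel, show pair chevG2 10 4 = -1 from by decide +kernel,
        zpow_neg_one]
      exact ⟨rfl, rfl⟩
  | one => simp
  | mul y w _ _ hy hw =>
    simp only [map_mul, ← hy.1, ← hy.2, ← hw.1, ← hw.2]
    exact ⟨by group, by group⟩
  | inv y _ hy =>
    simp only [map_inv, ← hy.1, ← hy.2]
    exact ⟨by group, by group⟩

theorem tG_conj (z : Fˣ) (p : SL₂ F × SL₂ F) :
    tG z * Phi p * (tG z)⁻¹ = Phi (sig z p.1, sig z p.2) := by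
  obtain ⟨A, B⟩ := p
  rw [Phi_mk, Phi_mk, ← (tG_conj_phi z A).1, ← (tG_conj_phi z B).2]
  group

theorem tG_sq (w : Fˣ) : tG (w * w) = Phi (slD w, slD w) := by
  rw [Phi_mk, phiA_D, phiB_D, tG, ← goodG2.torHom_pow_coroot long_lt, ← goodG2.torHom_pow_coroot short_lt,
    ← goodG2.torHom_pow_coroot mid_lt, ← map_mul]
  congr 1
  funext i
  fin_cases i <;>
    simp [show corootCo chevG2 11 0 = 1 from by decide +kernel, show corootCo chevG2 11 1 = 2 from by decide +kernel,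
      show corootCo chevG2 7 0 = 1 from by decide +kernel, show corootCo chevG2 7 1 = 0 from by decide +kernel,
      show corootCo chevG2 10 0 = 1 from by decide +kernel, show corootCo chevG2 10 1 = 1 from by decide +kernel,
      zpow_ofNat, sq]

theorem hG_six (c : Fˣ) : goodG2.hG 6 c = Phi (slD c, 1) * tG c⁻¹ := by
  rw [Phi_mk, phiA_D, map_one, mul_one, tG, map_inv, ← goodG2.torHom_pow_coroot long_lt,
    ← goodG2.torHom_pow_coroot mid_lt, ← goodG2.torHom_pow_coroot (show 6 < chevG2.nroots by decide),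
    ← map_inv, ← map_mul]
  congr 1
  funext i
  fin_cases i <;>
    simp [show corootCo chevG2 11 0 = 1 from by decide +kernel, show corootCo chevG2 11 1 = 2 from by decide +kernel,
      show corootCo chevG2 6 0 = 0 from by decide +kernel, show corootCo chevG2 6 1 = 1 from by decide +kernel,
      show corootCo chevG2 10 0 = 1 from by decide +kernel, show corootCo chevG2 10 1 = 1 from by decide +kernel,
      zpow_ofNat, sq]

/-- `K = Φ(SL₂ × SL₂) ⋅ t(F*)`. -/
noncomputable def K : Subgroup (GL chevG2.Idx F) where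
  carrier := {x | ∃ (p : SL₂ F × SL₂ F) (z : Fˣ), x = Phi p * tG z}
  one_mem' := ⟨1, 1, by simp⟩
  mul_mem' := by
    rintro _ _ ⟨p, z, rfl⟩ ⟨q, w, rfl⟩
    refine ⟨p * (sig z q.1, sig z q.2), z * w, ?_⟩
    rw [map_mul, map_mul, ← tG_conj]
    group
  inv_mem' := by
    rintro _ ⟨p, z, rfl⟩
    refine ⟨(sig z⁻¹ p⁻¹.1, sig z⁻¹ p⁻¹.2), z⁻¹, ?_⟩
    rw [← tG_conj, map_inv, map_inv]
    group

theorem mem_K {x : GL chevG2.Idx F} :
    x ∈ (K : Subgroup (GL chevG2.Idx F)) ↔ ∃ (p : SL₂ F × SL₂ F) (z : Fˣ), x = Phi p * tG z := Iff.rfl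

theorem Phi_mem_K (p : SL₂ F × SL₂ F) : Phi p ∈ (K : Subgroup (GL chevG2.Idx F)) :=
  ⟨p, 1, by simp⟩

theorem K_le_group : (K : Subgroup (GL chevG2.Idx F)) ≤ chevG2.group F := by
  rintro _ ⟨p, z, rfl⟩
  exact mul_mem (Phi_mem_group p) (tG_mem_group z)

theorem Phi_commute_tau (p : SL₂ F × SL₂ F) : Commute (Phi p) tau := by
  have h : (tau : GL chevG2.Idx F) = Phi (-1, 1) := by rw [Phi_mk, phiA_neg_one, map_one, mul_one]
  rw [h, Commute, SemiconjBy, ← map_mul, ← map_mul]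
  congr 1
  ext1 <;> simp

theorem K_commute_tau {x : GL chevG2.Idx F} (hx : x ∈ (K : Subgroup (GL chevG2.Idx F))) : Commute x tau := by
  obtain ⟨p, z, rfl⟩ := hx
  exact (Phi_commute_tau p).mul_left
    (goodG2.diagonal_comm (goodG2.hG_mem mid_lt z) (goodG2.hG_mem long_lt _))

theorem diagonal_le_K : chevG2.diagonalSubgroup F ≤ (K : Subgroup (GL chevG2.Idx F)) := by
  intro h hh
  rw [goodG2.diagonal_eq_range] at hh
  obtain ⟨c, rfl⟩ := hh
  have e : c = Pi.mulSingle (⟨0, by decide⟩ : Fin chevG2.rank) (c ⟨0, by decide⟩) *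
      Pi.mulSingle (⟨1, by decide⟩ : Fin chevG2.rank) (c ⟨1, by decide⟩) := by
    funext i
    fin_cases i <;> simp [Fin.ext_iff]
  rw [e, map_mul, goodG2.torHom_single, goodG2.torHom_single]
  refine mul_mem ?_ ?_
  · rw [show chevG2.simple ((⟨0, by decide⟩ : Fin chevG2.rank) : ℕ) = 7 from by decide +kernel, ← phiB_D,
      show phiB (slD (c ⟨0, by decide⟩)) = Phi (1, slD (c ⟨0, by decide⟩)) by rw [Phi_mk, map_one, one_mul]]
    exact Phi_mem_K _
  · rw [show chevG2.simple ((⟨1, by decide⟩ : Fin chevG2.rank) : ℕ) = 6 from by decide +kernel, hG_six]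
    exact ⟨_, _, rfl⟩

/-! ### The unipotent part -/

theorem neg_one_zpow_eq (h2 : (2 : F) ≠ 0) {a b : ℤ} (h : (-1 : F) ^ a = (-1 : F) ^ b) : a % 2 = b % 2 := by
  have hne : (-1 : F) ≠ 1 := fun e => h2 (by linear_combination -e)
  rcases Int.even_or_odd a with ha | ha <;> rcases Int.even_or_odd b with hb | hb
  · rw [Int.even_iff.1 ha, Int.even_iff.1 hb]
  · rw [ha.neg_one_zpow, hb.neg_one_zpow] at h; exact absurd h.symm hne
  · rw [ha.neg_one_zpow, hb.neg_one_zpow] at h; exact absurd h hne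
  · rw [Int.odd_iff.1 ha, Int.odd_iff.1 hb]

theorem tau_conj_xG {s : ℕ} (hs : s < chevG2.nroots) (t : F) :
    tau * goodG2.xG s t * tau⁻¹ = goodG2.xG s ((-1 : F) ^ pair chevG2 11 s * t) := by
  rw [tau, goodG2.hG_conj_xG hs]
  simp

theorem pos_fixed (h2 : (2 : F) ≠ 0) {v : GL chevG2.Idx F} (hv : v ∈ chevG2.posUnipotent F)
    (hf : tau * v * tau⁻¹ = v) : v ∈ (K : Subgroup (GL chevG2.Idx F)) := by
  rw [goodG2.posUnipotent_eq] at hv
  obtain ⟨t, rfl⟩ := goodG2.exists_xProd hc le_rfl hv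
  have e : tau * goodG2.xProd t (half chevG2) * tau⁻¹ =
      goodG2.xProd (fun r => (-1 : F) ^ pair chevG2 11 r * t r) (half chevG2) := by
    rw [Good.xProd, Good.xProd, ← MulAut.conj_apply, map_list_prod, List.map_map]
    refine congrArg List.prod (List.map_congr_left fun r hr => ?_)
    rw [List.mem_range'_1] at hr
    rw [Function.comp_apply, MulAut.conj_apply]
    exact tau_conj_xG (by omega) _
  rw [e] at hf
  rw [Good.xProd]
  refine Subgroup.list_prod_mem _ fun x hx => ?_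
  obtain ⟨r, hr, rfl⟩ := List.mem_map.1 hx
  rw [List.mem_range'_1] at hr
  have hr' : r < chevG2.nroots := by omega
  have h1 := goodG2.xProd_inj le_rfl hf hr.1 hr'
  have hd : ∀ s : Fin chevG2.nroots, half chevG2 ≤ s.val →
      pair chevG2 11 s % 2 = 0 → s.val = 11 ∨ s.val = 7 := by decide +kernel
  by_cases hpar : pair chevG2 11 r % 2 = 0
  · rcases hd ⟨r, hr'⟩ hr.1 hpar with e' | e' <;> simp only at e' <;> subst e'
    · rw [← phiA_U, show phiA (slU (t 11)) = Phi (slU (t 11), 1) by rw [Phi_mk, map_one, mul_one]]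
      exact Phi_mem_K _
    · rw [← phiB_U, show phiB (slU (t 7)) = Phi (1, slU (t 7)) by rw [Phi_mk, map_one, one_mul]]
      exact Phi_mem_K _
  · have h0 : t r = 0 := by
      rw [(Int.odd_iff.2 (by omega : pair chevG2 11 r % 2 = 1)).neg_one_zpow] at h1
      have : (2 : F) * t r = 0 := by linear_combination -h1
      exact (mul_eq_zero.1 this).resolve_left h2
    rw [h0, goodG2.xG_zero]
    exact one_mem _

/-! ### The monomial part -/

/-- The twelve elements of the Weyl group. -/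
def words : List (List (Fin chevG2.rank)) :=
  let a : Fin chevG2.rank := ⟨0, by decide⟩
  let b : Fin chevG2.rank := ⟨1, by decide⟩
  [[], [a], [b], [a, b], [b, a], [a, b, a], [b, a, b], [a, b, a, b], [b, a, b, a],
    [a, b, a, b, a], [b, a, b, a, b], [a, b, a, b, a, b]]

/-- The word of the reflection in the root `11`. -/
def wordA : List (Fin chevG2.rank) :=
  [⟨1, by decide⟩, ⟨0, by decide⟩, ⟨1, by decide⟩, ⟨0, by decide⟩, ⟨1, by decide⟩]

theorem words_closed : ∀ (i : Fin chevG2.rank), ∀ w ∈ words, ∃ w' ∈ words,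
    ∀ s : Fin chevG2.nroots, goodG2.wperm (i :: w) s = goodG2.wperm w' s := by
  decide +kernel

theorem words_stab : ∀ w ∈ words,
    (∀ u : Fin chevG2.nroots, pair chevG2 11 u % 2 = pair chevG2 11 (goodG2.wperm w u) % 2) →
    ∃ w' ∈ [[], [(⟨0, by decide⟩ : Fin chevG2.rank)], wordA, wordA ++ [⟨0, by decide⟩]],
      ∀ s : Fin chevG2.nroots, goodG2.wperm w s = goodG2.wperm w' s := by
  decide +kernel

theorem exists_word_mem (l : List (Fin chevG2.rank)) : ∃ w ∈ words, goodG2.wperm l = goodG2.wperm w := by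
  induction l with
  | nil => exact ⟨[], by simp [words], rfl⟩
  | cons i l ih =>
    obtain ⟨w, hw, e⟩ := ih
    obtain ⟨w', hw', e'⟩ := words_closed i w hw
    refine ⟨w', hw', ?_⟩
    rw [goodG2.wperm_cons, e, ← goodG2.wperm_cons]
    exact Equiv.ext e'

/-- `nB = n₇(1)`. -/
noncomputable def nB : GL chevG2.Idx F := goodG2.nI ⟨0, by decide⟩

/-- A representative of the reflection in the root `11`. -/
noncomputable def nA : GL chevG2.Idx F :=
  goodG2.wordN [⟨1, by decide⟩, ⟨0, by decide⟩] * goodG2.nI ⟨1, by decide⟩ *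
    (goodG2.wordN [⟨1, by decide⟩, ⟨0, by decide⟩])⁻¹

theorem nB_mem : (nB : GL chevG2.Idx F) ∈ (Phi (F := F)).range := by
  refine ⟨(1, slU 1 * slL (-1) * slU 1), ?_⟩
  rw [Phi_mk, map_one, one_mul, map_mul, map_mul, phiB_U, phiB_L, nB, Good.nI, Good.nG]
  simp [show chevG2.simple 0 = 7 from by decide +kernel, show chevG2.neg 7 = 4 from by decide +kernel]

theorem nA_mem : (nA : GL chevG2.Idx F) ∈ (Phi (F := F)).range := by
  have h6 : chevG2.simple ((⟨1, by decide⟩ : Fin chevG2.rank) : ℕ) = 6 := by decide +kernel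
  obtain ⟨e, he⟩ := goodG2.wordN_conj_nG (F := F) [⟨1, by decide⟩, ⟨0, by decide⟩] ⟨6, by decide⟩
  have h1 := he 1
  rw [show (goodG2.wperm [⟨1, by decide⟩, ⟨0, by decide⟩] ⟨6, by decide⟩).val = 11 from by decide +kernel,
    mul_one] at h1
  refine ⟨(slU (e : F) * slL (-((e⁻¹ : Fˣ) : F)) * slU (e : F), 1), ?_⟩
  rw [Phi_mk, map_one, mul_one, map_mul, map_mul, phiA_U, phiA_L, nA, Good.nI, h6, h1, Good.nG,
    show chevG2.neg 11 = 0 from by decide +kernel]

theorem acts_nA : goodG2.Acts (nA : GL chevG2.Idx F) (goodG2.wperm wordA) := by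
  have h := goodG2.acts_mul (goodG2.acts_mul (goodG2.acts_wordN (F := F) [⟨1, by decide⟩, ⟨0, by decide⟩])
    (goodG2.acts_nI ⟨1, by decide⟩)) (goodG2.acts_inv (goodG2.acts_wordN (F := F) [⟨1, by decide⟩, ⟨0, by decide⟩]))
  rw [← goodG2.wperm_reverse] at h
  have e : goodG2.wperm wordA = goodG2.wperm [⟨1, by decide⟩, ⟨0, by decide⟩] * goodG2.rperm ⟨1, by decide⟩ *
      goodG2.wperm [⟨1, by decide⟩, ⟨0, by decide⟩].reverse := by
    simp [wordA, Good.wperm, mul_assoc]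
  rw [e]
  exact h

theorem exists_rep {w : List (Fin chevG2.rank)}
    (hw : w ∈ [[], [(⟨0, by decide⟩ : Fin chevG2.rank)], wordA, wordA ++ [⟨0, by decide⟩]]) :
    ∃ m : GL chevG2.Idx F, m ∈ chevG2.monomialSubgroup F ∧ m ∈ (Phi (F := F)).range ∧
      goodG2.Acts m (goodG2.wperm w) := by
  have hA : (nA : GL chevG2.Idx F) ∈ chevG2.monomialSubgroup F :=
    mul_mem (mul_mem (goodG2.wordN_mem _) (goodG2.nI_mem _)) (inv_mem (goodG2.wordN_mem _))
  have hB : goodG2.Acts (nB : GL chevG2.Idx F) (goodG2.wperm [⟨0, by decide⟩]) := by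
    rw [show goodG2.wperm [(⟨0, by decide⟩ : Fin chevG2.rank)] = goodG2.rperm ⟨0, by decide⟩ by simp [Good.wperm]]
    exact goodG2.acts_nI _
  simp only [List.mem_cons, List.not_mem_nil, or_false] at hw
  rcases hw with rfl | rfl | rfl | rfl
  · exact ⟨1, one_mem _, one_mem _, goodG2.acts_one⟩
  · exact ⟨nB, goodG2.nI_mem _, nB_mem, hB⟩
  · exact ⟨nA, hA, nA_mem, acts_nA⟩
  · refine ⟨nA * nB, mul_mem hA (goodG2.nI_mem _), mul_mem nA_mem nB_mem, ?_⟩
    rw [goodG2.wperm_append]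
    exact goodG2.acts_mul acts_nA hB

theorem monomial_fixed (h2 : (2 : F) ≠ 0) {n : GL chevG2.Idx F} (hn : n ∈ chevG2.monomialSubgroup F)
    {π : Equiv.Perm (Fin chevG2.nroots)} (hπ : π ∈ goodG2.weyl) (ha : goodG2.Acts n π)
    (hf : tau * n * tau⁻¹ = n) : n ∈ (K : Subgroup (GL chevG2.Idx F)) := by
  obtain ⟨l, rfl⟩ := goodG2.exists_wperm hπ
  obtain ⟨w, hw, e⟩ := exists_word_mem l
  rw [e] at ha
  have hpar : ∀ u : Fin chevG2.nroots,
      pair chevG2 11 u % 2 = pair chevG2 11 (goodG2.wperm w u) % 2 := fun u => by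
    obtain ⟨c, hcu⟩ := ha u
    have h1 : tau * (n * goodG2.xG u 1 * n⁻¹) * tau⁻¹ = n * (tau * goodG2.xG u 1 * tau⁻¹) * n⁻¹ := by
      conv_lhs => rw [← hf]
      conv_rhs => rw [← hf]
      have hcn : Commute tau n := mul_inv_eq_iff_eq_mul.1 hf
      rw [hf]
      calc tau * (n * goodG2.xG u 1 * n⁻¹) * tau⁻¹ = (tau * n) * goodG2.xG u 1 * (tau * n)⁻¹ := by group
        _ = (n * tau) * goodG2.xG u 1 * (n * tau)⁻¹ := by rw [hcn.eq]
        _ = _ := by group
    rw [hcu, tau_conj_xG u.2, hcu, tau_conj_xG (goodG2.wperm w u).2, mul_one, mul_one] at h1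
    have h3 : (-1 : F) ^ pair chevG2 11 (goodG2.wperm w u) * (c : F) = (c : F) * (-1 : F) ^ pair chevG2 11 u := by
      by_contra hne
      have h4 : goodG2.xG (goodG2.wperm w u).val
          ((-1 : F) ^ pair chevG2 11 (goodG2.wperm w u) * (c : F) - (c : F) * (-1 : F) ^ pair chevG2 11 u) = 1 := by
        rw [sub_eq_add_neg, ← goodG2.xG_add, ← goodG2.xG_inv, h1, mul_inv_cancel]
      exact hne (sub_eq_zero.1 ((goodG2.x_eq_one_iff (goodG2.wperm w u).2 _).1 (congrArg Units.val h4)))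
    rw [mul_comm (c : F)] at h3
    exact (neg_one_zpow_eq h2 (mul_right_cancel₀ c.ne_zero h3)).symm
  obtain ⟨w', hw', e'⟩ := words_stab w hw hpar
  obtain ⟨m, hmN, hmK, hmA⟩ := exists_rep (F := F) hw'
  rw [show goodG2.wperm w = goodG2.wperm w' from Equiv.ext e'] at ha
  let z : ↥(chevG2.monomialSubgroup F) := ⟨m⁻¹ * n, mul_mem (inv_mem hmN) hn⟩
  have hz : z ∈ (goodG2.rootAct (F := F)).ker := by
    rw [MonoidHom.mem_ker]
    refine Subtype.ext (goodG2.rootAct_eq (x := z) ?_)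
    have := goodG2.acts_mul (goodG2.acts_inv hmA) ha
    rw [inv_mul_cancel] at this
    exact this
  rw [goodG2.rootAct_ker, Subgroup.mem_subgroupOf] at hz
  obtain ⟨p, hp⟩ := hmK
  rw [show n = m * (m⁻¹ * n) by group, ← hp]
  exact mul_mem (Phi_mem_K p) (by rw [hp]; exact diagonal_le_K hz)

/-- The centraliser of `τ` in the group is `K`. -/
theorem mem_K_of_commute (h2 : (2 : F) ≠ 0) {x : GL chevG2.Idx F} (hx : x ∈ chevG2.group F)
    (hcx : Commute x tau) : x ∈ (K : Subgroup (GL chevG2.Idx F)) := by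
  obtain ⟨b, hb, n, hn, π, hπw, hπ, u, hu, rfl⟩ := goodG2.exists_canonical hc hx
  obtain ⟨v, hv, h, hh, rfl⟩ := goodG2.mem_borel.1 hb
  have ht : (tau : GL chevG2.Idx F) ∈ chevG2.diagonalSubgroup F := goodG2.hG_mem long_lt _
  have hv' : tau * v * tau⁻¹ ∈ chevG2.posUnipotent F :=
    (Subgroup.mem_normalizer_iff.1 (goodG2.diagonal_le_normalizer_pos ht) v).1 hv
  have hu' : tau * u * tau⁻¹ ∈ rootGen chevG2 F (minusSet π) :=
    (Subgroup.mem_normalizer_iff.1 (goodG2.diagonal_le_normalizer_rootGen _ ht) u).1 hu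
  have hk : tau * n * tau⁻¹ * n⁻¹ ∈ chevG2.diagonalSubgroup F := by
    rw [show tau * n * tau⁻¹ * n⁻¹ = tau * (n * tau⁻¹ * n⁻¹) by group]
    exact mul_mem ht (goodG2.diag_conj hn (inv_mem ht))
  have e : (v * h) * n * u = (tau * v * tau⁻¹ * (h * (tau * n * tau⁻¹ * n⁻¹))) * n * (tau * u * tau⁻¹) := by
    have e0 : tau * (v * h * n * u) * tau⁻¹ = v * h * n * u := by rw [← hcx.eq, mul_inv_cancel_right]
    have e1 : tau * h * tau⁻¹ = h := by rw [goodG2.diagonal_comm ht hh, mul_inv_cancel_right]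
    calc v * h * n * u = tau * (v * h * n * u) * tau⁻¹ := e0.symm
      _ = tau * v * tau⁻¹ * (tau * h * tau⁻¹) * (tau * n * tau⁻¹) * (tau * u * tau⁻¹) := by group
      _ = tau * v * tau⁻¹ * h * (tau * n * tau⁻¹) * (tau * u * tau⁻¹) := by rw [e1]
      _ = _ := by group
  obtain ⟨e1, e2⟩ := goodG2.canonical_unique (goodG2.mem_borel.2 ⟨v, hv, h, hh, rfl⟩)
    (goodG2.mem_borel.2 ⟨_, hv', _, mul_mem hh hk, rfl⟩) hπ hu hu' e
  have hvv : (tau * v * tau⁻¹)⁻¹ * v ∈ chevG2.posUnipotent F ⊓ chevG2.diagonalSubgroup F := by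
    refine Subgroup.mem_inf.2 ⟨mul_mem (inv_mem hv') hv, ?_⟩
    rw [show (tau * v * tau⁻¹)⁻¹ * v = (tau * v * tau⁻¹)⁻¹ * (v * h) * h⁻¹ by group, e1,
      show (tau * v * tau⁻¹)⁻¹ * (tau * v * tau⁻¹ * (h * (tau * n * tau⁻¹ * n⁻¹))) * h⁻¹ =
        h * (tau * n * tau⁻¹ * n⁻¹) * h⁻¹ by group]
    exact mul_mem (mul_mem hh hk) (inv_mem hh)
  rw [goodG2.pos_inf_diagonal, Subgroup.mem_bot, inv_mul_eq_one] at hvv
  rw [hvv] at e1
  have hn1 : tau * n * tau⁻¹ = n := by
    have := mul_left_cancel e1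
    rw [left_eq_mul, mul_inv_eq_one] at this
    exact this
  refine mul_mem (mul_mem (mul_mem (pos_fixed h2 hv hvv) (diagonal_le_K hh))
    (monomial_fixed h2 hn hπw hπ hn1)) (pos_fixed h2 ?_ e2.symm)
  exact goodG2.minus_le_pos π hu

end CfsgLib.Chev.G2Invol
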