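import Mathlib

/-!
Traceless two by two matrices of a given determinant form one class under SL₂ over a finite field of odd order.
-/

set_option autoImplicit false

namespace CfsgLib.Chev.G2Invol

variable {F : Type*} [Field F]

/-- The binary quadratic form of a traceless matrix represents one. -/
theorem exists_one_value [Fintype F] (h2 : (2 : F) ≠ 0) (a b c : F) (hd : a * a + b * c ≠ 0) :
    ∃ x y : F, x * (c * x - a * y) - y * (a * x + b * y) = 1 := by
  classical
  by_cases hc : c = 0
  · have ha : a ≠ 0 := fun h => hd (by rw [h, hc]; ring)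
    refine ⟨(1 + b) / (-(2 * a)), 1, ?_⟩
    subst hc
    field_simp
    ring
  · have hodd : Fintype.card F % 2 = 1 :=
      FiniteField.odd_card_of_char_ne_two fun h => h2 (by
        have := ringChar.Nat.cast_ringChar (R := F)
        rw [h] at this
        exact_mod_cast this)
    obtain ⟨u, v, huv⟩ := FiniteField.exists_root_sum_quadratic
      (f := Polynomial.C c * Polynomial.X ^ 2 + Polynomial.C (0 : F) * Polynomial.X + Polynomial.C (-1))
      (g := Polynomial.C (-((a * a + b * c) / c)) * Polynomial.X ^ 2 + Polynomial.C (0 : F) * Polynomial.X + Polynomial.C 0)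
      (Polynomial.degree_quadratic hc)
      (Polynomial.degree_quadratic (neg_ne_zero.2 (div_ne_zero hd hc))) hodd
    simp only [Polynomial.eval_add, Polynomial.eval_mul, Polynomial.eval_pow, Polynomial.eval_C,
      Polynomial.eval_X, zero_mul, add_zero] at huv
    refine ⟨u + a / c * v, v, ?_⟩
    field_simp at huv ⊢
    linear_combination huv

/-- Traceless matrices with equal non-zero determinant are conjugate under SL₂. -/
theorem exists_conj_traceless [Fintype F] (h2 : (2 : F) ≠ 0) {M N : Matrix (Fin 2) (Fin 2) F}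
    (hM : M 0 0 + M 1 1 = 0) (hN : N 0 0 + N 1 1 = 0) (hdet : M.det = N.det) (h0 : M.det ≠ 0) :
    ∃ u : Matrix.SpecialLinearGroup (Fin 2) F, u.1 * M = N * u.1 := by
  have key : ∀ L : Matrix (Fin 2) (Fin 2) F, L 0 0 + L 1 1 = 0 → L.det ≠ 0 →
      ∃ P : Matrix (Fin 2) (Fin 2) F, P.det = 1 ∧ L * P = P * !![0, -L.det; 1, 0] := by
    intro L hL hL0
    have h11 : L 1 1 = -L 0 0 := by linear_combination hL
    rw [Matrix.det_fin_two, h11] at hL0
    obtain ⟨x, y, hxy⟩ := exists_one_value h2 (L 0 0) (L 0 1) (L 1 0) fun h => hL0 (by linear_combination -h)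
    refine ⟨!![x, L 0 0 * x + L 0 1 * y; y, L 1 0 * x - L 0 0 * y],
      by rw [Matrix.det_fin_two_of]; linear_combination hxy, ?_⟩
    rw [Matrix.det_fin_two, h11]
    ext i j
    fin_cases i <;> fin_cases j <;> simp [Matrix.mul_apply, Fin.sum_univ_two, h11] <;> ring
  obtain ⟨P, hP1, hPM⟩ := key M hM h0
  obtain ⟨R, hR1, hRN⟩ := key N hN (hdet ▸ h0)
  rw [← hdet] at hRN
  refine ⟨⟨R * P.adjugate, by rw [Matrix.det_mul, Matrix.det_adjugate, hR1, hP1, one_pow, one_mul]⟩, ?_⟩
  have hPi : P.adjugate * P = 1 := by rw [Matrix.adjugate_mul, hP1, one_smul]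
  have hPr : P * P.adjugate = 1 := by rw [Matrix.mul_adjugate, hP1, one_smul]
  calc R * P.adjugate * M = R * P.adjugate * (M * P) * P.adjugate := by
        simp only [Matrix.mul_assoc, hPr, Matrix.mul_one]
    _ = R * (P.adjugate * P) * !![0, -M.det; 1, 0] * P.adjugate := by
        rw [hPM]; simp only [Matrix.mul_assoc]
    _ = R * !![0, -M.det; 1, 0] * P.adjugate := by rw [hPi, Matrix.mul_one]
    _ = N * R * P.adjugate := by rw [hRN]
    _ = N * (R * P.adjugate) := Matrix.mul_assoc _ _ _

end CfsgLib.Chev.G2Invol
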