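import Mathlib
import Cfsg.Agent.Lib.Chev.G2InvolMat
import Cfsg.Agent.Lib.Chev.G2InvolCent

/-!
G₂(q), q odd: every involution commuting with `τ` is conjugate to `τ`.
-/

set_option autoImplicit false
set_option linter.unusedSectionVars false
set_option linter.unusedTactic false
set_option maxRecDepth 100000

namespace CfsgLib.Chev.G2Invol

open Cfsg.Lie

variable {F : Type*} [Field F]

local notation "SL₂" => Matrix.SpecialLinearGroup (Fin 2)

theorem sl_cayley (A : SL₂ F) :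
    A.1 * A.1 = (A.1 0 0 + A.1 1 1) • A.1 - (1 : Matrix (Fin 2) (Fin 2) F) := by
  rw [cayley, A.2, one_smul]

theorem eq_pm_one_of_sq (h2 : (2 : F) ≠ 0) {A : SL₂ F} (h : A * A = 1) : A = 1 ∨ A = -1 := by
  have e := congrArg Subtype.val h
  rw [Matrix.SpecialLinearGroup.coe_mul, sl_cayley, Matrix.SpecialLinearGroup.coe_one, sub_eq_iff_eq_add] at e
  have h00 := congrFun (congrFun e 0) 0
  have h01 := congrFun (congrFun e 0) 1
  have h10 := congrFun (congrFun e 1) 0
  have h11 := congrFun (congrFun e 1) 1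
  simp only [Matrix.smul_apply, Matrix.add_apply, Matrix.one_apply_eq, ne_eq, Fin.isValue,
    smul_eq_mul, zero_ne_one, not_false_eq_true, Matrix.one_apply_ne, one_ne_zero, add_zero] at h00 h01 h10 h11
  have ht : A.1 0 0 + A.1 1 1 ≠ 0 := fun h0 => h2 (by rw [h0, zero_mul] at h00; linear_combination -h00)
  have a2 := (mul_eq_zero.1 h01).resolve_left ht
  have a1 := (mul_eq_zero.1 h10).resolve_left ht
  have a3 : A.1 1 1 = A.1 0 0 := mul_left_cancel₀ ht (h11.trans h00.symm)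
  have hd := A.2
  rw [Matrix.det_fin_two, a1, a2, a3, mul_zero, sub_zero] at hd
  rcases mul_self_eq_one_iff.1 hd with h | h
  · left
    refine Subtype.ext ?_
    ext i j
    fin_cases i <;> fin_cases j <;> simp [a1, a2, a3, h]
  · right
    refine Subtype.ext ?_
    ext i j
    fin_cases i <;> fin_cases j <;> simp [a1, a2, a3, h]

theorem trace_zero_of_sq {A : SL₂ F} (h : A * A = -1) : A.1 0 0 + A.1 1 1 = 0 := by
  have e := congrArg Subtype.val h
  rw [Matrix.SpecialLinearGroup.coe_mul, sl_cayley, Matrix.SpecialLinearGroup.coe_neg,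
    Matrix.SpecialLinearGroup.coe_one] at e
  by_contra ht
  have hA : A.1 = 0 := (smul_eq_zero.1 (by rwa [sub_eq_neg_self] at e)).resolve_left ht
  have hd := A.2
  rw [hA, Matrix.det_zero] at hd
  exact zero_ne_one hd

/-- Conjugate by an element of the group. -/
def GConj (x y : GL chevG2.Idx F) : Prop := ∃ z ∈ chevG2.group F, z * x * z⁻¹ = y

theorem GConj.symm {x y : GL chevG2.Idx F} (h : GConj x y) : GConj y x := by
  obtain ⟨z, hz, rfl⟩ := h
  exact ⟨z⁻¹, inv_mem hz, by group⟩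

theorem GConj.trans {x y w : GL chevG2.Idx F} (h : GConj x y) (h' : GConj y w) : GConj x w := by
  obtain ⟨z, hz, rfl⟩ := h
  obtain ⟨z', hz', rfl⟩ := h'
  exact ⟨z' * z, mul_mem hz' hz, by group⟩

theorem exists_sl_conj [Fintype F] (h2 : (2 : F) ≠ 0) {A B : SL₂ F} (hA : A * A = -1) (hB : B * B = -1) :
    ∃ u : SL₂ F, u * A * u⁻¹ = B := by
  obtain ⟨u, hu⟩ := exists_conj_traceless h2 (trace_zero_of_sq hA) (trace_zero_of_sq hB)
    (by rw [A.2, B.2]) (by rw [A.2]; exact one_ne_zero)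
  refine ⟨u, mul_inv_eq_iff_eq_mul.2 (Subtype.ext ?_)⟩
  rw [Matrix.SpecialLinearGroup.coe_mul, Matrix.SpecialLinearGroup.coe_mul]
  exact hu

theorem slW_sq : (slW : SL₂ F) * slW = -1 := by
  refine Subtype.ext ?_
  rw [Matrix.SpecialLinearGroup.coe_mul, Matrix.SpecialLinearGroup.coe_neg, Matrix.SpecialLinearGroup.coe_one]
  ext i j
  fin_cases i <;> fin_cases j <;> simp [slW, Matrix.mul_apply, Fin.sum_univ_two]

theorem slWD_sq (c : Fˣ) : (slW * slD c : SL₂ F) * (slW * slD c) = -1 := by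
  refine Subtype.ext ?_
  simp only [Matrix.SpecialLinearGroup.coe_mul, Matrix.SpecialLinearGroup.coe_neg, Matrix.SpecialLinearGroup.coe_one]
  ext i j
  fin_cases i <;> fin_cases j <;> simp [slW, slD, Matrix.mul_apply, Fin.sum_univ_two]

/-- An inner involution other than `1, τ` is conjugate to `Φ(w, w)`. -/
theorem inner_class [Fintype F] (h2 : (2 : F) ≠ 0) {p : SL₂ F × SL₂ F} (hsq : Phi p * Phi p = 1)
    (h1 : Phi p ≠ 1) (ht : Phi p ≠ tau) : GConj (Phi p) (Phi (slW, slW)) := by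
  obtain ⟨A, B⟩ := p
  rw [← map_mul] at hsq
  rcases Phi_eq_one hsq with e | e
  · exfalso
    rw [Prod.mk_mul_mk, Prod.mk.injEq] at e
    rcases eq_pm_one_of_sq h2 e.1 with rfl | rfl <;> rcases eq_pm_one_of_sq h2 e.2 with rfl | rfl
    · exact h1 (by rw [Phi_mk, map_one, map_one, one_mul])
    · exact ht (by rw [Phi_mk, map_one, one_mul, phiB_neg_one])
    · exact ht (by rw [Phi_mk, map_one, mul_one, phiA_neg_one])
    · refine h1 ?_
      rw [Phi_mk, phiA_neg_one, phiB_neg_one, tau, ← map_mul]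
      simp
  · rw [Prod.mk_mul_mk, Prod.mk.injEq] at e
    obtain ⟨u, hu⟩ := exists_sl_conj h2 e.1 slW_sq
    obtain ⟨v, hv⟩ := exists_sl_conj h2 e.2 slW_sq
    refine ⟨Phi (u, v), Phi_mem_group _, ?_⟩
    rw [← map_inv, ← map_mul, ← map_mul]
    simp only [Prod.inv_mk, Prod.mk_mul_mk, hu, hv]

/-- The matrix of an outer element. -/
def outMat (ν : Fˣ) (A : SL₂ F) : Matrix (Fin 2) (Fin 2) F :=
  !![(ν : F) * A.1 0 0, A.1 0 1; (ν : F) * A.1 1 0, A.1 1 1]

theorem outMat_det (ν : Fˣ) (A : SL₂ F) : (outMat ν A).det = (ν : F) := by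
  have h := A.2
  rw [Matrix.det_fin_two] at h
  rw [outMat, Matrix.det_fin_two_of]
  linear_combination (ν : F) * h

theorem outer_sq_val (ν : Fˣ) (A : SL₂ F) :
    (ν : F) • (A * sig ν A * slD ν).1 = outMat ν A * outMat ν A := by
  simp only [Matrix.SpecialLinearGroup.coe_mul, sig_val, outMat]
  ext i j
  fin_cases i <;> fin_cases j <;> simp [slD, Matrix.mul_apply, Fin.sum_univ_two] <;> field_simp <;> ring

theorem outer_trace (h2 : (2 : F) ≠ 0) {ν : Fˣ} (hν : ¬ IsSquare (ν : F)) {A : SL₂ F}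
    (h : A * sig ν A * slD ν = 1 ∨ A * sig ν A * slD ν = -1) : outMat ν A 0 0 + outMat ν A 1 1 = 0 := by
  have e := outer_sq_val ν A
  rw [cayley, outMat_det] at e
  by_contra ht
  obtain ⟨k, hk⟩ : ∃ k : F, outMat ν A = k • (1 : Matrix (Fin 2) (Fin 2) F) := by
    rcases h with h | h <;> rw [h] at e
    · refine ⟨((ν : F) + ν) / (outMat ν A 0 0 + outMat ν A 1 1), ?_⟩
      rw [Matrix.SpecialLinearGroup.coe_one, eq_sub_iff_add_eq, ← add_smul] at e
      rw [div_eq_inv_mul, mul_smul, e, inv_smul_smul₀ ht]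
    · refine ⟨0, ?_⟩
      rw [Matrix.SpecialLinearGroup.coe_neg, Matrix.SpecialLinearGroup.coe_one, smul_neg, neg_eq_iff_add_eq_zero,
        add_sub_cancel, smul_eq_zero] at e
      rw [e.resolve_left ht, zero_smul]
  have hd := outMat_det ν A
  rw [hk, Matrix.det_smul, Matrix.det_one, mul_one, Fintype.card_fin] at hd
  exact hν ⟨k, by rw [← hd]; ring⟩

theorem outer_sq {ν : Fˣ} {p : SL₂ F × SL₂ F} (hsq : Phi p * tG ν * (Phi p * tG ν) = 1) :
    (p.1 * sig ν p.1 * slD ν = 1 ∨ p.1 * sig ν p.1 * slD ν = -1) ∧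
      (p.2 * sig ν p.2 * slD ν = 1 ∨ p.2 * sig ν p.2 * slD ν = -1) := by
  obtain ⟨A, B⟩ := p
  have e : Phi (A, B) * tG ν * (Phi (A, B) * tG ν) =
      Phi (A * sig ν A * slD ν, B * sig ν B * slD ν) := by
    calc Phi (A, B) * tG ν * (Phi (A, B) * tG ν)
        = Phi (A, B) * (tG ν * Phi (A, B) * (tG ν)⁻¹) * tG (ν * ν) := by rw [map_mul]; group
      _ = _ := by rw [tG_conj, tG_sq, ← map_mul, ← map_mul]; rfl
  rw [e] at hsq
  rcases Phi_eq_one hsq with h | h <;> rw [Prod.mk.injEq] at h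
  · exact ⟨Or.inl h.1, Or.inl h.2⟩
  · exact ⟨Or.inr h.1, Or.inr h.2⟩

/-- Two outer involutions are conjugate. -/
theorem outer_class [Fintype F] (h2 : (2 : F) ≠ 0) {ν : Fˣ} (hν : ¬ IsSquare (ν : F))
    {p q : SL₂ F × SL₂ F} (hp : Phi p * tG ν * (Phi p * tG ν) = 1) (hq : Phi q * tG ν * (Phi q * tG ν) = 1) :
    GConj (Phi p * tG ν) (Phi q * tG ν) := by
  obtain ⟨A, B⟩ := p
  obtain ⟨A', B'⟩ := q
  obtain ⟨hA, hB⟩ := outer_sq hp
  obtain ⟨hA', hB'⟩ := outer_sq hq
  have key : ∀ {X Y : SL₂ F}, (X * sig ν X * slD ν = 1 ∨ X * sig ν X * slD ν = -1) →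
      (Y * sig ν Y * slD ν = 1 ∨ Y * sig ν Y * slD ν = -1) → ∃ u : SL₂ F, u * X * (sig ν u)⁻¹ = Y := by
    intro X Y hX hY
    obtain ⟨u, hu⟩ := exists_conj_traceless h2 (outer_trace h2 hν hX) (outer_trace h2 hν hY)
      (by rw [outMat_det, outMat_det]) (by rw [outMat_det]; exact ν.ne_zero)
    refine ⟨u, mul_inv_eq_iff_eq_mul.2 (Subtype.ext ?_)⟩
    rw [Matrix.SpecialLinearGroup.coe_mul, Matrix.SpecialLinearGroup.coe_mul, sig_val]
    have h00 := congrFun (congrFun hu 0) 0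
    have h01 := congrFun (congrFun hu 0) 1
    have h10 := congrFun (congrFun hu 1) 0
    have h11 := congrFun (congrFun hu 1) 1
    simp [outMat, Matrix.mul_apply, Fin.sum_univ_two] at h00 h01 h10 h11
    ext i j
    fin_cases i <;> fin_cases j <;> simp [Matrix.mul_apply, Fin.sum_univ_two] <;>
      first
        | linear_combination h01
        | linear_combination h11
        | (field_simp; linear_combination h00)
        | (field_simp; linear_combination h10)
  obtain ⟨u, hu⟩ := key hA hA'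
  obtain ⟨v, hv⟩ := key hB hB'
  refine ⟨Phi (u, v), Phi_mem_group _, ?_⟩
  calc Phi (u, v) * (Phi (A, B) * tG ν) * (Phi (u, v))⁻¹
      = Phi (u, v) * Phi (A, B) * (tG ν * (Phi (u, v))⁻¹ * (tG ν)⁻¹) * tG ν := by group
    _ = _ := by
      rw [← map_inv, tG_conj, ← map_mul, ← map_mul]
      simp only [Prod.inv_mk, Prod.mk_mul_mk, map_inv, hu, hv]

theorem tG_not_range {ν : Fˣ} (hν : ¬ IsSquare (ν : F)) : tG ν ∉ (Phi (F := F)).range := by
  rintro ⟨⟨A, B⟩, h⟩
  have hc := (tG_conj_phi ν (slU 1)).1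
  rw [← h, Phi_mk, sig_U, mul_one,
    show phiA A * phiB B * phiA (slU 1) * (phiA A * phiB B)⁻¹ =
      phiA A * (phiB B * phiA (slU 1) * (phiB B)⁻¹) * (phiA A)⁻¹ by group,
    (phi_commute (slU 1) B).symm.eq, mul_inv_cancel_right, ← map_inv, ← map_mul, ← map_mul,
    ← mul_inv_eq_one, ← map_inv, ← map_mul] at hc
  have e := congrArg (fun M : SL₂ F => M.1)
    (mul_inv_eq_iff_eq_mul.1 (mul_inv_eq_one.1 (phiA_inj hc)))
  simp only [Matrix.SpecialLinearGroup.coe_mul] at e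
  have e00 := congrFun (congrFun e 0) 0
  have e01 := congrFun (congrFun e 0) 1
  simp [slU, Matrix.mul_apply, Fin.sum_univ_two] at e00 e01
  have hd := A.2
  rw [Matrix.det_fin_two, e00, mul_zero, sub_zero] at hd
  apply hν
  exact ⟨A.1 0 0, by linear_combination (-A.1 0 0) * e01 - (ν : F) * hd⟩

theorem exists_range_or (ν : Fˣ) (h : ∀ z : Fˣ, ∃ w : Fˣ, z = w * w ∨ z = w * w * ν) {x : GL chevG2.Idx F}
    (hx : x ∈ (K : Subgroup (GL chevG2.Idx F))) :
    x ∈ (Phi (F := F)).range ∨ ∃ p, x = Phi p * tG ν := by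
  obtain ⟨p, z, rfl⟩ := hx
  obtain ⟨w, rfl | rfl⟩ := h z
  · exact Or.inl ⟨p * (slD w, slD w), by rw [map_mul, tG_sq]⟩
  · exact Or.inr ⟨p * (slD w, slD w), by rw [map_mul tG, map_mul Phi, tG_sq, mul_assoc]⟩

theorem exists_nonsquare [Fintype F] (h2 : (2 : F) ≠ 0) :
    ∃ ν : Fˣ, ¬ IsSquare (ν : F) ∧ ∀ z : Fˣ, ∃ w : Fˣ, z = w * w ∨ z = w * w * ν := by
  classical
  have hch : ringChar F ≠ 2 := fun h => h2 (by
    have := ringChar.Nat.cast_ringChar (R := F)
    rw [h] at this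
    exact_mod_cast this)
  obtain ⟨a, ha⟩ := FiniteField.exists_nonsquare hch
  have ha0 : a ≠ 0 := fun h => ha (h ▸ IsSquare.zero)
  refine ⟨Units.mk0 a ha0, ha, fun z => ?_⟩
  by_cases hz : IsSquare (z : F)
  · obtain ⟨w, hw⟩ := hz
    have hw0 : w ≠ 0 := fun h => z.ne_zero (by rw [hw, h, mul_zero])
    exact ⟨Units.mk0 w hw0, Or.inl (Units.ext hw)⟩
  · have h1 : quadraticChar F ((z : F) * a⁻¹) = 1 := by
      rw [map_mul, quadraticChar_neg_one_iff_not_isSquare.2 hz,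
        quadraticChar_neg_one_iff_not_isSquare.2 (fun h => ha (by simpa using h.inv))]
      norm_num
    obtain ⟨w, hw⟩ := (quadraticChar_one_iff_isSquare (mul_ne_zero z.ne_zero (inv_ne_zero ha0))).1 h1
    have hw0 : w ≠ 0 := fun h => mul_ne_zero z.ne_zero (inv_ne_zero ha0) (by rw [hw, h, mul_zero])
    exact ⟨Units.mk0 w hw0, Or.inr (Units.ext (by simp [← hw, ha0]))⟩

/-- Every involution of `K` is conjugate to `τ`. -/
theorem conj_tau_of_mem_K [Fintype F] (h2 : (2 : F) ≠ 0) {x : GL chevG2.Idx F}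
    (hxK : x ∈ (K : Subgroup (GL chevG2.Idx F))) (hsq : x * x = 1) (hx1 : x ≠ 1) : GConj x tau := by
  obtain ⟨ν, hν, hrep⟩ := exists_nonsquare (F := F) h2
  let n : GL chevG2.Idx F := goodG2.wordN [⟨1, by decide⟩, ⟨0, by decide⟩]
  have hn : n ∈ chevG2.group F := goodG2.monomial_le_group (goodG2.wordN_mem _)
  have hn11 : n * goodG2.hG 11 (-1 : Fˣ) * n⁻¹ = tG (-1) := by
    have h := goodG2.wordN_conj_hG (F := F) [⟨1, by decide⟩, ⟨0, by decide⟩] ⟨11, long_lt⟩ (-1)
    rw [show (goodG2.wperm [⟨1, by decide⟩, ⟨0, by decide⟩] ⟨11, long_lt⟩).val = 10 from by decide +kernel] at h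
    exact h
  have hn6 : ∀ c : Fˣ, n * goodG2.hG 6 c * n⁻¹ = goodG2.hG 11 c := fun c => by
    have h := goodG2.wordN_conj_hG (F := F) [⟨1, by decide⟩, ⟨0, by decide⟩] ⟨6, by decide⟩ c
    rw [show (goodG2.wperm [⟨1, by decide⟩, ⟨0, by decide⟩] ⟨6, by decide⟩).val = 11 from by decide +kernel] at h
    exact h
  -- a second involution of the torus
  let t₂ : GL chevG2.Idx F := goodG2.hG 6 (-1 : Fˣ)
  have ht2 : GConj t₂ tau := ⟨n, hn, hn6 _⟩
  have ht2K : t₂ ∈ (K : Subgroup (GL chevG2.Idx F)) :=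
    diagonal_le_K (goodG2.hG_mem (by decide) _)
  have ht2sq : t₂ * t₂ = 1 := by show goodG2.hG 6 (-1 : Fˣ) * goodG2.hG 6 (-1) = 1; rw [← map_mul]; simp
  have ht21 : t₂ ≠ 1 := fun h => by
    have h' := hn6 (-1)
    rw [show goodG2.hG 6 (-1 : Fˣ) = 1 from h, mul_one, mul_inv_cancel] at h'
    have h3 : phiA (-1 : SL₂ F) = 1 := phiA_neg_one.trans h'.symm
    exact neg_one_ne_one h2 (phiA_inj h3)
  have ht2t : t₂ ≠ tau := fun h => by
    have h6 := tau_conj_xG (F := F) (show 6 < chevG2.nroots by decide) 1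
    rw [← show t₂ = tau from h, show t₂ = goodG2.hG 6 (-1 : Fˣ) from rfl, goodG2.hG_conj_xG (by decide),
      show pair chevG2 6 6 = 2 from by decide +kernel, show pair chevG2 11 6 = 1 from by decide +kernel] at h6
    have h7 : goodG2.xG 6 ((1 : F) + 1) = 1 := by
      rw [← goodG2.xG_add]
      have h8 : goodG2.xG 6 (1 : F) = goodG2.xG 6 (-1) := by simpa [zpow_ofNat] using h6
      conv_lhs => arg 2; rw [h8]
      rw [goodG2.xG_add, add_neg_cancel, goodG2.xG_zero]
    have h9 := (goodG2.x_eq_one_iff (show 6 < chevG2.nroots by decide) _).1 (congrArg Units.val h7)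
    exact h2 (by rw [← h9]; norm_num)
  -- a conjugate of an inner involution
  let xc : Fˣ → GL chevG2.Idx F := fun c => n⁻¹ * Phi (slW * slD c, slW) * n
  have hpc : ∀ c : Fˣ, Phi (slW * slD c, slW) * Phi (slW * slD c, slW) = 1 ∧
      Phi (slW * slD c, slW) ≠ 1 ∧ Phi (slW * slD c, slW) ≠ (tau : GL chevG2.Idx F) := fun c => by
    have hm : (slW : SL₂ F) 1 0 = -1 := by simp [slW]
    refine ⟨?_, fun h => ?_, fun h => ?_⟩
    · rw [← map_mul, Prod.mk_mul_mk, slWD_sq, slW_sq, Phi_mk, phiA_neg_one, phiB_neg_one, tau, ← map_mul]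
      simp
    · rcases Phi_eq_one h with e | e <;>
      · have := congrArg (fun M : SL₂ F => M.1 1 0) (congrArg Prod.snd e)
        simp [hm] at this
    · rw [show (tau : GL chevG2.Idx F) = Phi (-1, 1) by rw [Phi_mk, phiA_neg_one, map_one, mul_one],
        ← mul_inv_eq_one, ← map_inv, ← map_mul] at h
      rcases Phi_eq_one h with e | e <;>
      · have := congrArg (fun M : SL₂ F => M.1 1 0) (congrArg Prod.snd e)
        simp [hm] at this
  have hxcW : ∀ c, GConj (xc c) (Phi (slW, slW)) := fun c => by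
    obtain ⟨h1, h3, h4⟩ := hpc c
    exact GConj.trans ⟨n, hn, by simp only [xc]; group⟩ (inner_class h2 h1 h3 h4)
  have hxcsq : ∀ c, xc c * xc c = 1 := fun c => by
    calc xc c * xc c = n⁻¹ * (Phi (slW * slD c, slW) * Phi (slW * slD c, slW)) * n := by simp only [xc]; group
      _ = _ := by rw [(hpc c).1]; group
  have hxcK : ∀ c, xc c ∈ (K : Subgroup (GL chevG2.Idx F)) := fun c => by
    refine mem_K_of_commute h2 (mul_mem (mul_mem (inv_mem hn) (Phi_mem_group _)) hn) ?_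
    have hcm : tG (-1 : Fˣ) * Phi (slW * slD c, slW) * (tG (-1 : Fˣ))⁻¹ = Phi (slW * slD c, slW) := by
      rw [tG_conj]
      have e1 : ∀ A : SL₂ F, A.1 0 0 = 0 → A.1 1 1 = 0 → sig (-1 : Fˣ) A = -1 * A := fun A a b => by
        rw [neg_one_mul]
        refine Subtype.ext ?_
        rw [sig_val, Matrix.SpecialLinearGroup.coe_neg]
        ext i j
        fin_cases i <;> fin_cases j <;> simp [a, b]
      rw [e1 _ (by rw [Matrix.SpecialLinearGroup.coe_mul]; simp [slW, slD, Matrix.mul_apply, Fin.sum_univ_two])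
          (by rw [Matrix.SpecialLinearGroup.coe_mul]; simp [slW, slD, Matrix.mul_apply, Fin.sum_univ_two]),
        e1 slW (by simp [slW]) (by simp [slW]), ← Prod.mk_mul_mk, map_mul, Phi_mk (-1) (-1),
        phiA_neg_one, phiB_neg_one, tau, ← map_mul]
      simp
    rw [← hn11] at hcm
    show xc c * tau = tau * xc c
    calc xc c * tau = n⁻¹ * (Phi (slW * slD c, slW) * (n * goodG2.hG 11 (-1 : Fˣ) * n⁻¹)) * n := by
          simp only [xc, tau]; group
      _ = n⁻¹ * ((n * goodG2.hG 11 (-1 : Fˣ) * n⁻¹) * Phi (slW * slD c, slW)) * n := by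
          rw [(mul_inv_eq_iff_eq_mul.1 hcm).symm]
      _ = _ := by simp only [xc, tau]; group
  obtain ⟨c, hc⟩ : ∃ c, xc c ∉ (Phi (F := F)).range := by
    by_contra hall
    push Not at hall
    apply tG_not_range hν
    have e : xc 1 * (Phi (slD ν, 1) * tG ν⁻¹) = xc ν := by
      rw [← hG_six, show goodG2.hG 6 ν = n⁻¹ * goodG2.hG 11 ν * n by rw [← hn6]; group]
      calc xc 1 * (n⁻¹ * goodG2.hG 11 ν * n) = n⁻¹ * (Phi (slW * slD 1, slW) * goodG2.hG 11 ν) * n := by
            simp only [xc]; group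
        _ = _ := by
          rw [← phiA_D, show phiA (slD ν) = Phi (slD ν, 1) by rw [Phi_mk, map_one, mul_one], ← map_mul,
            Prod.mk_mul_mk, mul_one, mul_assoc slW,
            show slD (1 : Fˣ) * slD ν = slD ν from by
              rw [show slD (1 : Fˣ) = (1 : SL₂ F) from Subtype.ext (by simp [slD, Matrix.one_fin_two]), one_mul]]
    have e2 : tG ν = (xc ν)⁻¹ * xc 1 * Phi (slD ν, 1) := by
      rw [← e, map_inv]; group
    rw [e2]
    exact mul_mem (mul_mem (inv_mem (hall ν)) (hall 1)) ⟨_, rfl⟩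
  obtain ⟨q, hq⟩ := (exists_range_or ν hrep (hxcK c)).resolve_left hc
  have hall : ∀ y ∈ (K : Subgroup (GL chevG2.Idx F)), y * y = 1 → y ≠ 1 → y ≠ tau →
      GConj y (Phi (slW, slW)) := by
    intro y hy hy2 hy1 hyt
    rcases exists_range_or ν hrep hy with ⟨p, rfl⟩ | ⟨p, rfl⟩
    · exact inner_class h2 hy2 hy1 hyt
    · refine GConj.trans ?_ (hxcW c)
      rw [hq]
      exact outer_class h2 hν hy2 (hq ▸ hxcsq c)
  by_cases hxt : x = tau
  · exact ⟨1, one_mem _, by rw [hxt]; group⟩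
  exact (hall x hxK hsq hx1 hxt).trans ((hall t₂ ht2K ht2sq ht21 ht2t).symm.trans ht2)

end CfsgLib.Chev.G2Invol
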