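import Mathlib
import Cfsg.Agent.Lib.Chev.G2InvolClass
import Cfsg.Agent.Lib.Classical.SLTwoSylow

/-!
G₂(q), q odd: one class of involutions and the structure of an involution centraliser, in the group itself.
-/

set_option autoImplicit false
set_option linter.unusedSectionVars false
set_option maxRecDepth 100000

namespace CfsgLib.Chev.G2Invol

open Cfsg.Lie

variable {F : Type*} [Field F] [Fintype F]

local notation "SL₂" => Matrix.SpecialLinearGroup (Fin 2)

theorem two_ne_of_odd (hF : Odd (Fintype.card F)) : (2 : F) ≠ 0 := fun h => by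
  have h3 : ringChar F ≠ 2 := fun e => by
    have h4 : Fintype.card F % 2 = 0 := FiniteField.even_card_of_char_two e
    rw [Nat.odd_iff] at hF
    omega
  exact Ring.two_ne_zero h3 h

/-- `τ` in the group. -/
noncomputable def tauG : (↥(chevG2.group F)) :=
  ⟨tau, goodG2.diagonal_le_group (goodG2.hG_mem long_lt _)⟩

/-- `Φ` into the group. -/
noncomputable def PhiG : SL₂ F × SL₂ F →* (↥(chevG2.group F)) := Phi.codRestrict _ Phi_mem_group

/-- `φ_A` into the group. -/
noncomputable def phiAG : SL₂ F →* (↥(chevG2.group F)) := phiA.codRestrict _ fun A => (phi_mem_group A).1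

/-- `φ_B` into the group. -/
noncomputable def phiBG : SL₂ F →* (↥(chevG2.group F)) := phiB.codRestrict _ fun A => (phi_mem_group A).2

theorem tau_ne_one (h2 : (2 : F) ≠ 0) : (tau : GL chevG2.Idx F) ≠ 1 := fun h =>
  neg_one_ne_one h2 (phiA_inj (phiA_neg_one.trans h))

theorem tauG_order (h2 : (2 : F) ≠ 0) : orderOf (tauG : (↥(chevG2.group F))) = 2 := by
  refine orderOf_eq_prime ?_ fun h => tau_ne_one h2 (congrArg Subtype.val h)
  refine Subtype.ext ?_
  show (tau : GL chevG2.Idx F) ^ 2 = 1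
  rw [sq, tau, ← map_mul]
  simp

theorem centralizer_eq (h2 : (2 : F) ≠ 0) :
    Subgroup.centralizer ({tauG} : Set (↥(chevG2.group F))) = (K : Subgroup (GL chevG2.Idx F)).subgroupOf (chevG2.group F) := by
  ext x
  rw [Subgroup.mem_centralizer_singleton_iff, Subgroup.mem_subgroupOf]
  constructor
  · intro h
    exact mem_K_of_commute h2 x.2 (congrArg Subtype.val h)
  · intro h
    exact Subtype.ext (K_commute_tau h).eq

theorem range_PhiG_le (h2 : (2 : F) ≠ 0) :
    (PhiG (F := F)).range ≤ Subgroup.centralizer ({tauG} : Set (↥(chevG2.group F))) := by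
  rw [centralizer_eq h2]
  rintro _ ⟨p, rfl⟩
  exact Phi_mem_K p

theorem card_range_PhiG (h2 : (2 : F) ≠ 0) :
    2 * Nat.card (PhiG (F := F)).range = (Fintype.card F * (Fintype.card F ^ 2 - 1)) ^ 2 := by
  have hk : Nat.card (PhiG (F := F)).ker = 2 := by
    have e : ((PhiG (F := F)).ker : Set (SL₂ F × SL₂ F)) = {(1, 1), (-1, -1)} := by
      ext p
      rw [SetLike.mem_coe, MonoidHom.mem_ker, Set.mem_insert_iff, Set.mem_singleton_iff]
      refine ⟨fun h => Phi_eq_one (congrArg Subtype.val h), ?_⟩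
      rintro (rfl | rfl)
      · exact map_one _
      · refine Subtype.ext ?_
        show Phi (-1, -1) = 1
        rw [Phi_mk, phiA_neg_one, phiB_neg_one, tau, ← map_mul]
        simp
    rw [← SetLike.coe_sort_coe, e, Nat.card_coe_set_eq, Set.ncard_pair]
    intro h
    exact neg_one_ne_one h2 (congrArg Prod.fst h).symm
  have h := Subgroup.card_mul_index (PhiG (F := F)).ker
  rw [Subgroup.index_ker, hk, Nat.card_prod, Classical.card_sl_two_eq, ← sq] at h
  exact h

theorem card_centralizer (h2 : (2 : F) ≠ 0) :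
    Nat.card (Subgroup.centralizer ({tauG} : Set (↥(chevG2.group F)))) = 2 * Nat.card (PhiG (F := F)).range := by
  classical
  obtain ⟨ν, hν, hrep⟩ := exists_nonsquare (F := F) h2
  let e : Bool × ↥(PhiG (F := F)).range → ↥(Subgroup.centralizer ({tauG} : Set (↥(chevG2.group F)))) := fun p =>
    ⟨(p.2 : (↥(chevG2.group F))) * (bif p.1 then ⟨tG ν, tG_mem_group ν⟩ else 1), by
      refine mul_mem (range_PhiG_le h2 p.2.2) ?_
      cases p.1
      · exact one_mem _
      · rw [centralizer_eq h2]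
        exact ⟨1, ν, by simp⟩⟩
  have he : Function.Bijective e := by
    constructor
    · rintro ⟨a, ⟨x, ⟨p, rfl⟩⟩⟩ ⟨b, ⟨y, ⟨q, rfl⟩⟩⟩ h
      have h' := congrArg (fun z : ↥(Subgroup.centralizer ({tauG} : Set (↥(chevG2.group F)))) => ((z : (↥(chevG2.group F))) : GL chevG2.Idx F)) h
      rcases a with _ | _ <;> rcases b with _ | _ <;> simp [e, PhiG] at h'
      · exact Prod.ext rfl (Subtype.ext (Subtype.ext h'))
      · exact absurd ⟨q⁻¹ * p, by rw [map_mul, map_inv, h']; group⟩ (tG_not_range hν)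
      · exact absurd ⟨p⁻¹ * q, by rw [map_mul, map_inv, ← h']; group⟩ (tG_not_range hν)
      · exact Prod.ext rfl (Subtype.ext (Subtype.ext h'))
    · rintro ⟨x, hx⟩
      have hxK : (x : GL chevG2.Idx F) ∈ (K : Subgroup (GL chevG2.Idx F)) := by
        rw [centralizer_eq h2] at hx
        exact hx
      rcases exists_range_or ν hrep hxK with ⟨p, hp⟩ | ⟨p, hp⟩
      · exact ⟨(false, ⟨_, ⟨p, rfl⟩⟩), Subtype.ext (Subtype.ext (by simp [e, PhiG, hp]))⟩
      · exact ⟨(true, ⟨_, ⟨p, rfl⟩⟩), Subtype.ext (Subtype.ext (by simp [e, PhiG, hp]))⟩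
  rw [← Nat.card_eq_of_bijective e he, Nat.card_prod]
  simp

theorem card_centralizer_eq (h2 : (2 : F) ≠ 0) :
    Nat.card (Subgroup.centralizer ({tauG} : Set (↥(chevG2.group F)))) = Fintype.card F ^ 2 * (Fintype.card F ^ 2 - 1) ^ 2 := by
  rw [card_centralizer h2, card_range_PhiG h2]
  ring

theorem isConj_tau (hF : Odd (Fintype.card F)) {s : (↥(chevG2.group F))} (hs : orderOf s = 2) : IsConj s tauG := by
  classical
  have h2 := two_ne_of_odd hF
  have : Fact (Nat.Prime 2) := ⟨Nat.prime_two⟩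
  let C := Subgroup.centralizer ({tauG} : Set (↥(chevG2.group F)))
  have hidx : ¬ 2 ∣ C.index := by
    have h := C.card_mul_index
    rw [card_centralizer_eq h2] at h
    have hg := card_groupG2 F
    rw [one_mul] at hg
    obtain ⟨q, hq⟩ : ∃ q, q = Fintype.card F := ⟨_, rfl⟩
    rw [← hq] at h hg hF
    rw [hg] at h
    have h1 : 2 ≤ q := by rw [hq]; exact Fintype.one_lt_card
    have h3 : q ^ 6 - 1 = (q ^ 2 - 1) * (q ^ 4 + q ^ 2 + 1) := by
      have : 1 ≤ q ^ 2 := Nat.one_le_pow _ _ (by omega)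
      zify [this, Nat.one_le_pow 6 q (by omega)]
      ring
    rw [h3, show q ^ 6 * (q ^ 2 - 1) * ((q ^ 2 - 1) * (q ^ 4 + q ^ 2 + 1)) =
      q ^ 2 * (q ^ 2 - 1) ^ 2 * (q ^ 4 * (q ^ 4 + q ^ 2 + 1)) by ring] at h
    have hpos : 0 < q ^ 2 * (q ^ 2 - 1) ^ 2 := by
      have : 2 ^ 2 ≤ q ^ 2 := Nat.pow_le_pow_left h1 2
      have : 0 < q ^ 2 - 1 := by omega
      positivity
    rw [mul_left_cancel₀ hpos.ne' h, ← even_iff_two_dvd, Nat.not_even_iff_odd]
    exact (hF.pow).mul (((hF.pow).add_odd hF.pow).add_odd odd_one)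
  obtain ⟨S⟩ : Nonempty (Sylow 2 ↥C) := inferInstance
  let Q : Subgroup (↥(chevG2.group F)) := (S : Subgroup ↥C).map C.subtype
  have hQ : IsPGroup 2 Q := S.isPGroup'.map C.subtype
  have hQi : ¬ 2 ∣ Q.index := by
    rw [Subgroup.index_map_subtype]
    exact fun h => ((Nat.Prime.dvd_mul Nat.prime_two).1 h).elim S.not_dvd_index hidx
  let P : Sylow 2 (↥(chevG2.group F)) := hQ.toSylow hQi
  have hz : IsPGroup 2 (Subgroup.zpowers s) := IsPGroup.of_card (n := 1) (by rw [Nat.card_zpowers, hs, pow_one])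
  obtain ⟨P', hP'⟩ := hz.exists_le_sylow
  obtain ⟨g, hg⟩ := MulAction.exists_smul_eq (↥(chevG2.group F)) P' P
  have hgs : g * s * g⁻¹ ∈ C := by
    have h1 : MulAut.conj g s ∈ ((g • P' : Sylow 2 (↥(chevG2.group F))) : Subgroup (↥(chevG2.group F))) := by
      rw [Sylow.coe_subgroup_smul]
      exact Subgroup.smul_mem_pointwise_smul _ _ _ (hP' (Subgroup.mem_zpowers s))
    rw [hg] at h1
    obtain ⟨y, -, hy⟩ := Subgroup.mem_map.1 (show MulAut.conj g s ∈ Q from h1)
    rw [MulAut.conj_apply] at hy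
    rw [← hy]
    exact y.2
  have hs' : orderOf (g * s * g⁻¹) = 2 := by
    rw [← MulAut.conj_apply, MulEquiv.orderOf_eq, hs]
  have hK : ((g * s * g⁻¹ : (↥(chevG2.group F))) : GL chevG2.Idx F) ∈ (K : Subgroup (GL chevG2.Idx F)) := by
    have h := hgs
    rw [show C = _ from centralizer_eq h2] at h
    exact h
  obtain ⟨z, hz', he⟩ := conj_tau_of_mem_K h2 hK
    (by
      have := pow_orderOf_eq_one (g * s * g⁻¹)
      rw [hs', sq] at this
      exact congrArg Subtype.val this)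
    (fun h => by
      rw [show g * s * g⁻¹ = 1 from Subtype.ext h, orderOf_one] at hs'
      exact absurd hs' (by norm_num))
  refine isConj_iff.2 ⟨(⟨z, hz'⟩ : (↥(chevG2.group F))) * g, Subtype.ext ?_⟩
  show z * (g : GL chevG2.Idx F) * (s : GL chevG2.Idx F) * (z * (g : GL chevG2.Idx F))⁻¹ = tau
  rw [← he]
  show _ = z * ((g : GL chevG2.Idx F) * s * (g : GL chevG2.Idx F)⁻¹) * z⁻¹
  group

theorem structure_tau (h2 : (2 : F) ≠ 0) : ∃ L₁ L₂ : Subgroup (↥(chevG2.group F)), Nonempty (L₁ ≃* SL₂ F) ∧ Nonempty (L₂ ≃* SL₂ F) ∧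
    (∀ x ∈ L₁, ∀ y ∈ L₂, x * y = y * x) ∧ L₁ ⊓ L₂ = Subgroup.zpowers tauG ∧
    L₁ ⊔ L₂ ≤ Subgroup.centralizer ({tauG} : Set (↥(chevG2.group F))) ∧
    (L₁ ⊔ L₂).relIndex (Subgroup.centralizer ({tauG} : Set (↥(chevG2.group F)))) = 2 := by
  have hA : Function.Injective (phiAG (F := F)) :=
    (injective_iff_map_eq_one _).2 fun A h => phiA_inj (congrArg Subtype.val h)
  have hB : Function.Injective (phiBG (F := F)) :=
    (injective_iff_map_eq_one _).2 fun A h => phiB_inj (congrArg Subtype.val h)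
  have hsup : (phiAG (F := F)).range ⊔ (phiBG (F := F)).range = (PhiG (F := F)).range := by
    refine le_antisymm (sup_le ?_ ?_) ?_
    · rintro _ ⟨A, rfl⟩
      exact ⟨(A, 1), Subtype.ext (show Phi (A, 1) = phiA A by rw [Phi_mk, map_one, mul_one])⟩
    · rintro _ ⟨A, rfl⟩
      exact ⟨(1, A), Subtype.ext (show Phi (1, A) = phiB A by rw [Phi_mk, map_one, one_mul])⟩
    · rintro _ ⟨⟨A, B⟩, rfl⟩
      rw [show PhiG (A, B) = phiAG A * phiBG B from Subtype.ext (Phi_mk A B)]
      exact Subgroup.mul_mem_sup ⟨A, rfl⟩ ⟨B, rfl⟩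
  refine ⟨(phiAG (F := F)).range, (phiBG (F := F)).range, ⟨(MonoidHom.ofInjective hA).symm⟩,
    ⟨(MonoidHom.ofInjective hB).symm⟩, ?_, ?_, ?_, ?_⟩
  · rintro _ ⟨A, rfl⟩ _ ⟨B, rfl⟩
    exact Subtype.ext (phi_commute A B).eq
  · refine le_antisymm ?_ (Subgroup.zpowers_le.2 ⟨⟨-1, Subtype.ext phiA_neg_one⟩, ⟨-1, Subtype.ext phiB_neg_one⟩⟩)
    rintro x ⟨⟨A, rfl⟩, ⟨B, hB'⟩⟩
    have h : Phi (A, B⁻¹) = 1 := by
      rw [Phi_mk, map_inv, mul_inv_eq_one]
      exact (congrArg Subtype.val hB').symm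
    rcases Phi_eq_one h with e | e <;> rw [Prod.mk.injEq] at e <;> rw [e.1]
    · rw [map_one]; exact one_mem _
    · rw [show phiAG (-1 : SL₂ F) = tauG from Subtype.ext phiA_neg_one]
      exact Subgroup.mem_zpowers _
  · rw [hsup]; exact range_PhiG_le h2
  · rw [hsup]
    have h := Subgroup.relIndex_mul_relIndex ⊥ (PhiG (F := F)).range _ bot_le (range_PhiG_le h2)
    rw [Subgroup.relIndex_bot_left, Subgroup.relIndex_bot_left, card_centralizer h2] at h
    rw [mul_comm] at h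
    exact mul_right_cancel₀ Nat.card_pos.ne' h

theorem structure_invol (hF : Odd (Fintype.card F)) (t : (↥(chevG2.group F))) (ht : orderOf t = 2) :
    Nat.card (Subgroup.centralizer ({t} : Set (↥(chevG2.group F)))) = Fintype.card F ^ 2 * (Fintype.card F ^ 2 - 1) ^ 2 ∧
    ∃ L₁ L₂ : Subgroup (↥(chevG2.group F)), Nonempty (L₁ ≃* SL₂ F) ∧ Nonempty (L₂ ≃* SL₂ F) ∧
      (∀ x ∈ L₁, ∀ y ∈ L₂, x * y = y * x) ∧ L₁ ⊓ L₂ = Subgroup.zpowers t ∧
      L₁ ⊔ L₂ ≤ Subgroup.centralizer ({t} : Set (↥(chevG2.group F))) ∧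
      (L₁ ⊔ L₂).relIndex (Subgroup.centralizer ({t} : Set (↥(chevG2.group F)))) = 2 := by
  have h2 := two_ne_of_odd hF
  obtain ⟨c, rfl⟩ := isConj_iff.1 (isConj_tau hF ht).symm
  obtain ⟨σ, hσ⟩ : ∃ σ : (↥(chevG2.group F)) ≃* (↥(chevG2.group F)), σ = MulAut.conj c := ⟨_, rfl⟩
  have hc : Subgroup.centralizer ({c * tauG * c⁻¹} : Set (↥(chevG2.group F))) =
      (Subgroup.centralizer ({tauG} : Set (↥(chevG2.group F)))).map σ.toMonoidHom := by
    ext x
    rw [Subgroup.mem_map_equiv, Subgroup.mem_centralizer_singleton_iff, Subgroup.mem_centralizer_singleton_iff]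
    constructor
    · intro h
      apply σ.injective
      rw [map_mul, map_mul, σ.apply_symm_apply, hσ, MulAut.conj_apply]
      exact h
    · intro h
      have := congrArg σ h
      rw [map_mul, map_mul, σ.apply_symm_apply, hσ, MulAut.conj_apply] at this
      exact this
  obtain ⟨L₁, L₂, ⟨e1⟩, ⟨e2⟩, hcomm, hinf, hle, hrel⟩ := structure_tau (F := F) h2
  refine ⟨?_, L₁.map σ.toMonoidHom, L₂.map σ.toMonoidHom,
    ⟨(L₁.equivMapOfInjective _ σ.injective).symm.trans e1⟩,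
    ⟨(L₂.equivMapOfInjective _ σ.injective).symm.trans e2⟩, ?_, ?_, ?_, ?_⟩
  · rw [hc, ← card_centralizer_eq h2]
    exact (Nat.card_congr ((Subgroup.centralizer ({tauG} : Set (↥(chevG2.group F)))).equivMapOfInjective _ σ.injective).toEquiv).symm
  · rintro _ ⟨x, hx, rfl⟩ _ ⟨y, hy, rfl⟩
    rw [← map_mul, ← map_mul, hcomm x hx y hy]
  · rw [← Subgroup.map_inf _ _ _ σ.injective, hinf, MonoidHom.map_zpowers, hσ]
    rfl
  · rw [hc, ← Subgroup.map_sup]
    exact Subgroup.map_mono hle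
  · rw [hc, ← Subgroup.map_sup, Subgroup.relIndex_map_map_of_injective _ _ σ.injective, hrel]

end CfsgLib.Chev.G2Invol
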