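import Mathlib
import Cfsg.Agent.Lib.Chev.G2ZHom
import Cfsg.Agent.Lib.Chev.G2EvenOrders
import Cfsg.Agent.Lib.NormalCover.G2OddBasic

/-!
Elements of the orders `p (q ± 1)`, `q² - 1` and `p²` in `G₂(q)`, `q` odd, and the determinant of the octonion action.
-/

set_option autoImplicit false
set_option maxRecDepth 100000
set_option maxHeartbeats 1000000

namespace CfsgLib.Chev.G2Z

open Cfsg.Lie Matrix CfsgLib.Chev CfsgLib.Chev.G2Invol CfsgLib.Chev.G2SL3 CfsgLib.Chev.G2Torus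
open CfsgLib.Chev.G2Oct (exists_unit_orderOf orderOf_of_eigen)

variable {F : Type*} [Field F]

/-- The action on the algebra has determinant one. -/
theorem det_toOct {p : ℕ} [Fact p.Prime] [CharP F p] (X : ↥(chevG2.group F)) :
    ((toOct X : GL (Fin 8) F) : Matrix (Fin 8) (Fin 8) F).det = 1 := by
  let S : Subgroup (GL chevG2.Idx F × GL (Fin 8) F) :=
    pairSub ⊓ ((Matrix.GeneralLinearGroup.det).comp (MonoidHom.snd _ _)).ker
  have h : chevG2.group F ≤ S.map (MonoidHom.fst _ _) := by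
    refine goodG2.group_le fun r hr t => ?_
    obtain ⟨g, -, hg⟩ := mem_pairSub_root hr t
    refine ⟨_, ⟨hg, ?_⟩, rfl⟩
    have hx : goodG2.xG r t ^ p = 1 := by
      have e : ∀ n : ℕ, goodG2.xG r t ^ n = goodG2.xG r ((n : F) * t) := fun n => by
        induction n with
        | zero => rw [pow_zero, Nat.cast_zero, zero_mul, goodG2.xG_zero]
        | succ n ih => rw [pow_succ, ih, goodG2.xG_add, Nat.cast_succ, add_mul, one_mul]
      rw [e, CharP.cast_eq_zero, zero_mul, goodG2.xG_zero]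
    have hgp : g ^ p = 1 := pair_unique (by
      have := pow_mem hg p
      rwa [Prod.pow_mk, hx] at this) (one_mem pairSub)
    show Matrix.GeneralLinearGroup.det g = 1
    refine Units.ext ?_
    have hd : ((Matrix.GeneralLinearGroup.det g : Fˣ) : F) ^ p = 1 := by
      rw [← Units.val_pow_eq_pow_val, ← map_pow, hgp, map_one, Units.val_one]
    refine frobenius_inj F p ?_
    rw [frobenius_def, hd, Units.val_one, map_one]
  obtain ⟨⟨Y, g⟩, ⟨hg, hd⟩, hY⟩ := h X.2
  change Y = (X : GL chevG2.Idx F) at hY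
  subst hY
  rw [toOct_eq X hg]
  have hd' : Matrix.GeneralLinearGroup.det g = 1 := hd
  rw [← Matrix.GeneralLinearGroup.val_det_apply, hd', Units.val_one]

variable [Fintype F]

/-- An element of `SL₂(q)` of each order `d ≥ 3` dividing `q - 1` or `q + 1`. -/
theorem exists_sl2_order {q d : ℕ} (hq : Fintype.card F = q) (h3 : 3 ≤ d)
    (hd : d ∣ q - 1 ∨ d ∣ q + 1) : ∃ A : Matrix.SpecialLinearGroup (Fin 2) F, orderOf A = d := by
  classical
  let p := ringChar F
  haveI : Fact p.Prime := ⟨CharP.char_is_prime F p⟩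
  let K := FiniteField.Extension F p 2
  haveI : Fintype K := Fintype.ofFinite K
  have hK : Fintype.card K = q ^ 2 := by
    rw [← Nat.card_eq_fintype_card, FiniteField.natCard_extension, Nat.card_eq_fintype_card, hq]
  let ι : F →+* K := algebraMap F K
  have hq1 : 1 ≤ q := hq ▸ Fintype.card_pos
  have h12 : q ^ 2 - 1 = (q + 1) * (q - 1) := by simpa using Nat.sq_sub_sq q 1
  obtain ⟨w, hw⟩ := exists_unit_orderOf (E := K) (d := d)
    (by rw [hK, h12]; rcases hd with h | h; exacts [h.mul_left _, h.mul_right _])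
  have hwq : (w : K) ^ q = w ∨ (w : K) ^ q = ((w⁻¹ : Kˣ) : K) := by
    rcases hd with h | h
    · left
      rw [show q = (q - 1) + 1 by omega, pow_succ, ← Units.val_pow_eq_pow_val,
        orderOf_dvd_iff_pow_eq_one.1 (hw ▸ h), Units.val_one, one_mul]
    · right
      have h1 : w ^ q * w = 1 := by rw [← pow_succ]; exact orderOf_dvd_iff_pow_eq_one.1 (hw ▸ h)
      rw [← Units.val_pow_eq_pow_val, eq_inv_of_mul_eq_one_left h1]
  obtain ⟨τ, hτ⟩ := fixed_mem ι (z := (w : K) + ((w⁻¹ : Kˣ) : K)) (by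
    have hsw : ((w⁻¹ : Kˣ) : K) ^ q = ((w : K) ^ q)⁻¹ := by rw [Units.val_inv_eq_inv_val, inv_pow]
    have hadd : ∀ a b : K, (a + b) ^ q = a ^ q + b ^ q := fun a b => by
      have h := (FiniteField.frobeniusAlgHom F K).map_add a b
      simpa [FiniteField.coe_frobeniusAlgHom, hq] using h
    rw [hq, hadd, hsw]
    rcases hwq with h | h <;> rw [h]
    · rw [Units.val_inv_eq_inv_val]
    · rw [Units.val_inv_eq_inv_val, inv_inv, add_comm])
  refine ⟨⟨!![0, 1; -1, τ], by simp [Matrix.det_fin_two]⟩,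
    orderOf_of_eigen ι _ (V := !![1, -(w : K); 1, -((w⁻¹ : Kˣ) : K)]) (l := ![(w : K), ((w⁻¹ : Kˣ) : K)]) ?_ ?_ 0 ?_ ?_⟩
  · rw [Matrix.det_fin_two_of]
    intro h
    have hww : w⁻¹ = w := Units.ext (by linear_combination -h)
    have hsq : w ^ 2 = 1 := by rw [pow_two]; nth_rw 1 [← hww]; exact inv_mul_cancel w
    have := Nat.le_of_dvd two_pos (hw ▸ orderOf_dvd_of_pow_eq_one hsq)
    omega
  · have hmul : (w : K) * ((w⁻¹ : Kˣ) : K) = 1 := by rw [← Units.val_mul, mul_inv_cancel, Units.val_one]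
    ext i j
    fin_cases i <;> fin_cases j <;> simp [Matrix.mul_apply, Fin.sum_univ_two, hτ]
    all_goals
      rw [Units.val_inv_eq_inv_val] at hmul
      first
        | ring1
        | linear_combination hmul
        | linear_combination -hmul
        | linear_combination 2 * hmul
        | linear_combination -2 * hmul
  · intro i
    have h1 : w ^ d = 1 := hw ▸ pow_orderOf_eq_one w
    fin_cases i
    · show (w : K) ^ d = 1
      rw [← Units.val_pow_eq_pow_val, h1, Units.val_one]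
    · show ((w⁻¹ : Kˣ) : K) ^ d = 1
      rw [← Units.val_pow_eq_pow_val, inv_pow, h1, inv_one, Units.val_one]
  · intro k hk
    rw [← hw]
    refine orderOf_dvd_of_pow_eq_one (Units.ext ?_)
    rw [Units.val_pow_eq_pow_val, Units.val_one]
    exact hk

/-- Elements of orders `p (q - 1)` and `p (q + 1)`. -/
theorem exists_mixed_order {p q d : ℕ} [hp : Fact p.Prime] [CharP F p] (hq : Fintype.card F = q) (h3 : 3 ≤ d)
    (hcop : p.Coprime d) (hd : d ∣ q - 1 ∨ d ∣ q + 1) : ∃ x : ↥(chevG2.group F), orderOf x = p * d := by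
  obtain ⟨A, hA⟩ := exists_sl2_order hq h3 hd
  refine ⟨⟨_, mul_mem (phi_mem_group (slU (1 : F))).1 (phi_mem_group A).2⟩, ?_⟩
  rw [← Subgroup.orderOf_coe]
  have hA' : orderOf (phiB A) = d :=
    (orderOf_injective phiB ((injective_iff_map_eq_one _).2 fun _ => phiB_inj) A).trans hA
  have hU : orderOf (phiA (slU (1 : F))) = p := by
    have e : ∀ n : ℕ, ((slU (1 : F) : Matrix.SpecialLinearGroup (Fin 2) F) ^ n).1 = !![1, (n : F); 0, 1] := fun n => by
      induction n with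
      | zero => simp [Matrix.one_fin_two]
      | succ n ih =>
        rw [pow_succ, Matrix.SpecialLinearGroup.coe_mul, ih]
        ext i j; fin_cases i <;> fin_cases j <;> simp [slU, Matrix.mul_apply, Fin.sum_univ_two, add_comm]
    refine orderOf_eq_prime ?_ fun h => ?_
    · rw [← map_pow, show (slU (1 : F) : Matrix.SpecialLinearGroup (Fin 2) F) ^ p = 1 from
        Subtype.ext (by rw [e, CharP.cast_eq_zero, Matrix.SpecialLinearGroup.coe_one, Matrix.one_fin_two]), map_one]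
    · have := congrArg (fun M : Matrix.SpecialLinearGroup (Fin 2) F => M.1 0 1) (phiA_inj h)
      simp [slU] at this
  show orderOf (phiA (slU (1 : F)) * phiB A) = _
  rw [(phi_commute _ _).orderOf_mul_eq_mul_orderOf_of_coprime (by rw [hU, hA']; exact hcop), hU, hA']

/-- An element of order `q² - 1`. -/
theorem exists_order_sq_sub_one {q : ℕ} (hq : Fintype.card F = q) (hq4 : 4 ≤ q) :
    ∃ x : ↥(chevG2.group F), orderOf x = q ^ 2 - 1 := by
  classical
  let p := ringChar F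
  haveI : Fact p.Prime := ⟨CharP.char_is_prime F p⟩
  let K := FiniteField.Extension F p 2
  haveI : Fintype K := Fintype.ofFinite K
  have hK : Fintype.card K = q ^ 2 := by
    rw [← Nat.card_eq_fintype_card, FiniteField.natCard_extension, Nat.card_eq_fintype_card, hq]
  let ι : F →+* K := algebraMap F K
  let σ : K →+* K := (FiniteField.frobeniusAlgHom F K).toRingHom
  have hσ : ∀ x : K, σ x = x ^ q := fun x => by
    show (FiniteField.frobeniusAlgHom F K) x = _
    rw [FiniteField.coe_frobeniusAlgHom, hq]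
  obtain ⟨w, hw⟩ := exists_unit_orderOf (E := K) (d := q ^ 2 - 1) (by rw [hK])
  have hq2 : 16 ≤ q ^ 2 := by nlinarith
  have hqq : q * 4 ≤ q ^ 2 := by nlinarith
  obtain ⟨x₀, hx₀⟩ : ∃ x₀ : K, x₀ = (w : K) := ⟨_, rfl⟩
  have hne : x₀ ≠ 0 := hx₀ ▸ w.ne_zero
  have hpow : ∀ k : ℕ, x₀ ^ k = 1 → q ^ 2 - 1 ∣ k := fun k hk => by
    rw [← hw]; exact orderOf_dvd_of_pow_eq_one (Units.ext (by rw [Units.val_pow_eq_pow_val, ← hx₀]; exact hk))
  have hsmall : ∀ k : ℕ, 0 < k → k < q ^ 2 - 1 → x₀ ^ k ≠ 1 := fun k h0 hk h =>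
    absurd (Nat.le_of_dvd h0 (hpow k h)) (by omega)
  have hx2 : σ (σ x₀) = x₀ := by rw [hσ, hσ, ← pow_mul, ← pow_two, ← hK, FiniteField.pow_card]
  obtain ⟨x₂, hx₂⟩ : ∃ x₂ : K, x₂ = (x₀ * σ x₀)⁻¹ := ⟨_, rfl⟩
  have hσ0 : σ x₀ ≠ 0 := by simpa using hne
  have hprod : x₀ * σ x₀ * x₂ = 1 := by rw [hx₂]; exact mul_inv_cancel₀ (mul_ne_zero hne hσ0)
  have hσ2 : σ x₂ = x₂ := by rw [hx₂, map_inv₀, map_mul, hx2, mul_comm]
  obtain ⟨e1, he1⟩ := fixed_mem ι (z := x₀ + σ x₀ + x₂) (by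
    rw [hq, ← hσ, map_add, map_add, hx2, hσ2]; ring)
  obtain ⟨e2, he2⟩ := fixed_mem ι (z := x₀ * σ x₀ + σ x₀ * x₂ + x₂ * x₀) (by
    rw [hq, ← hσ]; simp only [map_add, map_mul, hx2, hσ2]; ring)
  let lv : Fin 3 → K := ![x₀, σ x₀, x₂]
  have hinj : Function.Injective lv := by
    have a01 : x₀ ≠ σ x₀ := fun h => by
      rw [hσ] at h
      refine hsmall (q - 1) (by omega) (by omega) (mul_right_cancel₀ hne ?_)
      rw [← pow_succ, Nat.sub_add_cancel (by omega), ← h, one_mul]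
    have a02 : x₀ ≠ x₂ := fun h => by
      refine hsmall (q + 2) (by omega) (by omega) ?_
      rw [← h, hσ] at hprod
      rw [← hprod]; ring
    have a12 : σ x₀ ≠ x₂ := fun h => by
      refine hsmall (2 * q + 1) (by omega) (by omega) ?_
      rw [← h, hσ] at hprod
      rw [← hprod]; ring
    intro i j h
    fin_cases i <;> fin_cases j <;> simp [lv, a01, a02, a12, a01.symm, a02.symm, a12.symm] at h <;> rfl
  let C : Matrix.SpecialLinearGroup (Fin 3) F :=
    ⟨!![0, 0, 1; 1, 0, -e2; 0, 1, e1], by simp [Matrix.det_fin_three]⟩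
  have hd : ∀ i, lv i ^ (q ^ 2 - 1) = 1 := by
    have h0 : ∀ z : K, z ≠ 0 → z ^ (q ^ 2 - 1) = 1 := fun z hz => by rw [← hK]; exact FiniteField.pow_card_sub_one_eq_one z hz
    intro i
    fin_cases i
    exacts [h0 _ hne, h0 _ hσ0, h0 _ (show x₂ ≠ 0 by rw [hx₂]; exact inv_ne_zero (mul_ne_zero hne hσ0))]
  refine ⟨⟨psi F C, psi_mem C⟩, ?_⟩
  rw [← Subgroup.orderOf_coe, orderOf_injective (psi F) psi_injective]
  refine orderOf_of_eigen ι C (V := Matrix.vandermonde lv) (l := lv)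
    (Matrix.det_vandermonde_ne_zero_iff.2 hinj) ?_ 0 hd hpow
  have hroot : ∀ i, lv i ^ 3 = ι e1 * lv i ^ 2 - ι e2 * lv i + 1 := by
    intro i
    rw [he1, he2]
    fin_cases i <;> simp [lv] <;> linear_combination hprod
  ext i j
  rw [Matrix.diagonal_mul, Matrix.mul_apply, Fin.sum_univ_three]
  fin_cases j
  · simp [C, Matrix.vandermonde]
  · simp [C, Matrix.vandermonde]; ring
  · simp [C, Matrix.vandermonde]; linear_combination -(hroot i)

/-- Powers of the displacement of a regular unipotent element. -/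
def regTab : List (List Mono) :=
  [
   [(0, 0, 5, 1), (0, 1, 0, (-1)), (0, 1, 2, 1), (0, 1, 5, (-1)), (0, 1, 7, 1), (0, 2, 0, (-1)), (0, 2, 5, (-1)), (0, 2, 7, 1), (0, 4, 3, (-1)), (0, 5, 3, 1), (0, 5, 4, (-1)), (0, 6, 1, 1), (0, 7, 5, (-1))],
   [(0, 0, 3, 1), (0, 0, 4, (-1)), (0, 1, 0, (-1)), (0, 1, 3, (-1)), (0, 1, 4, 1), (0, 1, 5, (-3)), (0, 1, 7, 1), (0, 2, 3, (-1)), (0, 2, 4, 1), (0, 2, 5, (-2)), (0, 5, 3, 1), (0, 6, 0, (-1)), (0, 6, 2, 1), (0, 6, 5, (-1)), (0, 6, 7, 1), (0, 7, 3, (-1)), (0, 7, 4, 1)],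
   [(0, 0, 3, 1), (0, 1, 3, (-4)), (0, 1, 4, 3), (0, 1, 5, (-2)), (0, 2, 3, (-3)), (0, 2, 4, 2), (0, 6, 0, (-1)), (0, 6, 3, (-1)), (0, 6, 4, 1), (0, 6, 5, (-3)), (0, 6, 7, 1), (0, 7, 3, (-1))],
   [(0, 1, 3, (-5)), (0, 1, 4, 2), (0, 2, 3, (-2)), (0, 6, 3, (-4)), (0, 6, 4, 3), (0, 6, 5, (-2))],
   [(0, 1, 3, (-2)), (0, 6, 3, (-5)), (0, 6, 4, 2)],
   [(0, 6, 3, (-2))]]

/-- An entry of the tables. -/
def R (i : ℕ) : List Mono := regTab.getD (i - 1) []

/-- The identity as a list. -/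
def idL : List Mono := (List.finRange 8).map fun i => (0, i, i, 1)

theorem reg_check : eqMod 0 (mulL ((yTab 6).map fun x => (0, x.2)) ((yTab 7).map fun x => (0, x.2))) (idL ++ R 1) = true ∧
    eqMod 0 (mulL (R 1) (R 1)) (R 2) = true ∧ eqMod 0 (mulL (R 2) (R 1)) (R 3) = true ∧
    eqMod 0 (mulL (R 3) (R 2)) (R 5) = true ∧ eqMod 0 (mulL (R 5) (R 2)) [] = true := by
  decide +kernel

omit [Fintype F] in
theorem M_flat (a : List Mono) : M (1 : F) (a.map fun x => (0, x.2)) = M 1 a := by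
  induction a with
  | nil => simp [M_nil]
  | cons x a ih => simp [M_cons, ih]

omit [Fintype F] in
/-- A regular unipotent element has order `p²` for `p = 3, 5`. -/
theorem exists_order_p_sq {p : ℕ} [hp : Fact p.Prime] [CharP F p] (hp35 : p = 3 ∨ p = 5) :
    ∃ x : ↥(chevG2.group F), orderOf x = p ^ 2 := by
  obtain ⟨x, hx⟩ : ∃ x : ↥(chevG2.group F), x = ⟨_, goodG2.xG_mem_group (show 6 < chevG2.nroots by decide) (1 : F)⟩ *
      ⟨_, goodG2.xG_mem_group (show 7 < chevG2.nroots by decide) (1 : F)⟩ := ⟨_, rfl⟩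
  obtain ⟨g, hg⟩ : ∃ g, g = ((toOct x : GL (Fin 8) F) : Matrix (Fin 8) (Fin 8) F) := ⟨_, rfl⟩
  obtain ⟨c1, c2, c3, c5, c7⟩ := reg_check
  have e : ∀ {a b : List Mono}, eqMod 0 a b = true → M (1 : F) a = M 1 b := fun h => M_eqMod 1 Nat.cast_zero h
  have hid : M (1 : F) idL = 1 := by
    ext i j; fin_cases i <;> fin_cases j <;> simp [idL, M_entry, List.finRange_succ]
  have hN : g - 1 = M 1 (R 1) := by
    rw [hg, hx, map_mul, Subgroup.coe_mul, Units.val_mul, toOct_root (show 6 < chevG2.nroots by decide) 1 _ rfl,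
      toOct_root (show 7 < chevG2.nroots by decide) 1 _ rfl, ← M_flat (yTab 6), ← M_flat (yTab 7), ← M_mul, e c1,
      M_append, hid, add_sub_cancel_left]
  have n2 : (g - 1) ^ 2 = M 1 (R 2) := by rw [pow_two, hN, ← M_mul, e c2]
  have n3 : (g - 1) ^ 3 = M 1 (R 3) := by rw [(pow_succ (g - 1) 2 : (g - 1) ^ 3 = _), n2, hN, ← M_mul, e c3]
  have n5 : (g - 1) ^ 5 = M 1 (R 5) := by rw [(pow_add (g - 1) 3 2 : (g - 1) ^ 5 = _), n3, n2, ← M_mul, e c5]
  have n7 : (g - 1) ^ 7 = 0 := by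
    rw [(pow_add (g - 1) 5 2 : (g - 1) ^ 7 = _), n5, n2, ← M_mul, e c7, M_nil]
  have hpw : ∀ i : ℕ, g ^ p ^ i - 1 = (g - 1) ^ p ^ i := fun i => by
    rw [sub_pow_char_pow_of_commute p i (Commute.one_right g), one_pow]
  refine ⟨x, ?_⟩
  rw [← orderOf_injective toOct toOct_injective, ← Subgroup.orderOf_coe, ← orderOf_units, ← hg]
  refine orderOf_eq_prime_pow (n := 1) ?_ ?_
  · intro h
    have h1 := hpw 1
    rw [pow_one] at h h1
    rw [h, sub_self] at h1
    rcases hp35 with rfl | rfl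
    · have h' := congrFun (congrFun (h1.trans n3) 0) 3
      simp [M_entry, R, regTab] at h'
    · have h' := congrFun (congrFun (h1.trans n5) 1) 3
      simp [M_entry, R, regTab] at h'
      have h2 : (2 : ℕ) = (0 : F) := by push_cast; first | exact h' | exact h'.symm
      rw [CharP.cast_eq_zero_iff F 5] at h2
      omega
  · have h2 := hpw 2
    rw [pow_eq_zero_of_le (by rcases hp35 with rfl | rfl <;> norm_num) n7] at h2
    exact sub_eq_zero.1 h2

end CfsgLib.Chev.G2Z
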