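import Mathlib
import Cfsg.Agent.Lib.Chev.G2OddOrders
import Cfsg.Agent.Lib.Chev.G2EvenUnitary

/-!
An element of order `q² - q + 1` in `G₂(q)`, `q` odd.
-/

set_option autoImplicit false
set_option maxRecDepth 100000
set_option maxHeartbeats 1000000

namespace CfsgLib.Chev.G2Z

open Cfsg.Lie Matrix CfsgLib.Chev CfsgLib.Chev.G2Invol CfsgLib.Chev.G2SL3
open CfsgLib.Chev.G2Oct (exists_unit_orderOf invT scalar_phi)

/-- A three by three unitary matrix of determinant one and order `q² - q + 1`. -/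
theorem exists_unitary_order {K : Type*} [Field K] [Fintype K] {p : ℕ} [hp : Fact p.Prime] [CharP K p] {a q : ℕ} (hqa : q = p ^ a) (ha : 1 ≤ a)
    (hK : Fintype.card K = q ^ 2) :
    ∃ A : Matrix.SpecialLinearGroup (Fin 3) K, orderOf A = q ^ 2 - q + 1 ∧
      (A : Matrix (Fin 3) (Fin 3) K)ᵀ * (A : Matrix (Fin 3) (Fin 3) K).map (iterateFrobenius K p a) = 1 := by
  classical
  let L := FiniteField.Extension K p 3
  haveI : Fintype L := Fintype.ofFinite L
  haveI : CharP L p := charP_of_injective_algebraMap (algebraMap K L).injective p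
  have hL : Fintype.card L = q ^ 6 := by
    rw [← Nat.card_eq_fintype_card, FiniteField.natCard_extension, Nat.card_eq_fintype_card, hK, ← pow_mul]
  have hfr : Module.finrank K L = 3 := by
    have h := Module.card_eq_pow_finrank (K := K) (V := L)
    rw [hL, hK, ← pow_mul] at h
    have := Nat.pow_right_injective (show 2 ≤ q by rw [hqa]; exact le_trans hp.out.two_le (Nat.le_self_pow (by omega) p)) h
    omega
  let σ : K →+* K := iterateFrobenius K p a
  let τ : L →+* L := iterateFrobenius L p (3 * a)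
  have hσ : ∀ x : K, σ x = x ^ q := fun x => by rw [hqa]; exact iterateFrobenius_def ..
  have hτ : ∀ x : L, τ x = x ^ q ^ 3 := fun x => by
    rw [hqa, ← pow_mul, mul_comm a 3]; exact iterateFrobenius_def ..
  have hτK : ∀ c : K, τ (algebraMap K L c) = algebraMap K L (σ c) := fun c => by
    rw [hτ, ← map_pow, hσ, show q ^ 3 = q ^ 2 * q by ring, pow_mul, ← hK, FiniteField.pow_card]
  let B : L →ₛₗ[σ] L →ₗ[K] K := LinearMap.mk₂'ₛₗ σ (RingHom.id K) (fun x y => Algebra.trace K L (τ x * y))
    (fun x x' y => by rw [map_add, add_mul, map_add])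
    (fun c x y => by rw [Algebra.smul_def, map_mul τ, hτK, mul_assoc, ← Algebra.smul_def, map_smul])
    (fun x y y' => by rw [mul_add, map_add])
    (fun c x y => by rw [mul_smul_comm, map_smul, RingHom.id_apply])
  have hσ2 : ∀ c, σ (σ c) = c := fun c => by rw [hσ, hσ, ← pow_mul, ← pow_two, ← hK, FiniteField.pow_card]
  have hσid : σ ≠ RingHom.id K := fun h => by
    obtain ⟨γ, hγ⟩ := exists_unit_orderOf (E := K) (d := q ^ 2 - 1) (by rw [hK])
    have h1 : γ ^ (q - 1) = 1 := by
      refine mul_right_cancel (b := γ) ?_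
      rw [← pow_succ, Nat.sub_add_cancel (hqa ▸ Nat.one_le_pow a p hp.out.pos), one_mul]
      refine Units.ext ?_
      rw [Units.val_pow_eq_pow_val, ← hσ, h, RingHom.id_apply]
    have h2 : 2 ≤ q := hqa ▸ le_trans hp.out.two_le (Nat.le_self_pow (by omega) p)
    have := Nat.le_of_dvd (by omega) (hγ ▸ orderOf_dvd_of_pow_eq_one h1)
    have : q * 2 ≤ q ^ 2 := by rw [pow_two]; exact Nat.mul_le_mul_left _ h2
    omega
  have hq6 : ∀ z : L, z ^ q ^ 6 = z := fun z => by rw [← hL, FiniteField.pow_card]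
  have hS : ∀ u v, σ (B u v) = B v u := by
    intro u v
    apply (algebraMap K L).injective
    show algebraMap K L (σ (Algebra.trace K L (τ u * v))) = algebraMap K L (Algebra.trace K L (τ v * u))
    rw [hσ, map_pow, FiniteField.algebraMap_trace_eq_sum_pow, FiniteField.algebraMap_trace_eq_sum_pow, hfr,
      Nat.card_eq_fintype_card, hK, hqa, sum_pow_char_pow, ← hqa]
    simp only [Finset.sum_range_succ, Finset.sum_range_zero, zero_add, hτ, mul_pow, ← pow_mul]
    have e7 : ∀ (z : L) (n m : ℕ), n = m + 6 → z ^ q ^ n = z ^ q ^ m := fun z n m h => by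
      rw [h, pow_add, mul_comm, pow_mul, hq6]
    ring_nf
    rw [e7 u 6 0 rfl, e7 u 8 2 rfl, e7 v 7 1 rfl]
    simp only [pow_one, pow_zero]
    ac_rfl
  have hB : ∀ x, (∀ y, B x y = 0) → x = 0 := by
    intro x hx
    by_contra hne
    obtain ⟨z, hz⟩ := Algebra.trace_surjective K L 1
    have h := hx ((τ x)⁻¹ * z)
    change Algebra.trace K L (τ x * ((τ x)⁻¹ * z)) = 0 at h
    rw [← mul_assoc, mul_inv_cancel₀ (by simpa using hne), one_mul, hz] at h
    exact one_ne_zero h
  obtain ⟨b, hb⟩ := CfsgLib.Geom.exists_orthonormal_basis hσid hσ2 3 B hS hB hfr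
  have h2 : 2 ≤ q := hqa ▸ le_trans hp.out.two_le (Nat.le_self_pow (by omega) p)
  have hle : q ≤ q ^ 2 := Nat.le_self_pow two_ne_zero q
  have hd3 : q ^ 3 + 1 = (q + 1) * (q ^ 2 - q + 1) := by zify [hle]; ring
  obtain ⟨w, hw⟩ := exists_unit_orderOf (E := L) (d := q ^ 2 - q + 1) (by
    rw [hL, show q ^ 6 - 1 = (q ^ 3 + 1) * (q ^ 3 - 1) by rw [show q ^ 6 = (q ^ 3) ^ 2 by ring]; simpa using Nat.sq_sub_sq (q ^ 3) 1, hd3]
    exact dvd_mul_of_dvd_left (dvd_mul_left _ _) _)
  have hwpow : ∀ n, q ^ 2 - q + 1 ∣ n → (w : L) ^ n = 1 := fun n hn => by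
    rw [← Units.val_pow_eq_pow_val, orderOf_dvd_iff_pow_eq_one.1 (hw ▸ hn), Units.val_one]
  let M := Algebra.leftMulMatrix b (w : L)
  have hdet : M.det = 1 := by
    apply (algebraMap K L).injective
    rw [← Algebra.norm_eq_matrix_det, FiniteField.algebraMap_norm_eq_prod_pow, hfr, Nat.card_eq_fintype_card, hK,
      map_one]
    simp only [Finset.prod_range_succ, Finset.prod_range_zero, one_mul, ← pow_add]
    refine hwpow _ ⟨q ^ 2 + q + 1, ?_⟩
    zify [hle]; ring
  refine ⟨⟨M, hdet⟩, ?_, ?_⟩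
  · rw [← hw, ← orderOf_units]
    refine orderOf_eq_orderOf_iff.2 fun k => ?_
    have hinj : Function.Injective (Algebra.leftMulMatrix b) := Algebra.leftMulMatrix_injective b
    have e : (@HPow.hPow (Matrix.SpecialLinearGroup (Fin 3) K) ℕ (Matrix.SpecialLinearGroup (Fin 3) K) _ ⟨M, hdet⟩ k).1 = Algebra.leftMulMatrix b ((w : L) ^ k) := by
      rw [map_pow]; exact Matrix.SpecialLinearGroup.coe_pow _ _
    refine ⟨fun h => hinj ?_, fun h => Subtype.ext ?_⟩
    · rw [← e, h, map_one]; rfl
    · rw [e, h, map_one]; rfl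
  · ext i j
    have hcol : ∀ j, (w : L) * b j = ∑ k, M k j • b k := fun j => by
      conv_lhs => rw [← b.sum_repr ((w : L) * b j)]
      exact Finset.sum_congr rfl fun k _ => by
        show _ = Algebra.leftMulMatrix b (w : L) k j • b k
        rw [Algebra.leftMulMatrix_eq_repr_mul]
    have h1 : B ((w : L) * b j) ((w : L) * b i) = B (b j) (b i) := by
      show Algebra.trace K L (τ ((w : L) * b j) * ((w : L) * b i)) = Algebra.trace K L (τ (b j) * b i)
      congr 1
      rw [map_mul, hτ (w : L)]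
      have := hwpow (q ^ 3 + 1) (hd3 ▸ dvd_mul_left _ _)
      rw [pow_succ] at this
      linear_combination (τ (b j) * b i) * this
    rw [hcol, hcol, hb] at h1
    simp only [map_sum, LinearMap.sum_apply, LinearMap.map_smulₛₗ, LinearMap.smul_apply, map_smul,
      smul_eq_mul, hb, mul_ite, mul_one, mul_zero, Finset.sum_ite_eq, Finset.mem_univ, if_true] at h1
    rw [Matrix.mul_apply, Matrix.one_apply]
    rw [show (if i = j then (1 : K) else 0) = if j = i then 1 else 0 by simp [eq_comm], ← h1]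
    exact Finset.sum_congr rfl fun k _ => by simp [σ, M, mul_comm]

/-- The inverse transpose moved by `diag (-1, 1, -1)`. -/
def signD {K : Type*} [Field K] : Matrix.SpecialLinearGroup (Fin 3) K :=
  ⟨Matrix.diagonal ![-1, 1, -1], by simp [Matrix.det_diagonal, Fin.prod_univ_three]⟩

/-- The exchange as a list. -/
def nTab : List Mono :=
  [(0, 0, 7, 1), (0, 1, 4, 1), (0, 2, 5, (-1)), (0, 3, 6, 1), (0, 4, 1, 1), (0, 5, 2, (-1)), (0, 6, 3, 1), (0, 7, 0, 1)]

/-- The sign of a long root under the exchange. -/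
def nSign (r : ℕ) : ℤ := if r = 0 ∨ r = 11 then -1 else 1

/-- A root table at parameter one or minus one. -/
def flat (e : ℤ) (a : List Mono) : List Mono := a.map fun x => (0, x.2.1, x.2.2.1, e ^ x.1 * x.2.2.2)

/-- A root table with a signed parameter. -/
def twistL (e : ℤ) (a : List Mono) : List Mono := a.map fun x => (x.1, x.2.1, x.2.2.1, e ^ x.1 * x.2.2.2)

theorem nTab_check :
    eqMod 0 (mulL (mulL (mulL (mulL (mulL (flat 1 (yTab 11)) (flat (-1) (yTab 0))) (flat 1 (yTab 11)))
      (flat 1 (yTab 7))) (flat (-1) (yTab 4))) (flat 1 (yTab 7))) nTab = true ∧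
    eqMod 0 (mulL nTab nTab) idL = true ∧
    ∀ r ∈ [0, 1, 5, 6, 10, 11], eqMod 0 (mulL (mulL nTab (yTab r)) nTab) (twistL (nSign r) (yTab (11 - r))) = true := by
  decide +kernel

theorem M_flat_sign {K : Type*} [Field K] (e : ℤ) (a : List Mono) :
    M (1 : K) (flat e a) = M (e : K) a := by
  induction a with
  | nil => simp [flat, M_nil]
  | cons x a ih =>
    simp only [flat, List.map_cons, M_cons] at ih ⊢
    rw [ih, Matrix.smul_single, Matrix.smul_single]
    simp

theorem M_twist {K : Type*} [Field K] (e : ℤ) (t : K) (a : List Mono) :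
    M t (twistL e a) = M ((e : K) * t) a := by
  induction a with
  | nil => simp [twistL, M_nil]
  | cons x a ih =>
    simp only [twistL, List.map_cons, M_cons] at ih ⊢
    rw [ih, Matrix.smul_single, Matrix.smul_single]
    congr 1
    simp [mul_pow]
    congr 1
    ring

theorem transvection_signD {K : Type*} [Field K] {i j : Fin 3} (hij : i ≠ j) (c : K) :
    signD * invT (Matrix.SpecialLinearGroup.transvection hij c) * signD⁻¹ =
      Matrix.SpecialLinearGroup.transvection hij.symm ((nSign (longRoot i j) : K) * c) := by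
  rw [mul_inv_eq_iff_eq_mul]
  refine Subtype.ext ?_
  show signD.1 * ((Matrix.SpecialLinearGroup.transvection hij c)⁻¹ : Matrix.SpecialLinearGroup (Fin 3) K).1ᵀ = _
  rw [Matrix.SpecialLinearGroup.coe_mul, Matrix.SpecialLinearGroup.transvection_inv,
    Matrix.SpecialLinearGroup.transvection_coe, Matrix.SpecialLinearGroup.transvection_coe, Matrix.transpose_add,
    Matrix.transpose_one, Matrix.transpose_single, mul_add, add_mul, mul_one, one_mul]
  simp only [signD]
  ext a b
  simp only [Matrix.add_apply, Matrix.diagonal_mul, Matrix.mul_diagonal, Matrix.single_apply]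
  split_ifs with h
  · obtain ⟨rfl, rfl⟩ := h
    fin_cases i <;> fin_cases j <;> first | exact absurd rfl hij | simp [nSign, longRoot]
  · simp

/-- The element realising the exchange and its action on the long root subgroups. -/
theorem exists_exchange {K : Type*} [Field K] :
    ∃ N : ↥(chevG2.group K), (N : GL chevG2.Idx K) = phiA slW * phiB slW ∧ N * N = 1 ∧
      ∀ A : Matrix.SpecialLinearGroup (Fin 3) K,
        (N : GL chevG2.Idx K) * psi K A * (N : GL chevG2.Idx K) = psi K (signD * invT A * signD⁻¹) := by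
  let xe : ∀ r, r < chevG2.nroots → K → ↥(chevG2.group K) := fun r hr t => ⟨_, goodG2.xG_mem_group hr t⟩
  have h11 : 11 < chevG2.nroots := long_lt
  have h0 : 0 < chevG2.nroots := by decide
  have h7 : 7 < chevG2.nroots := short_lt
  have h4 : 4 < chevG2.nroots := by decide
  obtain ⟨N, hNd⟩ : ∃ N, N = xe 11 h11 1 * xe 0 h0 (-1) * xe 11 h11 1 * xe 7 h7 1 * xe 4 h4 (-1) * xe 7 h7 1 :=
    ⟨_, rfl⟩
  obtain ⟨c1, c2, c3⟩ := nTab_check
  have hW : (N : GL chevG2.Idx K) = phiA slW * phiB slW := by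
    rw [hNd, slW_eq, map_mul, map_mul, map_mul, map_mul, phiA_U, phiA_L, phiB_U, phiB_L]
    simp [xe, mul_assoc]
  have hNM : ((toOct N : GL (Fin 8) K) : Matrix (Fin 8) (Fin 8) K) = M 1 nTab := by
    rw [← M_eqMod (1 : K) Nat.cast_zero c1]
    simp only [M_mul, M_flat_sign, Int.cast_one, Int.cast_neg]
    rw [hNd]
    simp only [map_mul, Subgroup.coe_mul, Units.val_mul]
    rw [toOct_root h11 1 _ rfl, toOct_root h0 (-1) _ rfl, toOct_root h7 1 _ rfl, toOct_root h4 (-1) _ rfl]
  have hnc : ∀ x ∈ nTab, x.1 = 0 := by decide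
  have hsq : N * N = 1 := by
    refine toOct_injective (Subtype.ext (Units.ext ?_))
    rw [map_mul, Subgroup.coe_mul, Units.val_mul, hNM, ← M_mul, M_eqMod (1 : K) Nat.cast_zero c2, map_one,
      Subgroup.coe_one, Units.val_one]
    ext i j; fin_cases i <;> fin_cases j <;> simp [idL, M_entry, List.finRange_succ]
  refine ⟨N, hW, hsq, fun A => ?_⟩
  have hinv : (N : GL chevG2.Idx K)⁻¹ = N := by
    rw [← Subgroup.coe_inv, inv_eq_of_mul_eq_one_right hsq]
  let f₁ : Matrix.SpecialLinearGroup (Fin 3) K →* GL chevG2.Idx K :=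
    (MulAut.conj (N : GL chevG2.Idx K)).toMonoidHom.comp (psi K)
  let f₂ : Matrix.SpecialLinearGroup (Fin 3) K →* GL chevG2.Idx K :=
    (psi K).comp ((MulAut.conj signD).toMonoidHom.comp invT)
  suffices h : f₁.eqLocus f₂ = ⊤ by
    have := (h ▸ Subgroup.mem_top A : A ∈ f₁.eqLocus f₂)
    have h' : f₁ A = f₂ A := this
    simpa [f₁, f₂, hinv] using h'
  refine CfsgLib.Classical.sl_transvection_induction _ fun i j hij c => ?_
  show f₁ (Matrix.SpecialLinearGroup.transvection hij c) = f₂ (Matrix.SpecialLinearGroup.transvection hij c)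
  simp only [f₁, f₂, MonoidHom.comp_apply, MulEquiv.coe_toMonoidHom, MulAut.conj_apply]
  have hT := transvection_signD hij c
  have hr : ∀ i j : Fin 3, i ≠ j → longRoot i j < chevG2.nroots ∧ longRoot j i = 11 - longRoot i j ∧
      longRoot i j ∈ [0, 1, 5, 6, 10, 11] := by decide
  obtain ⟨r1, r2, r3⟩ := hr i j hij
  have hr2 : 11 - longRoot i j < chevG2.nroots := by rw [← r2]; exact (hr j i hij.symm).1
  rw [hT, psi_transvection, psi_transvection, r2, hinv]
  have key : N * ⟨_, goodG2.xG_mem_group r1 c⟩ * N =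
      ⟨_, goodG2.xG_mem_group hr2 ((nSign (longRoot i j) : K) * c)⟩ := by
    refine toOct_injective (Subtype.ext (Units.ext ?_))
    rw [map_mul, map_mul, Subgroup.coe_mul, Subgroup.coe_mul, Units.val_mul, Units.val_mul, hNM,
      toOct_root r1 c _ rfl, toOct_root hr2 _ _ rfl, ← M_twist, ← M_const c 1 hnc, ← M_mul, ← M_mul]
    exact M_eqMod c Nat.cast_zero (c3 _ r3)
  exact congrArg Subtype.val key

/-- An element of order `q² - q + 1`. -/
theorem exists_order_singer_minus {F : Type*} [Field F] [Fintype F] {p a q : ℕ} [hp : Fact p.Prime] [CharP F p]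
    (hp2 : p ≠ 2) (hqa : q = p ^ a) (ha : 1 ≤ a) (hq : Fintype.card F = q) :
    ∃ x : ↥(chevG2.group F), orderOf x = q ^ 2 - q + 1 := by
  classical
  let K := FiniteField.Extension F p 2
  haveI : Fintype K := Fintype.ofFinite K
  haveI : CharP K p := charP_of_injective_algebraMap (algebraMap F K).injective p
  have hK : Fintype.card K = q ^ 2 := by
    rw [← Nat.card_eq_fintype_card, FiniteField.natCard_extension, Nat.card_eq_fintype_card, hq]
  let E := FiniteField.Extension K p 2
  haveI : Fintype E := Fintype.ofFinite E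
  haveI : CharP E p := charP_of_injective_algebraMap (algebraMap K E).injective p
  have hE : Fintype.card E = q ^ 4 := by
    rw [← Nat.card_eq_fintype_card, FiniteField.natCard_extension, Nat.card_eq_fintype_card, hK, ← pow_mul]
  let j : K →+* E := algebraMap K E
  let ι : F →+* E := j.comp (algebraMap F K)
  let σ : E →+* E := iterateFrobenius E p a
  have hσ : ∀ x : E, σ x = x ^ q := fun x => by rw [hqa]; exact iterateFrobenius_def ..
  have hσj : ∀ x : K, σ (j x) = j (iterateFrobenius K p a x) := fun x => by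
    rw [hσ, iterateFrobenius_def, ← hqa, map_pow]
  have hfix : ∀ x, σ x = x → ∃ c, ι c = x := fun x hx => G2Torus.fixed_mem ι (by rw [hq, ← hσ]; exact hx)
  have hodd : Odd q := hqa ▸ (hp.out.odd_of_ne_two hp2).pow
  have hq3 : 3 ≤ q := by
    have h2 := le_trans hp.out.two_le (Nat.le_self_pow (show a ≠ 0 by omega) p)
    rw [← hqa] at h2
    rcases hodd with ⟨r, rfl⟩
    omega
  have h12 : q ^ 2 - 1 = (q + 1) * (q - 1) := by simpa using Nat.sq_sub_sq q 1
  have h2q1 : 2 ∣ q - 1 := by rcases hodd with ⟨r, rfl⟩; exact ⟨r, by omega⟩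
  have hE2 : (2 : E) ≠ 0 := Ring.two_ne_zero (by rwa [ringChar.eq E p])
  have hneg : ∀ {L : Type} [Field L] (w : Lˣ) (n : ℕ), 0 < n → orderOf w = 2 * n → (w : L) ^ n = -1 := by
    intro L _ w n hn hw
    have h1 : ((w : L) ^ n) ^ 2 = 1 := by
      rw [← pow_mul, mul_comm, ← hw, ← Units.val_pow_eq_pow_val, pow_orderOf_eq_one, Units.val_one]
    refine (sq_eq_one_iff.1 h1).resolve_left fun h => ?_
    have := Nat.le_of_dvd hn (hw ▸ orderOf_dvd_of_pow_eq_one (Units.ext (by
      rw [Units.val_pow_eq_pow_val, h, Units.val_one]) : w ^ n = 1))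
    omega
  obtain ⟨wp, hwp⟩ := exists_unit_orderOf (E := K) (d := 2 * (q + 1))
    (by rw [hK, h12, mul_comm 2]; exact mul_dvd_mul_left _ h2q1)
  have hπ : (wp : K) ^ (q + 1) = -1 := hneg wp _ (by omega) hwp
  have hσπ : iterateFrobenius K p a (wp : K) * (wp : K) = -1 := by
    rw [iterateFrobenius_def, ← hqa, ← pow_succ, hπ]
  obtain ⟨wt, hwt⟩ := exists_unit_orderOf (E := E) (d := 2 * (q ^ 2 - 1)) (by
    rw [hE, show q ^ 4 - 1 = (q ^ 2 + 1) * (q ^ 2 - 1) by
      rw [show q ^ 4 = (q ^ 2) ^ 2 by ring]; simpa using Nat.sq_sub_sq (q ^ 2) 1]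
    refine mul_dvd_mul_right ?_ _
    obtain ⟨r, rfl⟩ := hodd
    exact ⟨2 * r * r + 2 * r + 1, by ring⟩)
  obtain ⟨θ, hθ⟩ : ∃ θ : E, θ = (wt : E) := ⟨_, rfl⟩
  have hθ0 : θ ≠ 0 := hθ ▸ wt.ne_zero
  have hσ2 : σ (σ θ) = -θ := by
    have hle : 1 ≤ q ^ 2 := Nat.one_le_pow _ _ (by omega)
    rw [hσ, hσ, ← pow_mul, ← pow_two, show q ^ 2 = q ^ 2 - 1 + 1 by omega, pow_succ, hθ,
      hneg wt _ (by have : q * 3 ≤ q ^ 2 := by rw [pow_two]; exact Nat.mul_le_mul_left _ hq3
                    omega) hwt, neg_one_mul]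
  have hσθ : σ θ ≠ 0 := by simpa using hθ0
  obtain ⟨A₀, hA₀o, hA₀u⟩ := exists_unitary_order hqa ha hK
  -- the matrix unitary for the signed form
  let d : Fin 3 → E := ![j (wp : K), 1, j (wp : K)]
  let di : Fin 3 → E := ![(j (wp : K))⁻¹, 1, (j (wp : K))⁻¹]
  have hj0 : j (wp : K) ≠ 0 := by simpa using wp.ne_zero
  have hdd : Matrix.diagonal di * Matrix.diagonal d = 1 := by
    rw [Matrix.diagonal_mul_diagonal, ← Matrix.diagonal_one]
    congr 1; funext i; fin_cases i <;> simp [d, di, hj0]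
  have hdd' : Matrix.diagonal d * Matrix.diagonal di = 1 := mul_eq_one_comm.1 hdd
  obtain ⟨B₀, hB₀⟩ : ∃ B₀, B₀ = Matrix.SpecialLinearGroup.map j A₀ := ⟨_, rfl⟩
  let C : Matrix.SpecialLinearGroup (Fin 3) E →* Matrix.SpecialLinearGroup (Fin 3) E :=
    { toFun := fun M => ⟨Matrix.diagonal di * M.1 * Matrix.diagonal d, by
        rw [det_mul, det_mul, M.2, mul_one, ← det_mul, hdd, det_one]⟩
      map_one' := Subtype.ext (by simp [hdd])
      map_mul' := fun M M' => Subtype.ext (by
        show Matrix.diagonal di * (M.1 * M'.1) * Matrix.diagonal d =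
          (Matrix.diagonal di * M.1 * Matrix.diagonal d) * (Matrix.diagonal di * M'.1 * Matrix.diagonal d)
        simp only [Matrix.mul_assoc]
        rw [← Matrix.mul_assoc (Matrix.diagonal d) (Matrix.diagonal di), hdd', Matrix.one_mul]) }
  have hC : Function.Injective C := (injective_iff_map_eq_one _).2 fun M hM => by
    have h : Matrix.diagonal di * M.1 * Matrix.diagonal d = 1 := congrArg Subtype.val hM
    refine Subtype.ext ?_
    calc M.1 = Matrix.diagonal d * (Matrix.diagonal di * M.1 * Matrix.diagonal d) * Matrix.diagonal di := by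
          simp only [← Matrix.mul_assoc, hdd', Matrix.one_mul]; rw [Matrix.mul_assoc, hdd', Matrix.mul_one]
      _ = 1 := by rw [h, Matrix.mul_one, hdd']
  obtain ⟨A, hA⟩ : ∃ A, A = C B₀ := ⟨_, rfl⟩
  have hAo : orderOf A = q ^ 2 - q + 1 := by
    rw [hA, orderOf_injective C hC, hB₀, orderOf_injective (Matrix.SpecialLinearGroup.map j) (fun M M' h => Subtype.ext
      (Matrix.map_injective j.injective (congrArg Subtype.val h))), hA₀o]
  have hAu : (A.1.map σ)ᵀ * signD.1 * A.1 = signD.1 := by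
    have h1 : (B₀.1.map σ)ᵀ * B₀.1 = 1 := by
      have h := congrArg (fun M : Matrix (Fin 3) (Fin 3) K => M.map (fun x => σ (j x))) hA₀u
      have h' : (A₀.1ᵀ.map fun x => σ (j x)) * (A₀.1.map fun x => j x) = 1 := by
        have e : ((A₀.1.map (iterateFrobenius K p a)).map fun x => σ (j x)) = A₀.1.map fun x => j x := by
          ext u v
          simp only [Matrix.map_apply, hσj]
          rw [iterateFrobenius_def, iterateFrobenius_def, ← hqa, ← pow_mul, ← pow_two, ← hK, FiniteField.pow_card]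
        rw [show (fun x => σ (j x)) = ⇑(σ.comp j) from rfl] at h e ⊢
        rw [Matrix.map_mul, Matrix.map_one _ (map_zero _) (map_one _), e] at h
        exact h
      rw [hB₀]
      exact h'
    have h2 : (Matrix.diagonal di).map σ * signD.1 * Matrix.diagonal di = 1 := by
      have hd' : σ (j (wp : K))⁻¹ * (j (wp : K))⁻¹ = -1 := by
        rw [map_inv₀, ← mul_inv, hσj, ← map_mul, hσπ, map_neg, map_one, inv_neg, inv_one]
      ext u v
      fin_cases u <;> fin_cases v <;> simp [signD, di, Matrix.mul_apply, Fin.sum_univ_three] at hd' ⊢ <;>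
        linear_combination -hd'
    have h3 : (Matrix.diagonal d).map σ * Matrix.diagonal d = signD.1 := by
      have hd' : σ (j (wp : K)) * j (wp : K) = -1 := by rw [hσj, ← map_mul, hσπ, map_neg, map_one]
      ext u v
      fin_cases u <;> fin_cases v <;> simp [signD, d, Matrix.mul_apply, Fin.sum_univ_three] at hd' ⊢ <;>
        linear_combination hd'
    have hAv : A.1 = Matrix.diagonal di * B₀.1 * Matrix.diagonal d := by rw [hA]; rfl
    have hdiag : ∀ e : Fin 3 → E, ((Matrix.diagonal e).map σ)ᵀ = (Matrix.diagonal e).map σ := fun e => by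
      rw [Matrix.diagonal_map (map_zero σ), Matrix.diagonal_transpose]
    rw [hAv, Matrix.map_mul, Matrix.map_mul, Matrix.transpose_mul, Matrix.transpose_mul, hdiag, hdiag]
    calc _ = (Matrix.diagonal d).map σ * ((B₀.1.map σ)ᵀ *
          ((Matrix.diagonal di).map σ * signD.1 * Matrix.diagonal di) * B₀.1) * Matrix.diagonal d := by
            simp only [Matrix.mul_assoc]
      _ = _ := by rw [h2, Matrix.mul_one, h1, Matrix.mul_one, h3]
  obtain ⟨N, hN, hNN, hNA⟩ := exists_exchange (K := E)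
  let g : Matrix.SpecialLinearGroup (Fin 2) E :=
    ⟨!![θ, -σ θ; (2 * σ θ)⁻¹, (2 * θ)⁻¹], by
      rw [Matrix.det_fin_two_of, mul_inv, mul_inv]
      linear_combination (2 : E)⁻¹ * mul_inv_cancel₀ hθ0 + (2 : E)⁻¹ * mul_inv_cancel₀ hσθ + mul_inv_cancel₀ hE2⟩
  obtain ⟨G, hG⟩ : ∃ G : GL chevG2.Idx E, G = Phi (g, g) := ⟨_, rfl⟩
  have hgW : Matrix.SpecialLinearGroup.map σ g = g * slW := by
    refine Subtype.ext ?_
    rw [Matrix.SpecialLinearGroup.coe_mul]
    show g.1.map σ = _
    ext u v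
    fin_cases u <;> fin_cases v <;> simp [g, slW, Matrix.mul_apply, Fin.sum_univ_two, hσ2, map_ofNat] <;>
      first
        | ring1
        | (simp only [map_inv₀, map_mul, map_ofNat, hσ2, inv_neg, neg_mul, mul_neg, one_mul, mul_comm]; done)
        | (simp only [map_inv₀, map_mul, map_ofNat, hσ2, inv_neg]; ring1)
  have hGσ : scalarGL chevG2 σ G = G * (N : GL chevG2.Idx E) := by
    rw [hG, Phi_mk, map_mul, (scalar_phi σ g).1, (scalar_phi σ g).2, hgW, map_mul, map_mul, hN,
      mul_assoc (phiA g), mul_assoc (phiA g)]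
    rw [← mul_assoc (phiA slW) (phiB g), (phi_commute slW g).eq]
    simp [mul_assoc]
  have hinvT : signD * invT (Matrix.SpecialLinearGroup.map σ A) * signD⁻¹ = A := by
    have h1 : (A.1.map σ)ᵀ * (signD.1 * A.1 * signD.1) = 1 := by
      have hss : (signD : Matrix.SpecialLinearGroup (Fin 3) E).1 * signD.1 = 1 := by
        ext u v; fin_cases u <;> fin_cases v <;> simp [signD] <;> ring
      rw [← Matrix.mul_assoc, ← Matrix.mul_assoc, hAu, hss]
    have hi : ((Matrix.SpecialLinearGroup.map σ A)⁻¹).1ᵀ = signD.1 * A.1 * signD.1 := by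
      refine Matrix.transpose_injective ?_
      rw [Matrix.transpose_transpose]
      have h2 : (signD.1 * A.1 * signD.1)ᵀ * A.1.map σ = 1 := by
        have := congrArg Matrix.transpose h1
        rwa [Matrix.transpose_mul, Matrix.transpose_transpose, Matrix.transpose_one] at this
      have h3 := congrArg Subtype.val (mul_inv_cancel (Matrix.SpecialLinearGroup.map σ A))
      rw [Matrix.SpecialLinearGroup.coe_mul] at h3
      exact (left_inv_eq_right_inv h2 h3).symm
    refine mul_inv_eq_iff_eq_mul.2 (Subtype.ext ?_)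
    rw [Matrix.SpecialLinearGroup.coe_mul, Matrix.SpecialLinearGroup.coe_mul]
    show signD.1 * ((Matrix.SpecialLinearGroup.map σ A)⁻¹).1ᵀ = _
    have hss : (signD : Matrix.SpecialLinearGroup (Fin 3) E).1 * signD.1 = 1 := by
      ext u v; fin_cases u <;> fin_cases v <;> simp [signD] <;> ring
    rw [hi, ← Matrix.mul_assoc, ← Matrix.mul_assoc, hss, Matrix.one_mul]
  obtain ⟨y, hy⟩ : ∃ y, y = G * psi E A * G⁻¹ := ⟨_, rfl⟩
  have hymem : y ∈ chevG2.group E :=
    hy ▸ mul_mem (mul_mem (hG ▸ Phi_mem_group _) (psi_mem A)) (inv_mem (hG ▸ Phi_mem_group _))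
  have hyfix : scalarGL chevG2 σ y = y := by
    have hps : scalarGL chevG2 σ (psi E A) = psi E (Matrix.SpecialLinearGroup.map σ A) := psi_map σ A
    have hinv : (N : GL chevG2.Idx E)⁻¹ = N := by rw [← Subgroup.coe_inv, inv_eq_of_mul_eq_one_right hNN]
    rw [hy, map_mul, map_mul, map_inv, hGσ, hps, _root_.mul_inv_rev, hinv]
    calc _ = G * ((N : GL chevG2.Idx E) * psi E (Matrix.SpecialLinearGroup.map σ A) * N) * G⁻¹ := by group
      _ = _ := by rw [hNA, hinvT]
  have hB : (show Matrix (Fin chevG2.rank) (Fin chevG2.rank) ℤ from !![(2 : ℤ), 3; 1, 2]) * cartanMat chevG2 = 1 := by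
    decide +kernel
  obtain ⟨x, hx, hxy⟩ := goodG2.fixed_range G2Invol.hc hB ι σ hfix hymem hyfix
  refine ⟨⟨x, hx⟩, ?_⟩
  rw [← Subgroup.orderOf_coe, ← orderOf_injective (scalarGL chevG2 ι) (scalarGL_injective ι)]
  show orderOf (scalarGL chevG2 ι x) = _
  rw [hxy, hy, show G * psi E A * G⁻¹ = MulAut.conj G (psi E A) from rfl]
  exact ((orderOf_injective (MulAut.conj G).toMonoidHom (MulEquiv.injective _) _).trans
    (orderOf_injective (psi E) psi_injective A)).trans hAo

end CfsgLib.Chev.G2Z
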