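import Mathlib
import Cfsg.Agent.Lib.Chev.RegularTorus
import Cfsg.Agent.Lib.Chev.StInst
import Cfsg.Agent.Lib.Recog.CTFrame
import Cfsg.Agent.Lib.KnownB.SLnSteinberg

/-!
The long root `SL₃` inside `G₂` and its Singer cycle, which is self-centralising.
-/

set_option autoImplicit false
set_option maxRecDepth 10000

namespace CfsgLib.Chev.G2Singer

open Cfsg.Lie Matrix CfsgLib.Chev CfsgLib.CTFrame
open scoped MatrixGroups

/-- The long roots of `G₂` as matrix positions. -/
def idx : Fin 3 → Fin 3 → ℕ := ![![0, 6, 11], ![5, 0, 10], ![0, 1, 0]]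

lemma hcG2 : HasComm chevG2 := hasComm_of_mem (by simp)

lemma idx_lt (i j : Fin 3) : idx i j < chevG2.nroots := by revert i j; decide +kernel

lemma idx_comm0 : ∀ i j k l : Fin 3, i ≠ j → k ≠ l → i ≠ l → j ≠ k →
    idx i j = idx k l ∨ (idx i j ≠ idx k l ∧ idx i j ≠ chevG2.neg (idx k l) ∧
      chevG2.commTerms (idx k l) (idx i j) = []) := by decide +kernel

lemma idx_comm1 : ∀ i j k : Fin 3, i ≠ j → j ≠ k → i ≠ k →
    idx i j ≠ idx j k ∧ idx i j ≠ chevG2.neg (idx j k) ∧
      chevG2.commTerms (idx j k) (idx i j) = [(idx i k, -1, 1, 1)] := by decide +kernel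

variable {K : Type*} [Field K]

lemma comm_formula {r s : ℕ} (hr : r < chevG2.nroots) (hs : s < chevG2.nroots) (hrs : r ≠ s)
    (hneg : r ≠ chevG2.neg s) (a b : K) :
    goodG2.xG r a * goodG2.xG s b * (goodG2.xG r a)⁻¹ * (goodG2.xG s b)⁻¹ =
      ((chevG2.commWord K s r (-b) (-a)).map fun p => goodG2.xG p.1 p.2).prod := by
  have h := goodG2.commG hcG2 hs hr hrs hneg (-b) (-a)
  rw [goodG2.xG_inv, goodG2.xG_inv, neg_neg, neg_neg] at h
  rw [goodG2.xG_inv, goodG2.xG_inv, ← h]

theorem exists_phi (K : Type*) [Field K] [Finite K] :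
    ∃ Φ : SL(3, K) →* GL chevG2.Idx K,
      (∀ (i j : Fin 3) (h : i ≠ j) (t : K),
        Φ (Matrix.SpecialLinearGroup.transvection h t) = goodG2.xG (idx i j) t) ∧
      ∀ x, Φ x ∈ chevG2.group K := by
  obtain ⟨e, he⟩ := CfsgLib.KnownB.SLnSt.present (K := K) 3 le_rfl
  let f : {ij : Fin 3 × Fin 3 // ij.1 ≠ ij.2} × K → GL chevG2.Idx K :=
    fun p => goodG2.xG (idx p.1.1.1 p.1.1.2) p.2
  have hrel : ∀ r ∈ ({g : FreeGroup ({ij : Fin 3 × Fin 3 // ij.1 ≠ ij.2} × K) |
        ∃ (a : {ij : Fin 3 × Fin 3 // ij.1 ≠ ij.2}) (t u : K),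
            g = FreeGroup.of (a, t) * FreeGroup.of (a, u) * (FreeGroup.of (a, t + u))⁻¹} ∪
          {g | ∃ (a b : {ij : Fin 3 × Fin 3 // ij.1 ≠ ij.2}) (t u : K), a.1.1 ≠ b.1.2 ∧ a.1.2 ≠ b.1.1 ∧
            g = FreeGroup.of (a, t) * FreeGroup.of (b, u) * (FreeGroup.of (a, t))⁻¹ * (FreeGroup.of (b, u))⁻¹} ∪
          {g | ∃ (a b : {ij : Fin 3 × Fin 3 // ij.1 ≠ ij.2}) (h : a.1.1 ≠ b.1.2) (t u : K), a.1.2 = b.1.1 ∧
            g = FreeGroup.of (a, t) * FreeGroup.of (b, u) * (FreeGroup.of (a, t))⁻¹ * (FreeGroup.of (b, u))⁻¹ *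
              (FreeGroup.of (⟨(a.1.1, b.1.2), h⟩, t * u))⁻¹}),
      FreeGroup.lift f r = 1 := by
    rintro r ((⟨a, t, u, rfl⟩ | ⟨a, b, t, u, h1, h2, rfl⟩) | ⟨a, b, h, t, u, h2, rfl⟩) <;>
      simp only [map_mul, map_inv, FreeGroup.lift_apply_of, f]
    · rw [goodG2.xG_add, mul_inv_cancel]
    · rcases idx_comm0 _ _ _ _ a.2 b.2 h1 h2 with e1 | ⟨e1, e2, e3⟩
      · rw [e1, goodG2.xG_inv, goodG2.xG_inv, goodG2.xG_add, goodG2.xG_add, goodG2.xG_add,
          show t + u + -t + -u = 0 by ring, goodG2.xG_zero]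
      · rw [comm_formula (idx_lt _ _) (idx_lt _ _) e1 e2, ChevalleyDatum.commWord, e3]
        simp
    · obtain ⟨⟨i, j⟩, hij⟩ := a
      obtain ⟨⟨j', k⟩, hjk⟩ := b
      simp only at h2 hij hjk h ⊢
      subst h2
      obtain ⟨e1, e2, e3⟩ := idx_comm1 i j k hij hjk h
      rw [comm_formula (idx_lt _ _) (idx_lt _ _) e1 e2, ChevalleyDatum.commWord, e3, mul_inv_eq_one]
      simp only [List.map_cons, List.map_nil, List.prod_cons, List.prod_nil, mul_one]
      congr 1
      push_cast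
      ring
  refine ⟨(PresentedGroup.toGroup (f := f) hrel).comp e.symm.toMonoidHom, ?_, ?_⟩
  · intro i j h t
    have : e.symm (Matrix.SpecialLinearGroup.transvection h t) = PresentedGroup.of (⟨(i, j), h⟩, t) := by
      rw [MulEquiv.symm_apply_eq]
      exact Subtype.ext (by rw [he]; rfl)
    show PresentedGroup.toGroup hrel (e.symm _) = _
    rw [this, PresentedGroup.toGroup.of]
  · intro x
    have hx : e.symm x ∈ Subgroup.closure (Set.range PresentedGroup.of) := by
      rw [PresentedGroup.closure_range_of]; exact Subgroup.mem_top _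
    show PresentedGroup.toGroup hrel (e.symm x) ∈ _
    generalize e.symm x = w at hx ⊢
    induction hx using Subgroup.closure_induction with
    | mem y hy =>
      obtain ⟨p, rfl⟩ := hy
      rw [PresentedGroup.toGroup.of]
      exact goodG2.xG_mem_group (idx_lt _ _) _
    | one => rw [map_one]; exact one_mem _
    | mul a b _ _ iha ihb => rw [map_mul]; exact mul_mem iha ihb
    | inv a _ iha => rw [map_inv]; exact inv_mem iha

lemma xMat_map {L : Type*} [Field L] (f : K →+* L) (D : ChevalleyDatum) (r : Fin D.nroots) (t : K) :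
    (D.xMat K r t).map f = D.xMat L r (f t) := by
  ext row col
  rw [Matrix.map_apply]
  rcases col with i | s <;> rcases row with i' | u <;>
    simp only [ChevalleyDatum.xMat, Matrix.of_apply] <;>
    split_ifs <;> simp [map_list_sum, List.map_map, Function.comp_def]

lemma map_xG {L : Type*} [Field L] (f : K →+* L) {r : ℕ} (hr : r < chevG2.nroots) (t : K) :
    Matrix.GeneralLinearGroup.map f (goodG2.xG r t) = goodG2.xG r (f t) := by
  refine Units.ext ?_
  show (Units.val (goodG2.xG r t)).map f = _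
  rw [goodG2.coe_xG, goodG2.coe_xG, ChevalleyDatum.x, dif_pos hr, ChevalleyDatum.x, dif_pos hr, xMat_map]

lemma map_mem_group {L : Type*} [Field L] (f : K →+* L) {g : GL chevG2.Idx K}
    (hg : g ∈ chevG2.group K) : Matrix.GeneralLinearGroup.map f g ∈ chevG2.group L := by
  suffices chevG2.group K ≤ (chevG2.group L).comap (Matrix.GeneralLinearGroup.map f) from this hg
  refine (Subgroup.closure_le _).2 ?_
  rintro y ⟨r, t, hy⟩
  refine Subgroup.subset_closure ⟨r, f t, ?_⟩
  show (Units.val y).map f = _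
  rw [hy, xMat_map]

section Phi

variable {Φ : SL(3, K) →* GL chevG2.Idx K}
  (hΦ : ∀ (i j : Fin 3) (h : i ≠ j) (t : K),
    Φ (Matrix.SpecialLinearGroup.transvection h t) = goodG2.xG (idx i j) t)
include hΦ

theorem phi_natural {L : Type*} [Field L] (f : K →+* L) {Ψ : SL(3, L) →* GL chevG2.Idx L}
    (hΨ : ∀ (i j : Fin 3) (h : i ≠ j) (t : L),
      Ψ (Matrix.SpecialLinearGroup.transvection h t) = goodG2.xG (idx i j) t) (x : SL(3, K)) :
    Matrix.GeneralLinearGroup.map f (Φ x) = Ψ (Matrix.SpecialLinearGroup.map f x) := by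
  have h : MonoidHom.eqLocus ((Matrix.GeneralLinearGroup.map f).comp Φ)
      (Ψ.comp (Matrix.SpecialLinearGroup.map f)) = ⊤ := by
    refine CfsgLib.Classical.sl_transvection_induction _ fun i j hij c => ?_
    show Matrix.GeneralLinearGroup.map f (Φ _) = Ψ (Matrix.SpecialLinearGroup.map f _)
    have e : Matrix.SpecialLinearGroup.map f (Matrix.SpecialLinearGroup.transvection hij c) =
        Matrix.SpecialLinearGroup.transvection hij (f c) := by
      refine Subtype.ext ?_
      rw [Matrix.SpecialLinearGroup.map_apply_coe, Matrix.SpecialLinearGroup.transvection_coe,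
        Matrix.SpecialLinearGroup.transvection_coe]
      ext a b
      simp [Matrix.transvection, Matrix.single_apply, Matrix.one_apply, apply_ite f]
    rw [e, hΦ, hΨ, map_xG f (idx_lt _ _)]
  exact (h ▸ Subgroup.mem_top x :
    x ∈ MonoidHom.eqLocus ((Matrix.GeneralLinearGroup.map f).comp Φ) (Ψ.comp (Matrix.SpecialLinearGroup.map f)))

lemma phi_a12_slD (c : Kˣ) : Φ (a12 (slD c)) = goodG2.hG 6 c := by
  have eU : ∀ t : K, a12 (slU t) = Matrix.SpecialLinearGroup.transvection (show (0 : Fin 3) ≠ 1 by decide) t :=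
    fun t => Subtype.ext (by
      rw [Matrix.SpecialLinearGroup.transvection_coe, a12_val]
      ext i j
      fin_cases i <;> fin_cases j <;> simp [slU, Matrix.transvection, Matrix.single_apply])
  have eL : ∀ t : K, a12 (slL t) = Matrix.SpecialLinearGroup.transvection (show (1 : Fin 3) ≠ 0 by decide) t :=
    fun t => Subtype.ext (by
      rw [Matrix.SpecialLinearGroup.transvection_coe, a12_val]
      ext i j
      fin_cases i <;> fin_cases j <;> simp [slL, Matrix.transvection, Matrix.single_apply])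
  have e : slD c = slU (c : K) * slL (-((c⁻¹ : Kˣ) : K)) * slU (c : K) * (slU (-1) * slL 1 * slU (-1)) := by
    refine Subtype.ext ?_
    simp only [Matrix.SpecialLinearGroup.coe_mul]
    ext i j
    fin_cases i <;> fin_cases j <;> simp [slD, slU, slL, Matrix.mul_apply, Fin.sum_univ_two]
  have n5 : chevG2.neg 6 = 5 := by decide +kernel
  rw [e, map_mul, map_mul, map_mul, map_mul, map_mul, map_mul, map_mul, map_mul, map_mul, map_mul, eU, eL,
    eU, eL, hΦ, hΦ, hΦ, hΦ, goodG2.hG_eq (by decide +kernel), Good.nG, Good.nG, n5]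
  simp [idx]

lemma phi_a23_slD (c : Kˣ) : Φ (a23 (slD c)) = goodG2.hG 10 c := by
  have eU : ∀ t : K, a23 (slU t) = Matrix.SpecialLinearGroup.transvection (show (1 : Fin 3) ≠ 2 by decide) t :=
    fun t => Subtype.ext (by
      rw [Matrix.SpecialLinearGroup.transvection_coe, a23_val]
      ext i j
      fin_cases i <;> fin_cases j <;> simp [slU, Matrix.transvection, Matrix.single_apply])
  have eL : ∀ t : K, a23 (slL t) = Matrix.SpecialLinearGroup.transvection (show (2 : Fin 3) ≠ 1 by decide) t :=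
    fun t => Subtype.ext (by
      rw [Matrix.SpecialLinearGroup.transvection_coe, a23_val]
      ext i j
      fin_cases i <;> fin_cases j <;> simp [slL, Matrix.transvection, Matrix.single_apply])
  have e : slD c = slU (c : K) * slL (-((c⁻¹ : Kˣ) : K)) * slU (c : K) * (slU (-1) * slL 1 * slU (-1)) := by
    refine Subtype.ext ?_
    simp only [Matrix.SpecialLinearGroup.coe_mul]
    ext i j
    fin_cases i <;> fin_cases j <;> simp [slD, slU, slL, Matrix.mul_apply, Fin.sum_univ_two]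
  have n1 : chevG2.neg 10 = 1 := by decide +kernel
  rw [e, map_mul, map_mul, map_mul, map_mul, map_mul, map_mul, map_mul, map_mul, map_mul, map_mul, eU, eL,
    eU, eL, hΦ, hΦ, hΦ, hΦ, goodG2.hG_eq (by decide +kernel), Good.nG, Good.nG, n1]
  simp [idx]

end Phi

/-- The exponents of the torus of the long root `SL₃`. -/
def P6 : Fin 12 → ℤ := ![-1, 1, 0, -1, 1, -2, 2, -1, 1, 0, -1, 1]

/-- See `P6`. -/
def P10 : Fin 12 → ℤ := ![-1, -2, -1, 0, -1, 1, -1, 1, 0, 1, 2, 1]

/-- Coordinates of the roots on two short roots. -/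
def X8 : Fin 12 → ℤ := ![-2, -1, -1, -1, 0, -1, 1, 0, 1, 1, 1, 2]

/-- The exponent of a root on the Singer element. -/
def E (q : ℕ) (s : Fin 12) : ℤ := P6 s + (1 + (q : ℤ)) * P10 s

lemma P_inj : ∀ s t : Fin 12, P6 s = P6 t → P10 s = P10 t → s = t := by decide

lemma P_ne : ∀ s : Fin 12, P6 s ≠ 0 ∨ P10 s ≠ 0 := by decide

lemma P_bound : ∀ s : Fin 12, |P6 s| ≤ 2 ∧ |P10 s| ≤ 2 := by decide

theorem E_inj {q : ℕ} (hq : 3 ≤ q) :
    (∀ s t : Fin 12, ((q ^ 2 + q + 1 : ℕ) : ℤ) ∣ E q s - E q t → s = t) ∧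
      ∀ s : Fin 12, ¬ ((q ^ 2 + q + 1 : ℕ) : ℤ) ∣ E q s := by
  rcases (show q = 3 ∨ q = 4 ∨ q = 5 ∨ 6 ≤ q by omega) with rfl | rfl | rfl | h6
  · exact ⟨by decide +kernel, by decide +kernel⟩
  · exact ⟨by decide +kernel, by decide +kernel⟩
  · exact ⟨by decide +kernel, by decide +kernel⟩
  have hN : ((q ^ 2 + q + 1 : ℕ) : ℤ) > 4 * (q : ℤ) + 8 := by
    push_cast
    nlinarith
  have key : ∀ A B : ℤ, |A| ≤ 4 → |B| ≤ 4 → ((q ^ 2 + q + 1 : ℕ) : ℤ) ∣ A + (1 + (q : ℤ)) * B →
      A = 0 ∧ B = 0 := by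
    intro A B hA hB hd
    have hA' := abs_le.1 hA
    have hB' := abs_le.1 hB
    have hz : A + (1 + (q : ℤ)) * B = 0 := by
      refine Int.eq_zero_of_abs_lt_dvd hd (abs_lt.2 ⟨?_, ?_⟩)
      · nlinarith
      · nlinarith
    have hB0 : B = 0 := by
      by_contra hne
      rcases lt_or_gt_of_ne hne with h | h
      · nlinarith
      · nlinarith
    subst hB0
    exact ⟨by linarith, rfl⟩
  refine ⟨fun s t hd => ?_, fun s hd => ?_⟩
  · have e : E q s - E q t = (P6 s - P6 t) + (1 + (q : ℤ)) * (P10 s - P10 t) := by simp only [E]; ring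
    obtain ⟨a, b⟩ := key _ _ (by have := P_bound s; have := P_bound t; exact (abs_sub _ _).trans (by linarith))
      (by have := P_bound s; have := P_bound t; exact (abs_sub _ _).trans (by linarith)) (e ▸ hd)
    exact P_inj s t (by linarith) (by linarith)
  · obtain ⟨a, b⟩ := key _ _ (by have := P_bound s; linarith) (by have := P_bound s; linarith) hd
    exact (P_ne s).elim (· a) (· b)

/-- The root value as a unit. -/
def uval (c : Fin chevG2.rank → Kˣ) (s : Fin chevG2.nroots) : Kˣ :=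
  ∏ i : Fin chevG2.rank, c i ^ chevG2.cartan i s

lemma uval_mul (c d : Fin chevG2.rank → Kˣ) (s : Fin chevG2.nroots) :
    uval (c * d) s = uval c s * uval d s := by
  simp [uval, mul_zpow, Finset.prod_mul_distrib]

lemma uval_two (c : Fin chevG2.rank → Kˣ) (s : Fin chevG2.nroots) :
    uval c s = c (⟨0, by decide⟩ : Fin chevG2.rank) ^ chevG2.cartan 0 s *
      c (⟨1, by decide⟩ : Fin chevG2.rank) ^ chevG2.cartan 1 s :=
  Fin.prod_univ_two (fun i : Fin 2 => c i ^ chevG2.cartan (i : ℕ) s)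

lemma pair_tables : ∀ s : Fin 12,
    corootCo chevG2 6 (⟨0, by decide⟩ : Fin chevG2.rank) * chevG2.cartan 0 s +
        corootCo chevG2 6 (⟨1, by decide⟩ : Fin chevG2.rank) * chevG2.cartan 1 s = P6 s ∧
      corootCo chevG2 10 (⟨0, by decide⟩ : Fin chevG2.rank) * chevG2.cartan 0 s +
        corootCo chevG2 10 (⟨1, by decide⟩ : Fin chevG2.rank) * chevG2.cartan 1 s = P10 s := by
  decide +kernel

lemma short_tables : ∀ s : Fin 12, ∀ i : Fin 2,
    chevG2.cartan (i : ℕ) s = X8 s * chevG2.cartan (i : ℕ) 8 + P10 s * chevG2.cartan (i : ℕ) 7 := by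
  decide +kernel

lemma uval_short (c : Fin chevG2.rank → Kˣ) (s : Fin chevG2.nroots) :
    uval c s = uval c (⟨8, by decide⟩ : Fin chevG2.nroots) ^ X8 s *
      uval c (⟨7, by decide⟩ : Fin chevG2.nroots) ^ P10 s := by
  rw [uval_two, uval_two, uval_two, short_tables s 0 |> fun h => (h : chevG2.cartan 0 s = _),
    short_tables s 1 |> fun h => (h : chevG2.cartan 1 s = _)]
  simp only [mul_zpow, ← _root_.zpow_mul, _root_.zpow_add]
  rw [mul_mul_mul_comm]
  simp only [mul_comm (chevG2.cartan _ _) (X8 s), mul_comm (chevG2.cartan _ _) (P10 s)]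
  rfl

theorem singer_data (q : ℕ) (hq : 3 ≤ q) (a : Kˣ) (ha : orderOf a = q ^ 2 + q + 1)
    {Φ : SL(3, K) →* GL chevG2.Idx K}
    (hΦ : ∀ (i j : Fin 3) (h : i ≠ j) (t : K),
      Φ (Matrix.SpecialLinearGroup.transvection h t) = goodG2.xG (idx i j) t) :
    Φ (a12 (slD a) * a23 (slD (a * a ^ q))) ∈ chevG2.diagonalSubgroup K ∧
      ∀ s : Fin chevG2.nroots, torVal (Φ (a12 (slD a) * a23 (slD (a * a ^ q)))) s = ((a ^ E q s : Kˣ) : K) := by
  rw [map_mul, phi_a12_slD hΦ, phi_a23_slD hΦ, ← goodG2.torHom_pow_coroot (by decide +kernel),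
    ← goodG2.torHom_pow_coroot (by decide +kernel), ← map_mul]
  refine ⟨by rw [goodG2.diagonal_eq_range]; exact ⟨_, rfl⟩, fun s => ?_⟩
  rw [torVal_torHom]
  congr 1
  show uval _ s = _
  rw [uval_mul, uval_two, uval_two]
  rw [← _root_.zpow_mul, ← _root_.zpow_mul, ← _root_.zpow_mul, ← _root_.zpow_mul, ← _root_.zpow_add,
    ← _root_.zpow_add, (pair_tables s).1, (pair_tables s).2,
    show a * a ^ q = a ^ (1 + (q : ℤ)) by rw [_root_.zpow_add, _root_.zpow_one, zpow_natCast],
    ← _root_.zpow_mul, ← _root_.zpow_add]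
  rfl

lemma map_torHom {L : Type*} [Field L] (f : K →+* L) (c : Fin chevG2.rank → Kˣ) :
    Matrix.GeneralLinearGroup.map f (torHom chevG2 K c) =
      torHom chevG2 L (fun i => Units.map (f : K →* L) (c i)) := by
  refine Units.ext ?_
  show (Units.val (torHom chevG2 K c)).map f = _
  rw [torHom_apply, torHom_apply, Matrix.diagonal_map (map_zero f)]
  congr 1
  funext x
  show f _ = _
  change ((Units.map (f : K →* L) _ : Lˣ) : L) = _
  rw [map_prod]
  congr 2
  funext i
  exact map_zpow _ _ _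

lemma torVal_map {L : Type*} [Field L] (f : K →+* L) (h : GL chevG2.Idx K) (s : Fin chevG2.nroots) :
    torVal (Matrix.GeneralLinearGroup.map f h) s = f (torVal h s) := rfl

lemma mem_diag_of_map {L : Type*} [Field L] (f : K →+* L) {h : GL chevG2.Idx K}
    (hh : h ∈ chevG2.diagonalSubgroup K) :
    Matrix.GeneralLinearGroup.map f h ∈ chevG2.diagonalSubgroup L := by
  rw [goodG2.diagonal_eq_range] at hh ⊢
  obtain ⟨c, rfl⟩ := hh
  exact ⟨_, (map_torHom f c).symm⟩

theorem exists_singer (F : Type*) [Field F] [Fintype F] (K : Type*) [Field K] [Algebra F K] [Fintype K]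
    (b : Module.Basis (Fin 3) F K) (hq : 3 ≤ Fintype.card F) :
    ∃ H : Subgroup ↥(chevG2.group F), IsCyclic ↥H ∧
      Nat.card ↥H = Fintype.card F ^ 2 + Fintype.card F + 1 ∧
      Subgroup.centralizer (H : Set ↥(chevG2.group F)) = H := by
  classical
  obtain ⟨q, hqdef⟩ : ∃ q, q = Fintype.card F := ⟨_, rfl⟩
  rw [← hqdef] at hq ⊢
  set N := q ^ 2 + q + 1 with hN
  have hK : Fintype.card K = q ^ 3 := by
    rw [hqdef, Module.card_fintype b, Fintype.card_fin]
  have hcard : q ^ 3 - 1 = (q - 1) * N := by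
    obtain ⟨r, rfl⟩ : ∃ r, q = r + 1 := ⟨q - 1, by omega⟩
    rw [hN, Nat.add_sub_cancel]
    ring_nf
    omega
  have hKu : Nat.card Kˣ = q ^ 3 - 1 := by rw [Nat.card_units, Nat.card_eq_fintype_card, hK]
  obtain ⟨a, ha⟩ : ∃ a : Kˣ, orderOf a = N := by
    obtain ⟨g, hg⟩ := IsCyclic.exists_generator (α := Kˣ)
    have ho : orderOf g = q ^ 3 - 1 := by rw [orderOf_eq_card_of_forall_mem_zpowers hg, hKu]
    refine ⟨g ^ (orderOf g / N), orderOf_pow_orderOf_div (orderOf_pos g).ne' ?_⟩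
    rw [ho, hcard]; exact dvd_mul_left _ _
  obtain ⟨hEinj, hEne⟩ := E_inj hq
  have haz : ∀ z : ℤ, a ^ z = 1 ↔ (N : ℤ) ∣ z := fun z => by rw [← ha, orderOf_dvd_iff_zpow_eq_one]
  have hinj : ∀ s t : Fin 12, a ^ E q s = a ^ E q t → s = t := fun s t h => hEinj s t ((haz _).1 (by
    rw [_root_.zpow_sub, h, mul_inv_cancel]))
  have hne1 : ∀ s : Fin 12, a ^ E q s ≠ 1 := fun s h => hEne s ((haz _).1 h)
  -- the Frobenius map
  let φ : K →ₐ[F] K := FiniteField.frobeniusAlgHom F K
  have hφ : ∀ t, φ t = t ^ q := fun t => by rw [hqdef]; rfl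
  let σ : Fin 3 → (K →ₐ[F] K) := ![AlgHom.id F K, φ, φ.comp φ]
  let av : Fin 3 → K := ![((a : Kˣ) : K), ((a ^ q : Kˣ) : K), ((a ^ (q * q) : Kˣ) : K)]
  have hσa : ∀ k, σ k (a : K) = av k := by
    intro k
    fin_cases k <;> simp [σ, av, hφ, ← pow_mul]
  have hav : Function.Injective av := by
    have key : ∀ i j : ℕ, ((a ^ i : Kˣ) : K) = ((a ^ j : Kˣ) : K) → (N : ℤ) ∣ (i : ℤ) - j := by
      intro i j h
      refine (haz _).1 ?_
      rw [_root_.zpow_sub, zpow_natCast, zpow_natCast, Units.ext h, mul_inv_cancel]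
    have hlt : ∀ i j : ℕ, (N : ℤ) ∣ (i : ℤ) - j → i < N → j < N → i = j := by
      intro i j hd hi hj
      have := Int.eq_zero_of_abs_lt_dvd hd (abs_lt.2 ⟨by omega, by omega⟩)
      omega
    have ex : ∀ k : Fin 3, av k = ((a ^ (![1, q, q * q] k) : Kˣ) : K) := by
      intro k; fin_cases k <;> simp [av]
    have hb : ∀ k : Fin 3, (![1, q, q * q] k) < N := by
      intro k; fin_cases k
      · show 1 < N; rw [hN]; nlinarith
      · show q < N; rw [hN]; nlinarith
      · show q * q < N; rw [hN]; nlinarith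
    intro i j h
    rw [ex, ex] at h
    have h' := hlt _ _ (key _ _ h) (hb i) (hb j)
    have hq2 : 1 < q ∧ q < q * q := ⟨by omega, by nlinarith⟩
    fin_cases i <;> fin_cases j <;> simp at h' ⊢ <;> nlinarith
  let M := Algebra.leftMulMatrix b (a : K)
  let Y0 : Matrix (Fin 3) (Fin 3) K := Matrix.of fun k i => σ k (b i)
  have hYM : Y0 * M.map (algebraMap F K) = Matrix.diagonal av * Y0 := by
    ext k j
    rw [Matrix.mul_apply, Matrix.diagonal_mul, ← hσa]
    show ∑ i, σ k (b i) * algebraMap F K (M i j) = σ k (a : K) * σ k (b j)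
    rw [← map_mul, ← b.sum_repr ((a : K) * b j), map_sum]
    refine Finset.sum_congr rfl fun i _ => ?_
    rw [map_smul, show M i j = b.repr ((a : K) * b j) i from Algebra.leftMulMatrix_eq_repr_mul b (a : K) i j,
      Algebra.smul_def, mul_comm]
  have hY0 : Y0.det ≠ 0 := by
    intro h0
    obtain ⟨v, hv0, hv⟩ := Matrix.exists_vecMul_eq_zero_iff.2 h0
    have hzero : ∀ x : K, ∑ k, v k * σ k x = 0 := by
      intro x
      rw [← b.sum_repr x]
      simp only [map_sum, map_smul, Finset.mul_sum, mul_smul_comm]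
      rw [Finset.sum_comm]
      refine Finset.sum_eq_zero fun i _ => ?_
      rw [← Finset.smul_sum]
      have := congrFun hv i
      simp only [Matrix.vecMul, dotProduct, Y0, Matrix.of_apply, Pi.zero_apply] at this
      rw [this, smul_zero]
    have hσinj : Function.Injective fun k => ((σ k : K →+* K) : K →* K) := by
      intro i j h
      apply hav
      rw [← hσa, ← hσa]
      exact DFunLike.congr_fun h (a : K)
    have hli := (linearIndependent_monoidHom K K).comp _ hσinj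
    rw [Fintype.linearIndependent_iff] at hli
    refine hv0 (funext fun k => hli v ?_ k)
    funext x
    simpa [Finset.sum_apply, Pi.smul_apply] using hzero x
  have hprod : av 0 * av 1 * av 2 = 1 := by
    show ((a : Kˣ) : K) * ((a ^ q : Kˣ) : K) * ((a ^ (q * q) : Kˣ) : K) = 1
    rw [← Units.val_mul, ← Units.val_mul, ← pow_succ', ← pow_add,
      show q + 1 + q * q = orderOf a by rw [ha, hN]; ring, pow_orderOf_eq_one, Units.val_one]
  have hMdet : M.det = 1 := by
    have h := congrArg Matrix.det hYM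
    rw [det_mul, det_mul, det_diagonal, Fin.prod_univ_three, hprod, one_mul,
      ← RingHom.mapMatrix_apply, ← RingHom.map_det] at h
    have h2 : algebraMap F K M.det = 1 := mul_left_cancel₀ hY0 (h.trans (mul_one _).symm)
    exact (algebraMap F K).injective (h2.trans (map_one _).symm)
  let x : SL(3, F) := ⟨M, hMdet⟩
  let y : SL(3, K) := ⟨Matrix.diagonal ![Y0.det⁻¹, 1, 1] * Y0, by
    rw [det_mul, det_diagonal, Fin.prod_univ_three]; simp [inv_mul_cancel₀ hY0]⟩
  let Dm : SL(3, K) := a12 (slD a) * a23 (slD (a * a ^ q))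
  have hDm : Dm.1 = Matrix.diagonal av := by
    have e2 : ((a * a ^ q : Kˣ)⁻¹ : Kˣ) = a ^ (q * q) := inv_eq_of_mul_eq_one_left (Units.ext (by
      rw [Units.val_mul, Units.val_mul, Units.val_one]
      show _ = (1 : K)
      rw [← hprod]
      simp [av]
      ring))
    show (a12 (slD a)).1 * (a23 (slD (a * a ^ q))).1 = _
    rw [a12_val, a23_val]
    ext i j
    fin_cases i <;> fin_cases j <;>
      simp [Matrix.mul_apply, Fin.sum_univ_three, slD, av, e2, _root_.mul_inv_rev]
  let xK : SL(3, K) := Matrix.SpecialLinearGroup.map (algebraMap F K) x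
  have hyx : y * xK * y⁻¹ = Dm := by
    rw [mul_inv_eq_iff_eq_mul]
    refine Subtype.ext ?_
    rw [Matrix.SpecialLinearGroup.coe_mul, Matrix.SpecialLinearGroup.coe_mul, hDm]
    show Matrix.diagonal ![Y0.det⁻¹, 1, 1] * Y0 * M.map (algebraMap F K) =
      Matrix.diagonal av * (Matrix.diagonal ![Y0.det⁻¹, 1, 1] * Y0)
    rw [Matrix.mul_assoc, hYM, ← Matrix.mul_assoc, ← Matrix.mul_assoc, diagonal_mul_diagonal,
      diagonal_mul_diagonal]
    simp_rw [mul_comm]
  obtain ⟨ΦF, hΦF, hΦFmem⟩ := exists_phi F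
  obtain ⟨ΦK, hΦK, hΦKmem⟩ := exists_phi K
  let ι : GL chevG2.Idx F →* GL chevG2.Idx K := Matrix.GeneralLinearGroup.map (algebraMap F K)
  have hιinj : Function.Injective ι := fun u v h => Units.ext (Matrix.map_injective
    (algebraMap F K).injective (congrArg Units.val h :))
  let X : ↥(chevG2.group F) := ⟨ΦF x, hΦFmem x⟩
  obtain ⟨hdiag, hval⟩ := singer_data q hq a ha hΦK
  have hreg : ∀ s, torVal (ΦK Dm) s ≠ 1 := fun s h => hne1 s (Units.ext (by rw [← hval]; exact h))
  let Y : GL chevG2.Idx K := ΦK y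
  have hYX : Y * ι (X : GL chevG2.Idx F) * Y⁻¹ = ΦK Dm := by
    show ΦK y * Matrix.GeneralLinearGroup.map (algebraMap F K) (ΦF x) * (ΦK y)⁻¹ = _
    rw [phi_natural hΦF (algebraMap F K) hΦK, ← map_inv, ← map_mul, ← map_mul]
    exact congrArg ΦK hyx
  let fK : K →+* K := φ.toRingHom
  let ψ : GL chevG2.Idx K →* GL chevG2.Idx K := Matrix.GeneralLinearGroup.map fK
  have hψι : ∀ u, ψ (ι u) = ι u := fun u => Units.ext (by
    ext i j
    exact φ.commutes _)
  -- the permutation induced by the transporter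
  let nK : SL(3, K) := Matrix.SpecialLinearGroup.map fK y * y⁻¹
  have hnD : ΦK nK * ΦK Dm * (ΦK nK)⁻¹ = ψ (ΦK Dm) := by
    show _ = Matrix.GeneralLinearGroup.map fK (ΦK Dm)
    rw [phi_natural hΦK fK hΦK, ← map_inv, ← map_mul, ← map_mul]
    refine congrArg ΦK ?_
    have hxK : Matrix.SpecialLinearGroup.map fK xK = xK := Subtype.ext (by
      ext i j
      exact φ.commutes _)
    rw [← hyx, map_mul, map_mul, map_inv, hxK]
    simp only [nK]
    group
  obtain ⟨-, πn, hπn, hπnval⟩ := goodG2.regular_rigid hcG2 hdiag (mem_diag_of_map fK hdiag) (hΦKmem nK)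
    hreg hnD
  have hak : a ^ ((q : ℤ) ^ 3 - 1) = 1 := by
    refine (haz _).2 ⟨(q : ℤ) - 1, ?_⟩
    rw [hN]; push_cast; ring
  have hπ : ∀ s t : Fin 12, (N : ℤ) ∣ (q : ℤ) ^ 2 * E q s - E q t → πn s = t := by
    intro s t hd
    have h := hπnval s
    rw [torVal_map] at h
    change φ (torVal (ΦK Dm) (πn s)) = _ at h
    rw [hφ, hval (πn s), hval s, ← Units.val_pow_eq_pow_val] at h
    have h1 : (a ^ E q (πn s)) ^ q = a ^ E q s := Units.ext h
    apply hinj
    have h2 : a ^ ((q : ℤ) ^ 2 * E q s) = a ^ E q t :=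
      mul_inv_eq_one.1 (by rw [← _root_.zpow_sub]; exact (haz _).2 hd)
    rw [← h2, mul_comm ((q : ℤ) ^ 2), _root_.zpow_mul, ← h1, ← zpow_natCast (a ^ E q (πn s)) q,
      ← _root_.zpow_mul, ← _root_.zpow_mul]
    symm
    rw [← mul_inv_eq_one, ← _root_.zpow_neg, ← _root_.zpow_add]
    have e : E q (πn s) * ((q : ℤ) * (q : ℤ) ^ 2) + -E q (πn s) = ((q : ℤ) ^ 3 - 1) * E q (πn s) := by ring
    rw [e, _root_.zpow_mul, hak, _root_.one_zpow]
  have E7 : E q (⟨7, by decide⟩ : Fin 12) = q := by show (-1 : ℤ) + (1 + (q : ℤ)) * 1 = q; ring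
  have E8 : E q (⟨8, by decide⟩ : Fin 12) = 1 := by show (1 : ℤ) + (1 + (q : ℤ)) * 0 = 1; ring
  have E2 : E q (⟨2, by decide⟩ : Fin 12) = -1 - q := by show (0 : ℤ) + (1 + (q : ℤ)) * -1 = -1 - q; ring
  have hπ7 : πn (⟨7, by decide⟩ : Fin chevG2.nroots) = (⟨8, by decide⟩ : Fin chevG2.nroots) :=
    hπ (⟨7, by decide⟩ : Fin 12) (⟨8, by decide⟩ : Fin 12) ⟨(q : ℤ) - 1, by rw [E7, E8, hN]; push_cast; ring⟩
  have hπ2 : πn (⟨2, by decide⟩ : Fin chevG2.nroots) = (⟨7, by decide⟩ : Fin chevG2.nroots) :=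
    hπ (⟨2, by decide⟩ : Fin 12) (⟨7, by decide⟩ : Fin 12) ⟨-(q : ℤ), by rw [E7, E2, hN]; push_cast; ring⟩
  have hπ8 : πn (⟨8, by decide⟩ : Fin chevG2.nroots) = (⟨2, by decide⟩ : Fin chevG2.nroots) :=
    hπ (⟨8, by decide⟩ : Fin 12) (⟨2, by decide⟩ : Fin 12) ⟨1, by rw [E8, E2, hN]; push_cast; ring⟩
  -- conjugates of centralising elements lie in the torus
  have hcent : ∀ z : ↥(Subgroup.centralizer ({X} : Set ↥(chevG2.group F))),
      ∃ c : Fin chevG2.rank → Kˣ, Y * ι ((z : ↥(chevG2.group F)) : GL chevG2.Idx F) * Y⁻¹ = torHom chevG2 K c ∧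
        uval c ⟨8, by decide⟩ ^ N = 1 ∧ uval c ⟨7, by decide⟩ = (uval c ⟨8, by decide⟩) ^ q := by
    rintro ⟨⟨g, hg⟩, hz⟩
    have hcom : g * (X : GL chevG2.Idx F) = (X : GL chevG2.Idx F) * g :=
      (congrArg Subtype.val (Subgroup.mem_centralizer_iff.1 hz X rfl)).symm
    set h := Y * ι g * Y⁻¹ with hh
    have hhmem : h ∈ chevG2.group K :=
      mul_mem (mul_mem (hΦKmem y) (map_mem_group _ hg)) (inv_mem (hΦKmem y))
    have hhD : h * ΦK Dm * h⁻¹ = ΦK Dm := by
      rw [← hYX, hh]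
      have : ι g * ι (X : GL chevG2.Idx F) * (ι g)⁻¹ = ι (X : GL chevG2.Idx F) := by
        rw [← map_mul, hcom, map_mul, mul_inv_cancel_right]
      calc Y * ι g * Y⁻¹ * (Y * ι (X : GL chevG2.Idx F) * Y⁻¹) * (Y * ι g * Y⁻¹)⁻¹
          = Y * (ι g * ι (X : GL chevG2.Idx F) * (ι g)⁻¹) * Y⁻¹ := by group
        _ = _ := by rw [this]
    obtain ⟨hmono, π, hπh, hπval⟩ := goodG2.regular_rigid hcG2 hdiag hdiag hhmem hreg hhD
    have hπ1 : π = 1 := Equiv.ext fun s => hinj _ _ (Units.ext (by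
      rw [← hval, ← hval]; exact hπval s))
    have hhdiag : h ∈ chevG2.diagonalSubgroup K := by
      have h1 : goodG2.rootAct (F := K) ⟨h, hmono⟩ = 1 :=
        Subtype.ext ((goodG2.rootAct_eq (x := ⟨h, hmono⟩) hπh).trans hπ1)
      have h2 : (⟨h, hmono⟩ : ↥(chevG2.monomialSubgroup K)) ∈ (goodG2.rootAct (F := K)).ker := h1
      rw [goodG2.rootAct_ker] at h2
      exact h2
    have hψh : ΦK nK * h * (ΦK nK)⁻¹ = ψ h := by
      have e1 : ψ h = ψ Y * ι g * (ψ Y)⁻¹ := by rw [hh, map_mul, map_mul, map_inv, hψι]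
      rw [e1, hh]
      show ΦK nK * (ΦK y * ι g * (ΦK y)⁻¹) * (ΦK nK)⁻¹ =
        Matrix.GeneralLinearGroup.map fK (ΦK y) * ι g * (Matrix.GeneralLinearGroup.map fK (ΦK y))⁻¹
      rw [phi_natural hΦK fK hΦK]
      simp only [nK, map_mul, map_inv]
      group
    have hv : ∀ s, φ (torVal h (πn s)) = torVal h s := fun s => by
      have := goodG2.torVal_of_acts hπn hhdiag (mem_diag_of_map fK hhdiag) hψh s
      rw [torVal_map] at this
      exact this
    have hhdiag' := hhdiag
    rw [goodG2.diagonal_eq_range] at hhdiag'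
    obtain ⟨c, hc⟩ := hhdiag'
    have hrel : ∀ s, uval c (πn s) ^ q = uval c s := fun s => Units.ext (by
      have := hv s
      rw [hφ, ← hc, torVal_torHom, torVal_torHom] at this
      rw [Units.val_pow_eq_pow_val]
      exact this)
    have e7 : uval c ⟨7, by decide⟩ = uval c ⟨8, by decide⟩ ^ q := by rw [← hπ7]; exact (hrel _).symm
    have e2 : uval c ⟨2, by decide⟩ = uval c ⟨8, by decide⟩ ^ (q * q) := by
      rw [pow_mul, ← e7, ← hπ2]; exact (hrel _).symm
    have e0 := uval_short c (⟨2, by decide⟩ : Fin chevG2.nroots)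
    change _ = uval c ⟨8, by decide⟩ ^ (-1 : ℤ) * uval c ⟨7, by decide⟩ ^ (-1 : ℤ) at e0
    rw [e2, e7, _root_.zpow_neg_one, _root_.zpow_neg_one,
      ← mul_inv, ← mul_eq_one_iff_eq_inv, ← pow_succ', ← pow_add] at e0
    refine ⟨c, hc.symm, ?_, e7⟩
    rw [hN, show q ^ 2 + q + 1 = q * q + (q + 1) by ring]
    exact e0
  choose cf hcf1 hcf2 hcf3 using hcent
  let fmap : ↥(Subgroup.centralizer ({X} : Set ↥(chevG2.group F))) → ↥(powMonoidHom N : Kˣ →* Kˣ).ker :=
    fun z => ⟨uval (cf z) ⟨8, by decide⟩, MonoidHom.mem_ker.2 (hcf2 z)⟩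
  have hfinj : Function.Injective fmap := by
    intro z w hzw
    have h8 : uval (cf z) ⟨8, by decide⟩ = uval (cf w) ⟨8, by decide⟩ := congrArg Subtype.val hzw
    have h1 : torHom chevG2 K (cf z) = torHom chevG2 K (cf w) := by
      refine goodG2.eq_of_torVal (by rw [goodG2.diagonal_eq_range]; exact ⟨_, rfl⟩)
        (by rw [goodG2.diagonal_eq_range]; exact ⟨_, rfl⟩) fun s => ?_
      rw [torVal_torHom, torVal_torHom]
      congr 1
      show uval _ s = uval _ s
      rw [uval_short (cf z), uval_short (cf w), hcf3, hcf3, h8]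
    rw [← hcf1, ← hcf1, mul_left_inj, mul_right_inj] at h1
    exact Subtype.ext (Subtype.ext (hιinj h1))
  have hbound : Nat.card ↥(Subgroup.centralizer ({X} : Set ↥(chevG2.group F))) ≤ N := by
    refine (Nat.card_le_card_of_injective fmap hfinj).trans (le_of_eq ?_)
    rw [IsCyclic.card_powMonoidHom_ker, hKu, hcard]
    exact Nat.gcd_eq_right (dvd_mul_left _ _)
  -- the order of the element
  have hoX : orderOf X = N := by
    have hconj : ∀ m : ℕ, X ^ m = 1 ↔ (ΦK Dm) ^ m = 1 := fun m => by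
      rw [← hYX, conj_pow, conj_eq_one_iff, ← map_pow, map_eq_one_iff ι hιinj, ← SubmonoidClass.coe_pow,
        OneMemClass.coe_eq_one]
    have hpow : ∀ m : ℕ, (ΦK Dm) ^ m = 1 ↔ N ∣ m := by
      intro m
      have hd := hdiag
      rw [goodG2.diagonal_eq_range] at hd
      obtain ⟨c, hc⟩ := hd
      have hu : ∀ s, uval c s = a ^ E q s := fun s => Units.ext (by
        rw [← hval, ← hc, torVal_torHom]; rfl)
      constructor
      · intro h
        have h8 : ((a ^ E q (⟨8, by decide⟩ : Fin 12)) ^ m : Kˣ) = 1 := by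
          have h' : torVal ((ΦK Dm) ^ m) (⟨8, by decide⟩ : Fin chevG2.nroots) = (1 : K) := by
            rw [h]; simp [torVal]
          rw [← hc, ← map_pow, torVal_torHom] at h'
          refine (congrArg (· ^ m) (hu (⟨8, by decide⟩ : Fin chevG2.nroots))).symm.trans ?_
          refine Units.ext (Eq.trans ?_ h')
          congr 1
          simp only [uval, Pi.pow_apply, ← Finset.prod_pow, ← zpow_natCast, ← _root_.zpow_mul]
          rw [← Finset.prod_zpow]
          exact Finset.prod_congr rfl fun x _ => by rw [← _root_.zpow_mul, mul_comm]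
        rw [E8, zpow_one] at h8
        rw [← ha]; exact orderOf_dvd_of_pow_eq_one h8
      · intro hd
        have hN1 : ∀ j : ℕ, (a ^ j) ^ N = 1 := fun j => by
          rw [← pow_mul, mul_comm, pow_mul, ← ha, pow_orderOf_eq_one, one_pow]
        have hD : Dm ^ N = 1 := Subtype.ext (by
          rw [Matrix.SpecialLinearGroup.coe_pow, hDm, diagonal_pow]
          show _ = (1 : Matrix (Fin 3) (Fin 3) K)
          rw [← diagonal_one]
          congr 1
          funext k
          refine Eq.trans ?_ (congrArg Units.val (hN1 (![1, q, q * q] k)))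
          fin_cases k <;> simp [av])
        obtain ⟨d, rfl⟩ := hd
        rw [← map_pow, pow_mul, hD, one_pow, map_one]
    refine Nat.dvd_antisymm (orderOf_dvd_of_pow_eq_one ((hconj N).2 ((hpow N).2 dvd_rfl))) ?_
    exact (hpow _).1 ((hconj _).1 (pow_orderOf_eq_one X))
  refine ⟨Subgroup.zpowers X, inferInstance, by rw [Nat.card_zpowers, hoX], ?_⟩
  have hC : Subgroup.centralizer (Subgroup.zpowers X : Set ↥(chevG2.group F)) =
      Subgroup.centralizer ({X} : Set ↥(chevG2.group F)) := by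
    rw [Subgroup.zpowers_eq_closure, Subgroup.centralizer_closure]
  rw [hC]
  haveI : Finite ↥(Subgroup.centralizer ({X} : Set ↥(chevG2.group F))) :=
    Finite.of_injective fmap hfinj
  refine (Subgroup.eq_of_le_of_card_ge ?_ ?_).symm
  · rw [Subgroup.zpowers_le, Subgroup.mem_centralizer_iff]
    intro z hz
    rw [Set.mem_singleton_iff.1 hz]
  · rw [Nat.card_zpowers, hoX]; exact hbound

end CfsgLib.Chev.G2Singer
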