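import Cfsg.Agent.Lib.Coprime.Abelian
import Cfsg.Agent.Lib.Transfer.UniqueOrderP
import Mathlib.Tactic

/-!
# A half-transitive linear `p`-group, `p` odd, is cyclic and fixed-point-free
-/

namespace CfsgLib.Chev.HalfTrans

open MulAction

variable {P E : Type*} [Group P] [Finite P] [AddCommGroup E] [DistribMulAction P E]

/-- The sum over a subgroup. -/
noncomputable def avg (N : Subgroup P) (v : E) : E :=
  letI := Fintype.ofFinite N
  ∑ y : N, (y : P) • v

theorem avg_add (N : Subgroup P) (v w : E) : avg N (v + w) = avg N v + avg N w := by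
  simp [avg, Finset.sum_add_distrib]

theorem smul_avg (N : Subgroup P) {x : P} (hx : x ∈ N) (v : E) : x • avg N v = avg N v := by
  letI := Fintype.ofFinite N
  simp only [avg, Finset.smul_sum, smul_smul]
  exact Fintype.sum_equiv (Equiv.mulLeft (⟨x, hx⟩ : N)) _ _ fun y => rfl

theorem avg_of_fixed (N : Subgroup P) {v : E} (h : ∀ y ∈ N, y • v = v) :
    avg N v = Nat.card N • v := by
  letI := Fintype.ofFinite N
  rw [Nat.card_eq_fintype_card]
  simp [avg, fun y : N => h y y.2]

theorem smul_avg_conj (N N' : Subgroup P) (x : P) (h : ∀ y, y ∈ N ↔ x * y * x⁻¹ ∈ N') (v : E) :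
    x • avg N v = avg N' (x • v) := by
  letI := Fintype.ofFinite N
  letI := Fintype.ofFinite N'
  simp only [avg, Finset.smul_sum, smul_smul]
  let e : N ≃ N' :=
  { toFun := fun y => ⟨x * y * x⁻¹, (h y).1 y.2⟩
    invFun := fun y => ⟨x⁻¹ * y * x, (h _).2 (by simp [mul_assoc, y.2])⟩
    left_inv := fun y => Subtype.ext (by simp [mul_assoc])
    right_inv := fun y => Subtype.ext (by simp [mul_assoc]) }
  exact Fintype.sum_equiv e _ _ fun y => by simp [e, mul_assoc]

theorem avg_nsmul (N : Subgroup P) (n : ℕ) (v : E) : avg N (n • v) = n • avg N v := by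
  letI := Fintype.ofFinite N
  simp only [avg, Finset.smul_sum, smul_comm n]

theorem eq_zero_of_nsmul {n q : ℕ} (hE : ∀ e : E, q • e = 0) (hc : n.Coprime q) {v : E}
    (h : n • v = 0) : v = 0 := by
  have h1 : addOrderOf v ∣ Nat.gcd n q :=
    Nat.dvd_gcd (addOrderOf_dvd_of_nsmul_eq_zero h) (addOrderOf_dvd_of_nsmul_eq_zero (hE v))
  rw [hc.gcd_eq_one, Nat.dvd_one, AddMonoid.addOrderOf_eq_one_iff] at h1
  exact h1

variable [FaithfulSMul P E] {q : ℕ} (hE : ∀ e : E, q • e = 0)
  (hcop : (Nat.card P).Coprime q)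
  (hconst : ∀ a b : E, a ≠ 0 → b ≠ 0 →
    Nat.card (stabilizer P a) = Nat.card (stabilizer P b))
include hE hcop hconst

theorem stabilizer_eq {a b : E} (ha : a ≠ 0) (hab : a + b ≠ 0) (hb : b ≠ 0)
    (h : ∀ x : P, x • (a + b) = a + b → x • a = a) :
    stabilizer P a = stabilizer P b := by
  have h' : ∀ x : P, x • (a + b) = a + b → x • b = b := fun x hx => by
    have h1 := h x hx
    rw [smul_add, h1] at hx
    exact add_left_cancel hx
  have h1 : stabilizer P (a + b) = stabilizer P a :=
    Subgroup.eq_of_le_of_card_ge (fun x hx => mem_stabilizer_iff.2 (h x (mem_stabilizer_iff.1 hx)))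
      (hconst _ _ hab ha).ge
  have h2 : stabilizer P (a + b) = stabilizer P b :=
    Subgroup.eq_of_le_of_card_ge (fun x hx => mem_stabilizer_iff.2 (h' x (mem_stabilizer_iff.1 hx)))
      (hconst _ _ hab hb).ge
  rw [← h1, h2]

/-- A nontrivial normal subgroup fixes no nonzero vector. -/
theorem normal_no_fixed (N : Subgroup P) [hN : N.Normal] (hN1 : N ≠ ⊥) {a : E}
    (hfix : ∀ y ∈ N, y • a = a) : a = 0 := by
  by_contra ha
  have hcN : (Nat.card N).Coprime q := hcop.coprime_dvd_left N.card_subgroup_dvd_card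
  have hall : ∀ v : E, ∀ y ∈ N, y • v = v := by
    intro v y hy
    obtain ⟨b, hbdef⟩ : ∃ b, b = Nat.card N • v - avg N v := ⟨_, rfl⟩
    have hb0 : avg N b = 0 := by
      have h1 : avg N (avg N v) = Nat.card N • avg N v :=
        avg_of_fixed N fun z hz => smul_avg N hz v
      have h2 := avg_add N b (avg N v)
      rw [h1, hbdef, sub_add_cancel, avg_nsmul] at h2
      rwa [right_eq_add, ← hbdef] at h2
    have key : b = 0 := by
      by_contra hb
      have hab : a + b ≠ 0 := by
        intro h
        have h1 := avg_add N a b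
        rw [hb0, add_zero, avg_of_fixed N hfix, h] at h1
        refine ha (eq_zero_of_nsmul hE hcN ?_)
        rw [← h1]
        simp [avg]
      have hs := stabilizer_eq hE hcop hconst ha hab hb fun x hx => by
        have h1 := smul_avg_conj N N x (fun z => ⟨fun hz => hN.conj_mem z hz x, fun hz => by
          have := hN.conj_mem _ hz x⁻¹
          rwa [show x⁻¹ * (x * z * x⁻¹) * x⁻¹⁻¹ = z by group] at this⟩) (a + b)
        rw [hx, avg_add, hb0, add_zero, avg_of_fixed N hfix] at h1
        have h2 : Nat.card N • (x • a - a) = 0 := by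
          rw [nsmul_sub, ← smul_comm, h1, sub_self]
        exact sub_eq_zero.1 (eq_zero_of_nsmul hE hcN h2)
      have hbf : ∀ z ∈ N, z • b = b := fun z hz =>
        mem_stabilizer_iff.1 (hs ▸ mem_stabilizer_iff.2 (hfix z hz))
      rw [avg_of_fixed N hbf] at hb0
      exact hb (eq_zero_of_nsmul hE hcN hb0)
    rw [hbdef, sub_eq_zero] at key
    have h2 : Nat.card N • (y • v - v) = 0 := by
      rw [nsmul_sub, ← smul_comm, key, smul_avg N hy, sub_self]
    exact sub_eq_zero.1 (eq_zero_of_nsmul hE hcN h2)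
  refine hN1 ((Subgroup.eq_bot_iff_forall N).2 fun y hy => eq_of_smul_eq_smul fun v : E => ?_)
  rw [one_smul, hall v y hy]

theorem fpf_of_isCyclic [IsCyclic P] {g : P} (hg : g ≠ 1) {a : E} (h : g • a = a) : a = 0 := by
  have : (Subgroup.zpowers g).Normal :=
    ⟨fun z hz w => by
      letI := IsCyclic.commGroup (α := P)
      rwa [mul_comm w z, mul_inv_cancel_right]⟩
  refine normal_no_fixed hE hcop hconst (Subgroup.zpowers g) ?_ fun y hy => ?_
  · rw [Ne, Subgroup.zpowers_eq_bot]; exact hg
  · exact mem_stabilizer_iff.1 (Subgroup.zpowers_le.2 (mem_stabilizer_iff.2 h) hy)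

theorem isCyclic {p : ℕ} [Fact p.Prime] (hp2 : p ≠ 2) (hP : IsPGroup p P) [Finite E]
    [Nontrivial E] : IsCyclic P := by
  classical
  by_contra hnc
  obtain ⟨A, hAn, hAc, hAe, hAcard⟩ :=
    CfsgLib.Transfer.exists_normal_elementary_sq hp2 hP hnc
  have hp := (Fact.out : p.Prime)
  have hA1 : A ≠ ⊥ := fun h => by
    rw [h, Subgroup.card_bot] at hAcard
    exact (Nat.one_lt_pow two_ne_zero hp.one_lt).ne hAcard
  have hAnc : ¬ IsCyclic A := by
    intro hc
    obtain ⟨g, hg⟩ := hc.exists_ofOrder_eq_natCard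
    have : orderOf g ∣ p := orderOf_dvd_of_pow_eq_one (Subtype.ext (hAe g g.2))
    rw [hg, hAcard] at this
    exact absurd (Nat.le_of_dvd hp.pos this) (by nlinarith [hp.two_le])
  have hcE : (Nat.card P).Coprime (Nat.card E) := by
    refine Nat.coprime_of_dvd fun k hk hkP hkE => ?_
    have := Fact.mk hk
    obtain ⟨e, he⟩ := exists_prime_addOrderOf_dvd_card' (G := E) k hkE
    exact hk.not_dvd_one (hcop.gcd_eq_one ▸ Nat.dvd_gcd hkP
      (he ▸ addOrderOf_dvd_of_nsmul_eq_zero (hE e)))
  let φ : A →* MulAut (Multiplicative E) :=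
    MonoidHom.mk' (fun y => AddEquiv.toMultiplicative (DistribMulAction.toAddEquiv E (y : P)))
      fun y z => MulEquiv.ext fun v => by
        show Multiplicative.ofAdd (((y : P) * z) • Multiplicative.toAdd v) = _
        rw [mul_smul]
        rfl
  obtain ⟨y, hy1, v, hv1, hyv⟩ := CfsgLib.Coprime.exists_ne_one_fixed_of_not_isCyclic φ
    (hcE.coprime_dvd_left A.card_subgroup_dvd_card) hAnc
  obtain ⟨a, ha⟩ : ∃ a, a = Multiplicative.toAdd v := ⟨_, rfl⟩
  have ha0 : a ≠ 0 := fun h => hv1 (by rw [h] at ha; exact Multiplicative.toAdd.injective ha.symm)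
  have hya : (y : P) • a = a := by rw [ha]; exact congrArg Multiplicative.toAdd hyv
  let B : Subgroup P := Subgroup.zpowers (y : P)
  have hBA : B ≤ A := Subgroup.zpowers_le.2 y.2
  have hBfix : ∀ z ∈ B, z • a = a := fun z hz =>
    mem_stabilizer_iff.1 (Subgroup.zpowers_le.2 (mem_stabilizer_iff.2 hya) hz)
  have hBp : Nat.card B = p := by
    rw [Nat.card_zpowers]
    exact orderOf_eq_prime (hAe y y.2) fun h => hy1 (Subtype.ext h)
  have hBn : ∃ g : P, B.map (MulAut.conj g).toMonoidHom ≠ B := by
    by_contra hno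
    push Not at hno
    have : B.Normal := ⟨fun z hz g => by
      have := Subgroup.mem_map_of_mem (MulAut.conj g).toMonoidHom hz
      rw [hno g] at this
      exact this⟩
    refine ha0 (normal_no_fixed hE hcop hconst B ?_ hBfix)
    intro h; rw [h, Subgroup.card_bot] at hBp; exact hp.one_lt.ne hBp
  obtain ⟨g, hg⟩ := hBn
  obtain ⟨b, hb⟩ : ∃ b, b = g • a := ⟨_, rfl⟩
  obtain ⟨B', hB'⟩ : ∃ B', B' = B.map (MulAut.conj g).toMonoidHom := ⟨_, rfl⟩
  rw [← hB'] at hg
  have hb0 : b ≠ 0 := fun h => ha0 ((smul_eq_zero_iff_eq g).1 (hb ▸ h))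
  have hB'A : B' ≤ A := by
    rw [hB']; rintro _ ⟨z, hz, rfl⟩; exact hAn.conj_mem z (hBA hz) g
  have hB'p : Nat.card B' = p := by
    rw [hB', Subgroup.card_map_of_injective (MulAut.conj g).injective, hBp]
  have hB'fix : ∀ z ∈ B', z • b = b := by
    rw [hB', hb]; rintro _ ⟨z, hz, rfl⟩
    show (g * z * g⁻¹) • g • a = g • a
    rw [mul_smul, mul_smul, inv_smul_smul, hBfix z hz]
  have hgen : ∀ C C' : Subgroup P, C ≤ A → C' ≤ A → Nat.card C = p → Nat.card C' = p → C ≠ C' →
      C ⊔ C' = A := by
    intro C C' hC hC' hc hc' hne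
    refine Subgroup.eq_of_le_of_card_ge (sup_le hC hC') ?_
    obtain ⟨k, -, hk'⟩ := (Nat.dvd_prime_pow hp).1 (hAcard ▸ Subgroup.card_dvd_of_le (sup_le hC hC'))
    rcases le_or_gt 2 k with h2 | h2
    · rw [hAcard, hk']
      exact Nat.pow_le_pow_right hp.pos h2
    · exfalso
      have hle : Nat.card (C ⊔ C' : Subgroup P) ≤ p := by
        rw [hk']; exact (Nat.pow_le_pow_right hp.pos (by omega : k ≤ 1)).trans (pow_one p).le
      have e1 := Subgroup.eq_of_le_of_card_ge (le_sup_left : C ≤ C ⊔ C') (hc.symm ▸ hle)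
      have e2 := Subgroup.eq_of_le_of_card_ge (le_sup_right : C' ≤ C ⊔ C') (hc'.symm ▸ hle)
      exact hne (e1.trans e2.symm)
  -- averaging over `C` kills a vector fixed by another line
  have hkill : ∀ C C' : Subgroup P, C ≤ A → C' ≤ A → Nat.card C = p → Nat.card C' = p → C ≠ C' →
      ∀ w : E, (∀ z ∈ C', z • w = w) → avg C w = 0 := by
    intro C C' hC hC' hc hc' hne w hw
    refine normal_no_fixed hE hcop hconst A hA1 fun z hz => ?_
    have hle : A ≤ stabilizer P (avg C w) := by
      rw [← hgen C C' hC hC' hc hc' hne]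
      refine sup_le (fun x hx => mem_stabilizer_iff.2 (smul_avg C hx w)) fun x hx => ?_
      have hcomm : ∀ u ∈ C, x * u * x⁻¹ = u := fun u hu => by
        have : x * u = u * x := congrArg Subtype.val (mul_comm' (⟨x, hC' hx⟩ : A) ⟨u, hC hu⟩)
        rw [this, mul_inv_cancel_right]
      rw [mem_stabilizer_iff, smul_avg_conj C C x (fun u => ⟨fun hu => (hcomm u hu).symm ▸ hu,
        fun hu => by
          have : x * (x * u * x⁻¹) = (x * u * x⁻¹) * x :=
            congrArg Subtype.val (mul_comm' (⟨x, hC' hx⟩ : A) ⟨_, hC hu⟩)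
          have : u = x * u * x⁻¹ := by
            have h' : x * u * x⁻¹ * x = x * u := by group
            rw [h'] at this
            exact (mul_left_cancel this).symm
          rwa [← this] at hu⟩) w, hw x hx]
    exact mem_stabilizer_iff.1 (hle hz)
  have hcp : p.Coprime q := hcop.coprime_dvd_left (hBp ▸ B.card_subgroup_dvd_card)
  have hab : a + b ≠ 0 := by
    intro h
    have h1 := avg_add B a b
    rw [h, avg_of_fixed B hBfix, hkill B B' hBA hB'A hBp hB'p hg.symm b hB'fix, add_zero,
      hBp] at h1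
    refine ha0 (eq_zero_of_nsmul hE hcp ?_)
    rw [← h1]; simp [avg]
  have hs := stabilizer_eq hE hcop hconst ha0 hab hb0 fun x hx => by
    have himg : ∀ C : Subgroup P, C ≤ A → Nat.card C = p →
        avg C (a + b) ≠ 0 → C.map (MulAut.conj x).toMonoidHom = B ∨
          C.map (MulAut.conj x).toMonoidHom = B' := by
      intro C hC hc hne
      by_contra hcon
      push Not at hcon
      have hC2 : C.map (MulAut.conj x).toMonoidHom ≤ A := by
        rintro _ ⟨z, hz, rfl⟩; exact hAn.conj_mem z (hC hz) x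
      have hc2 : Nat.card (C.map (MulAut.conj x).toMonoidHom) = p := by
        rw [Subgroup.card_map_of_injective (MulAut.conj x).injective, hc]
      refine hne ((smul_eq_zero_iff_eq x).1 ?_)
      rw [smul_avg_conj C (C.map (MulAut.conj x).toMonoidHom) x
        (fun z => (Subgroup.mem_map_iff_mem (MulAut.conj x).injective).symm) (a + b), hx, avg_add,
        hkill _ B hC2 hBA hc2 hBp hcon.1 a hBfix,
        hkill _ B' hC2 hB'A hc2 hB'p hcon.2 b hB'fix, add_zero]
    have hBa : avg B (a + b) = p • a := by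
      rw [avg_add, avg_of_fixed B hBfix, hkill B B' hBA hB'A hBp hB'p hg.symm b hB'fix, add_zero,
        hBp]
    have hB'b : avg B' (a + b) = p • b := by
      rw [avg_add, avg_of_fixed B' hB'fix, hkill B' B hB'A hBA hB'p hBp hg a hBfix, zero_add,
        hB'p]
    have hfixB : B.map (MulAut.conj x).toMonoidHom = B := by
      rcases himg B hBA hBp (by rw [hBa]; exact fun h => ha0 (eq_zero_of_nsmul hE hcp h)) with
        h | h
      · exact h
      · exfalso
        rcases himg B' hB'A hB'p (by rw [hB'b]; exact fun h => hb0 (eq_zero_of_nsmul hE hcp h))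
          with h' | h'
        · have h2 : x * x ∈ Subgroup.normalizer (B : Set P) := by
            rw [Subgroup.mem_normalizer_iff_map_conj_eq]
            refine Eq.trans ?_ h'
            rw [← h, Subgroup.map_map]
            congr 1
            ext z; simp [mul_assoc]
          have hodd : Odd (orderOf x) := by
            obtain ⟨k, hk⟩ := (IsPGroup.iff_orderOf.1 hP) x
            rw [hk]; exact (hp.odd_of_ne_two hp2).pow
          obtain ⟨n, hn⟩ := hodd
          have : x ∈ Subgroup.normalizer (B : Set P) := by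
            have e : x = (x * x) ^ (n + 1) := by
              rw [← pow_two, ← pow_mul, show 2 * (n + 1) = 2 * n + 1 + 1 by ring, ← hn, pow_succ,
                pow_orderOf_eq_one, one_mul]
            rw [e]; exact pow_mem h2 _
          rw [Subgroup.mem_normalizer_iff_map_conj_eq] at this
          exact hg (h.symm.trans this)
        · exact hg.symm
            (Subgroup.map_injective (MulAut.conj x).injective (h.trans h'.symm))
    have h1 := smul_avg_conj B B x (fun z => by
      conv_rhs => rw [← hfixB]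
      exact (Subgroup.mem_map_iff_mem (MulAut.conj x).injective).symm) (a + b)
    rw [hx, hBa] at h1
    have h2 : p • (x • a - a) = 0 := by
      rw [nsmul_sub, ← smul_comm, h1, sub_self]
    exact sub_eq_zero.1 (eq_zero_of_nsmul hE hcp h2)
  refine ha0 (normal_no_fixed hE hcop hconst A hA1 fun z hz => ?_)
  have hle : A ≤ stabilizer P a := by
    rw [← hgen B B' hBA hB'A hBp hB'p hg.symm]
    exact sup_le (fun x hx => mem_stabilizer_iff.2 (hBfix x hx))
      (fun x hx => hs ▸ mem_stabilizer_iff.2 (hB'fix x hx))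
  exact mem_stabilizer_iff.1 (hle hz)

omit hE hcop in
/-- If the characteristic divides the group order the group is trivial. -/
theorem trivial_of_not_coprime {p : ℕ} [Fact p.Prime] (hP : IsPGroup p P) [Finite E]
    [Nontrivial E] (hpE : p ∣ Nat.card E) : Subsingleton P := by
  obtain ⟨a, ha, ha0⟩ := hP.exists_fixed_point_of_prime_dvd_card_of_fixed_point (α := E) hpE
    (a := 0) (fun g => smul_zero g)
  refine ⟨fun g h => eq_of_smul_eq_smul fun v : E => ?_⟩
  by_cases hv : v = 0
  · simp [hv]
  have htop : stabilizer P v = ⊤ := by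
    refine Subgroup.eq_top_of_card_eq _ ?_
    rw [hconst v a hv ha0.symm, (eq_top_iff.2 fun g _ => mem_stabilizer_iff.2 (ha g) :
      stabilizer P a = ⊤), Subgroup.card_top]
  rw [mem_stabilizer_iff.1 (htop ▸ Subgroup.mem_top g),
    mem_stabilizer_iff.1 (htop ▸ Subgroup.mem_top h)]

end CfsgLib.Chev.HalfTrans
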