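import Mathlib
import Cfsg.Agent.Lib.Chev.BNParabolic
import Cfsg.Agent.Lib.Transfer.ClassTwo

/-!
# Simplicity of the derived subgroup of index two of a group with a (B, N)-pair
-/

set_option autoImplicit false

namespace CfsgLib.Chev

open scoped commutatorElement

variable {G : Type*} [Group G] [Finite G] (P : Cfsg.BNPair G) (hirr : P.Irreducible)
  (hcore : P.B.normalCore = ⊥) (hB : IsPGroup 2 ↥P.B) (c : G)
  (hor : ∀ g : G, g ∈ commutator G ∨ c⁻¹ * g ∈ commutator G)

include hirr hcore hB hor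

/-- A non-trivial normal subgroup contains the derived subgroup. -/
theorem commutator_le_of_pGroup_borel (N : Subgroup G) [N.Normal] (hne : N ≠ ⊥) :
    commutator G ≤ N := by
  have := Fact.mk Nat.prime_two
  have hNB : ¬ N ≤ P.B := fun h =>
    hne (le_bot_iff.1 (hcore ▸ Subgroup.normal_le_normalCore.2 h))
  have htop := BN.normal_sup_eq_top P hirr N hNB
  have hsurj : Function.Surjective ((QuotientGroup.mk' N).comp P.B.subtype) := by
    intro q
    obtain ⟨g, rfl⟩ := QuotientGroup.mk'_surjective N q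
    obtain ⟨a, ha, b, hb, rfl⟩ := Subgroup.mem_sup_of_normal_left.1 (htop ▸ Subgroup.mem_top g)
    refine ⟨⟨b, hb⟩, ?_⟩
    simp [QuotientGroup.mk'_apply, (QuotientGroup.eq_one_iff a).2 ha]
  have hQ : IsPGroup 2 (G ⧸ N) := hB.of_surjective _ hsurj
  set b := QuotientGroup.mk' N c
  have hgen : Subgroup.zpowers b ⊔ commutator (G ⧸ N) = ⊤ := by
    refine eq_top_iff.2 fun q _ => ?_
    obtain ⟨g, rfl⟩ := QuotientGroup.mk'_surjective N q
    have hmap : ∀ x ∈ commutator G, QuotientGroup.mk' N x ∈ commutator (G ⧸ N) := by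
      intro x hx
      rw [commutator_def] at hx ⊢
      have := Subgroup.mem_map_of_mem (QuotientGroup.mk' N) hx
      rw [Subgroup.map_commutator] at this
      exact Subgroup.commutator_mono le_top le_top this
    rcases hor g with h | h
    · exact Subgroup.mem_sup_right (hmap g h)
    · rw [show g = c * (c⁻¹ * g) by group, map_mul]
      exact mul_mem (Subgroup.mem_sup_left (Subgroup.mem_zpowers b)) (Subgroup.mem_sup_right (hmap _ h))
  have hz : Subgroup.zpowers b = ⊤ := frattini_nongenerating (eq_top_iff.2 (hgen ▸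
    sup_le_sup_left (CfsgLib.Transfer.commutator_le_frattini_pgroup hQ) _))
  rw [commutator_def, Subgroup.commutator_le]
  intro x _ y _
  obtain ⟨i, hi⟩ : QuotientGroup.mk' N x ∈ Subgroup.zpowers b := hz ▸ Subgroup.mem_top _
  obtain ⟨j, hj⟩ : QuotientGroup.mk' N y ∈ Subgroup.zpowers b := hz ▸ Subgroup.mem_top _
  rw [← QuotientGroup.eq_one_iff, ← QuotientGroup.mk'_apply, map_commutatorElement,
    commutatorElement_eq_one_iff_mul_comm, ← hi, ← hj]
  exact (Commute.refl b).zpow_zpow i j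

variable (hidx : (commutator G).index = 2) (hc : c ∉ commutator G) (hlarge : 2 < Nat.card ↥P.B)

include hidx hc hlarge

/-- The derived subgroup is perfect. -/
theorem derived_perfect : ⁅commutator G, commutator G⁆ = commutator G := by
  set D := commutator G with hD
  refine le_antisymm (Subgroup.commutator_le_left _ _)
    (commutator_le_of_pGroup_borel P hirr hcore hB c hor _ fun hbot => ?_)
  have hcomm : ∀ x ∈ D, ∀ y ∈ D, x * y = y * x := fun x hx y hy =>
    commutatorElement_eq_one_iff_mul_comm.1 (by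
      rw [← Subgroup.mem_bot, ← hbot]; exact Subgroup.commutator_mem_commutator hx hy)
  have hle2 : ∀ H : Subgroup G, H ⊓ D = ⊥ → Nat.card ↥H ≤ 2 := by
    intro H hH
    have hinj : Function.Injective ((QuotientGroup.mk' D).comp H.subtype) := by
      rw [← MonoidHom.ker_eq_bot_iff, eq_bot_iff]
      intro x hx
      rw [MonoidHom.mem_ker, MonoidHom.comp_apply, QuotientGroup.mk'_apply, QuotientGroup.eq_one_iff] at hx
      have := hH ▸ Subgroup.mem_inf.2 ⟨x.2, hx⟩
      exact Subgroup.mem_bot.2 (Subtype.ext (Subgroup.mem_bot.1 this))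
    have hle := Nat.card_le_card_of_injective _ hinj
    rwa [← Subgroup.index_eq_card, hidx] at hle
  by_cases hDne : D = ⊥
  · have := hle2 P.B (by rw [hDne, inf_bot_eq])
    omega
  have hDB : ¬ D ≤ P.B := fun h =>
    hDne (le_bot_iff.1 (hcore ▸ Subgroup.normal_le_normalCore.2 h))
  have htop := BN.normal_sup_eq_top P hirr D hDB
  have hn : (P.B ⊓ D).Normal := ⟨fun x hx g => by
    obtain ⟨a, ha, b, hb, rfl⟩ := Subgroup.mem_sup_of_normal_left.1 (htop ▸ Subgroup.mem_top g)
    have h1 : b * x * b⁻¹ ∈ P.B ⊓ D := Subgroup.mem_inf.2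
      ⟨mul_mem (mul_mem hb hx.1) (inv_mem hb), Subgroup.Normal.conj_mem inferInstance x hx.2 b⟩
    rw [show a * b * x * (a * b)⁻¹ = a * (b * x * b⁻¹) * a⁻¹ by group, hcomm a ha _ h1.2,
      mul_inv_cancel_right]
    exact h1⟩
  have := hle2 P.B (le_bot_iff.1 (hcore ▸ Subgroup.normal_le_normalCore.2 inf_le_left))
  omega

/-- The derived subgroup is simple when its order is no square. -/
theorem derived_simple (hsq : ∀ n : ℕ, n * n ≠ Nat.card ↥(commutator G)) :
    IsSimpleGroup ↥(commutator G) ∧ ¬ IsMulCommutative ↥(commutator G) := by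
  classical
  have hperf := derived_perfect P hirr hcore hB c hor hidx hc hlarge
  have hmin := commutator_le_of_pGroup_borel P hirr hcore hB c hor
  set D := commutator G with hD
  have hDne : D ≠ ⊥ := fun h => hsq 1 (by rw [h, Subgroup.card_bot])
  have hnc : ¬ IsMulCommutative ↥D := by
    intro h
    refine hDne ?_
    rw [← hperf, eq_bot_iff, Subgroup.commutator_le]
    intro x hx y hy
    rw [Subgroup.mem_bot, commutatorElement_eq_one_iff_mul_comm]
    exact congrArg Subtype.val (h.is_comm.comm (⟨x, hx⟩ : ↥D) ⟨y, hy⟩)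
  have : Nontrivial ↥D := (Subgroup.nontrivial_iff_ne_bot _).2 hDne
  refine ⟨⟨fun M hM => ?_⟩, hnc⟩
  set A := M.map D.subtype with hA
  set A' := A.map (MulAut.conj c).toMonoidHom with hA'
  have hAD : A ≤ D := Subgroup.map_subtype_le M
  have hAn : ∀ d ∈ D, ∀ a ∈ A, d * a * d⁻¹ ∈ A := by
    rintro d hd _ ⟨a, ha, rfl⟩
    exact ⟨⟨d, hd⟩ * a * ⟨d, hd⟩⁻¹, hM.conj_mem a ha _, rfl⟩
  have hA'D : A' ≤ D := by
    rintro _ ⟨a, ha, rfl⟩
    exact Subgroup.Normal.conj_mem inferInstance a (hAD ha) c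
  have hA'n : ∀ d ∈ D, ∀ a ∈ A', d * a * d⁻¹ ∈ A' := by
    rintro d hd _ ⟨a, ha, rfl⟩
    refine ⟨(c⁻¹ * d * c) * a * (c⁻¹ * d * c)⁻¹, hAn _ ?_ a ha, ?_⟩
    · simpa using Subgroup.Normal.conj_mem inferInstance d hd c⁻¹
    · simp only [MulEquiv.coe_toMonoidHom, MulAut.conj_apply]; group
  have hc2 : c * c ∈ D := by
    rcases hor (c * c) with h | h
    · exact h
    · exact absurd (by simpa using h) hc
  have hswap : ∀ a ∈ A', c * a * c⁻¹ ∈ A := by
    rintro _ ⟨a, ha, rfl⟩
    simp only [MulEquiv.coe_toMonoidHom, MulAut.conj_apply]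
    rw [show c * (c * a * c⁻¹) * c⁻¹ = (c * c) * a * (c * c)⁻¹ by group]
    exact hAn _ hc2 a ha
  have hnorm : ∀ X : Subgroup G, (∀ d ∈ D, ∀ x ∈ X, d * x * d⁻¹ ∈ X) →
      (∀ x ∈ X, c * x * c⁻¹ ∈ X) → X.Normal := fun X h1 h2 => ⟨fun x hx g => by
    rcases hor g with h | h
    · exact h1 g h x hx
    · have := h2 _ (h1 _ h x hx)
      rwa [show c * (c⁻¹ * g * x * (c⁻¹ * g)⁻¹) * c⁻¹ = g * x * g⁻¹ by group] at this⟩
  by_cases hI : A ⊓ A' = ⊥
  · by_cases hM0 : M = ⊥
    · exact Or.inl hM0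
    exfalso
    have hJn : (A ⊔ A').Normal := by
      refine hnorm _ (fun d hd x hx => ?_) (fun x hx => ?_)
      · have : A ⊔ A' ≤ (A ⊔ A').comap (MulAut.conj d).toMonoidHom := sup_le
          (fun a ha => Subgroup.mem_sup_left (hAn d hd a ha))
          (fun a ha => Subgroup.mem_sup_right (hA'n d hd a ha))
        exact this hx
      · have : A ⊔ A' ≤ (A ⊔ A').comap (MulAut.conj c).toMonoidHom := sup_le
          (fun a ha => Subgroup.mem_sup_right ⟨a, ha, rfl⟩)
          (fun a ha => Subgroup.mem_sup_left (hswap a ha))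
        exact this hx
    have hAne : A ≠ ⊥ := fun h => hM0 ((Subgroup.map_eq_bot_iff_of_injective _ D.subtype_injective).1 h)
    have htop : A ⊔ A' = D := le_antisymm (sup_le hAD hA'D) (hmin _ fun h =>
      hAne (le_bot_iff.1 (h ▸ le_sup_left)))
    have hcardA : Nat.card ↥A' = Nat.card ↥A :=
      Nat.card_congr (A.equivMapOfInjective _ (MulAut.conj c).injective).symm.toEquiv
    let e : ↥A × ↥A' → ↥D := fun p => ⟨(p.1 : G) * p.2, mul_mem (hAD p.1.2) (hA'D p.2.2)⟩
    have hbij : Function.Bijective e := by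
      refine ⟨fun p q h => ?_, fun x => ?_⟩
      · have h1 : (p.1 : G) * p.2 = q.1 * q.2 := congrArg Subtype.val h
        have h2 : (q.1 : G)⁻¹ * p.1 = q.2 * (p.2 : G)⁻¹ := by
          rw [eq_mul_inv_iff_mul_eq, mul_assoc, h1, inv_mul_cancel_left]
        have h3 : (q.1 : G)⁻¹ * p.1 ∈ A ⊓ A' :=
          Subgroup.mem_inf.2 ⟨mul_mem (inv_mem q.1.2) p.1.2, h2 ▸ mul_mem q.2.2 (inv_mem p.2.2)⟩
        rw [hI, Subgroup.mem_bot, inv_mul_eq_one] at h3
        rw [← h3] at h1
        exact Prod.ext (Subtype.ext h3.symm) (Subtype.ext (mul_left_cancel h1))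
      · have hx : (x : G) ∈ A ⊔ A' := htop.symm ▸ x.2
        let J : Subgroup G :=
          { carrier := {y | ∃ a ∈ A, ∃ a' ∈ A', a * a' = y}
            one_mem' := ⟨1, one_mem _, 1, one_mem _, mul_one _⟩
            mul_mem' := by
              rintro _ _ ⟨a, ha, a', ha', rfl⟩ ⟨b, hb, b', hb', rfl⟩
              refine ⟨a * (a' * b * a'⁻¹), mul_mem ha (hAn a' (hA'D ha') b hb), a' * b', mul_mem ha' hb', ?_⟩
              group
            inv_mem' := by
              rintro _ ⟨a, ha, a', ha', rfl⟩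
              exact ⟨a'⁻¹ * a⁻¹ * a', by simpa using hAn a'⁻¹ (inv_mem (hA'D ha')) a⁻¹ (inv_mem ha),
                a'⁻¹, inv_mem ha', by group⟩ }
        obtain ⟨a, ha, a', ha', he⟩ := (sup_le (fun a ha => ⟨a, ha, 1, one_mem _, mul_one _⟩)
          (fun a ha => ⟨1, one_mem _, a, ha, one_mul _⟩) : A ⊔ A' ≤ J) hx
        exact ⟨(⟨a, ha⟩, ⟨a', ha'⟩), Subtype.ext he⟩
    have hcard := Nat.card_eq_of_bijective e hbij
    rw [Nat.card_prod, hcardA] at hcard
    exact hsq _ hcard
  · have hIn : (A ⊓ A').Normal := hnorm _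
      (fun d hd x hx => Subgroup.mem_inf.2 ⟨hAn d hd x hx.1, hA'n d hd x hx.2⟩)
      (fun x hx => Subgroup.mem_inf.2 ⟨hswap x hx.2, x, hx.1, rfl⟩)
    have hle : D ≤ A := (hmin _ hI).trans inf_le_left
    exact Or.inr (eq_top_iff.2 fun x _ => by
      obtain ⟨y, hy, he⟩ := hle x.2
      exact D.subtype_injective he ▸ hy)

end CfsgLib.Chev
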