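import Mathlib
import Cfsg.Agent.Lib.Chev.Unipotent
import Cfsg.Agent.Lib.KnownA.Chev.Basic

/-!
# The exponent of the Sylow subgroup in the natural characteristic

Root elements of positive roots raise the height, so `(u - 1) ^ (2 H + 1) = 0` on the unipotent
subgroup, `H` being the height of the highest root; hence the `p`-elements satisfy `x ^ (p ^ k) = 1`
as soon as `2 H < p ^ k`.
-/

set_option autoImplicit false

namespace CfsgLib.Chev

open Cfsg.Lie Matrix

variable {D : ChevalleyDatum} {F : Type*} [Field F]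

/-- The height of a root in given coordinates. -/
noncomputable def hgt (D : ChevalleyDatum) (dat : LieData) (u : ℕ) : ℤ :=
  ∑ j ∈ Finset.range D.rank, rootCo dat u j

/-- The height of a basis vector. -/
noncomputable def bhgt (D : ChevalleyDatum) (dat : LieData) : D.Idx → ℤ :=
  Sum.elim (0 : Fin D.rank → ℤ) fun u => hgt D dat u

namespace Good

variable (g : Good D) {dat : LieData} {sd : StructData} (hl : LieChecks D dat)
  (hs : StructChecks D dat sd)
include g hl hs

lemma bhgt_graded {r : ℕ} (hr : r < D.nroots) :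
    Relates (bhgt D dat) (fun k => (bhgt D dat) k + hgt D dat r) (rmat D r 1) := by
  intro a b hne
  have e : ∀ x : D.Idx, (bhgt D dat) x = ∑ j ∈ Finset.range D.rank, wCo D dat j x := by
    rintro (c | v)
    · simp [bhgt, wCo]
    · simp [bhgt, hgt, wCo]
  show (bhgt D dat) a = (bhgt D dat) b + hgt D dat r
  rw [e a, e b, hgt, ← Finset.sum_add_distrib]
  refine Finset.sum_congr rfl fun j hj => ?_
  exact StructChecks.graded_one hl hs hr (Finset.mem_range.1 hj) a b hne

lemma x_above_hgt {r : ℕ} (hr : r < D.nroots) (hh : half D ≤ r) (hp : 1 ≤ hgt D dat r) (t : F) :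
    Above (bhgt D dat) 0 (D.x F r t) := by
  intro a b
  refine ⟨fun h => (g.x_entry hr t a b).1 h (g.wt_pos hh hr).ne', fun hab hne => ?_⟩
  rw [g.x_eq_xr hr] at hne
  simp only [xr, amat, Matrix.add_apply, Matrix.smul_apply, Matrix.map_apply, smul_eq_mul] at hne
  by_contra hno
  have h0 : ∀ k ∈ [1, 2, 3], rmat D r k a b = 0 := by
    intro k hk
    by_contra h
    have h' := rmat_grade hl hr (g.bhgt_graded hl hs hr) hk a b h
    simp only [List.mem_cons, List.not_mem_nil, or_false] at hk
    simp only at h'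
    rcases hk with rfl | rfl | rfl <;> push_cast at h' <;> linarith
  simp [Matrix.one_apply_ne hab, h0 1 (by simp), h0 2 (by simp), h0 3 (by simp)] at hne

lemma posUnipotent_above_hgt (hp : ∀ r, half D ≤ r → r < D.nroots → 1 ≤ hgt D dat r) {x : GL D.Idx F}
    (hx : x ∈ D.posUnipotent F) : Above (bhgt D dat) 0 (x : Matrix D.Idx D.Idx F) := by
  rw [g.posUnipotent_eq] at hx
  induction hx using Subgroup.closure_induction'' with
  | mem y hy =>
    obtain ⟨r, t, hS, hr, hy⟩ := hy
    rw [hy]
    exact g.x_above_hgt hl hs hr hS (hp r hS hr) t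
  | inv_mem y hy =>
    obtain ⟨r, t, hS, hr, hy⟩ := hy
    rw [g.eq_xG hy, g.xG_inv, coe_xG]
    exact g.x_above_hgt hl hs hr hS (hp r hS hr) (-t)
  | one => exact above_one _ _
  | mul y z _ _ py pz => rw [Units.val_mul]; exact py.mul le_rfl pz

lemma sub_one_pow_eq_zero {H : ℕ} (hb : ∀ r < D.nroots, |hgt D dat r| ≤ H) {M : Matrix D.Idx D.Idx F}
    (hM : Above (bhgt D dat) 0 M) : (M - 1) ^ (2 * H + 1) = 0 := by
  have hk : ∀ (k : ℕ) (a b : D.Idx), ((M - 1) ^ k) a b ≠ 0 → (bhgt D dat) b + k ≤ (bhgt D dat) a := by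
    intro k
    induction k with
    | zero =>
      intro a b h
      rw [pow_zero] at h
      by_cases hab : a = b
      · subst hab; simp
      · exact absurd (Matrix.one_apply_ne hab) h
    | succ k ih =>
      intro a b h
      rw [pow_succ, Matrix.mul_apply] at h
      obtain ⟨m, -, hm⟩ := Finset.exists_ne_zero_of_sum_ne_zero h
      have h1 := ih a m (left_ne_zero_of_mul hm)
      have h2 := right_ne_zero_of_mul hm
      have hmb : m ≠ b := fun hc => h2 (by
        rw [hc, Matrix.sub_apply, Matrix.one_apply_eq, (hM b b).1 rfl, sub_self])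
      rw [Matrix.sub_apply, Matrix.one_apply_ne hmb, sub_zero] at h2
      have := (hM m b).2 hmb h2
      omega
  have hbound : ∀ c : D.Idx, -(H : ℤ) ≤ (bhgt D dat) c ∧ (bhgt D dat) c ≤ (H : ℤ) := by
    rintro (c | c)
    · simp [bhgt]
    · exact abs_le.1 (hb c.val c.isLt)
  ext a b
  by_contra h
  have := hk _ a b h
  have := hbound a
  have := hbound b
  omega

/-- The order of an element of the natural characteristic. -/
theorem pow_prime_pow_eq_one (hc : HasComm D) [Fintype F] (p : ℕ) [Fact p.Prime] [CharP F p]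
    [Nonempty D.Idx] {H k : ℕ} (hp : ∀ r, half D ≤ r → r < D.nroots → 1 ≤ hgt D dat r)
    (hb : ∀ r < D.nroots, |hgt D dat r| ≤ H) (hk : 2 * H < p ^ k) (x : ↥(D.group F)) {j : ℕ}
    (hx : orderOf x = p ^ j) : x ^ p ^ k = 1 := by
  classical
  obtain ⟨P, hP⟩ := KnownA.Chev.exists_sylow_posUnipotent g (F := F) hc p
  obtain ⟨Q, hQ⟩ := (IsPGroup.of_card (p := p) (n := j)
    (show Nat.card (Subgroup.zpowers x) = p ^ j by rw [Nat.card_zpowers, hx])).exists_le_sylow
  obtain ⟨c, hc'⟩ := MulAction.exists_smul_eq ↥(D.group F) Q P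
  have hmem : c * x * c⁻¹ ∈ (D.posUnipotent F).subgroupOf (D.group F) := by
    rw [← hP, ← hc', Sylow.coe_subgroup_smul]
    exact ⟨x, hQ (Subgroup.mem_zpowers x), rfl⟩
  have hA := g.posUnipotent_above_hgt hl hs hp (x := ((c * x * c⁻¹ : ↥(D.group F)) : GL D.Idx F)) hmem
  have h0 := pow_eq_zero_of_le (show 2 * H + 1 ≤ p ^ k by omega) (g.sub_one_pow_eq_zero hl hs hb hA)
  rw [sub_pow_char_pow_of_commute (p := p) _ (Commute.one_right _), one_pow, sub_eq_zero] at h0
  have h1 : (c * x * c⁻¹) ^ p ^ k = 1 := Subtype.ext (Units.ext (by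
    rw [SubgroupClass.coe_pow, Units.val_pow_eq_pow_val, h0]; rfl))
  rw [conj_pow] at h1
  have := congrArg (fun z => c⁻¹ * z * c) h1
  simpa [mul_assoc] using this

end Good

end CfsgLib.Chev
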