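import Mathlib
import Cfsg.Agent.Lib.Chev.UnipotentExp
import Cfsg.Agent.Lib.Chev.TwistF4

/-!
# The exponent of the 2-elements of `²F₄(q)`
-/

set_option autoImplicit false

namespace CfsgLib.Chev.LargeRee

open Cfsg.Lie

theorem hgt_facts : ∀ r : Fin 48, |hgt chevF4 dataF4 r.val| ≤ 11 ∧ (24 ≤ r.val → 1 ≤ hgt chevF4 dataF4 r.val) := by
  have key : ∀ r : Fin 48,
      (decide (|((List.range 4).map fun j => rootCo dataF4 r.val j).sum| ≤ 11) &&
        (Nat.blt r.val 24 || decide (1 ≤ ((List.range 4).map fun j => rootCo dataF4 r.val j).sum))) = true := by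
    decide +kernel
  intro r
  have e : hgt chevF4 dataF4 r.val = ((List.range 4).map fun j => rootCo dataF4 r.val j).sum := by
    show ∑ j ∈ Finset.range chevF4.rank, rootCo dataF4 r.val j = _
    rw [show chevF4.rank = 4 by decide +kernel]
    simp [Finset.sum_range_succ, List.range_succ, add_assoc]
  have h := key r
  simp only [Bool.and_eq_true, Bool.or_eq_true, decide_eq_true_eq, Nat.blt_eq] at h
  rw [e]
  exact ⟨h.1, fun h24 => h.2.resolve_left (by omega)⟩

theorem twistedF4_le_group (K : Type*) [Field K] (e : ℕ) : twistedF4 K e ≤ chevF4.group K := by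
  rw [twistedF4_eq, Subgroup.closure_le]
  rintro x ⟨w, -, rfl⟩
  refine Subgroup.list_prod_mem _ fun y hy => ?_
  obtain ⟨⟨r, t⟩, -, rfl⟩ := List.mem_map.1 hy
  by_cases hr : r < chevF4.nroots
  · exact goodF4.xG_mem_group hr t
  · rw [show goodF4.xG r t = 1 from Units.ext (by simp [Good.coe_xG, ChevalleyDatum.x, hr])]
    exact one_mem _

/-- The 2-elements of `²F₄(q)` have order at most 32. -/
theorem orderOf_le {K : Type*} [Field K] [Fintype K] (m : ℕ) (hK : Fintype.card K = 2 ^ (2 * m + 1))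
    (x : ↥(twistedF4 K (2 ^ m))) (hx : ∃ j : ℕ, orderOf x = 2 ^ j) : orderOf x ≤ 32 := by
  obtain ⟨j, hj⟩ := hx
  have := Fact.mk Nat.prime_two
  have : CharP K 2 := charP_of_card_eq_prime_pow hK
  have hle := twistedF4_le_group K (2 ^ m)
  have hn : chevF4.nroots = 48 := by decide +kernel
  have : Nonempty chevF4.Idx := ⟨Sum.inr ⟨0, by omega⟩⟩
  have h : (Subgroup.inclusion hle x) ^ 2 ^ 5 = 1 := by
    refine goodF4.pow_prime_pow_eq_one checksF4 structChecksF4 hasCommF4 2 (H := 11) (fun r h1 h2 => ?_) (fun r h2 => ?_)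
      (by norm_num) _ (j := j) ?_
    · exact (hgt_facts ⟨r, hn ▸ h2⟩).2 (by
        have e : half chevF4 = 24 := by rw [half, hn]
        show 24 ≤ r
        omega)
    · exact (hgt_facts ⟨r, hn ▸ h2⟩).1
    · rw [← hj]; exact orderOf_injective _ (Subgroup.inclusion_injective hle) x
  have h32 : x ^ 2 ^ 5 = 1 := Subgroup.inclusion_injective hle (by rw [map_pow, h, map_one])
  exact (orderOf_le_of_pow_eq_one (by norm_num) h32).trans (by norm_num)

end CfsgLib.Chev.LargeRee
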