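import Mathlib
import Cfsg.Agent.Lib.Chev.LargeReeCoords

/-!
Every involution of ²F₄(q) is conjugate to one of two fixed involutions.
-/

set_option autoImplicit false
set_option maxHeartbeats 1600000
set_option maxRecDepth 100000
set_option linter.unusedSectionVars false
set_option linter.unusedSimpArgs false

namespace CfsgLib.Chev

open Cfsg.Lie LargeReeUni

lemma conj_seven {G : Type*} [Group G] (n a b c d e f g : G) :
    n * (a * (b * (c * (d * (e * (f * g)))))) * n⁻¹ =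
      n * a * n⁻¹ * (n * b * n⁻¹ * (n * c * n⁻¹ * (n * d * n⁻¹ * (n * e * n⁻¹ *
        (n * f * n⁻¹ * (n * g * n⁻¹)))))) := by group

namespace SetupF4

variable {K : Type*} [Field K] [Fintype K] [CharP K 2] {m : ℕ} (S : SetupF4 K m)
include S

/-- Conjugates in the twisted group. -/
def Rel (_S : SetupF4 K m) (x y : GL chevF4.Idx K) : Prop :=
  ∃ g ∈ twistedF4 K (2 ^ m), g * x * g⁻¹ = y

lemma Rel.trans {x y z : GL chevF4.Idx K} (h : S.Rel x y) (h' : S.Rel y z) : S.Rel x z := by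
  obtain ⟨g, hg, rfl⟩ := h
  obtain ⟨g', hg', rfl⟩ := h'
  exact ⟨g' * g, mul_mem hg' hg, by group⟩

lemma Rel.symm {x y : GL chevF4.Idx K} (h : S.Rel x y) : S.Rel y x := by
  obtain ⟨g, hg, rfl⟩ := h
  exact ⟨g⁻¹, inv_mem hg, by group⟩

lemma Rel.sq {x y : GL chevF4.Idx K} (h : S.Rel x y) (hx : x * x = 1) : y * y = 1 := by
  obtain ⟨g, -, rfl⟩ := h
  rw [show g * x * g⁻¹ * (g * x * g⁻¹) = g * (x * x) * g⁻¹ by group, hx]; group

/-- The coordinates of an element of the first simple root group. -/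
def vP (_S : SetupF4 K m) (t : K) : V K := ⟨t, 0, 0, 0, 0, 0, 0, 0, 0, 0⟩

lemma p_zero : p0 S.th 0 = 1 ∧ p2 S.th 0 = 1 ∧ p4 S.th 0 = 1 ∧ p6 S.th 0 = 1 := by
  simp [p0, p2, p4, p6, goodF4.xG_zero]

lemma c_zero : c1 S.th 0 0 = 1 ∧ c3 S.th 0 0 = 1 ∧ c5 S.th 0 0 = 1 ∧ c7 S.th 0 0 = 1 := by
  simp [c1, c3, c5, c7, goodF4.xG_zero]

lemma W_zero : W S.th (V.zero : V K) = 1 := by
  obtain ⟨a, b, c, d⟩ := S.p_zero
  obtain ⟨e, f, g, -⟩ := S.c_zero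
  simp [W, V.zero, a, b, c, d, e, f, g]

lemma W_mul (v w : V K) : W S.th v * W S.th w = W S.th (V.mul S.th v w) := by
  simpa using W_mul_X S.th S.th_sq v w 1

lemma c7_W (b B : K) (v : V K) :
    c7 S.th b B * W S.th v = W S.th (V.conj S.th b B v) * c7 S.th b B := by
  simpa using c7_mul_W_X S.th S.th_sq b B v 1

lemma c7_mul (a A b B : K) :
    c7 S.th a A * c7 S.th b B = c7 S.th (a + b) (A + B + S.th a * b) := by
  simpa using m7 S.th S.th_sq a A b B 1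

lemma W_inj {v w : V K} (h : W S.th v = W S.th w) : v = w := by
  refine (S.elt_inj (b := 0) (B := 0) (b' := 0) (B' := 0) ?_).1
  rw [elt, elt, S.c_zero.2.2.2, mul_one, mul_one, h]

lemma W_memG (v : V K) : W S.th v ∈ twistedF4 K (2 ^ m) := (S.W_mem v).2

lemma sq_eq {v : V K} (h : W S.th v * W S.th v = 1) : V.mul S.th v v = V.zero := by
  rw [S.W_mul, ← S.W_zero] at h
  exact S.W_inj h

lemma rel_conj (b B : K) (v : V K) : S.Rel (W S.th v) (W S.th (V.conj S.th b B v)) :=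
  ⟨c7 S.th b B, (S.rootgroups_mem.2.2.2.2.2.2.2 b B).2, by rw [S.c7_W, mul_inv_cancel_right]⟩

lemma rel_of_mul {g v w : V K} (h : V.mul S.th g v = V.mul S.th w g) :
    S.Rel (W S.th v) (W S.th w) :=
  ⟨W S.th g, S.W_memG g, by rw [S.W_mul, h, ← S.W_mul, mul_inv_cancel_right]⟩

lemma rel_flip (v : V K) : S.Rel (W S.th v) (W S.th (V.flip S.th v)) := by
  refine ⟨nF4 1, S.n_mem' 1, ?_⟩
  obtain ⟨-, b0, b6, b1, b5, b2, b4, b3⟩ := S.refl_conj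
  conv_lhs => rw [W, conj_seven, b0, b1, b2, b3, b4, b5, b6]
  simpa using rev_W_X S.th S.th_sq v 1

/-- The conjugacy to one of the two kinds of root involutions. -/
def Done (_S : SetupF4 K m) (x : GL chevF4.Idx K) : Prop :=
  (∃ u : K, u ≠ 0 ∧ _S.Rel x (c3 _S.th 0 u)) ∨ (∃ t : K, t ≠ 0 ∧ _S.Rel x (p0 _S.th t))

lemma Done.of_rel {x y : GL chevF4.Idx K} (h : S.Rel x y) (hd : S.Done y) : S.Done x := by
  rcases hd with ⟨u, hu, hr⟩ | ⟨t, ht, hr⟩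
  · exact Or.inl ⟨u, hu, h.trans S hr⟩
  · exact Or.inr ⟨t, ht, h.trans S hr⟩

lemma W_vP (t : K) : W S.th (S.vP t) = p0 S.th t := by
  obtain ⟨-, b, c, d⟩ := S.p_zero
  obtain ⟨e, f, g, -⟩ := S.c_zero
  simp [W, vP, b, c, d, e, f, g]

lemma add_div_mul {x y : K} (hy : y ≠ 0) : x / y * y + x = 0 := by
  rw [div_mul_cancel₀ _ hy, CharTwo.add_self_eq_zero]

/-- The first coordinate does not vanish. -/
theorem done_first {v : V K} (h0 : v.t0 ≠ 0) (hv : W S.th v * W S.th v = 1) :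
    S.Done (W S.th v) := by
  obtain ⟨v1, hr1, h10, h11⟩ : ∃ w : V K, S.Rel (W S.th v) (W S.th w) ∧ w.t0 = v.t0 ∧ w.t1 = 0 :=
    ⟨_, S.rel_conj (v.t1 / v.t0) 0 v, rfl, S.add_div_mul h0⟩
  obtain ⟨v2, hr2, h20, h21, h25⟩ : ∃ w : V K, S.Rel (W S.th v1) (W S.th w) ∧ w.t0 = v.t0 ∧
      w.t1 = 0 ∧ w.t5 = 0 := by
    refine ⟨_, S.rel_conj 0 (S.th (v1.t5 / v.t0)) v1, h10, ?_, ?_⟩
    · simp [V.conj, h11]
    · simp [V.conj, h10, h11, S.th_sq, S.add_div_mul h0, -map_div₀]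
  have hr := hr1.trans S hr2
  have hz := S.sq_eq (hr.sq S hv)
  obtain ⟨T, a1, u1, t2, t3, u3, t4, a5, u5, t6⟩ := v2
  dsimp only at h20 h21 h25
  subst h20 h21 h25
  simp only [V.mul, V.zero, V.mk.injEq, map_zero, zero_mul, mul_zero, zero_add, add_zero,
    CharTwo.add_self_eq_zero, zero_pow two_ne_zero] at hz
  obtain ⟨-, -, e1, e2, -, e3, -⟩ := hz
  have hT : S.th v.t0 ≠ 0 := fun e => h0 (S.th_eq_zero e)
  obtain rfl : t3 = 0 := by
    refine S.th_eq_zero ((mul_eq_zero.1 ?_).resolve_right hT)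
    linear_combination e1 - u1 * (CharTwo.two_eq_zero : (2 : K) = 0)
  obtain rfl : t6 = 0 := by
    refine (mul_eq_zero.1 ?_).resolve_right (pow_ne_zero 2 hT)
    linear_combination e2 - t2 * (CharTwo.two_eq_zero : (2 : K) = 0)
  obtain rfl : u5 = 0 := by
    simp only [map_zero, zero_mul, mul_zero, zero_add, add_zero] at e3
    refine (mul_eq_zero.1 ?_).resolve_right hT
    linear_combination e3 - u3 * (CharTwo.two_eq_zero : (2 : K) = 0)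
  refine Done.of_rel S hr (Or.inr ⟨v.t0, h0, ?_⟩)
  rw [← S.W_vP]
  set d := S.th (t4 / v.t0) with hd
  set c := S.th ((t2 + d * S.th v.t0 ^ 2) / v.t0) with hc
  set y := (u1 + S.th c * v.t0) / S.th v.t0 with hy
  set C := (u3 + S.th c * S.th d * v.t0) / S.th v.t0 with hC
  refine (S.rel_of_mul (g := ⟨0, 0, 0, 0, S.th y ^ 2, 0, 0, c, C, d⟩) ?_).symm S
  simp only [V.mul, vP, map_zero, zero_mul, mul_zero, zero_add, add_zero, V.mk.injEq, S.th_mul_sq,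
    zero_pow two_ne_zero, true_and, and_true]
  have ed : S.th d ^ 2 * v.t0 = t4 := by rw [hd, S.th_sq, div_mul_cancel₀ _ h0]
  have ec : S.th c ^ 2 * v.t0 = t2 + d * S.th v.t0 ^ 2 := by rw [hc, S.th_sq, div_mul_cancel₀ _ h0]
  have ey : y * S.th v.t0 = u1 + S.th c * v.t0 := by rw [hy, div_mul_cancel₀ _ hT]
  have eC : C * S.th v.t0 = u3 + S.th c * S.th d * v.t0 := by rw [hC, div_mul_cancel₀ _ hT]
  have two : (2 : K) = 0 := CharTwo.two_eq_zero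
  refine ⟨?_, ?_, ?_, ?_⟩
  · linear_combination ey + S.th c * v.t0 * two
  · linear_combination ec + d * S.th v.t0 ^ 2 * two
  · linear_combination eC + S.th c * S.th d * v.t0 * two
  · linear_combination ed

/-- The abelian part. -/
def IsAb (_S : SetupF4 K m) (v : V K) : Prop :=
  v.t0 = 0 ∧ v.t1 = 0 ∧ v.t3 = 0 ∧ v.t5 = 0 ∧ v.t6 = 0

lemma conj_ab {v : V K} (h : S.IsAb v) (b B : K) :
    S.IsAb (V.conj S.th b B v) ∧ (V.conj S.th b B v).u1 = v.u1 ∧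
      (V.conj S.th b B v).t2 = b * S.th v.u1 ^ 2 + v.t2 := by
  obtain ⟨h0, h1, h3, h5, h6⟩ := h
  simp [IsAb, V.conj, h0, h1, h3, h5, h6]

lemma flip_ab {v : V K} (h : S.IsAb v) :
    V.flip S.th v = ⟨0, 0, v.u5, v.t4, 0, v.u3, v.t2, 0, v.u1, 0⟩ := by
  obtain ⟨h0, h1, h3, h5, h6⟩ := h
  simp [V.flip, h0, h1, h3, h5, h6]

theorem done_t2 {v : V K} (h : S.IsAb v) (hu : v.u1 = 0) (h2 : v.t2 ≠ 0) :
    S.Done (W S.th v) := by
  have hT : S.th v.t2 ≠ 0 := fun e => h2 (S.th_eq_zero e)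
  obtain ⟨v1, hr1, ha1, hu1, h12, h14⟩ : ∃ w : V K, S.Rel (W S.th v) (W S.th w) ∧ S.IsAb w ∧
      w.u1 = 0 ∧ w.t2 = v.t2 ∧ w.t4 = 0 := by
    obtain ⟨ha, e1, e2⟩ := S.conj_ab h (S.th (v.t4 / v.t2)) 0
    refine ⟨_, S.rel_conj _ 0 v, ha, e1.trans hu, by simpa [hu] using e2, ?_⟩
    obtain ⟨h0, h1, h3, -, -⟩ := h
    simp [V.conj, hu, h0, h1, h3, S.th_sq, S.add_div_mul h2, -map_div₀]
  obtain ⟨v2, hr2, ha2, hu2, h22, h24, h25⟩ : ∃ w : V K, S.Rel (W S.th v1) (W S.th w) ∧ S.IsAb w ∧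
      w.u1 = 0 ∧ w.t2 = v.t2 ∧ w.t4 = 0 ∧ w.u5 = 0 := by
    obtain ⟨ha, e1, e2⟩ := S.conj_ab ha1 0 (v1.u5 / S.th v.t2)
    refine ⟨_, S.rel_conj 0 _ v1, ha, e1.trans hu1, by simpa [h12] using e2, ?_, ?_⟩
    · obtain ⟨h0, h1, h3, -, -⟩ := ha1
      simp [V.conj, hu1, h0, h1, h3, h14]
    · obtain ⟨h0, h1, h3, h5, -⟩ := ha1
      simp [V.conj, hu1, h0, h1, h3, h5, h12, h14, S.add_div_mul hT]
  obtain ⟨a0, a1, a3, a5, a6⟩ := ha2
  refine Done.of_rel S (hr1.trans S hr2) ?_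
  refine Done.of_rel S (y := p2 S.th v.t2) ?_ (Or.inr ⟨v.t2, h2, ?_⟩)
  · have hp : W S.th (⟨0, 0, 0, v.t2, 0, 0, 0, 0, 0, 0⟩ : V K) = p2 S.th v.t2 := by
      obtain ⟨a, -, c, d⟩ := S.p_zero
      obtain ⟨e, f, g, -⟩ := S.c_zero
      simp [W, a, c, d, e, f, g]
    rw [← hp]
    refine (S.rel_of_mul
      (g := ⟨0, 0, 0, 0, 0, 0, 0, S.th (v2.u3 / S.th v.t2) ^ 2, 0, 0⟩) ?_).symm S
    simp [V.mul, V.ext_iff, hu2, h22, h24, h25, a0, a1, a3, a5, a6, S.th_mul_sq,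
      div_mul_cancel₀ _ hT, -map_div₀, -map_pow]
  · obtain ⟨⟨-, -, -, na2, -, -, -⟩, -, nb6, -⟩ := S.refl_conj
    exact Rel.trans S ⟨nF4 0, S.n_mem' 0, na2 _⟩ ⟨nF4 1, S.n_mem' 1, nb6 _⟩

theorem done_no_u1 {v : V K} (h : S.IsAb v) (hu : v.u1 = 0) (hne : v ≠ V.zero) :
    S.Done (W S.th v) := by
  by_cases h2 : v.t2 = 0
  swap
  · exact S.done_t2 h hu h2
  obtain ⟨h0, h1, h3, h5, h6⟩ := h
  by_cases h4 : v.t4 = 0
  swap
  · have hT : S.th v.t4 ≠ 0 := fun e => h4 (S.th_eq_zero e)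
    obtain ⟨ha, e1, e2⟩ := S.conj_ab (v := v) ⟨h0, h1, h3, h5, h6⟩ (S.th (v.u5 / S.th v.t4) ^ 2) 0
    refine Done.of_rel S ((S.rel_conj (S.th (v.u5 / S.th v.t4) ^ 2) 0 v).trans S (S.rel_flip _)) ?_
    rw [S.flip_ab ha]
    refine S.done_t2 ⟨rfl, rfl, rfl, rfl, rfl⟩ ?_ ?_
    · simp [V.conj, hu, h0, h1, h2, h3, h5, S.th_mul_sq, S.add_div_mul hT, -map_div₀, -map_pow]
    · simpa [V.conj, hu, h0, h1, h2, h3] using h4
  obtain ⟨a, b, c, d⟩ := S.p_zero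
  obtain ⟨e, f, g, -⟩ := S.c_zero
  by_cases h5u : v.u5 = 0
  · refine Or.inl ⟨v.u3, fun h3u => hne ?_, ⟨1, one_mem _, ?_⟩⟩
    · ext <;> simp [V.zero, hu, h0, h1, h2, h3, h4, h5, h5u, h6, h3u]
    · simp [W, hu, h0, h1, h2, h3, h4, h5, h5u, h6, a, b, c, d, e, g]
  refine Done.of_rel S (S.rel_flip v) ?_
  rw [S.flip_ab ⟨h0, h1, h3, h5, h6⟩]
  refine Done.of_rel S (y := c1 S.th 0 v.u5) ?_ (Or.inl ⟨v.u5, h5u, ?_⟩)
  · have hp : W S.th (⟨0, 0, v.u5, 0, 0, 0, 0, 0, 0, 0⟩ : V K) = c1 S.th 0 v.u5 := by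
      simp [W, a, b, c, d, f, g]
    rw [← hp]
    refine (S.rel_of_mul
      (g := ⟨0, 0, 0, 0, 0, 0, 0, 0, 0, S.th (v.u3 / v.u5) ^ 2⟩) ?_).symm S
    simp [V.mul, hu, h2, h4, S.th_mul_sq, div_mul_cancel₀ _ h5u, -map_div₀, -map_pow]
  · obtain ⟨⟨-, -, -, -, na5, -, -⟩, -, -, nb1, -⟩ := S.refl_conj
    exact Rel.trans S ⟨nF4 1, S.n_mem' 1, nb1 _ _⟩ ⟨nF4 0, S.n_mem' 0, na5 _ _⟩

theorem done_ab {v : V K} (h : S.IsAb v) (hne : v ≠ V.zero) : S.Done (W S.th v) := by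
  by_cases hu : v.u1 = 0
  · exact S.done_no_u1 h hu hne
  have hT : S.th v.u1 ^ 2 ≠ 0 := pow_ne_zero 2 fun e => hu (S.th_eq_zero e)
  obtain ⟨v1, hr1, ha1, h11, h12⟩ : ∃ w : V K, S.Rel (W S.th v) (W S.th w) ∧ S.IsAb w ∧
      w.u1 = v.u1 ∧ w.t2 = 0 := by
    obtain ⟨ha, e1, e2⟩ := S.conj_ab h (v.t2 / S.th v.u1 ^ 2) 0
    exact ⟨_, S.rel_conj _ 0 v, ha, e1, e2.trans (S.add_div_mul hT)⟩
  obtain ⟨v2, hr2, ha2, h21, h25⟩ : ∃ w : V K, S.Rel (W S.th v1) (W S.th w) ∧ S.IsAb w ∧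
      w.u1 = v.u1 ∧ w.u5 = 0 := by
    obtain ⟨ha, e1, -⟩ := S.conj_ab ha1 0 (S.th (v1.u5 / v.u1))
    refine ⟨_, S.rel_conj 0 _ v1, ha, e1.trans h11, ?_⟩
    obtain ⟨h0, h1, h3, h5, -⟩ := ha1
    simp [V.conj, h11, h0, h1, h3, h5, h12, S.th_sq, S.add_div_mul hu, -map_div₀]
  refine Done.of_rel S ((hr1.trans S hr2).trans S (S.rel_flip v2)) ?_
  rw [S.flip_ab ha2]
  exact S.done_no_u1 ⟨rfl, rfl, rfl, rfl, rfl⟩ h25 fun e => hu (h21 ▸ congrArg V.u5 e)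

theorem done_radical {v : V K} (hne : v ≠ V.zero) (hv : W S.th v * W S.th v = 1) :
    S.Done (W S.th v) := by
  by_cases h0 : v.t0 = 0
  swap
  · exact S.done_first h0 hv
  by_cases h6 : v.t6 = 0
  swap
  · exact Done.of_rel S (S.rel_flip v) (S.done_first h6 ((S.rel_flip v).sq S hv))
  have hz := S.sq_eq hv
  simp only [V.mul, V.zero, V.ext_iff, h0, h6, map_zero, zero_mul, mul_zero, zero_add, add_zero,
    CharTwo.add_self_eq_zero, zero_pow two_ne_zero] at hz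
  obtain ⟨-, -, e1, -, -, e3, -, -, e5, -⟩ := hz
  have h1 : v.t1 = 0 := by
    rcases mul_eq_zero.1 (show S.th v.t1 * v.t1 = 0 by
      linear_combination e1 - v.u1 * (CharTwo.two_eq_zero : (2 : K) = 0)) with h | h
    exacts [S.th_eq_zero h, h]
  have h5 : v.t5 = 0 := by
    rcases mul_eq_zero.1 (show S.th v.t5 * v.t5 = 0 by
      linear_combination e5 - v.u5 * (CharTwo.two_eq_zero : (2 : K) = 0)) with h | h
    exacts [S.th_eq_zero h, h]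
  have h3 : v.t3 = 0 := by
    simp only [h1, h5, map_zero, zero_mul, mul_zero, zero_add, add_zero] at e3
    rcases mul_eq_zero.1 (show S.th v.t3 * v.t3 = 0 by
      linear_combination e3 - v.u3 * (CharTwo.two_eq_zero : (2 : K) = 0)) with h | h
    exacts [S.th_eq_zero h, h]
  exact S.done_ab ⟨h0, h1, h3, h5, h6⟩ hne

lemma elt_sq (v : V K) (b B : K) : S.elt v b B * S.elt v b B =
    S.elt (V.mul S.th v (V.conj S.th b B v)) 0 (S.th b * b) := by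
  unfold elt
  rw [show W S.th v * c7 S.th b B * (W S.th v * c7 S.th b B) =
    W S.th v * (c7 S.th b B * W S.th v) * c7 S.th b B by group, S.c7_W,
    show W S.th v * (W S.th (V.conj S.th b B v) * c7 S.th b B) * c7 S.th b B =
    W S.th v * W S.th (V.conj S.th b B v) * (c7 S.th b B * c7 S.th b B) by group, S.W_mul, S.c7_mul,
    CharTwo.add_self_eq_zero, CharTwo.add_self_eq_zero, zero_add]

lemma elt_zero : S.elt (V.zero : V K) 0 0 = 1 := by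
  rw [elt, S.W_zero, S.c_zero.2.2.2, mul_one]

lemma sq_coords {v : V K} {b B : K} (h : S.elt v b B * S.elt v b B = 1) :
    V.mul S.th v (V.conj S.th b B v) = V.zero ∧ b = 0 := by
  rw [S.elt_sq, ← S.elt_zero] at h
  obtain ⟨h1, -, h3⟩ := S.elt_inj h
  refine ⟨h1, ?_⟩
  rcases mul_eq_zero.1 h3 with h | h
  exacts [S.th_eq_zero h, h]

/-- The case of an element outside the radical. -/
theorem done_outside {v : V K} {B : K} (hB : B ≠ 0)
    (hv : S.elt v 0 B * S.elt v 0 B = 1) : S.Done (S.elt v 0 B) := by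
  have hT : S.th B ^ 2 ≠ 0 := pow_ne_zero 2 fun e => hB (S.th_eq_zero e)
  have two : (2 : K) = 0 := CharTwo.two_eq_zero
  obtain ⟨hz, -⟩ := S.sq_coords hv
  have h0 : v.t0 = 0 := by
    have e := congrArg V.t3 hz
    simp [V.mul, V.conj, V.zero] at e
    refine S.th_eq_zero (pow_eq_zero_iff two_ne_zero |>.1 ((mul_eq_zero.1 (?_ : S.th B ^ 2 * S.th v.t0 ^ 2 = 0)).resolve_left hT))
    linear_combination e - v.t3 * two
  have h1 : v.t1 = 0 := by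
    have e := congrArg V.t6 hz
    simp [V.mul, V.conj, V.zero, h0] at e
    refine (mul_eq_zero.1 (?_ : S.th B ^ 2 * v.t1 = 0)).resolve_left hT
    linear_combination e - v.t6 * two
  set z := v.t5 / S.th B ^ 2 with hzd
  set p : V K := S.vP z with hp
  set v' : V K := V.mul S.th (V.mul S.th p v) (V.conj S.th 0 B p) with hv'
  have hrel : S.Rel (S.elt v 0 B) (S.elt v' 0 B) := by
    refine ⟨W S.th p, S.W_memG p, ?_⟩
    have hpp : W S.th p * W S.th p = 1 := by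
      rw [S.W_mul, ← S.W_zero]
      congr 1
      simp [V.mul, V.zero, hp, vP, CharTwo.add_self_eq_zero]
    rw [inv_eq_of_mul_eq_one_right hpp, elt, elt, mul_assoc, mul_assoc, S.c7_W, ← mul_assoc,
      ← mul_assoc, S.W_mul, S.W_mul]
  have k0 : v'.t0 = 0 := by simp [hv', V.mul, V.conj, hp, vP, h0, CharTwo.add_self_eq_zero]
  have k1 : v'.t1 = 0 := by simp [hv', V.mul, V.conj, hp, vP, h1]
  have k5 : v'.t5 = 0 := by
    simp [hv', V.mul, V.conj, hp, vP, hzd, mul_div_cancel₀ _ hT, CharTwo.add_self_eq_zero]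
  obtain ⟨hz', -⟩ := S.sq_coords (hrel.sq S hv)
  clear_value v'
  have e4 := congrArg V.t4 hz'
  simp [V.mul, V.conj, V.zero, k0, k1, k5] at e4
  have hu1 : v'.u1 = 0 := by
    refine S.th_eq_zero (pow_eq_zero_iff two_ne_zero |>.1 ((mul_eq_zero.1 (?_ : S.th B ^ 2 * S.th v'.u1 ^ 2 = 0)).resolve_left hT))
    linear_combination e4 - v'.t4 * two
  have e3 := congrArg V.u3 hz'
  simp [V.mul, V.conj, V.zero, k0, k1, k5, hu1] at e3
  have h3 : v'.t3 = 0 := by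
    rcases mul_eq_zero.1 (show S.th v'.t3 * v'.t3 = 0 by
      linear_combination e3 - v'.u3 * two) with h | h
    exacts [S.th_eq_zero h, h]
  have e5 := congrArg V.u5 hz'
  simp [V.mul, V.conj, V.zero, k0, k1, k5, hu1, h3] at e5
  have h2 : v'.t2 = 0 := by
    refine S.th_eq_zero ((mul_eq_zero.1 (?_ : B * S.th v'.t2 = 0)).resolve_left hB)
    linear_combination e5 - v'.u5 * two
  set w : V K := ⟨0, 0, v'.u3, v'.t4, 0, v'.u5, v'.t6, 0, B, 0⟩ with hw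
  refine Done.of_rel S (hrel.trans S (y := S.elt v' 0 B) (z := W S.th (V.flip S.th w))
    ⟨nF4 0, S.n_mem' 0, ?_⟩) ?_
  · obtain ⟨⟨n7, -, n6, -, n5, n3, n4⟩, -⟩ := S.refl_conj
    obtain ⟨a, b, c, d⟩ := S.p_zero
    obtain ⟨e, f, g, -⟩ := S.c_zero
    have hE : S.elt v' 0 B =
        c3 S.th 0 v'.u3 * (p4 S.th v'.t4 * (c5 S.th 0 v'.u5 * (p6 S.th v'.t6 * c7 S.th 0 B))) := by
      simp [elt, W, k0, k1, k5, hu1, h2, h3, a, b, e, mul_assoc]
    have h5 : ∀ n x y z s r : GL chevF4.Idx K, n * (x * (y * (z * (s * r)))) * n⁻¹ =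
        n * x * n⁻¹ * (n * y * n⁻¹ * (n * z * n⁻¹ * (n * s * n⁻¹ * (n * r * n⁻¹)))) := by
      intros; group
    rw [hE, h5, n3, n4, n5, n6, n7]
    simpa [hw, a, d] using rev_W_X S.th S.th_sq w 1
  have hf : V.flip S.th w = ⟨0, 0, B, v'.t6, 0, v'.u5, v'.t4, 0, v'.u3, 0⟩ := by
    simp [hw, V.flip]
  rw [hf]
  exact S.done_ab ⟨rfl, rfl, rfl, rfl, rfl⟩ fun h => hB (congrArg V.u1 h)

/-- Every involution of the Sylow 2-subgroup. -/
theorem done_UG {x : GL chevF4.Idx K} (hx : x ∈ S.UG) (h2 : x * x = 1) (h1 : x ≠ 1) : S.Done x := by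
  obtain ⟨v, b, B, rfl⟩ := S.exists_elt hx
  obtain ⟨-, rfl⟩ := S.sq_coords h2
  by_cases hB : B = 0
  · subst hB
    have e : S.elt v 0 0 = W S.th v := by rw [elt, S.c_zero.2.2.2, mul_one]
    rw [e] at h2 h1 ⊢
    exact S.done_radical (fun h => h1 (h ▸ S.W_zero)) h2
  · exact S.done_outside hB h2

lemma rel_p0_one {t : K} (ht : t ≠ 0) : S.Rel (p0 S.th t) (p0 S.th 1) := by
  refine ⟨(S.tG 1 (Units.mk0 t ht) : GL chevF4.Idx K), (S.tG _ _).2, ?_⟩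
  have h := congrArg Subtype.val (S.tG_conj_xa 1 (Units.mk0 t ht) t)
  simp only [Subgroup.coe_mul, Subgroup.coe_inv] at h
  rw [S.p0_eq, S.p0_eq, h]
  simp [chA, ht]

lemma rel_c3_one {u : K} (hu : u ≠ 0) : S.Rel (c3 S.th 0 u) (c3 S.th 0 1) := by
  obtain ⟨⟨n7, -, -, -, n5, -, -⟩, -, -, nb1, -⟩ := S.refl_conj
  have hc : ∀ z : K, S.Rel (c7 S.th 0 z) (c3 S.th 0 z) := fun z =>
    (Rel.trans S (Rel.trans S ⟨nF4 0, S.n_mem' 0, n7 _ _⟩ ⟨nF4 1, S.n_mem' 1, nb1 _ _⟩)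
      ⟨nF4 0, S.n_mem' 0, n5 _ _⟩)
  refine ((hc u).symm S).trans S (Rel.trans S ?_ (hc 1))
  refine ⟨(S.tG 1 (Units.mk0 u hu)⁻¹ : GL chevF4.Idx K), (S.tG _ _).2, ?_⟩
  have h := congrArg Subtype.val (S.tG_conj_xb 1 (Units.mk0 u hu)⁻¹ 0 u)
  simp only [Subgroup.coe_mul, Subgroup.coe_inv] at h
  rw [S.c7_eq, S.c7_eq, h, S.chB_pow]
  simp [hu]

/-- Every involution of ²F₄(q) is conjugate to one of the two representatives. -/
theorem involution_rel (x : ↥(twistedF4 K (2 ^ m))) (hx : orderOf x = 2) :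
    S.Rel (x : GL chevF4.Idx K) (c3 S.th 0 1) ∨ S.Rel (x : GL chevF4.Idx K) (p0 S.th 1) := by
  have := Fact.mk Nat.prime_two
  obtain ⟨P0, hP0⟩ := S.exists_sylow_two
  have hz : IsPGroup 2 ↥(Subgroup.zpowers x) :=
    IsPGroup.of_card (n := 1) (by rw [Nat.card_zpowers, hx, pow_one])
  obtain ⟨P, hP⟩ := hz.exists_le_sylow
  obtain ⟨g, hgP⟩ := MulAction.exists_smul_eq ↥(twistedF4 K (2 ^ m)) P P0
  have hmem : g * x * g⁻¹ ∈ S.oU := by
    have h1 : MulAut.conj g x ∈ (g • P : Sylow 2 ↥(twistedF4 K (2 ^ m))).toSubgroup := by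
      rw [Sylow.coe_subgroup_smul]
      exact Subgroup.smul_mem_pointwise_smul x (MulAut.conj g) _ (hP (Subgroup.mem_zpowers x))
    rw [hgP, hP0] at h1
    exact h1
  have hr : S.Rel (x : GL chevF4.Idx K) (g * x * g⁻¹ : ↥(twistedF4 K (2 ^ m))) := ⟨g, g.2, rfl⟩
  have hxx : x * x = 1 := by
    have := pow_orderOf_eq_one x
    rwa [hx, sq] at this
  have hd : S.Done ((g * x * g⁻¹ : ↥(twistedF4 K (2 ^ m))) : GL chevF4.Idx K) := by
    refine S.done_UG hmem (hr.sq S (congrArg Subtype.val hxx)) fun h => ?_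
    have : g * x * g⁻¹ = 1 := Subtype.ext h
    rw [conj_eq_one_iff] at this
    rw [this, orderOf_one] at hx
    exact absurd hx (by norm_num)
  rcases hd with ⟨u, hu, h⟩ | ⟨t, ht, h⟩
  · exact Or.inl ((hr.trans S h).trans S (S.rel_c3_one hu))
  · exact Or.inr ((hr.trans S h).trans S (S.rel_p0_one ht))

end SetupF4

end CfsgLib.Chev
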