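import Mathlib
import Cfsg.Agent.Lib.Chev.LargeReeInvolClasses

/-!
The two kinds of involutions of ²F₄(q): their centralisers lie in the maximal parabolic subgroups,
and they are not conjugate.
-/

set_option autoImplicit false
set_option maxHeartbeats 1600000
set_option maxRecDepth 100000
set_option linter.unusedSectionVars false
set_option linter.unusedSimpArgs false

namespace CfsgLib.Chev

open Cfsg.Lie LargeReeUni

/-- The sixteen elements of the twisted Weyl group, as lists of images. -/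
def weylTabF4 : List (List ℕ) := [
  [0, 1, 2, 3, 4, 5, 6, 7, 8, 9, 10, 11, 12, 13, 14, 15, 16, 17, 18, 19, 20, 21, 22, 23, 24, 25, 26, 27, 28, 29, 30, 31, 32, 33, 34, 35, 36, 37, 38, 39, 40, 41, 42, 43, 44, 45, 46, 47],
  [1, 0, 2, 7, 15, 17, 16, 3, 8, 10, 9, 19, 18, 20, 33, 4, 6, 5, 12, 11, 13, 22, 21, 24, 23, 26, 25, 34, 36, 35, 42, 41, 43, 14, 27, 29, 28, 38, 37, 39, 44, 31, 30, 32, 40, 45, 47, 46],
  [0, 5, 4, 3, 2, 1, 6, 11, 9, 8, 14, 7, 13, 12, 10, 23, 21, 30, 18, 28, 27, 16, 25, 15, 32, 22, 31, 20, 19, 29, 17, 26, 24, 37, 35, 34, 40, 33, 39, 38, 36, 41, 46, 45, 44, 43, 42, 47],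
  [5, 0, 4, 11, 23, 30, 21, 3, 9, 14, 8, 28, 18, 27, 37, 2, 6, 1, 13, 7, 12, 25, 16, 32, 15, 31, 22, 35, 40, 34, 46, 41, 45, 10, 20, 29, 19, 39, 33, 38, 44, 26, 17, 24, 36, 43, 47, 42],
  [1, 17, 15, 7, 2, 0, 16, 19, 10, 8, 33, 3, 20, 18, 9, 24, 22, 42, 12, 36, 34, 6, 26, 4, 43, 21, 41, 13, 11, 35, 5, 25, 23, 38, 29, 27, 44, 14, 39, 37, 28, 31, 47, 45, 40, 32, 30, 46],
  [17, 1, 15, 19, 24, 42, 22, 7, 10, 33, 8, 36, 12, 34, 38, 2, 16, 0, 20, 3, 18, 26, 6, 43, 4, 41, 21, 29, 44, 27, 47, 31, 45, 9, 13, 35, 11, 39, 14, 37, 40, 25, 5, 23, 28, 32, 46, 30],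
  [5, 30, 23, 11, 4, 0, 21, 28, 14, 9, 37, 3, 27, 18, 8, 32, 25, 46, 13, 40, 35, 6, 31, 2, 45, 16, 41, 12, 7, 34, 1, 22, 15, 39, 29, 20, 44, 10, 38, 33, 19, 26, 47, 43, 36, 24, 17, 42],
  [30, 5, 23, 28, 32, 46, 25, 11, 14, 37, 9, 40, 13, 35, 39, 4, 21, 0, 27, 3, 18, 31, 6, 45, 2, 41, 16, 29, 44, 20, 47, 26, 43, 8, 12, 34, 7, 38, 10, 33, 36, 22, 1, 15, 19, 24, 42, 17],
  [17, 42, 24, 19, 15, 1, 22, 36, 33, 10, 38, 7, 34, 12, 8, 43, 26, 47, 20, 44, 29, 16, 41, 2, 45, 6, 31, 18, 3, 27, 0, 21, 4, 39, 35, 13, 40, 9, 37, 14, 11, 25, 46, 32, 28, 23, 5, 30],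
  [42, 17, 24, 36, 43, 47, 26, 19, 33, 38, 10, 44, 20, 29, 39, 15, 22, 1, 34, 7, 12, 41, 16, 45, 2, 31, 6, 35, 40, 13, 46, 25, 32, 8, 18, 27, 3, 37, 9, 14, 28, 21, 0, 4, 11, 23, 30, 5],
  [30, 46, 32, 28, 23, 5, 25, 40, 37, 14, 39, 11, 35, 13, 9, 45, 31, 47, 27, 44, 29, 21, 41, 4, 43, 6, 26, 18, 3, 20, 0, 16, 2, 38, 34, 12, 36, 8, 33, 10, 7, 22, 42, 24, 19, 15, 1, 17],
  [46, 30, 32, 40, 45, 47, 31, 28, 37, 39, 14, 44, 27, 29, 38, 23, 25, 5, 35, 11, 13, 41, 21, 43, 4, 26, 6, 34, 36, 12, 42, 22, 24, 9, 18, 20, 3, 33, 8, 10, 19, 16, 0, 2, 7, 15, 17, 1],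
  [42, 47, 43, 36, 24, 17, 26, 44, 38, 33, 39, 19, 29, 20, 10, 45, 41, 46, 34, 40, 35, 22, 31, 15, 32, 16, 25, 12, 7, 13, 1, 6, 2, 37, 27, 18, 28, 8, 14, 9, 3, 21, 30, 23, 11, 4, 0, 5],
  [47, 42, 43, 44, 45, 46, 41, 36, 38, 39, 33, 40, 34, 35, 37, 24, 26, 17, 29, 19, 20, 31, 22, 32, 15, 25, 16, 27, 28, 18, 30, 21, 23, 10, 12, 13, 7, 14, 8, 9, 11, 6, 1, 2, 3, 4, 5, 0],
  [46, 47, 45, 40, 32, 30, 31, 44, 39, 37, 38, 28, 29, 27, 14, 43, 41, 42, 35, 36, 34, 25, 26, 23, 24, 21, 22, 13, 11, 12, 5, 6, 4, 33, 20, 18, 19, 9, 10, 8, 3, 16, 17, 15, 7, 2, 0, 1],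
  [47, 46, 45, 44, 43, 42, 41, 40, 39, 38, 37, 36, 35, 34, 33, 32, 31, 30, 29, 28, 27, 26, 25, 24, 23, 22, 21, 20, 19, 18, 17, 16, 15, 14, 13, 12, 11, 10, 9, 8, 7, 6, 5, 4, 3, 2, 1, 0]]

/-- Multiplication of an element of the table by a reflection. -/
def weylNxtF4 : Fin 2 → List (Fin 16) := ![[1, 0, 4, 5, 2, 3, 8, 9, 6, 7, 12, 13, 10, 11, 15, 14], [2, 3, 0, 1, 6, 7, 4, 5, 10, 11, 8, 9, 14, 15, 12, 13]]

/-- An entry of the table. -/
def weylAtF4 (i : Fin 16) (r : ℕ) : ℕ := (weylTabF4.getD i.val []).getD r 0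

/-- The six roots around the two kinds of involutions. -/
def sixF4 : List ℕ := [39, 40, 44, 45, 46, 47]

/-- The two roots of the central class. -/
def twoF4 : List ℕ := [44, 47]

/-- Conjugation of a product. -/
lemma conj_mul_eq {G : Type*} [Group G] (n a b : G) : n * (a * b) * n⁻¹ = n * a * n⁻¹ * (n * b * n⁻¹) := by group

namespace Good

variable {K : Type*} [Field K]

/-- A product of commuting positive root elements in the standard order. -/
lemma prod_eq_full {rs : List ℕ} (hnd : rs.Nodup) (hr : ∀ r ∈ rs, 24 ≤ r ∧ r < 48) (c : ℕ → K)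
    (hc : rs.Pairwise fun r s => Commute (goodF4.xG r (c r)) (goodF4.xG s (c s))) :
    goodF4.xAlong rs c =
      goodF4.xAlong (List.range' 24 24) (fun r => if r ∈ rs then c r else 0) := by
  have hperm : ((List.range' 24 24).filter fun r => decide (r ∈ rs)).Perm rs := by
    rw [List.perm_ext_iff_of_nodup ((List.nodup_range' (step := 1) (by norm_num)).filter _) hnd]
    intro r
    simp only [List.mem_filter, List.mem_range'_1, decide_eq_true_eq]
    exact ⟨fun h => h.2, fun h => ⟨⟨(hr r h).1, by have := (hr r h).2; omega⟩, h⟩⟩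
  have key : ∀ l : List ℕ, goodF4.xAlong (l.filter fun r => decide (r ∈ rs)) c =
      goodF4.xAlong l (fun r => if r ∈ rs then c r else 0) := by
    intro l
    induction l with
    | nil => rfl
    | cons a l ih =>
      by_cases h : a ∈ rs <;> simp [List.filter_cons, h, Good.xAlong_cons, ih, goodF4.xG_zero]
  rw [← key, Good.xAlong, Good.xAlong]
  refine ((List.Perm.map _ hperm).symm.prod_eq' ?_)
  rw [List.pairwise_map]
  exact hc

end Good

namespace SetupF4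

variable {K : Type*} [Field K] [Fintype K] [CharP K 2] {m : ℕ} (S : SetupF4 K m)
include S

lemma weyl_tab {v : Equiv.Perm (Fin chevF4.nroots)} (hv : v ∈ S.T.weylFix) :
    ∃ i : Fin 16, ∀ r : Fin chevF4.nroots, (v r).val = weylAtF4 i r.val := by
  refine S.sys.weylFix_induction (P := fun v => ∃ i : Fin 16, ∀ r : Fin chevF4.nroots,
    (v r).val = weylAtF4 i r.val) ⟨0, ?_⟩ ?_ hv
  · have h0 : ∀ r : Fin chevF4.nroots, r.val = weylAtF4 0 r.val := by decide +kernel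
    intro r
    simpa using h0 r
  · rintro (o : Fin 2) v' - ⟨i, hi⟩ -
    refine ⟨(weylNxtF4 o).getD i.val 0, fun r => ?_⟩
    have hstep : ∀ o : Fin 2, ∀ i : Fin 16, ∀ r : Fin chevF4.nroots,
        (wordApp sdataF4 ((wordsF4 o).map Fin.val) (weylAtF4 i r.val) ==
          weylAtF4 ((weylNxtF4 o).getD i.val 0) r.val) = true := by decide +kernel
    have := hstep o i r
    rw [beq_iff_eq, ← hi, ← goodF4.wperm_tab checksF4 structChecksF4] at this
    exact this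

/-- The commutation inside the six roots. -/
lemma six_commute {rs : List ℕ} (h : ∀ r ∈ rs, r ∈ sixF4) (c : ℕ → K) (hnd : rs.Nodup) :
    rs.Pairwise fun r s => Commute (goodF4.xG r (c r)) (goodF4.xG s (c s)) := by
  have key : ∀ r ∈ sixF4, ∀ s ∈ sixF4, r ≠ s →
      (s ≠ r ∧ r ≠ fneg chevF4 s ∧ s ≠ fneg chevF4 r ∧
        ((fterms chevF4 r s).filter fun c => c.2.1 % 2 != 0) = []) ∧ r < 48 ∧ s < 48 := by
    decide +kernel
  refine hnd.imp_of_mem fun {r s} hr hs hne => ?_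
  obtain ⟨⟨h1, -, h3, h4⟩, hr', hs'⟩ := key r (h r hr) s (h s hs) hne
  show _ * _ = _ * _
  simpa using swG (K := K) (r := r) (s := s) (T := []) ⟨⟨hr', hs'⟩, h1, h3, by rw [h4]; rfl⟩ (c r) (c s) 1

/-- A monomial element mapping a product of positive root elements to another one. -/
lemma image_mem {n : GL chevF4.Idx K} {v : Equiv.Perm (Fin chevF4.nroots)} (hn : goodF4.Acts n v)
    {rs ss : List ℕ} (hrs : ∀ r ∈ rs, r ∈ sixF4) (hss : ∀ r ∈ ss, r ∈ sixF4)
    (hrn : rs.Nodup) (hsn : ss.Nodup) {c d : ℕ → K}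
    (he : n * goodF4.xAlong rs c * n⁻¹ = goodF4.xAlong ss d)
    (r : Fin chevF4.nroots) (hr : r.val ∈ rs) (hc : c r.val ≠ 0) : (v r).val ∈ ss := by
  have hsix : ∀ r ∈ sixF4, 24 ≤ r ∧ r < 48 := by decide
  choose κ hκ using hn
  let img : ℕ → ℕ := fun a => if h : a < chevF4.nroots then (v ⟨a, h⟩).val else a
  have hlt : ∀ a ∈ rs, a < chevF4.nroots := fun a ha => (hsix a (hrs a ha)).2
  have hsplit : ∀ p : ℕ → Bool, (∀ a ∈ rs.filter p, a ∈ sixF4) ∧ (rs.filter p).Nodup := fun p =>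
    ⟨fun a ha => hrs a (List.mem_of_mem_filter ha), hrn.filter _⟩
  set P := rs.filter fun a => decide (24 ≤ img a) with hP
  set N := rs.filter fun a => !decide (24 ≤ img a) with hN
  have hprod : goodF4.xAlong rs c = goodF4.xAlong P c * goodF4.xAlong N c := by
    rw [Good.xAlong, Good.xAlong, Good.xAlong, ← List.prod_append, ← List.map_append]
    refine ((List.filter_append_perm (fun a => decide (24 ≤ img a)) rs).symm.map _).prod_eq' ?_
    rw [List.pairwise_map]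
    exact S.six_commute hrs c hrn
  let f : ℕ → K := fun s => if h : s < chevF4.nroots then (κ (v.symm ⟨s, h⟩) : K) *
    c (v.symm ⟨s, h⟩).val else 0
  have hconj : ∀ a ∈ rs, n * goodF4.xG a (c a) * n⁻¹ = goodF4.xG (img a) (f (img a)) := by
    intro a ha
    have e : (⟨(v ⟨a, hlt a ha⟩).val, (v ⟨a, hlt a ha⟩).2⟩ : Fin chevF4.nroots) = v ⟨a, hlt a ha⟩ := rfl
    simp only [img, f, dif_pos (hlt a ha), dif_pos (v ⟨a, hlt a ha⟩).2, e, Equiv.symm_apply_apply]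
    exact hκ ⟨a, hlt a ha⟩ (c a)
  have hmap : ∀ l : List ℕ, (∀ a ∈ l, a ∈ rs) →
      n * goodF4.xAlong l c * n⁻¹ = goodF4.xAlong (l.map img) f := by
    intro l hl
    induction l with
    | nil => simp [Good.xAlong]
    | cons a l ih =>
      rw [List.map_cons, Good.xAlong_cons, Good.xAlong_cons, ← hconj a (hl a List.mem_cons_self),
        ← ih fun b hb => hl b (List.mem_cons_of_mem _ hb)]
      group
  rw [hprod, conj_mul_eq, hmap P (fun a ha => List.mem_of_mem_filter ha)] at he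
  have hb : ∀ l : List ℕ, (∀ a ∈ l, 24 ≤ a ∧ a < 48) → ∀ t : ℕ → K,
      goodF4.xAlong l t ∈ chevF4.posUnipotent K := by
    intro l hl t
    refine Subgroup.list_prod_mem _ fun y hy => ?_
    obtain ⟨a, ha, rfl⟩ := List.mem_map.1 hy
    exact goodF4.xG_mem_posUnipotent
      ((goodF4.isPosRoot_iff a).2 ⟨S.half_eq ▸ (hl a ha).1, (hl a ha).2⟩) _
  have hPimg : ∀ a ∈ P.map img, 24 ≤ a ∧ a < 48 := by
    intro a ha
    obtain ⟨b, hb', rfl⟩ := List.mem_map.1 ha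
    obtain ⟨hb1, hb2⟩ := List.mem_filter.1 hb'
    refine ⟨of_decide_eq_true hb2, ?_⟩
    simp only [img, dif_pos (hlt b hb1)]
    exact (v ⟨b, hlt b hb1⟩).2
  have hN1 : goodF4.xAlong N c = 1 := by
    have h1 : n * goodF4.xAlong N c * n⁻¹ ∈ chevF4.borelSubgroup K ⊓ chevF4.negUnipotent K := by
      refine Subgroup.mem_inf.2 ⟨?_, ?_⟩
      · rw [eq_inv_mul_of_mul_eq he]
        exact Subgroup.mem_sup_left (mul_mem (inv_mem (hb _ hPimg _))
          (hb _ (fun a ha => hsix a (hss a ha)) _))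
      · rw [hmap N (fun a ha => List.mem_of_mem_filter ha)]
        refine Subgroup.list_prod_mem _ fun y hy => ?_
        obtain ⟨a, ha, rfl⟩ := List.mem_map.1 hy
        obtain ⟨b, hb', rfl⟩ := List.mem_map.1 ha
        obtain ⟨hb1, hb2⟩ := List.mem_filter.1 hb'
        have h24 : img b < 24 := by simpa using hb2
        exact goodF4.xG_mem_negUnipotent ((goodF4.isNegRoot_iff _).2 (S.half_eq.symm ▸ h24)) _
    rw [goodF4.borel_inf_neg, Subgroup.mem_bot, conj_eq_one_iff] at h1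
    exact h1
  rw [hN1, mul_one, mul_inv_cancel, mul_one] at he
  have hpos : 24 ≤ (v r).val := by
    by_contra hneg
    have hmem : r.val ∈ N := by
      refine List.mem_filter.2 ⟨hr, ?_⟩
      simpa [img, Nat.lt_of_not_le hneg] using hneg
    rw [Good.prod_eq_full (hsplit _).2 (fun a ha => hsix a ((hsplit _).1 a ha)) c
      (S.six_commute (hsplit _).1 c (hsplit _).2)] at hN1
    have h0 : goodF4.xAlong (List.range' 24 24) (fun _ => (0 : K)) = 1 :=
      List.prod_eq_one fun y hy => by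
        obtain ⟨a, -, rfl⟩ := List.mem_map.1 hy
        exact goodF4.xG_zero a
    have := goodF4.xAlong_inj (List.pairwise_lt_range' (s := 24) (n := 24)) (fun a ha => by
      rw [List.mem_range'_1] at ha
      exact ⟨ha.2, S.half_eq.symm ▸ ha.1⟩) (hN1.trans h0.symm) r.val (by
        rw [List.mem_range'_1]
        have := hsix _ (hrs _ hr)
        omega)
    have this := (if_pos hmem).symm.trans this
    exact hc this
  have hrP : r.val ∈ P := List.mem_filter.2 ⟨hr, by simpa [img] using hpos⟩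
  have himg : img r.val = (v r).val := by simp [img]
  have hinj : ∀ a ∈ rs, ∀ b ∈ rs, img a = img b → a = b := by
    intro a ha b hb' e
    simp only [img, dif_pos (hlt a ha), dif_pos (hlt b hb')] at e
    exact Fin.ext_iff.1 (v.injective (Fin.ext e))
  have hPnd : (P.map img).Nodup := List.Nodup.map_on (fun a ha b hb' e =>
    hinj a (List.mem_of_mem_filter ha) b (List.mem_of_mem_filter hb') e) (hsplit _).2
  have hPc : (P.map img).Pairwise fun a b => Commute (goodF4.xG a (f a)) (goodF4.xG b (f b)) := by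
    rw [List.pairwise_map]
    refine (S.six_commute (hsplit _).1 c (hsplit _).2).imp_of_mem fun {a b} ha hb' hab => ?_
    rw [← hconj a (List.mem_of_mem_filter ha), ← hconj b (List.mem_of_mem_filter hb')]
    exact hab.conj _
  rw [Good.prod_eq_full hPnd hPimg f hPc,
    Good.prod_eq_full hsn (fun a ha => hsix a (hss a ha)) d (S.six_commute hss d hsn)] at he
  have h := goodF4.xAlong_inj (List.pairwise_lt_range' (s := 24) (n := 24)) (fun a ha => by
    rw [List.mem_range'_1] at ha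
    exact ⟨ha.2, S.half_eq.symm ▸ ha.1⟩) he (v r).val (by
      rw [List.mem_range'_1]
      exact ⟨hpos, (v r).2⟩)
  by_contra hns
  rw [if_pos (himg ▸ List.mem_map.2 ⟨r.val, hrP, rfl⟩), if_neg hns] at h
  have : (κ r : K) * c r.val = 0 := by
    simpa [f, show (⟨(v r).val, (v r).2⟩ : Fin chevF4.nroots) = v r from rfl] using h
  exact hc ((mul_eq_zero.1 this).resolve_left (κ r).ne_zero)

/-- The representative of the first kind. -/
noncomputable def repA : GL chevF4.Idx K := c3 S.th 0 1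

/-- The representative of the second kind, moved to the middle. -/
noncomputable def repB : GL chevF4.Idx K := p4 S.th 1

lemma rel_repB : S.Rel (p0 S.th 1) S.repB := by
  obtain ⟨⟨-, -, n6, -, -, -, -⟩, nb0, -, -, -, nb2, -, -⟩ := S.refl_conj
  exact Rel.trans S (Rel.trans S ⟨nF4 1, S.n_mem' 1, nb0 _⟩ ⟨nF4 0, S.n_mem' 0, n6 _⟩)
    ⟨nF4 1, S.n_mem' 1, nb2 _⟩

lemma repA_central {u : GL chevF4.Idx K} (hu : u ∈ S.UG) : u * S.repA * u⁻¹ = S.repA := by
  obtain ⟨v, b, B, rfl⟩ := S.exists_elt hu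
  set e : V K := ⟨0, 0, 0, 0, 0, 1, 0, 0, 0, 0⟩
  have hA : S.repA = W S.th e := by
    obtain ⟨a, b, c, d⟩ := S.p_zero
    obtain ⟨e', -, g, -⟩ := S.c_zero
    simp [repA, W, e, a, b, c, d, e', g]
  have h1 : V.conj S.th b B e = e := by simp [V.conj, e]
  have h2 : V.mul S.th v e = V.mul S.th e v := by ext <;> simp [V.mul, e] <;> ring
  rw [hA, mul_inv_eq_iff_eq_mul, elt, mul_assoc, S.c7_W, h1, ← mul_assoc, S.W_mul, h2, ← S.W_mul,
    mul_assoc]

lemma repB_conj {u : GL chevF4.Idx K} (hu : u ∈ S.UG) :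
    ∃ α β : K, u * S.repB * u⁻¹ = c3 S.th 0 α * (p4 S.th 1 * c5 S.th 0 β) := by
  obtain ⟨v, b, B, rfl⟩ := S.exists_elt hu
  obtain ⟨a, p2', c, d⟩ := S.p_zero
  obtain ⟨e', f', g, -⟩ := S.c_zero
  refine ⟨S.th v.t1 + S.th b * S.th v.t0, S.th b, ?_⟩
  have hB : S.repB = W S.th (⟨0, 0, 0, 0, 0, 0, 1, 0, 0, 0⟩ : V K) := by
    simp [repB, W, a, p2', d, e', f', g]
  have hY : c3 S.th 0 (S.th v.t1 + S.th b * S.th v.t0) * (p4 S.th 1 * c5 S.th 0 (S.th b)) =
      W S.th (⟨0, 0, 0, 0, 0, S.th v.t1 + S.th b * S.th v.t0, 1, 0, S.th b, 0⟩ : V K) := by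
    simp [W, a, p2', d, e']
  have h1 : V.conj S.th b B (⟨0, 0, 0, 0, 0, 0, 1, 0, 0, 0⟩ : V K) =
      ⟨0, 0, 0, 0, 0, 0, 1, 0, S.th b, 0⟩ := by simp [V.conj]
  rw [hY, hB, mul_inv_eq_iff_eq_mul, elt, mul_assoc, S.c7_W, h1, ← mul_assoc, S.W_mul,
    ← mul_assoc, S.W_mul]
  congr 2
  ext <;> simp [V.mul] <;> ring_nf <;> simp [CharTwo.two_eq_zero]

lemma repA_along : S.repA = goodF4.xAlong twoF4 (fun _ => (1 : K)) := by
  simp [repA, c3, twoF4, Good.xAlong, goodF4.xG_zero]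

/-- The coefficients on the six roots. -/
noncomputable def coefSix (_S : SetupF4 K m) (α β : K) : ℕ → K := fun r =>
  if r = 39 then 1 else if r = 40 then β else if r = 44 then α else if r = 45 then 1
    else if r = 46 then _S.th β ^ 2 else _S.th α ^ 2

lemma six_along (α β : K) :
    c3 S.th 0 α * (p4 S.th 1 * c5 S.th 0 β) = goodF4.xAlong sixF4 (S.coefSix α β) := by
  have h : ∀ X : GL chevF4.Idx K, c3 S.th 0 α * (p4 S.th 1 * (c5 S.th 0 β * X)) =
      goodF4.xAlong sixF4 (S.coefSix α β) * X := by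
    intro X
    simp [c3, p4, c5, sixF4, coefSix, Good.xAlong, mul_assoc, goodF4.xG_zero, sw44_39, sw47_39,
      sw45_40, sw47_45, sw44_40, sw47_40, sw45_44, sw46_44, sw47_46, sw46_45, sw40_39, sw45_39,
      sw46_39, sw46_40, sw47_44]
  simpa using h 1

/-- The data of the conjugate of a representative by an element of the Borel subgroup. -/
lemma borel_conj {b : GL chevF4.Idx K} (hb : b ∈ chevF4.borelSubgroup K ⊓ S.sys.G1) :
    (∃ d : ℕ → K, d 44 ≠ 0 ∧ b⁻¹ * S.repA * b = goodF4.xAlong twoF4 d) ∧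
      ∃ d : ℕ → K, d 45 ≠ 0 ∧ b⁻¹ * S.repB * b = goodF4.xAlong sixF4 d := by
  obtain ⟨y, hy, h, hh, rfl⟩ := S.sys.borel_inf_decomp hasCommF4 hb
  have hh' : h⁻¹ ∈ chevF4.diagonalSubgroup K := inv_mem hh.1
  rw [goodF4.diagonal_eq_range] at hh'
  obtain ⟨χ, hχ⟩ := hh'
  have hlt : ∀ r ∈ sixF4, r < chevF4.nroots := by decide +kernel
  have e : ∀ z : GL chevF4.Idx K, (y * h)⁻¹ * z * (y * h) =
      torHom chevF4 K χ * (y⁻¹ * z * y⁻¹⁻¹) * (torHom chevF4 K χ)⁻¹ := fun z => by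
    rw [hχ]; group
  refine ⟨?_, ?_⟩
  · rw [e, S.repA_central (inv_mem hy), S.repA_along,
      goodF4.torHom_conj_xAlong χ (fun r hr => hlt r (by revert r; decide))]
    exact ⟨_, mul_ne_zero (Units.ne_zero _) one_ne_zero, rfl⟩
  · obtain ⟨α, β, hY⟩ := S.repB_conj (inv_mem hy)
    rw [e, hY, S.six_along, goodF4.torHom_conj_xAlong χ (fun r hr => hlt r hr)]
    exact ⟨_, mul_ne_zero (Units.ne_zero _) (by simp [coefSix]), rfl⟩

/-- An element conjugating one representative into another. -/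
lemma decomp {g z z' : GL chevF4.Idx K} (hg : g ∈ twistedF4 K (2 ^ m)) (he : g * z * g⁻¹ = z') :
    ∃ v ∈ S.T.weylFix, ∃ n, goodF4.Acts n v ∧ n ∈ twistedF4 K (2 ^ m) ∧ n ∈ chevF4.monomialSubgroup K ∧
      ∃ b ∈ chevF4.borelSubgroup K ⊓ S.sys.G1, ∃ u ∈ S.UG, g = b * n * u ∧
        n * (u * z * u⁻¹) * n⁻¹ = b⁻¹ * z' * b := by
  obtain ⟨v, hv, n, hn, hnm, hna, b, hb, u, hu, rfl⟩ := S.sys.exists_canonical hasCommF4 hg
  refine ⟨v, hv, n, hna, hn, hnm, b, hb, u,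
    ⟨goodF4.minus_le_pos _ hu.2, S.sys.fixedMinus_le hasCommF4 hv hu⟩, rfl, ?_⟩
  rw [← he]; group

/-- The two representatives are not conjugate. -/
theorem not_rel_reps : ¬ S.Rel S.repB S.repA := by
  rintro ⟨g, hg, he⟩
  obtain ⟨v, hv, n, hna, -, -, b, hb, u, hu, -, h⟩ := S.decomp hg he
  obtain ⟨α, β, hY⟩ := S.repB_conj hu
  obtain ⟨d, -, hd⟩ := (S.borel_conj hb).1
  rw [hY, S.six_along, hd] at h
  have h45 := S.image_mem hna (fun r hr => hr) (by decide) (by decide) (by decide) h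
    ⟨45, by decide +kernel⟩ (by show (45 : ℕ) ∈ sixF4; decide) (by simp [coefSix])
  obtain ⟨i, hi⟩ := S.weyl_tab hv
  rw [hi] at h45
  have key : ∀ i : Fin 16, weylAtF4 i 45 ∉ twoF4 := by decide +kernel
  exact key i h45

lemma mem_cases {g z : GL chevF4.Idx K} {ks : List (Fin 16)} (hg : g ∈ twistedF4 K (2 ^ m))
    (hz : g * z * g⁻¹ = z) {rs : List ℕ} (hrs : ∀ r ∈ rs, r ∈ sixF4) (hnd : rs.Nodup)
    (r0 : Fin chevF4.nroots) (hr0 : r0.val ∈ rs)
    (hu : ∀ u ∈ S.UG, ∃ c : ℕ → K, c r0.val ≠ 0 ∧ u * z * u⁻¹ = goodF4.xAlong rs c)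
    (hb : ∀ b ∈ chevF4.borelSubgroup K ⊓ S.sys.G1, ∃ d : ℕ → K, b⁻¹ * z * b = goodF4.xAlong rs d)
    (hk : ∀ i : Fin 16, weylAtF4 i r0.val ∈ rs → i ∈ ks) :
    ∃ v ∈ S.T.weylFix, ∃ n, goodF4.Acts n v ∧ n ∈ twistedF4 K (2 ^ m) ∧ n ∈ chevF4.monomialSubgroup K ∧
      (∃ b ∈ chevF4.borelSubgroup K ⊓ S.sys.G1, ∃ u ∈ S.UG, g = b * n * u) ∧
        ∃ i ∈ ks, ∀ r : Fin chevF4.nroots, (v r).val = weylAtF4 i r.val := by
  obtain ⟨v, hv, n, hna, hn, hnm, b, hbm, u, hum, hgd, h⟩ := S.decomp hg hz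
  obtain ⟨c, hc, hce⟩ := hu u hum
  obtain ⟨d, hd⟩ := hb b hbm
  rw [hce, hd] at h
  have h' := S.image_mem hna hrs hrs hnd hnd h r0 hr0 hc
  obtain ⟨i, hi⟩ := S.weyl_tab hv
  rw [hi] at h'
  exact ⟨v, hv, n, hna, hn, hnm, ⟨b, hbm, u, hum, hgd⟩, i, hk i h', hi⟩

/-- The parabolic subgroup of a reflection. -/
noncomputable def oP (o : Fin 2) : Subgroup ↥(twistedF4 K (2 ^ m)) :=
  S.oBN.parabolic {(⟨S.sys.n o, S.sys.n_mem o⟩ : ↥S.sys.G1)}

/-- An element with Bruhat part in a parabolic subgroup. -/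
lemma mem_oP {g n : GL chevF4.Idx K} {v : Equiv.Perm (Fin chevF4.nroots)} (o : Fin 2)
    (hg : g ∈ twistedF4 K (2 ^ m)) (hn : n ∈ twistedF4 K (2 ^ m)) (hnm : n ∈ chevF4.monomialSubgroup K)
    (hna : goodF4.Acts n v) (hv : v = 1 ∨ v = goodF4.wperm (wordsF4 o))
    (h : ∃ b ∈ chevF4.borelSubgroup K ⊓ S.sys.G1, ∃ u ∈ S.UG, g = b * n * u) :
    (⟨g, hg⟩ : ↥(twistedF4 K (2 ^ m))) ∈ S.oP o := by
  obtain ⟨b, hb, u, hu, rfl⟩ := h
  have hB : ∀ x : ↥(twistedF4 K (2 ^ m)),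
      (x : GL chevF4.Idx K) ∈ chevF4.borelSubgroup K → x ∈ S.oP o := fun x hx =>
    BN.B_le_parabolic S.oBN _ (Subgroup.mem_subgroupOf.2 ⟨hx, x.2⟩)
  have hn' : (⟨n, hn⟩ : ↥(twistedF4 K (2 ^ m))) ∈ S.oP o := by
    rcases hv with rfl | rfl
    · refine hB _ (Subgroup.mem_sup_right ?_)
      simpa using goodF4.monomial_same_acts hnm (one_mem _) hna goodF4.acts_one
    · have h1 := goodF4.monomial_same_acts hnm (S.sys.n_monomial o) hna (S.sys.n_acts o)
      have e : (⟨n, hn⟩ : ↥(twistedF4 K (2 ^ m))) =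
          ⟨n * (S.sys.n o)⁻¹, mul_mem hn (inv_mem (S.sys.n_mem o))⟩ * ⟨S.sys.n o, S.sys.n_mem o⟩ :=
        Subtype.ext (by simp)
      rw [e]
      exact mul_mem (hB _ (Subgroup.mem_sup_right h1))
        (BN.mem_parabolic_of_mem S.oBN (Set.mem_singleton _))
  have e : (⟨b * n * u, hg⟩ : ↥(twistedF4 K (2 ^ m))) = ⟨b, hb.2⟩ * ⟨n, hn⟩ * ⟨u, hu.2⟩ :=
    Subtype.ext rfl
  rw [e]
  exact mul_mem (mul_mem (hB _ hb.1) hn') (hB _ (Subgroup.mem_sup_left hu.1))

/-- The centralisers of the representatives. -/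
theorem cent_repA {g : ↥(twistedF4 K (2 ^ m))}
    (h : (g : GL chevF4.Idx K) * S.repA * (g : GL chevF4.Idx K)⁻¹ = S.repA) : g ∈ S.oP 1 := by
  have key : ∀ i : Fin 16, weylAtF4 i 44 ∈ twoF4 → i ∈ ([0, 2] : List (Fin 16)) := by decide +kernel
  obtain ⟨v, -, n, hna, hn, hnm, hd, i, hi, hv⟩ := S.mem_cases g.2 h (rs := twoF4) (by decide)
    (by decide) ⟨44, by decide +kernel⟩ (by show (44 : ℕ) ∈ twoF4; decide)
    (fun u hu => ⟨fun _ => 1, one_ne_zero, (S.repA_central hu).trans S.repA_along⟩)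
    (fun b hb => by obtain ⟨d, -, hd⟩ := (S.borel_conj hb).1; exact ⟨d, hd⟩) key
  refine S.mem_oP 1 g.2 hn hnm hna ?_ hd
  simp only [List.mem_cons, List.not_mem_nil, or_false] at hi
  have t0 : ∀ r : Fin chevF4.nroots, weylAtF4 0 r.val = r.val := by decide +kernel
  have t2 : ∀ r : Fin chevF4.nroots, (weylAtF4 2 r.val ==
      wordApp sdataF4 ((wordsF4 1).map Fin.val) r.val) = true := by decide +kernel
  rcases hi with rfl | rfl
  · exact Or.inl (Equiv.ext fun r => Fin.ext ((hv r).trans (t0 r)))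
  · exact Or.inr (Equiv.ext fun r => Fin.ext ((hv r).trans
      ((eq_of_beq (t2 r)).trans (goodF4.wperm_tab checksF4 structChecksF4 _ r).symm)))

theorem cent_repB {g : ↥(twistedF4 K (2 ^ m))}
    (h : (g : GL chevF4.Idx K) * S.repB * (g : GL chevF4.Idx K)⁻¹ = S.repB) : g ∈ S.oP 0 := by
  have key : ∀ i : Fin 16, weylAtF4 i 45 ∈ sixF4 → i ∈ ([0, 1] : List (Fin 16)) := by decide +kernel
  obtain ⟨v, -, n, hna, hn, hnm, hd, i, hi, hv⟩ := S.mem_cases g.2 h (rs := sixF4) (fun _ h => h)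
    (by decide) ⟨45, by decide +kernel⟩ (by show (45 : ℕ) ∈ sixF4; decide)
    (fun u hu => by
      obtain ⟨α, β, hY⟩ := S.repB_conj hu
      exact ⟨S.coefSix α β, by simp [coefSix], hY.trans (S.six_along α β)⟩)
    (fun b hb => by obtain ⟨d, -, hd⟩ := (S.borel_conj hb).2; exact ⟨d, hd⟩) key
  refine S.mem_oP 0 g.2 hn hnm hna ?_ hd
  simp only [List.mem_cons, List.not_mem_nil, or_false] at hi
  have t0 : ∀ r : Fin chevF4.nroots, weylAtF4 0 r.val = r.val := by decide +kernel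
  have t1 : ∀ r : Fin chevF4.nroots, (weylAtF4 1 r.val ==
      wordApp sdataF4 ((wordsF4 0).map Fin.val) r.val) = true := by decide +kernel
  rcases hi with rfl | rfl
  · exact Or.inl (Equiv.ext fun r => Fin.ext ((hv r).trans (t0 r)))
  · exact Or.inr (Equiv.ext fun r => Fin.ext ((hv r).trans
      ((eq_of_beq (t1 r)).trans (goodF4.wperm_tab checksF4 structChecksF4 _ r).symm)))

/-- The order of a parabolic subgroup. -/
theorem card_oP (o : Fin 2) : Nat.card ↥(S.oP o) =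
    Nat.card ↥(chevF4.borelSubgroup K ⊓ S.sys.G1) *
      (1 + Nat.card ↥(S.T.fixedMinus (goodF4.wperm (wordsF4 o)))) := by
  classical
  set B1 := chevF4.borelSubgroup K ⊓ S.sys.G1
  set U1 := S.T.fixedMinus (goodF4.wperm (wordsF4 o))
  set w : ↥(twistedF4 K (2 ^ m)) := ⟨S.sys.n o, S.sys.n_mem o⟩ with hw
  have hwS : ({w} : Set _) ⊆ S.oBN.S := by
    rintro - rfl
    exact ⟨o, rfl⟩
  have hwv := S.sys.w_weylFix o
  have hUB : ∀ u ∈ U1, u ∈ B1 := fun u hu => S.sys.fixedMinus_le_borel hasCommF4 hwv hu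
  have hB : ∀ x : ↥B1, (⟨x, x.2.2⟩ : ↥(twistedF4 K (2 ^ m))) ∈ S.oP o := fun x =>
    BN.B_le_parabolic S.oBN _ (Subgroup.mem_subgroupOf.2 x.2)
  let f : ↥B1 ⊕ (↥B1 × ↥U1) → ↥(S.oP o) := Sum.elim (fun x => ⟨_, hB x⟩)
    (fun p => ⟨⟨p.1, p.1.2.2⟩ * w * ⟨p.2, (hUB _ p.2.2).2⟩,
      mul_mem (mul_mem (hB p.1) (BN.mem_parabolic_of_mem S.oBN (Set.mem_singleton _)))
        (hB ⟨p.2, hUB _ p.2.2⟩)⟩)
  have hne : ∀ (x : ↥B1) (p : ↥B1 × ↥U1),
      (x : GL chevF4.Idx K) ≠ p.1 * S.sys.n o * p.2 := by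
    intro x p he
    refine BN.s_not_mem_B S.oBN (hwS (Set.mem_singleton _)) (Subgroup.mem_subgroupOf.2 ?_)
    have : S.sys.n o = (p.1 : GL chevF4.Idx K)⁻¹ * x * (p.2 : GL chevF4.Idx K)⁻¹ := by rw [he]; group
    show S.sys.n o ∈ B1
    rw [this]
    exact mul_mem (mul_mem (inv_mem p.1.2) x.2) (inv_mem (hUB _ p.2.2))
  have hinj : Function.Injective f := by
    have val : ∀ a : ↥(S.oP o), ∀ b : ↥(S.oP o), a = b →
        ((a : ↥(twistedF4 K (2 ^ m))) : GL chevF4.Idx K) = ((b : ↥(twistedF4 K (2 ^ m))) : GL chevF4.Idx K) :=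
      fun a b h => h ▸ rfl
    rintro (x | p) (x' | p') he <;> have he' := val _ _ he
    · exact congrArg Sum.inl (Subtype.ext he')
    · exact absurd he' (hne x p')
    · exact absurd he'.symm (hne x' p)
    · obtain ⟨h1, h2⟩ := goodF4.canonical_unique p.1.2.1 p'.1.2.1 (S.sys.n_acts o) p.2.2.2 p'.2.2.2 he'
      exact congrArg Sum.inr (Prod.ext (Subtype.ext h1) (Subtype.ext h2))
  have hsurj : Function.Surjective f := by
    rintro ⟨g, hg⟩
    obtain ⟨v, hv, n, hn, hnm, hna, b, hb, u, hu, he⟩ := S.sys.exists_canonical hasCommF4 g.2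
    have hgn : g ∈ BN.cell S.oBN ⟨n, hn⟩ := S.sys.mem_cell.2
      ⟨b, hb, u, S.sys.fixedMinus_le_borel hasCommF4 hv hu, he⟩
    obtain ⟨l, hl, hgl⟩ := (BN.mem_parabolic S.oBN hwS).1 hg
    have hlN : l.prod ∈ S.oBN.N := BN.prod_mem_N S.oBN hwS hl
    have hcases : ∀ l : List ↥(twistedF4 K (2 ^ m)), (∀ x ∈ l, x ∈ ({w} : Set _)) →
        ∃ h ∈ S.oBN.B, l.prod = h ∨ l.prod = h * w := by
      intro l
      induction l with
      | nil => exact fun _ => ⟨1, one_mem _, Or.inl rfl⟩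
      | cons a l ih =>
        intro ha
        obtain rfl : a = w := ha a List.mem_cons_self
        obtain ⟨h, hh, e⟩ := ih fun x hx => ha x (List.mem_cons_of_mem _ hx)
        have hhN : h ∈ S.oBN.N := by
          have hl' : l.prod ∈ S.oBN.N :=
            BN.prod_mem_N S.oBN hwS fun x hx => ha x (List.mem_cons_of_mem _ hx)
          rcases e with e | e
          · exact e ▸ hl'
          · rw [show h = l.prod * w⁻¹ by rw [e, mul_inv_cancel_right]]
            exact mul_mem hl' (inv_mem (BN.s_mem S.oBN (hwS (Set.mem_singleton _))))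
        have hwh : w * h * w⁻¹ ∈ S.oBN.B :=
          S.oBN.conj_mem w (BN.s_mem S.oBN (hwS (Set.mem_singleton _))) h ⟨hh, hhN⟩
        refine ⟨if l.prod = h then w * h * w⁻¹ else w * h * w⁻¹ * (w * w), ?_, ?_⟩
        · split
          · exact hwh
          · exact mul_mem hwh (S.oBN.sq_mem w (hwS (Set.mem_singleton _)))
        · rw [List.prod_cons]
          split
          next e' => exact Or.inr (by rw [e']; group)
          next e' => exact Or.inl (by rw [e.resolve_left e']; group)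
    obtain ⟨h, hh, e⟩ := hcases l hl
    have hd := BN.equiv_of_mem_cells S.oBN (n := ⟨n, hn⟩) (n' := l.prod)
      (Subgroup.mem_subgroupOf.2 ⟨hnm, hn⟩) hlN hgn hgl
    rcases e with e | e
    · rw [e] at hd
      have hnB : n ∈ B1 := by
        have h1 : n⁻¹ * (h : GL chevF4.Idx K) ∈ B1 := hd
        have h2 : (h : GL chevF4.Idx K) ∈ B1 := hh
        simpa using mul_mem h2 (inv_mem h1)
      exact ⟨Sum.inl ⟨b * n * u, mul_mem (mul_mem hb hnB) (S.sys.fixedMinus_le_borel hasCommF4 hv hu)⟩,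
        Subtype.ext (Subtype.ext he.symm)⟩
    · rw [e] at hd
      have hdd : n⁻¹ * ((h : GL chevF4.Idx K) * S.sys.n o) ∈ chevF4.diagonalSubgroup K := by
        rw [← goodF4.borel_inf_monomial]
        refine Subgroup.mem_inf.2 ⟨hd.1, ?_⟩
        exact mul_mem (inv_mem hnm) (show (h : GL chevF4.Idx K) * S.sys.n o ∈ chevF4.monomialSubgroup K from (e ▸ hlN : h * w ∈ S.oBN.N).1)
      have hhd : (h : GL chevF4.Idx K) ∈ chevF4.diagonalSubgroup K := by
        rw [← goodF4.borel_inf_monomial]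
        refine Subgroup.mem_inf.2 ⟨hh.1, ?_⟩
        have h1 : h * w ∈ S.oBN.N := e ▸ hlN
        have h2 := mul_mem (show (h : GL chevF4.Idx K) * S.sys.n o ∈ chevF4.monomialSubgroup K from h1.1) (inv_mem (S.sys.n_monomial o))
        simpa [hw] using h2
      have hvw : v = goodF4.wperm (wordsF4 o) := by
        have h1 := goodF4.acts_mul hna (goodF4.acts_diagonal hdd)
        rw [mul_inv_cancel_left, mul_one] at h1
        have h2 := goodF4.acts_mul (goodF4.acts_diagonal hhd) (S.sys.n_acts o)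
        rw [one_mul] at h2
        exact goodF4.acts_unique h1 h2
      subst hvw
      have hm := goodF4.monomial_same_acts hnm (S.sys.n_monomial o) hna (S.sys.n_acts o)
      refine ⟨Sum.inr (⟨b * (n * (S.sys.n o)⁻¹), mul_mem hb (Subgroup.mem_inf.2
        ⟨Subgroup.mem_sup_right hm, mul_mem hn (inv_mem (S.sys.n_mem o))⟩)⟩, ⟨u, hu⟩),
        Subtype.ext (Subtype.ext ?_)⟩
      show b * (n * (S.sys.n o)⁻¹) * S.sys.n o * u = _
      rw [he]; group
  rw [← Nat.card_eq_of_bijective f ⟨hinj, hsurj⟩, Nat.card_sum, Nat.card_prod]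
  ring

end SetupF4

end CfsgLib.Chev
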