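import Cfsg.Agent.Lib.Chev.TitsDefs

/-!
# The chain of the Sylow subgroup of `²F₄(2)`
-/

set_option autoImplicit false
set_option maxRecDepth 100000
set_option maxHeartbeats 0

namespace CfsgLib.Chev.Tits

theorem checkRel_ok : checkRel = true := by decide +kernel
theorem checkGrow_ok : checkGrow = true := by decide +kernel
theorem checkFix_ok : checkFix = true := by decide +kernel
theorem checkRank_ok : checkRank = true := by decide +kernel

end CfsgLib.Chev.Tits
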