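import Cfsg.Agent.Lib.Chev.ModWord
import Cfsg.Agent.Lib.Chev.TitsData

/-!
# Computations in `²F₄(2)` with matrices packed by columns of 52 bits
-/

set_option autoImplicit false
set_option maxRecDepth 100000
set_option maxHeartbeats 0

namespace CfsgLib.Chev.Tits

/-- The number with the bottom bit of each column. -/
def lowBits : ℕ := (2 ^ 2704 - 1) / (2 ^ 52 - 1)

/-- The unit matrix. -/
def idP : ℕ := (2 ^ 2756 - 1) / (2 ^ 53 - 1)

/-- Bit `i` of each column. -/
noncomputable def selP (A i : ℕ) : ℕ := (A >>> i) &&& lowBits

/-- A column. -/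
noncomputable def colP (A i : ℕ) : ℕ := (A >>> (52 * i)) % 2 ^ 52

/-- The product. -/
noncomputable def mulP (A B : ℕ) : ℕ :=
  List.rec 0 (fun i _ ih => ih ^^^ (selP B i * colP A i)) (upto 52)

/-- A word in the letters. -/
noncomputable def evalP (w : List ℕ) : ℕ :=
  List.rec idP (fun k _ ih => mulP (letTab.getD k 0) ih) w

/-- A lower bound for the rank. -/
noncomputable def elimP (ps : List ℕ) : ℕ → ℕ :=
  List.rec (fun _ => 0) (fun s _ ih A => bif Nat.beq (selP A s) 0 then ih A
    else ih (A ^^^ (selP A s * ((A / (selP A s ^^^ (selP A s &&& (selP A s - 1)))) % 2 ^ 52))) + 1) ps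

/-- A lower bound for the rank of `x - 1`. -/
noncomputable def rankP (x : ℕ) : ℕ := elimP (upto 52) (x ^^^ idP)

/-- The matrix of a chain generator. -/
noncomputable def genP (k : ℕ) : ℕ := evalP (pcWord.getD k [])

/-- A product of chain generators. -/
noncomputable def prodP (w : List ℕ) : ℕ := List.rec idP (fun k _ ih => mulP (genP k) ih) w

/-- The products along the chain below a list of generators. -/
noncomputable def elemsP (ks : List ℕ) : List ℕ :=
  List.rec [idP] (fun k _ ih => appR ih (mapR (fun t => mulP (genP k) t) ih)) ks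

/-- Two matrices differ. -/
noncomputable def neP (A B : ℕ) : Bool := !(Nat.beq ((A ^^^ B) % 2 ^ 2704) 0)

/-- The part of the chain above `k`. -/
def above (k : ℕ) : List ℕ := List.range' (k + 1) (11 - k)

/-- Squares and conjugates along the chain. -/
noncomputable def checkRel : Bool :=
  allR (fun k => Nat.beq (evalP (pcWord.getD k [] ++ pcWord.getD k [])) (prodP (pcSq.getD k [])) &&
    allR (fun j => Nat.beq (mulP (genP (k + 1 + j)) (genP k))
      (mulP (genP k) (prodP ((pcConj.getD k []).getD j [])))) (upto (11 - k))) (upto 12)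

/-- The chain does not collapse. -/
noncomputable def checkGrow : Bool :=
  allR (fun k => allR (fun x => neP x (genP k)) (elemsP (above k))) (upto 12)

/-- No conjugate of the fourth-order element in the subgroup of index two, and none of its
square outside. -/
noncomputable def checkRank : Bool :=
  allR (fun x => neP (mulP (mulP (genP 0) x) (mulP (genP 0) x)) idP &&
    (Nat.beq (mulP x x) idP || neP (mulP (mulP x x) (mulP x x)) idP || Nat.blt 32 (rankP x)))
    (elemsP (above 0))

/-- The ranks of the fourth-order element and its square. -/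
noncomputable def checkFix : Bool :=
  allR (fun i =>
    Nat.beq (mulP (evalP (pcWord.getD 0 [] ++ bif Nat.beq i 0 then [] else pcWord.getD 0 []) ^^^ idP)
      (fixTab.getD i 0) % 2 ^ 2704) 0 &&
      Nat.ble (bif Nat.beq i 0 then 20 else 31) (elimP (upto 52) (fixTab.getD i 0))) (upto 2)

end CfsgLib.Chev.Tits
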