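import Mathlib
import Cfsg.Agent.Lib.Chev.TitsDefs
import Cfsg.Agent.Lib.Chev.TwistF4

/-!
# The matrices of packed numbers and their ranks
-/

set_option autoImplicit false
set_option maxRecDepth 100000

namespace CfsgLib.Chev.Tits

open Cfsg.Lie Matrix

/-- Packing of a list of columns. -/
noncomputable def pk (l : List ℕ) : ℕ := List.rec 0 (fun v _ ih => 2 ^ 52 * ih + v) l

theorem testBit_pk : ∀ l : List ℕ, (∀ v ∈ l, v < 2 ^ 52) → ∀ k,
    (pk l).testBit k = (l.getD (k / 52) 0).testBit (k % 52) := by
  intro l
  induction l with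
  | nil => intro _ k; simp [pk]
  | cons v l ih =>
    intro hl k
    have hv := hl v List.mem_cons_self
    show (2 ^ 52 * pk l + v).testBit k = _
    rw [Nat.testBit_two_pow_mul_add _ hv]
    split_ifs with h
    · rw [Nat.div_eq_of_lt h, Nat.mod_eq_of_lt h]; rfl
    · rw [ih (fun x hx => hl x (List.mem_cons_of_mem _ hx)) (k - 52),
        show k / 52 = (k - 52) / 52 + 1 by omega, show k % 52 = (k - 52) % 52 by omega]
      rfl

theorem testBit_one' (k : ℕ) : Nat.testBit 1 k = decide (k = 0) := by
  cases k <;> simp [Nat.testBit_succ]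

theorem pk_mul (c : ℕ) : ∀ l : List ℕ, pk l * c = pk (l.map (· * c)) := by
  intro l
  induction l with
  | nil => simp [pk]
  | cons v l ih =>
    show (2 ^ 52 * pk l + v) * c = 2 ^ 52 * pk (l.map (· * c)) + v * c
    rw [← ih]; ring

theorem lowBits_eq : lowBits = pk (List.replicate 52 1) := by decide +kernel

theorem idP_eq : idP = pk ((List.range 52).map fun i => 2 ^ i) := by decide +kernel

theorem testBit_lowBits (k : ℕ) : lowBits.testBit k = (decide (k / 52 < 52) && decide (k % 52 = 0)) := by
  rw [lowBits_eq, testBit_pk _ (fun v hv => by rw [List.eq_of_mem_replicate hv]; norm_num)]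
  by_cases h : k / 52 < 52
  · rw [List.getD_eq_getElem _ _ (by simpa using h), List.getElem_replicate, testBit_one']
    simp [h, eq_comm]
  · rw [List.getD_eq_default _ _ (by simpa using h), Nat.zero_testBit]
    simp [h]

theorem testBit_idP {i j : ℕ} (hi : i < 52) (hj : j < 52) :
    idP.testBit (52 * j + i) = decide (i = j) := by
  rw [idP_eq, testBit_pk _ (fun v hv => by
    obtain ⟨a, ha, rfl⟩ := List.mem_map.1 hv
    exact Nat.pow_lt_pow_right (by norm_num) (List.mem_range.1 ha)),
    show (52 * j + i) / 52 = j by omega, show (52 * j + i) % 52 = i by omega,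
    List.getD_eq_getElem _ _ (by simpa using hj), List.getElem_map, List.getElem_range,
    Nat.testBit_two_pow]
  simp [eq_comm]

theorem selP_eq (B i : ℕ) :
    selP B i = pk ((List.range 52).map fun j => (B.testBit (52 * j + i)).toNat) := by
  have hlt : ∀ v ∈ (List.range 52).map (fun j => (B.testBit (52 * j + i)).toNat), v < 2 ^ 52 :=
    fun v hv => by
    obtain ⟨j, -, rfl⟩ := List.mem_map.1 hv
    exact lt_of_le_of_lt (Bool.toNat_le _) (by norm_num)
  refine Nat.eq_of_testBit_eq fun k => ?_
  rw [selP, Nat.testBit_and, testBit_lowBits, Nat.testBit_shiftRight, testBit_pk _ hlt]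
  by_cases h : k / 52 < 52
  · rw [List.getD_eq_getElem _ _ (by simpa using h), List.getElem_map, List.getElem_range]
    by_cases h0 : k % 52 = 0
    · rw [show i + k = 52 * (k / 52) + i by omega, h0]
      cases B.testBit (52 * (k / 52) + i) <;> simp [h]
    · have : (B.testBit (52 * (k / 52) + i)).toNat.testBit (k % 52) = false := by
        cases B.testBit (52 * (k / 52) + i) <;> simp [testBit_one', h0]
      rw [this]
      simp [h0]
  · rw [List.getD_eq_default _ _ (by simpa using h)]
    simp [h]

theorem testBit_selP (B i : ℕ) (k : ℕ) (h : (selP B i).testBit k = true) :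
    k % 52 = 0 ∧ k / 52 < 52 ∧ B.testBit (52 * (k / 52) + i) = true := by
  rw [selP, Nat.testBit_and, testBit_lowBits, Nat.testBit_shiftRight] at h
  simp only [Bool.and_eq_true, decide_eq_true_eq] at h
  obtain ⟨h1, h2, h3⟩ := h
  exact ⟨h3, h2, by rw [show 52 * (k / 52) + i = i + k by omega]; exact h1⟩

theorem testBit_selP_mul (B i : ℕ) {c : ℕ} (hc : c < 2 ^ 52) {a j : ℕ} (ha : a < 52) (hj : j < 52) :
    (selP B i * c).testBit (52 * j + a) = (B.testBit (52 * j + i) && c.testBit a) := by
  rw [selP_eq, pk_mul, testBit_pk _ (fun v hv => by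
    simp only [List.map_map, List.mem_map] at hv
    obtain ⟨x, -, rfl⟩ := hv
    exact lt_of_le_of_lt (by simp only [Function.comp_apply]; exact (Nat.mul_le_mul_right c
      (Bool.toNat_le _)).trans (le_of_eq (one_mul c))) hc),
    show (52 * j + a) / 52 = j by omega, show (52 * j + a) % 52 = a by omega,
    List.getD_eq_getElem _ _ (by simpa using hj), List.getElem_map, List.getElem_map,
    List.getElem_range]
  cases B.testBit (52 * j + i) <;> simp

theorem colP_lt (A i : ℕ) : colP A i < 2 ^ 52 := Nat.mod_lt _ (by norm_num)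

theorem testBit_colP (A i : ℕ) {a : ℕ} (ha : a < 52) :
    (colP A i).testBit a = A.testBit (52 * i + a) := by
  rw [colP, Nat.testBit_mod_two_pow, Nat.testBit_shiftRight]
  simp [ha]

theorem ix_lt52 (a : chevF4.Idx) : ix chevF4 a < 52 := by
  rcases a with a | a
  · rw [ix_inl]; exact lt_of_lt_of_le a.isLt (by decide +kernel)
  · rw [ix_inr]; exact lt_of_lt_of_le (Nat.add_lt_add_left a.isLt _) (by decide +kernel)

/-- Coordinates as numbers below 52. -/
noncomputable def ixF (a : chevF4.Idx) : Fin 52 := ⟨ix chevF4 a, ix_lt52 a⟩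

theorem ixF_bijective : Function.Bijective ixF := by
  refine (Fintype.bijective_iff_injective_and_card _).mpr
    ⟨fun a b h => ix_injective chevF4 (congrArg Fin.val h), ?_⟩
  rw [Fintype.card_sum, Fintype.card_fin, Fintype.card_fin, Fintype.card_fin]
  decide +kernel

/-- A bit as a scalar. -/
def bit (b : Bool) : ZMod 2 := bif b then 1 else 0

@[simp] theorem bit_true : bit true = 1 := rfl
@[simp] theorem bit_false : bit false = 0 := rfl

theorem bit_xor (a b : Bool) : bit (a ^^ b) = bit a + bit b := by revert a b; decide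

theorem bit_and (a b : Bool) : bit (a && b) = bit a * bit b := by revert a b; decide

theorem bit_injective : Function.Injective bit := by decide

/-- The matrix of a number. -/
noncomputable def matP (A : ℕ) : Matrix chevF4.Idx chevF4.Idx (ZMod 2) :=
  Matrix.of fun a b => bit (A.testBit (52 * ix chevF4 b + ix chevF4 a))

theorem matP_apply (A : ℕ) (a b : chevF4.Idx) :
    matP A a b = bit (A.testBit (52 * ix chevF4 b + ix chevF4 a)) := rfl

theorem matP_xor (A B : ℕ) : matP (A ^^^ B) = matP A + matP B := by
  ext a b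
  rw [Matrix.add_apply, matP_apply, matP_apply, matP_apply, Nat.testBit_xor, bit_xor]

theorem matP_zero : matP 0 = 0 := by
  ext a b; simp [matP_apply]

theorem matP_idP : matP idP = 1 := by
  ext a b
  rw [matP_apply, testBit_idP (ix_lt52 a) (ix_lt52 b), Matrix.one_apply]
  by_cases h : a = b
  · simp [h]
  · have : ix chevF4 a ≠ ix chevF4 b := fun e => h (ix_injective chevF4 e)
    simp [h, this]

theorem matP_mod (A : ℕ) : matP (A % 2 ^ 2704) = matP A := by
  ext a b
  rw [matP_apply, matP_apply, Nat.testBit_mod_two_pow]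
  have := ix_lt52 a; have := ix_lt52 b
  simp [show 52 * ix chevF4 b + ix chevF4 a < 2704 by omega]

theorem matP_mulP (A B : ℕ) : matP (mulP A B) = matP A * matP B := by
  ext a b
  have key : ∀ n : ℕ, ∀ l : List ℕ, l = List.range' n (52 - n) → n ≤ 52 →
      bit ((List.rec (motive := fun _ => ℕ) 0 (fun i _ ih => ih ^^^ (selP B i * colP A i)) l).testBit
        (52 * ix chevF4 b + ix chevF4 a)) =
      ∑ i ∈ Finset.Ico n 52, bit (A.testBit (52 * i + ix chevF4 a)) *
        bit (B.testBit (52 * ix chevF4 b + i)) := by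
    intro n l
    induction l generalizing n with
    | nil =>
      intro h hn
      have : n = 52 := by
        have := congrArg List.length h
        simp at this; omega
      subst this
      simp
    | cons i l ih =>
      intro h hn
      have hlt : n < 52 := by
        by_contra hh
        rw [show 52 - n = 0 by omega] at h
        simp at h
      rw [show 52 - n = 52 - (n + 1) + 1 by omega, List.range'_succ, List.cons.injEq] at h
      obtain ⟨rfl, h2⟩ := h
      rw [Finset.sum_eq_sum_Ico_succ_bot hlt]
      show bit ((_ ^^^ _ : ℕ).testBit _) = _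
      rw [Nat.testBit_xor, bit_xor, ih (i + 1) h2 (by omega),
        testBit_selP_mul B i (colP_lt A i) (ix_lt52 a) (ix_lt52 b), bit_and,
        testBit_colP A i (ix_lt52 a)]
      ring
  rw [matP_apply, mulP, key 0 (upto 52) (by rw [upto_eq, List.range_eq_range']) (by norm_num),
    Matrix.mul_apply, ← Finset.range_eq_Ico, Finset.sum_range]
  refine (Fintype.sum_bijective ixF ixF_bijective _ _ fun c => ?_).symm
  rw [matP_apply, matP_apply]
  rfl

theorem matP_ne {A B : ℕ} (h : neP A B = true) : matP A ≠ matP B := by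
  intro he
  rw [neP, Bool.not_eq_true'] at h
  have h0 : (A ^^^ B) % 2 ^ 2704 ≠ 0 := fun e => by rw [e] at h; exact Bool.noConfusion h
  obtain ⟨k, hk⟩ := Nat.exists_testBit_of_ne_zero h0
  rw [Nat.testBit_mod_two_pow, Bool.and_eq_true, decide_eq_true_eq, Nat.testBit_xor] at hk
  obtain ⟨a, ha⟩ := ixF_bijective.2 ⟨k % 52, Nat.mod_lt _ (by norm_num)⟩
  obtain ⟨b, hb⟩ := ixF_bijective.2 ⟨k / 52, by omega⟩
  have h' := congrFun (congrFun he a) b
  rw [matP_apply, matP_apply, show ix chevF4 a = k % 52 from congrArg Fin.val ha,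
    show ix chevF4 b = k / 52 from congrArg Fin.val hb, Nat.div_add_mod] at h'
  rw [bit_injective h'] at hk
  simp at hk

/-- The lowest bit. -/
theorem lowBit : ∀ z : ℕ, z ≠ 0 → ∃ k, z ^^^ (z &&& (z - 1)) = 2 ^ k ∧ z.testBit k = true := by
  intro z
  induction z using Nat.strong_induction_on with
  | _ z ih =>
    intro hz
    rcases Nat.even_or_odd' z with ⟨y, rfl | rfl⟩
    · obtain ⟨k, hk, hk'⟩ := ih y (by omega) (by omega)
      refine ⟨k + 1, ?_, ?_⟩
      · refine Nat.eq_of_testBit_eq fun i => ?_
        cases i with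
        | zero => simp [Nat.testBit_zero, Nat.pow_succ]
        | succ i =>
          rw [Nat.testBit_xor, Nat.testBit_and, Nat.testBit_succ, Nat.testBit_succ,
            show 2 * y / 2 = y by omega, show (2 * y - 1) / 2 = y - 1 by omega, ← Nat.testBit_and,
            ← Nat.testBit_xor, hk, Nat.testBit_two_pow, Nat.testBit_two_pow]
          simp
      · rw [Nat.testBit_succ, show 2 * y / 2 = y by omega]; exact hk'
    · refine ⟨0, ?_, by simp [Nat.testBit_zero]⟩
      refine Nat.eq_of_testBit_eq fun i => ?_
      cases i with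
      | zero =>
        rw [Nat.testBit_xor, Nat.testBit_and, Nat.testBit_zero, Nat.testBit_zero, Nat.testBit_zero]
        simp
      | succ i =>
        rw [Nat.testBit_xor, Nat.testBit_and, Nat.testBit_succ, Nat.testBit_succ,
          show (2 * y + 1) / 2 = y by omega, show (2 * y + 1 - 1) / 2 = y by omega]
        simp [testBit_one']

theorem elimP_le (ps : List ℕ) (hps : ∀ s ∈ ps, s < 52) :
    ∀ (A : ℕ) (W : Submodule (ZMod 2) (chevF4.Idx → ZMod 2)), (∀ b, (matP A).col b ∈ W) →
      elimP ps A ≤ Module.finrank (ZMod 2) ↥W := by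
  induction ps with
  | nil => intro A W _; exact Nat.zero_le _
  | cons s ps ih =>
    intro A W hW
    have ih := ih fun x hx => hps x (List.mem_cons_of_mem _ hx)
    have hs := hps s List.mem_cons_self
    show (bif Nat.beq (selP A s) 0 then elimP ps A
      else elimP ps (A ^^^ (selP A s * ((A / (selP A s ^^^ (selP A s &&& (selP A s - 1)))) % 2 ^ 52))) + 1) ≤ _
    cases hz : Nat.beq (selP A s) 0 with
    | true => exact ih A W hW
    | false =>
      simp only [cond_false]
      obtain ⟨k, hk, hk'⟩ := lowBit (selP A s) (fun e => by rw [e] at hz; exact Bool.noConfusion hz)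
      obtain ⟨hk0, hk52, hbit⟩ := testBit_selP A s k hk'
      set j := k / 52 with hj
      have hkj : k = 52 * j := by omega
      have hv : A / (selP A s ^^^ (selP A s &&& (selP A s - 1))) % 2 ^ 52 = colP A j := by
        rw [hk, colP, Nat.shiftRight_eq_div_pow, hkj]
      rw [hv]
      obtain ⟨b₀, hb₀⟩ := ixF_bijective.2 ⟨j, hk52⟩
      obtain ⟨a₀, ha₀⟩ := ixF_bijective.2 ⟨s, hs⟩
      have hb₀' : ix chevF4 b₀ = j := congrArg Fin.val hb₀
      have ha₀' : ix chevF4 a₀ = s := congrArg Fin.val ha₀
      set B := A ^^^ (selP A s * colP A j) with hB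
      have hcol : ∀ b a, matP B a b =
          matP A a b + matP A a₀ b * matP A a b₀ := by
        intro b a
        rw [hB, matP_xor, Matrix.add_apply, matP_apply (selP A s * colP A j),
          testBit_selP_mul A s (colP_lt A j) (ix_lt52 a) (ix_lt52 b), bit_and,
          testBit_colP A j (ix_lt52 a), matP_apply A a₀ b, matP_apply A a b₀, ha₀', hb₀']
      have hone : matP A a₀ b₀ = 1 := by rw [matP_apply, ha₀', hb₀', hbit]; rfl
      set W' := W ⊓ (LinearMap.proj (R := ZMod 2) (φ := fun _ : chevF4.Idx => ZMod 2) a₀).ker with hW'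
      have hin : ∀ b, (matP B).col b ∈ W' := by
        intro b
        have he : (matP B).col b = (matP A).col b + matP A a₀ b • (matP A).col b₀ := by
          funext a; simp [Matrix.col_apply, hcol]
        refine Submodule.mem_inf.2 ⟨he ▸ W.add_mem (hW b) (W.smul_mem _ (hW b₀)), ?_⟩
        rw [LinearMap.mem_ker, LinearMap.proj_apply, Matrix.col_apply, hcol, hone, mul_one]
        exact CharTwo.add_self_eq_zero _
      have hlt : W' < W := by
        refine lt_of_le_of_ne inf_le_left fun e => ?_
        have h0 := (Submodule.mem_inf.1 (e.symm ▸ hW b₀ : (matP A).col b₀ ∈ W')).2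
        rw [LinearMap.mem_ker, LinearMap.proj_apply, Matrix.col_apply, hone] at h0
        exact one_ne_zero h0
      have := Submodule.finrank_lt_finrank_of_lt hlt
      have := ih B W' hin
      omega

theorem rankP_le (x : ℕ) : rankP x ≤ (matP x - 1).rank := by
  rw [rankP]
  refine elimP_le _ (fun s hs => by rwa [upto_eq, List.mem_range] at hs) _ _ fun b => ?_
  refine ⟨Pi.single b 1, ?_⟩
  rw [Matrix.mulVecLin_apply, Matrix.mulVec_single_one, matP_xor, matP_idP]
  congr 1
  rw [sub_eq_add_neg, show -(1 : Matrix chevF4.Idx chevF4.Idx (ZMod 2)) = 1 from ?_]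
  exact neg_eq_of_add_eq_zero_left (by ext i j; simp [CharTwo.add_self_eq_zero])

theorem elimP_le_rank (K : ℕ) : elimP (upto 52) K ≤ (matP K).rank :=
  elimP_le _ (fun s hs => by rwa [upto_eq, List.mem_range] at hs) _ _ fun b =>
    ⟨Pi.single b 1, by rw [Matrix.mulVecLin_apply, Matrix.mulVec_single_one]⟩

end CfsgLib.Chev.Tits
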