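import Cfsg.Agent.Lib.Chev.TitsDefs
import Cfsg.Prelude.Def_ChevF4

/-!
# Word identities in `²F₄(2)`
-/

set_option autoImplicit false
set_option maxRecDepth 100000
set_option maxHeartbeats 0

namespace CfsgLib.Chev.Tits

open Cfsg.Lie

/-- A word in root elements has the given matrix. -/
noncomputable def rootsEq (rs : List ℕ) (M : ℕ) : Bool :=
  allR (fun r => Nat.blt r 48) rs &&
  allR (fun j => allR (fun i => Nat.beq
    ((coef (wordP chevF4 2 (mapR (fun r => (r, (1 : ℤ))) rs) [(j, 1)]) i % 2).toNat)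
    ((M >>> (52 * j + i)) % 2)) (upto 52)) (upto 52)

/-- The five letters, the unit and the other generating words. -/
noncomputable def checkLetters : Bool :=
  allR (fun k => rootsEq (letRoots.getD k []) (letTab.getD k 0)) (upto 5) && rootsEq [] idP &&
  rootsEq [28, 30] (evalP [2, 2]) && rootsEq [27, 25, 30] (evalP [2, 2, 2]) &&
  rootsEq [19, 17] (evalP [3, 3]) && rootsEq [20, 22, 17] (evalP [3, 3, 3])

/-- The orders and relations of the letters. -/
noncomputable def checkAb : Bool :=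
  Nat.beq (evalP [0, 0]) idP && Nat.beq (evalP [1, 1]) idP && Nat.beq (evalP [2, 2, 2, 2]) idP &&
  Nat.beq (evalP [0, 1, 0]) (evalP [1, 0, 1]) &&
  Nat.beq (evalP [0, 1, 0, 2, 0, 1, 0]) (evalP [4]) &&
  Nat.beq (evalP [2, 3, 3, 2]) (evalP [3, 2, 3, 3]) &&
  Nat.beq (evalP [0, 1, 0, 2, 0, 1, 3]) (evalP [3, 1, 0, 2, 0, 1]) &&
  Nat.beq (evalP [1, 2, 2, 0, 2, 0, 2, 2, 0, 2]) (evalP [0, 2, 0, 2, 0, 2, 0, 1, 2, 0]) &&
  allR (fun w => allR (fun k => Nat.beq k 0 || Nat.beq k 2 || Nat.beq k 4) w) pcWord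

theorem checkLetters_ok : checkLetters = true := by decide +kernel
theorem checkAb_ok : checkAb = true := by decide +kernel

end CfsgLib.Chev.Tits
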