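import Mathlib

/-!
# A transfer argument to a subgroup of index two
-/

set_option autoImplicit false

namespace CfsgLib.Chev

open MonoidHom MulAction in
/-- An element of order dividing four whose conjugates avoid a subgroup of index two of a
subgroup of odd index, while those of its square lie in it. -/
theorem not_mem_commutator_of_conj {G : Type*} [Group G] [Finite G] {U H : Subgroup G}
    (hidx : (H.subgroupOf U).index = 2) (hodd : Odd U.index) {c : G} (hc : c ^ 4 = 1)
    (h1 : ∀ g : G, g * c * g⁻¹ ∈ U → g * c * g⁻¹ ∉ H)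
    (h2 : ∀ g : G, g * (c * c) * g⁻¹ ∈ U → g * (c * c) * g⁻¹ ∈ H) : c ∉ commutator G := by
  classical
  let φ : ↥U →* Multiplicative (ZMod 2) :=
    { toFun := fun x => if x ∈ H.subgroupOf U then 1 else Multiplicative.ofAdd 1
      map_one' := if_pos (one_mem _)
      map_mul' := fun x y => by
        have h := Subgroup.mul_mem_iff_of_index_two hidx (a := x) (b := y)
        by_cases hx : x ∈ H.subgroupOf U <;> by_cases hy : y ∈ H.subgroupOf U <;>
          simp only [hx, hy, h, if_true, if_false] <;> decide }
  intro hmem
  have hV : transfer φ c = 1 :=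
    MonoidHom.mem_ker.1 (Abelianization.commutator_subset_ker (transfer φ) hmem)
  have : Fintype (Quotient (orbitRel (Subgroup.zpowers c) (G ⧸ U))) := Fintype.ofFinite _
  rw [transfer_eq_prod_quotient_orbitRel_zpowers_quot] at hV
  set per : Quotient (orbitRel (Subgroup.zpowers c) (G ⧸ U)) → ℕ :=
    fun q => Function.minimalPeriod (c • ·) q.out with hperdef
  have hper : ∀ q, per q = 1 ∨ per q = 2 ∨ per q = 4 := by
    intro q
    have h : per q ∣ 4 := by
      refine Function.IsPeriodicPt.minimalPeriod_dvd ?_
      show (c • ·)^[4] _ = _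
      rw [smul_iterate]
      show c ^ 4 • q.out = q.out
      rw [hc, one_smul]
    have := Nat.le_of_dvd (by norm_num) h
    interval_cases hq : per q <;> simp_all
  have hterm : ∀ q, φ ⟨q.out.out⁻¹ * c ^ Function.minimalPeriod (c • ·) q.out * q.out.out,
      QuotientGroup.out_conj_pow_minimalPeriod_mem U c q.out⟩ =
      if per q = 1 then Multiplicative.ofAdd 1 else 1 := by
    intro q
    have hm := QuotientGroup.out_conj_pow_minimalPeriod_mem U c q.out
    show (if _ ∈ H.subgroupOf U then _ else _) = _
    simp only [Subgroup.mem_subgroupOf]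
    set g := q.out.out⁻¹ with hg
    have hgi : q.out.out = g⁻¹ := by rw [hg, inv_inv]
    change g * c ^ per q * q.out.out ∈ U at hm
    show (if g * c ^ per q * q.out.out ∈ H then _ else _) = _
    rw [hgi] at hm ⊢
    rcases hper q with e | e | e <;> rw [e] at hm ⊢
    · rw [pow_one] at hm ⊢
      rw [if_neg (h1 g hm), if_pos rfl]
    · rw [sq] at hm ⊢
      rw [if_pos (h2 g hm), if_neg (by norm_num)]
    · rw [hc, mul_one, mul_inv_cancel, if_pos H.one_mem, if_neg (by norm_num)]
  simp only [hterm, Finset.prod_ite, Finset.prod_const, one_pow, mul_one] at hV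
  set n := (Finset.univ.filter fun q => per q = 1).card with hn
  have hn2 : 2 ∣ n := by
    have h := congrArg Multiplicative.toAdd hV
    simp only [toAdd_pow, toAdd_ofAdd, toAdd_one, nsmul_eq_mul, mul_one] at h
    exact (ZMod.natCast_eq_zero_iff n 2).1 h
  have hsum : U.index = ∑ q, per q := Subgroup.index_eq_sum_minimalPeriod U c
  rw [← Finset.sum_filter_add_sum_filter_not Finset.univ (fun q => per q = 1)] at hsum
  rw [Finset.sum_congr rfl (g := fun _ => 1) (fun q hq => (Finset.mem_filter.1 hq).2),
    Finset.sum_const, smul_eq_mul, mul_one] at hsum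
  have heven : 2 ∣ ∑ q ∈ Finset.univ.filter (fun q => ¬ per q = 1), per q :=
    Finset.dvd_sum fun q hq => by
      rcases hper q with e | e | e
      · exact absurd e (Finset.mem_filter.1 hq).2
      · rw [e]
      · rw [e]; norm_num
  rw [Nat.odd_iff] at hodd
  omega

end CfsgLib.Chev
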