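import Mathlib
import Cfsg.Agent.Lib.Chev.TitsPack
import Cfsg.Agent.Lib.Chev.TitsWords
import Cfsg.Agent.Lib.Chev.TitsCheck
import Cfsg.Agent.Lib.Chev.TransferTwo
import Cfsg.Agent.Lib.Chev.TwistFGPerfect
import Cfsg.Agent.Lib.Chev.IndexTwoSimple

/-!
# The Tits group
-/

set_option autoImplicit false
set_option maxRecDepth 100000
set_option maxHeartbeats 1000000

namespace CfsgLib.Chev.Tits

open Cfsg.Lie


/-- A product of root elements with parameters one. -/
noncomputable def gR (rs : List ℕ) : GL chevF4.Idx (ZMod 2) :=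
  (rs.map fun r => goodF4.xG r (1 : ZMod 2)).prod

theorem mod_two (c : ℤ) : (c : ZMod 2) = bit (decide ((c % 2).toNat = 1)) := by
  rcases Int.emod_two_eq_zero_or_one c with h | h
  · rw [h]; exact (ZMod.intCast_zmod_eq_zero_iff_dvd c 2).2 (Int.dvd_of_emod_eq_zero h)
  · rw [h]
    have := ZMod.intCast_mod c 2
    rw [Nat.cast_two, h] at this
    rw [← this]; rfl

/-- A table is the matrix of its word. -/
theorem rootsEq_spec {rs : List ℕ} {M : ℕ} (h : rootsEq rs M = true) :
    (gR rs : Matrix chevF4.Idx chevF4.Idx (ZMod 2)) = matP M := by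
  rw [rootsEq, Bool.and_eq_true] at h
  have hlt : ∀ r ∈ rs, r < chevF4.nroots := fun r hr =>
    lt_of_lt_of_le (Nat.blt_eq.mp (allR_true h.1 hr)) (by decide +kernel)
  refine Matrix.ext fun a b => ?_
  have hv : ∀ q ∈ ([(ix chevF4 b, 1)] : SVec), q.1 ∈ Set.range (ix chevF4) := fun q hq => by
    rw [List.mem_singleton] at hq
    exact hq ▸ ⟨b, rfl⟩
  have hsingle : svecVal chevF4 (ZMod 2) [(ix chevF4 b, 1)] = Pi.single b 1 := by
    funext c
    by_cases hc : c = b
    · subst hc; simp [svecVal, coef_cons, coef_nil]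
    · have hne : ix chevF4 b ≠ ix chevF4 c := fun e => hc (ix_injective chevF4 e).symm
      simp [svecVal, coef_cons, coef_nil, hne, hc]
  have hs := congrFun (goodF4.wordP_spec (F := ZMod 2) (p := 2) (rs.map fun r => (r, (1 : ℤ)))
    (fun x hx => by obtain ⟨r, hr, rfl⟩ := List.mem_map.1 hx; exact hlt r hr) _ hv).2 a
  rw [hsingle, Matrix.mulVec_single_one, List.map_map] at hs
  have hcell := Nat.eq_of_beq_eq_true (allR_upto (allR_upto h.2 (ix_lt52 b)) (ix_lt52 a))
  rw [mapR_eq] at hcell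
  have e : (gR rs : Matrix chevF4.Idx chevF4.Idx (ZMod 2)) a b =
      ((coef (wordP chevF4 2 (rs.map fun r => (r, (1 : ℤ))) [(ix chevF4 b, 1)]) (ix chevF4 a) : ℤ) :
        ZMod 2) := by
    refine Eq.trans ?_ hs.symm
    simp only [gR, Function.comp_def, Int.cast_one, Matrix.col_apply]
  rw [e, mod_two, hcell, matP_apply, Nat.testBit_eq_decide_div_mod_eq, Nat.shiftRight_eq_div_pow]

/-- A letter. -/
noncomputable def Lt (k : ℕ) : GL chevF4.Idx (ZMod 2) := gR (letRoots.getD k [])

/-- A word in the letters. -/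
noncomputable def gW (w : List ℕ) : GL chevF4.Idx (ZMod 2) := (w.map Lt).prod

theorem letters : (∀ k < 5, (Lt k : Matrix chevF4.Idx chevF4.Idx (ZMod 2)) = matP (letTab.getD k 0)) ∧
    rootsEq [] idP = true ∧ rootsEq [28, 30] (evalP [2, 2]) = true ∧
    rootsEq [27, 25, 30] (evalP [2, 2, 2]) = true ∧ rootsEq [19, 17] (evalP [3, 3]) = true ∧
    rootsEq [20, 22, 17] (evalP [3, 3, 3]) = true := by
  have h := checkLetters_ok
  simp only [checkLetters, Bool.and_eq_true] at h
  obtain ⟨⟨⟨⟨⟨h1, h2⟩, h3⟩, h4⟩, h5⟩, h6⟩ := h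
  exact ⟨fun k hk => rootsEq_spec (allR_upto h1 hk), h2, h3, h4, h5, h6⟩

theorem gW_spec : ∀ w : List ℕ, (∀ k ∈ w, k < 5) →
    (gW w : Matrix chevF4.Idx chevF4.Idx (ZMod 2)) = matP (evalP w) := by
  intro w
  induction w with
  | nil => intro _; exact (rootsEq_spec letters.2.1)
  | cons k w ih =>
    intro hw
    show ((Lt k * gW w : GL chevF4.Idx (ZMod 2)) : Matrix chevF4.Idx chevF4.Idx (ZMod 2)) = _
    rw [Units.val_mul, ih (fun x hx => hw x (List.mem_cons_of_mem _ hx)),
      letters.1 k (hw k List.mem_cons_self)]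
    exact (matP_mulP _ _).symm

theorem gW_eq {v w : List ℕ} (hv : ∀ k ∈ v, k < 5) (hw : ∀ k ∈ w, k < 5)
    (h : Nat.beq (evalP v) (evalP w) = true) : gW v = gW w :=
  Units.ext (by rw [gW_spec v hv, gW_spec w hw, Nat.eq_of_beq_eq_true h])

/-- The relations of the letters. -/
theorem rels : gW [0, 0] = 1 ∧ gW [1, 1] = 1 ∧ gW [2, 2, 2, 2] = 1 ∧ gW [0, 1, 0] = gW [1, 0, 1] ∧
    gW [0, 1, 0, 2, 0, 1, 0] = gW [4] ∧ gW [2, 3, 3, 2] = gW [3, 2, 3, 3] ∧
    gW [0, 1, 0, 2, 0, 1, 3] = gW [3, 1, 0, 2, 0, 1] ∧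
    gW [1, 2, 2, 0, 2, 0, 2, 2, 0, 2] = gW [0, 2, 0, 2, 0, 2, 0, 1, 2, 0] ∧
    ∀ k, ∀ x ∈ pcWord.getD k [], x = 0 ∨ x = 2 ∨ x = 4 := by
  have h := checkAb_ok
  simp only [checkAb, Bool.and_eq_true] at h
  obtain ⟨⟨⟨⟨⟨⟨⟨⟨h1, h2⟩, h3⟩, h4⟩, h5⟩, h6⟩, h7⟩, h8⟩, h9⟩ := h
  refine ⟨gW_eq (w := []) (by simp) (by simp) h1, gW_eq (w := []) (by simp) (by simp) h2,
    gW_eq (w := []) (by simp) (by simp) h3, gW_eq (by simp) (by simp) h4, gW_eq (by simp) (by simp) h5,
    gW_eq (by simp) (by simp) h6, gW_eq (by simp) (by simp) h7, gW_eq (by simp) (by simp) h8,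
    fun k x hx => ?_⟩
  by_cases hk : k < pcWord.length
  · rw [List.getD_eq_getElem _ _ hk] at hx
    have := allR_true (allR_true h9 (List.getElem_mem hk)) hx
    simpa [Bool.or_eq_true, Nat.beq_eq, or_assoc] using this
  · rw [List.getD_eq_default _ _ (by omega)] at hx
    simp at hx

/-- A chain generator. -/
noncomputable def pW (k : ℕ) : GL chevF4.Idx (ZMod 2) := gW (pcWord.getD k [])

theorem pW_spec (k : ℕ) : (pW k : Matrix chevF4.Idx chevF4.Idx (ZMod 2)) = matP (genP k) :=
  gW_spec _ fun x hx => by rcases rels.2.2.2.2.2.2.2.2 k x hx with h | h | h <;> omega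

theorem prodP_spec : ∀ w : List ℕ,
    (((w.map pW).prod : GL chevF4.Idx (ZMod 2)) : Matrix chevF4.Idx chevF4.Idx (ZMod 2)) = matP (prodP w) := by
  intro w
  induction w with
  | nil => exact matP_idP.symm
  | cons k w ih =>
    rw [List.map_cons, List.prod_cons, Units.val_mul, ih, pW_spec]
    exact (matP_mulP _ _).symm

/-- The subgroups of the chain. -/
noncomputable def chain (k : ℕ) : Subgroup (GL chevF4.Idx (ZMod 2)) :=
  Subgroup.closure (pW '' {j | k ≤ j ∧ j < 12})

theorem chain_mono {j k : ℕ} (h : k ≤ j) (hj : j < 12) : pW j ∈ chain k :=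
  Subgroup.subset_closure ⟨j, ⟨h, hj⟩, rfl⟩

theorem tables_ok : ∀ k : Fin 12, (∀ x ∈ pcSq.getD k.val [], k.val < x ∧ x < 12) ∧
    ∀ j : Fin (11 - k.val), ∀ x ∈ (pcConj.getD k.val []).getD j.val [], k.val < x ∧ x < 12 := by
  decide +kernel

theorem elems_cons (k : ℕ) (ks : List ℕ) :
    elemsP (k :: ks) = elemsP ks ++ (elemsP ks).map (fun t => mulP (genP k) t) := by
  show appR _ (mapR _ _) = _
  rw [appR_eq, mapR_eq]; rfl

theorem elems_nil : elemsP [] = [idP] := rfl

attribute [local irreducible] Lt matP mulP evalP prodP elemsP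

theorem chain_spec : ∀ n k, k + n = 12 → Nat.card ↥(chain k) = 2 ^ n ∧
    ∀ g ∈ chain k, ∃ x ∈ elemsP (List.range' k n),
      (g : Matrix chevF4.Idx chevF4.Idx (ZMod 2)) = matP x := by
  intro n
  induction n with
  | zero =>
    intro k hk
    have hb : chain k = ⊥ := by
      rw [chain, Subgroup.closure_eq_bot_iff]
      rintro x ⟨j, ⟨h1, h2⟩, rfl⟩
      omega
    refine ⟨by rw [hb, Subgroup.card_bot, pow_zero], fun g hg => ⟨idP, by rw [List.range'_zero, elems_nil]; exact List.mem_singleton.2 rfl, ?_⟩⟩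
    rw [hb, Subgroup.mem_bot] at hg
    rw [hg, Units.val_one, matP_idP]
  | succ n ih =>
    intro k hk
    obtain ⟨hcard, hel⟩ := ih (k + 1) (by omega)
    generalize hT : chain (k + 1) = T at hcard hel
    generalize hu : pW k = u
    have hk12 : k < 12 := by omega
    have hrel := allR_upto checkRel_ok hk12
    rw [Bool.and_eq_true] at hrel
    obtain ⟨hsqt, hcjt⟩ := tables_ok ⟨k, hk12⟩
    have hmemT : ∀ w : List ℕ, (∀ x ∈ w, k < x ∧ x < 12) → (w.map pW).prod ∈ T := fun w hw =>
      Subgroup.list_prod_mem T fun y hy => by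
        obtain ⟨x, hx, rfl⟩ := List.mem_map.1 hy
        exact hT ▸ chain_mono (hw x hx).1 (hw x hx).2
    have hsq : u * u ∈ T := by
      have e : u * u = ((pcSq.getD k []).map pW).prod := by
        rw [← hu, pW, show gW (pcWord.getD k []) * gW (pcWord.getD k []) =
          gW (pcWord.getD k [] ++ pcWord.getD k []) by simp [gW, List.map_append, List.prod_append]]
        refine Units.ext ?_
        rw [gW_spec _ (fun x hx => ?_), Nat.eq_of_beq_eq_true hrel.1, prodP_spec]
        rcases List.mem_append.1 hx with h | h <;>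
          rcases rels.2.2.2.2.2.2.2.2 k x h with h | h | h <;> omega
      rw [e]; exact hmemT _ hsqt
    have hconj : ∀ t ∈ T, u⁻¹ * t * u ∈ T := by
      intro t ht
      rw [← hT, chain] at ht
      induction ht using Subgroup.closure_induction with
      | mem x hx =>
        obtain ⟨j, ⟨hj1, hj2⟩, rfl⟩ := hx
        have hj : j - (k + 1) < 11 - k := by omega
        have h := Nat.eq_of_beq_eq_true (allR_upto hrel.2 hj)
        rw [show k + 1 + (j - (k + 1)) = j by omega] at h
        have e : pW j * u = u * (((pcConj.getD k []).getD (j - (k + 1)) []).map pW).prod := by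
          refine Units.ext ?_
          rw [Units.val_mul, Units.val_mul, prodP_spec, ← hu, pW_spec, pW_spec, ← matP_mulP, h, matP_mulP]
        rw [mul_assoc, e, inv_mul_cancel_left]
        exact hmemT _ (hcjt ⟨_, hj⟩)
      | one => simp
      | mul a b _ _ ha hb =>
        rw [show u⁻¹ * (a * b) * u = (u⁻¹ * a * u) * (u⁻¹ * b * u) by group]
        exact mul_mem ha hb
      | inv a _ ha =>
        rw [show u⁻¹ * a⁻¹ * u = (u⁻¹ * a * u)⁻¹ by group]
        exact inv_mem ha
    have hTfin : Finite ↥T := Nat.finite_of_card_ne_zero (by rw [hcard]; positivity)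
    have hconj' : ∀ t ∈ T, u * t * u⁻¹ ∈ T := fun t ht => by
      rw [show u * t * u⁻¹ = (u * u) * (u⁻¹ * t * u) * (u * u)⁻¹ by group]
      exact mul_mem (mul_mem hsq (hconj t ht)) (inv_mem hsq)
    -- the union of two cosets
    let M : Subgroup (GL chevF4.Idx (ZMod 2)) :=
      { carrier := {g | g ∈ T ∨ u⁻¹ * g ∈ T}
        one_mem' := Or.inl (one_mem _)
        mul_mem' := by
          rintro a b (ha | ha) (hb | hb)
          · exact Or.inl (mul_mem ha hb)
          · refine Or.inr ?_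
            rw [show u⁻¹ * (a * b) = (u⁻¹ * a * u) * (u⁻¹ * b) by group]
            exact mul_mem (hconj a ha) hb
          · refine Or.inr ?_
            rw [← mul_assoc]; exact mul_mem ha hb
          · refine Or.inl ?_
            rw [show a * b = (u * u) * ((u⁻¹ * (u⁻¹ * a) * u) * (u⁻¹ * b)) by group]
            exact mul_mem hsq (mul_mem (hconj _ ha) hb)
        inv_mem' := by
          rintro a (ha | ha)
          · exact Or.inl (inv_mem ha)
          · refine Or.inr ?_
            rw [show u⁻¹ * a⁻¹ = (u * u)⁻¹ * (u * (u⁻¹ * a)⁻¹ * u⁻¹) by group]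
            exact mul_mem (inv_mem hsq) (hconj' _ (inv_mem ha)) }
    have hle : chain k ≤ M := by
      rw [chain, Subgroup.closure_le]
      rintro x ⟨j, ⟨h1, h2⟩, rfl⟩
      rcases eq_or_lt_of_le h1 with rfl | h
      · exact Or.inr (by rw [hu, inv_mul_cancel]; exact one_mem _)
      · exact Or.inl (hT ▸ chain_mono h h2)
    have hTle : T ≤ chain k := hT ▸ Subgroup.closure_mono (Set.image_mono fun j hj => ⟨by
      have := hj.1; omega, hj.2⟩)
    have huk : u ∈ chain k := hu ▸ chain_mono le_rfl hk12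
    have hMle : M ≤ chain k := by
      rintro g (hg | hg)
      · exact hTle hg
      · simpa using mul_mem huk (hTle hg)
    have heq : chain k = M := le_antisymm hle hMle
    have hnot : u ∉ T := by
      intro hmem
      obtain ⟨x, hx, hxe⟩ := hel u hmem
      have hg := allR_true (allR_upto checkGrow_ok hk12)
        (show x ∈ elemsP (above k) by rwa [above, show 11 - k = n by omega])
      exact matP_ne hg (by rw [← hxe, ← hu, pW_spec])
    have hidx : (T.subgroupOf (chain k)).index = 2 := by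
      refine Subgroup.index_eq_two_iff.2 ⟨⟨u⁻¹, inv_mem huk⟩, fun b => ?_⟩
      simp only [Subgroup.mem_subgroupOf, Subgroup.coe_mul]
      have hbM : (b : GL chevF4.Idx (ZMod 2)) ∈ M := heq ▸ b.2
      rcases hbM with hb | hb
      · refine Or.inr ⟨hb, fun h => hnot ?_⟩
        have := inv_mem (mul_mem (inv_mem hb) h)
        simpa using this
      · refine Or.inl ⟨?_, fun h => hnot ?_⟩
        · rw [show (b : GL chevF4.Idx (ZMod 2)) * u⁻¹ = u * (u⁻¹ * b) * u⁻¹ by group]
          exact hconj' _ hb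
        · have := mul_mem h (inv_mem hb)
          simpa using this
    refine ⟨?_, fun g hg => ?_⟩
    · have h := (T.subgroupOf (chain k)).card_mul_index
      rw [hidx, Nat.card_congr (Subgroup.subgroupOfEquivOfLe hTle).toEquiv, hcard] at h
      rw [← h, pow_succ]
    · rw [List.range'_succ, elems_cons]
      rcases (heq ▸ hg : g ∈ M) with hg | hg
      · obtain ⟨x, hx, hxe⟩ := hel g hg
        exact ⟨x, List.mem_append_left _ hx, hxe⟩
      · obtain ⟨x, hx, hxe⟩ := hel _ hg
        refine ⟨mulP (genP k) x, List.mem_append_right _ (List.mem_map_of_mem hx), ?_⟩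
        rw [matP_mulP, ← pW_spec, ← hxe, ← Units.val_mul, hu, mul_inv_cancel_left]

theorem conj_sq {H : Type*} [Group H] (g c : H) :
    g * c * g⁻¹ * (g * c * g⁻¹) = g * (c * c) * g⁻¹ := by group

theorem conj_four {H : Type*} [Group H] (g : H) {c : H} (hc : c ^ 4 = 1) :
    g * c * g⁻¹ * (g * c * g⁻¹) * (g * c * g⁻¹ * (g * c * g⁻¹)) = 1 := by
  rw [conj_sq, conj_sq, show c * c * (c * c) = c ^ 4 by simp [pow_succ, mul_assoc], hc]; group

/-- The group. -/
noncomputable abbrev G2F4 : Subgroup (GL chevF4.Idx (ZMod 2)) := twistedF4 (ZMod 2) 1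

theorem exists_setup : Nonempty (SetupF4 (ZMod 2) 0) :=
  exists_setupF4 (ZMod 2) (by rw [ZMod.card]; rfl)

theorem Lt_mem : ∀ k < 5, Lt k ∈ G2F4 := by
  obtain ⟨S⟩ := exists_setup
  have h0 : Lt 0 ∈ G2F4 := by
    have h := (S.pair_mem 1).1
    rw [one_pow] at h
    simpa [Lt, gR, letRoots] using h
  have h1 : Lt 1 ∈ G2F4 := by
    have h := (S.pair_mem 1).2
    rw [one_pow] at h
    simpa [Lt, gR, letRoots] using h
  have hz : (0 : ZMod 2) ^ (2 * 2 ^ 0) = 0 := by decide
  have h2 : Lt 2 ∈ G2F4 := by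
    have h := (S.class_mem 1 0).1
    rw [one_pow, one_pow, add_zero, hz, goodF4.xG_zero, mul_one] at h
    simpa [Lt, gR, letRoots] using h
  have h3 : Lt 3 ∈ G2F4 := by
    have h := (S.class_mem 1 0).2
    rw [one_pow, one_pow, add_zero, hz, goodF4.xG_zero, mul_one] at h
    simpa [Lt, gR, letRoots] using h
  have h4 : Lt 4 ∈ G2F4 := by
    have e : Lt 4 = gW [0, 1, 0, 2, 0, 1, 0] := by
      rw [rels.2.2.2.2.1]; simp [gW]
    rw [e]
    simp only [gW, List.map_cons, List.map_nil, List.prod_cons, List.prod_nil, mul_one]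
    exact mul_mem h0 (mul_mem h1 (mul_mem h0 (mul_mem h2 (mul_mem h0 (mul_mem h1 h0)))))
  intro k hk
  interval_cases k
  exacts [h0, h1, h2, h3, h4]

theorem Lt_pos {k : ℕ} (hk : k = 0 ∨ k = 2 ∨ k = 4) : Lt k ∈ chevF4.posUnipotent (ZMod 2) := by
  rw [goodF4.posUnipotent_eq, Lt, gR]
  refine Subgroup.list_prod_mem _ fun y hy => ?_
  obtain ⟨r, hr, rfl⟩ := List.mem_map.1 hy
  have h : ∀ k ∈ [0, 2, 4], ∀ r ∈ letRoots.getD k [], r < chevF4.nroots ∧ half chevF4 ≤ r := by
    decide +kernel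
  obtain ⟨h1, h2⟩ := h k (by rcases hk with rfl | rfl | rfl <;> simp) r hr
  exact goodF4.mem_rootGen h1 h2 _

theorem pW_mem (k : ℕ) : pW k ∈ chevF4.posUnipotent (ZMod 2) ⊓ G2F4 := by
  rw [pW, gW]
  refine Subgroup.mem_inf.2 ⟨Subgroup.list_prod_mem _ fun y hy => ?_,
    Subgroup.list_prod_mem _ fun y hy => ?_⟩
  · obtain ⟨x, hx, rfl⟩ := List.mem_map.1 hy
    exact Lt_pos (rels.2.2.2.2.2.2.2.2 k x hx)
  · obtain ⟨x, hx, rfl⟩ := List.mem_map.1 hy
    exact Lt_mem x (by rcases rels.2.2.2.2.2.2.2.2 k x hx with h | h | h <;> omega)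

theorem chain_zero : chain 0 = chevF4.posUnipotent (ZMod 2) ⊓ G2F4 := by
  refine Subgroup.eq_of_le_of_card_ge ?_ ?_
  · rw [chain, Subgroup.closure_le]
    rintro x ⟨j, -, rfl⟩
    exact pW_mem j
  · rw [(chain_spec 12 0 rfl).1]
    exact le_of_eq (card_pos_twistedF4 (m := 0) (ZMod 2) (by rw [ZMod.card]; rfl))

/-- The rank of `g - 1`. -/
noncomputable def rk (g : GL chevF4.Idx (ZMod 2)) : ℕ :=
  ((g : Matrix chevF4.Idx chevF4.Idx (ZMod 2)) - 1).rank

theorem rk_conj (g x : GL chevF4.Idx (ZMod 2)) : rk (g * x * g⁻¹) = rk x := by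
  have h : ∀ g x : GL chevF4.Idx (ZMod 2), rk (g * x * g⁻¹) ≤ rk x := fun g x => by
    rw [rk, rk, show ((g * x * g⁻¹ : GL chevF4.Idx (ZMod 2)) : Matrix chevF4.Idx chevF4.Idx (ZMod 2)) - 1 =
      (g : Matrix chevF4.Idx chevF4.Idx (ZMod 2)) *
        ((x : Matrix chevF4.Idx chevF4.Idx (ZMod 2)) - 1) *
        ((g⁻¹ : GL chevF4.Idx (ZMod 2)) : Matrix chevF4.Idx chevF4.Idx (ZMod 2)) by
      rw [mul_sub, sub_mul, mul_one, Units.mul_inv, Units.val_mul, Units.val_mul]]
    exact (Matrix.rank_mul_le_left _ _).trans (Matrix.rank_mul_le_right _ _)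
  refine le_antisymm (h g x) ?_
  calc rk x = rk (g⁻¹ * (g * x * g⁻¹) * g⁻¹⁻¹) := by group
    _ ≤ _ := h _ _

/-- The element of order four. -/
noncomputable def cEl : ↥G2F4 := ⟨Lt 2, Lt_mem 2 (by norm_num)⟩

theorem pW_zero : pW 0 = Lt 2 := by simp [pW, pcWord, gW]

theorem rk_cEl : rk (Lt 2) ≤ 32 := by
  have h := allR_upto checkFix_ok (show 0 < 2 by norm_num)
  rw [Bool.and_eq_true] at h
  have e : matP (evalP (pcWord.getD 0 [] ++ bif Nat.beq 0 0 then [] else pcWord.getD 0 [])) = pW 0 := by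
    rw [pW_spec]; simp [genP]
  have h0 : ((pW 0 : Matrix chevF4.Idx chevF4.Idx (ZMod 2)) - 1) * matP (fixTab.getD 0 0) = 0 := by
    have h1 := congrArg matP (Nat.eq_of_beq_eq_true h.1)
    rw [matP_mod, matP_mulP, matP_zero, matP_xor, matP_idP, e] at h1
    rw [sub_eq_add_neg, show -(1 : Matrix chevF4.Idx chevF4.Idx (ZMod 2)) = 1 from
      neg_eq_of_add_eq_zero_left (by ext i j; simp [CharTwo.add_self_eq_zero])]
    exact h1
  have h1 := Matrix.rank_add_rank_le_card_of_mul_eq_zero h0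
  have h2 : 20 ≤ (matP (fixTab.getD 0 0)).rank :=
    le_trans (Nat.le_of_ble_eq_true h.2) (elimP_le_rank _)
  have h3 : Fintype.card chevF4.Idx = 52 := by
    rw [Fintype.card_of_bijective ixF_bijective, Fintype.card_fin]
  rw [rk, ← pW_zero]
  omega

theorem cEl_sq_ne : Lt 2 * Lt 2 ≠ 1 := by
  intro h
  obtain ⟨-, -, h3, -⟩ := letters
  have hm : matP (evalP [2, 2]) = 1 := by
    rw [← gW_spec [2, 2] (by simp)]
    simp [gW, h]
  have hne : neP (evalP [2, 2]) idP = true := by decide +kernel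
  exact matP_ne hne (by rw [hm, matP_idP])

theorem check_elem {g : GL chevF4.Idx (ZMod 2)} (hg : g ∈ chain 1) :
    (g * g = 1 ∨ g * g * (g * g) ≠ 1 ∨ 32 < rk g) ∧ Lt 2 * g * (Lt 2 * g) ≠ 1 := by
  obtain ⟨x, hx, hxe⟩ := (chain_spec 11 1 rfl).2 g hg
  have h := allR_true checkRank_ok hx
  rw [Bool.and_eq_true, Bool.or_eq_true, Bool.or_eq_true] at h
  refine ⟨?_, fun he => ?_⟩
  · rcases h.2 with (h2 | h2) | h2
    · refine Or.inl (Units.ext ?_)
      rw [Units.val_mul, hxe, ← matP_mulP, Nat.eq_of_beq_eq_true h2, matP_idP, Units.val_one]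
    · refine Or.inr (Or.inl fun he => matP_ne h2 ?_)
      rw [matP_mulP, matP_mulP, ← hxe, ← Units.val_mul, ← Units.val_mul, he, matP_idP, Units.val_one]
    · refine Or.inr (Or.inr (lt_of_lt_of_le (Nat.blt_eq.mp h2) ?_))
      rw [rk, hxe]
      exact rankP_le x
  · refine matP_ne h.1 ?_
    rw [matP_mulP, matP_mulP, ← pW_spec, pW_zero, ← hxe, ← Units.val_mul, ← Units.val_mul, he,
      matP_idP, Units.val_one]

theorem cEl_pow : cEl ^ 4 = 1 := Subtype.ext (by
  have h := rels.2.2.1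
  simp only [gW, List.map_cons, List.map_nil, List.prod_cons, List.prod_nil, mul_one] at h
  rw [Subgroup.coe_pow, pow_succ, pow_succ, pow_succ, pow_one, Subgroup.coe_one]
  simpa [cEl, mul_assoc] using h)

theorem card_group : Nat.card ↥G2F4 = 35942400 := by
  obtain ⟨S⟩ := exists_setup
  exact S.card_eq.trans (by norm_num)

theorem card_borel : Nat.card ↥(chevF4.borelSubgroup (ZMod 2) ⊓ G2F4) = 2 ^ 12 := by
  obtain ⟨S⟩ := exists_setup
  have h := S.sys.card_borel_inf hasCommF4
  have h1 := card_pos_twistedF4 (m := 0) (ZMod 2) (by rw [ZMod.card]; rfl)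
  have h2 := S.card_diag
  calc _ = _ * _ := h
    _ = (2 ^ (2 * 0 + 1)) ^ 12 * ((2 ^ (2 * 0 + 1) - 1) ^ 2) := congrArg₂ (· * ·) h1 h2
    _ = 2 ^ 12 := by norm_num

theorem cEl_not_mem : cEl ∉ commutator ↥G2F4 := by
  have hU : Nat.card ↥((chain 0).subgroupOf G2F4) = 2 ^ 12 := by
    rw [Nat.card_congr (Subgroup.subgroupOfEquivOfLe (chain_zero ▸ inf_le_right)).toEquiv,
      (chain_spec 12 0 rfl).1]
  have h10 : chain 1 ≤ chain 0 := Subgroup.closure_mono (Set.image_mono fun j hj => ⟨Nat.zero_le _, hj.2⟩)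
  have hle0 : chain 0 ≤ G2F4 := chain_zero ▸ inf_le_right
  have hc0 : Lt 2 ∈ chain 0 := pW_zero ▸ chain_mono le_rfl (by norm_num)
  have hidx0 : ((chain 1).subgroupOf (chain 0)).index = 2 := by
    have h := ((chain 1).subgroupOf (chain 0)).card_mul_index
    rw [Nat.card_congr (Subgroup.subgroupOfEquivOfLe h10).toEquiv, (chain_spec 11 1 rfl).1,
      (chain_spec 12 0 rfl).1] at h
    omega
  have hsplit : ∀ g ∈ chain 0, g ∈ chain 1 ∨ (Lt 2)⁻¹ * g ∈ chain 1 := by
    intro g hg
    by_contra h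
    push Not at h
    have hc1 : Lt 2 ∉ chain 1 := by
      intro hmem
      have h1 := (check_elem (one_mem _)).2
      rw [mul_one] at h1
      rcases (check_elem hmem).1 with h2 | h2 | h2
      · exact h1 h2
      · refine h2 ?_
        have := congrArg Subtype.val cEl_pow
        rw [Subgroup.coe_pow, show 4 = 2 + 2 by rfl, _root_.pow_add, sq] at this
        exact this
      · exact absurd rk_cEl (not_le.2 h2)
    have h' := Subgroup.mul_mem_iff_of_index_two hidx0
      (a := (⟨(Lt 2)⁻¹, inv_mem hc0⟩ : ↥(chain 0))) (b := ⟨g, hg⟩)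
    simp only [Subgroup.mem_subgroupOf, Subgroup.coe_mul] at h'
    exact h.2 (h'.2 (iff_of_false (fun e => hc1 (by simpa using inv_mem e)) h.1))
  have hce : (cEl : GL chevF4.Idx (ZMod 2)) = Lt 2 := rfl
  have hc4 := cEl_pow
  have h44 : ∀ g : ↥G2F4, g * (cEl * cEl) * g⁻¹ * (g * (cEl * cEl) * g⁻¹) = 1 := fun g => by
    have h := conj_four g hc4
    rwa [conj_sq g cEl] at h
  revert hce hc4 h44
  generalize cEl = c
  intro hce hc4 h44
  refine not_mem_commutator_of_conj (U := (chain 0).subgroupOf G2F4) (H := (chain 1).subgroupOf G2F4)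
    ?_ ?_ hc4 (fun g hg hgH => ?_) (fun g hg => ?_)
  · have h := (((chain 1).subgroupOf G2F4).subgroupOf ((chain 0).subgroupOf G2F4)).card_mul_index
    rw [Nat.card_congr (Subgroup.subgroupOfEquivOfLe
      (show (chain 1).subgroupOf G2F4 ≤ (chain 0).subgroupOf G2F4 from fun x hx => h10 hx)).toEquiv, hU,
      Nat.card_congr (Subgroup.subgroupOfEquivOfLe (h10.trans hle0)).toEquiv,
      (chain_spec 11 1 rfl).1] at h
    omega
  · have h := ((chain 0).subgroupOf G2F4).card_mul_index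
    rw [hU, card_group] at h
    rw [Nat.odd_iff]; omega
  · rw [Subgroup.mem_subgroupOf] at hgH
    rcases (check_elem hgH).1 with h2 | h2 | h2
    · have e : g * c * g⁻¹ * (g * c * g⁻¹) = 1 := by
        apply Subtype.ext; rw [Subgroup.coe_mul, Subgroup.coe_one]; exact h2
      rw [conj_sq, conj_eq_one_iff] at e
      have e' := congrArg Subtype.val e
      rw [Subgroup.coe_mul, Subgroup.coe_one, hce] at e'
      exact cEl_sq_ne e'
    · have e := congrArg Subtype.val (conj_four g hc4)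
      rw [Subgroup.coe_mul, Subgroup.coe_mul, Subgroup.coe_one] at e
      exact h2 e
    · rw [Subgroup.coe_mul, Subgroup.coe_mul, Subgroup.coe_inv, rk_conj, hce] at h2
      exact absurd rk_cEl (not_le.2 h2)
  · rw [Subgroup.mem_subgroupOf] at hg ⊢
    refine (hsplit _ hg).resolve_right fun h => (check_elem h).2 ?_
    rw [mul_inv_cancel_left]
    have e := congrArg Subtype.val (h44 g)
    rw [Subgroup.coe_mul, Subgroup.coe_one] at e
    exact e

/-- The generators as words in four letters. -/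
theorem gen_cases : ∀ x : GL chevF4.Idx (ZMod 2),
    (∃ w ∈ f4Words (ZMod 2) 1, x = (w.map fun p => goodF4.xG p.1 p.2).prod) →
      ∃ v : List ℕ, (∀ k ∈ v, k < 4) ∧ x = gW v := by
  have h2 : ∀ t : ZMod 2, t = 0 ∨ t = 1 := by decide
  have hp : ∀ t : ZMod 2, t ^ 1 = t := fun t => pow_one t
  have e00 : (1 : ZMod 2) + 1 = 0 := by decide
  have e11 : (1 : ZMod 2) ^ 2 = 1 := one_pow 2
  have h0 : (0 : ZMod 2) ^ 2 = 0 := by decide
  obtain ⟨hlet, -, e22, e222, e33, e333⟩ := letters
  have hone : ∀ rs v, rootsEq rs (evalP v) = true → (∀ k ∈ v, k < 4) → gR rs = gW v :=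
    fun rs v h hv => Units.ext (by
      rw [rootsEq_spec h, gW_spec v fun k hk => lt_trans (hv k hk) (by norm_num)])
  have hL : ∀ k, gW [k] = gR (letRoots.getD k []) := fun k => by simp [gW, Lt]
  rintro x ⟨w, (⟨t, rfl | rfl⟩ | ⟨t, u, rfl | rfl⟩), rfl⟩
  · rcases h2 t with rfl | rfl
    · exact ⟨[], by simp, by simp [f4PairWord, gW, goodF4.xG_zero]⟩
    · refine ⟨[0], by simp, ?_⟩
      rw [hL]; simp [f4PairWord, gR, letRoots, f4p1, f4p4]
  · rcases h2 t with rfl | rfl
    · exact ⟨[], by simp, by simp [f4PairWord, gW, goodF4.xG_zero]⟩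
    · refine ⟨[1], by simp, ?_⟩
      rw [hL]; simp [f4PairWord, gR, letRoots, f4m1, f4m4]
  · rcases h2 t with rfl | rfl <;> rcases h2 u with rfl | rfl
    · exact ⟨[], by simp, by simp [b2ClassWord, gW, goodF4.xG_zero]⟩
    · refine ⟨[2, 2], by simp, ?_⟩
      rw [← hone _ _ e22 (by simp)]
      simp [b2ClassWord, gR, f4a, f4b, f4ab, f4aab, goodF4.xG_zero]
    · refine ⟨[2], by simp, ?_⟩
      rw [hL]; simp [b2ClassWord, gR, letRoots, f4a, f4b, f4ab, f4aab, goodF4.xG_zero]
    · refine ⟨[2, 2, 2], by simp, ?_⟩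
      rw [← hone _ _ e222 (by simp)]
      simp [b2ClassWord, gR, f4a, f4b, f4ab, f4aab, goodF4.xG_zero, e00]
  · rcases h2 t with rfl | rfl <;> rcases h2 u with rfl | rfl
    · exact ⟨[], by simp, by simp [b2ClassWord, gW, goodF4.xG_zero]⟩
    · refine ⟨[3, 3], by simp, ?_⟩
      rw [← hone _ _ e33 (by simp)]
      simp [b2ClassWord, gR, f4ma, f4mb, f4mab, f4maab, goodF4.xG_zero]
    · refine ⟨[3], by simp, ?_⟩
      rw [hL]; simp [b2ClassWord, gR, letRoots, f4ma, f4mb, f4mab, f4maab, goodF4.xG_zero]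
    · refine ⟨[3, 3, 3], by simp, ?_⟩
      rw [← hone _ _ e333 (by simp)]
      simp [b2ClassWord, gR, f4ma, f4mb, f4mab, f4maab, goodF4.xG_zero, e00]

/-- Every element is congruent to `1` or to the element of order four. -/
theorem mem_or (g : ↥G2F4) : g ∈ commutator ↥G2F4 ∨ cEl⁻¹ * g ∈ commutator ↥G2F4 := by
  let L : ℕ → ↥G2F4 := fun k => if h : k < 5 then ⟨Lt k, Lt_mem k h⟩ else 1
  have hW : ∀ v w : List ℕ, (∀ k ∈ v, k < 5) → (∀ k ∈ w, k < 5) → gW v = gW w →
      Abelianization.of ((v.map L).prod) = Abelianization.of ((w.map L).prod) := by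
    intro v w hv hw e
    congr 1
    apply Subtype.ext
    have hL : ∀ u : List ℕ, (∀ k ∈ u, k < 5) → (((u.map L).prod : ↥G2F4) : GL chevF4.Idx (ZMod 2)) = gW u := by
      intro u hu
      rw [SubmonoidClass.coe_list_prod, List.map_map, gW]
      congr 1
      exact List.map_congr_left fun k hk => by simp [L, hu k hk]
    rw [hL v hv, hL w hw, e]
  obtain ⟨r00, -, r2222, rA, -, rB, rC, rD, -⟩ := rels
  have eA := hW _ _ (by simp) (by simp) rA
  have eB := hW _ _ (by simp) (by simp) rB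
  have eC := hW _ _ (by simp) (by simp) rC
  have eD := hW _ _ (by simp) (by simp) rD
  have e00 := hW [0, 0] [] (by simp) (by simp) r00
  simp only [List.map_cons, List.map_nil, List.prod_cons, List.prod_nil, mul_one, map_mul, map_one] at eA eB eC eD e00
  set a := Abelianization.of (L 0) with ha
  set a' := Abelianization.of (L 1)
  set b := Abelianization.of (L 2) with hb
  set b' := Abelianization.of (L 3)
  have h1 : a' = a := by
    have : a * a * a' = a' * a' * a := by
      rw [show a * a * a' = a * (a' * a) by ac_rfl, show a' * a' * a = a' * (a * a') by ac_rfl]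
      exact eA
    have h' : (a * a') * a = (a * a') * a' := by
      rw [show (a * a') * a = a * a * a' by ac_rfl, show (a * a') * a' = a' * a' * a by ac_rfl, this]
    exact (mul_left_cancel h').symm
  have h2 : b' = b := by
    have h' : (b * b' * b') * b = (b * b' * b') * b' := by
      rw [show (b * b' * b') * b = b * (b' * (b' * b)) by ac_rfl,
        show (b * b' * b') * b' = b' * (b * (b' * b')) by ac_rfl]
      exact eB
    exact (mul_left_cancel h').symm
  rw [h1, h2] at eC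
  rw [h1] at eD
  have h3 : a = 1 := by
    have h' : (a * a * a * a * b * b) * a = (a * a * a * a * b * b) * 1 := by
      rw [mul_one, show (a * a * a * a * b * b) * a = a * (a * (a * (b * (a * (a * b))))) by ac_rfl,
        show a * a * a * a * b * b = b * (a * (a * (b * (a * a)))) by ac_rfl]
      exact eC
    exact mul_left_cancel h'
  have h4 : b * b = 1 := by
    rw [h3] at eD
    simp only [one_mul, mul_one] at eD
    have h' : (b * b * b * b) * (b * b) = (b * b * b * b) * 1 := by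
      rw [mul_one, show (b * b * b * b) * (b * b) = b * (b * (b * (b * (b * b)))) by ac_rfl,
        show b * b * b * b = b * (b * (b * b)) by ac_rfl]
      exact eD
    exact mul_left_cancel h'
  have hinv : b⁻¹ = b := inv_eq_of_mul_eq_one_left h4
  have key : ∀ x : GL chevF4.Idx (ZMod 2), ∀ hx : x ∈ G2F4, Abelianization.of (⟨x, hx⟩ : ↥G2F4) = 1 ∨
      Abelianization.of (⟨x, hx⟩ : ↥G2F4) = b := by
    let M : Subgroup ↥G2F4 :=
      { carrier := {y | Abelianization.of y = 1 ∨ Abelianization.of y = b}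
        one_mem' := Or.inl (map_one _)
        mul_mem' := by
          rintro p q (hp | hp) (hq | hq) <;> simp only [Set.mem_setOf_eq, map_mul, hp, hq, h4, one_mul, mul_one, true_or, or_true]
        inv_mem' := by
          rintro p (hp | hp) <;> simp only [Set.mem_setOf_eq, map_inv, hp, inv_one, hinv, true_or, or_true] }
    have hM : ∀ k < 4, L k ∈ M := by
      intro k hk
      interval_cases k
      exacts [Or.inl h3, Or.inl (h1.trans h3), Or.inr rfl, Or.inr h2]
    intro x hx
    suffices h : G2F4 ≤ M.map G2F4.subtype by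
      obtain ⟨y, hy, rfl⟩ := h hx
      exact hy
    intro z hz
    have hgen : G2F4 = Subgroup.closure {x | ∃ w ∈ f4Words (ZMod 2) 1,
        x = (w.map fun p => goodF4.xG p.1 p.2).prod} := twistedF4_eq (ZMod 2) 1
    have hM' : ∀ k < 4, Lt k ∈ M.map G2F4.subtype := fun k hk =>
      ⟨L k, hM k hk, by simp [L, show k < 5 by omega]⟩
    rw [hgen] at hz
    refine (Subgroup.closure_le _).2 (fun y hy => ?_) hz
    obtain ⟨v, hv, rfl⟩ := gen_cases y hy
    rw [gW]
    exact Subgroup.list_prod_mem _ fun y hy => by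
      obtain ⟨k, hk, rfl⟩ := List.mem_map.1 hy
      exact hM' k (hv k hk)
  have hker : ∀ y : ↥G2F4, Abelianization.of y = 1 → y ∈ commutator ↥G2F4 := fun y hy =>
    (QuotientGroup.eq_one_iff y).1 hy
  rcases key g.1 g.2 with h | h
  · exact Or.inl (hker g h)
  · refine Or.inr (hker _ ?_)
    rw [map_mul, map_inv, show Abelianization.of cEl = b from by rw [hb]; simp [L, cEl],
      show Abelianization.of g = b from h, inv_mul_cancel]

theorem index_commutator : (commutator ↥G2F4).index = 2 := by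
  refine Subgroup.index_eq_two_iff.2 ⟨cEl⁻¹, fun b => ?_⟩
  rcases mem_or b with h | h
  · refine Or.inr ⟨h, fun h' => cEl_not_mem ?_⟩
    have := inv_mem (mul_mem (inv_mem h) h')
    simpa using this
  · refine Or.inl ⟨?_, fun h' => cEl_not_mem ?_⟩
    · have := Subgroup.Normal.conj_mem inferInstance _ h cEl
      simpa [mul_assoc] using this
    · have := mul_mem h' (inv_mem h)
      simpa using this

theorem bnPair_irreducible (S : SetupF4 (ZMod 2) 0) :
    (S.sys.bnPair hasCommF4 S.hnt).Irreducible := by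
  have hw : S.sys.w (0 : Fin 2) * S.sys.w (1 : Fin 2) ≠ S.sys.w (1 : Fin 2) * S.sys.w (0 : Fin 2) := by
    intro h
    have h' : goodF4.wperm (wordsF4 0 ++ wordsF4 1) = goodF4.wperm (wordsF4 1 ++ wordsF4 0) := by
      rw [goodF4.wperm_append, goodF4.wperm_append]; exact h
    have hno : ∃ s : Fin chevF4.nroots, wordApp sdataF4 ((wordsF4 0 ++ wordsF4 1).map Fin.val) s ≠
        wordApp sdataF4 ((wordsF4 1 ++ wordsF4 0).map Fin.val) s := by decide +kernel
    obtain ⟨s, hs⟩ := hno
    exact hs (by rw [← goodF4.wperm_tab checksF4 structChecksF4,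
      ← goodF4.wperm_tab checksF4 structChecksF4, h'])
  intro J hJ hne hne'
  by_contra hcon
  simp only [not_exists, not_and, not_not] at hcon
  let P : Fin 2 → Prop := fun o => (⟨S.sys.n o, S.sys.n_mem o⟩ : ↥S.sys.G1) ∈ J
  have hcl : ∀ o o' : Fin 2, P o → ¬ P o' → S.sys.w o * S.sys.w o' = S.sys.w o' * S.sys.w o := by
    intro o o' ho ho'
    have h0 := hcon _ ho _ ⟨⟨o', rfl⟩, ho'⟩
    have h1 : S.sys.n o * S.sys.n o' * (S.sys.n o)⁻¹ * (S.sys.n o')⁻¹ ∈
        chevF4.borelSubgroup (ZMod 2) ⊓ chevF4.monomialSubgroup (ZMod 2) :=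
      Subgroup.mem_inf.2 ⟨h0.1, mul_mem (mul_mem (mul_mem (S.sys.n_monomial o) (S.sys.n_monomial o'))
        (inv_mem (S.sys.n_monomial o))) (inv_mem (S.sys.n_monomial o'))⟩
    rw [goodF4.borel_inf_monomial] at h1
    have h2 := goodF4.acts_unique (goodF4.acts_mul (goodF4.acts_mul (goodF4.acts_mul (S.sys.n_acts o)
      (S.sys.n_acts o')) (goodF4.acts_inv (S.sys.n_acts o))) (goodF4.acts_inv (S.sys.n_acts o')))
      (goodF4.acts_diagonal h1)
    rw [mul_inv_eq_one, mul_inv_eq_iff_eq_mul] at h2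
    exact h2
  obtain ⟨a, ha⟩ := hne
  obtain ⟨b, hb, hbJ⟩ := hne'
  obtain ⟨o, rfl⟩ := hJ ha
  obtain ⟨o', rfl⟩ := hb
  have h01 : P (0 : Fin 2) ↔ P (1 : Fin 2) := by
    constructor <;> intro h <;> by_contra h'
    · exact hw (hcl 0 1 h h')
    · exact hw (hcl 1 0 h h').symm
  have hall : ∀ x : Fin 2, P x ↔ P (0 : Fin 2) := by
    intro x
    fin_cases x
    exacts [Iff.rfl, h01.symm]
  exact hbJ ((hall o').2 ((hall o).1 ha))

/-- The (B, N)-pair. -/
noncomputable def pairT (S : SetupF4 (ZMod 2) 0) : Cfsg.BNPair ↥G2F4 :=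
  S.sys.bnPair hasCommF4 S.hnt

theorem card_tits : Nat.card TitsGroup = 17971200 := by
  have h := (commutator ↥G2F4).card_mul_index
  rw [index_commutator, card_group] at h
  show Nat.card ↥(commutator ↥G2F4) = _
  omega

theorem simple : IsSimpleGroup TitsGroup ∧ ¬ IsMulCommutative TitsGroup := by
  obtain ⟨S⟩ := exists_setup
  have hB : Nat.card ↥(pairT S).B = 2 ^ 12 := by
    rw [← card_borel]
    exact Nat.card_congr (Subgroup.subgroupOfEquivOfLe inf_le_right).toEquiv
  refine derived_simple (pairT S) (bnPair_irreducible S) (S.sys.core_trivial hasCommF4 S.separates)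
    (IsPGroup.of_card hB) cEl mem_or index_commutator cEl_not_mem (by rw [hB]; norm_num) fun n hn => ?_
  have h := card_tits
  rw [show Nat.card TitsGroup = Nat.card ↥(commutator ↥G2F4) from rfl, ← hn] at h
  rcases Nat.lt_or_ge n 4240 with h' | h'
  · have : n * n ≤ 4239 * 4239 := Nat.mul_le_mul (by omega) (by omega)
    omega
  · have : 4240 * 4240 ≤ n * n := Nat.mul_le_mul h' h'
    omega

end CfsgLib.Chev.Tits
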