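import Mathlib
import Cfsg.Agent.Lib.Chev.LargeReeInvolCent
import Cfsg.Agent.Lib.Chev.TitsInvolution

/-!
The number of classes of involutions of ²F₄(q) and of the Tits group, and the primes dividing the
centraliser of an involution.
-/

set_option autoImplicit false
set_option maxHeartbeats 1600000
set_option maxRecDepth 100000
set_option linter.unusedSectionVars false

namespace CfsgLib.Chev

open Cfsg.Lie LargeReeUni

/-- Two classes of involutions, none of which splits in a subgroup of index two. -/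
theorem two_classes_index_two {G : Type*} [Group G] {N : Subgroup G} [N.Normal] (hidx : N.index = 2)
    (hN : ∀ g : G, g * g = 1 → g ∈ N) {A B : G} (hA : orderOf A = 2) (hB : orderOf B = 2)
    (hcls : ∀ x : G, orderOf x = 2 → IsConj x A ∨ IsConj x B) (hne : ¬ IsConj A B)
    (cA : ∃ c, c ∉ N ∧ c * A = A * c) (cB : ∃ c, c ∉ N ∧ c * B = B * c) :
    (ConjClasses.mk '' {g : ↥N | orderOf g = 2}).ncard = 2 := by
  have hsq : ∀ x : G, orderOf x = 2 → x * x = 1 := fun x hx => by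
    have := pow_orderOf_eq_one x
    rwa [hx, sq] at this
  have hord : ∀ (x : G) (hx : x ∈ N), orderOf (⟨x, hx⟩ : ↥N) = orderOf x := fun x hx =>
    (Subgroup.orderOf_coe _).symm
  set A' : ↥N := ⟨A, hN A (hsq A hA)⟩
  set B' : ↥N := ⟨B, hN B (hsq B hB)⟩
  have up : ∀ (x : ↥N) (y : G) (hy : y ∈ N), IsConj (x : G) y → (∃ c, c ∉ N ∧ c * y = y * c) →
      IsConj x (⟨y, hy⟩ : ↥N) := by
    intro x y hy h hc
    obtain ⟨g, hg⟩ := isConj_iff.1 h
    by_cases hgN : g ∈ N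
    · exact isConj_iff.2 ⟨⟨g, hgN⟩, Subtype.ext hg⟩
    obtain ⟨c, hcN, hcy⟩ := hc
    refine isConj_iff.2 ⟨⟨c * g, (Subgroup.mul_mem_iff_of_index_two hidx).2 (iff_of_false hcN hgN)⟩,
      Subtype.ext ?_⟩
    show c * g * x * (c * g)⁻¹ = y
    rw [show c * g * (x : G) * (c * g)⁻¹ = c * (g * x * g⁻¹) * c⁻¹ by group, hg, hcy,
      mul_inv_cancel_right]
  have hne' : ConjClasses.mk A' ≠ ConjClasses.mk B' := fun h =>
    hne (MonoidHom.map_isConj N.subtype (ConjClasses.mk_eq_mk_iff_isConj.1 h))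
  rw [show ConjClasses.mk '' {g : ↥N | orderOf g = 2} = {ConjClasses.mk A', ConjClasses.mk B'}
    from ?_, Set.ncard_pair hne']
  refine Set.Subset.antisymm ?_ (Set.insert_subset_iff.2 ⟨⟨A', (hord A _).trans hA, rfl⟩,
    Set.singleton_subset_iff.2 ⟨B', (hord B _).trans hB, rfl⟩⟩)
  rintro - ⟨x, hx, rfl⟩
  rcases hcls x ((Subgroup.orderOf_coe x).trans hx) with h | h
  · exact Or.inl (ConjClasses.mk_eq_mk_iff_isConj.2 (up x A _ h cA))
  · exact Or.inr (ConjClasses.mk_eq_mk_iff_isConj.2 (up x B _ h cB))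

namespace SetupF4

variable {K : Type*} [Field K] [Fintype K] [CharP K 2] {m : ℕ} (S : SetupF4 K m)
include S

/-- The first representative inside the group. -/
noncomputable def gA : ↥(twistedF4 K (2 ^ m)) := ⟨S.repA, (S.rootgroups_mem.2.2.2.1 0 1).2⟩

/-- The second representative inside the group. -/
noncomputable def gB : ↥(twistedF4 K (2 ^ m)) := ⟨S.repB, (S.rootgroups_mem.2.2.2.2.1 1).2⟩

lemma reps_orderOf : orderOf S.gA = 2 ∧ orderOf S.gB = 2 := by
  have := Fact.mk Nat.prime_two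
  obtain ⟨a, b, c, d⟩ := S.p_zero
  obtain ⟨e, f, g, -⟩ := S.c_zero
  set vA : V K := ⟨0, 0, 0, 0, 0, 1, 0, 0, 0, 0⟩ with hvA
  set vB : V K := ⟨0, 0, 0, 0, 0, 0, 1, 0, 0, 0⟩ with hvB
  have key : ∀ (y : ↥(twistedF4 K (2 ^ m))) (v : V K), (y : GL chevF4.Idx K) = W S.th v →
      v ≠ V.zero → V.mul S.th v v = V.zero → orderOf y = 2 := by
    intro y v hy hne hv
    refine orderOf_eq_prime (Subtype.ext ?_) fun h => hne ?_
    · rw [Subgroup.coe_pow, sq, hy, S.W_mul, hv, S.W_zero]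
      rfl
    · refine S.W_inj ?_
      rw [← hy, h, S.W_zero]
      rfl
  refine ⟨key _ vA ?_ ?_ ?_, key _ vB ?_ ?_ ?_⟩
  · simp [gA, repA, hvA, W, a, b, c, d, e, g]
  · exact fun h => one_ne_zero (α := K) (congrArg V.u3 h)
  · simp [V.mul, V.zero, hvA, CharTwo.add_self_eq_zero]
  · simp [gB, repB, hvB, W, a, b, d, e, f, g]
  · exact fun h => one_ne_zero (α := K) (congrArg V.t4 h)
  · simp [V.mul, V.zero, hvB, CharTwo.add_self_eq_zero]

lemma classes (x : ↥(twistedF4 K (2 ^ m))) (hx : orderOf x = 2) :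
    IsConj x S.gA ∨ IsConj x S.gB := by
  have conv : ∀ y : ↥(twistedF4 K (2 ^ m)), S.Rel (x : GL chevF4.Idx K) (y : GL chevF4.Idx K) →
      IsConj x y := fun y ⟨g, hg, he⟩ => isConj_iff.2 ⟨⟨g, hg⟩, Subtype.ext he⟩
  rcases S.involution_rel x hx with h | h
  · exact Or.inl (conv _ h)
  · exact Or.inr (conv _ (h.trans S S.rel_repB))

lemma not_isConj : ¬ IsConj S.gA S.gB := fun h => by
  obtain ⟨g, hg⟩ := isConj_iff.1 h.symm
  exact S.not_rel_reps ⟨g, g.2, congrArg Subtype.val hg⟩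

theorem ncard_involution_classes :
    (ConjClasses.mk '' {g : ↥(twistedF4 K (2 ^ m)) | orderOf g = 2}).ncard = 2 := by
  obtain ⟨hA, hB⟩ := S.reps_orderOf
  have hne : ConjClasses.mk S.gA ≠ ConjClasses.mk S.gB :=
    fun h => S.not_isConj (ConjClasses.mk_eq_mk_iff_isConj.1 h)
  rw [show ConjClasses.mk '' {g : ↥(twistedF4 K (2 ^ m)) | orderOf g = 2} =
    {ConjClasses.mk S.gA, ConjClasses.mk S.gB} from ?_, Set.ncard_pair hne]
  refine Set.Subset.antisymm ?_ (Set.insert_subset_iff.2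
    ⟨⟨S.gA, hA, rfl⟩, Set.singleton_subset_iff.2 ⟨S.gB, hB, rfl⟩⟩)
  rintro - ⟨x, hx, rfl⟩
  rcases S.classes x hx with h | h
  · exact Or.inl (ConjClasses.mk_eq_mk_iff_isConj.2 h)
  · exact Or.inr (ConjClasses.mk_eq_mk_iff_isConj.2 h)

/-- The orders of the two maximal parabolic subgroups. -/
theorem card_oP' (o : Fin 2) : Nat.card ↥(S.oP o) =
    (2 ^ (2 * m + 1)) ^ 12 * (2 ^ (2 * m + 1) - 1) ^ 2 * (1 + (2 ^ (2 * m + 1)) ^ (o.val + 1)) := by
  rw [S.card_oP, S.sys.card_borel_inf hasCommF4]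
  have hU : Nat.card ↥(chevF4.posUnipotent K ⊓ S.sys.G1) = (2 ^ (2 * m + 1)) ^ 12 :=
    card_pos_twistedF4 K S.card
  have hH : Nat.card ↥(chevF4.diagonalSubgroup K ⊓ S.sys.G1) = (2 ^ (2 * m + 1) - 1) ^ 2 :=
    S.card_diag
  rw [hU, hH]
  fin_cases o
  · simp [S.card_w0]
  · simp [S.card_w1]

/-- The centraliser of an involution. -/
theorem primeFactors_centralizer (a b : ↥(twistedF4 K (2 ^ m))) (ha : orderOf a = 2)
    (hab : Commute a b) : (orderOf b).primeFactors ⊆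
      (2 ^ (2 * m + 1) * ((2 ^ (2 * m + 1)) ^ 4 - 1)).primeFactors := by
  set q := 2 ^ (2 * m + 1) with hq
  have hfix : ∀ g r : ↥(twistedF4 K (2 ^ m)), g * a * g⁻¹ = r →
      g * b * g⁻¹ * r * (g * b * g⁻¹)⁻¹ = r := by
    intro g r h
    rw [← h, show g * b * g⁻¹ * (g * a * g⁻¹) * (g * b * g⁻¹)⁻¹ = g * (b * a) * b⁻¹ * g⁻¹ by group,
      ← hab.eq]
    group
  obtain ⟨o, hmem⟩ : ∃ o : Fin 2, ∃ g, g * b * g⁻¹ ∈ S.oP o := by
    rcases S.classes a ha with h | h <;> obtain ⟨g, hg⟩ := isConj_iff.1 h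
    · exact ⟨1, g, S.cent_repA (congrArg Subtype.val (hfix g _ hg))⟩
    · exact ⟨0, g, S.cent_repB (congrArg Subtype.val (hfix g _ hg))⟩
  obtain ⟨g, hg⟩ := hmem
  have hb : orderOf b ∣ Nat.card ↥(S.oP o) := by
    have h := Subgroup.orderOf_dvd_natCard _ hg
    rwa [show g * b * g⁻¹ = MulAut.conj g b from rfl, MulEquiv.orderOf_eq] at h
  rw [S.card_oP' o, ← hq] at hb
  have h1 : 1 ≤ q := Nat.one_le_two_pow
  have hpos : q * (q ^ 4 - 1) ≠ 0 := by
    have : 2 ^ 4 ≤ q ^ 4 := Nat.pow_le_pow_left (by rw [hq]; exact Nat.le_self_pow (by omega) 2) 4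
    exact mul_ne_zero (by omega) (by omega)
  intro p hp
  obtain ⟨hpp, hpd, -⟩ := Nat.mem_primeFactors.1 hp
  refine Nat.mem_primeFactors.2 ⟨hpp, ?_, hpos⟩
  obtain ⟨r, hr⟩ := Nat.exists_eq_add_of_le h1
  have e : q ^ 4 - 1 = r * ((q + 1) * (q ^ 2 + 1)) :=
    Nat.sub_eq_of_eq_add (by rw [hr]; ring)
  rcases (Nat.Prime.dvd_mul hpp).1 (hpd.trans hb) with h | h
  · rcases (Nat.Prime.dvd_mul hpp).1 h with h | h
    · exact (hpp.dvd_of_dvd_pow h).mul_right _
    · refine Dvd.dvd.mul_left ?_ _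
      rw [e]
      refine Dvd.dvd.mul_right ?_ _
      rw [show r = q - 1 by omega]
      exact hpp.dvd_of_dvd_pow h
  · refine Dvd.dvd.mul_left ?_ _
    rw [e]
    refine Dvd.dvd.mul_left ?_ _
    rw [Nat.add_comm] at h
    fin_cases o
    · exact Dvd.dvd.mul_right (by simpa using h) _
    · exact Dvd.dvd.mul_left (by simpa using h) _

end SetupF4

namespace Tits

/-- The Tits group has two classes of involutions. -/
theorem ncard_involution_classes :
    (ConjClasses.mk '' {g : Cfsg.Lie.TitsGroup | orderOf g = 2}).ncard = 2 := by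
  obtain ⟨S⟩ := exists_setup
  have hth : ∀ x : ZMod 2, S.th x = x := fun x => by simp [S.th_def]
  have hc7 : c7 S.th 1 0 = Lt 2 := by
    simp [c7, Lt, gR, letRoots, hth, goodF4.xG_zero]
  have hout : (⟨c7 S.th 1 0, (S.rootgroups_mem.2.2.2.2.2.2.2 1 0).2⟩ : ↥G2F4) ∉ commutator ↥G2F4 := by
    intro h
    apply cEl_not_mem
    convert h using 1
    exact Subtype.ext hc7.symm
  obtain ⟨⟨n7, -, -, -, n5, -, -⟩, -, -, nb1, -⟩ := S.refl_conj
  set g : ↥G2F4 := ⟨nF4 0 * (nF4 1 * nF4 0),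
    mul_mem (S.n_mem' 0) (mul_mem (S.n_mem' 1) (S.n_mem' 0))⟩ with hg
  set z : ↥G2F4 := ⟨c7 S.th 1 0, (S.rootgroups_mem.2.2.2.2.2.2.2 1 0).2⟩ with hz
  have hc3 : ((g * z * g⁻¹ : ↥G2F4) : GL chevF4.Idx (ZMod 2)) = c3 S.th 1 0 := by
    simp only [Subgroup.coe_mul, Subgroup.coe_inv, hg, hz]
    rw [← n5 1 0, ← nb1 1 0, ← n7 1 0]
    group
  have hout3 : g * z * g⁻¹ ∉ commutator ↥G2F4 := fun h => hout (by
    have h' := Subgroup.Normal.conj_mem inferInstance _ h g⁻¹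
    simpa [mul_assoc] using h')
  obtain ⟨hA, hB⟩ := S.reps_orderOf
  refine two_classes_index_two index_commutator (fun x hx => involution_mem_commutator x hx) hA hB
    S.classes S.not_isConj ⟨z, hout, ?_⟩ ⟨g * z * g⁻¹, hout3, ?_⟩
  · refine Subtype.ext ?_
    have h := S.repA_central (S.rootgroups_mem.2.2.2.2.2.2.2 1 0)
    exact mul_inv_eq_iff_eq_mul.1 h
  · refine Subtype.ext ?_
    show ((g * z * g⁻¹ : ↥G2F4) : GL chevF4.Idx (ZMod 2)) * S.repB = S.repB * _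
    rw [hc3]
    simpa [SetupF4.repB] using (r43 S.th S.th_sq 1 1 0 1).symm

end Tits

end CfsgLib.Chev
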