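import Mathlib
import Cfsg.Agent.Lib.Chev.LargeReePieceGood
import Cfsg.Agent.Lib.Chev.TwistFGPerfect

/-!
The parabolic subgroup of ²F₄(q) whose Levi complement is the piece of the class: its two radicals,
and the four non-trivial double cosets.
-/

set_option autoImplicit false
set_option maxHeartbeats 1600000
set_option maxRecDepth 100000
set_option linter.unusedSectionVars false

namespace CfsgLib.Chev

open Cfsg.Lie CfsgLib.KnownA.PPart

universe u

/-- The positive roots outside the piece of the class. -/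
def qRoots : List ℕ :=
  [24, 26, 29, 31, 32, 33, 34, 35, 36, 37, 38, 39, 40, 41, 42, 43, 44, 45, 46, 47]

/-- Their negatives. -/
def qmRoots : List ℕ :=
  [23, 21, 18, 16, 15, 14, 13, 12, 11, 10, 9, 8, 7, 6, 5, 4, 3, 2, 1, 0]

/-- The palindromes of the four non-trivial double cosets: half and middle. -/
def palM : Fin 4 → List (Fin 2) := ![[], [0], [0, 1], [0, 1, 0]]

/-- The middle. -/
def palS : Fin 4 → Fin 2 := ![0, 1, 0, 1]

/-- The palindromes. -/
def palW (j : Fin 4) : List (Fin 2) := palM j ++ [palS j] ++ (palM j).reverse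

/-- The words of the sixteen elements of the Weyl group, by double coset. -/
def cosW (a : Bool) (j : Option (Fin 4)) (b : Bool) : List (Fin 2) :=
  (if a then [1] else []) ++ j.elim [] palW ++ (if b then [1] else [])

theorem qRoots_comm : ∀ s ∈ pRoots 1,
    (∀ r ∈ qRoots, r < 48 ∧ r ≠ s ∧ r ≠ chevF4.neg s ∧
      ∀ c ∈ chevF4.commTerms s r, c.1 ∈ qRoots) ∧
    (∀ r ∈ qmRoots, r < 48 ∧ r ≠ s ∧ r ≠ chevF4.neg s ∧
      ∀ c ∈ chevF4.commTerms s r, c.1 ∈ qmRoots) := by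
  decide +kernel

theorem qRoots_plus : ∀ r : Fin 48, 24 ≤ r.val →
    24 ≤ wordApp sdataF4 ((wordsF4 1).map Fin.val) r → r.val ∈ qRoots := by
  decide +kernel

theorem qRoots_pos : ∀ r ∈ qRoots, 24 ≤ r ∧ r < 48 ∧
    24 ≤ wordApp sdataF4 ((wordsF4 1).map Fin.val) r := by
  decide +kernel

theorem palM_table : ∀ j : Fin 4,
    (∀ r ∈ minusF4 (palS j), wordApp sdataF4 ((wN (palM j)).map Fin.val) r ∈ qRoots) ∧
    (∀ r ∈ pNeg (palS j), wordApp sdataF4 ((wN (palM j)).map Fin.val) r ∈ qmRoots) ∧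
    ∀ r : Fin 48, wordApp sdataF4 ((wN (palM j ++ [palS j])).map Fin.val) r =
      wordApp sdataF4 ((wN (palW j ++ palM j)).map Fin.val) r := by
  decide +kernel

theorem cosW_step : ∀ (o : Fin 2) (a : Bool) (j : Option (Fin 4)) (b : Bool),
    ∃ (a' : Bool) (j' : Option (Fin 4)) (b' : Bool), ∀ r : Fin 48,
      wordApp sdataF4 ((wordsF4 o ++ wN (cosW a j b)).map Fin.val) r =
        wordApp sdataF4 ((wN (cosW a' j' b')).map Fin.val) r := by
  decide +kernel

theorem refl_zero : (∃ r : Fin 48, wordApp sdataF4 ((wordsF4 0).map Fin.val) r ≠ r.val) ∧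
    ∃ r : Fin 48, wordApp sdataF4 ((wordsF4 0).map Fin.val) r ≠
      wordApp sdataF4 ((wordsF4 1).map Fin.val) r := by
  decide +kernel

/-- The positive elements kept positive by `n`. -/
theorem Good.mem_plus_of_conj {D : ChevalleyDatum} {F : Type*} [Field F] (g : Good D) (hc : HasComm D)
    {n u : GL D.Idx F} {π : Equiv.Perm (Fin D.nroots)} (hn : g.Acts n π)
    (hu : u ∈ D.posUnipotent F) (hv : n * u * n⁻¹ ∈ D.posUnipotent F) :
    u ∈ rootGen D F (plusSet π) := by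
  obtain ⟨a, ha, b, hb, rfl⟩ := g.pos_split hc π hu
  have h1 : n * b * n⁻¹ ∈ D.borelSubgroup F ⊓ D.negUnipotent F := by
    refine Subgroup.mem_inf.2 ⟨Subgroup.mem_sup_left ?_, g.conj_minus_le hn hb⟩
    rw [show n * b * n⁻¹ = (n * a * n⁻¹)⁻¹ * (n * (a * b) * n⁻¹) by group]
    exact mul_mem (inv_mem (g.conj_plus_le hn ha)) hv
  rw [g.borel_inf_neg, Subgroup.mem_bot, conj_eq_one_iff] at h1
  rwa [h1, mul_one]

theorem wperm_eq_of_tab {l l' : List (Fin chevF4.rank)}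
    (h : ∀ r : Fin 48, wordApp sdataF4 (l.map Fin.val) r = wordApp sdataF4 (l'.map Fin.val) r) :
    goodF4.wperm l = goodF4.wperm l' := Equiv.ext fun r => Fin.ext (by
  rw [goodF4.wperm_tab checksF4 structChecksF4, goodF4.wperm_tab checksF4 structChecksF4]
  exact h r)

theorem wN_append (l l' : List (Fin 2)) : wN (l ++ l') = wN l ++ wN l' := List.flatMap_append ..

theorem wN_single (o : Fin 2) : wN [o] = wordsF4 o := by simp [wN]

namespace SetupF4

variable {K : Type u} [Field K] [Fintype K] [CharP K 2] {m : ℕ} (S : SetupF4 K m)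
include S

/-- The radical. -/
noncomputable def pQ (_S : SetupF4 K m) : Subgroup ↥(twistedF4 K (2 ^ m)) :=
  (rootGen chevF4 K {r | r ∈ qRoots}).subgroupOf (twistedF4 K (2 ^ m))

/-- The opposite radical. -/
noncomputable def pQm (_S : SetupF4 K m) : Subgroup ↥(twistedF4 K (2 ^ m)) :=
  (rootGen chevF4 K {r | r ∈ qmRoots}).subgroupOf (twistedF4 K (2 ^ m))

/-- The Levi complement. -/
noncomputable def lev : Subgroup ↥(twistedF4 K (2 ^ m)) := S.pL 1 ⊔ S.oH

lemma pL_le_lev : S.pL 1 ≤ S.lev := le_sup_left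

lemma oH_le_lev : S.oH ≤ S.lev := le_sup_right

lemma oN_mem_lev : S.oN 1 ∈ S.lev := S.pL_le_lev (S.pN_mem 1)

omit S in
lemma roots_le_normalizer {T : List ℕ}
    (hT : ∀ s ∈ pRoots 1, ∀ r ∈ T, r < 48 ∧ r ≠ s ∧ r ≠ chevF4.neg s ∧
      ∀ c ∈ chevF4.commTerms s r, c.1 ∈ T) :
    rootGen chevF4 K {r | r ∈ pRoots 1} ≤
      Subgroup.normalizer (rootGen chevF4 K {r | r ∈ T} : Set (GL chevF4.Idx K)) := by
  refine goodF4.rootGen_le fun s hs hlt u => ?_
  refine goodF4.le_normalizer_of_conj (fun r hr hr' t v => ?_) (goodF4.xG_mem_rootSubgroup s u)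
  obtain ⟨-, h1, h2, h3⟩ := hT s hs r hr
  rw [goodF4.xG_conj hasCommF4 hr' hlt h1 h2]
  refine mul_mem (goodF4.mem_rootGen hr' hr t) (Subgroup.list_prod_mem _ fun x hx => ?_)
  obtain ⟨c, hc, rfl⟩ := List.mem_map.1 hx
  exact goodF4.mem_rootGen (hT s hs _ (h3 c hc)).1 (h3 c hc) _

lemma lev_le_normalizer {T : List ℕ}
    (hT : ∀ s ∈ pRoots 1, ∀ r ∈ T, r < 48 ∧ r ≠ s ∧ r ≠ chevF4.neg s ∧
      ∀ c ∈ chevF4.commTerms s r, c.1 ∈ T) :
    S.lev ≤ (Subgroup.normalizer (rootGen chevF4 K {r | r ∈ T} : Set (GL chevF4.Idx K))).comap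
      (twistedF4 K (2 ^ m)).subtype := by
  set N := (Subgroup.normalizer (rootGen chevF4 K {r | r ∈ T} : Set (GL chevF4.Idx K))).comap
      (twistedF4 K (2 ^ m)).subtype
  have hH : S.oH ≤ N := fun h hh =>
    goodF4.diagonal_le_normalizer_rootGen _ (Subgroup.mem_subgroupOf.1 hh).1
  have hX : S.pX 1 ≤ N := fun x hx =>
    roots_le_normalizer hT (S.minus_le_roots 1 (Subgroup.mem_subgroupOf.1 hx))
  refine sup_le (sup_le (sup_le hX ((S.pH_le_oH 1).trans hH)) (Subgroup.zpowers_le.2 ?_)) hH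
  obtain ⟨x, hx, y, x', hx', hy, e⟩ := S.oN_factor 1
  rw [e]
  exact mul_mem (mul_mem (hX hx) (roots_le_normalizer hT
    (goodF4.rootGen_mono (fun r hr _ => pMinus_table 1 r (List.mem_append_right _ hr)) hy))) (hX hx')

lemma lev_norm_pQ {l q : ↥(twistedF4 K (2 ^ m))} (hl : l ∈ S.lev) (hq : q ∈ S.pQ) :
    l * q * l⁻¹ ∈ S.pQ :=
  Subgroup.mem_subgroupOf.2 ((Subgroup.mem_normalizer_iff.1
    (S.lev_le_normalizer (fun s hs => (qRoots_comm s hs).1) hl) _).1 (Subgroup.mem_subgroupOf.1 hq))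

lemma lev_norm_pQm {l q : ↥(twistedF4 K (2 ^ m))} (hl : l ∈ S.lev) (hq : q ∈ S.pQm) :
    l * q * l⁻¹ ∈ S.pQm :=
  Subgroup.mem_subgroupOf.2 ((Subgroup.mem_normalizer_iff.1
    (S.lev_le_normalizer (fun s hs => (qRoots_comm s hs).2) hl) _).1 (Subgroup.mem_subgroupOf.1 hq))

lemma pQ_le_oU : S.pQ ≤ S.oU := by
  intro x hx
  refine Subgroup.mem_subgroupOf.2 ⟨?_, x.2⟩
  rw [goodF4.posUnipotent_eq]
  exact goodF4.rootGen_mono (fun r hr _ => S.half_eq.symm ▸ (qRoots_pos r hr).1)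
    (Subgroup.mem_subgroupOf.1 hx)

lemma oN_conj_pQ {x : ↥(twistedF4 K (2 ^ m))} (hx : x ∈ S.pQ) :
    S.oN 1 * x * (S.oN 1)⁻¹ ∈ S.oB := by
  refine Subgroup.mem_subgroupOf.2 (Subgroup.mem_inf.2 ⟨Subgroup.mem_sup_left ?_,
    (S.oN 1 * x * (S.oN 1)⁻¹).2⟩)
  rw [goodF4.posUnipotent_eq]
  exact goodF4.conj_rootGen (S.acts_n 1) (S := {r | r ∈ qRoots}) (T := Set.Ici (half chevF4))
    (fun s hs => by
      show half chevF4 ≤ (goodF4.wperm (wordsF4 1) s).val
      rw [goodF4.wperm_tab checksF4 structChecksF4, S.half_eq]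
      exact (qRoots_pos s hs).2.2)
    (Subgroup.mem_map_of_mem (MulAut.conj (goodF4.wordN (F := K) (wordsF4 1))).toMonoidHom
      (Subgroup.mem_subgroupOf.1 hx))

/-- The radical meets the piece trivially. -/
lemma pQ_inf_pX {x : ↥(twistedF4 K (2 ^ m))} (hx : x ∈ S.pQ) (hx' : x ∈ S.pX 1) : x = 1 :=
  S.opp_borel 1 hx' (S.oN_conj_pQ hx)

lemma oU_le_par : S.oU ≤ S.lev ⊔ S.pQ := by
  intro u hu
  obtain ⟨a, ha, c, hc, e, hn⟩ := S.sys.pos_split1 hasCommF4 (1 : Fin 2)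
    (Subgroup.mem_subgroupOf.1 hu)
  set x : ↥(twistedF4 K (2 ^ m)) := ⟨a, ha.2⟩
  have hcG : c ∈ twistedF4 K (2 ^ m) := S.sys.base (1 : Fin 2) hc
  rw [show u = x * ⟨c, hcG⟩ from Subtype.ext e]
  refine mul_mem (Subgroup.mem_sup_right (Subgroup.mem_subgroupOf.2 ?_))
    (Subgroup.mem_sup_left (S.pL_le_lev (S.pX_le_pL 1 (Subgroup.mem_subgroupOf.2 hc))))
  show a ∈ _
  have hmem := goodF4.mem_plus_of_conj hasCommF4 (S.acts_n 1) ha.1 hn.1
  refine goodF4.rootGen_mono (fun r hr hlt => ?_) hmem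
  obtain ⟨h0, h1, h2⟩ := hr
  have h2' : half chevF4 ≤ (goodF4.wperm (wordsF4 1) ⟨r, hlt⟩).val := h2
  rw [goodF4.wperm_tab checksF4 structChecksF4, S.half_eq] at h2'
  exact qRoots_plus ⟨r, hlt⟩ (S.half_eq ▸ h1) h2'

lemma oB_le_par : S.oB ≤ S.lev ⊔ S.pQ := by
  intro b hb
  obtain ⟨y, hy, h, hh, rfl⟩ := S.oB_decomp hb
  exact mul_mem (S.oU_le_par hy) (Subgroup.mem_sup_left (S.oH_le_lev hh))

/-- The representative of a double coset. -/
noncomputable def palN (j : Fin 4) : ↥(twistedF4 K (2 ^ m)) :=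
  wordVal S.oN (palM j) * S.oN (palS j) * (wordVal S.oN (palM j))⁻¹

lemma palN_acts (j : Fin 4) :
    goodF4.Acts (S.palN j : GL chevF4.Idx K) (goodF4.wperm (wN (palW j))) := by
  have hM := goodF4.acts_wordN (F := K) (wN (palM j))
  have e : goodF4.wperm (wN (palW j)) = goodF4.wperm (wN (palM j)) *
      goodF4.wperm (wordsF4 (palS j)) * (goodF4.wperm (wN (palM j)))⁻¹ := by
    rw [eq_mul_inv_iff_mul_eq, ← goodF4.wperm_append, ← goodF4.wperm_append]
    refine (wperm_eq_of_tab ?_).symm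
    rw [← wN_single, ← wN_append, ← wN_append]
    exact (palM_table j).2.2
  rw [e, palN, Subgroup.coe_mul, Subgroup.coe_mul, Subgroup.coe_inv, S.coe_wordVal]
  exact goodF4.acts_mul (goodF4.acts_mul hM (S.acts_n (palS j))) (goodF4.acts_inv hM)

/-- A representative may be moved into the big cell by an element of the radical. -/
theorem palN_big (j : Fin 4) :
    ∃ x₀ ∈ S.pQ, ∃ v₀ ∈ S.pQm, ∃ u₀ ∈ S.pQ, x₀ * S.palN j = v₀ * u₀ := by
  obtain ⟨x, hx, y, x', hx', hy, e⟩ := S.oN_factor (palS j)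
  set M := wordVal S.oN (palM j) with hM
  have hmap : ∀ (T T' : List ℕ),
      (∀ r ∈ T, wordApp sdataF4 ((wN (palM j)).map Fin.val) r ∈ T') →
      ∀ z : ↥(twistedF4 K (2 ^ m)), (z : GL chevF4.Idx K) ∈ rootGen chevF4 K {r | r ∈ T} →
        M * z * M⁻¹ ∈ (rootGen chevF4 K {r | r ∈ T'}).subgroupOf (twistedF4 K (2 ^ m)) := by
    intro T T' h z hz
    refine Subgroup.mem_subgroupOf.2 ?_
    show (M : GL chevF4.Idx K) * z * (M : GL chevF4.Idx K)⁻¹ ∈ _
    rw [hM, S.coe_wordVal]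
    exact goodF4.conj_rootGen (goodF4.acts_wordN _) (S := {r | r ∈ T}) (T := {r | r ∈ T'})
      (fun s hs => by
        show (goodF4.wperm (wN (palM j)) s).val ∈ T'
        rw [goodF4.wperm_tab checksF4 structChecksF4]
        exact h _ hs)
      (Subgroup.mem_map_of_mem (MulAut.conj (goodF4.wordN (F := K) (wN (palM j)))).toMonoidHom hz)
  have hX : ∀ z ∈ S.pX (palS j), M * z * M⁻¹ ∈ S.pQ := fun z hz => by
    have h := (Subgroup.mem_inf.1 (Subgroup.mem_subgroupOf.1 hz)).2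
    rw [S.minusSet_w] at h
    exact hmap _ _ (palM_table j).1 z h
  refine ⟨(M * x * M⁻¹)⁻¹, inv_mem (hX x hx), M * y * M⁻¹,
    hmap _ _ (palM_table j).2.1 y hy, M * x' * M⁻¹, hX x' hx', ?_⟩
  rw [palN, ← hM, e]
  group

lemma weyl_word {v : Equiv.Perm (Fin chevF4.nroots)} (hv : v ∈ S.T.weylFix) :
    ∃ a j b, v = goodF4.wperm (wN (cosW a j b)) := by
  refine S.sys.weylFix_induction (P := fun v => ∃ a j b, v = goodF4.wperm (wN (cosW a j b)))
    ⟨false, none, false, rfl⟩ ?_ hv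
  rintro o v' - ⟨a, j, b, rfl⟩ -
  obtain ⟨a', j', b', h⟩ := cosW_step o a j b
  exact ⟨a', j', b', (goodF4.wperm_append _ _).symm.trans (wperm_eq_of_tab h)⟩

/-- Everything outside the parabolic subgroup lies in one of the four double cosets. -/
theorem par_cases (g : ↥(twistedF4 K (2 ^ m))) :
    g ∈ S.lev ⊔ S.pQ ∨ ∃ j, ∃ p₁ ∈ S.lev ⊔ S.pQ, ∃ p₂ ∈ S.lev ⊔ S.pQ, g = p₁ * S.palN j * p₂ := by
  obtain ⟨v, hv, n, hn, hnm, hna, b, hb, u, hu, he⟩ := S.sys.exists_canonical hasCommF4 g.2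
  obtain ⟨a, j, c, rfl⟩ := S.weyl_word hv
  set bG : ↥(twistedF4 K (2 ^ m)) := ⟨b, hb.2⟩
  set nG : ↥(twistedF4 K (2 ^ m)) := ⟨n, hn⟩
  have huB := S.sys.fixedMinus_le_borel hasCommF4 hv hu
  set uG : ↥(twistedF4 K (2 ^ m)) := ⟨u, huB.2⟩
  have hbP : bG ∈ S.lev ⊔ S.pQ := S.oB_le_par (Subgroup.mem_subgroupOf.2 hb)
  have huP : uG ∈ S.lev ⊔ S.pQ := S.oB_le_par (Subgroup.mem_subgroupOf.2 huB)
  let σ : Bool → ↥(twistedF4 K (2 ^ m)) := fun c => if c then S.oN 1 else 1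
  have hσP : ∀ c, σ c ∈ S.lev ⊔ S.pQ := fun c => by
    cases c
    exacts [one_mem _, Subgroup.mem_sup_left S.oN_mem_lev]
  have hσa : ∀ c, goodF4.Acts (σ c : GL chevF4.Idx K)
      (goodF4.wperm (wN (if c then [(1 : Fin 2)] else []))) := fun c => by
    cases c
    · exact goodF4.acts_one
    · rw [if_pos rfl, wN_single]
      exact S.acts_n 1
  let r : ↥(twistedF4 K (2 ^ m)) := j.elim 1 S.palN
  have hra : goodF4.Acts (r : GL chevF4.Idx K) (goodF4.wperm (wN (j.elim [] palW))) := by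
    cases j
    exacts [goodF4.acts_one, S.palN_acts _]
  set y := σ a * r * σ c with hy
  have hya : goodF4.Acts (y : GL chevF4.Idx K) (goodF4.wperm (wN (cosW a j c))) := by
    rw [cosW, wN_append, wN_append, goodF4.wperm_append, goodF4.wperm_append]
    exact goodF4.acts_mul (goodF4.acts_mul (hσa a) hra) (hσa c)
  have hσm : ∀ c, (σ c : GL chevF4.Idx K) ∈ chevF4.monomialSubgroup K := fun c => by
    cases c
    exacts [one_mem _, goodF4.wordN_mem _]
  have hym : (y : GL chevF4.Idx K) ∈ chevF4.monomialSubgroup K := by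
    refine mul_mem (mul_mem (hσm a) ?_) (hσm c)
    cases j with
    | none => exact one_mem _
    | some j =>
      refine mul_mem (mul_mem ?_ (goodF4.wordN_mem _)) (inv_mem ?_) <;>
        (rw [S.coe_wordVal]; exact goodF4.wordN_mem _)
  have hh : nG * y⁻¹ ∈ S.lev ⊔ S.pQ := Subgroup.mem_sup_left (S.oH_le_lev
    (Subgroup.mem_subgroupOf.2 ⟨goodF4.monomial_same_acts hnm hym hna hya, (nG * y⁻¹).2⟩))
  have hg : g = bG * (nG * y⁻¹) * σ a * r * (σ c * uG) := by
    rw [show bG * (nG * y⁻¹) * σ a * r * (σ c * uG) = bG * nG * uG by rw [hy]; group]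
    exact Subtype.ext he
  have hl := mul_mem (mul_mem hbP hh) (hσP a)
  have hr := mul_mem (hσP c) huP
  cases j with
  | none =>
    left
    rw [hg]
    exact mul_mem (mul_mem hl (one_mem _)) hr
  | some j => exact Or.inr ⟨j, _, hl, _, hr, hg⟩

/-- The parabolic subgroup is proper. -/
theorem par_ne_top : S.lev ⊔ S.pQ ≠ ⊤ := by
  intro htop
  let P := (chevF4.parabolicSubgroup K (S.sys.J (1 : Fin 2))).comap (twistedF4 K (2 ^ m)).subtype
  have hU : S.oU ≤ P := fun x hx =>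
    Subgroup.mem_sup_left (Subgroup.mem_sup_left (Subgroup.mem_subgroupOf.1 hx).1)
  have hH : S.oH ≤ P := fun x hx =>
    Subgroup.mem_sup_left (Subgroup.mem_sup_right (Subgroup.mem_subgroupOf.1 hx).1)
  have hle : S.lev ⊔ S.pQ ≤ P :=
    sup_le (sup_le (sup_le (sup_le ((S.pX_le_oU 1).trans hU) ((S.pH_le_oH 1).trans hH))
      (Subgroup.zpowers_le.2 (S.sys.n_mem_parabolic (1 : Fin 2)))) hH) (S.pQ_le_oU.trans hU)
  have hz : (S.oN 0 : GL chevF4.Idx K) ∈ chevF4.parabolicSubgroup K (S.sys.J (1 : Fin 2)) :=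
    hle (x := S.oN 0) (by rw [htop]; exact Subgroup.mem_top _)
  obtain ⟨x, hx, π, hπ, hxa, p, hp, p', hp', e⟩ := goodF4.mem_parabolic_cell hasCommF4 hz
  have h1 := goodF4.canonical_coset hasCommF4 (one_mem _) hp (goodF4.wordN_mem _) hx (one_mem _) hp'
    (show (1 : GL chevF4.Idx K) * goodF4.wordN (wordsF4 0) * 1 = p * x * p' by
      rw [one_mul, mul_one]; exact e)
  obtain rfl : goodF4.wperm (wordsF4 0) = π := inv_mul_eq_one.1
    (goodF4.acts_unique (goodF4.acts_mul (goodF4.acts_inv (S.acts_n 0)) hxa)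
      (goodF4.acts_diagonal h1))
  obtain ⟨⟨r, hr⟩, r', hr'⟩ := refl_zero
  rcases S.sys.eq_of_mem_wJ (S.sys.w_weylFix (0 : Fin 2)) hπ with e | e
  · refine hr ?_
    rw [← goodF4.wperm_tab checksF4 structChecksF4 (wordsF4 0) r]
    exact congrArg (fun p : Equiv.Perm (Fin chevF4.nroots) => (p r).val) e
  · refine hr' ?_
    exact (goodF4.wperm_tab checksF4 structChecksF4 _ r').symm.trans
      ((congrArg (fun p : Equiv.Perm (Fin chevF4.nroots) => (p r').val) e).trans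
        (goodF4.wperm_tab checksF4 structChecksF4 _ r'))

end SetupF4

end CfsgLib.Chev
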