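import Mathlib
import Cfsg.Agent.Lib.Chev.LargeReeLevi

/-!
The torus of ²F₄(q) against the parabolic subgroup of the class: the determinant character of the
Levi complement, a central element separating the radicals, and the action of the representatives.
-/

set_option autoImplicit false
set_option maxHeartbeats 1600000
set_option maxRecDepth 100000
set_option linter.unusedSectionVars false

namespace CfsgLib.Chev

open Cfsg.Lie CfsgLib.KnownA.PPart

universe u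

/-- The longest word. -/
def wTop : List (Fin 2) := [0, 1, 0, 1, 0, 1, 0, 1]

theorem wTop_table : (∀ o : Fin 2, wordApp sdataF4 ((wN wTop).map Fin.val) (pS o).1 < 48 ∧
      wordApp sdataF4 ((wN wTop).map Fin.val) (pS o).2 < 48 ∧
      ∀ i : Fin chevF4.rank,
        corootCo chevF4 (wordApp sdataF4 ((wN wTop).map Fin.val) (pS o).1) i =
          - corootCo chevF4 (pS o).1 i ∧
        corootCo chevF4 (wordApp sdataF4 ((wN wTop).map Fin.val) (pS o).2) i =
          - corootCo chevF4 (pS o).2 i) ∧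
    ∀ r ∈ qmRoots, wordApp sdataF4 ((wN wTop).map Fin.val) r ∈ qRoots := by
  decide +kernel

theorem palW_coroot : ∀ j : Fin 4,
    wordApp sdataF4 ((wN (palW j)).map Fin.val) (pS 0).1 < 48 ∧
    wordApp sdataF4 ((wN (palW j)).map Fin.val) (pS 0).2 < 48 ∧
    corootCo chevF4 (wordApp sdataF4 ((wN (palW j)).map Fin.val) (pS 0).1) 3 =
      (if j = 0 ∨ j = 3 then 0 else -2) ∧
    corootCo chevF4 (wordApp sdataF4 ((wN (palW j)).map Fin.val) (pS 0).2) 3 = -1 := by
  decide +kernel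

namespace SetupF4

variable {K : Type u} [Field K] [Fintype K] [CharP K 2] {m : ℕ} (S : SetupF4 K m)
include S

lemma lev_le_bStab {x : ↥(twistedF4 K (2 ^ m))} (hx : x ∈ S.lev) :
    (x : GL chevF4.Idx K) ∈ bStab (K := K) (pBlk 1) := by
  have h : S.lev ≤ (bStab (K := K) (pBlk 1)).comap (twistedF4 K (2 ^ m)).subtype := by
    refine sup_le (fun y hy => ?_) (fun y hy => ?_)
    · obtain ⟨g, -, e⟩ := S.pL_le_bSL 1 hy
      show (y : GL chevF4.Idx K) ∈ bStab (K := K) (pBlk 1)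
      rw [← e]
      exact g.2
    · obtain ⟨a, b, rfl⟩ := S.oH_iff.1 hy
      exact S.torus_bStab 1 a b
  exact h hx

/-- The Levi complement on its block. -/
noncomputable def levRep : ↥S.lev →* GL (Fin 4) K :=
  (S.bRep 1).comp (((twistedF4 K (2 ^ m)).subtype.comp S.lev.subtype).codRestrict
    (bStab (K := K) (pBlk 1)) fun x => S.lev_le_bStab x.2)

/-- The character of the Levi complement. -/
noncomputable def levChar : ↥S.lev →* Kˣ := Matrix.GeneralLinearGroup.det.comp S.levRep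

lemma levChar_pL {x : ↥(twistedF4 K (2 ^ m))} (hx : x ∈ S.pL 1) :
    S.levChar ⟨x, S.pL_le_lev hx⟩ = 1 := by
  obtain ⟨g, hg, e⟩ := S.pL_le_bSL 1 hx
  have eg : g = ⟨(x : GL chevF4.Idx K), S.lev_le_bStab (S.pL_le_lev hx)⟩ := Subtype.ext e
  subst eg
  exact MonoidHom.mem_ker.1 hg

lemma levChar_tG (a b : Kˣ) :
    S.levChar ⟨S.tG a b, S.oH_le_lev (S.tG_mem a b)⟩ = a ^ (4 * ((2 ^ m : ℕ) : ℤ) - 2) := by
  have h := S.det_torus 1 a b
  simp only [pChar, show (1 : Fin 2) ≠ 0 from by decide, if_false] at h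
  exact h

lemma exp_unit (x : Kˣ) : (x ^ (4 * ((2 ^ m : ℕ) : ℤ) - 2)) ^
    ((2 * ((2 ^ m : ℕ) : ℤ) + 1) * (((2 ^ m : ℕ) : ℤ) * ((2 ^ m : ℕ) : ℤ))) = x := by
  rw [← _root_.zpow_mul]
  conv_rhs => rw [← zpow_one x]
  exact S.zpow_period x (k := 4 * (((2 ^ m : ℕ) : ℤ) * ((2 ^ m : ℕ) : ℤ)) + 1) (by ring)

/-- The central torus element of the Levi complement. -/
noncomputable def zT (g : Kˣ) : ↥(twistedF4 K (2 ^ m)) := S.tG g (g ^ (((2 ^ m : ℕ) : ℤ) + 1))

lemma zT_mul (g g' : Kˣ) : S.zT g * S.zT g' = S.zT (g * g') := by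
  rw [zT, zT, zT, S.tG_mul, mul_zpow]

/-- The hom. -/
noncomputable def zHom : Kˣ →* ↥(twistedF4 K (2 ^ m)) := MonoidHom.mk' S.zT fun a b => (S.zT_mul a b).symm

lemma zT_rChi (g : Kˣ) : ∀ r ∈ pRoots 1, S.rChi r g (g ^ (((2 ^ m : ℕ) : ℤ) + 1)) = 1 := by
  set N := ((2 ^ m : ℕ) : ℤ) with hN
  obtain ⟨-, -, c25, c27, c28, c30, -⟩ := pRoots_cartan
  have hc : ∀ {r : ℕ} {c0 c1 c2 c3 : ℤ}, (chevF4.cartan 0 r, chevF4.cartan 1 r, chevF4.cartan 2 r,
      chevF4.cartan 3 r) = (c0, c1, c2, c3) → ∀ k : ℤ,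
      N * c0 + c3 + (N + 1) * (N * c1 + c2) = k * (2 * N * N - 1) →
        S.rChi r g (g ^ (N + 1)) = 1 := by
    intro r c0 c1 c2 c3 h k hk
    simp only [Prod.mk.injEq] at h
    rw [rChi, h.1, h.2.1, h.2.2.1, h.2.2.2, ← hN, ← _root_.zpow_mul, ← _root_.zpow_add,
      ← zpow_zero g]
    exact S.zpow_period g (k := k) (by rw [← hN]; linear_combination hk)
  have h25 := hc c25 (-1) (by ring)
  have h27 := hc c27 (1) (by ring)
  have h28 := hc c28 (0) (by ring)
  have h30 := hc c30 (1) (by ring)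
  have hneg := fun {p : ℕ × ℕ} hp => S.rChi_neg g (g ^ (N + 1)) (p := p) hp
  intro r hr
  simp only [pRoots, Matrix.cons_val_one, Matrix.cons_val_zero, List.mem_cons,
    List.not_mem_nil, or_false] at hr
  rcases hr with rfl | rfl | rfl | rfl | rfl | rfl | rfl | rfl
  · exact h25
  · exact h27
  · exact h28
  · exact h30
  · rw [hneg (p := (22, 25)) (by simp), h25, inv_one]
  · rw [hneg (p := (20, 27)) (by simp), h27, inv_one]
  · rw [hneg (p := (19, 28)) (by simp), h28, inv_one]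
  · rw [hneg (p := (17, 30)) (by simp), h30, inv_one]

lemma zT_central (g : Kˣ) {x : ↥(twistedF4 K (2 ^ m))} (hx : x ∈ S.lev) : Commute (S.zT g) x := by
  have hfix := S.zT_rChi g
  have h : S.lev ≤ Subgroup.centralizer {S.zT g} := by
    refine sup_le (sup_le (sup_le (fun y hy => ?_) (fun y hy => ?_)) (Subgroup.zpowers_le.2 ?_))
      (fun y hy => ?_) <;> refine Subgroup.mem_centralizer_singleton_iff.2 ?_
    · exact (Subtype.ext (S.tau_comm hfix (S.minus_le_roots 1 (Subgroup.mem_subgroupOf.1 hy)))).symm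
    · exact (S.oH_comm (S.tG_mem _ _) (S.pH_le_oH 1 hy)).symm
    · exact (S.oN_tau hfix).symm
    · exact (S.oH_comm (S.tG_mem _ _) hy).symm
  exact (Subgroup.mem_centralizer_singleton_iff.1 (h hx)).symm

lemma zT_separates (hm : 1 ≤ m) {g : Kˣ} (hg : orderOf g = 2 * 2 ^ m * 2 ^ m - 1) (i : Fin 12)
    (hi : layCls i ≠ pCls 1) : S.lchi i g (g ^ (((2 ^ m : ℕ) : ℤ) + 1)) ≠ 1 := by
  intro h
  set N := ((2 ^ m : ℕ) : ℤ) with hN
  have hN2 : 2 ≤ N := by
    have h2 := S.two_le hm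
    rw [hN]
    exact_mod_cast h2
  have hd : ∀ e : ℤ, g ^ e = 1 → 2 * N * N - 1 ∣ e := by
    intro e he
    have h1 : 1 ≤ 2 * 2 ^ m * 2 ^ m := Nat.one_le_iff_ne_zero.2 (by positivity)
    have h' := orderOf_dvd_iff_zpow_eq_one.2 he
    rw [hg, Nat.cast_sub h1] at h'
    simpa [hN] using h'
  rw [lchi, ← hN, ← _root_.zpow_mul, ← _root_.zpow_add] at h
  have h2 : (g ^ (N * (layA i).1 + (layA i).2 + (N + 1) * (N * (layB i).1 + (layB i).2))) ^ (2 : ℤ) = 1 := by
    rw [h, one_zpow]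
  rw [← _root_.zpow_mul] at h2
  have hdv := hd _ h2
  have key : ∀ e k : ℤ, (N * (layA i).1 + (layA i).2 + (N + 1) * (N * (layB i).1 + (layB i).2)) * 2
      = e + k * (2 * N * N - 1) → e ≠ 0 → |e| < 2 * N * N - 1 → False := by
    intro e k he hne hlt
    rw [he] at hdv
    have h3 : 2 * N * N - 1 ∣ e := by
      have := dvd_sub hdv (dvd_mul_left (2 * N * N - 1) k)
      simpa using this
    exact hne (Int.eq_zero_of_abs_lt_dvd h3 hlt)
  have hq : 4 * N - 2 < 2 * N * N - 1 := by nlinarith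
  fin_cases i <;> first
    | exact absurd (by decide) hi
    | simp only [layA, layB, Fin.zero_eta, Fin.mk_one, Fin.reduceFinMk, Matrix.cons_val_zero,
        Matrix.cons_val_one, Matrix.cons_val, Fin.isValue] at key
  · exact key (2 * N) 0 (by ring) (by omega) (abs_lt.2 ⟨by omega, by omega⟩)
  · exact key 1 1 (by ring) (by omega) (abs_lt.2 ⟨by omega, by omega⟩)
  · exact key (2 * N) 2 (by ring) (by omega) (abs_lt.2 ⟨by omega, by omega⟩)
  · exact key (2 * N) (-2) (by ring) (by omega) (abs_lt.2 ⟨by omega, by omega⟩)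
  · exact key 1 (-1) (by ring) (by omega) (abs_lt.2 ⟨by omega, by omega⟩)
  · exact key (-2 * N + 2) 0 (by ring) (by omega) (abs_lt.2 ⟨by omega, by omega⟩)
  · exact key (4 * N - 2) 0 (by ring) (by omega) (abs_lt.2 ⟨by omega, by omega⟩)
  · exact key (-2 * N + 2) 2 (by ring) (by omega) (abs_lt.2 ⟨by omega, by omega⟩)
  · exact key (-2 * N + 2) (-2) (by ring) (by omega) (abs_lt.2 ⟨by omega, by omega⟩)
  · exact key (-2 * N + 2) 0 (by ring) (by omega) (abs_lt.2 ⟨by omega, by omega⟩)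

lemma wordVal_conj_oH (l : List (Fin 2)) {h : ↥(twistedF4 K (2 ^ m))} (hh : h ∈ S.oH) :
    wordVal S.oN l * h * (wordVal S.oN l)⁻¹ ∈ S.oH := by
  induction l with
  | nil => simpa [wordVal] using hh
  | cons o l ih =>
    rw [wordVal_cons, show S.oN o * wordVal S.oN l * h * (S.oN o * wordVal S.oN l)⁻¹ =
      S.oN o * (wordVal S.oN l * h * (wordVal S.oN l)⁻¹) * (S.oN o)⁻¹ by group]
    exact S.oN_conj_oH o ih

lemma tG_split (a b : Kˣ) : S.tG a b = S.pTor 0 a * S.pTor 1 b := by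
  show _ = S.tG _ _ * S.tG _ _
  rw [S.tG_mul]
  simp

lemma wTop_inv (a b : Kˣ) :
    wordVal S.oN wTop * S.tG a b * (wordVal S.oN wTop)⁻¹ = S.tG a⁻¹ b⁻¹ := by
  have h : ∀ o c, wordVal S.oN wTop * S.pTor o c * (wordVal S.oN wTop)⁻¹ = S.pTor o c⁻¹ := by
    intro o c
    refine Subtype.ext ?_
    show (wordVal S.oN wTop : ↥(twistedF4 K (2 ^ m))).1 * (S.pTor o c : GL chevF4.Idx K) *
      ((wordVal S.oN wTop : ↥(twistedF4 K (2 ^ m))).1)⁻¹ = (S.pTor o c⁻¹ : GL chevF4.Idx K)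
    rw [S.coe_wordVal]
    obtain ⟨g1, g2, hneg⟩ := wTop_table.1 o
    obtain ⟨h1, h2, -⟩ := pS_table o
    rw [S.conj_pTor, S.pTor_eq_hG, ← goodF4.torHom_pow_coroot g1, ← goodF4.torHom_pow_coroot g2,
      ← goodF4.torHom_pow_coroot h1, ← goodF4.torHom_pow_coroot h2, ← map_mul, ← map_mul]
    congr 1
    funext i
    simp only [Pi.mul_apply, (hneg i).1, (hneg i).2, _root_.zpow_neg, inv_zpow, inv_pow]
  rw [S.tG_split, S.tG_split a⁻¹, ← h, ← h]
  group

/-- A generator of the central torus fixes nothing in the radicals. -/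
theorem zT_fpf (hm : 1 ≤ m) {g : Kˣ} (hg : orderOf g = 2 * 2 ^ m * 2 ^ m - 1)
    {y : ↥(twistedF4 K (2 ^ m))} (hy : y ∈ S.pQ ∨ y ∈ S.pQm) (hc : Commute (S.zT g) y) : y = 1 := by
  have key : ∀ y ∈ S.pQ, Commute (S.zT g) y → y = 1 := fun y hy hc =>
    S.pQ_inf_pX hy (S.mem_pX_of_tau (o := 1) (S.zT_separates hm hg) (S.pQ_le_oU hy)
      (mul_inv_eq_iff_eq_mul.2 hc.eq))
  rcases hy with hy | hy
  · exact key y hy hc
  set w := wordVal S.oN wTop with hw
  have hz : w * S.zT g * w⁻¹ = (S.zT g)⁻¹ := by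
    rw [hw, zT, S.wTop_inv]
    refine eq_inv_of_mul_eq_one_left ?_
    rw [S.tG_mul, inv_mul_cancel, inv_mul_cancel]
    exact (map_one (S.pTor 0)).symm.trans (by simp [pTor]) |>.symm
  have h1 : w * y * w⁻¹ ∈ S.pQ := by
    refine Subgroup.mem_subgroupOf.2 ?_
    show (w : GL chevF4.Idx K) * y * (w : GL chevF4.Idx K)⁻¹ ∈ _
    rw [hw, S.coe_wordVal]
    exact goodF4.conj_rootGen (goodF4.acts_wordN _) (S := {r | r ∈ qmRoots}) (T := {r | r ∈ qRoots})
      (fun s hs => by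
        show (goodF4.wperm (wN wTop) s).val ∈ qRoots
        rw [goodF4.wperm_tab checksF4 structChecksF4]
        exact wTop_table.2 _ hs)
      (Subgroup.mem_map_of_mem (MulAut.conj (goodF4.wordN (F := K) (wN wTop))).toMonoidHom
        (Subgroup.mem_subgroupOf.1 hy))
  have h2 : Commute (S.zT g)⁻¹ (w * y * w⁻¹) := by
    rw [← hz]
    exact (Commute.conj_iff w).2 hc
  exact conj_eq_one_iff.1 (key _ h1 (Commute.inv_left_iff.1 h2))

/-- Conjugation by a representative moves the character of the torus onto everything. -/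
theorem palN_surj (j : Fin 4) (u : Kˣ) :
    ∃ t t' : ↥S.lev, (t' : ↥(twistedF4 K (2 ^ m))) = (S.palN j)⁻¹ * t * S.palN j ∧
      S.levChar t' / S.levChar t = u := by
  set N := ((2 ^ m : ℕ) : ℤ) with hN
  set k := (2 * N + 1) * (N * N)
  obtain ⟨d, d', hd, hdd⟩ : ∃ d d' : ℤ,
      d = 1 - (N * (if j = 0 ∨ j = 3 then 0 else -2) + -1) ∧
        ∀ x : Kˣ, x ^ (d * d') = x := by
    refine ⟨_, if j = 0 ∨ j = 3 then N * N else 1 - N, rfl, fun x => ?_⟩
    conv_rhs => rw [← zpow_one x]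
    split_ifs
    · exact S.zpow_period x (k := 1) (by rw [← hN]; ring)
    · exact S.zpow_period x (k := -1) (by rw [← hN]; ring)
  set c : Kˣ := (u ^ k) ^ d'
  set t₀ := S.pTor 0 c with ht₀
  have ht₀H : t₀ ∈ S.oH := S.pH_le_oH 0 ⟨c, rfl⟩
  set y := wordVal S.oN (palW j) with hy
  have hyn : S.palN j * y⁻¹ ∈ S.oH := by
    refine Subgroup.mem_subgroupOf.2 ⟨goodF4.monomial_same_acts ?_ ?_ (S.palN_acts j) ?_, (S.palN j * y⁻¹).2⟩
    · show (wordVal S.oN (palM j) : ↥(twistedF4 K (2 ^ m))).1 * goodF4.wordN _ *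
        ((wordVal S.oN (palM j) : ↥(twistedF4 K (2 ^ m))).1)⁻¹ ∈ _
      rw [S.coe_wordVal]
      exact mul_mem (mul_mem (goodF4.wordN_mem _) (goodF4.wordN_mem _)) (inv_mem (goodF4.wordN_mem _))
    · rw [S.coe_wordVal]; exact goodF4.wordN_mem _
    · rw [S.coe_wordVal]; exact goodF4.acts_wordN _
  obtain ⟨a, b, hab⟩ := S.oH_iff.1 (S.wordVal_conj_oH (palW j) ht₀H)
  have he : S.palN j * t₀ * (S.palN j)⁻¹ = S.tG a b := by
    rw [← hab, show S.palN j * t₀ * (S.palN j)⁻¹ =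
      S.palN j * y⁻¹ * (y * t₀ * y⁻¹) * (S.palN j * y⁻¹)⁻¹ by group,
      S.oH_comm hyn (S.wordVal_conj_oH (palW j) ht₀H), mul_inv_cancel_right]
  have ha : a = c ^ (N * (if j = 0 ∨ j = 3 then 0 else -2) + -1 : ℤ) := by
    obtain ⟨g1, g2, e1, e2⟩ := palW_coroot j
    have h' : torHom chevF4 K (tauF4 m a b) =
        (y : GL chevF4.Idx K) * (t₀ : GL chevF4.Idx K) * (y : GL chevF4.Idx K)⁻¹ :=
      (congrArg Subtype.val hab).symm
    rw [hy, ht₀, S.coe_wordVal, S.conj_pTor, ← goodF4.torHom_pow_coroot g1,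
      ← goodF4.torHom_pow_coroot g2, ← map_mul] at h'
    have h3 := congrFun (goodF4.torHom_injective cartanF4_mul_inv h') ⟨3, by decide⟩
    simp only [Pi.mul_apply, e1, e2] at h3
    rw [show tauF4 m a b ⟨3, by decide⟩ = a by simp [tauF4]] at h3
    rw [h3, ← zpow_natCast c (2 ^ m), ← _root_.zpow_mul, ← _root_.zpow_add]
  refine ⟨⟨_, S.oH_le_lev (S.tG_mem a b)⟩, ⟨t₀, S.oH_le_lev ht₀H⟩, ?_, ?_⟩
  · show t₀ = (S.palN j)⁻¹ * S.tG a b * S.palN j
    rw [← he]
    group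
  · have e0 : S.levChar ⟨t₀, S.oH_le_lev ht₀H⟩ = c ^ (4 * N - 2) := by
      have h : t₀ = S.tG c 1 := by simp [ht₀, pTor]
      simp only [h]
      exact S.levChar_tG c 1
    rw [e0, S.levChar_tG, ← hN, ha, ← _root_.zpow_mul c, div_eq_mul_inv, ← _root_.zpow_neg c,
      ← _root_.zpow_add c,
      show 4 * N - 2 + -((N * (if j = 0 ∨ j = 3 then 0 else -2) + -1) * (4 * N - 2)) =
        d * (4 * N - 2) by rw [hd]; ring,
      _root_.zpow_mul c]
    have e1 : c ^ d = u ^ k := by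
      show ((u ^ k) ^ d') ^ d = u ^ k
      rw [← _root_.zpow_mul, mul_comm d' d, hdd]
    rw [e1, ← _root_.zpow_mul, mul_comm k, _root_.zpow_mul]
    exact S.exp_unit u

end SetupF4

end CfsgLib.Chev
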