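import Mathlib
import Cfsg.Agent.Lib.Chev.LargeReePieceGood
import Cfsg.Agent.Lib.Suzuki.Model

/-!
The piece of the class of ²F₄(q) is the Suzuki group Sz(q), by its action on the block.
-/

set_option autoImplicit false
set_option maxHeartbeats 1600000
set_option maxRecDepth 100000
set_option linter.unusedSectionVars false

namespace CfsgLib.Chev

open Cfsg.Lie CfsgLib.KnownA.PPart

universe u

/-- The positions of the entries of the eight roots of the piece of the class on its block. -/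
def szPos : ℕ → List (Fin 4 × Fin 4)
  | 25 => [(2, 1)]
  | 27 => [(1, 0), (3, 2)]
  | 28 => [(2, 0), (3, 1)]
  | 30 => [(3, 0)]
  | 22 => [(1, 2)]
  | 20 => [(0, 1), (2, 3)]
  | 19 => [(0, 2), (1, 3)]
  | 17 => [(0, 3)]
  | _ => []

theorem szPos_table : ∀ r ∈ pRoots 1, ∀ i j : Fin 4,
    ((chevF4.chainCoeff r (pBlk 1 j) (pBlk 1 i)).map fun km => (km.1, km.2.natAbs)) =
      if (i, j) ∈ szPos r then [(1, 1)] else [] := by
  decide +kernel

namespace SetupF4

variable {K : Type u} [Field K] [Fintype K] [CharP K 2] {m : ℕ} (S : SetupF4 K m)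
include S

lemma pL_one_bStab {x : ↥(twistedF4 K (2 ^ m))} (hx : x ∈ S.pL 1) :
    (x : GL chevF4.Idx K) ∈ bStab (K := K) (pBlk 1) := by
  obtain ⟨g, -, e⟩ := S.pL_le_bSL 1 hx
  show (x : GL chevF4.Idx K) ∈ bStab (K := K) (pBlk 1)
  rw [← e]
  exact g.2

/-- The representation on the block, four-dimensional. -/
noncomputable abbrev bFour (S : SetupF4 K m) : ↥(bStab (K := K) (pBlk 1)) →* GL (Fin 4) K := S.bRep 1

/-- The piece of the class on its block. -/
noncomputable def szRep : ↥(S.pL 1) →* GL (Fin 4) K :=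
  S.bFour.comp (((twistedF4 K (2 ^ m)).subtype.comp (S.pL 1).subtype).codRestrict
    (bStab (K := K) (pBlk 1)) fun x => S.pL_one_bStab x.2)

/-- The matrix of a root element on the block. -/
def szElem (r : ℕ) (t : K) : Matrix (Fin 4) (Fin 4) K :=
  fun i j => (if i = j then 1 else 0) + if (i, j) ∈ szPos r then t else 0

lemma bRep_xG {r : ℕ} (hr : r ∈ pRoots 1) (t : K) :
    ((S.bFour ⟨goodF4.xG r t, xG_bStab 1 hr t⟩ : GL (Fin 4) K) : Matrix (Fin 4) (Fin 4) K) = szElem r t := by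
  ext i j
  refine (S.xG_entry 1 hr t i j).trans (congrArg _ ?_)
  have h := szPos_table r hr i j
  have habs : ∀ z : ℤ, (z : K) = (z.natAbs : K) := fun z => by
    rcases Int.natAbs_eq z with e | e
    · conv_lhs => rw [e, Int.cast_natCast]
    · conv_lhs => rw [e, Int.cast_neg, Int.cast_natCast, CharTwo.neg_eq]
  rw [show (fun km : ℕ × ℤ => ((km.2 : ℤ) : K) * t ^ km.1) =
    (fun p : ℕ × ℕ => (p.2 : K) * t ^ p.1) ∘ fun km => (km.1, km.2.natAbs) from
      funext fun km => by simp only [Function.comp_apply]; rw [habs], ← List.map_map, h]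
  split_ifs <;> simp

lemma szRep_four {x : ↥(twistedF4 K (2 ^ m))} (hx : x ∈ S.pL 1) {r₁ r₂ r₃ r₄ : ℕ} {a b c d : K}
    (h₁ : r₁ ∈ pRoots 1) (h₂ : r₂ ∈ pRoots 1) (h₃ : r₃ ∈ pRoots 1) (h₄ : r₄ ∈ pRoots 1)
    (e : (x : GL chevF4.Idx K) =
      goodF4.xG r₁ a * (goodF4.xG r₂ b * (goodF4.xG r₃ c * goodF4.xG r₄ d))) :
    (S.szRep ⟨x, hx⟩ : Matrix (Fin 4) (Fin 4) K) =
      szElem r₁ a * (szElem r₂ b * (szElem r₃ c * szElem r₄ d)) := by
  rw [← S.bRep_xG h₁, ← S.bRep_xG h₂, ← S.bRep_xG h₃, ← S.bRep_xG h₄,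
    ← Units.val_mul, ← Units.val_mul, ← Units.val_mul, ← map_mul, ← map_mul, ← map_mul]
  exact congrArg (fun g => ((S.bFour g : GL (Fin 4) K) : Matrix (Fin 4) (Fin 4) K)) (Subtype.ext e)

open CfsgLib.Suzuki in
/-- The unipotent piece goes to the lower triangular matrices of the Suzuki group. -/
lemma szRep_xb (h : ThSq K m) (t u : K) :
    S.szRep ⟨S.xb t u, S.pX_le_pL 1 (S.xb_mem_pX t u)⟩ =
      toGLHom K m (Suzuki.wG h * Suzuki.tG h (t ^ 2 ^ m) (t * t ^ 2 ^ m + u) * Suzuki.wG h) := by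
  refine Units.ext ?_
  rw [S.szRep_four _ (r₁ := 25) (r₂ := 27) (r₃ := 28) (r₄ := 30) (by decide) (by decide) (by decide)
    (by decide) rfl]
  show _ = (wSL K).1 * tMat m _ _ * (wSL K).1
  have e1 : Suzuki.th m (t ^ 2 ^ m) = t := by
    rw [Suzuki.th_def, ← pow_mul, show 2 ^ m * 2 ^ (m + 1) = 2 * 2 ^ m * 2 ^ m by ring, S.pow_q]
  have e2 : Suzuki.th m (t * t ^ 2 ^ m + u) = t ^ (2 * 2 ^ m + 1) + u ^ (2 * 2 ^ m) := by
    rw [map_add, map_mul, e1, Suzuki.th_def, Suzuki.th_def, show 2 ^ (m + 1) = 2 * 2 ^ m by ring, pow_succ]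
  ext i j
  fin_cases i <;> fin_cases j <;>
    simp [szElem, szPos, Matrix.mul_apply, Fin.sum_univ_four, wSL, tMat, e1, e2] <;>
    (try ring_nf) <;> (try simp [CharTwo.two_eq_zero])

open CfsgLib.Suzuki in
/-- The torus of the piece goes to the diagonal matrices. -/
lemma szRep_pTor (h : ThSq K m) (c : Kˣ) :
    S.szRep ⟨S.pTor 1 c, S.pH_le_pL 1 ⟨c, rfl⟩⟩ =
      toGLHom K m (Suzuki.hG h (c ^ (((2 ^ m : ℕ) : ℤ) - 1))) := by
  refine Units.ext ?_
  set N := ((2 ^ m : ℕ) : ℤ) with hN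
  have hp : (S.pTor 1 c : GL chevF4.Idx K) = (S.tG 1 c : GL chevF4.Idx K) := by simp [pTor]
  show ((S.pTor 1 c : GL chevF4.Idx K) : Matrix chevF4.Idx chevF4.Idx K).submatrix
    (fun i => Sum.inr (pBlk 1 i)) (fun i => Sum.inr (pBlk 1 i)) = hMat m _
  rw [hp]
  show Matrix.submatrix ((torHom chevF4 K (tauF4 m 1 c) : GL chevF4.Idx K) :
    Matrix chevF4.Idx chevF4.Idx K) _ _ = _
  rw [torHom_apply]
  erw [Matrix.submatrix_diagonal _ (fun i => (Sum.inr (pBlk 1 i) : chevF4.Idx))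
    (Sum.inr_injective.comp (pBlk_injective 1))]
  rw [hMat]
  refine congrArg Matrix.diagonal (funext fun i => ?_)
  have e : (∏ x : Fin chevF4.rank, tauF4 m 1 c x ^ torExp chevF4 x (Sum.inr (pBlk 1 i))) =
      (1 : Kˣ) ^ (N * chevF4.cartan 0 (pBlk 1 i) + chevF4.cartan 3 (pBlk 1 i) : ℤ) *
        c ^ (N * chevF4.cartan 1 (pBlk 1 i) + chevF4.cartan 2 (pBlk 1 i) : ℤ) :=
    S.prod_cartan 1 c _
  simp only [Function.comp_apply]
  have c1 := congrArg (fun x : ℤ × ℤ × ℤ × ℤ => x.2.1) (pBlk_cartan 1 i)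
  have c2 := congrArg (fun x : ℤ × ℤ × ℤ × ℤ => x.2.2.1) (pBlk_cartan 1 i)
  dsimp only at c1 c2
  rw [e, one_zpow, one_mul, c1, c2, Suzuki.th_def, ← Units.val_pow_eq_pow_val, ← Units.val_mul,
    ← zpow_natCast, ← _root_.zpow_mul, ← _root_.zpow_add, ← Units.val_inv_eq_inv_val,
    ← Units.val_inv_eq_inv_val, ← _root_.zpow_neg, ← _root_.zpow_neg]
  have hp2 : ((2 ^ (m + 1) : ℕ) : ℤ) = 2 * N := by rw [hN]; push_cast; ring
  rw [hp2]
  fin_cases i
  · exact congrArg Units.val (S.zpow_period c (k := -1) (by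
      rw [← hN]; show N * (-1) + 0 - ((N - 1) * (2 * N) + (N - 1)) = _; ring))
  · exact congrArg Units.val (S.zpow_period c (k := 0) (by
      rw [← hN]; show N * 1 + -1 - (N - 1) = _; ring))
  · exact congrArg Units.val (S.zpow_period c (k := 0) (by
      rw [← hN]; show N * (-1) + 1 - -(N - 1) = _; ring))
  · exact congrArg Units.val (S.zpow_period c (k := 1) (by
      rw [← hN]; show N * 1 + 0 - -((N - 1) * (2 * N) + (N - 1)) = _; ring))

open CfsgLib.Suzuki in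
/-- The fundamental element goes to the Weyl element. -/
lemma szRep_oN (h : ThSq K m) :
    S.szRep ⟨S.oN 1, S.pN_mem 1⟩ = toGLHom K m (Suzuki.wG h) := by
  have hy : S.yb 1 1 ∈ S.pL 1 := S.neg_mem_pL 1 (S.yb_neg 1 1)
  have e : (⟨S.oN 1, S.pN_mem 1⟩ : ↥(S.pL 1)) = ⟨S.xb 0 1, S.pX_le_pL 1 (S.xb_mem_pX 0 1)⟩ *
      ⟨S.yb 1 1, hy⟩ * ⟨S.xb 1 0, S.pX_le_pL 1 (S.xb_mem_pX 1 0)⟩ := Subtype.ext S.oN_one_eq
  rw [e, map_mul, map_mul]
  refine Units.ext ?_
  rw [Units.val_mul, Units.val_mul,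
    S.szRep_four _ (r₁ := 25) (r₂ := 27) (r₃ := 28) (r₄ := 30) (by decide) (by decide) (by decide)
      (by decide) rfl,
    S.szRep_four _ (r₁ := 20) (r₂ := 22) (r₃ := 19) (r₄ := 17) (by decide) (by decide) (by decide)
      (by decide) rfl,
    S.szRep_four _ (r₁ := 25) (r₂ := 27) (r₃ := 28) (r₄ := 30) (by decide) (by decide) (by decide)
      (by decide) rfl]
  show _ = (wSL K).1
  ext i j
  fin_cases i <;> fin_cases j <;>
    simp [szElem, szPos, Matrix.mul_apply, Fin.sum_univ_four, wSL, CharTwo.add_self_eq_zero]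

open CfsgLib.Suzuki in
/-- The piece of the class is isomorphic to the Suzuki group, compatibly with the block. -/
theorem exists_szIso (hm : 1 ≤ m) :
    ∃ e : ↥(S.pL 1) ≃* Cfsg.Sz K m, ∀ x, S.szRep x = toGLHom K m (e x) := by
  classical
  have h : ThSq K m := thSq_of_card S.card
  have hle : S.szRep.range ≤ (toGLHom K m).range := by
    have key : S.pL 1 ≤ ((toGLHom K m).range.comap S.szRep).map (S.pL 1).subtype := by
      refine sup_le (sup_le (fun x hx => ?_) ?_) (Subgroup.zpowers_le.2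
        ⟨⟨S.oN 1, S.pN_mem 1⟩, ⟨_, (S.szRep_oN h).symm⟩, rfl⟩)
      · obtain ⟨t, u, rfl⟩ := S.exists_xb (Subgroup.mem_subgroupOf.1 hx)
        exact ⟨⟨S.xb t u, S.pX_le_pL 1 hx⟩, ⟨_, (S.szRep_xb h t u).symm⟩, rfl⟩
      · rintro _ ⟨c, rfl⟩
        exact ⟨_, ⟨_, (S.szRep_pTor h c).symm⟩, rfl⟩
    rintro _ ⟨x, rfl⟩
    obtain ⟨y, hy, e⟩ := key x.2
    obtain rfl : y = x := Subtype.ext e
    exact hy
  let f : ↥(S.pL 1) →* Cfsg.Sz K m :=
    (MonoidHom.ofInjective toGLHom_injective).symm.toMonoidHom.comp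
      (S.szRep.codRestrict (toGLHom K m).range fun x => hle ⟨x, rfl⟩)
  have hf : ∀ x, S.szRep x = toGLHom K m (f x) := fun x =>
    (congrArg Subtype.val ((MonoidHom.ofInjective toGLHom_injective).apply_symm_apply
      ⟨S.szRep x, hle ⟨x, rfl⟩⟩)).symm
  have hmem : ∀ x g, S.szRep x = toGLHom K m g → g ∈ f.range := fun x g e =>
    ⟨x, toGLHom_injective ((hf x).symm.trans e)⟩
  have hw : Suzuki.wG h ∈ f.range := hmem _ _ (S.szRep_oN h)
  have hsurj : Function.Surjective f := fun g => by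
    refine induction_on_sz hm S.card (S := f.range) ?_ ?_ hw g
    · intro a b
      obtain ⟨t, rfl⟩ : ∃ t : K, t ^ 2 ^ m = a :=
        Finite.surjective_of_injective (f := fun x : K => x ^ 2 ^ m) (fun x y e => by
          have := congrArg (fun z : K => z ^ (2 * 2 ^ m)) e
          simp only [← pow_mul] at this
          rwa [show 2 ^ m * (2 * 2 ^ m) = 2 * 2 ^ m * 2 ^ m by ring, S.pow_q, S.pow_q] at this) a
      have h1 := hmem _ _ (S.szRep_xb h t (b - t * t ^ 2 ^ m))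
      rw [add_sub_cancel] at h1
      have h2 := mul_mem (mul_mem hw h1) hw
      rwa [show Suzuki.wG h * (Suzuki.wG h * Suzuki.tG h (t ^ 2 ^ m) b * Suzuki.wG h) * Suzuki.wG h =
        (Suzuki.wG h * Suzuki.wG h) * Suzuki.tG h (t ^ 2 ^ m) b * (Suzuki.wG h * Suzuki.wG h) by group,
        Suzuki.wG_sq, one_mul, mul_one] at h2
    · intro s
      have h1 := hmem _ _ (S.szRep_pTor h (s ^ (-2 * (((2 ^ m : ℕ) : ℤ) + 1))))
      rw [← _root_.zpow_mul, S.zpow_period s (e' := 1) (k := -1) (by ring), zpow_one] at h1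
      exact h1
  have hcard : Nat.card ↥(S.pL 1) = Nat.card (Cfsg.Sz K m) := by
    have R := S.rankOne hm 1
    show Nat.card ↥(S.pX 1 ⊔ S.pH 1 ⊔ Subgroup.zpowers (S.oN 1)) = _
    rw [R.card_eq, S.card_pX 1, S.card_pH 1, card_sz hm S.card]
    show Fintype.card K ^ 2 * _ * (1 + Fintype.card K ^ 2) = _
    ring
  exact ⟨MulEquiv.ofBijective f ((Nat.bijective_iff_surjective_and_card f).2 ⟨hsurj, hcard⟩), hf⟩

end SetupF4

end CfsgLib.Chev
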