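import Mathlib

/-!
Products of two conjugates of an element of a Levi complement acting without fixed points on the
two opposite radicals.
-/

set_option autoImplicit false

namespace CfsgLib.Chev

open scoped Pointwise

variable {G : Type*} [Group G]

/-- An element without fixed points on a normalised subgroup has all of the coset as conjugates. -/
theorem coset_conj [Finite G] {Q : Subgroup G} {x : G} (hx : ∀ q ∈ Q, x * q * x⁻¹ ∈ Q)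
    (hc : ∀ q ∈ Q, q * x = x * q → q = 1) {y : G} (hy : y ∈ Q) :
    (∃ c, y * x = c * x * c⁻¹) ∧ ∃ c, x * y = c * x * c⁻¹ := by
  have h1 : ∀ y ∈ Q, ∃ c, y * x = c * x * c⁻¹ := by
    intro y hy
    let f : Q → Q := fun q => ⟨q.1 * x * q.1⁻¹ * x⁻¹, by
      rw [show q.1 * x * q.1⁻¹ * x⁻¹ = q.1 * (x * q.1⁻¹ * x⁻¹) by group]
      exact mul_mem q.2 (hx _ (inv_mem q.2))⟩
    have hf : Function.Injective f := by
      intro a b h
      have h' : a.1 * x * a.1⁻¹ = b.1 * x * b.1⁻¹ := mul_right_cancel (congrArg Subtype.val h)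
      have hab : b.1⁻¹ * a.1 * x = x * (b.1⁻¹ * a.1) := by
        calc b.1⁻¹ * a.1 * x = b.1⁻¹ * (a.1 * x * a.1⁻¹) * a.1 := by group
          _ = x * (b.1⁻¹ * a.1) := by rw [h']; group
      exact Subtype.ext (inv_mul_eq_one.1 (hc _ (mul_mem (inv_mem b.2) a.2) hab)).symm
    obtain ⟨q, hq⟩ := Finite.surjective_of_injective hf ⟨y, hy⟩
    refine ⟨q.1, ?_⟩
    have hq' : q.1 * x * q.1⁻¹ * x⁻¹ = y := congrArg Subtype.val hq
    rw [← hq']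
    group
  refine ⟨h1 y hy, ?_⟩
  obtain ⟨c, h⟩ := h1 y hy
  refine ⟨x * c, ?_⟩
  calc x * y = x * (y * x) * x⁻¹ := by group
    _ = _ := by rw [h]; group

/-- A non-trivial element of a simple group has a conjugate outside a proper subgroup. -/
theorem exists_conj_not_mem [IsSimpleGroup G] {P : Subgroup G} (hP : P ≠ ⊤) {g : G} (hg : g ≠ 1) :
    ∃ c, c * g * c⁻¹ ∉ P := by
  by_contra h
  push Not at h
  rcases (Subgroup.normalCore_normal P).eq_bot_or_eq_top with e | e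
  · exact hg (Subgroup.mem_bot.1 (e ▸ (h : g ∈ P.normalCore)))
  · exact hP (top_le_iff.1 (e ▸ Subgroup.normalCore_le P))

/-- The elements which are products of two conjugates of `x`. -/
def IsTwoConj (x g : G) : Prop := ∃ u v : G, g = (u * x * u⁻¹) * (v * x * v⁻¹)

theorem IsTwoConj.of_conj {x g : G} (c : G) (h : IsTwoConj x (c * g * c⁻¹)) : IsTwoConj x g := by
  obtain ⟨u, v, h⟩ := h
  refine ⟨c⁻¹ * u, c⁻¹ * v, ?_⟩
  rw [show g = c⁻¹ * (c * g * c⁻¹) * c by group, h]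
  group

section Frame

variable [Finite G] {A : Type*} [CommGroup A] {L Q Qm : Subgroup G}
  (hQ : ∀ l ∈ L, ∀ q ∈ Q, l * q * l⁻¹ ∈ Q) (hQm : ∀ l ∈ L, ∀ q ∈ Qm, l * q * l⁻¹ ∈ Qm)
  {x : G} (hxL : x ∈ L)
  (cQ : ∀ q ∈ Q, q * x = x * q → q = 1) (cQm : ∀ q ∈ Qm, q * x = x * q → q = 1)
  (χ : ↥L →* A)
  (cov : ∀ l : ↥L, χ l = χ ⟨x, hxL⟩ * χ ⟨x, hxL⟩ →
    ∃ a ∈ L, ∃ b ∈ L, (l : G) = a * x * a⁻¹ * (b * x * b⁻¹))

include hQ hQm cQ cQm cov in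
/-- Elements of the big cell with the prescribed character are products of two conjugates. -/
theorem isTwoConj_cell {v u : G} (hv : v ∈ Qm) (hu : u ∈ Q) (l : ↥L)
    (hl : χ l = χ ⟨x, hxL⟩ * χ ⟨x, hxL⟩) : IsTwoConj x (v * l * u) := by
  obtain ⟨a, ha, b, hb, e⟩ := cov l hl
  have hxQ : ∀ q ∈ Q, x * q * x⁻¹ ∈ Q := hQ x hxL
  have hxQm : ∀ q ∈ Qm, x * q * x⁻¹ ∈ Qm := hQm x hxL
  have hv' : a⁻¹ * v * a ∈ Qm := by simpa using hQm a⁻¹ (inv_mem ha) v hv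
  have hu' : b⁻¹ * u * b ∈ Q := by simpa using hQ b⁻¹ (inv_mem hb) u hu
  obtain ⟨c, hc⟩ := (coset_conj hxQm cQm hv').1
  obtain ⟨d, hd⟩ := (coset_conj hxQ cQ hu').2
  refine ⟨a * c, b * d, ?_⟩
  calc v * (l : G) * u = a * (a⁻¹ * v * a * x) * a⁻¹ * (b * (x * (b⁻¹ * u * b)) * b⁻¹) := by
        rw [e]; group
    _ = _ := by rw [hc, hd]; group

include hQ hQm cQ cQm cov in
/-- A double coset representative. -/
theorem isTwoConj_coset {n x₀ v₀ u₀ : G} (hx₀ : x₀ ∈ Q) (hv₀ : v₀ ∈ Qm) (hu₀ : u₀ ∈ Q)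
    (e₀ : x₀ * n = v₀ * u₀)
    (hsurj : ∀ a : A, ∃ t t' : ↥L, (t' : G) = n⁻¹ * t * n ∧ χ t' / χ t = a)
    {p₁ p₂ : G} (h₁ : p₁ ∈ L ⊔ Q) (h₂ : p₂ ∈ L ⊔ Q) : IsTwoConj x (p₁ * n * p₂) := by
  refine IsTwoConj.of_conj p₁⁻¹ ?_
  rw [show p₁⁻¹ * (p₁ * n * p₂) * p₁⁻¹⁻¹ = n * (p₂ * p₁) by group]
  have hLQ : ∀ p ∈ L ⊔ Q, ∃ l ∈ L, ∃ u ∈ Q, p = l * u := by
    intro p hp
    have hle : L ≤ Subgroup.normalizer (Q : Set G) := fun l hl => by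
      rw [Subgroup.mem_normalizer_iff]
      exact fun y => ⟨hQ l hl y, fun hy => by simpa [mul_assoc] using hQ l⁻¹ (inv_mem hl) _ hy⟩
    have : p ∈ (L : Set G) * (Q : Set G) := by
      rw [← Subgroup.coe_mul_of_left_le_normalizer_right L Q hle]; exact hp
    obtain ⟨l, hl, u, hu, rfl⟩ := this
    exact ⟨l, hl, u, hu, rfl⟩
  obtain ⟨l, hl, u, hu, e⟩ := hLQ _ (mul_mem h₂ h₁)
  rw [e]
  obtain ⟨t, t', ht', ha⟩ := hsurj (χ ⟨x, hxL⟩ * χ ⟨x, hxL⟩ / χ ⟨l, hl⟩)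
  refine IsTwoConj.of_conj (t : G) ?_
  set l' : ↥L := t' * ⟨l, hl⟩ * t⁻¹ with hl'
  have h1 : (t : G) * (n * (l * u)) * (t : G)⁻¹ = n * (l' * ((t : G) * u * (t : G)⁻¹)) := by
    rw [hl', Subgroup.coe_mul, Subgroup.coe_mul, ht', Subgroup.coe_inv]
    group
  rw [h1]
  refine IsTwoConj.of_conj x₀ ?_
  rw [show x₀ * (n * (l' * ((t : G) * u * (t : G)⁻¹))) * x₀⁻¹ =
    v₀ * l' * (((l' : G)⁻¹ * u₀ * l') * ((t : G) * u * (t : G)⁻¹) * x₀⁻¹) by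
      rw [← mul_assoc x₀, e₀]; group]
  refine isTwoConj_cell hQ hQm hxL cQ cQm χ cov hv₀ (mul_mem (mul_mem ?_ ?_) (inv_mem hx₀)) l' ?_
  · simpa using hQ _ (inv_mem l'.2) u₀ hu₀
  · exact hQ _ t.2 u hu
  · rw [hl', map_mul, map_mul, map_inv, mul_right_comm, ← div_eq_mul_inv, ha, div_mul_cancel]

end Frame

end CfsgLib.Chev
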