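import Mathlib
import Cfsg.Agent.Lib.Chev.TwoConjFrame
import Cfsg.Agent.Lib.Chev.LargeReeLeviTor
import Cfsg.Agent.Lib.Chev.LargeReePieceSz
import Cfsg.Agent.Lib.KnownB.SzConjCover

/-!
A semisimple class of ²F₄(q), q ≥ 8, whose square covers every non-identity element.
-/

set_option autoImplicit false
set_option maxHeartbeats 1600000
set_option maxRecDepth 100000
set_option linter.unusedSectionVars false

namespace CfsgLib.Chev

open Cfsg.Lie CfsgLib.KnownA.PPart CfsgLib.Suzuki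

universe u

theorem tw_pow_five :
    (!![(1 : ZMod 2), 0, 1, 1; 0, 1, 0, 1; 0, 0, 1, 0; 0, 0, 0, 1] *
      !![0, 0, 0, 1; 0, 0, 1, 0; 0, 1, 0, 0; 1, 0, 0, 0]) ^ 5 = 1 := by
  decide +kernel

theorem szOdd_not_five (m : ℕ) : ¬ 5 ∣ 2 * 2 ^ m * 2 ^ m - 1 := by
  intro h
  have h4 : ∀ m : ℕ, 4 ^ m % 5 = 1 ∨ 4 ^ m % 5 = 4 := fun m => by
    induction m with
    | zero => left; rfl
    | succ m ih => rw [pow_succ, Nat.mul_mod]; rcases ih with e | e <;> rw [e] <;> simp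
  have e : 2 * 2 ^ m * 2 ^ m = 2 * 4 ^ m := by rw [mul_assoc, ← mul_pow]; norm_num
  rw [e] at h
  have h1 : 1 ≤ 4 ^ m := Nat.one_le_pow _ _ (by norm_num)
  rcases h4 m with h' | h' <;> omega

namespace SetupF4

variable {K : Type u} [Field K] [Fintype K] [CharP K 2] {m : ℕ} (S : SetupF4 K m)
include S

omit S in
theorem sz_five (h : ThSq K m) :
    (Suzuki.tG h (0 : K) 1 * Suzuki.wG h) ^ 5 = 1 ∧
      (Suzuki.tG h (0 : K) 1 * Suzuki.wG h) * (Suzuki.tG h (0 : K) 1 * Suzuki.wG h) ≠ 1 := by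
  set x := Suzuki.tG h (0 : K) 1 * Suzuki.wG h with hx
  have hv : ((x : Matrix.SpecialLinearGroup (Fin 4) K) : Matrix (Fin 4) (Fin 4) K) =
      (ZMod.castHom (dvd_refl 2) K).mapMatrix
        (!![(1 : ZMod 2), 0, 1, 1; 0, 1, 0, 1; 0, 0, 1, 0; 0, 0, 0, 1] *
          !![0, 0, 0, 1; 0, 0, 1, 0; 0, 1, 0, 0; 1, 0, 0, 0]) := by
    show tMat m (0 : K) 1 * (wSL K).1 = _
    rw [map_mul]
    congr 1 <;> (ext i j; fin_cases i <;> fin_cases j <;> simp [tMat, wSL])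
  refine ⟨Subtype.ext (Subtype.ext ?_), fun h2 => ?_⟩
  · show ((x : Matrix.SpecialLinearGroup (Fin 4) K) ^ 5 : Matrix.SpecialLinearGroup (Fin 4) K).1 = 1
    rw [Matrix.SpecialLinearGroup.coe_pow, hv, ← map_pow, tw_pow_five, map_one]
  · have h' : ((x * x : Cfsg.Sz K m) : Matrix.SpecialLinearGroup (Fin 4) K).1 = 1 := by rw [h2]; rfl
    rw [Subgroup.coe_mul, Matrix.SpecialLinearGroup.coe_mul, hv, ← map_mul,
      ← map_one (ZMod.castHom (dvd_refl 2) K).mapMatrix] at h'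
    have h'' := Matrix.map_injective (ZMod.castHom (dvd_refl 2) K).injective h'
    revert h''
    decide +kernel

/-- The element of order five of the piece. -/
theorem exists_piece_five (hm : 1 ≤ m) :
    ∃ x : ↥(S.pL 1), x ^ 5 = 1 ∧ (∃ c, c * x * c⁻¹ = x⁻¹) ∧
      ∀ g : ↥(S.pL 1), g ≠ 1 → ∃ u v, g = (u * x * u⁻¹) * (v * x * v⁻¹) := by
  classical
  obtain ⟨e, -⟩ := S.exists_szIso hm
  have h : ThSq K m := thSq_of_card S.card
  set y := Suzuki.tG h (0 : K) 1 * Suzuki.wG h with hy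
  obtain ⟨h5, h2⟩ := sz_five (K := K) h
  have hi : Suzuki.tG h (0 : K) 1 * Suzuki.tG h (0 : K) 1 = 1 := by
    rw [Suzuki.tG_mul]
    simp only [map_zero, zero_mul, CharTwo.add_self_eq_zero]
    exact Subtype.ext tSL_zero
  have hinv : Suzuki.wG h * y * (Suzuki.wG h)⁻¹ = y⁻¹ := by
    rw [hy, _root_.mul_inv_rev, inv_eq_of_mul_eq_one_right (Suzuki.wG_sq h),
      inv_eq_of_mul_eq_one_right hi, mul_assoc, mul_assoc, Suzuki.wG_sq, mul_one]
  refine ⟨e.symm y, by rw [← map_pow, h5, map_one],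
    ⟨e.symm (Suzuki.wG h), by rw [← map_inv, ← map_mul, ← map_mul, hinv, map_inv]⟩, fun g hg => ?_⟩
  obtain ⟨u, v, huv⟩ := CfsgLib.KnownB.SzCh.two_conj_cover hm S.card (x := y) h2 (g := e g)
    (fun h0 => hg (by simpa using congrArg e.symm h0))
  refine ⟨e.symm u, e.symm v, e.injective ?_⟩
  simp only [map_mul, map_inv, MulEquiv.apply_symm_apply]
  exact huv

/-- The Levi complement is the piece times the central torus. -/
lemma lev_decomp {l : ↥(twistedF4 K (2 ^ m))} (hl : l ∈ S.lev) : ∃ p ∈ S.pL 1, ∃ c, l = p * S.zT c := by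
  have hgc : ∀ c, ∀ p ∈ S.pL 1, Commute (S.zT c) p := fun c p hp => S.zT_central c (S.pL_le_lev hp)
  let M : Subgroup ↥(twistedF4 K (2 ^ m)) :=
    { carrier := {l | ∃ p ∈ S.pL 1, ∃ c, l = p * S.zT c}
      one_mem' := ⟨1, one_mem _, 1, by
        rw [show S.zT 1 = 1 from map_one S.zHom, mul_one]⟩
      mul_mem' := by
        rintro _ _ ⟨p, hp, c, rfl⟩ ⟨p', hp', c', rfl⟩
        refine ⟨p * p', mul_mem hp hp', c * c', ?_⟩
        rw [← S.zT_mul, mul_assoc, ← mul_assoc (S.zT c), (hgc c p' hp').eq, mul_assoc, mul_assoc]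
      inv_mem' := by
        rintro _ ⟨p, hp, c, rfl⟩
        refine ⟨p⁻¹, inv_mem hp, c⁻¹, ?_⟩
        rw [show S.zT c⁻¹ = (S.zT c)⁻¹ from map_inv S.zHom c, _root_.mul_inv_rev]
        exact ((hgc c p hp).inv_left.inv_right).eq }
  have hle : S.lev ≤ M := by
    refine sup_le (fun p hp => ⟨p, hp, 1, by rw [show S.zT 1 = 1 from map_one S.zHom, mul_one]⟩) ?_
    intro x hx
    obtain ⟨a, b, rfl⟩ := S.oH_iff.1 hx
    refine ⟨S.pTor 1 (b * (a ^ (((2 ^ m : ℕ) : ℤ) + 1))⁻¹), S.pH_le_pL 1 ⟨_, rfl⟩, a, ?_⟩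
    show _ = S.tG _ _ * S.tG _ _
    rw [S.tG_mul]
    simp
  exact hle hl

/-- The square of a class of elements of odd order covers ²F₄(q) away from the identity. -/
theorem two_conj (hm : 1 ≤ m) :
    ∃ x : ↥(twistedF4 K (2 ^ m)), Odd (orderOf x) ∧ ∀ g, g ≠ 1 → IsTwoConj x g := by
  classical
  obtain ⟨x5, h55, ⟨cr, hcr⟩, hcov⟩ := S.exists_piece_five hm
  obtain ⟨g, hgen⟩ := IsCyclic.exists_generator (α := Kˣ)
  have hord : orderOf g = 2 * 2 ^ m * 2 ^ m - 1 := by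
    rw [orderOf_eq_card_of_forall_mem_zpowers hgen, Nat.card_units, Nat.card_eq_fintype_card, S.card_eq']
  set z := S.zT g with hz
  set n := 2 * 2 ^ m * 2 ^ m - 1 with hn
  have hzn : z ^ n = 1 := by
    show (S.zHom g) ^ n = 1
    rw [← map_pow, ← hord, pow_orderOf_eq_one, map_one]
  have hx5 : (x5 : ↥(twistedF4 K (2 ^ m))) ^ 5 = 1 := by
    rw [← Subgroup.coe_pow, h55, Subgroup.coe_one]
  set x := (x5 : ↥(twistedF4 K (2 ^ m))) * z with hx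
  have hcomm : Commute (x5 : ↥(twistedF4 K (2 ^ m))) z :=
    (S.zT_central g (S.pL_le_lev x5.2)).symm
  have hxL : x ∈ S.lev := by
    refine mul_mem (S.pL_le_lev x5.2) (S.oH_le_lev (S.tG_mem _ _))
  have hz5 : x ^ 5 = z ^ 5 := by rw [hx, hcomm.mul_pow, hx5, one_mul]
  have hcop : Nat.Coprime 5 n := (Nat.Prime.coprime_iff_not_dvd (by norm_num)).2 (szOdd_not_five m)
  have fpf : ∀ q, q ∈ S.pQ ∨ q ∈ S.pQm → q * x = x * q → q = 1 := fun q hq hqx => by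
    refine S.zT_fpf hm hord hq ?_
    have h5 : Commute (z ^ 5) q := hz5 ▸ (Commute.pow_right (show Commute q x from hqx) 5).symm
    obtain ⟨k, hk⟩ := exists_pow_eq_self_of_coprime
      (show Nat.Coprime 5 (orderOf z) from hcop.coprime_dvd_right (orderOf_dvd_of_pow_eq_one hzn))
    have := h5.pow_left k
    rwa [hk] at this
  refine ⟨x, ?_, ?_⟩
  · have hdiv : orderOf x ∣ 5 * n := orderOf_dvd_of_pow_eq_one (by
      rw [pow_mul, hz5, ← pow_mul, mul_comm, pow_mul, hzn, one_pow])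
    refine Odd.of_dvd_nat ((show Odd 5 by decide).mul ?_) hdiv
    have : 1 ≤ 2 ^ m * 2 ^ m := Nat.one_le_iff_ne_zero.2 (by positivity)
    rw [Nat.odd_iff, hn, mul_assoc]
    omega
  intro y hy
  have := (S.simple hm).1
  obtain ⟨c, hc⟩ := exists_conj_not_mem S.par_ne_top hy
  refine IsTwoConj.of_conj c ?_
  rcases S.par_cases (c * y * c⁻¹) with h | ⟨j, p₁, h₁, p₂, h₂, e⟩
  · exact absurd h hc
  rw [e]
  obtain ⟨x₀, hx₀, v₀, hv₀, u₀, hu₀, e₀⟩ := S.palN_big j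
  refine isTwoConj_coset (fun l hl q hq => S.lev_norm_pQ hl hq) (fun l hl q hq => S.lev_norm_pQm hl hq)
    hxL (fun q hq => fpf q (Or.inl hq)) (fun q hq => fpf q (Or.inr hq)) S.levChar ?_
    hx₀ hv₀ hu₀ e₀ (S.palN_surj j) h₁ h₂
  -- the covering inside the Levi complement
  intro l hl
  have hχp : ∀ p (hp : p ∈ S.pL 1) (a : Kˣ) (h' : p * S.zT a ∈ S.lev),
      S.levChar ⟨p * S.zT a, h'⟩ = a ^ (4 * ((2 ^ m : ℕ) : ℤ) - 2) := by
    intro p hp a h'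
    have e' : (⟨p * S.zT a, h'⟩ : ↥S.lev) =
        ⟨p, S.pL_le_lev hp⟩ * ⟨S.zT a, S.oH_le_lev (S.tG_mem _ _)⟩ := rfl
    rw [e', map_mul, S.levChar_pL hp, one_mul]
    exact S.levChar_tG _ _
  obtain ⟨p, hp, a, ea⟩ := S.lev_decomp l.2
  obtain ⟨lv, hlv⟩ := l
  obtain rfl : lv = p * S.zT a := ea
  rw [hχp p hp a hlv, show (⟨x, hxL⟩ : ↥S.lev) = ⟨(x5 : ↥(twistedF4 K (2 ^ m))) * S.zT g, hxL⟩ from rfl,
    hχp _ x5.2 g hxL, ← mul_zpow] at hl
  have ha : a = g * g := by rw [← S.exp_unit a, hl, S.exp_unit]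
  obtain ⟨u, v, huv⟩ : ∃ u v : ↥(S.pL 1), (⟨p, hp⟩ : ↥(S.pL 1)) = (u * x5 * u⁻¹) * (v * x5 * v⁻¹) := by
    by_cases h1 : (⟨p, hp⟩ : ↥(S.pL 1)) = 1
    · exact ⟨cr, 1, by rw [h1, hcr]; group⟩
    · exact hcov _ h1
  refine ⟨u, S.pL_le_lev u.2, v, S.pL_le_lev v.2, ?_⟩
  have hu : Commute z (u : ↥(twistedF4 K (2 ^ m))) := S.zT_central g (S.pL_le_lev u.2)
  have hv : Commute z (v : ↥(twistedF4 K (2 ^ m))) := S.zT_central g (S.pL_le_lev v.2)
  have hvx : Commute z ((v : ↥(twistedF4 K (2 ^ m))) * x5 * (v : ↥(twistedF4 K (2 ^ m)))⁻¹) :=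
    (hv.mul_right hcomm.symm).mul_right hv.inv_right
  have e1 : ∀ w : ↥(twistedF4 K (2 ^ m)), Commute z w →
      w * x * w⁻¹ = w * (x5 : ↥(twistedF4 K (2 ^ m))) * w⁻¹ * z := fun w hw => by
    rw [hx, mul_assoc (w * _) (w⁻¹) z, ← hw.inv_right.eq]
    group
  show p * S.zT a = (u : ↥(twistedF4 K (2 ^ m))) * x * (u : ↥(twistedF4 K (2 ^ m)))⁻¹ *
    ((v : ↥(twistedF4 K (2 ^ m))) * x * (v : ↥(twistedF4 K (2 ^ m)))⁻¹)
  rw [e1 _ hu, e1 _ hv, ha, ← S.zT_mul, ← hz,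
    show p = (u : ↥(twistedF4 K (2 ^ m))) * x5 * (u : ↥(twistedF4 K (2 ^ m)))⁻¹ *
      ((v : ↥(twistedF4 K (2 ^ m))) * x5 * (v : ↥(twistedF4 K (2 ^ m)))⁻¹) from congrArg Subtype.val huv]
  generalize (u : ↥(twistedF4 K (2 ^ m))) * x5 * (u : ↥(twistedF4 K (2 ^ m)))⁻¹ = A
  generalize (v : ↥(twistedF4 K (2 ^ m))) * x5 * (v : ↥(twistedF4 K (2 ^ m)))⁻¹ = B at hvx ⊢
  rw [mul_assoc A z, ← mul_assoc z B z, hvx.eq, mul_assoc B z z, mul_assoc A B]

end SetupF4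

end CfsgLib.Chev
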