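import Mathlib
import Cfsg.Prelude.Def_LieTypeChar
import Cfsg.Agent.Lib.Classical.SLOrder
import Cfsg.Agent.Lib.Classical.SUCenter
import Cfsg.Agent.Lib.Classical.OrthOmega
import Cfsg.Agent.Lib.Suzuki.Action
import Cfsg.Agent.Lib.Suzuki.Model
import Cfsg.Agent.S0245
import Cfsg.Agent.S0246
import Cfsg.Agent.S0280
import Cfsg.Agent.S1059
import Cfsg.Agent.S1062
import Cfsg.Agent.S1063
import Cfsg.Agent.S1064
import Cfsg.Agent.S1065
import Cfsg.Agent.S1066
import Cfsg.Agent.S1067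
import Cfsg.Agent.S1068
import Cfsg.Agent.S1069

/-!
# The order of a group of Lie type against the order of a Sylow subgroup in the characteristic
-/

set_option autoImplicit false

namespace CfsgLib.Chev.OrderBound

variable {p a : ℕ}

/-- The bounds for a group of order `n`: below the cube of the `p`-part, and its cube below the
eighth power of the `p`-part unless `P` holds. -/
def Bd (p n : ℕ) (P : Prop) : Prop :=
  n < p ^ (3 * n.factorization p) ∧ (¬ P → n ^ 3 < p ^ (8 * n.factorization p))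

theorem np_mul (hp : p.Prime) {x y : ℕ} (hx : ¬ p ∣ x) (hy : ¬ p ∣ y) : ¬ p ∣ x * y := fun h =>
  (hp.dvd_mul.1 h).elim hx hy

theorem np_prod (hp : p.Prime) {ι : Type*} (s : Finset ι) (f : ι → ℕ) (h : ∀ i ∈ s, ¬ p ∣ f i) :
    ¬ p ∣ ∏ i ∈ s, f i := fun hd =>
  (hp.prime.dvd_finsetProd_iff f).1 hd |>.elim fun i hi => h i hi.1 hi.2

theorem one_lt_q (hp : p.Prime) (ha : 1 ≤ a) : 1 < p ^ a := Nat.one_lt_pow (by omega) hp.one_lt

theorem dvd_q (ha : 1 ≤ a) {j : ℕ} (hj : 0 < j) : p ∣ (p ^ a) ^ j :=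
  dvd_pow (dvd_pow_self p (by omega)) (by omega)

theorem np_sub (hp : p.Prime) (ha : 1 ≤ a) {j : ℕ} (hj : 0 < j) : ¬ p ∣ (p ^ a) ^ j - 1 := fun h => by
  have h1 : 1 ≤ (p ^ a) ^ j := Nat.one_le_pow _ _ (pow_pos hp.pos _)
  have h2 := Nat.dvd_sub (dvd_q (p := p) ha hj) h
  rw [show (p ^ a) ^ j - ((p ^ a) ^ j - 1) = 1 by omega] at h2
  exact hp.ne_one (Nat.dvd_one.1 h2)

theorem np_add (hp : p.Prime) (ha : 1 ≤ a) {j : ℕ} (hj : 0 < j) : ¬ p ∣ (p ^ a) ^ j + 1 := fun h =>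
  hp.ne_one (Nat.dvd_one.1 ((Nat.dvd_add_right (dvd_q (p := p) ha hj)).1 h))

theorem np_sub_one (hp : p.Prime) (ha : 1 ≤ a) : ¬ p ∣ p ^ a - 1 := by
  simpa using np_sub hp ha (j := 1) one_pos

theorem np_add_one (hp : p.Prime) (ha : 1 ≤ a) : ¬ p ∣ p ^ a + 1 := by
  simpa using np_add hp ha (j := 1) one_pos

theorem np_of_dvd {x y : ℕ} (h : ¬ p ∣ y) (hxy : x ∣ y) : ¬ p ∣ x := fun hx => h (hx.trans hxy)

/-- The bounds from an order formula. -/
theorem bd_of_formula (hp : p.Prime) {n d c N e M : ℕ} {P : Prop}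
    (h : d * n = (p ^ a) ^ N * M) (hd : ¬ p ∣ d) (hM : ¬ p ∣ M) (hcd : c ≤ d)
    (hlt : M < c * (p ^ a) ^ e) (he : e ≤ 2 * N)
    (hP : n.factorization p = a * N → ¬ P → 3 * e ≤ 5 * N) : Bd p n P := by
  have hM0 : M ≠ 0 := fun h0 => hM (h0 ▸ dvd_zero p)
  have hd0 : d ≠ 0 := fun h0 => hd (h0 ▸ dvd_zero p)
  have hqN : (p ^ a) ^ N ≠ 0 := pow_ne_zero _ (pow_ne_zero _ hp.ne_zero)
  have hn0 : n ≠ 0 := fun h0 => mul_ne_zero hqN hM0 (by rw [← h, h0, mul_zero])
  have hk : n.factorization p = a * N := by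
    have := congrArg (fun x : ℕ => Nat.factorization x p) h
    beta_reduce at this
    rw [Nat.factorization_mul hd0 hn0, Nat.factorization_mul hqN hM0, Finsupp.add_apply,
      Finsupp.add_apply, Nat.factorization_eq_zero_of_not_dvd hd,
      Nat.factorization_eq_zero_of_not_dvd hM, zero_add, add_zero, ← pow_mul,
      Nat.Prime.factorization_pow hp, Finsupp.single_eq_same] at this
    exact this
  have hn : n < p ^ (a * N + a * e) := by
    have h1 : c * n ≤ d * n := Nat.mul_le_mul_right n hcd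
    have h2 : (p ^ a) ^ N * M < (p ^ a) ^ N * (c * (p ^ a) ^ e) :=
      Nat.mul_lt_mul_of_pos_left hlt (Nat.pos_of_ne_zero hqN)
    have h3 : c * n < c * p ^ (a * N + a * e) := by
      calc c * n ≤ d * n := h1
        _ = (p ^ a) ^ N * M := h
        _ < _ := h2
        _ = _ := by rw [pow_add, pow_mul, pow_mul]; ring
    exact Nat.lt_of_mul_lt_mul_left h3
  rw [Bd, hk]
  refine ⟨hn.trans_le (Nat.pow_le_pow_right hp.pos (by nlinarith)), fun hP' => ?_⟩
  have he' := hP hk hP'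
  calc n ^ 3 < (p ^ (a * N + a * e)) ^ 3 := Nat.pow_lt_pow_left hn (by norm_num)
    _ = p ^ (3 * (a * N + a * e)) := by rw [← pow_mul, mul_comm]
    _ ≤ _ := Nat.pow_le_pow_right hp.pos (by nlinarith)

/-- The bounds away from `PSL₂`. -/
theorem bd_of_formula' (hp : p.Prime) {n d c N e M : ℕ} {P : Prop}
    (h : d * n = (p ^ a) ^ N * M) (hd : ¬ p ∣ d) (hM : ¬ p ∣ M) (hcd : c ≤ d)
    (hlt : M < c * (p ^ a) ^ e) (he : 3 * e ≤ 5 * N) : Bd p n P :=
  bd_of_formula hp h hd hM hcd hlt (by omega) fun _ _ => he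

theorem sub_lt {q : ℕ} (hq : 1 < q) (i : ℕ) : q ^ i - 1 < q ^ i := by
  have : 0 < q ^ i := by positivity
  omega

theorem sub_add_lt {q i j : ℕ} (hq : 1 < q) (h : i ≤ j) :
    (q ^ i - 1) * (q ^ j + 1) < q ^ (i + j) := by
  obtain ⟨x, hx⟩ : ∃ x, q ^ i = x + 1 := ⟨q ^ i - 1, by have : 0 < q ^ i := by positivity
                                                        omega⟩
  have hle : q ^ i ≤ q ^ j := Nat.pow_le_pow_right (by omega) h
  rw [pow_add, hx, Nat.add_sub_cancel, add_mul, mul_add, mul_one, one_mul]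
  omega

theorem mul_lt' {u v x y : ℕ} (h1 : u < x) (h2 : v < y) : u * v < x * y :=
  Nat.mul_lt_mul_of_lt_of_lt h1 h2

/-- The `p`-part of `∏ (q^n - q^i)`. -/
theorem prod_pow_sub (q : ℕ) (n : ℕ) :
    ∏ i : Fin n, (q ^ n - q ^ (i : ℕ)) =
      q ^ (n * (n - 1) / 2) * ∏ j ∈ Finset.range n, (q ^ (j + 1) - 1) := by
  rw [Fin.prod_univ_eq_prod_range (fun i => q ^ n - q ^ i) n,
    ← Finset.prod_range_reflect (fun j => q ^ (j + 1) - 1) n, ← Finset.sum_range_id n,
    ← Finset.prod_pow_eq_pow_sum, ← Finset.prod_mul_distrib]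
  refine Finset.prod_congr rfl fun i hi => ?_
  rw [Finset.mem_range] at hi
  rw [Nat.mul_sub, mul_one, ← pow_add, show i + (n - 1 - i + 1) = n by omega]

theorem prod_sub_lt {q : ℕ} (hq : 1 < q) : ∀ k : ℕ,
    ∏ j ∈ Finset.range (k + 2), (q ^ (j + 1) - 1) < (q - 1) * q ^ ((k + 2) * (k + 3) / 2 - 1) := by
  intro k
  induction k with
  | zero =>
    simp only [Finset.prod_range_succ, Finset.prod_range_zero, zero_add, one_mul, pow_one]
    exact Nat.mul_lt_mul_of_pos_left (sub_lt hq 2) (by omega)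
  | succ k ih =>
    rw [Finset.prod_range_succ]
    refine lt_of_lt_of_eq (mul_lt' ih (sub_lt hq (k + 2 + 1))) ?_
    rw [mul_assoc, ← pow_add]
    congr 2
    have e1 : (k + 1 + 2) * (k + 1 + 3) / 2 = (k + 2) * (k + 3) / 2 + (k + 3) := by
      rw [show (k + 1 + 2) * (k + 1 + 3) = (k + 2) * (k + 3) + (k + 3) * 2 by ring,
        Nat.add_mul_div_right _ _ two_pos]
    have : 3 ≤ (k + 2) * (k + 3) / 2 := by
      rw [Nat.le_div_iff_mul_le two_pos]; nlinarith
    omega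

theorem prod_even_lt {q : ℕ} (hq : 1 < q) : ∀ m : ℕ,
    ∏ j ∈ Finset.range (m + 1), (q ^ (2 * (j + 1)) - 1) < q ^ ((m + 1) * (m + 2)) := by
  intro m
  induction m with
  | zero => simpa using sub_lt hq 2
  | succ m ih =>
    rw [Finset.prod_range_succ]
    refine lt_of_lt_of_eq (mul_lt' ih (sub_lt hq _)) ?_
    rw [← pow_add]
    ring_nf

/-- The product in the order of the unitary group. -/
theorem prod_unitary {q : ℕ} (hq : 1 < q) : ∀ n : ℕ, 2 ≤ n →
    ∏ i ∈ Finset.range n, (if Even i then q ^ (i + 1) + 1 else q ^ (i + 1) - 1) <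
      (q + 1) * q ^ (n * (n + 1) / 2 - 1) := by
  have key : ∀ j : ℕ, 1 ≤ j →
      ∏ i ∈ Finset.range (2 * j), (if Even i then q ^ (i + 1) + 1 else q ^ (i + 1) - 1) <
          (q + 1) * q ^ (j * (2 * j + 1) - 1) ∧
        ∏ i ∈ Finset.range (2 * j + 1), (if Even i then q ^ (i + 1) + 1 else q ^ (i + 1) - 1) <
          (q + 1) * q ^ ((j + 1) * (2 * j + 1) - 1) := by
    intro j hj
    induction j, hj using Nat.le_induction with
    | base =>
      simp only [Finset.prod_range_succ, Finset.prod_range_zero, one_mul, mul_one,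
        show ¬ Even 1 by decide, show Even 2 by decide, show Even 0 by decide, if_true, if_false,
        zero_add, pow_one]
      constructor
      · exact Nat.mul_lt_mul_of_pos_left (sub_lt hq 2) (by omega)
      · rw [mul_assoc]
        exact Nat.mul_lt_mul_of_pos_left (sub_add_lt (i := 2) (j := 3) hq (by norm_num)) (by omega)
    | succ j hj ih =>
      have h2 : 2 * (j + 1) = 2 * j + 1 + 1 := by ring
      have e1 : ¬ Even (2 * j + 1) := Nat.not_even_iff_odd.2 ⟨j, rfl⟩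
      have e2 : Even (2 * j + 1 + 1) := ⟨j + 1, by ring⟩
      have hpos : 1 ≤ (j + 1) * (2 * j + 1) := Nat.one_le_iff_ne_zero.2 (by positivity)
      constructor
      · rw [h2, Finset.prod_range_succ, if_neg e1]
        refine lt_of_lt_of_eq (mul_lt' ih.2 (sub_lt hq _)) ?_
        rw [mul_assoc, ← pow_add]
        congr 2
        have : (j + 1) * (2 * j + 1 + 1 + 1) = (j + 1) * (2 * j + 1) + (2 * j + 1 + 1) := by ring
        omega
      · rw [h2, Finset.prod_range_succ, Finset.prod_range_succ, if_neg e1, if_pos e2, mul_assoc]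
        refine lt_of_lt_of_eq (mul_lt' ih.2 (sub_add_lt hq (show 2 * j + 1 + 1 ≤ 2 * j + 1 + 1 + 1 by omega))) ?_
        rw [mul_assoc, ← pow_add]
        congr 2
        have : (j + 1 + 1) * (2 * j + 1 + 1 + 1) =
            (j + 1) * (2 * j + 1) + (2 * j + 1 + 1 + (2 * j + 1 + 1 + 1)) := by ring
        omega
  intro n hn
  rcases Nat.even_or_odd n with ⟨j, hj⟩ | ⟨j, hj⟩
  · subst hj
    rw [← two_mul, show 2 * j * (2 * j + 1) / 2 = j * (2 * j + 1) by
      rw [mul_assoc]; omega]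
    exact (key j (by omega)).1
  · subst hj
    rw [show (2 * j + 1) * (2 * j + 1 + 1) / 2 = (j + 1) * (2 * j + 1) by
      rw [show (2 * j + 1) * (2 * j + 1 + 1) = 2 * ((j + 1) * (2 * j + 1)) by ring]; omega]
    exact (key j (by omega)).2

theorem field_pow (hp : p.Prime) (F : Type*) [Field F] [Fintype F] [CharP F p] :
    ∃ a, 1 ≤ a ∧ Fintype.card F = p ^ a := by
  have := Fact.mk hp
  obtain ⟨n, -, hn⟩ := FiniteField.card F p
  exact ⟨n, n.pos, hn⟩

theorem root_pow (hp : p.Prime) {q k : ℕ} (hk : 0 < k) (F : Type*) [Field F] [Fintype F]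
    [CharP F p] (hF : Fintype.card F = q ^ k) : ∃ a, 1 ≤ a ∧ q = p ^ a := by
  obtain ⟨b, hb, hb'⟩ := field_pow hp F
  obtain ⟨i, -, hi⟩ := (Nat.dvd_prime_pow hp).1 (hb' ▸ hF ▸ dvd_pow_self q hk.ne')
  refine ⟨i, Nat.one_le_iff_ne_zero.2 fun h0 => ?_, hi⟩
  rw [hb', hi, h0, pow_zero, one_pow] at hF
  exact absurd hF (one_lt_q hp hb).ne'

variable {P : Prop}

theorem bd_psl (hp : p.Prime) (F : Type*) [Field F] [Fintype F] [CharP F p] (n : ℕ) (hn : 2 ≤ n)
    (hP : n = 2 → Fintype.card F = p ^ (Nat.card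
      (Matrix.ProjectiveSpecialLinearGroup (Fin n) F)).factorization p → P) :
    Bd p (Nat.card (Matrix.ProjectiveSpecialLinearGroup (Fin n) F)) P := by
  obtain ⟨a, ha, hq⟩ := field_pow hp F
  have h := CfsgLib.Classical.card_psl_mul (F := F) (n := n) (by omega)
  rw [prod_pow_sub, hq, ← mul_assoc] at h
  obtain ⟨k, rfl⟩ : ∃ k, n = k + 2 := ⟨n - 2, by omega⟩
  have hg : 1 ≤ Nat.gcd (k + 2) (p ^ a - 1) := Nat.gcd_pos_of_pos_left _ (by omega)
  have hN : (k + 2) * (k + 2 - 1) / 2 = (k + 2) * (k + 1) / 2 := rfl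
  have hs : (k + 2) * (k + 3) / 2 = (k + 2) * (k + 1) / 2 + (k + 2) := by
    rw [show (k + 2) * (k + 3) = (k + 2) * (k + 1) + (k + 2) * 2 by ring, Nat.add_mul_div_right _ _ two_pos]
  have heven : 2 * ((k + 2) * (k + 1) / 2) = (k + 2) * (k + 1) :=
    Nat.two_mul_div_two_of_even (by rw [mul_comm]; exact Nat.even_mul_succ_self _)
  have h2 : 2 * (k + 1) ≤ (k + 2) * (k + 1) := Nat.mul_le_mul (by omega) le_rfl
  refine bd_of_formula hp h
    (np_mul hp (np_of_dvd (np_sub_one hp ha) (Nat.gcd_dvd_right _ _)) (np_sub_one hp ha))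
    (np_prod hp _ _ fun j _ => np_sub hp ha j.succ_pos)
    (Nat.le_mul_of_pos_left _ hg) (prod_sub_lt (one_lt_q hp ha) k) (by rw [hN]; omega)
    fun hk' hnP => ?_
  rcases Nat.eq_zero_or_pos k with rfl | hk0
  · exact absurd (hP rfl (by rw [hq, hk']; norm_num)) hnP
  · have : 3 * (k + 1) ≤ (k + 2) * (k + 1) := Nat.mul_le_mul (by omega) le_rfl
    rw [hN]; omega

theorem bd_psp (hp : p.Prime) (F : Type*) [Field F] [Fintype F] [CharP F p] (m : ℕ) (hm : 2 ≤ m) :
    Bd p (Nat.card (Cfsg.PSp m F)) P := by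
  obtain ⟨a, ha, hq⟩ := field_pow hp F
  have h := Cfsg.Agent.S0245.result hq m
  rw [Subgroup.card_eq_card_quotient_mul_card_subgroup
    (Subgroup.center (Matrix.symplecticGroup (Fin m) F)), Cfsg.Agent.S0246.result hq m (by omega),
    mul_comm] at h
  have hq1 := one_lt_q hp ha
  obtain ⟨j, rfl⟩ : ∃ j, m = j + 1 := ⟨m - 1, by omega⟩
  refine bd_of_formula' hp h (np_of_dvd (np_sub_one hp ha) (Nat.gcd_dvd_right _ _))
    (np_prod hp _ _ fun i _ => np_sub hp ha (by omega)) (Nat.gcd_pos_of_pos_left _ two_pos)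
    (lt_of_lt_of_eq (prod_even_lt hq1 j) (one_mul _).symm) ?_
  nlinarith

theorem bd_psu (hp : p.Prime) (F : Type*) [Field F] [Fintype F] [CharP F p] (n q : ℕ)
    (hF : Fintype.card F = q ^ 2) (hn : 3 ≤ n) : Bd p (Nat.card (Cfsg.PSU n F q)) P := by
  obtain ⟨a, ha, rfl⟩ := root_pow hp two_pos F hF
  have h := Cfsg.Agent.S0280.result hF n (by omega)
  rw [← mul_assoc] at h
  refine bd_of_formula' hp h
    (np_mul hp (np_of_dvd (np_add_one hp ha) (Nat.gcd_dvd_right _ _)) (np_add_one hp ha))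
    (np_prod hp _ _ fun i _ => ?_) (Nat.le_mul_of_pos_left _ (Nat.gcd_pos_of_pos_left _ (by omega)))
    (prod_unitary (one_lt_q hp ha) n (by omega)) ?_
  · split_ifs
    · exact np_add hp ha i.succ_pos
    · exact np_sub hp ha i.succ_pos
  · obtain ⟨k, rfl⟩ : ∃ k, n = k + 3 := ⟨n - 3, by omega⟩
    have hs : (k + 3) * (k + 3 + 1) / 2 = (k + 3) * (k + 2) / 2 + (k + 3) := by
      rw [show (k + 3) * (k + 3 + 1) = (k + 3) * (k + 2) + (k + 3) * 2 by ring, Nat.add_mul_div_right _ _ two_pos]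
    have : 3 * (k + 2) ≤ (k + 3) * (k + 2) := Nat.mul_le_mul (by omega) le_rfl
    have heven : 2 * ((k + 3) * (k + 2) / 2) = (k + 3) * (k + 2) :=
      Nat.two_mul_div_two_of_even (by rw [mul_comm]; exact Nat.even_mul_succ_self _)
    show 3 * _ ≤ 5 * ((k + 3) * (k + 2) / 2)
    omega

theorem bd_odd (hp : p.Prime) (F : Type*) [Field F] [Fintype F] [CharP F p] (m : ℕ) (hm : 3 ≤ m)
    (hodd : Odd (Fintype.card F)) : Bd p (Nat.card (Cfsg.POmega F (Cfsg.quadFormOdd m F))) P := by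
  obtain ⟨a, ha, hq⟩ := field_pow hp F
  have h := CfsgLib.Classical.card_pOmega_odd hq (hq ▸ hodd) m (by omega)
  have hp2 : ¬ p ∣ 2 := fun h2 => by
    have := (Nat.prime_dvd_prime_iff_eq hp Nat.prime_two).1 h2
    rw [hq, this, Nat.odd_pow_iff (by omega)] at hodd
    exact absurd hodd (by decide)
  obtain ⟨j, rfl⟩ : ∃ j, m = j + 1 := ⟨m - 1, by omega⟩
  refine bd_of_formula' (c := 1) hp h hp2 (np_prod hp _ _ fun i _ => np_sub hp ha (by omega)) (by norm_num)
    (lt_of_lt_of_eq (prod_even_lt (one_lt_q hp ha) j) (one_mul _).symm) ?_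
  nlinarith

theorem bd_plus (hp : p.Prime) (F : Type*) [Field F] [Fintype F] [CharP F p] (m : ℕ) (hm : 4 ≤ m) :
    Bd p (Nat.card (Cfsg.POmega F (Cfsg.quadFormPlus m F))) P := by
  obtain ⟨a, ha, hq⟩ := field_pow hp F
  obtain ⟨j, rfl⟩ : ∃ j, m = j + 1 + 1 := ⟨m - 2, by omega⟩
  have h := CfsgLib.Classical.card_pOmega_plus hq (j + 1) (by omega)
  rw [mul_assoc ((p ^ a) ^ _)] at h
  refine bd_of_formula' (c := 1) (e := j + 1 + 1 + (j + 1) * (j + 2)) hp h
    (np_of_dvd (np_sub hp ha (j := j + 1 + 1) (by omega)) (Nat.gcd_dvd_right _ _))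
    (np_mul hp (np_sub hp ha (by omega)) (np_prod hp _ _ fun i _ => np_sub hp ha (by omega)))
    (Nat.gcd_pos_of_pos_left _ (by norm_num)) ?_ (by nlinarith)
  exact lt_of_lt_of_eq (mul_lt' (sub_lt (one_lt_q hp ha) _) (prod_even_lt (one_lt_q hp ha) j))
    (by rw [one_mul, ← pow_add])

theorem bd_minus (hp : p.Prime) (F : Type*) [Field F] [Fintype F] [CharP F p] (m : ℕ) (x y : F)
    (hm : 4 ≤ m) (hxy : ∀ z₁ z₂ : F, z₁ ^ 2 + x * z₁ * z₂ + y * z₂ ^ 2 = 0 → z₁ = 0 ∧ z₂ = 0) :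
    Bd p (Nat.card (Cfsg.POmega F (Cfsg.quadFormMinus (m - 1) F x y))) P := by
  obtain ⟨a, ha, hq⟩ := field_pow hp F
  obtain ⟨j, rfl⟩ : ∃ j, m = j + 2 + 1 := ⟨m - 3, by omega⟩
  rw [Nat.add_sub_cancel]
  have h := CfsgLib.Classical.card_pOmega_minus hq (j + 2) (by omega) hxy
  rw [mul_assoc ((p ^ a) ^ _)] at h
  have hq1 := one_lt_q hp ha
  refine bd_of_formula' (c := 1) (e := j + 2 + 1 + (j + 2) * (j + 3)) hp h
    (np_of_dvd (np_add hp ha (j := j + 2 + 1) (by omega)) (Nat.gcd_dvd_right _ _))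
    (np_mul hp (np_add hp ha (by omega)) (np_prod hp _ _ fun i _ => np_sub hp ha (by omega)))
    (Nat.gcd_pos_of_pos_left _ (by norm_num)) ?_ (by nlinarith)
  have h1 : ∀ j : ℕ, ∏ i ∈ Finset.range (j + 1), ((p ^ a) ^ (2 * (i + 1 + 1)) - 1) <
      (p ^ a) ^ ((j + 1) * (j + 4)) := by
    intro j
    induction j with
    | zero => simpa using sub_lt hq1 4
    | succ j ih =>
      rw [Finset.prod_range_succ]
      refine lt_of_lt_of_eq (mul_lt' ih (sub_lt hq1 _)) ?_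
      rw [← pow_add]; ring_nf
  refine lt_of_eq_of_lt ?_ (lt_of_lt_of_eq
    (mul_lt' (h1 j) (sub_add_lt hq1 (show 2 * (0 + 1) ≤ j + 2 + 1 by omega))) ?_)
  · rw [Finset.prod_range_succ']; ring
  · rw [one_mul, ← pow_add]; ring_nf

end CfsgLib.Chev.OrderBound
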