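import Mathlib
import Cfsg.Agent.Lib.Chev.LieOrderBound

/-!
# The order bounds for the exceptional families, and for all groups of Lie type
-/

set_option autoImplicit false

namespace CfsgLib.Chev.OrderBound

open Cfsg.Lie

variable {p : ℕ} {P : Prop}

theorem bd_exceptional (hp : p.Prime) (F : Type*) [Field F] [Fintype F] [CharP F p] :
    Bd p (Nat.card ↥(chevG2.group F)) P ∧ Bd p (Nat.card ↥(chevF4.group F)) P ∧
      Bd p (Nat.card ↥(chevE6.group F)) P ∧ Bd p (Nat.card ↥(chevE7.group F)) P ∧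
      Bd p (Nat.card ↥(chevE8.group F)) P := by
  obtain ⟨a, ha, hq⟩ := field_pow hp F
  have h1 := one_lt_q hp ha
  have n1 : ∀ j, 0 < j → ¬ p ∣ (p ^ a) ^ j - 1 := fun j hj => np_sub hp ha hj
  have hone : ¬ p ∣ 1 := hp.not_dvd_one
  have hgcd : ∀ k, ¬ p ∣ Nat.gcd k (p ^ a - 1) := fun k =>
    np_of_dvd (np_sub_one hp ha) (Nat.gcd_dvd_right _ _)
  refine ⟨?_, ?_, ?_, ?_, ?_⟩
  · refine bd_of_formula' (a := a) (c := 1) (d := 1) (e := 2 + 6) (N := 6)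
      (M := ((p ^ a) ^ 2 - 1) * ((p ^ a) ^ 6 - 1)) hp
      (by rw [one_mul, Cfsg.Agent.S1059.result hq, mul_assoc]) hone
      (np_mul hp (n1 _ (by norm_num)) (n1 _ (by norm_num))) le_rfl ?_ (by norm_num)
    rw [one_mul, pow_add]
    exact mul_lt' (sub_lt h1 _) (sub_lt h1 _)
  · refine bd_of_formula' (a := a) (c := 1) (d := 1) (e := 2 + 6 + 8 + 12) (N := 24)
      (M := ((p ^ a) ^ 2 - 1) * ((p ^ a) ^ 6 - 1) * ((p ^ a) ^ 8 - 1) * ((p ^ a) ^ 12 - 1)) hp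
      (by rw [one_mul, Cfsg.Agent.S1062.result hq]; simp only [mul_assoc]) hone
      (by repeat' apply np_mul hp
          all_goals exact n1 _ (by norm_num)) le_rfl ?_ (by norm_num)
    rw [one_mul]; simp only [pow_add]
    repeat' apply mul_lt'
    all_goals exact sub_lt h1 _
  · refine bd_of_formula' (a := a) (c := 1) (e := 2 + 5 + 6 + 8 + 9 + 12) (N := 36)
      (M := ((p ^ a) ^ 2 - 1) * ((p ^ a) ^ 5 - 1) * ((p ^ a) ^ 6 - 1) * ((p ^ a) ^ 8 - 1) *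
        ((p ^ a) ^ 9 - 1) * ((p ^ a) ^ 12 - 1)) hp
      (by rw [Cfsg.Agent.S1063.result hq]; simp only [mul_assoc]) (hgcd 3)
      (by repeat' apply np_mul hp
          all_goals exact n1 _ (by norm_num)) (Nat.gcd_pos_of_pos_left _ (by norm_num)) ?_ (by norm_num)
    rw [one_mul]; simp only [pow_add]
    repeat' apply mul_lt'
    all_goals exact sub_lt h1 _
  · refine bd_of_formula' (a := a) (c := 1) (e := 2 + 6 + 8 + 10 + 12 + 14 + 18) (N := 63)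
      (M := ((p ^ a) ^ 2 - 1) * ((p ^ a) ^ 6 - 1) * ((p ^ a) ^ 8 - 1) * ((p ^ a) ^ 10 - 1) *
        ((p ^ a) ^ 12 - 1) * ((p ^ a) ^ 14 - 1) * ((p ^ a) ^ 18 - 1)) hp
      (by rw [Cfsg.Agent.S1064.result hq]; simp only [mul_assoc]) (hgcd 2)
      (by repeat' apply np_mul hp
          all_goals exact n1 _ (by norm_num)) (Nat.gcd_pos_of_pos_left _ (by norm_num)) ?_ (by norm_num)
    rw [one_mul]; simp only [pow_add]
    repeat' apply mul_lt'
    all_goals exact sub_lt h1 _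
  · refine bd_of_formula' (a := a) (c := 1) (d := 1) (e := 2 + 8 + 12 + 14 + 18 + 20 + 24 + 30) (N := 120)
      (M := ((p ^ a) ^ 2 - 1) * ((p ^ a) ^ 8 - 1) * ((p ^ a) ^ 12 - 1) * ((p ^ a) ^ 14 - 1) *
        ((p ^ a) ^ 18 - 1) * ((p ^ a) ^ 20 - 1) * ((p ^ a) ^ 24 - 1) * ((p ^ a) ^ 30 - 1)) hp
      (by rw [one_mul, Cfsg.Agent.S1065.result hq]; simp only [mul_assoc]) hone
      (by repeat' apply np_mul hp
          all_goals exact n1 _ (by norm_num)) le_rfl ?_ (by norm_num)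
    rw [one_mul]; simp only [pow_add]
    repeat' apply mul_lt'
    all_goals exact sub_lt h1 _

theorem bd_twistedE6 (hp : p.Prime) (K : Type*) [Field K] [Fintype K] [CharP K p] {q : ℕ}
    (hq : IsPrimePow q) (hK : Fintype.card K = q ^ 2) : Bd p (Nat.card ↥(twistedE6 K q)) P := by
  have h := Cfsg.Agent.S1066.result hq hK
  obtain ⟨a, ha, rfl⟩ := root_pow hp two_pos K hK
  have h1 := one_lt_q hp ha
  refine bd_of_formula' (a := a) (c := 1) (e := (2 + 5) + (8 + 9) + 6 + 12) (N := 36)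
    (M := (((p ^ a) ^ 2 - 1) * ((p ^ a) ^ 5 + 1)) * (((p ^ a) ^ 8 - 1) * ((p ^ a) ^ 9 + 1)) *
      ((p ^ a) ^ 6 - 1) * ((p ^ a) ^ 12 - 1)) hp
    (by rw [h]; ring) (np_of_dvd (np_add_one hp ha) (Nat.gcd_dvd_right _ _))
    (by repeat' apply np_mul hp
        all_goals first | exact np_sub hp ha (by norm_num) | exact np_add hp ha (by norm_num))
    (Nat.gcd_pos_of_pos_left _ (by norm_num)) ?_ (by norm_num)
  rw [one_mul, pow_add (p ^ a) (2 + 5 + (8 + 9) + 6) 12, pow_add (p ^ a) (2 + 5 + (8 + 9)) 6,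
    pow_add (p ^ a) (2 + 5) (8 + 9)]
  exact mul_lt' (mul_lt' (mul_lt' (sub_add_lt h1 (by norm_num)) (sub_add_lt h1 (by norm_num)))
    (sub_lt h1 _)) (sub_lt h1 _)

theorem bd_twistedD4 (hp : p.Prime) (K : Type*) [Field K] [Fintype K] [CharP K p] {q : ℕ}
    (hq : IsPrimePow q) (hK : Fintype.card K = q ^ 3) : Bd p (Nat.card ↥(twistedD4 K q)) P := by
  have h := Cfsg.Agent.S1067.result hq hK
  obtain ⟨a, ha, rfl⟩ := root_pow hp (by norm_num) K hK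
  have h1 := one_lt_q hp ha
  refine bd_of_formula' (a := a) (c := 1) (d := 1) (e := 6 + 10) (N := 12)
    (M := ((p ^ a) ^ 6 - 1) * (((p ^ a) ^ 2 - 1) * ((p ^ a) ^ 8 + (p ^ a) ^ 4 + 1))) hp
    (by rw [one_mul, h]; ring) hp.not_dvd_one
    (np_mul hp (np_sub hp ha (by norm_num)) (np_mul hp (np_sub hp ha (by norm_num)) fun hd => ?_))
    le_rfl ?_ (by norm_num)
  · rw [Nat.dvd_add_right (dvd_add (dvd_q ha (by norm_num)) (dvd_q ha (by norm_num)))] at hd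
    exact hp.not_dvd_one hd
  · rw [one_mul, pow_add]
    refine mul_lt' (sub_lt h1 _) ?_
    generalize p ^ a = q at h1
    have h2 : 0 < q ^ 2 := by positivity
    obtain ⟨x, hx⟩ : ∃ x, q ^ 2 = x + 1 := ⟨q ^ 2 - 1, by omega⟩
    rw [hx, Nat.add_sub_cancel, show q ^ 8 = (q ^ 2) ^ 4 by ring, show q ^ 4 = (q ^ 2) ^ 2 by ring,
      show q ^ 10 = (q ^ 2) ^ 5 by ring, hx]
    ring_nf
    nlinarith [Nat.zero_le (x ^ 2), Nat.zero_le (x ^ 3), Nat.zero_le (x ^ 4)]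

theorem bd_large_ree (K : Type*) [Field K] [Fintype K] {m : ℕ}
    (hK : Fintype.card K = 2 ^ (2 * m + 1)) : Bd 2 (Nat.card ↥(twistedF4 K (2 ^ m))) P := by
  have h := Cfsg.Agent.S1068.result hK
  have ha : 1 ≤ 2 * m + 1 := by omega
  have hp := Nat.prime_two
  have h1 := one_lt_q hp ha
  refine bd_of_formula' (a := 2 * m + 1) (c := 1) (d := 1) (e := (1 + 3) + (4 + 6)) (N := 12)
    (M := (((2 ^ (2 * m + 1)) ^ 1 - 1) * ((2 ^ (2 * m + 1)) ^ 3 + 1)) *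
      (((2 ^ (2 * m + 1)) ^ 4 - 1) * ((2 ^ (2 * m + 1)) ^ 6 + 1))) hp
    (by rw [one_mul, h, pow_one]; ring) hp.not_dvd_one
    (by repeat' apply np_mul hp
        all_goals first | exact np_sub hp ha (by norm_num) | exact np_add hp ha (by norm_num))
    le_rfl ?_ (by norm_num)
  rw [one_mul, pow_add _ (1 + 3) (4 + 6)]
  exact mul_lt' (sub_add_lt h1 (by norm_num)) (sub_add_lt h1 (by norm_num))

theorem bd_ree (K : Type*) [Field K] [Fintype K] {m : ℕ}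
    (hK : Fintype.card K = 3 ^ (2 * m + 1)) : Bd 3 (Nat.card ↥(twistedG2 K (3 ^ m))) P := by
  have h := Cfsg.Agent.S1069.result hK
  have ha : 1 ≤ 2 * m + 1 := by omega
  have hp := Nat.prime_three
  refine bd_of_formula' (a := 2 * m + 1) (c := 1) (d := 1) (e := 1 + 3) (N := 3)
    (M := ((3 ^ (2 * m + 1)) ^ 1 - 1) * ((3 ^ (2 * m + 1)) ^ 3 + 1)) hp
    (by rw [one_mul, h, pow_one]; ring) hp.not_dvd_one
    (np_mul hp (np_sub hp ha one_pos) (np_add hp ha (by norm_num))) le_rfl ?_ (by norm_num)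
  rw [one_mul]
  exact sub_add_lt (one_lt_q hp ha) (by norm_num)

theorem bd_sz (F : Type*) [Field F] [Fintype F] {m : ℕ} (hm : 1 ≤ m)
    (hF : Fintype.card F = 2 ^ (2 * m + 1)) : Bd 2 (Nat.card ↥(Sz F (2 ^ (m + 1)))) P := by
  have := Fact.mk Nat.prime_two
  have : CharP F 2 := charP_of_card_eq_prime_pow hF
  have h := CfsgLib.Suzuki.card_sz hm hF
  rw [hF, Nat.card_congr (CfsgLib.Suzuki.szEquiv hm hF).toEquiv] at h
  have ha : 1 ≤ 2 * m + 1 := by omega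
  have hp := Nat.prime_two
  refine bd_of_formula' (a := 2 * m + 1) (c := 1) (d := 1) (e := 1 + 2) (N := 2)
    (M := ((2 ^ (2 * m + 1)) ^ 1 - 1) * ((2 ^ (2 * m + 1)) ^ 2 + 1)) hp
    (by rw [one_mul, h, pow_one]; ring) hp.not_dvd_one
    (np_mul hp (np_sub hp ha one_pos) (np_add hp ha (by norm_num))) le_rfl ?_ (by norm_num)
  rw [one_mul]
  exact sub_add_lt (one_lt_q hp ha) (by norm_num)

theorem lie_type_bound {G : Type*} [Group G] (p : ℕ) (hp : p.Prime) (hG : Cfsg.IsLieTypeChar p G) :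
    Bd p (Nat.card G) (∃ (F : Type) (_ : Field F) (_ : Fintype F),
      Fintype.card F = p ^ (Nat.card G).factorization p ∧
        Nonempty (G ≃* Matrix.ProjectiveSpecialLinearGroup (Fin 2) F)) := by
  rcases hG with ⟨F, iF, iT, iC, n, hn, -, ⟨e⟩⟩ | ⟨F, iF, iT, iC, m, hm, -, ⟨e⟩⟩ |
    ⟨F, iF, iT, iC, n, q, hF, hn, -, ⟨e⟩⟩ | ⟨F, iF, iT, iC, m, hm, ho, ⟨e⟩⟩ |
    ⟨F, iF, iT, iC, m, hm, ⟨e⟩⟩ | ⟨F, iF, iT, iC, m, x, y, hm, hxy, ⟨e⟩⟩ |
    ⟨F, iF, iT, iC, h⟩ | ⟨K, iF, iT, iC, q, hq, ⟨hK, ⟨e⟩⟩ | ⟨hK, ⟨e⟩⟩⟩ |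
    ⟨rfl, F, iF, iT, m, hm, hF, ⟨e⟩⟩ | ⟨rfl, K, iF, iT, m, hm, hK, ⟨e⟩⟩ |
    ⟨rfl, K, iF, iT, m, hm, hK, ⟨e⟩⟩
  · rw [Nat.card_congr e.toEquiv]
    refine bd_psl hp F n hn fun hn2 hF => ?_
    subst hn2
    exact ⟨F, iF, iT, hF, ⟨e⟩⟩
  · rw [Nat.card_congr e.toEquiv]; exact bd_psp hp F m hm
  · rw [Nat.card_congr e.toEquiv]; exact bd_psu hp F n q hF hn
  · rw [Nat.card_congr e.toEquiv]; exact bd_odd hp F m hm ho
  · rw [Nat.card_congr e.toEquiv]; exact bd_plus hp F m hm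
  · rw [Nat.card_congr e.toEquiv]; exact bd_minus hp F m x y hm hxy
  · rcases h with ⟨-, ⟨e⟩⟩ | ⟨⟨e⟩⟩ | ⟨⟨e⟩⟩ | ⟨⟨e⟩⟩ | ⟨⟨e⟩⟩ <;> rw [Nat.card_congr e.toEquiv]
    exacts [(bd_exceptional hp F).1, (bd_exceptional hp F).2.1, (bd_exceptional hp F).2.2.1,
      (bd_exceptional hp F).2.2.2.1, (bd_exceptional hp F).2.2.2.2]
  · rw [Nat.card_congr e.toEquiv]; exact bd_twistedE6 hp K hq hK
  · rw [Nat.card_congr e.toEquiv]; exact bd_twistedD4 hp K hq hK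
  · rw [Nat.card_congr e.toEquiv]; exact bd_sz F hm hF
  · rw [Nat.card_congr e.toEquiv]; exact bd_large_ree K hK
  · rw [Nat.card_congr e.toEquiv]; exact bd_ree K hK

end CfsgLib.Chev.OrderBound
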