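import Mathlib
import Cfsg.Agent.Lib.Chev.OrthRep

/-!
A Chevalley group of orthogonal type is the projective commutator subgroup of the isometry group.
-/

set_option autoImplicit false

open scoped commutatorElement Matrix

namespace CfsgLib.Chev.OE

open Cfsg.Lie

variable {ι : Type} [Fintype ι] [DecidableEq ι] {n m : ℕ}

/-- The root element `r` of a table is a long elementary element, up to the sign of the parameter. -/
def IsLongAt (C : Coord ι m) (N : Num ι n) (T : Tab) (r : ℕ) (a b : Bool × Fin m) : Prop :=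
  (smat N.e (T.UA r) = longA C a b ∨ smat N.e (T.UA r) = -longA C a b) ∧ smat N.e (T.UB r) = 0

/-- The root element `r` of a table is a short elementary element, up to the sign of the parameter. -/
def IsShortAt (C : Coord ι m) (N : Num ι n) (T : Tab) (r : ℕ) (a : Bool × Fin m) (z : ι) : Prop :=
  (smat N.e (T.UA r) = shortA C a z ∨ smat N.e (T.UA r) = -shortA C a z) ∧
    smat N.e (T.UB r) = shortB C a

noncomputable instance (C : Coord ι m) (N : Num ι n) (T : Tab) (r : ℕ) (a b : Bool × Fin m) :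
    Decidable (IsLongAt C N T r a b) := inferInstanceAs (Decidable (_ ∧ _))

noncomputable instance (C : Coord ι m) (N : Num ι n) (T : Tab) (r : ℕ) (a : Bool × Fin m) (z : ι) :
    Decidable (IsShortAt C N T r a z) := inferInstanceAs (Decidable (_ ∧ _))

omit [Fintype ι] in
lemma uMat_neg (A B : Matrix ι ι ℤ) {F : Type*} [Field F] (t : F) :
    uMat (-A) B F t = uMat A B F (-t) := by
  simp [uMat, Matrix.map_neg]

variable {F : Type*} [Field F]

/-- The tables match the elementary elements. -/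
structure Matched (D : ChevalleyDatum) (C : Coord ι m) (N : Num ι n) (T : Tab) : Prop where
  fwd : ∀ r : Fin D.nroots, (∃ a b : Bool × Fin m, a.2 ≠ b.2 ∧ IsLongAt C N T r a b) ∨
    ∃ a, ∃ z ∈ C.Z, IsShortAt C N T r a z
  long : ∀ a b : Bool × Fin m, a.2 ≠ b.2 → ∃ r : Fin D.nroots, IsLongAt C N T r a b
  short : ∀ a : Bool × Fin m, ∀ z ∈ C.Z, ∃ r : Fin D.nroots, IsShortAt C N T r a z

namespace Matched

variable {D : ChevalleyDatum} {C : Coord ι m} {N : Num ι n} {T : Tab} (M : Matched D C N T)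
include M

lemma isElem {r : ℕ} (hr : r < D.nroots) (t : F) : IsElem C (uM N T r F t) := by
  rcases M.fwd ⟨r, hr⟩ with ⟨a, b, hab, hA, hB⟩ | ⟨a, z, hz, hA, hB⟩
  · refine Or.inl ⟨a, b, hab, ?_⟩
    rcases hA with hA | hA
    · exact ⟨t, by rw [uM, hA, hB]⟩
    · exact ⟨-t, by rw [uM, hA, hB, uMat_neg]⟩
  · refine Or.inr ⟨a, z, hz, ?_⟩
    rcases hA with hA | hA
    · exact ⟨t, by rw [uM, hA, hB]⟩
    · exact ⟨-t, by rw [uM, hA, hB, uMat_neg]⟩

lemma of_isElem {A : Matrix ι ι F} (h : IsElem C A) :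
    ∃ r < D.nroots, ∃ t : F, A = uM N T r F t := by
  rcases h with ⟨a, b, hab, t, rfl⟩ | ⟨a, z, hz, t, rfl⟩
  · obtain ⟨r, hA, hB⟩ := M.long a b hab
    refine ⟨r, r.2, ?_⟩
    rcases hA with hA | hA
    · exact ⟨t, by rw [uM, hA, hB]⟩
    · exact ⟨-t, by rw [uM, hA, hB, uMat_neg, neg_neg]⟩
  · obtain ⟨r, hA, hB⟩ := M.short a z hz
    refine ⟨r, r.2, ?_⟩
    rcases hA with hA | hA
    · exact ⟨t, by rw [uM, hA, hB]⟩
    · exact ⟨-t, by rw [uM, hA, hB, uMat_neg, neg_neg]⟩

lemma add {r : ℕ} (hr : r < D.nroots) (s t : F) :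
    uM N T r F s * uM N T r F t = uM N T r F (s + t) := by
  rcases M.fwd ⟨r, hr⟩ with ⟨a, b, hab, hA, hB⟩ | ⟨a, z, hz, hA, hB⟩
  · rcases hA with hA | hA <;>
      simp only [uM, hA, hB, uMat_neg, long_mul C hab, neg_add]
  · rcases hA with hA | hA <;>
      simp only [uM, hA, hB, uMat_neg, short_mul C hz, neg_add]

/-- The isomorphism. -/
theorem quot_equiv (g : Good D) (hperf : commutator ↥(D.group F) = ⊤)
    (hsimp : IsSimpleGroup ↥(D.group F) ∧ ¬ IsMulCommutative ↥(D.group F))
    (hs : shapeOK D = true) (hL : checkL D n T = true)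
    (hroot : allR (fun r => checkRoot D n T r) (upto D.nroots) = true)
    {r₀ c₀ i₀ j₀ : ℕ} (hw : checkWit D n T r₀ c₀ i₀ j₀ = true)
    {us : List (ℕ × ℕ × Bool × List ℕ)} {b₀ : ℕ} (hus : unitsOK D n T us b₀ = true) (hb : b₀ < n)
    {l k₀ : Fin m} (hl : (l : ℕ) + 1 = m) (hk : k₀ ≠ l)
    (Q : (ι → F) → F) (hQ : Q = qf C) :
    Nonempty (↥(D.group F) ≃* Cfsg.POmega F Q) := by
  subst hQ
  classical
  let uG : ℕ → F → GL ι F := fun r t =>
    if h : IsUnit (uM N T r F t) then h.unit else 1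
  have hu : ∀ r < D.nroots, ∀ t : F, (uG r t : Matrix ι ι F) = uM N T r F t := by
    intro r hr t
    have h : IsUnit (uM N T r F t) :=
      ⟨⟨uM N T r F t, uM N T r F (-t), by rw [M.add hr, add_neg_cancel, uM, uMat_zero],
        by rw [M.add hr, neg_add_cancel, uM, uMat_zero]⟩, rfl⟩
    simp only [uG, dif_pos h]
    exact h.unit_spec
  have hEO : EO C F = Subgroup.closure {y | ∃ r < D.nroots, ∃ t, y = uG r t} := by
    rw [EO]
    congr 1
    ext y
    constructor
    · intro hy
      obtain ⟨r, hr, t, he⟩ := M.of_isElem hy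
      exact ⟨r, hr, t, Units.ext (he.trans (hu r hr t).symm)⟩
    · rintro ⟨r, hr, t, rfl⟩
      show IsElem C _
      rw [hu r hr]
      exact M.isElem hr t
  obtain ⟨φ, hφs, hker, hscal⟩ := exists_hom g hsimp hs hL hroot hw hus hb uG hu hEO
  have hmemu : ∀ r < D.nroots, ∀ t : F, uG r t ∈ EO C F := fun r hr t =>
    hEO ▸ Subgroup.subset_closure ⟨r, hr, t, rfl⟩
  have hsq : ∀ y : ↥(EO C F), φ y = 1 →
      ∃ c : F, c * c = 1 ∧ ((y : GL ι F) : Matrix ι ι F) = c • 1 := by
    intro y hy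
    obtain ⟨c, hc⟩ := hscal y hy
    refine ⟨c, ?_, hc⟩
    set v := bv C F (false, l) + bv C F (true, l) with hv
    have h := mem_OG.1 (EO_le y.2) v
    have hv1 : qf C v = 1 := by
      simpa [hv, st] using qf_pair (C := C) (F := F) (false, l) 1 1
    rw [hc, Matrix.smul_mulVec, Matrix.one_mulVec, hv1,
      show c • v = c • bv C F (false, l) + c • bv C F (st (false, l)) by rw [hv, smul_add]; rfl,
      qf_pair] at h
    exact h
  have hperfE : ⁅(⊤ : Subgroup ↥(EO C F)), (⊤ : Subgroup ↥(EO C F))⁆ = ⊤ := by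
    set K := ⁅(⊤ : Subgroup ↥(EO C F)), (⊤ : Subgroup ↥(EO C F))⁆ with hK
    have hmap : K.map φ = ⊤ := by
      rw [hK, Subgroup.map_commutator, Subgroup.map_top_of_surjective φ hφs, ← commutator_def,
        hperf]
    refine (Subgroup.eq_top_iff' _).2 fun ⟨y, hy⟩ => ?_
    have hgen : ∀ r (hr : r < D.nroots) (t : F),
        ((2 : F) = 0 ∨ (∃ x : ↥(EO C F), (⟨uG r t, hmemu r hr t⟩ : ↥(EO C F)) = x * x)) := by
      intro r hr t
      by_cases h2 : (2 : F) = 0
      · exact Or.inl h2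
      · have : NeZero (2 : F) := ⟨h2⟩
        refine Or.inr ⟨⟨uG r (t / 2), hmemu r hr _⟩, Subtype.ext (Units.ext ?_)⟩
        show (uG r t : Matrix ι ι F) = uG r (t / 2) * uG r (t / 2)
        rw [hu r hr, hu r hr, M.add hr, add_halves]
    have hkey : ∀ r (hr : r < D.nroots) (t : F), (⟨uG r t, hmemu r hr t⟩ : ↥(EO C F)) ∈ K := by
      intro r hr t
      rcases hgen r hr t with h2 | ⟨x, hx⟩
      · obtain ⟨c, hc, he⟩ : φ ⟨uG r t, hmemu r hr t⟩ ∈ K.map φ := hmap ▸ Subgroup.mem_top _
        set z : ↥(EO C F) := c⁻¹ * ⟨uG r t, hmemu r hr t⟩ with hz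
        obtain ⟨a, ha, hza⟩ := hsq z (by rw [hz, map_mul, map_inv, he, inv_mul_cancel])
        have ha1 : a = 1 := by
          have : (a - 1) * (a - 1) = 0 := by linear_combination ha - a * h2 + h2
          exact sub_eq_zero.1 (mul_self_eq_zero.1 this)
        have hz1 : z = 1 := Subtype.ext (Units.ext (by rw [hza, ha1, one_smul]; rfl))
        rw [hz, inv_mul_eq_one] at hz1
        exact hz1 ▸ hc
      · obtain ⟨c, hc, he⟩ : φ x ∈ K.map φ := hmap ▸ Subgroup.mem_top _
        set z : ↥(EO C F) := c⁻¹ * x with hz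
        have hzk : φ z = 1 := by rw [hz, map_mul, map_inv, he, inv_mul_cancel]
        obtain ⟨a, ha, hza⟩ := hsq z hzk
        have hzc : z ∈ Subgroup.center ↥(EO C F) := hker ▸ MonoidHom.mem_ker.2 hzk
        have hzz : z * z = 1 := Subtype.ext (Units.ext (by
          show ((z : GL ι F) : Matrix ι ι F) * ((z : GL ι F) : Matrix ι ι F) = 1
          rw [hza, smul_mul_assoc, one_mul, smul_smul, ha, one_smul]))
        have hxc : x = c * z := by rw [hz, mul_inv_cancel_left]
        rw [hx, hxc, show c * z * (c * z) = c * c * (z * z) by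
          rw [mul_assoc c z, ← mul_assoc z c z, ← Subgroup.mem_center_iff.1 hzc c]; simp [mul_assoc],
          hzz, mul_one]
        exact mul_mem hc hc
    have key : ∀ y, ∀ hy : y ∈ EO C F, (⟨y, hy⟩ : ↥(EO C F)) ∈ K := by
      intro y hy
      have hy' : y ∈ Subgroup.closure {y | ∃ r < D.nroots, ∃ t, y = uG r t} := hEO ▸ hy
      have : y ∈ K.map (EO C F).subtype := by
        refine (Subgroup.closure_le _).2 ?_ hy'
        rintro _ ⟨r, hr, t, rfl⟩
        exact ⟨_, hkey r hr t, rfl⟩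
      obtain ⟨x, hx, rfl⟩ := this
      exact hx
    exact key y hy
  have hcomm : (commutator ↥(OG C F)).map (OG C F).subtype = EO C F := by
    rw [Subgroup.map_subtype_commutator]
    refine le_antisymm (commutator_le hl hk) ?_
    have h := congrArg (Subgroup.map (EO C F).subtype) hperfE
    rw [Subgroup.map_commutator, ← MonoidHom.range_eq_map, Subgroup.range_subtype] at h
    conv_lhs => rw [← h]
    exact Subgroup.commutator_mono EO_le EO_le
  let ε : ↥(Cfsg.Omega F (qf C (F := F))) ≃* ↥(EO C F) :=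
    ((commutator ↥(OG C F)).equivMapOfInjective _ (OG C F).subtype_injective).trans
      (MulEquiv.subgroupCongr hcomm)
  have hε : (Subgroup.center ↥(Cfsg.Omega F (qf C (F := F)))).map ε.toMonoidHom = φ.ker := by
    rw [hker]
    ext y
    constructor
    · rintro ⟨x, hx, rfl⟩
      refine Subgroup.mem_center_iff.2 fun z => ?_
      obtain ⟨w, rfl⟩ := ε.surjective z
      show ε w * ε x = ε x * ε w
      rw [← map_mul, ← map_mul, Subgroup.mem_center_iff.1 hx w]
    · intro hy
      refine ⟨ε.symm y, Subgroup.mem_center_iff.2 fun z => ε.injective ?_, ε.apply_symm_apply y⟩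
      rw [map_mul, map_mul, ε.apply_symm_apply, Subgroup.mem_center_iff.1 hy]
  exact ⟨(QuotientGroup.quotientKerEquivOfSurjective φ hφs).symm.trans
    (QuotientGroup.congr _ _ ε hε).symm⟩

end Matched

end CfsgLib.Chev.OE
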