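import Mathlib
import Cfsg.Prelude.Def_ChevB2
import Cfsg.Prelude.Def_ChevD4
import Cfsg.Agent.Lib.Chev.OrthIso

/-!
The tables of the natural representations of the Chevalley groups of types B2 and D4.
-/

set_option autoImplicit false
set_option maxRecDepth 100000

namespace CfsgLib.Chev.OE

open Cfsg.Lie

/-- Columns of the tables of type B2. -/
def orthB2L : List (List SVec) := [
  [[], [], [(2, 2)], [], [(4, (-2))]],
  [[], [(1, 1)], [(2, (-1))], [(3, (-1))], [(4, 1)]],
  [[], [(4, 1)], [(3, (-1))], [], []],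
  [[(3, 2)], [(0, (-1))], [], [], []],
  [[(4, 2)], [], [(0, (-1))], [], []],
  [[], [(2, 1)], [], [], [(3, (-1))]],
  [[], [], [(1, 1)], [(4, (-1))], []],
  [[(2, (-2))], [], [], [], [(0, 1)]],
  [[(1, (-2))], [], [], [(0, 1)], []],
  [[], [], [], [(2, (-1))], [(1, 1)]]]

/-- Columns of the tables of type B2. -/
def orthB2A : List (List SVec) := [
  [[], [(4, 1)], [(3, (-1))], [], []],
  [[(3, 2)], [(0, (-1))], [], [], []],
  [[(4, 2)], [], [(0, (-1))], [], []],
  [[], [(2, 1)], [], [], [(3, (-1))]],
  [[], [], [(1, 1)], [(4, (-1))], []],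
  [[(2, (-2))], [], [], [], [(0, 1)]],
  [[(1, (-2))], [], [], [(0, 1)], []],
  [[], [], [], [(2, (-1))], [(1, 1)]]]

/-- Columns of the tables of type B2. -/
def orthB2B : List (List SVec) := [
  [[], [], [], [], []],
  [[], [(3, (-1))], [], [], []],
  [[], [], [(4, (-1))], [], []],
  [[], [], [], [], []],
  [[], [], [], [], []],
  [[], [], [], [], [(2, (-1))]],
  [[], [], [], [(1, (-1))], []],
  [[], [], [], [], []]]

/-- The representation of type B2. -/
def orthB2Tab : Tab where
  Lt := fun s j => (orthB2L.getD s []).getD j []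
  UA := fun s j => (orthB2A.getD s []).getD j []
  UB := fun s j => (orthB2B.getD s []).getD j []

/-- Matrix units of type B2. -/
def orthB2Units : List (ℕ × ℕ × Bool × List ℕ) := [(0, 1, true, [4, 5]), (2, 1, false, [5, 9, 2]), (3, 1, true, [2, 5]), (4, 1, false, [2, 6, 5]), (1, 2, false, [6, 9, 2])]

theorem orthB2_checkL : checkL chevB2 5 orthB2Tab = true := by decide +kernel

theorem orthB2_root : allR (fun r => checkRoot chevB2 5 orthB2Tab r) (upto chevB2.nroots) = true := by
  decide +kernel

theorem orthB2_wit : checkWit chevB2 5 orthB2Tab 0 7 0 1 = true := by decide +kernel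

theorem orthB2_units : unitsOK chevB2 5 orthB2Tab orthB2Units 1 = true := by decide +kernel

/-- Columns of the tables of type D4. -/
def orthD4L : List (List SVec) := [
  [[(0, 1)], [(1, (-1))], [], [], [(4, (-1))], [(5, 1)], [], []],
  [[], [(1, 1)], [(2, (-1))], [], [], [(5, (-1))], [(6, 1)], []],
  [[], [], [(2, 1)], [(3, (-1))], [], [], [(6, (-1))], [(7, 1)]],
  [[], [], [(2, 1)], [(3, 1)], [], [], [(6, (-1))], [(7, (-1))]],
  [[(5, 1)], [(4, (-1))], [], [], [], [], [], []],
  [[(6, 1)], [], [(4, (-1))], [], [], [], [], []],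
  [[(3, 1)], [], [], [], [], [], [], [(4, (-1))]],
  [[(7, 1)], [], [], [(4, (-1))], [], [], [], []],
  [[(2, (-1))], [], [], [], [], [], [(4, 1)], []],
  [[(1, 1)], [], [], [], [], [(4, (-1))], [], []],
  [[], [(6, (-1))], [(5, 1)], [], [], [], [], []],
  [[], [(3, (-1))], [], [], [], [], [], [(5, 1)]],
  [[], [(7, (-1))], [], [(5, 1)], [], [], [], []],
  [[], [(2, 1)], [], [], [], [], [(5, (-1))], []],
  [[], [], [(3, 1)], [], [], [], [], [(6, (-1))]],
  [[], [], [(7, 1)], [(6, (-1))], [], [], [], []],
  [[], [], [], [], [], [], [(3, (-1))], [(2, 1)]],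
  [[], [], [], [(2, 1)], [], [], [(7, (-1))], []],
  [[], [], [(1, 1)], [], [], [(6, (-1))], [], []],
  [[], [], [], [], [], [(3, 1)], [], [(1, (-1))]],
  [[], [], [], [(1, (-1))], [], [(7, 1)], [], []],
  [[], [], [], [], [], [(2, 1)], [(1, (-1))], []],
  [[], [(0, 1)], [], [], [(5, (-1))], [], [], []],
  [[], [], [(0, (-1))], [], [(6, 1)], [], [], []],
  [[], [], [], [], [(3, (-1))], [], [], [(0, 1)]],
  [[], [], [], [(0, 1)], [(7, (-1))], [], [], []],
  [[], [], [], [], [(2, (-1))], [], [(0, 1)], []],
  [[], [], [], [], [(1, (-1))], [(0, 1)], [], []]]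

/-- Columns of the tables of type D4. -/
def orthD4A : List (List SVec) := [
  [[(5, 1)], [(4, (-1))], [], [], [], [], [], []],
  [[(6, 1)], [], [(4, (-1))], [], [], [], [], []],
  [[(3, 1)], [], [], [], [], [], [], [(4, (-1))]],
  [[(7, 1)], [], [], [(4, (-1))], [], [], [], []],
  [[(2, (-1))], [], [], [], [], [], [(4, 1)], []],
  [[(1, 1)], [], [], [], [], [(4, (-1))], [], []],
  [[], [(6, (-1))], [(5, 1)], [], [], [], [], []],
  [[], [(3, (-1))], [], [], [], [], [], [(5, 1)]],
  [[], [(7, (-1))], [], [(5, 1)], [], [], [], []],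
  [[], [(2, 1)], [], [], [], [], [(5, (-1))], []],
  [[], [], [(3, 1)], [], [], [], [], [(6, (-1))]],
  [[], [], [(7, 1)], [(6, (-1))], [], [], [], []],
  [[], [], [], [], [], [], [(3, (-1))], [(2, 1)]],
  [[], [], [], [(2, 1)], [], [], [(7, (-1))], []],
  [[], [], [(1, 1)], [], [], [(6, (-1))], [], []],
  [[], [], [], [], [], [(3, 1)], [], [(1, (-1))]],
  [[], [], [], [(1, (-1))], [], [(7, 1)], [], []],
  [[], [], [], [], [], [(2, 1)], [(1, (-1))], []],
  [[], [(0, 1)], [], [], [(5, (-1))], [], [], []],
  [[], [], [(0, (-1))], [], [(6, 1)], [], [], []],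
  [[], [], [], [], [(3, (-1))], [], [], [(0, 1)]],
  [[], [], [], [(0, 1)], [(7, (-1))], [], [], []],
  [[], [], [], [], [(2, (-1))], [], [(0, 1)], []],
  [[], [], [], [], [(1, (-1))], [(0, 1)], [], []]]

/-- Columns of the tables of type D4. -/
def orthD4B : List (List SVec) := [
  [[], [], [], [], [], [], [], []],
  [[], [], [], [], [], [], [], []],
  [[], [], [], [], [], [], [], []],
  [[], [], [], [], [], [], [], []],
  [[], [], [], [], [], [], [], []],
  [[], [], [], [], [], [], [], []],
  [[], [], [], [], [], [], [], []],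
  [[], [], [], [], [], [], [], []],
  [[], [], [], [], [], [], [], []],
  [[], [], [], [], [], [], [], []],
  [[], [], [], [], [], [], [], []],
  [[], [], [], [], [], [], [], []],
  [[], [], [], [], [], [], [], []],
  [[], [], [], [], [], [], [], []],
  [[], [], [], [], [], [], [], []],
  [[], [], [], [], [], [], [], []],
  [[], [], [], [], [], [], [], []],
  [[], [], [], [], [], [], [], []],
  [[], [], [], [], [], [], [], []],
  [[], [], [], [], [], [], [], []],
  [[], [], [], [], [], [], [], []],
  [[], [], [], [], [], [], [], []],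
  [[], [], [], [], [], [], [], []],
  [[], [], [], [], [], [], [], []]]

/-- The representation of type D4. -/
def orthD4Tab : Tab where
  Lt := fun s j => (orthD4L.getD s []).getD j []
  UA := fun s j => (orthD4A.getD s []).getD j []
  UB := fun s j => (orthD4B.getD s []).getD j []

/-- Matrix units of type D4. -/
def orthD4Units : List (ℕ × ℕ × Bool × List ℕ) := [(1, 0, true, [18, 8]), (2, 0, false, [13, 9]), (3, 0, true, [11, 9]), (4, 0, true, [4, 9]), (5, 0, true, [10, 8]), (6, 0, true, [10, 9]), (7, 0, true, [12, 9]), (0, 1, true, [23, 13])]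

theorem orthD4_checkL : checkL chevD4 8 orthD4Tab = true := by decide +kernel

theorem orthD4_root : allR (fun r => checkRoot chevD4 8 orthD4Tab r) (upto chevD4.nroots) = true := by
  decide +kernel

theorem orthD4_wit : checkWit chevD4 8 orthD4Tab 0 1 4 1 = true := by decide +kernel

theorem orthD4_units : unitsOK chevD4 8 orthD4Tab orthD4Units 0 = true := by decide +kernel

/-- The numbering of the coordinates of type B2. -/
def numB2 : Num (Unit ⊕ (Fin 2 ⊕ Fin 2)) 5 where
  e := Sum.elim (fun _ => 0) (Sum.elim (fun i => 1 + i.val) (fun i => 3 + i.val))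
  inj := by decide +kernel
  lt := by decide +kernel
  surj := by decide +kernel

/-- The coordinates of type B2. -/
def coordB2 : Coord (Unit ⊕ (Fin 2 ⊕ Fin 2)) 2 where
  p := fun a => if a.1 then .inr (.inr a.2) else .inr (.inl a.2)
  inj := by decide +kernel
  Z := {.inl ()}
  mem_Z := by decide +kernel
  card_Z := by decide +kernel

theorem matchedB2 : Matched chevB2 coordB2 numB2 orthB2Tab where
  fwd := by decide +kernel
  long := by decide +kernel
  short := by decide +kernel

/-- The numbering of the coordinates of type D4. -/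
def numD4 : Num (Fin 4 ⊕ Fin 4) 8 where
  e := Sum.elim (fun i => i.val) (fun i => 4 + i.val)
  inj := by decide +kernel
  lt := by decide +kernel
  surj := by decide +kernel

/-- The coordinates of type D4. -/
def coordD4 : Coord (Fin 4 ⊕ Fin 4) 4 where
  p := fun a => if a.1 then .inr a.2 else .inl a.2
  inj := by decide +kernel
  Z := ∅
  mem_Z := by decide +kernel
  card_Z := by decide +kernel

theorem matchedD4 : Matched chevD4 coordD4 numD4 orthD4Tab where
  fwd := by decide +kernel
  long := by decide +kernel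
  short := by decide +kernel

end CfsgLib.Chev.OE
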