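import Cfsg.Agent.Lib.Chev.SubMaxTop

/-!
Highest-root data for G2, B2, D4, F4, E6, E7, E8.
-/

set_option autoImplicit false
set_option maxRecDepth 100000

namespace CfsgLib.Chev.SubMax

open Cfsg.Lie

/-- The long roots of a table. -/
noncomputable def longOf (short : List ℕ) (r : ℕ) : Bool := !(anyR (fun s => Nat.beq r s) short)

/-- The short roots of G2. -/
def shortG2 : List ℕ := [2, 3, 4, 7, 8, 9]

/-- The short roots of B2. -/
def shortB2 : List ℕ := [1, 2, 5, 6]

/-- The short roots of F4. -/
def shortF4 : List ℕ := [3, 7, 8, 9, 10, 11, 12, 13, 14, 18, 19, 20, 27, 28, 29, 33, 34, 35, 36, 37, 38, 39, 40, 44]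

theorem topG2 : TopData goodG2 (longOf shortG2) :=
  topData_of_check goodG2 checksG2 structChecksG2 (by decide +kernel)

theorem topB2 : TopData goodB2 (longOf shortB2) :=
  topData_of_check goodB2 checksB2 structChecksB2 (by decide +kernel)

theorem topD4 : TopData goodD4 (longOf []) :=
  topData_of_check goodD4 checksD4 structChecksD4 (by decide +kernel)

theorem topF4 : TopData goodF4 (longOf shortF4) :=
  topData_of_check goodF4 checksF4 structChecksF4 (by decide +kernel)

theorem topE6 : TopData goodE6 (longOf []) :=
  topData_of_check goodE6 checksE6 structChecksE6 (by decide +kernel)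

theorem topE7 : TopData goodE7 (longOf []) :=
  topData_of_check goodE7 checksE7 structChecksE7 (by decide +kernel)

theorem topE8 : TopData goodE8 (longOf []) :=
  topData_of_check goodE8 checksE8 structChecksE8 (by decide +kernel)

end CfsgLib.Chev.SubMax
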