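import Cfsg.Agent.Lib.Chev.SubMaxRadRat
import Cfsg.Agent.Lib.Chev.SubMaxTopData
import Cfsg.Agent.Lib.Chev.SL2Hom

/-!
The radical part is rational also in special characteristic.
-/

set_option autoImplicit false
set_option linter.unusedSectionVars false
set_option maxRecDepth 100000

namespace CfsgLib.Chev.SubMax

open Cfsg.Lie Matrix CfsgLib.Chev

/-! ### The table terms -/

lemma terms_b2 (a b : ℕ) (ha : a < 8) (hb : b < 8) : chevB2.commTerms a b = fterms chevB2 a b :=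
  (goodB2.fterms_eq ha hb).symm

lemma terms_g2 (a b : ℕ) (ha : a < 12) (hb : b < 12) : chevG2.commTerms a b = fterms chevG2 a b :=
  (goodG2.fterms_eq ha hb).symm

lemma terms_f4 (a b : ℕ) (ha : a < 48) (hb : b < 48) : chevF4.commTerms a b = fterms chevF4 a b :=
  (goodF4.fterms_eq ha hb).symm

variable {D : ChevalleyDatum} {K : Type*} [Field K] [Fintype K]

namespace Ctx

variable (C : Ctx D K)

/-- Conjugation in the table form. -/
lemma conj_terms {δ γ : ℕ} (hδ : δ < D.nroots) (hγ : γ < D.nroots) (h1 : γ ≠ δ) (h2 : γ ≠ fneg D δ)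
    {L : List (ℕ × ℤ × ℕ × ℕ)} (hL : fterms D δ γ = L) (u t : K) :
    C.g.xG δ u * C.g.xG γ t * (C.g.xG δ u)⁻¹ =
      C.g.xG γ t * (L.map fun c => C.g.xG c.1 ((c.2.1 : K) * u ^ c.2.2.1 * t ^ c.2.2.2)).prod := by
  rw [C.g.xG_conj C.hc hγ hδ h1 (by rwa [neg_eq C.g.lie.pack hδ]), ← C.g.fterms_eq hδ hγ, hL]

/-- Root elements with vanishing coefficients commute. -/
lemma bad_commute {r s : ℕ} (hr : r ∈ radSet D) (hs : s ∈ radSet D)
    (h : ∀ a ∈ radSet D, (nRad C.g r a : K) = 0) (t u : K) : Commute (C.g.xG r u) (C.g.xG s t) := by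
  have h1 := rad_conj C.g C.hc C.T hs hr t u
  rw [h s hs, zero_mul, zero_mul, C.g.xG_zero, mul_one, mul_inv_eq_iff_eq_mul] at h1
  exact h1

lemma conj_mem_H {δ : ℕ} (hδ : δ < D.nroots) {P : GL D.Idx K} (hP : P ∈ C.H) :
    P⁻¹ * (C.g.xG δ 1 * P * (C.g.xG δ 1)⁻¹) ∈ C.H := by
  have hd := C.M_le_H (C.xG_mem_M hδ (t := 1) (map_one _))
  exact mul_mem (inv_mem hP) (mul_mem (mul_mem hd hP) (inv_mem hd))

end Ctx

/-- In characteristic two, signs do not matter. -/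
lemma intCast_eq_one_of_odd [CharP K 2] {c : ℤ} (hc : c % 2 = 1) : (c : K) = 1 := by
  have h : ((c - 1 : ℤ) : K) = 0 := (CharP.intCast_eq_zero_iff K 2 _).2 (by omega)
  push_cast at h
  exact sub_eq_zero.1 h

/-- In characteristic three, the multiples of three vanish. -/
lemma intCast_eq_zero_of_three [CharP K 3] {c : ℤ} (hc : c % 3 = 0) : (c : K) = 0 :=
  (CharP.intCast_eq_zero_iff K 3 _).2 (by omega)

/-! ### B2 in characteristic two -/

theorem badOK_B2 : badOK chevB2 2 [5, 6, 7] = true := by decide +kernel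

theorem radRat_B2 [CharP K 2] (C : Ctx chevB2 K) (hT : C.TopRat) : C.RadRat := by
  obtain ⟨hbad, hgood, hl⟩ := bad_of_check C.g (K := K) (p := 2) badOK_B2
  have hneg : ∀ x : K, -x = x := fun x => CharTwo.neg_eq x
  have hxn : ∀ (r : ℕ) (x : K), (C.g.xG r x)⁻¹ = C.g.xG r x := fun r x => by rw [C.g.xG_inv, hneg]
  have hmem : ∀ r, r < 8 → (C.g.xG r (1 : K)) ∈ C.H := fun r hr => C.M_le_H (C.xG_mem_M hr (map_one _))
  have c45 : ∀ u t : K, C.g.xG 4 u * C.g.xG 5 t * (C.g.xG 4 u)⁻¹ =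
      C.g.xG 5 t * (C.g.xG 6 (u * t) * C.g.xG 7 (u * t ^ 2)) := fun u t => by
    rw [C.conj_terms (by decide) (by decide) (by decide) (by decide)
      (L := [(6, 1, 1, 1), (7, -1, 1, 2)]) (by decide +kernel)]
    simp [CharTwo.neg_eq]
  have c36 : ∀ u t : K, C.g.xG 3 u * C.g.xG 6 t * (C.g.xG 3 u)⁻¹ =
      C.g.xG 6 t * (C.g.xG 5 (u * t) * C.g.xG 7 (u * t ^ 2)) := fun u t => by
    rw [C.conj_terms (by decide) (by decide) (by decide) (by decide)
      (L := [(5, 1, 1, 1), (7, 1, 1, 2)]) (by decide +kernel)]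
    simp
  have k46 : ∀ u t : K, Commute (C.g.xG 4 u) (C.g.xG 6 t) := fun u t =>
    commute_of_nil C.g C.hc (by decide) (by decide) (by decide) (by rw [neg_eq C.g.lie.pack (by decide)]; decide)
      (by rw [terms_b2 4 6 (by decide) (by decide)]; decide +kernel) t u
  have k47 : ∀ u t : K, Commute (C.g.xG 4 u) (C.g.xG 7 t) := fun u t =>
    commute_of_nil C.g C.hc (by decide) (by decide) (by decide) (by rw [neg_eq C.g.lie.pack (by decide)]; decide)
      (by rw [terms_b2 4 7 (by decide) (by decide)]; decide +kernel) t u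
  have k35 : ∀ u t : K, Commute (C.g.xG 3 u) (C.g.xG 5 t) := fun u t =>
    commute_of_nil C.g C.hc (by decide) (by decide) (by decide) (by rw [neg_eq C.g.lie.pack (by decide)]; decide)
      (by rw [terms_b2 3 5 (by decide) (by decide)]; decide +kernel) t u
  have k37 : ∀ u t : K, Commute (C.g.xG 3 u) (C.g.xG 7 t) := fun u t =>
    commute_of_nil C.g C.hc (by decide) (by decide) (by decide) (by rw [neg_eq C.g.lie.pack (by decide)]; decide)
      (by rw [terms_b2 3 7 (by decide) (by decide)]; decide +kernel) t u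
  have kb : ∀ r ∈ [5, 6, 7], ∀ s ∈ [5, 6, 7], ∀ t u : K, Commute (C.g.xG r u) (C.g.xG s t) :=
    fun r hr s hs t u => C.bad_commute (hbad r hr).1 (hbad s hs).1 (hbad r hr).2 t u
  -- first derivations
  have d65 : ∀ a e : K, C.g.xG 6 a * C.g.xG 7 e ∈ C.H → C.g.xG 5 a * C.g.xG 7 (a ^ 2) ∈ C.H := by
    intro a e h
    have h1 := C.conj_mem_H (δ := 3) (by decide) h
    rw [show C.g.xG 3 1 * (C.g.xG 6 a * C.g.xG 7 e) * (C.g.xG 3 1)⁻¹ =
      (C.g.xG 3 1 * C.g.xG 6 a * (C.g.xG 3 1)⁻¹) * (C.g.xG 3 1 * C.g.xG 7 e * (C.g.xG 3 1)⁻¹) by group, c36,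
      (k37 1 e).eq, mul_inv_cancel_right, one_mul, one_mul] at h1
    rw [show (C.g.xG 6 a * C.g.xG 7 e)⁻¹ *
      (C.g.xG 6 a * (C.g.xG 5 a * C.g.xG 7 (a ^ 2)) * C.g.xG 7 e) =
      (C.g.xG 7 e)⁻¹ * ((C.g.xG 5 a * C.g.xG 7 (a ^ 2)) * C.g.xG 7 e) by group,
      (((kb 5 (by simp) 7 (by simp) _ _).mul_left (kb 7 (by simp) 7 (by simp) _ _))).eq,
      inv_mul_cancel_left] at h1
    exact h1
  have d56 : ∀ a e : K, C.g.xG 5 a * C.g.xG 7 e ∈ C.H → C.g.xG 6 a * C.g.xG 7 (a ^ 2) ∈ C.H := by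
    intro a e h
    have h1 := C.conj_mem_H (δ := 4) (by decide) h
    rw [show C.g.xG 4 1 * (C.g.xG 5 a * C.g.xG 7 e) * (C.g.xG 4 1)⁻¹ =
      (C.g.xG 4 1 * C.g.xG 5 a * (C.g.xG 4 1)⁻¹) * (C.g.xG 4 1 * C.g.xG 7 e * (C.g.xG 4 1)⁻¹) by group, c45,
      (k47 1 e).eq, mul_inv_cancel_right, one_mul, one_mul] at h1
    rw [show (C.g.xG 5 a * C.g.xG 7 e)⁻¹ *
      (C.g.xG 5 a * (C.g.xG 6 a * C.g.xG 7 (a ^ 2)) * C.g.xG 7 e) =
      (C.g.xG 7 e)⁻¹ * ((C.g.xG 6 a * C.g.xG 7 (a ^ 2)) * C.g.xG 7 e) by group,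
      (((kb 6 (by simp) 7 (by simp) _ _).mul_left (kb 7 (by simp) 7 (by simp) _ _))).eq,
      inv_mul_cancel_left] at h1
    exact h1
  have hquot : ∀ a e : K, C.g.xG 6 a * C.g.xG 7 e ∈ C.H → C.E.σ (e + a ^ 2) = e + a ^ 2 := by
    intro a e h
    refine hT _ ?_
    have h1 := mul_mem (inv_mem (d56 a _ (d65 a e h))) h
    rw [show (C.g.xG 6 a * C.g.xG 7 (a ^ 2))⁻¹ * (C.g.xG 6 a * C.g.xG 7 e) =
      (C.g.xG 7 (a ^ 2))⁻¹ * C.g.xG 7 e by group, hxn, C.g.xG_add, add_comm] at h1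
    exact h1
  have hsq : ∀ x : K, C.E.σ (x ^ 2) = x ^ 2 → C.E.σ x = x := fun x hx => by
    rw [map_pow] at hx
    exact frobenius_inj K 2 hx
  have key : ∀ c e : K, C.g.xG 6 c * C.g.xG 7 e ∈ C.H → C.E.σ c = c := by
    intro c e hce
    have hw' := d65 c e hce
    have hw := d56 c _ hw'
    obtain ⟨s, hs⟩ : ∃ s : GL chevB2.Idx K, s = C.g.wordN [⟨0, by decide⟩] := ⟨_, rfl⟩
    obtain ⟨e6, -, he6, h6⟩ := C.exists_move [⟨0, by decide⟩] ⟨6, by decide⟩
    obtain ⟨e7, -, he7, h7⟩ := C.exists_move [⟨0, by decide⟩] ⟨7, by decide⟩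
    have hp6 : (C.g.wperm [⟨0, by decide⟩] ⟨6, by decide⟩ : ℕ) = 6 := by
      rw [C.g.wperm_cons, C.g.wperm_nil, mul_one, C.g.rperm_val,
        (StructChecks.refl_facts checksB2 structChecksB2 (by decide : (0:ℕ) < chevB2.rank)
          (by decide : (6:ℕ) < chevB2.nroots)).1]
      decide +kernel
    have hp7 : (C.g.wperm [⟨0, by decide⟩] ⟨7, by decide⟩ : ℕ) = 4 := by
      rw [C.g.wperm_cons, C.g.wperm_nil, mul_one, C.g.rperm_val,
        (StructChecks.refl_facts checksB2 structChecksB2 (by decide : (0:ℕ) < chevB2.rank)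
          (by decide : (7:ℕ) < chevB2.nroots)).1]
      decide +kernel
    simp only [hp6] at h6
    simp only [hp7] at h7
    -- the representative has square-one coefficients
    have hone : ∀ e : K, C.E.σ e = e → e * e = 1 → e = 1 := fun e _ h => by
      have h' : (e + 1) * (e + 1) = 0 := by
        linear_combination h + (e + 1) * (CharP.cast_eq_zero K 2 : ((2 : ℕ) : K) = 0)
      exact CharTwo.add_eq_zero.1 (mul_self_eq_zero.1 h')
    obtain ⟨f6, hf6e, hf6, -⟩ := C.g.wordN_conj_xG_pair (F := K) [⟨0, by decide⟩] ⟨6, by decide⟩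
    obtain ⟨f7, hf7e, hf7, -⟩ := C.g.wordN_conj_xG_pair (F := K) [⟨0, by decide⟩] ⟨7, by decide⟩
    simp only [hp6] at hf6
    simp only [hp7] at hf7
    have he6' : e6 = 1 := by
      have h1 := xG_inj C.g (by decide : (6:ℕ) < chevB2.nroots) ((h6 1).symm.trans (hf6 1))
      rw [mul_one, mul_one] at h1
      exact hone e6 he6 (h1 ▸ hf6e)
    have he7' : e7 = 1 := by
      have h1 := xG_inj C.g (by decide : (4:ℕ) < chevB2.nroots) ((h7 1).symm.trans (hf7 1))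
      rw [mul_one, mul_one] at h1
      exact hone e7 he7 (h1 ▸ hf7e)
    have hv' : C.g.xG 6 c * C.g.xG 4 (c ^ 2) ∈ C.H := by
      have h1 := mul_mem (mul_mem (C.M_le_H (C.wordN_mem_M [⟨0, by decide⟩])) hw)
        (inv_mem (C.M_le_H (C.wordN_mem_M [⟨0, by decide⟩])))
      rw [show C.g.wordN [⟨0, by decide⟩] * (C.g.xG 6 c * C.g.xG 7 (c ^ 2)) * (C.g.wordN [⟨0, by decide⟩])⁻¹ =
        (C.g.wordN [⟨0, by decide⟩] * C.g.xG 6 c * (C.g.wordN [⟨0, by decide⟩])⁻¹) *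
          (C.g.wordN [⟨0, by decide⟩] * C.g.xG 7 (c ^ 2) * (C.g.wordN [⟨0, by decide⟩])⁻¹) by group,
        h6, h7, he6', he7', one_mul, one_mul] at h1
      exact h1
    obtain ⟨y, hy⟩ : ∃ y, y = C.g.xG 7 (c ^ 2) * C.g.xG 4 (c ^ 2) := ⟨_, rfl⟩
    have hyH : y ∈ C.H := by
      have h1 := mul_mem hw (inv_mem hv')
      rw [show C.g.xG 6 c * C.g.xG 7 (c ^ 2) * (C.g.xG 6 c * C.g.xG 4 (c ^ 2))⁻¹ =
        C.g.xG 6 c * C.g.xG 7 (c ^ 2) * (C.g.xG 4 (c ^ 2))⁻¹ * (C.g.xG 6 c)⁻¹ by group, hxn 4,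
        show C.g.xG 6 c * C.g.xG 7 (c ^ 2) * C.g.xG 4 (c ^ 2) = C.g.xG 6 c * (C.g.xG 7 (c ^ 2) * C.g.xG 4 (c ^ 2))
        by group, (((kb 6 (by simp) 7 (by simp) _ _).mul_right (k46 _ _).symm)).eq, mul_inv_cancel_right] at h1
      exact hy ▸ h1
    have hy5 : ∀ a : K, y * C.g.xG 5 a * y⁻¹ =
        C.g.xG 5 a * (C.g.xG 6 (c ^ 2 * a) * C.g.xG 7 (c ^ 2 * a ^ 2)) := fun a => by
      rw [hy, show C.g.xG 7 (c ^ 2) * C.g.xG 4 (c ^ 2) * C.g.xG 5 a * (C.g.xG 7 (c ^ 2) * C.g.xG 4 (c ^ 2))⁻¹ =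
        C.g.xG 7 (c ^ 2) * (C.g.xG 4 (c ^ 2) * C.g.xG 5 a * (C.g.xG 4 (c ^ 2))⁻¹) * (C.g.xG 7 (c ^ 2))⁻¹ by group,
        c45, ((kb 7 (by simp) 5 (by simp) _ _).mul_right
          ((kb 7 (by simp) 6 (by simp) _ _).mul_right (kb 7 (by simp) 7 (by simp) _ _))).eq,
        mul_inv_cancel_right]
    have hL2 : C.g.xG 6 (c ^ 2) * C.g.xG 7 (c ^ 2) ∈ C.H := by
      have h1 := mul_mem (inv_mem (hmem 5 (by decide))) (mul_mem (mul_mem hyH (hmem 5 (by decide))) (inv_mem hyH))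
      rw [hy5, inv_mul_cancel_left, mul_one, one_pow, mul_one] at h1
      exact h1
    have hL3 : C.g.xG 6 (c ^ 3) * C.g.xG 7 (c ^ 4) ∈ C.H := by
      have h1 := mul_mem (inv_mem hw') (mul_mem (mul_mem hyH hw') (inv_mem hyH))
      have h7y : y * C.g.xG 7 (c ^ 2) * y⁻¹ = C.g.xG 7 (c ^ 2) := by
        rw [hy, ((kb 7 (by simp) 7 (by simp) _ _).mul_left (k47 _ _)).eq, mul_inv_cancel_right]
      rw [show y * (C.g.xG 5 c * C.g.xG 7 (c ^ 2)) * y⁻¹ =
        (y * C.g.xG 5 c * y⁻¹) * (y * C.g.xG 7 (c ^ 2) * y⁻¹) by group, hy5, h7y,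
        show (C.g.xG 5 c * C.g.xG 7 (c ^ 2))⁻¹ * (C.g.xG 5 c * (C.g.xG 6 (c ^ 2 * c) * C.g.xG 7 (c ^ 2 * c ^ 2)) *
          C.g.xG 7 (c ^ 2)) = (C.g.xG 7 (c ^ 2))⁻¹ *
          ((C.g.xG 6 (c ^ 2 * c) * C.g.xG 7 (c ^ 2 * c ^ 2)) * C.g.xG 7 (c ^ 2)) by group,
        (((kb 6 (by simp) 7 (by simp) _ _).mul_left (kb 7 (by simp) 7 (by simp) _ _))).eq,
        inv_mul_cancel_left, ← pow_succ, ← pow_add] at h1
      exact h1
    obtain ⟨ω, hω⟩ : ∃ ω, ω = c ^ 2 + c := ⟨_, rfl⟩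
    have h2K : (2 : K) = 0 := by exact_mod_cast CharP.cast_eq_zero K 2
    have hω1 : C.E.σ ω = ω := hsq ω (by
      have h := hquot _ _ hL2
      rwa [show c ^ 2 + (c ^ 2) ^ 2 = ω ^ 2 by rw [hω]; linear_combination (-c ^ 3) * h2K] at h)
    have hω2 : C.E.σ (c * ω) = c * ω := hsq _ (by
      have h := hquot _ _ hL3
      rwa [show c ^ 4 + (c ^ 3) ^ 2 = (c * ω) ^ 2 by rw [hω]; linear_combination (-c ^ 5) * h2K] at h)
    by_cases h0 : ω = 0
    · rw [hω, show c ^ 2 + c = c * (c + 1) by ring, mul_eq_zero] at h0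
      rcases h0 with rfl | h0
      · exact map_zero _
      · rw [CharTwo.add_eq_zero] at h0
        rw [h0, map_one]
    · rw [map_mul, hω1] at hω2
      exact mul_right_cancel₀ h0 hω2
  intro x hx hxQ
  obtain ⟨f, hf, hfH, hfM⟩ := C.rad_reduce hT hx hxQ
  refine hfM ?_
  have hsupp : ∀ r, r ∉ [5, 6, 7] → f r = 0 := fun r hr => by
    by_contra h0
    obtain ⟨a, ha, hne⟩ := hgood r (hf r h0).1 hr
    exact hne ((hf r h0).2 a ha)
  rw [xProd_eq_list C.g hl hsupp] at hfH ⊢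
  simp only [List.map_cons, List.map_nil, List.prod_cons, List.prod_nil, mul_one] at hfH ⊢
  have h5 : C.E.σ (f 5) = f 5 := by
    have h1 := C.conj_mem_H (δ := 4) (by decide) hfH
    rw [show C.g.xG 4 1 * (C.g.xG 5 (f 5) * (C.g.xG 6 (f 6) * C.g.xG 7 (f 7))) * (C.g.xG 4 1)⁻¹ =
      (C.g.xG 4 1 * C.g.xG 5 (f 5) * (C.g.xG 4 1)⁻¹) *
        (C.g.xG 4 1 * (C.g.xG 6 (f 6) * C.g.xG 7 (f 7)) * (C.g.xG 4 1)⁻¹) by group, c45,
      ((k46 1 _).mul_right (k47 1 _)).eq, mul_inv_cancel_right, one_mul, one_mul] at h1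
    rw [show (C.g.xG 5 (f 5) * (C.g.xG 6 (f 6) * C.g.xG 7 (f 7)))⁻¹ *
      (C.g.xG 5 (f 5) * (C.g.xG 6 (f 5) * C.g.xG 7 (f 5 ^ 2)) * (C.g.xG 6 (f 6) * C.g.xG 7 (f 7))) =
      (C.g.xG 6 (f 6) * C.g.xG 7 (f 7))⁻¹ *
        ((C.g.xG 6 (f 5) * C.g.xG 7 (f 5 ^ 2)) * (C.g.xG 6 (f 6) * C.g.xG 7 (f 7))) by group,
      ((((kb 6 (by simp) 6 (by simp) _ _).mul_right (kb 6 (by simp) 7 (by simp) _ _))).mul_left
        ((kb 7 (by simp) 6 (by simp) _ _).mul_right (kb 7 (by simp) 7 (by simp) _ _))).eq,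
      inv_mul_cancel_left] at h1
    exact key _ _ h1
  have h5H : C.g.xG 5 (f 5) ∈ C.H := C.M_le_H (C.xG_mem_M (by decide) h5)
  have h67 : C.g.xG 6 (f 6) * C.g.xG 7 (f 7) ∈ C.H := by
    have := mul_mem (inv_mem h5H) hfH
    rwa [inv_mul_cancel_left] at this
  have h6 := key _ _ h67
  have h7 : C.g.xG 7 (f 7) ∈ C.H := by
    have := mul_mem (inv_mem (C.M_le_H (C.xG_mem_M (by decide : 6 < chevB2.nroots) h6))) h67
    rwa [inv_mul_cancel_left] at this
  exact mul_mem (C.xG_mem_M (by decide) h5) (mul_mem (C.xG_mem_M (by decide) h6)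
    (C.xG_mem_M (by decide) (hT _ h7)))

/-! ### G2 in characteristic three -/

theorem badOK_G2 : badOK chevG2 3 [8, 9, 11] = true := by decide +kernel

theorem radRat_G2 [CharP K 3] (C : Ctx chevG2 K) (hT : C.TopRat) : C.RadRat := by
  obtain ⟨hbad, hgood, hl⟩ := bad_of_check C.g (K := K) (p := 3) badOK_G2
  have h2 : (2 : K) ≠ 0 := by
    intro h
    have : ((2 : ℕ) : K) = 0 := by exact_mod_cast h
    rw [CharP.cast_eq_zero_iff K 3] at this
    norm_num at this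
  have h3 : (3 : K) = 0 := by exact_mod_cast CharP.cast_eq_zero K 3
  have hmem : ∀ r, r < 12 → (C.g.xG r (1 : K)) ∈ C.H := fun r hr => C.M_le_H (C.xG_mem_M hr (map_one _))
  have hp : ∀ (i : Fin chevG2.rank) (a b : Fin chevG2.nroots), refl sdataG2 i a = b → C.g.wperm [i] a = b := by
    intro i a b h
    refine Fin.ext ?_
    rw [C.g.wperm_cons, C.g.wperm_nil, mul_one, C.g.rperm_val,
      (StructChecks.refl_facts checksG2 structChecksG2 i.2 a.2).1, h]
  -- moving short root elements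
  have mv : ∀ (i : Fin chevG2.rank) (a b : Fin chevG2.nroots), refl sdataG2 i a = b → ∀ t : K,
      C.g.xG a t ∈ C.H → C.g.xG b t ∈ C.H := by
    intro i a b h t ht
    obtain ⟨e, he, h1, -⟩ := C.g.wordN_conj_xG_pair (F := K) [i] a
    have h2 := mul_mem (mul_mem (C.M_le_H (C.wordN_mem_M [i])) ht) (inv_mem (C.M_le_H (C.wordN_mem_M [i])))
    rw [h1, hp i a b h] at h2
    rcases mul_self_eq_one_iff.1 he with rfl | rfl
    · rwa [one_mul] at h2
    · rw [neg_one_mul, ← C.g.xG_inv] at h2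
      exact inv_mem_iff.1 h2
  have c48 : ∀ t : K, C.g.xG 4 1 * C.g.xG 8 t * (C.g.xG 4 1)⁻¹ = C.g.xG 8 t := fun t => by
    rw [C.conj_terms (by decide) (by decide) (by decide) (by decide)
      (L := [(6, -3, 1, 1)]) (by decide +kernel)]
    simp [h3, C.g.xG_zero]
  have c49 : ∀ t : K, C.g.xG 4 1 * C.g.xG 9 t * (C.g.xG 4 1)⁻¹ = C.g.xG 9 t * C.g.xG 8 (-2 * t) := fun t => by
    rw [C.conj_terms (by decide) (by decide) (by decide) (by decide)
      (L := [(8, -2, 1, 1), (6, 3, 2, 1), (11, -3, 1, 2)]) (by decide +kernel)]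
    simp [h3, C.g.xG_zero]
  have c78 : ∀ u t : K, C.g.xG 7 u * C.g.xG 8 t * (C.g.xG 7 u)⁻¹ = C.g.xG 8 t * C.g.xG 9 (-2 * u * t) :=
    fun u t => by
    rw [C.conj_terms (by decide) (by decide) (by decide) (by decide)
      (L := [(9, -2, 1, 1), (10, -3, 2, 1), (11, 3, 1, 2)]) (by decide +kernel)]
    simp [h3, C.g.xG_zero]
  have k411 : ∀ t : K, C.g.xG 4 1 * C.g.xG 11 t * (C.g.xG 4 1)⁻¹ = C.g.xG 11 t := fun t => by
    rw [C.conj_terms (by decide) (by decide) (by decide) (by decide) (L := []) (by decide +kernel)]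
    simp
  have kb : ∀ r ∈ [8, 9, 11], ∀ s ∈ [8, 9, 11], ∀ t u : K, Commute (C.g.xG r u) (C.g.xG s t) :=
    fun r hr s hs t u => C.bad_commute (hbad r hr).1 (hbad s hs).1 (hbad r hr).2 t u
  have key : ∀ c : K, C.g.xG 8 c ∈ C.H → C.E.σ c = c := by
    intro c h8
    have h7 := mv ⟨1, by decide⟩ ⟨8, by decide⟩ ⟨7, by decide⟩ (by decide +kernel) c h8
    have h9 := mv ⟨0, by decide⟩ ⟨8, by decide⟩ ⟨9, by decide⟩ (by decide +kernel) c h8
    have h9sq : C.g.xG 9 (c ^ 2) ∈ C.H := by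
      have h := mul_mem (inv_mem h8) (mul_mem (mul_mem h7 h8) (inv_mem h7))
      rw [c78, inv_mul_cancel_left, show -2 * c * c = c ^ 2 by linear_combination (-c ^ 2) * h3] at h
      exact h
    have hc6 : C.g.xG 6 1 * C.g.xG 7 c * (C.g.xG 6 1)⁻¹ =
        C.g.xG 7 c * (C.g.xG 8 c * (C.g.xG 9 (c ^ 2) * (C.g.xG 10 (-(c ^ 3)) * C.g.xG 11 (c ^ 3)))) := by
      rw [C.conj_terms (by decide) (by decide) (by decide) (by decide)
        (L := [(8, 1, 1, 1), (9, 1, 1, 2), (10, -1, 1, 3), (11, -2, 2, 3)]) (by decide +kernel)]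
      simp only [List.map_cons, List.map_nil, List.prod_cons, List.prod_nil, mul_one, one_pow,
        Int.cast_one, Int.cast_neg, Int.cast_ofNat, one_mul, neg_mul, pow_one]
      congr 5
      linear_combination (-c ^ 3) * h3
    have h10 : C.g.xG 10 (-(c ^ 3)) * C.g.xG 11 (c ^ 3) ∈ C.H := by
      have h := mul_mem (inv_mem h7) (mul_mem (mul_mem (hmem 6 (by decide)) h7) (inv_mem (hmem 6 (by decide))))
      rw [hc6, inv_mul_cancel_left] at h
      have := mul_mem (inv_mem h9sq) (mul_mem (inv_mem h8) h)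
      rwa [inv_mul_cancel_left, inv_mul_cancel_left] at this
    have h11 : C.g.xG 11 (-(c ^ 3)) ∈ C.H := by
      have h := C.conj_mem_H (δ := 6) (by decide) h10
      rw [show C.g.xG 6 1 * (C.g.xG 10 (-(c ^ 3)) * C.g.xG 11 (c ^ 3)) * (C.g.xG 6 1)⁻¹ =
        (C.g.xG 6 1 * C.g.xG 10 (-(c ^ 3)) * (C.g.xG 6 1)⁻¹) *
          (C.g.xG 6 1 * C.g.xG 11 (c ^ 3) * (C.g.xG 6 1)⁻¹) by group,
        C.conj_terms (by decide) (by decide) (by decide) (by decide) (L := [(11, 1, 1, 1)]) (by decide +kernel),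
        C.conj_terms (by decide) (by decide) (by decide) (by decide) (L := []) (by decide +kernel)] at h
      simp only [List.map_cons, List.map_nil, List.prod_cons, List.prod_nil, mul_one, one_pow, pow_one,
        Int.cast_one, one_mul] at h
      rw [show (C.g.xG 10 (-(c ^ 3)) * C.g.xG 11 (c ^ 3))⁻¹ *
        (C.g.xG 10 (-(c ^ 3)) * C.g.xG 11 (-(c ^ 3)) * C.g.xG 11 (c ^ 3)) =
        (C.g.xG 11 (c ^ 3))⁻¹ * (C.g.xG 11 (-(c ^ 3)) * C.g.xG 11 (c ^ 3)) by group,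
        (xG_commute_self C.g 11 _ _).eq, inv_mul_cancel_left] at h
      exact h
    have h3' := hT _ h11
    rw [map_neg, map_pow, neg_inj] at h3'
    exact frobenius_inj K 3 h3'
  intro x hx hxQ
  obtain ⟨f, hf, hfH, hfM⟩ := C.rad_reduce hT hx hxQ
  refine hfM ?_
  have hsupp : ∀ r, r ∉ [8, 9, 11] → f r = 0 := fun r hr => by
    by_contra h0
    obtain ⟨a, ha, hne⟩ := hgood r (hf r h0).1 hr
    exact hne ((hf r h0).2 a ha)
  rw [xProd_eq_list C.g hl hsupp] at hfH ⊢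
  simp only [List.map_cons, List.map_nil, List.prod_cons, List.prod_nil, mul_one] at hfH ⊢
  have h9 : C.E.σ (f 9) = f 9 := by
    have h1 := C.conj_mem_H (δ := 4) (by decide) hfH
    rw [show C.g.xG 4 1 * (C.g.xG 8 (f 8) * (C.g.xG 9 (f 9) * C.g.xG 11 (f 11))) * (C.g.xG 4 1)⁻¹ =
      (C.g.xG 4 1 * C.g.xG 8 (f 8) * (C.g.xG 4 1)⁻¹) * ((C.g.xG 4 1 * C.g.xG 9 (f 9) * (C.g.xG 4 1)⁻¹) *
        (C.g.xG 4 1 * C.g.xG 11 (f 11) * (C.g.xG 4 1)⁻¹)) by group, c48, c49, k411] at h1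
    rw [show (C.g.xG 8 (f 8) * (C.g.xG 9 (f 9) * C.g.xG 11 (f 11)))⁻¹ *
      (C.g.xG 8 (f 8) * (C.g.xG 9 (f 9) * C.g.xG 8 (-2 * f 9) * C.g.xG 11 (f 11))) =
      (C.g.xG 11 (f 11))⁻¹ * (C.g.xG 8 (-2 * f 9) * C.g.xG 11 (f 11)) by group,
      (kb 8 (by simp) 11 (by simp) _ _).eq, inv_mul_cancel_left] at h1
    have := key _ h1
    rw [map_mul, map_neg, show C.E.σ 2 = 2 from map_ofNat _ 2] at this
    exact mul_left_cancel₀ (neg_ne_zero.2 h2) this
  have h9M := C.xG_mem_M (r := 9) (by decide : 9 < chevG2.nroots) h9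
  have h811 : C.g.xG 8 (f 8) * C.g.xG 11 (f 11) ∈ C.H := by
    have := mul_mem (inv_mem (C.M_le_H h9M)) hfH
    rwa [show C.g.xG 8 (f 8) * (C.g.xG 9 (f 9) * C.g.xG 11 (f 11)) =
      C.g.xG 9 (f 9) * (C.g.xG 8 (f 8) * C.g.xG 11 (f 11)) by
      rw [← mul_assoc, (kb 8 (by simp) 9 (by simp) _ _).eq, mul_assoc], inv_mul_cancel_left] at this
  have h8 : C.E.σ (f 8) = f 8 := by
    have h1 := C.conj_mem_H (δ := 7) (by decide) h811
    rw [show C.g.xG 7 1 * (C.g.xG 8 (f 8) * C.g.xG 11 (f 11)) * (C.g.xG 7 1)⁻¹ =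
      (C.g.xG 7 1 * C.g.xG 8 (f 8) * (C.g.xG 7 1)⁻¹) * (C.g.xG 7 1 * C.g.xG 11 (f 11) * (C.g.xG 7 1)⁻¹) by group,
      c78, C.conj_terms (δ := 7) (γ := 11) (by decide) (by decide) (by decide) (by decide) (L := [])
        (by decide +kernel), List.map_nil, List.prod_nil] at h1
    simp only [mul_one] at h1
    rw [show (C.g.xG 8 (f 8) * C.g.xG 11 (f 11))⁻¹ *
      (C.g.xG 8 (f 8) * C.g.xG 9 (-2 * f 8) * C.g.xG 11 (f 11)) =
      (C.g.xG 11 (f 11))⁻¹ * (C.g.xG 9 (-2 * f 8) * C.g.xG 11 (f 11)) by group,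
      (kb 9 (by simp) 11 (by simp) _ _).eq, inv_mul_cancel_left] at h1
    have := key _ (mv ⟨0, by decide⟩ ⟨9, by decide⟩ ⟨8, by decide⟩ (by decide +kernel) _ h1)
    rw [map_mul, map_neg, show C.E.σ 2 = 2 from map_ofNat _ 2] at this
    exact mul_left_cancel₀ (neg_ne_zero.2 h2) this
  have h11 : C.g.xG 11 (f 11) ∈ C.H := by
    have := mul_mem (inv_mem (C.M_le_H (C.xG_mem_M (r := 8) (by decide) h8))) h811
    rwa [inv_mul_cancel_left] at this
  exact mul_mem (C.xG_mem_M (by decide) h8) (mul_mem h9M (C.xG_mem_M (by decide) (hT _ h11)))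

/-! ### F4 in characteristic two -/

/-- The check of one conjugation step in F4. -/
noncomputable def f4Step (δ γ : ℕ) (T : List (ℕ × ℤ × ℕ × ℕ)) (l : List ℕ) : Bool :=
  decide (δ < chevF4.nroots) && decide l.Nodup && decide (γ ∈ l) &&
  l.all fun r => decide (r ∈ [29, 36, 38, 39, 40, 44, 47]) && decide (r ≠ δ) && decide (r ≠ fneg chevF4 δ) &&
    ((decide (r = γ) && (decide (fterms chevF4 δ r = T) &&
        T.all fun z => decide (z.2.1 % 2 = 1) && decide (z.1 ∈ [29, 36, 38, 39, 40, 44, 47]))) ||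
      (decide (r ≠ γ) && (fterms chevF4 δ r).all fun z => decide (z.2.1 % 2 = 0)))

/-- The image of a root under a word. -/
noncomputable def f4Move : List ℕ → ℕ → ℕ
  | [], a => a
  | i :: w, a => refl sdataF4 i (f4Move w a)

theorem badOK_F4 : badOK chevF4 2 [29, 36, 38, 39, 40, 44, 47] = true := by decide +kernel

theorem radRat_F4 [CharP K 2] (C : Ctx chevF4 K) (hT : C.TopRat) : C.RadRat := by
  obtain ⟨hbad, hgood, hl⟩ := bad_of_check C.g (K := K) (p := 2) badOK_F4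
  have hzero : ∀ c : ℤ, c % 2 = 0 → (c : K) = 0 := fun c hc =>
    (CharP.intCast_eq_zero_iff K 2 _).2 (by omega)
  have kb : ∀ r ∈ [29, 36, 38, 39, 40, 44, 47], ∀ s ∈ [29, 36, 38, 39, 40, 44, 47],
      ∀ t u : K, Commute (C.g.xG r u) (C.g.xG s t) :=
    fun r hr s hs t u => C.bad_commute (hbad r hr).1 (hbad s hs).1 (hbad r hr).2 t u
  -- a conjugation step on a product of commuting root elements
  have step : ∀ (δ γ : ℕ) (T : List (ℕ × ℤ × ℕ × ℕ)) (l : List ℕ) (c : ℕ → K),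
      f4Step δ γ T l = true → ((l.map fun r => C.g.xG r (c r)).prod ∈ C.H) →
        (T.map fun z => C.g.xG z.1 (c γ ^ z.2.2.2)).prod ∈ C.H := by
    intro δ γ T l c hok hP
    simp only [f4Step, Bool.and_eq_true, decide_eq_true_eq, List.all_eq_true, Bool.or_eq_true] at hok
    obtain ⟨⟨⟨hδ, hnd⟩, hγl⟩, hall⟩ := hok
    have hlb : ∀ r ∈ l, r ∈ [29, 36, 38, 39, 40, 44, 47] := fun r hr => (hall r hr).1.1.1
    have hlt : ∀ r ∈ [29, 36, 38, 39, 40, 44, 47], r < chevF4.nroots := fun r hr => (hbad r hr).1.1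
    have himg : ∀ r ∈ l, ∀ t : K, C.g.xG δ 1 * C.g.xG r t * (C.g.xG δ 1)⁻¹ =
        C.g.xG r t * (if r = γ then (T.map fun z => C.g.xG z.1 (t ^ z.2.2.2)).prod else 1) := by
      intro r hr t
      obtain ⟨⟨⟨-, hne⟩, hnn⟩, hT'⟩ := hall r hr
      rw [C.conj_terms (by exact hδ) (hlt r (hlb r hr)) hne hnn rfl]
      congr 1
      rcases hT' with ⟨hrγ, hTeq⟩ | ⟨hrγ, hzer⟩
      · rw [if_pos hrγ, hTeq.1]
        refine congrArg List.prod (List.map_congr_left fun z hz => ?_)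
        rw [intCast_eq_one_of_odd (hTeq.2 z hz).1, one_pow, one_mul, one_mul]
      · rw [if_neg hrγ]
        refine List.prod_eq_one fun y hy => ?_
        obtain ⟨z, hz, rfl⟩ := List.mem_map.1 hy
        rw [hzero _ (hzer z hz), zero_mul, zero_mul, C.g.xG_zero]
    have hTb : ∀ z ∈ T, z.1 ∈ [29, 36, 38, 39, 40, 44, 47] := by
      intro z hz
      rcases (hall γ hγl).2 with ⟨-, h⟩ | ⟨h, -⟩
      · exact (h.2 z hz).2
      · exact absurd rfl h
    have hcomm : ∀ t : K, ∀ L : List ℕ, (∀ r ∈ L, r ∈ l) →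
        Commute (T.map fun z => C.g.xG z.1 (t ^ z.2.2.2)).prod (L.map fun r => C.g.xG r (c r)).prod :=
      fun t L hL => Commute.list_prod_left _ _ fun y hy => Commute.list_prod_right _ _ fun w hw => by
        obtain ⟨z, hz, rfl⟩ := List.mem_map.1 hy
        obtain ⟨r, hr, rfl⟩ := List.mem_map.1 hw
        exact kb _ (hTb z hz) _ (hlb r (hL r hr)) _ _
    have key : ∀ L : List ℕ, L.Nodup → (∀ r ∈ L, r ∈ l) →
        C.g.xG δ 1 * (L.map fun r => C.g.xG r (c r)).prod * (C.g.xG δ 1)⁻¹ =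
          (L.map fun r => C.g.xG r (c r)).prod *
            (if γ ∈ L then (T.map fun z => C.g.xG z.1 (c γ ^ z.2.2.2)).prod else 1) := by
      intro L
      induction L with
      | nil => intro _ _; simp
      | cons r L ih =>
        intro hnd hL
        rw [List.nodup_cons] at hnd
        have hr := hL r List.mem_cons_self
        have hL' : ∀ s ∈ L, s ∈ l := fun s hs => hL s (List.mem_cons_of_mem _ hs)
        rw [List.map_cons, List.prod_cons, show C.g.xG δ 1 * (C.g.xG r (c r) *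
          (L.map fun r => C.g.xG r (c r)).prod) * (C.g.xG δ 1)⁻¹ = (C.g.xG δ 1 * C.g.xG r (c r) *
          (C.g.xG δ 1)⁻¹) * (C.g.xG δ 1 * (L.map fun r => C.g.xG r (c r)).prod * (C.g.xG δ 1)⁻¹) by group,
          himg r hr, ih hnd.2 hL']
        by_cases hrγ : r = γ
        · subst hrγ
          rw [if_pos rfl, if_neg hnd.1, mul_one, if_pos List.mem_cons_self, mul_assoc, (hcomm _ L hL').eq,
            mul_assoc]
        · rw [if_neg hrγ, mul_one]
          by_cases hγL : γ ∈ L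
          · rw [if_pos hγL, if_pos (List.mem_cons_of_mem _ hγL), mul_assoc]
          · rw [if_neg hγL, if_neg (by simp [hγL, Ne.symm hrγ]), mul_one, mul_one]
    have h1 := C.conj_mem_H (δ := δ) hδ hP
    rw [key l hnd fun r hr => hr, if_pos hγl, inv_mul_cancel_left] at h1
    exact h1
  have move : ∀ (w : List (Fin chevF4.rank)) (a b : Fin chevF4.nroots),
      f4Move (w.map Fin.val) a = b.val → ∀ t : K, C.g.xG a t ∈ C.H → C.g.xG b t ∈ C.H := by
    intro w a b h t ht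
    obtain ⟨e, he, h1, -⟩ := C.g.wordN_conj_xG_pair (F := K) w a
    have h2 := mul_mem (mul_mem (C.M_le_H (C.wordN_mem_M w)) ht) (inv_mem (C.M_le_H (C.wordN_mem_M w)))
    have hb : C.g.wperm w a = b := by
      refine Fin.ext (h ▸ ?_)
      clear h h1 h2 ht
      induction w with
      | nil => simp [C.g.wperm_nil, f4Move]
      | cons i w ih =>
        rw [C.g.wperm_cons, Equiv.Perm.mul_apply, C.g.rperm_val, List.map_cons, f4Move, ← ih,
          (StructChecks.refl_facts checksF4 structChecksF4 i.2 (C.g.wperm w a).2).1]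
    rw [h1, hb] at h2
    have he1 : e = 1 := by
      rcases mul_self_eq_one_iff.1 he with h | h
      · exact h
      · rw [h, CharTwo.neg_eq]
    rwa [he1, one_mul] at h2
  -- pure short root elements
  have pure29 : ∀ c : K, C.g.xG 29 c ∈ C.H → C.E.σ c = c := by
    intro c hc
    have h1 := step 41 29 [(44, -1, 1, 1), (47, 1, 1, 2)] [29] (fun _ => c) (by decide +kernel)
      (by simpa using hc)
    have h2 := move [⟨0, by decide⟩, ⟨1, by decide⟩, ⟨2, by decide⟩, ⟨1, by decide⟩, ⟨0, by decide⟩]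
      ⟨29, by decide⟩ ⟨44, by decide⟩ (by decide +kernel) c hc
    simp only [List.map_cons, List.map_nil, List.prod_cons, List.prod_nil, mul_one, pow_one] at h1
    have h3 := mul_mem (inv_mem h2) h1
    rw [inv_mul_cancel_left] at h3
    have h4 := hT _ h3
    rw [map_pow] at h4
    exact frobenius_inj K 2 h4
  have pure36 : ∀ c : K, C.g.xG 36 c ∈ C.H → C.E.σ c = c := by
    intro c hc
    refine pure29 c ?_
    have h1 := step 30 36 [(40, 1, 1, 1), (47, -1, 1, 2)] [36] (fun _ => c) (by decide +kernel) (by simpa using hc)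
    simp only [List.map_cons, List.map_nil, List.prod_cons, List.prod_nil, mul_one, pow_one] at h1
    have h2 := step 10 40 [(29, -1, 1, 1)] [40, 47] (fun r => if r = 40 then c else c ^ 2) (by decide +kernel)
      (by simpa using h1)
    simpa using h2
  intro x hx hxQ
  obtain ⟨f, hf, hfH, hfM⟩ := C.rad_reduce hT hx hxQ
  refine hfM ?_
  have hsupp : ∀ r, r ∉ [29, 36, 38, 39, 40, 44, 47] → f r = 0 := fun r hr => by
    by_contra h0
    obtain ⟨a, ha, hne⟩ := hgood r (hf r h0).1 hr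
    exact hne ((hf r h0).2 a ha)
  rw [xProd_eq_list C.g hl hsupp] at hfH ⊢
  have hchain : ∀ (δ₁ γ γ' δ₂ γ'' : ℕ) (s₁ s₂ : ℤ) (s₃ : ℤ),
      f4Step δ₁ γ [(γ', s₁, 1, 1), (47, s₂, 1, 2)] [29, 36, 38, 39, 40, 44, 47] = true →
      f4Step δ₂ γ' [(γ'', s₃, 1, 1)] [γ', 47] = true → γ' ≠ 47 → C.g.xG γ'' (f γ) ∈ C.H := by
    intro δ₁ γ γ' δ₂ γ'' s₁ s₂ s₃ h1 h2 h3
    have e1 := step _ _ _ _ f h1 hfH
    simp only [List.map_cons, List.map_nil, List.prod_cons, List.prod_nil, mul_one, pow_one] at e1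
    have e2 := step _ _ _ _ (fun r => if r = γ' then f γ else f γ ^ 2) h2 (by simpa [h3.symm] using e1)
    simpa using e2
  have r29 := pure36 _ (hchain 41 29 44 10 36 (-1) 1 (-1) (by decide +kernel) (by decide +kernel) (by decide))
  have r36 := pure29 _ (hchain 30 36 40 10 29 1 (-1) (-1) (by decide +kernel) (by decide +kernel) (by decide))
  have r38 := pure29 _ (hchain 25 38 39 12 29 1 1 1 (by decide +kernel) (by decide +kernel) (by decide))
  have r39 := pure29 _ (hchain 22 39 38 13 29 1 (-1) 1 (by decide +kernel) (by decide +kernel) (by decide))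
  have r40 := pure29 _ (hchain 17 40 36 14 29 1 1 (-1) (by decide +kernel) (by decide +kernel) (by decide))
  have r44 := pure36 _ (hchain 6 44 29 33 36 (-1) (-1) (-1) (by decide +kernel) (by decide +kernel) (by decide))
  simp only [List.map_cons, List.map_nil, List.prod_cons, List.prod_nil, mul_one] at hfH ⊢
  obtain ⟨P, hP, hPM⟩ : ∃ P, P = C.g.xG 29 (f 29) * (C.g.xG 36 (f 36) * (C.g.xG 38 (f 38) *
      (C.g.xG 39 (f 39) * (C.g.xG 40 (f 40) * C.g.xG 44 (f 44))))) ∧ P ∈ C.M :=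
    ⟨_, rfl, mul_mem (C.xG_mem_M (by decide) r29) (mul_mem (C.xG_mem_M (by decide) r36)
      (mul_mem (C.xG_mem_M (by decide) r38) (mul_mem (C.xG_mem_M (by decide) r39)
      (mul_mem (C.xG_mem_M (by decide) r40) (C.xG_mem_M (by decide) r44)))))⟩
  rw [show C.g.xG 29 (f 29) * (C.g.xG 36 (f 36) * (C.g.xG 38 (f 38) * (C.g.xG 39 (f 39) *
    (C.g.xG 40 (f 40) * (C.g.xG 44 (f 44) * C.g.xG 47 (f 47)))))) = P * C.g.xG 47 (f 47) by
    rw [hP]; simp only [mul_assoc]] at hfH ⊢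
  have h47 := mul_mem (inv_mem (C.M_le_H hPM)) hfH
  rw [inv_mul_cancel_left] at h47
  exact mul_mem hPM (C.xG_mem_M (by decide) (hT _ h47))

end CfsgLib.Chev.SubMax
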