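import Mathlib
import Cfsg.Prelude.Def_LieRecognition
import Cfsg.Agent.Lib.Classical.SUCenter
import Cfsg.Agent.Lib.Geom.IsoStabHerm
import Cfsg.Agent.S0277

/-!
The Sylow 2-subgroups of `PSU_3(q)` for even `q` are Suzuki 2-groups (after Lib/Invol/PSUThreeFour).
-/

set_option autoImplicit false

namespace CfsgLib.Chev.PSUSyl

open Matrix
open CfsgLib.Classical (qFrob qFrob_apply)

variable {F : Type*} [Field F] [Fintype F]

/-- The arithmetic of a field of `q²` elements, `q = 2ⁿ`, `n ≥ 2`. -/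
structure QField (F : Type*) [Field F] [Fintype F] where
  n : ℕ
  two_le : 2 ≤ n
  card : Fintype.card F = (2 ^ n) ^ 2
  two : (2 : F) = 0

namespace QField

variable (h : QField F)

/-- `q`. -/
abbrev q : ℕ := 2 ^ h.n

include h in
lemma neg_eq (x : F) : -x = x := by linear_combination (-x) * h.two

include h in
lemma self_add (x : F) : x + x = 0 := by linear_combination x * h.two

lemma add_pow' (x y : F) : (x + y) ^ h.q = x ^ h.q + y ^ h.q := by
  haveI : CharP F 2 := CharTwo.of_one_ne_zero_of_two_eq_zero one_ne_zero h.two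
  exact add_pow_char_pow x y 2 h.n

lemma pow_pow' (x : F) : (x ^ h.q) ^ h.q = x := by
  rw [← pow_mul, show h.q * h.q = Fintype.card F by rw [h.card]; ring, FiniteField.pow_card]

lemma card_fibre {t : F} (ht : t ^ h.q = t) : Nat.card {c : F // c + c ^ h.q = t} = h.q := by
  have := CfsgLib.Geom.card_trace_fibre (F := F) (q := h.q) h.card (t := t)
    (by rw [qFrob_apply]; exact ht)
  simpa [qFrob_apply] using this

lemma exists_fibre {t : F} (ht : t ^ h.q = t) : ∃ c : F, c + c ^ h.q = t := by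
  have hc := h.card_fibre ht
  obtain ⟨⟨c, hc⟩⟩ := (Nat.card_pos_iff.1 (by rw [hc]; positivity)).1
  exact ⟨c, hc⟩

lemma norm_fixed (a : F) : (a * a ^ h.q) ^ h.q = a * a ^ h.q := by
  rw [mul_pow, h.pow_pow', mul_comm]

lemma four_le : 4 ≤ h.q := le_trans (by norm_num) (Nat.pow_le_pow_right (by norm_num) h.two_le)

lemma card_fixed : Nat.card {c : F // c ^ h.q = c} = h.q := by
  refine (Nat.card_congr (Equiv.subtypeEquivRight fun c => ?_)).trans
    (h.card_fibre (t := 0) (zero_pow (by positivity)))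
  constructor
  · intro e; rw [e, h.self_add]
  · intro e; linear_combination e - c * h.two

/-- The norm pairs `(a, b)`. -/
@[ext] structure UQ (h : QField F) where
  /-- first coordinate -/
  a : F
  /-- second coordinate -/
  b : F
  ok : b + b ^ h.q + a * a ^ h.q = 0

namespace UQ

variable {h}

instance : One h.UQ := ⟨⟨0, 0, by simp [zero_pow (show h.q ≠ 0 by positivity)]⟩⟩

instance : Mul h.UQ := ⟨fun x y => ⟨x.a + y.a, x.b + y.b + x.a * y.a ^ h.q, by
  rw [h.add_pow', h.add_pow', h.add_pow', mul_pow, h.pow_pow']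
  linear_combination x.ok + y.ok + (x.a * y.a ^ h.q + x.a ^ h.q * y.a) * h.two⟩⟩

instance : Inv h.UQ := ⟨fun x => ⟨x.a, x.b ^ h.q, by
  rw [h.pow_pow']; linear_combination x.ok⟩⟩

theorem mul_a (x y : h.UQ) : (x * y).a = x.a + y.a := rfl
theorem mul_b (x y : h.UQ) : (x * y).b = x.b + y.b + x.a * y.a ^ h.q := rfl
theorem one_a : (1 : h.UQ).a = 0 := rfl
theorem one_b : (1 : h.UQ).b = 0 := rfl

instance : Group h.UQ := Group.ofLeftAxioms
  (fun x y z => by
    ext
    · simp [mul_a, add_assoc]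
    · simp only [mul_a, mul_b, h.add_pow']; ring)
  (fun x => by ext <;> simp [mul_a, mul_b, one_a, one_b])
  (fun x => by
    ext
    · exact h.self_add x.a
    · show x.b ^ h.q + x.b + x.a * x.a ^ h.q = 0
      linear_combination x.ok)

theorem comm_iff (x y : h.UQ) : x * y = y * x ↔ x.a * y.a ^ h.q = y.a * x.a ^ h.q := by
  constructor
  · intro e
    have e' := congrArg UQ.b e
    rw [mul_b, mul_b] at e'
    linear_combination e'
  · intro e
    ext
    · simp [mul_a, add_comm]
    · rw [mul_b, mul_b]; linear_combination e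

theorem exists_mk (a : F) : ∃ x : h.UQ, x.a = a := by
  obtain ⟨c, hc⟩ := h.exists_fibre (h.norm_fixed a)
  exact ⟨⟨a, c, by linear_combination hc + (a * a ^ h.q) * h.two⟩, rfl⟩

theorem card_eq : Nat.card h.UQ = h.q ^ 3 := by
  classical
  let e : h.UQ ≃ Σ a : F, {c : F // c + c ^ h.q = a * a ^ h.q} :=
    { toFun := fun x => ⟨x.a, x.b, by linear_combination x.ok - (x.a * x.a ^ h.q) * h.two⟩
      invFun := fun p => ⟨p.1, p.2.1, by linear_combination p.2.2 + (p.1 * p.1 ^ h.q) * h.two⟩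
      left_inv := fun _ => rfl
      right_inv := fun _ => rfl }
  rw [Nat.card_congr e, Nat.card_sigma]
  rw [Finset.sum_congr rfl fun a _ => h.card_fibre (h.norm_fixed a)]
  simp [h.card]
  ring

instance : Finite h.UQ := Nat.finite_of_card_ne_zero (by rw [card_eq]; positivity)

theorem exists_not_fixed : ∃ l : F, l ^ h.q ≠ l := by
  by_contra hall
  push Not at hall
  have := h.card_fixed
  rw [Nat.card_congr (Equiv.subtypeUnivEquiv hall), Nat.card_eq_fintype_card, h.card] at this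
  have := h.four_le
  nlinarith

theorem mem_center_iff {x : h.UQ} : x ∈ Subgroup.center h.UQ ↔ x.a = 0 := by
  rw [Subgroup.mem_center_iff]
  constructor
  · intro e
    by_contra ha
    obtain ⟨l, hl⟩ := exists_not_fixed (h := h)
    obtain ⟨y, hy⟩ := exists_mk (h := h) (x.a * l)
    have h' := (comm_iff y x).1 (e y)
    rw [hy, mul_pow] at h'
    exact hl (mul_left_cancel₀ (mul_ne_zero ha (pow_ne_zero _ ha))
      (show x.a * x.a ^ h.q * l ^ h.q = x.a * x.a ^ h.q * l by linear_combination -h'))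
  · intro ha y
    rw [comm_iff, ha]; simp [zero_pow (show h.q ≠ 0 by positivity)]

theorem card_center : Nat.card (Subgroup.center h.UQ) = h.q := by
  let e : Subgroup.center h.UQ ≃ {c : F // c + c ^ h.q = 0} :=
    { toFun := fun x => ⟨x.1.b, by
        have e := x.1.ok
        rw [mem_center_iff.1 x.2] at e
        simpa [zero_pow (show h.q ≠ 0 by positivity)] using e⟩
      invFun := fun c => ⟨⟨0, c.1, by simpa [zero_pow (show h.q ≠ 0 by positivity)] using c.2⟩,
        mem_center_iff.2 rfl⟩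
      left_inv := fun x => Subtype.ext (UQ.ext (mem_center_iff.1 x.2).symm rfl)
      right_inv := fun _ => rfl }
  rw [Nat.card_congr e, h.card_fibre (zero_pow (by positivity))]

theorem of_inv {x : h.UQ} (hx : x * x = 1) : x.a = 0 := by
  have e := congrArg UQ.b hx
  rw [mul_b, one_b] at e
  have e' : x.a * x.a ^ h.q = 0 := by linear_combination e - x.b * h.two
  rcases mul_eq_zero.1 e' with e'' | e''
  · exact e''
  · exact eq_zero_of_pow_eq_zero e''

theorem sq_of_center {x : h.UQ} (hx : x.a = 0) : x * x = 1 := by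
  ext
  · exact h.self_add x.a
  · rw [mul_b, hx, one_b, zero_mul, add_zero, h.self_add]

theorem b_fixed {x : h.UQ} (hx : x.a = 0) : x.b ^ h.q = x.b := by
  have e := x.ok
  rw [hx, zero_mul, add_zero] at e
  linear_combination e - x.b * h.two

/-- The scaling by an element fixed by the `q`-th power. -/
def scale (l : F) (hl : l ^ h.q = l) (x : h.UQ) : h.UQ :=
  ⟨l * x.a, l ^ 2 * x.b, by
    rw [mul_pow, mul_pow, ← pow_mul, mul_comm 2, pow_mul, hl]
    linear_combination l ^ 2 * x.ok⟩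

variable (h) in
/-- The scalars. -/
def scalars : Subgroup Fˣ where
  carrier := {l | (l : F) ^ h.q = l}
  one_mem' := by simp
  mul_mem' := fun {a b} ha hb => by
    show ((a * b : Fˣ) : F) ^ h.q = _
    rw [Units.val_mul, mul_pow]
    exact congrArg₂ (· * ·) ha hb
  inv_mem' := fun {a} ha => by
    show ((a⁻¹ : Fˣ) : F) ^ h.q = _
    rw [Units.val_inv_eq_inv_val, inv_pow]
    exact congrArg (·⁻¹) ha

variable (h) in
/-- The automorphisms given by the scalars. -/
def scaleHom : ↥(scalars h) →* MulAut h.UQ where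
  toFun l :=
    { toFun := scale (l.1 : F) l.2
      invFun := scale ((l.1⁻¹ : Fˣ) : F) ((scalars h).inv_mem l.2)
      left_inv := fun x => by ext <;> simp [scale, ← mul_assoc]
      right_inv := fun x => by ext <;> simp [scale, ← mul_assoc]
      map_mul' := fun x y => by
        ext
        · show (l.1 : F) * (x.a + y.a) = l.1 * x.a + l.1 * y.a
          ring
        · show (l.1 : F) ^ 2 * (x.b + y.b + x.a * y.a ^ h.q) =
            (l.1 : F) ^ 2 * x.b + (l.1 : F) ^ 2 * y.b + l.1 * x.a * ((l.1 : F) * y.a) ^ h.q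
          rw [mul_pow, show (l.1 : F) ^ h.q = l.1 from l.2]
          ring }
  map_one' := by ext <;> simp [scale]
  map_mul' := fun l m => by ext <;> simp [scale, mul_pow, mul_assoc]

theorem isSuzukiTwoGroup : Cfsg.IsSuzukiTwoGroup h.UQ := by
  refine ⟨inferInstance, IsPGroup.of_card (n := h.n * 3) (by rw [card_eq]; simp [pow_mul]), ?_, ?_,
    (scaleHom h).range, ?_, ?_⟩
  · by_contra hc
    push Not at hc
    obtain ⟨x, hx⟩ := exists_mk (h := h) 1
    have : x ∈ Subgroup.center h.UQ := Subgroup.mem_center_iff.2 fun y => hc y x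
    exact one_ne_zero (hx ▸ mem_center_iff.1 this)
  · have hc : 2 < Nat.card (Subgroup.center h.UQ) := by
      rw [card_center]; have := h.four_le; omega
    classical
    have := Fintype.ofFinite (Subgroup.center h.UQ)
    rw [Nat.card_eq_fintype_card] at hc
    obtain ⟨x, y, z, hxy, hxz, hyz⟩ := Fintype.two_lt_card_iff.1 hc
    have key : ∀ w : Subgroup.center h.UQ, (w : h.UQ) * w = 1 := fun w =>
      sq_of_center (mem_center_iff.1 w.2)
    by_cases hx : x = 1
    · subst hx
      exact ⟨y, z, fun e => hyz (Subtype.ext e), fun e => hxy (Subtype.ext e.symm), key y,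
        fun e => hxz (Subtype.ext e.symm), key z⟩
    by_cases hy : y = 1
    · subst hy
      exact ⟨x, z, fun e => hxz (Subtype.ext e), fun e => hx (Subtype.ext e), key x,
        fun e => hyz (Subtype.ext e.symm), key z⟩
    exact ⟨x, y, fun e => hxy (Subtype.ext e), fun e => hx (Subtype.ext e), key x,
      fun e => hy (Subtype.ext e), key y⟩
  · exact isCyclic_of_surjective (scaleHom h).rangeRestrict (MonoidHom.rangeRestrict_surjective _)
  · intro x y hx1 hxx hy1 hyy
    have hxa := of_inv hxx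
    have hya := of_inv hyy
    have hne : ∀ {w : h.UQ}, w ≠ 1 → w.a = 0 → w.b ≠ 0 := fun hw ha hb => hw (UQ.ext ha hb)
    have hxb := hne hx1 hxa
    have hyb := hne hy1 hya
    obtain ⟨r, hr⟩ : ∃ r : F, r ^ 2 = y.b / x.b := by
      haveI : CharP F 2 := CharTwo.of_one_ne_zero_of_two_eq_zero one_ne_zero h.two
      obtain ⟨r, hr⟩ := FiniteField.isSquare_of_char_two (ringChar.eq F 2) (y.b / x.b)
      exact ⟨r, by rw [hr, pow_two]⟩
    have hsq : ∀ s t : F, s ^ 2 = t ^ 2 → s = t := fun s t e => by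
      have : (s + t) ^ 2 = 0 := by linear_combination e + (s * t + t ^ 2) * h.two
      have h0 := eq_zero_of_pow_eq_zero this
      linear_combination h0 - t * h.two
    have hrq : r ^ h.q = r := hsq _ _ (by
      rw [← pow_mul, mul_comm, pow_mul, hr, div_pow, b_fixed hxa, b_fixed hya])
    have hr0 : r ≠ 0 := fun e => by
      rw [e, zero_pow two_ne_zero] at hr
      exact div_ne_zero hyb hxb hr.symm
    refine ⟨⟨_, ⟨⟨Units.mk0 r hr0, hrq⟩, rfl⟩⟩, ?_, ?_⟩
    · show scale r hrq x = y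
      ext
      · simp [scale, hxa, hya]
      · show r ^ 2 * x.b = y.b
        rw [hr, div_mul_cancel₀ _ hxb]
    · rintro ⟨_, ⟨l, rfl⟩⟩ hl
      refine Subtype.ext (congrArg (scaleHom h) (Subtype.ext (Units.ext ?_)))
      have e : (l.1 : F) ^ 2 * x.b = y.b := congrArg UQ.b hl
      exact hsq _ _ (by rw [Units.val_mk0, hr, eq_div_iff hxb, e])

/-- Coordinate change from the standard form to the anti-diagonal one. -/
def chg (x : F) : Matrix (Fin 3) (Fin 3) F := !![1, 0, x; 1, 0, 1 + x; 0, 1, 0]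

/-- The matrix of `(a, b)` in the hyperbolic basis. -/
def mat (p : h.UQ) : Matrix (Fin 3) (Fin 3) F := !![1, p.a, p.b; 0, 1, p.a ^ h.q; 0, 0, 1]

theorem mat_mul (p r : h.UQ) : mat (p * r) = mat p * mat r := by
  ext i j
  fin_cases i <;> fin_cases j <;>
    simp [mat, mul_a, mul_b, Matrix.mul_apply, Fin.sum_univ_three, h.add_pow'] <;> ring

theorem mat_one : mat (1 : h.UQ) = 1 := by
  ext i j
  fin_cases i <;> fin_cases j <;> simp [mat, one_a, one_b, zero_pow (show h.q ≠ 0 by positivity)]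

theorem mat_injective : Function.Injective (mat (h := h)) := by
  intro p r e
  have h1 := congrFun (congrFun e 0) 1
  have h2 := congrFun (congrFun e 0) 2
  simp [mat] at h1 h2
  exact UQ.ext h1 h2

theorem exists_embedding : ∃ f : h.UQ →* Cfsg.SU 3 F h.q, Function.Injective f := by
  obtain ⟨x, hx⟩ := h.exists_fibre (t := 1) (one_pow _)
  have hdet : (chg x).det ≠ 0 := by
    have : (chg x).det = -1 := by simp [chg, det_fin_three]
    rw [this]; exact neg_ne_zero.2 one_ne_zero
  let P : GL (Fin 3) F := Matrix.GeneralLinearGroup.mkOfDetNeZero _ hdet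
  have hP : ∀ u v : Fin 3 → F, Cfsg.hermForm 3 F h.q ((P : Matrix (Fin 3) (Fin 3) F) *ᵥ u)
      ((P : Matrix (Fin 3) (Fin 3) F) *ᵥ v) =
        u 0 * v 2 ^ h.q + u 1 * v 1 ^ h.q + u 2 * v 0 ^ h.q := by
    intro u v
    simp [P, chg, Cfsg.hermForm, Fin.sum_univ_three, Matrix.mulVec, dotProduct, h.add_pow', mul_pow,
      zero_pow (show h.q ≠ 0 by positivity)]
    linear_combination (u 2 * v 2 ^ h.q) * hx
      + (u 0 * v 0 ^ h.q + u 2 * v 0 ^ h.q * x + u 0 * v 2 ^ h.q * x ^ h.q
          + u 2 * v 2 ^ h.q * (x * x ^ h.q + 1)) * h.two +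
        (u 0 * v 2 ^ h.q + u 2 * v 0 ^ h.q) * (0 : F)
  let f0 : h.UQ → Matrix (Fin 3) (Fin 3) F := fun p =>
    (P : Matrix (Fin 3) (Fin 3) F) * mat p * ((P⁻¹ : GL (Fin 3) F) : Matrix (Fin 3) (Fin 3) F)
  have hdet0 : ∀ p, (f0 p).det = 1 := by
    intro p
    show det (_ * _ * _) = 1
    rw [det_mul, det_mul, mul_right_comm, ← det_mul, ← Units.val_mul, mul_inv_cancel, Units.val_one,
      det_one, one_mul]
    simp [mat, det_fin_three]
  have hmem : ∀ p, (⟨f0 p, hdet0 p⟩ : Matrix.SpecialLinearGroup (Fin 3) F) ∈ Cfsg.SU 3 F h.q := by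
    intro p u v
    have hu : ∀ u, (P : Matrix (Fin 3) (Fin 3) F) *ᵥ (((P⁻¹ : GL (Fin 3) F) : Matrix _ _ F) *ᵥ u) =
        u := fun u => by
      rw [mulVec_mulVec, ← Units.val_mul, mul_inv_cancel, Units.val_one, one_mulVec]
    show Cfsg.hermForm 3 F h.q (f0 p *ᵥ u) (f0 p *ᵥ v) = _
    simp only [f0]
    rw [← mulVec_mulVec, ← mulVec_mulVec, ← mulVec_mulVec, ← mulVec_mulVec, hP]
    conv_rhs => rw [← hu u, ← hu v, hP]
    generalize (((P⁻¹ : GL (Fin 3) F) : Matrix (Fin 3) (Fin 3) F) *ᵥ u) = w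
    generalize (((P⁻¹ : GL (Fin 3) F) : Matrix (Fin 3) (Fin 3) F) *ᵥ v) = z
    simp [mat, Matrix.mulVec, dotProduct, Fin.sum_univ_three, h.add_pow', mul_pow, h.pow_pow',
      zero_pow (show h.q ≠ 0 by positivity)]
    linear_combination (w 2 * z 2 ^ h.q) * p.ok
      + (p.a * w 1 * z 2 ^ h.q + p.a ^ h.q * w 2 * z 1 ^ h.q) * h.two
  refine ⟨{ toFun := fun p => ⟨⟨f0 p, hdet0 p⟩, hmem p⟩,
            map_one' := Subtype.ext (Subtype.ext ?_),
            map_mul' := fun p r => Subtype.ext (Subtype.ext ?_) },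
    fun p r e => mat_injective ?_⟩
  · show f0 1 = 1
    simp only [f0]
    rw [mat_one, mul_one, ← Units.val_mul, mul_inv_cancel, Units.val_one]
  · show f0 (p * r) = f0 p * f0 r
    simp only [f0]
    rw [mat_mul]
    simp only [mul_assoc]
    rw [← mul_assoc ((P⁻¹ : GL (Fin 3) F) : Matrix (Fin 3) (Fin 3) F), ← Units.val_mul,
      inv_mul_cancel, Units.val_one, one_mul]
  · have e' : f0 p = f0 r :=
      congrArg (fun s : Cfsg.SU 3 F h.q => (s.1 : Matrix (Fin 3) (Fin 3) F)) e
    simp only [f0] at e'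
    exact P.isUnit.mul_left_cancel ((P⁻¹).isUnit.mul_right_cancel e')

theorem card_psu_two : (Nat.card (Cfsg.PSU 3 F h.q)).factorization 2 = 3 * h.n := by
  have hg := CfsgLib.Classical.card_psu_mul (F := F) (q := h.q) h.card (n := 3) (by norm_num)
  rw [Cfsg.Agent.S0277.result h.card 3] at hg
  simp only [Finset.prod_range_succ, Finset.prod_range_zero, one_mul, Nat.even_iff] at hg
  norm_num at hg
  have hq := h.four_le
  have hev : 2 ∣ h.q := dvd_pow_self 2 (by have := h.two_le; omega)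
  have hodd : ∀ {a : ℕ}, Odd a → a.factorization 2 = 0 := fun ha =>
    Nat.factorization_eq_zero_of_not_dvd (Nat.two_dvd_ne_zero.2 (Nat.odd_iff.1 ha))
  have hqe : Even h.q := even_iff_two_dvd.2 hev
  have o1 : Odd (h.q + 1) := hqe.add_one
  have o2 : Odd (h.q ^ 2 - 1) := Nat.Even.sub_odd (Nat.one_le_pow _ _ (by omega))
    (Nat.even_pow.2 ⟨hqe, by norm_num⟩) odd_one
  have o3 : Odd (h.q ^ 3 + 1) := (Nat.even_pow.2 ⟨hqe, by norm_num⟩).add_one
  have og : Odd (Nat.gcd 3 (h.q + 1)) :=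
    Odd.of_dvd_nat (by decide) (Nat.gcd_dvd_left 3 (h.q + 1))
  have hP : Nat.card (Cfsg.PSU 3 F h.q) ≠ 0 := Nat.card_pos.ne'
  have e := congrArg (fun a => a.factorization 2) hg
  have n1 : h.q + 1 ≠ 0 := by omega
  have n2 : h.q ^ 2 - 1 ≠ 0 := o2.pos.ne'
  have n3 : h.q ^ 3 + 1 ≠ 0 := by omega
  simp only [Nat.factorization_mul og.pos.ne' (mul_ne_zero n1 hP), Nat.factorization_mul n1 hP,
    Nat.factorization_mul (pow_ne_zero 3 (show h.q ≠ 0 by omega))
      (mul_ne_zero (mul_ne_zero n1 n2) n3),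
    Nat.factorization_mul (mul_ne_zero n1 n2) n3, Nat.factorization_mul n1 n2, Finsupp.add_apply,
    hodd og, hodd o1, hodd o2, hodd o3, zero_add, add_zero] at e
  rw [e, ← pow_mul, Nat.Prime.factorization_pow Nat.prime_two, Finsupp.single_eq_same, mul_comm]

theorem sylow_equiv (S : Sylow 2 (Cfsg.PSU 3 F h.q)) :
    Nonempty ((S : Subgroup (Cfsg.PSU 3 F h.q)) ≃* h.UQ) := by
  obtain ⟨f, hf⟩ := exists_embedding (h := h)
  let π : Cfsg.SU 3 F h.q →* Cfsg.PSU 3 F h.q := QuotientGroup.mk' _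
  have hker : (π.comp f).ker = ⊥ := by
    have h1 : Nat.card (π.comp f).ker ∣ h.q ^ 3 := card_eq (h := h) ▸ Subgroup.card_subgroup_dvd_card _
    have h2 : Nat.card (π.comp f).ker ∣ Nat.gcd 3 (h.q + 1) := by
      rw [← Subgroup.card_map_of_injective (f := f) hf, ← CfsgLib.Classical.card_center_su h.card
        (n := 3) (by norm_num)]
      refine Subgroup.card_dvd_of_le ?_
      rintro _ ⟨p, hp, rfl⟩
      exact (QuotientGroup.eq_one_iff (f p)).1 (MonoidHom.mem_ker.1 hp)
    refine Subgroup.card_eq_one.1 (Nat.eq_one_of_dvd_coprimes ?_ h1 (h2.trans (Nat.gcd_dvd_left _ _)))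
    exact Nat.Coprime.pow_left _ (Nat.Coprime.pow_left _ (by norm_num))
  have hinj : Function.Injective (π.comp f) := (MonoidHom.ker_eq_bot_iff _).1 hker
  haveI : Fact (Nat.Prime 2) := ⟨Nat.prime_two⟩
  have hr : Nat.card (π.comp f).range = 2 ^ (Nat.card (Cfsg.PSU 3 F h.q)).factorization 2 := by
    rw [card_psu_two, ← Nat.card_congr (MonoidHom.ofInjective hinj).toEquiv, card_eq, ← pow_mul,
      mul_comm]
  exact ⟨((Sylow.equiv S (Sylow.ofCard _ hr)).trans
    (MulEquiv.subgroupCongr (Sylow.coe_ofCard _ _))).trans (MonoidHom.ofInjective hinj).symm⟩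

end UQ

end QField

/-- Transport of the Suzuki 2-group property. -/
theorem isSuzukiTwoGroup_of_equiv {P Q : Type*} [Group P] [Group Q] (e : P ≃* Q)
    (hP : Cfsg.IsSuzukiTwoGroup P) : Cfsg.IsSuzukiTwoGroup Q := by
  obtain ⟨hfin, hp, ⟨a, b, hab⟩, ⟨x, y, hxy, hx, hxx, hy, hyy⟩, K, hK, hreg⟩ := hP
  have he : ∀ {p : P}, p ≠ 1 → e p ≠ 1 := fun hp => by simpa using hp
  refine ⟨Finite.of_equiv P e.toEquiv, hp.of_equiv e, ⟨e a, e b, ?_⟩,
    ⟨e x, e y, e.injective.ne hxy, he hx, by rw [← map_mul, hxx, map_one], he hy,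
      by rw [← map_mul, hyy, map_one]⟩, K.map (MulAut.congr e).toMonoidHom, ?_, ?_⟩
  · rw [← map_mul, ← map_mul]; exact e.injective.ne hab
  · exact isCyclic_of_surjective ((MulAut.congr e).toMonoidHom.subgroupMap K)
      (MonoidHom.subgroupMap_surjective _ K)
  · intro u v hu huu hv hvv
    obtain ⟨p, rfl⟩ := e.surjective u
    obtain ⟨r, rfl⟩ := e.surjective v
    rw [← map_mul] at huu hvv
    obtain ⟨k, hk, huniq⟩ := hreg p r (by simpa using hu) (e.injective (huu.trans (map_one e).symm))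
      (by simpa using hv) (e.injective (hvv.trans (map_one e).symm))
    refine ⟨⟨_, Subgroup.mem_map_of_mem _ k.2⟩, ?_, ?_⟩
    · show e ((k : MulAut P) (e.symm (e p))) = e r
      rw [e.symm_apply_apply, hk]
    · rintro ⟨_, ⟨l, hl, rfl⟩⟩ hlr
      have hlr' : e (l (e.symm (e p))) = e r := hlr
      rw [e.symm_apply_apply] at hlr'
      have := huniq ⟨l, hl⟩ (e.injective hlr')
      exact Subtype.ext (congrArg (MulAut.congr e) (congrArg Subtype.val this))

theorem sylow_spec {F : Type*} [Field F] [Fintype F] {n : ℕ} (hn : 2 ≤ n)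
    (hF : Fintype.card F = (2 ^ n) ^ 2) (S : Sylow 2 (Cfsg.PSU 3 F (2 ^ n))) :
    Nat.card S = (2 ^ n) ^ 3 ∧ Nat.card (Subgroup.center ↥(S : Subgroup (Cfsg.PSU 3 F (2 ^ n)))) = 2 ^ n ∧
      Cfsg.IsSuzukiTwoGroup ↥(S : Subgroup (Cfsg.PSU 3 F (2 ^ n))) := by
  have h2 : (2 : F) = 0 := by
    obtain ⟨p, hp⟩ := CharP.exists F
    haveI : Fact p.Prime := ⟨CharP.char_is_prime F p⟩
    obtain ⟨k, hp', hk⟩ := FiniteField.card F p
    have : p = 2 := (Nat.prime_dvd_prime_iff_eq hp' Nat.prime_two).1 (hp'.dvd_of_dvd_pow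
      (m := 2) (n := n * 2) (by rw [pow_mul, ← hF, hk]; exact dvd_pow_self p k.2.ne'))
    subst this
    exact_mod_cast CharP.cast_eq_zero F 2
  let h : QField F := ⟨n, hn, hF, h2⟩
  obtain ⟨e⟩ := QField.UQ.sylow_equiv (h := h) S
  refine ⟨(Nat.card_congr e.toEquiv).trans QField.UQ.card_eq, ?_,
    isSuzukiTwoGroup_of_equiv e.symm QField.UQ.isSuzukiTwoGroup⟩
  exact (Nat.card_congr (Subgroup.centerCongr e).toEquiv).trans QField.UQ.card_center

end CfsgLib.Chev.PSUSyl
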