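import Cfsg.Prelude.Def_LieRecognition
import Cfsg.Agent.Lib.Invol.Basic

/-!
# The rank-one set-up: a doubly transitive group with a split point stabiliser

Basic consequences of `Cfsg.IsRankOneSetup`: regular action of `Q` on the points other than `a`,
the normal form `g = h t x`, involutions fix exactly one point and form one class, the set of
elements of `D` inverted by `t` parametrises the involutions fixing `a`, and the structure
equation `t x t = g h t f`.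
-/

namespace CfsgLib.Chev.RankOne

open MulAction CfsgLib.Invol

universe u v

variable {G : Type u} {Ω : Type v} [Group G] [MulAction G Ω] {a : Ω} {t : G} {Q : Subgroup G}

/-- The two-point stabiliser. -/
abbrev D (a : Ω) (t : G) : Subgroup G := stabilizer G a ⊓ stabilizer G (t • a)

theorem inv_t (hS : Cfsg.IsRankOneSetup G Ω a t Q) : t⁻¹ = t :=
  inv_eq_of_mul_eq_one_right hS.mul_self

theorem orderOf_t (hS : Cfsg.IsRankOneSetup G Ω a t Q) : orderOf t = 2 :=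
  invol_of_mul_self hS.mul_self hS.ne_one

theorem t_mul_cancel (hS : Cfsg.IsRankOneSetup G Ω a t Q) (x : G) : t * (t * x) = x := by
  rw [← mul_assoc, hS.mul_self, one_mul]

theorem b_ne (hS : Cfsg.IsRankOneSetup G Ω a t Q) : t • a ≠ a := fun h =>
  hS.not_mem (mem_stabilizer_iff.2 h)

theorem t_b (hS : Cfsg.IsRankOneSetup G Ω a t Q) : t • t • a = a := by
  rw [smul_smul, hS.mul_self, one_smul]

theorem two_trans (hS : Cfsg.IsRankOneSetup G Ω a t Q) {x y z w : Ω} (h : x ≠ y) (h' : z ≠ w) :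
    ∃ g : G, g • x = z ∧ g • y = w :=
  is_two_pretransitive_iff.1 hS.two_transitive h h'

theorem exists_moves (hS : Cfsg.IsRankOneSetup G Ω a t Q) (x : Ω) : ∃ g : G, g • a = x := by
  by_cases hx : x = a
  · exact ⟨1, by rw [hx, one_smul]⟩
  · obtain ⟨g, hg, -⟩ := two_trans hS (b_ne hS).symm hx
    exact ⟨g, hg⟩

theorem pretransitive (hS : Cfsg.IsRankOneSetup G Ω a t Q) : IsPretransitive G Ω := by
  refine ⟨fun x y => ?_⟩
  obtain ⟨g, hg⟩ := exists_moves hS x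
  obtain ⟨g', hg'⟩ := exists_moves hS y
  refine ⟨g' * g⁻¹, ?_⟩
  rw [← hg, mul_smul, inv_smul_smul, hg']

theorem finite_points [Finite G] (hS : Cfsg.IsRankOneSetup G Ω a t Q) : Finite Ω :=
  Finite.of_surjective (fun g : G => g • a) fun x => exists_moves hS x

theorem mem_D {d : G} : d ∈ D a t ↔ d • a = a ∧ d • t • a = t • a := by
  simp [D, Subgroup.mem_inf, mem_stabilizer_iff]

theorem conj_D (hS : Cfsg.IsRankOneSetup G Ω a t Q) {c : G} (hc : c ∈ D a t) :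
    t * c * t ∈ D a t := by
  obtain ⟨h1, h2⟩ := mem_D.1 hc
  refine mem_D.2 ⟨?_, ?_⟩
  · rw [mul_smul, mul_smul, h2, t_b hS]
  · rw [mul_smul, mul_smul, t_b hS, h1]

/-- The decomposition `G_a = Q D`. -/
theorem decomp (hS : Cfsg.IsRankOneSetup G Ω a t Q) {h : G} (hh : h ∈ stabilizer G a) :
    ∃ x ∈ Q, ∃ d ∈ D a t, h = x * d := by
  have key : ∀ d ∈ D a t, ∀ x ∈ Q, d * x * d⁻¹ ∈ Q := fun d hd x hx =>
    hS.conj_mem d (Subgroup.mem_inf.1 hd).1 x hx
  let S : Subgroup G :=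
  { carrier := {g | ∃ x ∈ Q, ∃ d ∈ D a t, g = x * d}
    one_mem' := ⟨1, one_mem _, 1, one_mem _, by simp⟩
    mul_mem' := by
      rintro _ _ ⟨x, hx, d, hd, rfl⟩ ⟨x', hx', d', hd', rfl⟩
      refine ⟨x * (d * x' * d⁻¹), mul_mem hx (key d hd x' hx'), d * d', mul_mem hd hd', ?_⟩
      group
    inv_mem' := by
      rintro _ ⟨x, hx, d, hd, rfl⟩
      refine ⟨d⁻¹ * x⁻¹ * d⁻¹⁻¹, key _ (inv_mem hd) _ (inv_mem hx), d⁻¹, inv_mem hd, ?_⟩
      group }
  have hle : Q ⊔ D a t ≤ S := sup_le (fun x hx => ⟨x, hx, 1, one_mem _, by simp⟩)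
    fun d hd => ⟨1, one_mem _, d, hd, by simp⟩
  rw [← hS.sup_eq] at hh
  exact hle hh

theorem eq_one_of_mem_D (hS : Cfsg.IsRankOneSetup G Ω a t Q) {x : G} (hx : x ∈ Q)
    (hd : x ∈ D a t) : x = 1 := by
  have h : x ∈ Q ⊓ stabilizer G (t • a) := ⟨hx, (Subgroup.mem_inf.1 hd).2⟩
  rw [hS.inf_eq_bot] at h
  exact Subgroup.mem_bot.1 h

theorem decomp_unique (hS : Cfsg.IsRankOneSetup G Ω a t Q) {x x' d d' : G} (hx : x ∈ Q)
    (hx' : x' ∈ Q) (hd : d ∈ D a t) (hd' : d' ∈ D a t) (h : x * d = x' * d') :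
    x = x' ∧ d = d' := by
  have e : x'⁻¹ * x = d' * d⁻¹ := by
    rw [eq_mul_inv_iff_mul_eq, mul_assoc, h, inv_mul_cancel_left]
  have h1 := eq_one_of_mem_D hS (mul_mem (inv_mem hx') hx) (e ▸ mul_mem hd' (inv_mem hd))
  exact ⟨(inv_mul_eq_one.1 h1).symm, by rw [h1] at e; exact (mul_inv_eq_one.1 e.symm).symm⟩

theorem mem_D_of_prod (hS : Cfsg.IsRankOneSetup G Ω a t Q) {x d : G} (hx : x ∈ Q)
    (hd : d ∈ D a t) (h : x * d ∈ D a t) : x = 1 :=
  (decomp_unique hS hx (one_mem _) hd h (by rw [one_mul])).1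

theorem exists_Q_b (hS : Cfsg.IsRankOneSetup G Ω a t Q) {y : Ω} (hy : y ≠ a) :
    ∃ x ∈ Q, x • t • a = y := by
  obtain ⟨g, hga, hgb⟩ := two_trans hS (b_ne hS).symm hy.symm
  obtain ⟨x, hx, d, hd, rfl⟩ := decomp hS (mem_stabilizer_iff.2 hga)
  refine ⟨x, hx, ?_⟩
  rw [mul_smul, (mem_D.1 hd).2] at hgb
  exact hgb

theorem smul_a_of_mem (hS : Cfsg.IsRankOneSetup G Ω a t Q) {x : G} (hx : x ∈ Q) : x • a = a :=
  mem_stabilizer_iff.1 (hS.le hx)

theorem eq_one_of_fix_b (hS : Cfsg.IsRankOneSetup G Ω a t Q) {x : G} (hx : x ∈ Q)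
    (h : x • t • a = t • a) : x = 1 := by
  have h' : x ∈ Q ⊓ stabilizer G (t • a) := ⟨hx, mem_stabilizer_iff.2 h⟩
  rw [hS.inf_eq_bot] at h'
  exact Subgroup.mem_bot.1 h'

/-- A nontrivial element of `Q` fixes only `a`. -/
theorem eq_one_of_fix (hS : Cfsg.IsRankOneSetup G Ω a t Q) {x : G} (hx : x ∈ Q) {y : Ω}
    (hy : y ≠ a) (h : x • y = y) : x = 1 := by
  obtain ⟨z, hz, rfl⟩ := exists_Q_b hS hy
  have h1 : z⁻¹ * x * z = 1 := eq_one_of_fix_b hS (mul_mem (mul_mem (inv_mem hz) hx) hz) (by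
    rw [mul_smul, mul_smul, h, inv_smul_smul])
  have h2 : x = z * (z⁻¹ * x * z) * z⁻¹ := by group
  rw [h2, h1]
  group

theorem fix_eq (hS : Cfsg.IsRankOneSetup G Ω a t Q) {x : G} (hx : x ∈ Q) (h1 : x ≠ 1) {y : Ω}
    (h : x • y = y) : y = a := by
  by_contra hy
  exact h1 (eq_one_of_fix hS hx hy h)

theorem Q_inj (hS : Cfsg.IsRankOneSetup G Ω a t Q) {x x' : G} (hx : x ∈ Q) (hx' : x' ∈ Q)
    (h : x • t • a = x' • t • a) : x = x' := by
  have h1 := eq_one_of_fix_b hS (mul_mem (inv_mem hx') hx) (by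
    rw [mul_smul, h, inv_smul_smul])
  exact (inv_mul_eq_one.1 h1).symm

theorem regular (hS : Cfsg.IsRankOneSetup G Ω a t Q) {y z : Ω} (hy : y ≠ a) (hz : z ≠ a) :
    ∃! x : Q, (x : G) • y = z := by
  obtain ⟨x1, h1, rfl⟩ := exists_Q_b hS hy
  obtain ⟨x2, h2, rfl⟩ := exists_Q_b hS hz
  refine ⟨⟨x2 * x1⁻¹, mul_mem h2 (inv_mem h1)⟩, ?_, ?_⟩
  · simp [mul_smul]
  · rintro ⟨x, hx⟩ h
    rw [smul_smul] at h
    have := Q_inj hS (mul_mem hx h1) h2 h
    exact Subtype.ext (eq_mul_inv_of_mul_eq this)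

theorem smul_ne_a (hS : Cfsg.IsRankOneSetup G Ω a t Q) {x : G} (hx : x ∈ Q) :
    x • t • a ≠ a := fun h =>
  b_ne hS (smul_left_cancel x (h.trans (smul_a_of_mem hS hx).symm))

theorem htx_unique (hS : Cfsg.IsRankOneSetup G Ω a t Q) {h h' x x' : G}
    (hh : h ∈ stabilizer G a) (hh' : h' ∈ stabilizer G a) (hx : x ∈ Q) (hx' : x' ∈ Q)
    (e : h * t * x = h' * t * x') : h = h' ∧ x = x' := by
  have key : ∀ k y : G, k ∈ stabilizer G a → (k * t * y)⁻¹ • a = y⁻¹ • t • a := by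
    intro k y hk
    rw [mul_inv_rev, mul_inv_rev, inv_t hS, mul_smul, mul_smul,
      mem_stabilizer_iff.1 (inv_mem hk)]
  have hxx : x = x' := by
    refine inv_injective (Q_inj hS (inv_mem hx) (inv_mem hx') ?_)
    rw [← key h x hh, ← key h' x' hh', e]
  subst hxx
  exact ⟨mul_right_cancel (mul_right_cancel e), rfl⟩

theorem exists_htx (hS : Cfsg.IsRankOneSetup G Ω a t Q) {g : G} (hg : g ∉ stabilizer G a) :
    ∃ h ∈ stabilizer G a, ∃ x ∈ Q, g = h * t * x := by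
  have hne : g⁻¹ • a ≠ a := fun h => hg (by
    rw [mem_stabilizer_iff]; nth_rewrite 1 [← h]; rw [smul_inv_smul])
  obtain ⟨x, hx, hxe⟩ := exists_Q_b hS hne
  refine ⟨g * x * t, ?_, x⁻¹, inv_mem hx, ?_⟩
  · rw [mem_stabilizer_iff, mul_smul, mul_smul, hxe, smul_inv_smul]
  · simp only [mul_assoc, t_mul_cancel hS, mul_inv_cancel, mul_one]

theorem dec_unique (hS : Cfsg.IsRankOneSetup G Ω a t Q) {g g' h h' f f' : G} (hg : g ∈ Q)
    (hg' : g' ∈ Q) (hh : h ∈ D a t) (hh' : h' ∈ D a t) (hf : f ∈ Q) (hf' : f' ∈ Q)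
    (e : g * h * t * f = g' * h' * t * f') : g = g' ∧ h = h' ∧ f = f' := by
  have h1 := htx_unique hS (mul_mem (hS.le hg) (Subgroup.mem_inf.1 hh).1)
    (mul_mem (hS.le hg') (Subgroup.mem_inf.1 hh').1) hf hf' e
  have h2 := decomp_unique hS hg hg' hh hh' h1.1
  exact ⟨h2.1, h2.2, h1.2⟩

section Finite

variable [Finite G]

theorem card_points (hS : Cfsg.IsRankOneSetup G Ω a t Q) : Nat.card Ω = Nat.card Q + 1 := by
  have : Function.Bijective
      (fun o : Option Q => o.elim a (fun x => (x : G) • t • a)) := by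
    constructor
    · rintro (_ | x) (_ | y) h
      · rfl
      · exact absurd h.symm (smul_ne_a hS y.2)
      · exact absurd h (smul_ne_a hS x.2)
      · exact congrArg some (Subtype.ext (Q_inj hS x.2 y.2 h))
    · intro y
      by_cases hy : y = a
      · exact ⟨none, hy.symm⟩
      · obtain ⟨x, hx, rfl⟩ := exists_Q_b hS hy
        exact ⟨some ⟨x, hx⟩, rfl⟩
  rw [← Nat.card_eq_of_bijective _ this, Finite.card_option]

theorem card_stabilizer (hS : Cfsg.IsRankOneSetup G Ω a t Q) :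
    Nat.card (stabilizer G a) = Nat.card Q * Nat.card (D a t) := by
  rw [← Nat.card_prod]
  refine (Nat.card_eq_of_bijective (fun p : Q × D a t => (⟨(p.1 : G) * p.2,
    mul_mem (hS.le p.1.2) (Subgroup.mem_inf.1 p.2.2).1⟩ : stabilizer G a)) ⟨?_, ?_⟩).symm
  · rintro ⟨x, d⟩ ⟨x', d'⟩ h
    obtain ⟨h1, h2⟩ := decomp_unique hS x.2 x'.2 d.2 d'.2 (congrArg Subtype.val h)
    exact Prod.ext (Subtype.ext h1) (Subtype.ext h2)
  · rintro ⟨h, hh⟩
    obtain ⟨x, hx, d, hd, rfl⟩ := decomp hS hh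
    exact ⟨(⟨x, hx⟩, ⟨d, hd⟩), rfl⟩

theorem card_group (hS : Cfsg.IsRankOneSetup G Ω a t Q) :
    Nat.card G = Nat.card Q * Nat.card (D a t) * (Nat.card Q + 1) := by
  have := pretransitive hS
  rw [← card_stabilizer hS, ← card_points hS, ← index_stabilizer_of_transitive G a,
    Subgroup.card_mul_index]

theorem exists_sylow_le (hS : Cfsg.IsRankOneSetup G Ω a t Q) :
    ∃ P : Sylow 2 G, (P : Subgroup G) ≤ Q := by
  obtain ⟨P₀⟩ : Nonempty (Sylow 2 Q) := inferInstance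
  have hc : Nat.card ((P₀ : Subgroup Q).map Q.subtype) = 2 ^ (Nat.card G).factorization 2 := by
    rw [Subgroup.card_map_of_injective Q.subtype_injective, P₀.card_eq_multiplicity,
      card_group hS]
    congr 1
    have hQ : Nat.card Q ≠ 0 := Nat.card_pos.ne'
    have hD : Nat.card (D a t) ≠ 0 := Nat.card_pos.ne'
    rw [Nat.factorization_mul (mul_ne_zero hQ hD) (Nat.add_one_ne_zero (Nat.card Q)),
      Nat.factorization_mul hQ hD, Finsupp.add_apply, Finsupp.add_apply,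
      Nat.factorization_eq_zero_of_not_dvd (fun h => Nat.not_even_iff_odd.2 hS.odd_card
        (even_iff_two_dvd.2 h)),
      Nat.factorization_eq_zero_of_not_dvd (fun h => Nat.not_even_iff_odd.2
        (hS.even_card.add_one) (even_iff_two_dvd.2 h)), add_zero, add_zero]
  exact ⟨Sylow.ofCard _ hc, by rw [Sylow.coe_ofCard]; exact Subgroup.map_subtype_le _⟩

/-- An element of `D` of order dividing two is trivial. -/
theorem eq_one_of_sq (hS : Cfsg.IsRankOneSetup G Ω a t Q) {d : G} (hd : d ∈ D a t)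
    (h : d * d = 1) : d = 1 :=
  eq_one_of_sq_of_odd h
    (hS.odd_card.of_dvd_nat (Subgroup.orderOf_dvd_natCard (D a t) hd))

theorem invol_mem_Q (hS : Cfsg.IsRankOneSetup G Ω a t Q) {s : G}
    (hs : s ∈ stabilizer G a) (h : s * s = 1) : s ∈ Q := by
  obtain ⟨x, hx, d, hd, rfl⟩ := decomp hS hs
  have h2 : x * (d * x * d⁻¹) * (d * d) = 1 * 1 := by rw [mul_one, ← h]; group
  have h3 := (decomp_unique hS (mul_mem hx (hS.conj_mem d (Subgroup.mem_inf.1 hd).1 x hx))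
    (one_mem _) (mul_mem hd hd) (one_mem _) h2).2
  rw [eq_one_of_sq hS hd h3, mul_one]
  exact hx

theorem exists_invol (hS : Cfsg.IsRankOneSetup G Ω a t Q) :
    ∃ s ∈ stabilizer G a, s ≠ 1 ∧ s * s = 1 := by
  obtain ⟨s, hs, ho⟩ := exists_invol_mem hS.even_card
  exact ⟨s, hS.le hs, invol_ne_one ho, invol_mul_self ho⟩

/-- An involution fixes exactly one point. -/
theorem exists_fix (hS : Cfsg.IsRankOneSetup G Ω a t Q) {u : G} (h1 : u ≠ 1) (h2 : u * u = 1) :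
    ∃ c : Ω, u • c = c ∧ ∀ y : Ω, u • y = y → y = c := by
  obtain ⟨P, hP⟩ := exists_sylow_le hS
  obtain ⟨g, hg⟩ := exists_conj_invol_mem_sylow P (invol_of_mul_self h2 h1)
  have hne : g * u * g⁻¹ ≠ 1 := fun h => h1 (conj_eq_one_iff.1 h)
  refine ⟨g⁻¹ • a, ?_, fun y hy => ?_⟩
  · have := smul_a_of_mem hS (hP hg)
    rw [mul_smul, mul_smul] at this
    rw [eq_inv_smul_iff, this]
  · rw [eq_inv_smul_iff]
    refine fix_eq hS (hP hg) hne ?_
    rw [mul_smul, mul_smul, inv_smul_smul, hy]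

theorem fix_unique (hS : Cfsg.IsRankOneSetup G Ω a t Q) {u : G} (h1 : u ≠ 1) (h2 : u * u = 1)
    {y z : Ω} (hy : u • y = y) (hz : u • z = z) : y = z := by
  obtain ⟨c, -, hc⟩ := exists_fix hS h1 h2
  rw [hc y hy, hc z hz]

theorem odd_orderOf_mul (hS : Cfsg.IsRankOneSetup G Ω a t Q) {s u : G}
    (hs : s ∈ stabilizer G a) (hs1 : s ≠ 1) (hs2 : s * s = 1) (hu : u ∉ stabilizer G a)
    (hu1 : u ≠ 1) (hu2 : u * u = 1) : Odd (orderOf (s * u)) := by
  by_contra h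
  rw [Nat.not_odd_iff_even] at h
  obtain ⟨z, hz, hzs, hzu⟩ :=
    exists_commute_both (invol_of_mul_self hs2 hs1) (invol_of_mul_self hu2 hu1) h
  have hza : z • a = a := by
    refine fix_unique hS hs1 hs2 ?_ (mem_stabilizer_iff.1 hs)
    rw [smul_smul, ← hzs.eq, mul_smul, mem_stabilizer_iff.1 hs]
  refine hu (mem_stabilizer_iff.2 ?_)
  refine fix_unique hS (invol_ne_one hz) (invol_mul_self hz) ?_ hza
  rw [smul_smul, hzu.eq, mul_smul, hza]

theorem isConj_invol (hS : Cfsg.IsRankOneSetup G Ω a t Q) {u v : G} (hu1 : u ≠ 1)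
    (hu2 : u * u = 1) (hv1 : v ≠ 1) (hv2 : v * v = 1) : IsConj u v := by
  obtain ⟨s, hs, hs1, hs2⟩ := exists_invol hS
  have key : ∀ w : G, w ≠ 1 → w * w = 1 → IsConj s w := by
    intro w hw1 hw2
    by_cases hw : w ∈ stabilizer G a
    · exact (isConj_of_odd (invol_of_mul_self hs2 hs1) (orderOf_t hS)
        (odd_orderOf_mul hS hs hs1 hs2 hS.not_mem hS.ne_one hS.mul_self)).trans
        (isConj_of_odd (invol_of_mul_self hw2 hw1) (orderOf_t hS)
        (odd_orderOf_mul hS hw hw1 hw2 hS.not_mem hS.ne_one hS.mul_self)).symm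
    · exact isConj_of_odd (invol_of_mul_self hs2 hs1) (invol_of_mul_self hw2 hw1)
        (odd_orderOf_mul hS hs hs1 hs2 hw hw1 hw2)
  exact (key u hu1 hu2).symm.trans (key v hv1 hv2)

theorem conj_mem_invertedBy (hS : Cfsg.IsRankOneSetup G Ω a t Q) {k : G} :
    k ∈ Cfsg.invertedBy (D a t) t ↔ k ∈ D a t ∧ t * k * t = k⁻¹ := by
  simp [Cfsg.invertedBy, inv_t hS]

theorem invol_mul_t (hS : Cfsg.IsRankOneSetup G Ω a t Q) {k : G}
    (hk : k ∈ Cfsg.invertedBy (D a t) t) : k * t * (k * t) = 1 := by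
  rw [mul_assoc, ← mul_assoc t, ((conj_mem_invertedBy hS).1 hk).2, mul_inv_cancel]

theorem mul_t_not_mem (hS : Cfsg.IsRankOneSetup G Ω a t Q) {k : G} (hk : k ∈ D a t) :
    k * t ∉ stabilizer G a := by
  rw [mem_stabilizer_iff, mul_smul, (mem_D.1 hk).2]
  exact b_ne hS

theorem conj_invol {u : G} (h1 : u ≠ 1) (h2 : u * u = 1) (g : G) :
    g * u * g⁻¹ ≠ 1 ∧ (g * u * g⁻¹) * (g * u * g⁻¹) = 1 := by
  refine ⟨fun h => h1 (conj_eq_one_iff.1 h), ?_⟩
  rw [show g * u * g⁻¹ * (g * u * g⁻¹) = g * (u * u) * g⁻¹ by group, h2]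
  group

/-- Two elements of `D` inverted by `t` conjugating an involution of `G_a` equally are equal. -/
theorem invertedBy_conj_inj (hS : Cfsg.IsRankOneSetup G Ω a t Q) {s k l : G}
    (hs : s ∈ stabilizer G a) (hs1 : s ≠ 1) (hs2 : s * s = 1)
    (hk : k ∈ Cfsg.invertedBy (D a t) t) (hl : l ∈ Cfsg.invertedBy (D a t) t)
    (h : k⁻¹ * s * k = l⁻¹ * s * l) : k = l := by
  obtain ⟨hkD, hki⟩ := (conj_mem_invertedBy hS).1 hk
  obtain ⟨hlD, hli⟩ := (conj_mem_invertedBy hS).1 hl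
  obtain ⟨x, hx⟩ : ∃ x, x = k * l⁻¹ := ⟨_, rfl⟩
  have hxD : x ∈ D a t := hx ▸ mul_mem hkD (inv_mem hlD)
  have hsx : s * x * s⁻¹ = x := by
    have e : k * (k⁻¹ * s * k) * l⁻¹ = k * (l⁻¹ * s * l) * l⁻¹ := by rw [h]
    rw [mul_inv_eq_iff_eq_mul, hx]
    calc s * (k * l⁻¹) = k * (k⁻¹ * s * k) * l⁻¹ := by group
      _ = k * (l⁻¹ * s * l) * l⁻¹ := e
      _ = k * l⁻¹ * s := by group
  have hwx : (l * t) * x * (l * t)⁻¹ = x⁻¹ := by
    have hli' : t * l⁻¹ * t = l := by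
      rw [← hli]
      simp only [mul_assoc, t_mul_cancel hS, hS.mul_self, mul_one]
    calc (l * t) * x * (l * t)⁻¹ = l * (t * k * t⁻¹) * (t * l⁻¹ * t⁻¹) * l⁻¹ := by rw [hx]; group
      _ = l * k⁻¹ * l * l⁻¹ := by rw [inv_t hS, hki, hli']
      _ = x⁻¹ := by rw [hx]; group
  have hwD : Odd (orderOf (s * (l * t))) :=
    odd_orderOf_mul hS hs hs1 hs2 (mul_t_not_mem hS hlD)
      (fun e => mul_t_not_mem hS hlD (e ▸ one_mem _)) (invol_mul_t hS hl)
  have hinv : s * (l * t) * x * (s * (l * t))⁻¹ = x⁻¹ := by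
    calc s * (l * t) * x * (s * (l * t))⁻¹ = s * ((l * t) * x * (l * t)⁻¹) * s⁻¹ := by group
      _ = (s * x * s⁻¹)⁻¹ := by rw [hwx]; group
      _ = x⁻¹ := by rw [hsx]
  obtain ⟨y, hy⟩ : ∃ y, y = s * (l * t) := ⟨_, rfl⟩
  rw [← hy] at hwD hinv
  have hcomm : Commute (y * y) x := by
    refine mul_inv_eq_iff_eq_mul.1 ?_
    calc y * y * x * (y * y)⁻¹ = y * (y * x * y⁻¹) * y⁻¹ := by group
      _ = (y * x * y⁻¹)⁻¹ := by nth_rewrite 1 [hinv]; rw [conj_inv]
      _ = x := by rw [hinv, inv_inv]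
  have hodd : ∀ n : ℕ, y ^ (2 * n + 1) * x * (y ^ (2 * n + 1))⁻¹ = x⁻¹ := by
    intro n
    rw [pow_succ', pow_mul, pow_two]
    calc y * (y * y) ^ n * x * (y * (y * y) ^ n)⁻¹
        = y * ((y * y) ^ n * x * ((y * y) ^ n)⁻¹) * y⁻¹ := by
          simp only [mul_inv_rev, mul_assoc]
      _ = y * x * y⁻¹ := by rw [(hcomm.pow_left n).eq, mul_inv_cancel_right]
      _ = x⁻¹ := hinv
  obtain ⟨m, hm⟩ := hwD
  have h1 := hodd m
  rw [← hm, pow_orderOf_eq_one, one_mul, inv_one, mul_one] at h1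
  have hx1 : x = 1 := eq_one_of_sq hS hxD (by nth_rewrite 2 [h1]; exact mul_inv_cancel x)
  rw [hx] at hx1
  exact mul_inv_eq_one.1 hx1

theorem conj_k_mem_invol {s k : G} (hs : s ∈ Cfsg.involutionsIn (stabilizer G a : Set G))
    (hk : k ∈ Cfsg.invertedBy (D a t) t) :
    k⁻¹ * s * k ∈ Cfsg.involutionsIn (stabilizer G a : Set G) := by
  obtain ⟨hsa, hs1, hs2⟩ := hs
  have hka : k ∈ stabilizer G a := (Subgroup.mem_inf.1 hk.1).1
  have := conj_invol hs1 hs2 k⁻¹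
  rw [inv_inv] at this
  exact ⟨mul_mem (mul_mem (inv_mem hka) hsa) hka, this.1, this.2⟩

theorem card_invertedBy (hS : Cfsg.IsRankOneSetup G Ω a t Q) :
    Nat.card (Cfsg.invertedBy (D a t) t) =
      Nat.card (Cfsg.involutionsIn (stabilizer G a : Set G)) := by
  have := finite_points hS
  choose g hg using exists_moves hS
  let I := Cfsg.involutionsIn (stabilizer G a : Set G)
  let K := Cfsg.invertedBy (D a t) t
  let T := {u : G // u ≠ 1 ∧ u * u = 1}
  have hconjI : ∀ (s : I) (x : G), (x * s.1 * x⁻¹ ≠ 1 ∧ (x * s.1 * x⁻¹) * (x * s.1 * x⁻¹) = 1) :=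
    fun s x => conj_invol s.2.2.1 s.2.2.2 x
  have hK1 : ∀ k : K, k.1 * t ≠ 1 := fun k e =>
    mul_t_not_mem hS k.2.1 (e ▸ one_mem _)
  have e1 : Function.Bijective (fun p : Ω × I =>
      (⟨g p.1 * p.2.1 * (g p.1)⁻¹, hconjI p.2 _⟩ : T)) := by
    constructor
    · rintro ⟨c, s⟩ ⟨c', s'⟩ h
      have h' : g c * s.1 * (g c)⁻¹ = g c' * s'.1 * (g c')⁻¹ := congrArg Subtype.val h
      have fx : ∀ (d : Ω) (r : I), (g d * r.1 * (g d)⁻¹) • d = d := by
        intro d r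
        rw [mul_smul, mul_smul, inv_smul_eq_iff.2 (hg d).symm, mem_stabilizer_iff.1 r.2.1, hg]
      have hcc : c = c' :=
        fix_unique hS (hconjI s _).1 (hconjI s _).2 (fx c s) (by rw [h']; exact fx c' s')
      subst hcc
      exact Prod.ext rfl (Subtype.ext (mul_left_cancel (mul_right_cancel h')))
    · rintro ⟨u, hu1, hu2⟩
      obtain ⟨c, hc, -⟩ := exists_fix hS hu1 hu2
      have hu := conj_invol hu1 hu2 (g c)⁻¹
      rw [inv_inv] at hu
      refine ⟨(c, ⟨(g c)⁻¹ * u * g c, ?_, hu.1, hu.2⟩), Subtype.ext (by group)⟩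
      rw [SetLike.mem_coe, mem_stabilizer_iff, mul_smul, mul_smul, hg, hc, inv_smul_eq_iff, hg]
  have e2 : Function.Bijective (fun q : I ⊕ (Q × K) => (Sum.elim
      (fun s => (⟨s.1, s.2.2.1, s.2.2.2⟩ : T))
      (fun p => ⟨(p.1 : G) * (p.2.1 * t) * (p.1 : G)⁻¹,
        conj_invol (hK1 p.2) (invol_mul_t hS p.2.2) _⟩) q)) := by
    have ha : ∀ (x : Q) (k : K), ((x : G) * (k.1 * t) * (x : G)⁻¹) • a = (x : G) • t • a := by
      intro x k
      rw [mul_smul, mul_smul, smul_a_of_mem hS (inv_mem x.2), mul_smul, (mem_D.1 k.2.1).2]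
    constructor
    · rintro (s | ⟨x, k⟩) (s' | ⟨x', k'⟩) h
      · exact congrArg Sum.inl (Subtype.ext (congrArg (fun w : T => w.1) h))
      · have h' : s.1 = (x' : G) * (k'.1 * t) * (x' : G)⁻¹ := congrArg (fun w : T => w.1) h
        exact absurd ((ha x' k').symm.trans (h' ▸ mem_stabilizer_iff.1 s.2.1))
          (smul_ne_a hS x'.2)
      · have h' : (x : G) * (k.1 * t) * (x : G)⁻¹ = s'.1 := congrArg (fun w : T => w.1) h
        exact absurd ((ha x k).symm.trans (h' ▸ mem_stabilizer_iff.1 s'.2.1))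
          (smul_ne_a hS x.2)
      · have h' : (x : G) * (k.1 * t) * (x : G)⁻¹ = (x' : G) * (k'.1 * t) * (x' : G)⁻¹ :=
          congrArg (fun w : T => w.1) h
        have hxx : (x : G) = x' := Q_inj hS x.2 x'.2 (by rw [← ha x k, h', ha])
        rw [hxx] at h'
        exact congrArg Sum.inr (Prod.ext (Subtype.ext hxx)
          (Subtype.ext (mul_right_cancel (mul_left_cancel (mul_right_cancel h')))))
    · rintro ⟨u, hu1, hu2⟩
      by_cases hu : u ∈ stabilizer G a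
      · exact ⟨Sum.inl ⟨u, hu, hu1, hu2⟩, rfl⟩
      · obtain ⟨x, hx, hxe⟩ := exists_Q_b hS (y := u • a) fun h => hu (mem_stabilizer_iff.2 h)
        have hua : u • u • a = a := by rw [smul_smul, hu2, one_smul]
        refine ⟨Sum.inr (⟨x, hx⟩, ⟨x⁻¹ * u * x * t, ?_⟩), Subtype.ext ?_⟩
        · rw [conj_mem_invertedBy hS]
          constructor
          · refine mem_D.2 ⟨?_, ?_⟩
            · rw [mul_smul, mul_smul, mul_smul, hxe, hua, inv_smul_eq_iff, smul_a_of_mem hS hx]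
            · rw [mul_smul, mul_smul, mul_smul, t_b hS, smul_a_of_mem hS hx, inv_smul_eq_iff,
                hxe]
          · apply eq_inv_of_mul_eq_one_left
            calc t * (x⁻¹ * u * x * t) * t * (x⁻¹ * u * x * t)
                = t * (x⁻¹ * u * x * (t * t)) * (x⁻¹ * u * x * t) := by group
              _ = t * x⁻¹ * (u * u) * x * t := by rw [hS.mul_self]; group
              _ = 1 := by rw [hu2]; simp [hS.mul_self]
        · show x * (x⁻¹ * u * x * t * t) * x⁻¹ = u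
          rw [mul_assoc _ t t, hS.mul_self]
          group
  have h1 := Nat.card_eq_of_bijective _ e1
  have h2 := Nat.card_eq_of_bijective _ e2
  rw [Nat.card_prod, card_points hS] at h1
  rw [Nat.card_sum, Nat.card_prod] at h2
  have h3 : Nat.card Q * Nat.card K = Nat.card Q * Nat.card I := by
    have : Nat.card I + Nat.card Q * Nat.card K = (Nat.card Q + 1) * Nat.card I := h2.trans h1.symm
    rw [add_mul, one_mul] at this
    omega
  exact Nat.eq_of_mul_eq_mul_left Nat.card_pos h3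

theorem invertedBy_transitive (hS : Cfsg.IsRankOneSetup G Ω a t Q) {s s' : G}
    (hs : s ∈ Cfsg.involutionsIn (stabilizer G a : Set G))
    (hs' : s' ∈ Cfsg.involutionsIn (stabilizer G a : Set G)) :
    ∃ k ∈ Cfsg.invertedBy (D a t) t, k⁻¹ * s * k = s' := by
  let f : Cfsg.invertedBy (D a t) t → Cfsg.involutionsIn (stabilizer G a : Set G) :=
    fun k => ⟨k.1⁻¹ * s * k.1, conj_k_mem_invol hs k.2⟩
  have hf : Function.Bijective f := (Nat.bijective_iff_injective_and_card f).2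
    ⟨fun k l h => Subtype.ext (invertedBy_conj_inj hS hs.1 hs.2.1 hs.2.2 k.2 l.2
      (congrArg Subtype.val h)), card_invertedBy hS⟩
  obtain ⟨k, hk⟩ := hf.2 ⟨s', hs'⟩
  exact ⟨k.1, k.2, congrArg Subtype.val hk⟩

end Finite

end CfsgLib.Chev.RankOne
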