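import Cfsg.Agent.Lib.Chev.RankOne
import Cfsg.Agent.Lib.Chev.InvertedBy

/-!
# The structure equation of a rank-one set-up
-/

namespace CfsgLib.Chev.RankOne

open MulAction CfsgLib.Invol

universe u v

variable {G : Type u} {Ω : Type v} [Group G] [Finite G] [MulAction G Ω] {a : Ω} {t : G}
  {Q : Subgroup G}

/-- For an involution `u ∉ G_a` there are unique `x ∈ Q`, `k` inverted, with `u = x k t x⁻¹`. -/
theorem xkt_unique (hS : Cfsg.IsRankOneSetup G Ω a t Q) {x x' k k' : G} (hx : x ∈ Q)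
    (hx' : x' ∈ Q) (hk : k ∈ D a t) (hk' : k' ∈ D a t)
    (h : x * (k * t) * x⁻¹ = x' * (k' * t) * x'⁻¹) : x = x' ∧ k = k' := by
  obtain ⟨h1, h2, -⟩ := dec_unique hS hx hx' hk hk' (inv_mem hx) (inv_mem hx')
    (by simpa [mul_assoc] using h)
  exact ⟨h1, h2⟩

theorem exists_xkt (hS : Cfsg.IsRankOneSetup G Ω a t Q) {u : G} (hu : u ∉ stabilizer G a)
    (hu2 : u * u = 1) :
    ∃ x ∈ Q, ∃ k ∈ Cfsg.invertedBy (D a t) t, u = x * (k * t) * x⁻¹ := by
  obtain ⟨x, hx, hxe⟩ := exists_Q_b hS (y := u • a) fun h => hu (mem_stabilizer_iff.2 h)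
  have hua : u • u • a = a := by rw [smul_smul, hu2, one_smul]
  refine ⟨x, hx, x⁻¹ * u * x * t, ?_, ?_⟩
  · rw [conj_mem_invertedBy hS]
    constructor
    · refine mem_D.2 ⟨?_, ?_⟩
      · rw [mul_smul, mul_smul, mul_smul, hxe, hua, inv_smul_eq_iff, smul_a_of_mem hS hx]
      · rw [mul_smul, mul_smul, mul_smul, t_b hS, smul_a_of_mem hS hx, inv_smul_eq_iff, hxe]
    · apply eq_inv_of_mul_eq_one_left
      calc t * (x⁻¹ * u * x * t) * t * (x⁻¹ * u * x * t)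
          = t * (x⁻¹ * u * x * (t * t)) * (x⁻¹ * u * x * t) := by group
        _ = t * x⁻¹ * (u * u) * x * t := by rw [hS.mul_self]; group
        _ = 1 := by rw [hu2]; simp [hS.mul_self]
  · rw [mul_assoc _ t t, hS.mul_self]
    group

theorem conj_t_not_mem (hS : Cfsg.IsRankOneSetup G Ω a t Q) {x : G} (hx : x ∈ Q) (h1 : x ≠ 1) :
    t * x * t ∉ stabilizer G a := fun h => h1 (eq_one_of_fix_b hS hx (by
  rw [mem_stabilizer_iff, mul_smul, mul_smul] at h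
  rw [← smul_left_cancel_iff t, h, t_b hS]))

/-- The structure equation: exactly one involution `s` of `G_a` and `r ∈ Q` with
`t s t = r⁻¹ t r`. -/
theorem structure_equation (hS : Cfsg.IsRankOneSetup G Ω a t Q) :
    ∃! p : G × G, p.1 ∈ Cfsg.involutionsIn (stabilizer G a : Set G) ∧ p.2 ∈ Q ∧
      t * p.1 * t = p.2⁻¹ * t * p.2 := by
  obtain ⟨s₀, hs₀a, hs₀1, hs₀2⟩ := exists_invol hS
  have hs₀ : s₀ ∈ Cfsg.involutionsIn (stabilizer G a : Set G) := ⟨hs₀a, hs₀1, hs₀2⟩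
  have hu : t * s₀ * t * (t * s₀ * t) = 1 := by
    simp only [mul_assoc, t_mul_cancel hS]
    rw [← mul_assoc s₀ s₀, hs₀2, one_mul, hS.mul_self]
  obtain ⟨x, hx, k, hk, hxk⟩ :=
    exists_xkt hS (conj_t_not_mem hS (invol_mem_Q hS hs₀a hs₀2) hs₀1) hu
  have key : ∀ l ∈ Cfsg.invertedBy (D a t) t,
      t * (l⁻¹ * s₀ * l) * t = (l * x * l⁻¹) * (l * k * l * t) * (l * x * l⁻¹)⁻¹ := by
    intro l hl
    obtain ⟨hlD, hli⟩ := (conj_mem_invertedBy hS).1 hl
    have e1 : t * l⁻¹ = l * t := by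
      rw [← hli]
      simp only [mul_assoc, t_mul_cancel hS, hS.mul_self, mul_one]
    have e2 : l * t = t * l⁻¹ := e1.symm
    calc t * (l⁻¹ * s₀ * l) * t = (t * l⁻¹) * s₀ * (l * t) := by simp only [mul_assoc]
      _ = (l * t) * s₀ * (t * l⁻¹) := by rw [e1]
      _ = l * (t * s₀ * t) * l⁻¹ := by simp only [mul_assoc]
      _ = (l * x * l⁻¹) * (l * k * (t * l⁻¹)) * (l * x * l⁻¹)⁻¹ := by rw [hxk]; group
      _ = (l * x * l⁻¹) * (l * k * l * t) * (l * x * l⁻¹)⁻¹ := by rw [e1]; group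
  obtain ⟨l, hl, hll⟩ := InvBy.exists_sqrt (t := t) hS.odd_card (w := k⁻¹)
    ⟨inv_mem hk.1, by rw [← conj_inv, hk.2]⟩
  have hlQ : l * x * l⁻¹ ∈ Q := hS.conj_mem l (Subgroup.mem_inf.1 hl.1).1 x hx
  have hkl : l * k * l = 1 := by
    rw [show l * k * l = l * (k * (l * l)) * l⁻¹ by group, hll]
    group
  refine ⟨(l⁻¹ * s₀ * l, (l * x * l⁻¹)⁻¹), ⟨conj_k_mem_invol hs₀ hl, inv_mem hlQ, ?_⟩, ?_⟩
  · show t * (l⁻¹ * s₀ * l) * t = (l * x * l⁻¹)⁻¹⁻¹ * t * (l * x * l⁻¹)⁻¹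
    rw [key l hl, hkl, one_mul, inv_inv]
  · rintro ⟨s, r⟩ ⟨hs, hr, he⟩
    obtain ⟨l', hl', rfl⟩ := invertedBy_transitive hS hs₀ hs
    have hlQ' : l' * x * l'⁻¹ ∈ Q := hS.conj_mem l' (Subgroup.mem_inf.1 hl'.1).1 x hx
    have h1 : r⁻¹ * (1 * t) * r⁻¹⁻¹
        = (l' * x * l'⁻¹) * (l' * k * l' * t) * (l' * x * l'⁻¹)⁻¹ := by
      rw [one_mul, inv_inv, ← key l' hl']
      exact he.symm
    obtain ⟨h2, h3⟩ := xkt_unique hS (inv_mem hr) hlQ' (one_mem _)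
      (mul_mem (mul_mem hl'.1 hk.1) hl'.1) h1
    have hsq : l' * l' = l * l := by
      rw [hll, eq_inv_iff_mul_eq_one]
      calc l' * l' * k = l' * (l' * k * l') * l'⁻¹ := by group
        _ = 1 := by rw [← h3]; group
    have hll' : l' = l := InvBy.sq_inj hS.odd_card hl'.1 hl.1 hsq
    subst hll'
    rw [Prod.mk.injEq]
    exact ⟨rfl, by rw [← h2, inv_inv]⟩

theorem hgf_inv (hS : Cfsg.IsRankOneSetup G Ω a t Q) {x g h f : G}
    (heq : t * x * t = g * h * t * f) :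
    t * x⁻¹ * t = f⁻¹ * (t * h⁻¹ * t) * t * g⁻¹ := by
  calc t * x⁻¹ * t = (t * x * t)⁻¹ := by simp only [mul_inv_rev, inv_t hS, mul_assoc]
    _ = (g * h * t * f)⁻¹ := by rw [heq]
    _ = f⁻¹ * (t * h⁻¹ * t) * t * g⁻¹ := by
        simp only [mul_inv_rev, inv_t hS, mul_assoc, t_mul_cancel hS]

theorem hgf_f (hS : Cfsg.IsRankOneSetup G Ω a t Q) {x g h f : G}
    (heq : t * x * t = g * h * t * f) :
    t * f * t = (h⁻¹ * g⁻¹ * h) * h⁻¹ * t * x := by
  calc t * f * t = h⁻¹ * g⁻¹ * (g * h * t * f) * t := by group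
    _ = h⁻¹ * g⁻¹ * (t * x * t) * t := by rw [heq]
    _ = (h⁻¹ * g⁻¹ * h) * h⁻¹ * t * x := by
        simp only [mul_assoc, hS.mul_self, mul_one, mul_inv_cancel_left]

theorem hgf_conj (hS : Cfsg.IsRankOneSetup G Ω a t Q) {x g h f c : G}
    (heq : t * x * t = g * h * t * f) :
    t * (c⁻¹ * x * c) * t = ((t * c * t)⁻¹ * g * (t * c * t)) * ((t * c * t)⁻¹ * h * c) * t *
      ((t * c * t)⁻¹ * f * (t * c * t)) := by
  calc t * (c⁻¹ * x * c) * t = (t * c * t)⁻¹ * (t * x * t) * (t * c * t) := by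
        simp only [mul_inv_rev, inv_t hS, mul_assoc, t_mul_cancel hS]
    _ = (t * c * t)⁻¹ * (g * h * t * f) * (t * c * t) := by rw [heq]
    _ = (t * c * t)⁻¹ * g * (t * c * t) * ((t * c * t)⁻¹ * h * c) * (c⁻¹ * t * (t * c * t)) *
          ((t * c * t)⁻¹ * f * (t * c * t)) := by group
    _ = _ := by
        congr 1
        congr 1
        simp only [mul_assoc, t_mul_cancel hS, inv_mul_cancel_left]

theorem hgf_mul (hS : Cfsg.IsRankOneSetup G Ω a t Q) {x y gx hx fx gy hy fy gz hz fz : G}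
    (ex : t * x * t = gx * hx * t * fx) (ey : t * y * t = gy * hy * t * fy)
    (ez : t * (fx * gy) * t = gz * hz * t * fz) :
    t * (x * y) * t = (gx * (hx * gz * hx⁻¹)) * (hx * hz * hy) * t *
      ((t * hy * t)⁻¹ * fz * (t * hy * t) * fy) := by
  calc t * (x * y) * t = (t * x * t) * (t * y * t) := by
        simp only [mul_assoc, t_mul_cancel hS]
    _ = (gx * hx * t * fx) * (gy * hy * t * fy) := by rw [ex, ey]
    _ = gx * hx * (t * (fx * gy) * t) * (t * hy * t) * fy := by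
        simp only [mul_assoc, t_mul_cancel hS]
    _ = gx * hx * (gz * hz * t * fz) * (t * hy * t) * fy := by rw [ez]
    _ = gx * (hx * gz * hx⁻¹) * (hx * hz * hy) * (hy⁻¹ * t * (t * hy * t)) *
          ((t * hy * t)⁻¹ * fz * (t * hy * t) * fy) := by group
    _ = _ := by
        congr 1
        congr 1
        simp only [mul_assoc, t_mul_cancel hS, inv_mul_cancel_left]

theorem conj_Q_D (hS : Cfsg.IsRankOneSetup G Ω a t Q) {d x : G} (hd : d ∈ D a t) (hx : x ∈ Q) :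
    d⁻¹ * x * d ∈ Q := by
  simpa using hS.conj_mem d⁻¹ (inv_mem (Subgroup.mem_inf.1 hd).1) x hx

theorem fx_gy_ne (hS : Cfsg.IsRankOneSetup G Ω a t Q) {x y gx hx fx gy hy fy : G}
    (hxy : x * y ≠ 1) (hxQ : x ∈ Q) (hyQ : y ∈ Q)
    (hgx : gx ∈ Q) (hhx : hx ∈ D a t) (ex : t * x * t = gx * hx * t * fx)
    (hhy : hy ∈ D a t) (hfy : fy ∈ Q) (ey : t * y * t = gy * hy * t * fy) :
    fx * gy ≠ 1 := by
  intro h
  refine conj_t_not_mem hS (mul_mem hxQ hyQ) hxy ?_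
  have : t * (x * y) * t = gx * hx * (t * hy * t) * fy := by
    calc t * (x * y) * t = (t * x * t) * (t * y * t) := by
          simp only [mul_assoc, t_mul_cancel hS]
      _ = gx * hx * (t * (fx * gy) * hy * t) * fy := by rw [ex, ey]; simp only [mul_assoc]
      _ = _ := by rw [h, mul_one]
  rw [this]
  exact mul_mem (mul_mem (mul_mem (hS.le hgx) (Subgroup.mem_inf.1 hhx).1)
    (Subgroup.mem_inf.1 (conj_D hS hhy)).1) (hS.le hfy)

end CfsgLib.Chev.RankOne
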