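import Cfsg.Agent.Lib.Chev.RankOneEq
import Cfsg.Agent.Lib.Complement.FpfNilpotent
import Cfsg.Agent.Lib.Solvable.Nilpotent
import Cfsg.Agent.Lib.Coprime.Generation

/-!
# Rank-one set-up: centralisers of subsets of `D`, nilpotence of `Q`
-/

namespace CfsgLib.Chev.RankOne

open MulAction CfsgLib.Invol

universe u v

variable {G : Type u} {Ω : Type v} [Group G] [Finite G] [MulAction G Ω] {a : Ω} {t : G}
  {Q : Subgroup G}

/-- An element inverted by an element of odd order squares to one. -/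
theorem sq_eq_one_of_inverted {M : Type*} [Group M] {x y : M} (h : y * x * y⁻¹ = x⁻¹)
    (hodd : Odd (orderOf y)) : x * x = 1 := by
  obtain ⟨m, hm⟩ := hodd
  have hcomm : Commute (y * y) x := by
    refine mul_inv_eq_iff_eq_mul.1 ?_
    calc y * y * x * (y * y)⁻¹ = y * (y * x * y⁻¹) * y⁻¹ := by group
      _ = (y * x * y⁻¹)⁻¹ := by nth_rewrite 1 [h]; rw [conj_inv]
      _ = x := by rw [h, inv_inv]
  have h1 : (y * (y * y) ^ m) * x * (y * (y * y) ^ m)⁻¹ = x⁻¹ := by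
    calc _ = y * ((y * y) ^ m * x * ((y * y) ^ m)⁻¹) * y⁻¹ := by
          simp only [mul_inv_rev, mul_assoc]
      _ = y * x * y⁻¹ := by rw [(hcomm.pow_left m).eq, mul_inv_cancel_right]
      _ = x⁻¹ := h
  rw [← pow_two, ← pow_mul, ← pow_succ', ← hm, pow_orderOf_eq_one, one_mul, inv_one,
    mul_one] at h1
  nth_rewrite 2 [h1]
  exact mul_inv_cancel x

theorem mem_centralizer_of_conj {M : Type*} [Group M] {X : Set M} {g : M}
    (h : ∀ y ∈ X, y * g * y⁻¹ = g) : g ∈ Subgroup.centralizer X :=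
  Subgroup.mem_centralizer_iff.2 fun y hy => mul_inv_eq_iff_eq_mul.1 (h y hy)

theorem smul_fix_of_mem_centralizer {M Ψ : Type*} [Group M] [MulAction M Ψ] {X : Set M} {g : M}
    (hg : g ∈ Subgroup.centralizer X) {c : Ψ} (hc : ∀ y ∈ X, y • c = c) :
    ∀ y ∈ X, y • g • c = g • c := fun y hy => by
  rw [smul_smul, Subgroup.mem_centralizer_iff.1 hg y hy, mul_smul, hc y hy]

section Fix

variable (hS : Cfsg.IsRankOneSetup G Ω a t Q) {X : Set G} (hX : X ⊆ (D a t : Set G))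
include hS hX

theorem mem_centralizer_of_fix {x : G} (hx : x ∈ Q)
    (hfix : ∀ y ∈ X, y • x • t • a = x • t • a) : x ∈ Subgroup.centralizer X := by
  refine mem_centralizer_of_conj fun y hy => ?_
  obtain ⟨hya, hyb⟩ := mem_D.1 (hX hy)
  refine Q_inj hS (hS.conj_mem y (mem_stabilizer_iff.2 hya) x hx) hx ?_
  rw [mul_smul, mul_smul, inv_smul_eq_iff.2 hyb.symm, hfix y hy]

theorem exists_centralizer_b {c : Ω} (hc : c ≠ a) (hfix : ∀ y ∈ X, y • c = c) :
    ∃ x ∈ Q, x ∈ Subgroup.centralizer X ∧ x • t • a = c := by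
  obtain ⟨x, hx, rfl⟩ := exists_Q_b hS hc
  exact ⟨x, hx, mem_centralizer_of_fix hS hX hx hfix, rfl⟩

/-- An element of `C(X)` fixing `t • a` and moving `a` to a given fixed point of `X`. -/
theorem exists_centralizer_a {c : Ω} (hc : c ≠ t • a) (hfix : ∀ y ∈ X, y • c = c) :
    ∃ g ∈ Subgroup.centralizer X, g • a = c ∧ g • t • a = t • a := by
  have hX' : (fun y => t * y * t) '' X ⊆ (D a t : Set G) := by
    rintro _ ⟨y, hy, rfl⟩
    exact conj_D hS (hX hy)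
  have hne : t • c ≠ a := fun h => hc (by rw [← h, smul_smul, hS.mul_self, one_smul])
  obtain ⟨x, hx, hxc, hxe⟩ := exists_centralizer_b hS hX' hne (by
    rintro _ ⟨y, hy, rfl⟩
    rw [mul_smul, mul_smul, smul_smul t t, hS.mul_self, one_smul, hfix y hy])
  refine ⟨t * x * t, ?_, ?_, ?_⟩
  · refine Subgroup.mem_centralizer_iff.2 fun y hy => ?_
    have h := Subgroup.mem_centralizer_iff.1 hxc _ ⟨y, hy, rfl⟩
    calc y * (t * x * t) = t * ((t * y * t) * x) * t := by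
          simp only [mul_assoc, t_mul_cancel hS]
      _ = t * (x * (t * y * t)) * t := by rw [h]
      _ = t * x * t * y := by simp only [mul_assoc, hS.mul_self, mul_one]
  · rw [mul_smul, mul_smul, hxe, smul_smul, hS.mul_self, one_smul]
  · rw [mul_smul, mul_smul, t_b hS, smul_a_of_mem hS hx]

omit [Finite G] in
theorem fix_a : ∀ y ∈ X, y • a = a := fun _ hy => (mem_D.1 (hX hy)).1

omit [Finite G] in
theorem fix_b : ∀ y ∈ X, y • t • a = t • a := fun _ hy => (mem_D.1 (hX hy)).2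

variable (h3 : ∃ b c d : Ω, b ≠ c ∧ b ≠ d ∧ c ≠ d ∧ ∀ x ∈ X, x • b = b ∧ x • c = c ∧ x • d = d)
include h3

omit [Finite G] in
theorem exists_third : ∃ d : Ω, d ≠ a ∧ d ≠ t • a ∧ ∀ y ∈ X, y • d = d := by
  obtain ⟨b, c, d, hbc, hbd, hcd, h⟩ := h3
  by_cases h1 : b ≠ a ∧ b ≠ t • a
  · exact ⟨b, h1.1, h1.2, fun y hy => (h y hy).1⟩
  by_cases h2 : c ≠ a ∧ c ≠ t • a
  · exact ⟨c, h2.1, h2.2, fun y hy => (h y hy).2.1⟩
  rw [not_and_or, not_ne_iff, not_ne_iff] at h1 h2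
  refine ⟨d, ?_, ?_, fun y hy => (h y hy).2.2⟩
  · rintro rfl
    rcases h1 with h1 | h1 <;> rcases h2 with h2 | h2 <;> simp_all
  · rintro rfl
    rcases h1 with h1 | h1 <;> rcases h2 with h2 | h2 <;> simp_all

theorem centralizer_transitive {c : Ω} (hfix : ∀ y ∈ X, y • c = c) :
    ∃ g ∈ Subgroup.centralizer X, g • a = c := by
  by_cases hc : c ≠ t • a
  · obtain ⟨g, hg, h, -⟩ := exists_centralizer_a hS hX hc hfix
    exact ⟨g, hg, h⟩
  rw [not_ne_iff] at hc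
  obtain ⟨d, hda, hdb, hd⟩ := exists_third hS hX h3
  obtain ⟨g, hg, hga, -⟩ := exists_centralizer_a hS hX hdb hd
  obtain ⟨x, -, hxc, hxe⟩ := exists_centralizer_b hS hX hda hd
  refine ⟨x⁻¹ * g, mul_mem (inv_mem hxc) hg, ?_⟩
  rw [mul_smul, hga, inv_smul_eq_iff, hc, hxe]

theorem centralizer_two_trans {b₁ b₂ c₁ c₂ : Ω}
    (hfix : ∀ x ∈ X, x • b₁ = b₁ ∧ x • b₂ = b₂ ∧ x • c₁ = c₁ ∧ x • c₂ = c₂)
    (hb : b₁ ≠ b₂) (hc : c₁ ≠ c₂) :
    ∃ g ∈ Subgroup.centralizer X, g • b₁ = c₁ ∧ g • b₂ = c₂ := by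
  obtain ⟨p, hp, hpa⟩ := centralizer_transitive hS hX h3 fun y hy => (hfix y hy).1
  obtain ⟨q, hq, hqa⟩ := centralizer_transitive hS hX h3 fun y hy => (hfix y hy).2.2.1
  have hb' : p⁻¹ • b₂ ≠ a := fun h => hb (by rw [← hpa, ← h, smul_inv_smul])
  have hc' : q⁻¹ • c₂ ≠ a := fun h => hc (by rw [← hqa, ← h, smul_inv_smul])
  obtain ⟨x, hxQ, hxc, hxe⟩ := exists_centralizer_b hS hX hb'
    (smul_fix_of_mem_centralizer (inv_mem hp) fun y hy => (hfix y hy).2.1)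
  obtain ⟨z, hzQ, hzc, hze⟩ := exists_centralizer_b hS hX hc'
    (smul_fix_of_mem_centralizer (inv_mem hq) fun y hy => (hfix y hy).2.2.2)
  refine ⟨q * z * x⁻¹ * p⁻¹, mul_mem (mul_mem (mul_mem hq hzc) (inv_mem hxc)) (inv_mem hp),
    ?_, ?_⟩
  · rw [mul_smul, inv_smul_eq_iff.2 hpa.symm, mul_smul,
      smul_a_of_mem hS (inv_mem hxQ), mul_smul, smul_a_of_mem hS hzQ, hqa]
  · rw [mul_smul, mul_smul, ← hxe, inv_smul_smul, mul_smul, hze, smul_inv_smul]

/-- An involution `k t` of `C(X)` interchanging `a` and `t • a`. -/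
theorem exists_swap_invol :
    ∃ k ∈ Cfsg.invertedBy (D a t) t, k * t ∈ Subgroup.centralizer X := by
  obtain ⟨g, hg, hga, hgb⟩ := centralizer_two_trans hS hX h3 (b₁ := a) (b₂ := t • a)
    (c₁ := t • a) (c₂ := a)
    (fun y hy => ⟨fix_a hS hX y hy, fix_b hS hX y hy, fix_b hS hX y hy, fix_a hS hX y hy⟩)
    (b_ne hS).symm (b_ne hS)
  have h2 : g * g ∈ D a t :=
    mem_D.2 ⟨by rw [mul_smul, hga, hgb], by rw [mul_smul, hgb, hga]⟩
  obtain ⟨m, hm⟩ := hS.odd_card.of_dvd_nat (Subgroup.orderOf_dvd_natCard (D a t) h2)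
  obtain ⟨u, hu⟩ : ∃ u, u = g * (g * g) ^ m := ⟨_, rfl⟩
  have hcomm : Commute g ((g * g) ^ m) := ((Commute.refl g).mul_right (Commute.refl g)).pow_right m
  have hu2 : u * u = 1 := by
    calc u * u = g * ((g * g) ^ m * g) * (g * g) ^ m := by rw [hu]; group
      _ = g * g * (g * g) ^ m * (g * g) ^ m := by rw [← hcomm.eq]; group
      _ = (g * g) ^ (2 * m + 1) := by rw [pow_succ', two_mul, pow_add, mul_assoc]
      _ = 1 := by rw [← hm, pow_orderOf_eq_one]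
  have hfd := mem_D.1 (pow_mem h2 m)
  have hua : u • a = t • a := by rw [hu, mul_smul, hfd.1, hga]
  have hub : u • t • a = a := by rw [hu, mul_smul, hfd.2, hgb]
  refine ⟨u * t, (conj_mem_invertedBy hS).2 ⟨mem_D.2 ⟨?_, ?_⟩, ?_⟩, ?_⟩
  · rw [mul_smul, hub]
  · rw [mul_smul, t_b hS, hua]
  · rw [mul_assoc t, mul_assoc u, hS.mul_self, mul_one, mul_inv_rev, inv_t hS,
      inv_eq_of_mul_eq_one_right hu2]
  · rw [mul_assoc, hS.mul_self, mul_one, hu]
    exact mul_mem hg (pow_mem (mul_mem hg hg) m)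

theorem even_centralizer : Even (Nat.card ↥(Subgroup.centralizer X ⊓ Q)) := by
  obtain ⟨k, hk, hkc⟩ := exists_swap_invol hS hX h3
  have h1 : k * t ≠ 1 := fun e => mul_t_not_mem hS hk.1 (e ▸ one_mem _)
  have h2 := invol_mul_t hS hk
  obtain ⟨c, hc, huniq⟩ := exists_fix hS h1 h2
  have hfix : ∀ y ∈ X, y • c = c := fun y hy => huniq _ (by
    rw [smul_smul, ← Subgroup.mem_centralizer_iff.1 hkc y hy, mul_smul, hc])
  obtain ⟨g, hg, hga⟩ := centralizer_transitive hS hX h3 hfix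
  have hs := conj_invol h1 h2 g⁻¹
  rw [inv_inv] at hs
  refine even_card_of_invol_mem (invol_of_mul_self hs.2 hs.1)
    (Subgroup.mem_inf.2 ⟨mul_mem (mul_mem (inv_mem hg) hkc) hg, invol_mem_Q hS ?_ hs.2⟩)
  rw [mem_stabilizer_iff, mul_smul, mul_smul, hga, hc, inv_smul_eq_iff, hga]

omit h3 in
theorem centralizer_stab_eq :
    (Subgroup.centralizer X ⊓ Q) ⊔ (Subgroup.centralizer X ⊓ D a t) =
      Subgroup.centralizer X ⊓ stabilizer G a := by
  refine le_antisymm (sup_le (inf_le_inf_left _ hS.le) (inf_le_inf_left _ inf_le_left)) ?_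
  intro h hh
  obtain ⟨hc, ha⟩ := Subgroup.mem_inf.1 hh
  obtain ⟨x, hx, d, hd, rfl⟩ := decomp hS ha
  have key : ∀ y ∈ X, y * x * y⁻¹ = x ∧ y * d * y⁻¹ = d := fun y hy => by
    refine decomp_unique hS (hS.conj_mem y (Subgroup.mem_inf.1 (hX hy)).1 x hx) hx
      (mul_mem (mul_mem (hX hy) hd) (inv_mem (hX hy))) hd ?_
    have := mul_inv_eq_iff_eq_mul.2 (Subgroup.mem_centralizer_iff.1 hc y hy)
    rw [← this]
    group
  exact Subgroup.mul_mem_sup
    (Subgroup.mem_inf.2 ⟨mem_centralizer_of_conj fun y hy => (key y hy).1, hx⟩)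
    (Subgroup.mem_inf.2 ⟨mem_centralizer_of_conj fun y hy => (key y hy).2, hd⟩)

/-- `X` is conjugate under `D` into `C_D(t)`. -/
theorem exists_conj_centralizer :
    ∃ k ∈ D a t, ∀ x ∈ X, (k * x * k⁻¹) * t = t * (k * x * k⁻¹) := by
  obtain ⟨k, hk, hkc⟩ := exists_swap_invol hS hX h3
  obtain ⟨l, hl, hll⟩ := InvBy.exists_sqrt (t := t) hS.odd_card (w := k⁻¹)
    ⟨inv_mem hk.1, by rw [← conj_inv, hk.2]⟩
  have e : l * (k * t) * l⁻¹ = t := by
    have hli : t * l⁻¹ = l * t := by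
      rw [← ((conj_mem_invertedBy hS).1 hl).2]
      simp only [mul_assoc, hS.mul_self, mul_one, t_mul_cancel hS]
    have hkl : l * k * l = 1 := by
      rw [show l * k * l = l * (k * (l * l)) * l⁻¹ by group, hll]
      group
    calc l * (k * t) * l⁻¹ = l * k * (t * l⁻¹) := by group
      _ = l * k * l * t := by rw [hli, ← mul_assoc]
      _ = t := by rw [hkl, one_mul]
  refine ⟨l, hl.1, fun x hx => ?_⟩
  calc l * x * l⁻¹ * t = l * (x * (k * t)) * l⁻¹ := by nth_rewrite 1 [← e]; group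
    _ = l * ((k * t) * x) * l⁻¹ := by rw [Subgroup.mem_centralizer_iff.1 hkc x hx]
    _ = t * (l * x * l⁻¹) := by nth_rewrite 2 [← e]; group

end Fix

theorem centralizer_t_eq (hS : Cfsg.IsRankOneSetup G Ω a t Q) {s r : G}
    (hs : s ∈ Cfsg.involutionsIn (stabilizer G a : Set G)) (hr : r ∈ Q)
    (he : t * s * t = r⁻¹ * t * r) :
    D a t ⊓ Subgroup.centralizer {t} = D a t ⊓ Subgroup.centralizer {s} := by
  ext d
  rw [Subgroup.mem_inf (p := D a t), Subgroup.mem_inf (p := D a t),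
    Subgroup.mem_centralizer_singleton_iff, Subgroup.mem_centralizer_singleton_iff]
  refine and_congr_right fun hd => ⟨fun h => ?_, fun h => ?_⟩
  · obtain ⟨p, -, huniq⟩ := structure_equation hS
    have hda : d ∈ stabilizer G a := (Subgroup.mem_inf.1 hd).1
    have hsd : d * s * d⁻¹ ∈ Cfsg.involutionsIn (stabilizer G a : Set G) :=
      ⟨mul_mem (mul_mem hda hs.1) (inv_mem hda), (conj_invol hs.2.1 hs.2.2 d).1,
        (conj_invol hs.2.1 hs.2.2 d).2⟩
    have h' : d * t * d⁻¹ = t := mul_inv_eq_iff_eq_mul.2 h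
    have h1 := huniq (s, r) ⟨hs, hr, he⟩
    have h2 := huniq (d * s * d⁻¹, d * r * d⁻¹) ⟨hsd, hS.conj_mem d hda r hr, by
      show t * (d * s * d⁻¹) * t = (d * r * d⁻¹)⁻¹ * t * (d * r * d⁻¹)
      calc t * (d * s * d⁻¹) * t = (d * t * d⁻¹) * (d * s * d⁻¹) * (d * t * d⁻¹) := by rw [h']
        _ = d * (t * s * t) * d⁻¹ := by group
        _ = d * (r⁻¹ * t * r) * d⁻¹ := by rw [he]
        _ = (d * r * d⁻¹)⁻¹ * (d * t * d⁻¹) * (d * r * d⁻¹) := by group
        _ = _ := by rw [h']⟩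
    exact mul_inv_eq_iff_eq_mul.1 (congrArg Prod.fst (h2.trans h1.symm))
  · have hd' : t * d * t ∈ D a t := conj_D hS hd
    have h' : d * s * d⁻¹ = s := mul_inv_eq_iff_eq_mul.2 h
    have hdi : (t * d * t)⁻¹ = t * d⁻¹ * t := by simp only [mul_inv_rev, inv_t hS, mul_assoc]
    have e : r⁻¹ * (1 * t) * r⁻¹⁻¹ = ((t * d * t) * r⁻¹ * (t * d * t)⁻¹) *
        ((t * d * t) * d⁻¹ * t) * ((t * d * t) * r⁻¹ * (t * d * t)⁻¹)⁻¹ := by
      calc r⁻¹ * (1 * t) * r⁻¹⁻¹ = t * s * t := by rw [one_mul, inv_inv, he]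
        _ = t * (d * s * d⁻¹) * t := by rw [h']
        _ = (t * d * t) * (t * s * t) * (t * d * t)⁻¹ := by
            rw [hdi]; simp only [mul_assoc, t_mul_cancel hS]
        _ = ((t * d * t) * r⁻¹ * (t * d * t)⁻¹) * ((t * d * t) * (t * (t * d * t)⁻¹)) *
              ((t * d * t) * r⁻¹ * (t * d * t)⁻¹)⁻¹ := by rw [he]; group
        _ = _ := by rw [hdi]; simp only [mul_assoc, t_mul_cancel hS]
    have h2 := (xkt_unique hS (inv_mem hr)
      (hS.conj_mem _ (Subgroup.mem_inf.1 hd').1 _ (inv_mem hr)) (one_mem _)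
      (mul_mem hd' (inv_mem hd)) e).2
    rw [eq_comm, mul_inv_eq_one] at h2
    calc d * t = (t * d * t) * t := by rw [h2]
      _ = t * d := by rw [mul_assoc, hS.mul_self, mul_one]

theorem centralizer_t_inverted_eq (hS : Cfsg.IsRankOneSetup G Ω a t Q) :
    D a t ⊓ Subgroup.centralizer {t} ⊓ Subgroup.centralizer (Cfsg.invertedBy (D a t) t) =
      D a t ⊓ Subgroup.centralizer (Cfsg.involutionsIn (stabilizer G a : Set G)) := by
  obtain ⟨⟨s, r⟩, ⟨hs, hr, he⟩, -⟩ := structure_equation hS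
  have hVs := centralizer_t_eq hS hs hr he
  ext d
  rw [hVs, Subgroup.mem_inf (p := D a t ⊓ Subgroup.centralizer {s}),
    Subgroup.mem_inf (p := D a t), Subgroup.mem_inf (p := D a t),
    Subgroup.mem_centralizer_singleton_iff, Subgroup.mem_centralizer_iff,
    Subgroup.mem_centralizer_iff]
  constructor
  · rintro ⟨⟨hd, hds⟩, hK⟩
    refine ⟨hd, fun s' hs' => ?_⟩
    obtain ⟨k, hk, rfl⟩ := invertedBy_transitive hS hs hs'
    have hdk : d * k = k * d := (hK k hk).symm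
    have e1 : k⁻¹ * d = d * k⁻¹ := by
      rw [inv_mul_eq_iff_eq_mul, ← mul_assoc, ← hdk, mul_inv_cancel_right]
    calc k⁻¹ * s * k * d = k⁻¹ * (s * d) * k := by rw [mul_assoc _ k d, ← hdk]; group
      _ = k⁻¹ * d * s * k := by rw [← hds]; group
      _ = d * (k⁻¹ * s * k) := by rw [e1]; group
  · rintro ⟨hd, hI⟩
    refine ⟨⟨hd, (hI s hs).symm⟩, fun k hk => ?_⟩
    have hc : ∀ e ∈ D a t, Commute e s → t * e * t = e := by
      intro e hee hes
      have : e ∈ D a t ⊓ Subgroup.centralizer {t} := by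
        rw [hVs]
        exact Subgroup.mem_inf.2 ⟨hee, Subgroup.mem_centralizer_singleton_iff.2 hes.eq⟩
      have h6 : e * t = t * e :=
        Subgroup.mem_centralizer_singleton_iff.1 (Subgroup.mem_inf.1 this).2
      rw [← h6, mul_assoc, hS.mul_self, mul_one]
    have h1 : Commute (k * d * k⁻¹) s := by
      calc k * d * k⁻¹ * s = k * (d * (k⁻¹ * s * k)) * k⁻¹ := by group
        _ = k * (k⁻¹ * s * k * d) * k⁻¹ := by rw [hI _ (conj_k_mem_invol hs hk)]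
        _ = s * (k * d * k⁻¹) := by group
    have h2 := hc _ (mul_mem (mul_mem hk.1 hd) (inv_mem hk.1)) h1
    have hki := ((conj_mem_invertedBy hS).1 hk).2
    have hki' : t * k⁻¹ * t = k := by
      rw [← hki]; simp only [mul_assoc, t_mul_cancel hS, hS.mul_self, mul_one]
    have h3 : k⁻¹ * d * k = k * d * k⁻¹ := by
      calc k⁻¹ * d * k = (t * k * t) * (t * d * t) * (t * k⁻¹ * t) := by
            rw [hki, hc d hd (hI s hs).symm, hki']
        _ = t * (k * d * k⁻¹) * t := by simp only [mul_assoc, t_mul_cancel hS]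
        _ = _ := h2
    have h4 : Commute (k * k) d := by
      calc k * k * d = k * (k * d * k⁻¹) * k := by group
        _ = k * (k⁻¹ * d * k) * k := by rw [h3]
        _ = d * (k * k) := by group
    obtain ⟨n, hn⟩ := hS.odd_card
    have h5 : (k * k) ^ (n + 1) = k := by
      have h1 : k ^ Nat.card (D a t) = 1 := congrArg Subtype.val
        (pow_card_eq_one' (x := (⟨k, hk.1⟩ : D a t)))
      rw [← pow_two, ← pow_mul, show 2 * (n + 1) = 2 * n + 1 + 1 by ring, ← hn, pow_succ, h1,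
        one_mul]
    rw [← h5]
    exact (h4.pow_left (n + 1)).eq

theorem centralizer_inverted_eq_bot (hS : Cfsg.IsRankOneSetup G Ω a t Q) {x : G}
    (hx : x ∈ Cfsg.invertedBy (D a t) t) (hx1 : x ≠ 1) :
    Q ⊓ Subgroup.centralizer {x} = ⊥ := by
  rw [Subgroup.eq_bot_iff_forall]
  intro q hq
  obtain ⟨hqQ, hqc⟩ := Subgroup.mem_inf.1 hq
  by_contra hq1
  have hX : ({x} : Set G) ⊆ (D a t : Set G) := Set.singleton_subset_iff.2 hx.1
  obtain ⟨hxa, hxb⟩ := mem_D.1 hx.1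
  have hqb : q • t • a ≠ t • a := fun h => hq1 (eq_one_of_fix_b hS hqQ h)
  obtain ⟨k, hk, hkc⟩ := exists_swap_invol hS hX ⟨a, t • a, q • t • a, (b_ne hS).symm,
    (smul_ne_a hS hqQ).symm, hqb.symm, by
      rintro y rfl
      refine ⟨hxa, hxb, ?_⟩
      rw [smul_smul, ← Subgroup.mem_centralizer_singleton_iff.1 hqc, mul_smul, hxb]⟩
  have h1 : x * (k * t) = k * t * x := Subgroup.mem_centralizer_iff.1 hkc x rfl
  have h2 : k * x * k⁻¹ = x⁻¹ := by
    have e : k * t * x * (k * t)⁻¹ = x := mul_inv_eq_iff_eq_mul.2 h1.symm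
    have e' : k * x⁻¹ * k⁻¹ = x := by
      calc k * x⁻¹ * k⁻¹ = k * (t * x * t⁻¹) * k⁻¹ := by rw [hx.2]
        _ = k * t * x * (k * t)⁻¹ := by group
        _ = x := e
    calc k * x * k⁻¹ = (k * x⁻¹ * k⁻¹)⁻¹ := by group
      _ = x⁻¹ := by rw [e']
  refine hx1 (eq_one_of_sq hS hx.1 (sq_eq_one_of_inverted h2 ?_))
  exact hS.odd_card.of_dvd_nat (Subgroup.orderOf_dvd_natCard (D a t) hk.1)

/-- Two involutions commuting share their fixed point. -/
theorem fix_eq_of_commute (hS : Cfsg.IsRankOneSetup G Ω a t Q) {u v : G} (hu1 : u ≠ 1)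
    (hu2 : u * u = 1) (hv1 : v ≠ 1) (hv2 : v * v = 1) (h : u * v = v * u) {c : Ω}
    (hc : u • c = c) : v • c = c := by
  refine fix_unique hS hu1 hu2 ?_ hc
  rw [smul_smul, h, mul_smul, hc]

theorem exists_ne_one_inverted (hS : Cfsg.IsRankOneSetup G Ω a t Q)
    (h2 : ∃ x y : G, x ≠ 1 ∧ y ≠ 1 ∧ x ≠ y ∧ x * x = 1 ∧ y * y = 1 ∧ x * y = y * x) :
    ∃ k ∈ Cfsg.invertedBy (D a t) t, k ≠ 1 := by
  obtain ⟨x, y, hx1, hy1, hxy, hx2, hy2, hc⟩ := h2
  obtain ⟨c, hcx, -⟩ := exists_fix hS hx1 hx2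
  have hcy := fix_eq_of_commute hS hx1 hx2 hy1 hy2 hc hcx
  obtain ⟨g, hg⟩ := exists_moves hS c
  have mk : ∀ z : G, z ≠ 1 → z * z = 1 → z • c = c →
      g⁻¹ * z * g ∈ Cfsg.involutionsIn (stabilizer G a : Set G) := by
    intro z hz1 hz2 hzc
    have h := conj_invol hz1 hz2 g⁻¹
    rw [inv_inv] at h
    refine ⟨?_, h.1, h.2⟩
    rw [SetLike.mem_coe, mem_stabilizer_iff, mul_smul, mul_smul, hg, hzc, inv_smul_eq_iff, hg]
  obtain ⟨k, hk, hke⟩ := invertedBy_transitive hS (mk x hx1 hx2 hcx) (mk y hy1 hy2 hcy)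
  refine ⟨k, hk, fun h => hxy ?_⟩
  rw [h, inv_one, one_mul, mul_one] at hke
  exact mul_left_cancel (mul_right_cancel hke)

theorem Q_nilpotent (hS : Cfsg.IsRankOneSetup G Ω a t Q)
    (h2 : ∃ x y : G, x ≠ 1 ∧ y ≠ 1 ∧ x ≠ y ∧ x * x = 1 ∧ y * y = 1 ∧ x * y = y * x) :
    Group.IsNilpotent Q := by
  obtain ⟨k₀, hk₀, hk₀1⟩ := exists_ne_one_inverted hS h2
  obtain ⟨p, hp, hpd⟩ := Nat.exists_prime_and_dvd
    (fun h : orderOf k₀ = 1 => hk₀1 (orderOf_eq_one_iff.1 h))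
  have hk : k₀ ^ (orderOf k₀ / p) ∈ Cfsg.invertedBy (D a t) t := by
    refine ⟨pow_mem hk₀.1 _, ?_⟩
    rw [← conj_pow, hk₀.2, inv_pow]
  have ho : orderOf (k₀ ^ (orderOf k₀ / p)) = p := orderOf_pow_orderOf_div (orderOf_pos k₀).ne' hpd
  generalize k₀ ^ (orderOf k₀ / p) = k at hk ho
  have hk1 : k ≠ 1 := fun h => by rw [h, orderOf_one] at ho; exact hp.one_lt.ne ho
  have hka : k ∈ stabilizer G a := (Subgroup.mem_inf.1 hk.1).1
  have hN : k ∈ Subgroup.normalizer (Q : Set G) := Subgroup.mem_set_normalizer_iff.2 fun x =>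
    ⟨hS.conj_mem k hka x, fun hx => by
      have := hS.conj_mem k⁻¹ (inv_mem hka) _ hx
      rwa [show k⁻¹ * (k * x * k⁻¹) * k⁻¹⁻¹ = x by group] at this⟩
  refine CfsgLib.Complement.isNilpotent_of_fpf Q (Q.normalizerMonoidHom ⟨k, hN⟩) p hp ?_ ?_
  · rw [← map_pow]
    refine (congrArg Q.normalizerMonoidHom (Subtype.ext ?_ : (⟨k, hN⟩ : Subgroup.normalizer
      (Q : Set G)) ^ p = 1)).trans (map_one _)
    show k ^ p = 1
    rw [← ho, pow_orderOf_eq_one]
  · intro x hx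
    have h1 : k * (x : G) * k⁻¹ = x := congrArg Subtype.val hx
    have : (x : G) ∈ Q ⊓ Subgroup.centralizer {k} := Subgroup.mem_inf.2
      ⟨x.2, Subgroup.mem_centralizer_singleton_iff.2 (mul_inv_eq_iff_eq_mul.1 h1).symm⟩
    rw [centralizer_inverted_eq_bot hS hk hk1, Subgroup.mem_bot] at this
    exact Subtype.ext this

theorem exists_central_invol {M : Type*} [Group M] [Finite M] [Group.IsNilpotent M]
    (h : Even (Nat.card M)) : ∃ z ∈ Subgroup.center M, z ≠ 1 ∧ z * z = 1 := by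
  have : Fact (Nat.Prime 2) := ⟨Nat.prime_two⟩
  obtain ⟨P⟩ : Nonempty (Sylow 2 M) := inferInstance
  have hne : (P : Subgroup M) ≠ ⊥ := P.ne_bot_of_dvd_card (even_iff_two_dvd.1 h)
  have hPn : (P : Subgroup M).Normal :=
    Sylow.normal_of_normalizerCondition Group.normalizerCondition_of_isNilpotent P
  obtain ⟨⟨z, hz⟩, hz1'⟩ := Subgroup.ne_bot_iff_exists_ne_one.1
    (CfsgLib.Solvable.normal_inf_center_ne_bot (P : Subgroup M) hne)
  have hz1 : z ≠ 1 := fun e => hz1' (Subtype.ext e)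
  obtain ⟨n, hn⟩ := P.2 ⟨z, (Subgroup.mem_inf.1 hz).1⟩
  have hzn : z ^ 2 ^ n = 1 := congrArg Subtype.val hn
  obtain ⟨j, hj, hjn⟩ : ∃ j, z ^ 2 ^ (j + 1) = 1 ∧ z ^ 2 ^ j ≠ 1 := by
    clear hn
    induction n with
    | zero => rw [pow_zero, pow_one] at hzn; exact absurd hzn hz1
    | succ n ih =>
      by_cases hc : z ^ 2 ^ n = 1
      · exact ih hc
      · exact ⟨n, hzn, hc⟩
  refine ⟨z ^ 2 ^ j, pow_mem (Subgroup.mem_inf.1 hz).2 _, hjn, ?_⟩
  rw [← pow_add, ← two_mul, ← pow_succ', hj]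

theorem invol_central (hS : Cfsg.IsRankOneSetup G Ω a t Q)
    (h2 : ∃ x y : G, x ≠ 1 ∧ y ≠ 1 ∧ x ≠ y ∧ x * x = 1 ∧ y * y = 1 ∧ x * y = y * x)
    {s : G} (hs : s ∈ Cfsg.involutionsIn (stabilizer G a : Set G)) {x : G} (hx : x ∈ Q) :
    s * x = x * s := by
  have := Q_nilpotent hS h2
  obtain ⟨z, hz, hz1, hz2⟩ := exists_central_invol (M := Q) hS.even_card
  obtain ⟨k, hk, rfl⟩ := invertedBy_transitive hS (s := (z : G))
    ⟨hS.le z.2, fun e => hz1 (Subtype.ext e), congrArg Subtype.val hz2⟩ hs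
  have hkx : k * x * k⁻¹ ∈ Q := hS.conj_mem k (Subgroup.mem_inf.1 hk.1).1 x hx
  have h1 : k * x * k⁻¹ * z = z * (k * x * k⁻¹) :=
    congrArg Subtype.val (Subgroup.mem_center_iff.1 hz ⟨_, hkx⟩)
  calc k⁻¹ * z * k * x = k⁻¹ * (z * (k * x * k⁻¹)) * k := by group
    _ = k⁻¹ * (k * x * k⁻¹ * z) * k := by rw [h1]
    _ = x * (k⁻¹ * z * k) := by group

theorem invol_mul (hS : Cfsg.IsRankOneSetup G Ω a t Q)
    (h2 : ∃ x y : G, x ≠ 1 ∧ y ≠ 1 ∧ x ≠ y ∧ x * x = 1 ∧ y * y = 1 ∧ x * y = y * x)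
    {s s' : G} (hs : s ∈ Cfsg.involutionsIn (stabilizer G a : Set G))
    (hs' : s' ∈ Cfsg.involutionsIn (stabilizer G a : Set G)) :
    s * s' * (s * s') = 1 := by
  have h := invol_central hS h2 hs (invol_mem_Q hS hs'.1 hs'.2.2)
  calc s * s' * (s * s') = s * (s' * s) * s' := by group
    _ = s * (s * s') * s' := by rw [h]
    _ = (s * s) * (s' * s') := by group
    _ = 1 := by rw [hs.2.2, hs'.2.2, one_mul]

/-- Two involutions with product not of order dividing two fix different points. -/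
theorem fix_ne_of_sq_ne (hS : Cfsg.IsRankOneSetup G Ω a t Q)
    (h2 : ∃ x y : G, x ≠ 1 ∧ y ≠ 1 ∧ x ≠ y ∧ x * x = 1 ∧ y * y = 1 ∧ x * y = y * x)
    {u v : G} (hu1 : u ≠ 1) (hu2 : u * u = 1) (hv1 : v ≠ 1) (hv2 : v * v = 1)
    (hx : (u * v) * (u * v) ≠ 1) {c : Ω} (hc : u • c = c) : v • c ≠ c := by
  intro hvc
  obtain ⟨g, hg⟩ := exists_moves hS c
  have mk : ∀ z : G, z ≠ 1 → z * z = 1 → z • c = c →
      g⁻¹ * z * g ∈ Cfsg.involutionsIn (stabilizer G a : Set G) := by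
    intro z hz1 hz2 hzc
    have h := conj_invol hz1 hz2 g⁻¹
    rw [inv_inv] at h
    refine ⟨?_, h.1, h.2⟩
    rw [SetLike.mem_coe, mem_stabilizer_iff, mul_smul, mul_smul, hg, hzc, inv_smul_eq_iff, hg]
  have h := invol_mul hS h2 (mk u hu1 hu2 hc) (mk v hv1 hv2 hvc)
  refine hx ?_
  have e : u * v * (u * v)
      = g * (g⁻¹ * u * g * (g⁻¹ * v * g) * (g⁻¹ * u * g * (g⁻¹ * v * g))) * g⁻¹ := by group
  rw [e, h]
  group

theorem exists_conj_product (hS : Cfsg.IsRankOneSetup G Ω a t Q)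
    (h2 : ∃ x y : G, x ≠ 1 ∧ y ≠ 1 ∧ x ≠ y ∧ x * x = 1 ∧ y * y = 1 ∧ x * y = y * x)
    {u v : G} (hu1 : u ≠ 1) (hu2 : u * u = 1) (hv1 : v ≠ 1) (hv2 : v * v = 1)
    (hx : (u * v) * (u * v) ≠ 1) :
    ∃ g : G, ∃ u' ∈ Cfsg.involutionsIn (stabilizer G a : Set G),
      g * (u * v) * g⁻¹ = u' * t := by
  obtain ⟨c, hc, -⟩ := exists_fix hS hu1 hu2
  have hvc := fix_ne_of_sq_ne hS h2 hu1 hu2 hv1 hv2 hx hc
  obtain ⟨g, hg⟩ := exists_moves hS c
  have hu' := conj_invol hu1 hu2 g⁻¹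
  have hv' := conj_invol hv1 hv2 g⁻¹
  rw [inv_inv] at hu' hv'
  have hua : g⁻¹ * u * g ∈ stabilizer G a := by
    rw [mem_stabilizer_iff, mul_smul, mul_smul, hg, hc, inv_smul_eq_iff, hg]
  have hva : g⁻¹ * v * g ∉ stabilizer G a := by
    rw [mem_stabilizer_iff, mul_smul, mul_smul, hg, inv_smul_eq_iff, hg]
    exact hvc
  obtain ⟨x, hxQ, k, hk, hxk⟩ := exists_xkt hS hva hv'.2
  obtain ⟨l, hl, hll⟩ := InvBy.exists_sqrt (t := t) hS.odd_card (w := k⁻¹)
    ⟨inv_mem hk.1, by rw [← conj_inv, hk.2]⟩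
  have e : l * (k * t) * l⁻¹ = t := by
    have hli : t * l⁻¹ = l * t := by
      rw [← ((conj_mem_invertedBy hS).1 hl).2]
      simp only [mul_assoc, hS.mul_self, mul_one, t_mul_cancel hS]
    have hkl : l * k * l = 1 := by
      rw [show l * k * l = l * (k * (l * l)) * l⁻¹ by group, hll]
      group
    calc l * (k * t) * l⁻¹ = l * k * (t * l⁻¹) := by group
      _ = l * k * l * t := by rw [hli, ← mul_assoc]
      _ = t := by rw [hkl, one_mul]
  have hh : l * x⁻¹ ∈ stabilizer G a :=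
    mul_mem (Subgroup.mem_inf.1 hl.1).1 (inv_mem (hS.le hxQ))
  refine ⟨l * x⁻¹ * g⁻¹, (l * x⁻¹) * (g⁻¹ * u * g) * (l * x⁻¹)⁻¹,
    ⟨mul_mem (mul_mem hh hua) (inv_mem hh), conj_invol hu'.1 hu'.2 _⟩, ?_⟩
  calc l * x⁻¹ * g⁻¹ * (u * v) * (l * x⁻¹ * g⁻¹)⁻¹
      = (l * x⁻¹) * (g⁻¹ * u * g) * (g⁻¹ * v * g) * (l * x⁻¹)⁻¹ := by group
    _ = (l * x⁻¹) * (g⁻¹ * u * g) * (l * x⁻¹)⁻¹ * (l * (k * t) * l⁻¹) := by rw [hxk]; group
    _ = _ := by rw [e]

theorem odd_centralizer_product (hS : Cfsg.IsRankOneSetup G Ω a t Q)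
    (h2 : ∃ x y : G, x ≠ 1 ∧ y ≠ 1 ∧ x ≠ y ∧ x * x = 1 ∧ y * y = 1 ∧ x * y = y * x)
    {u v : G} (hu1 : u ≠ 1) (hu2 : u * u = 1) (hv1 : v ≠ 1) (hv2 : v * v = 1)
    (hx : (u * v) * (u * v) ≠ 1) :
    Odd (Nat.card ↥(Subgroup.centralizer {u * v})) := by
  by_contra hev
  rw [Nat.not_odd_iff_even] at hev
  obtain ⟨z, hz, hzo⟩ := exists_invol_mem hev
  rw [Subgroup.mem_centralizer_singleton_iff] at hz
  have hu' := invol_of_mul_self hu2 hu1
  have hconj : u * (u * v) * u⁻¹ = (u * v)⁻¹ :=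
    conj_left_mul hu' (invol_of_mul_self hv2 hv1)
  rcases Nat.even_or_odd (orderOf (u * z)) with he | ho
  · obtain ⟨w, hw, hwu, hwz⟩ := exists_commute_both hu' hzo he
    obtain ⟨c, hc, -⟩ := exists_fix hS (invol_ne_one hw) (invol_mul_self hw)
    have huc := fix_eq_of_commute hS (invol_ne_one hw) (invol_mul_self hw) hu1 hu2 hwu.eq hc
    have hzc := fix_eq_of_commute hS (invol_ne_one hw) (invol_mul_self hw) (invol_ne_one hzo)
      (invol_mul_self hzo) hwz.eq hc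
    have hxc : (u * v) • c = c := by
      refine fix_unique hS (invol_ne_one hzo) (invol_mul_self hzo) ?_ hzc
      rw [smul_smul, hz, mul_smul, hzc]
    refine fix_ne_of_sq_ne hS h2 hu1 hu2 hv1 hv2 hx huc ?_
    rw [mul_smul] at hxc
    rw [← smul_left_cancel_iff u, hxc, huc]
  · refine hx (sq_eq_one_of_inverted (y := u * z) ?_ ho)
    calc u * z * (u * v) * (u * z)⁻¹ = u * (z * (u * v) * z⁻¹) * u⁻¹ := by group
      _ = u * (u * v) * u⁻¹ := by rw [hz, mul_inv_cancel_right]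
      _ = (u * v)⁻¹ := hconj

/-- Conjugacy in `G` of subsets of `C_D(t)` is controlled by `C_D(t)`. -/
theorem centralizer_t_control (hS : Cfsg.IsRankOneSetup G Ω a t Q) {X : Set G}
    (hX : X ⊆ ((D a t ⊓ Subgroup.centralizer {t} : Subgroup G) : Set G)) (g : G)
    (hY : (fun x => g * x * g⁻¹) '' X ⊆
      ((D a t ⊓ Subgroup.centralizer {t} : Subgroup G) : Set G)) :
    ∃ v ∈ D a t ⊓ Subgroup.centralizer {t},
      (fun x => v * x * v⁻¹) '' X = (fun x => g * x * g⁻¹) '' X := by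
  obtain ⟨Y, hYdef⟩ : ∃ Y, Y = (fun x => g * x * g⁻¹) '' X := ⟨_, rfl⟩
  rw [← hYdef] at hY ⊢
  have hYD : Y ⊆ (D a t : Set G) := fun y hy => (Subgroup.mem_inf.1 (hY hy)).1
  have hXD : X ⊆ (D a t : Set G) := fun y hy => (Subgroup.mem_inf.1 (hX hy)).1
  obtain ⟨c₀, hc₀, huniq⟩ := exists_fix hS hS.ne_one hS.mul_self
  have hc₀a : a ≠ c₀ := fun h => b_ne hS (by rw [h, hc₀])
  have hc₀b : t • a ≠ c₀ := fun h => hc₀a ((smul_left_cancel t (h.trans hc₀.symm)))
  have hYt : ∀ y ∈ Y, y * t = t * y := fun y hy =>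
    Subgroup.mem_centralizer_singleton_iff.1 (Subgroup.mem_inf.1 (hY hy)).2
  have h3 : ∃ b c d : Ω, b ≠ c ∧ b ≠ d ∧ c ≠ d ∧ ∀ y ∈ Y, y • b = b ∧ y • c = c ∧ y • d = d :=
    ⟨a, t • a, c₀, (b_ne hS).symm, hc₀a, hc₀b, fun y hy =>
      ⟨(mem_D.1 (hYD hy)).1, (mem_D.1 (hYD hy)).2, huniq _ (by
        rw [smul_smul, ← hYt y hy, mul_smul, hc₀])⟩⟩
  have hmem : ∀ x ∈ X, g * x * g⁻¹ ∈ Y := fun x hx => by rw [hYdef]; exact ⟨x, hx, rfl⟩
  have hg : ∀ y ∈ Y, y • g • a = g • a ∧ y • g • t • a = g • t • a ∧ y • a = a ∧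
      y • t • a = t • a := by
    rw [hYdef]
    rintro _ ⟨x, hx, rfl⟩
    have h := mem_D.1 (hXD hx)
    have h' := mem_D.1 (hYD (hmem x hx))
    refine ⟨?_, ?_, h'.1, h'.2⟩
    · rw [mul_smul, mul_smul, inv_smul_smul, h.1]
    · rw [mul_smul, mul_smul, inv_smul_smul, h.2]
  obtain ⟨c, hc, hca, hcb⟩ := centralizer_two_trans hS hYD h3 hg
    (fun h => b_ne hS (smul_left_cancel g h).symm) (b_ne hS).symm
  have hgD : c * g ∈ D a t :=
    mem_D.2 ⟨by rw [mul_smul]; exact hca, by rw [mul_smul]; exact hcb⟩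
  obtain ⟨v, hv, k, hk, hvk⟩ := InvBy.exists_decomp (t := t) hS.mul_self hS.odd_card
    (fun x hx => by rw [inv_t hS]; exact conj_D hS hx) hgD
  obtain ⟨hvD, hvt⟩ := InvBy.mem_cent_iff.1 hv
  have hconj : ∀ x ∈ X, (v * k) * x * (v * k)⁻¹ = g * x * g⁻¹ := by
    intro x hx
    have hy : g * x * g⁻¹ ∈ Y := hmem x hx
    have := Subgroup.mem_centralizer_iff.1 hc _ hy
    rw [← hvk]
    calc c * g * x * (c * g)⁻¹ = c * (g * x * g⁻¹) * c⁻¹ := by group
      _ = g * x * g⁻¹ := by rw [← this, mul_inv_cancel_right]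
  have hkx : ∀ x ∈ X, Commute k x := by
    intro x hx
    have hxt : x * t = t * x :=
      Subgroup.mem_centralizer_singleton_iff.1 (Subgroup.mem_inf.1 (hX hx)).2
    have hy : g * x * g⁻¹ ∈ Y := hmem x hx
    have h1 : (v * k⁻¹) * x * (v * k⁻¹)⁻¹ = g * x * g⁻¹ := by
      have e1 : t * (v * k) * t⁻¹ = v * k⁻¹ := by
        calc t * (v * k) * t⁻¹ = (t * v * t⁻¹) * (t * k * t⁻¹) := by group
          _ = v * k⁻¹ := by rw [hvt, hk.2]
      calc (v * k⁻¹) * x * (v * k⁻¹)⁻¹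
          = t * (v * k) * t⁻¹ * (t * x * t⁻¹) * (t * (v * k) * t⁻¹)⁻¹ := by
            rw [e1, ← hxt, mul_inv_cancel_right]
        _ = t * ((v * k) * x * (v * k)⁻¹) * t⁻¹ := by group
        _ = g * x * g⁻¹ := by rw [hconj x hx, ← hYt _ hy, mul_inv_cancel_right]
    have h2 : k * x * k⁻¹ = k⁻¹ * x * k := by
      have h3 := h1.trans (hconj x hx).symm
      calc k * x * k⁻¹ = v⁻¹ * (v * k * x * (v * k)⁻¹) * v := by group
        _ = v⁻¹ * (v * k⁻¹ * x * (v * k⁻¹)⁻¹) * v := by rw [h3]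
        _ = k⁻¹ * x * k := by group
    have h4 : Commute (k * k) x := by
      calc k * k * x = k * (k * x * k⁻¹) * k := by group
        _ = k * (k⁻¹ * x * k) * k := by rw [h2]
        _ = x * (k * k) := by group
    obtain ⟨n, hn⟩ := hS.odd_card
    have h5 : (k * k) ^ (n + 1) = k := by
      have h1 : k ^ Nat.card (D a t) = 1 := congrArg Subtype.val
        (pow_card_eq_one' (x := (⟨k, hk.1⟩ : D a t)))
      rw [← pow_two, ← pow_mul, show 2 * (n + 1) = 2 * n + 1 + 1 by ring, ← hn, pow_succ, h1,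
        one_mul]
    rw [← h5]
    exact h4.pow_left (n + 1)
  refine ⟨v, hv, ?_⟩
  rw [hYdef]
  refine Set.image_congr fun x hx => ?_
  rw [← hconj x hx]
  calc v * x * v⁻¹ = v * (x * k) * k⁻¹ * v⁻¹ := by group
    _ = v * (k * x) * k⁻¹ * v⁻¹ := by rw [(hkx x hx).eq]
    _ = v * k * x * (v * k)⁻¹ := by group

/-- The largest normal subgroup of odd order is the kernel of the action. -/
theorem odd_normal_le (hS : Cfsg.IsRankOneSetup G Ω a t Q)
    (h2 : ∃ x y : G, x ≠ 1 ∧ y ≠ 1 ∧ x ≠ y ∧ x * x = 1 ∧ y * y = 1 ∧ x * y = y * x)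
    {N : Subgroup G} [N.Normal] (hN : Odd (Nat.card N)) : N ≤ stabilizer G a := by
  obtain ⟨x, y, hx1, hy1, hxy, hx2, hy2, hcom⟩ := h2
  obtain ⟨c, hc, -⟩ := exists_fix hS hx1 hx2
  have hcy := fix_eq_of_commute hS hx1 hx2 hy1 hy2 hcom hc
  let A : Subgroup G := Subgroup.closure {x, y}
  have hgen : ∀ p ∈ ({x, y} : Set G), ∀ q ∈ ({x, y} : Set G), p * q = q * p := by
    rintro p (rfl | rfl) q (rfl | rfl) <;> first | rfl | exact hcom | exact hcom.symm
  have hAab : IsMulCommutative A := Subgroup.isMulCommutative_closure hgen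
  have hform : ∀ z ∈ A, z = 1 ∨ z = x ∨ z = y ∨ z = x * y := by
    have hxx : ∀ w : G, x * (x * w) = w := fun w => by rw [← mul_assoc, hx2, one_mul]
    have hyy : ∀ w : G, y * (y * w) = w := fun w => by rw [← mul_assoc, hy2, one_mul]
    have hyx : ∀ w : G, y * (x * w) = x * (y * w) := fun w => by
      rw [← mul_assoc, ← hcom, mul_assoc]
    intro z hz
    induction hz using Subgroup.closure_induction with
    | mem w hw =>
      rcases hw with rfl | rfl <;> simp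
    | one => simp
    | mul p q _ _ hp hq =>
      rcases hp with rfl | rfl | rfl | rfl <;> rcases hq with rfl | rfl | rfl | rfl <;>
        simp only [mul_assoc, one_mul, mul_one, hx2, hy2, hxx, hyy, hyx, ← hcom, true_or, or_true,
          eq_self_iff_true]
    | inv p _ hp =>
      rcases hp with rfl | rfl | rfl | rfl
      · simp
      · right; left; exact inv_eq_of_mul_eq_one_right hx2
      · right; right; left; exact inv_eq_of_mul_eq_one_right hy2
      · right; right; right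
        rw [mul_inv_rev, inv_eq_of_mul_eq_one_right hx2, inv_eq_of_mul_eq_one_right hy2, hcom]
  have hsq : ∀ z ∈ A, z * z = 1 ∧ z • c = c := by
    intro z hz
    rcases hform z hz with rfl | rfl | rfl | rfl
    · simp
    · exact ⟨hx2, hc⟩
    · exact ⟨hy2, hcy⟩
    · refine ⟨?_, by rw [mul_smul, hcy, hc]⟩
      rw [mul_assoc, ← mul_assoc y, ← hcom, mul_assoc x y y, hy2, mul_one, hx2]
  have hA2 : IsPGroup 2 A := fun z => ⟨1, Subtype.ext (by
    show (z : G) ^ (2 ^ 1) = 1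
    rw [pow_one, pow_two]; exact (hsq z z.2).1)⟩
  have hnc : ¬ IsCyclic A := by
    intro hcyc
    obtain ⟨g, hg⟩ := hcyc.exists_generator
    have hgg : g * g = 1 := Subtype.ext (hsq g g.2).1
    have key : ∀ z : A, z = 1 ∨ z = g := by
      intro z
      obtain ⟨n, rfl⟩ := Subgroup.mem_zpowers_iff.1 (hg z)
      rcases Int.even_or_odd' n with ⟨m, rfl | rfl⟩
      · left; rw [zpow_mul, zpow_two, hgg, one_zpow]
      · right; rw [zpow_add, zpow_mul, zpow_two, hgg, one_zpow, one_mul, zpow_one]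
    rcases key ⟨x, Subgroup.subset_closure (by simp)⟩ with hx | hx
    · exact hx1 (congrArg Subtype.val hx)
    rcases key ⟨y, Subgroup.subset_closure (by simp)⟩ with hy | hy
    · exact hy1 (congrArg Subtype.val hy)
    · exact hxy (congrArg Subtype.val (hx.trans hy.symm))
  have hcop : (Nat.card A).Coprime (Nat.card N) := by
    have : Fact (Nat.Prime 2) := ⟨Nat.prime_two⟩
    obtain ⟨n, hn⟩ := hA2.exists_card_eq
    rw [hn]
    exact Nat.Coprime.pow_left n (Nat.coprime_two_left.2 hN)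
  have hAN : A ≤ Subgroup.normalizer (N : Set G) := (Subgroup.normalizer_eq_top N).symm ▸ le_top
  have hNc : N ≤ stabilizer G c := by
    rw [← CfsgLib.Coprime.iSup_centralizer_eq hAab hnc hAN hcop]
    refine iSup_le fun z n hn => ?_
    obtain ⟨hz, hz1⟩ := z.2
    have hzn := Subgroup.mem_centralizer_singleton_iff.1 (Subgroup.mem_inf.1 hn).2
    refine mem_stabilizer_iff.2 (fix_unique hS hz1 (hsq _ hz).1 ?_ (hsq _ hz).2)
    rw [smul_smul, ← hzn, mul_smul, (hsq _ hz).2]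
  intro n hn
  obtain ⟨g, hg⟩ := exists_moves hS c
  have h1 := mem_stabilizer_iff.1 (hNc ((inferInstance : N.Normal).conj_mem n hn g))
  rw [mem_stabilizer_iff]
  rw [← hg, mul_smul, mul_smul, inv_smul_smul] at h1
  exact smul_left_cancel g h1

/-- A normal subgroup inside `G_a` has odd order. -/
theorem odd_of_normal_le (hS : Cfsg.IsRankOneSetup G Ω a t Q)
    {N : Subgroup G} [hN : N.Normal] (hle : N ≤ stabilizer G a) : Odd (Nat.card N) := by
  by_contra h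
  rw [Nat.not_odd_iff_even] at h
  obtain ⟨u, hu, huo⟩ := exists_invol_mem h
  have hb : u • t • a = t • a := by
    have := mem_stabilizer_iff.1 (hle (hN.conj_mem u hu t))
    rw [inv_t hS, mul_smul, mul_smul] at this
    rw [← smul_left_cancel_iff t, this, t_b hS]
  exact b_ne hS (fix_unique hS (invol_ne_one huo) (invol_mul_self huo) hb
    (mem_stabilizer_iff.1 (hle hu)))

end CfsgLib.Chev.RankOne
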