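import Mathlib

/-!
Algebra for Suzuki 2-groups: fields from regular cyclic actions, equivariant bilinear maps, quadratic
power maps, and isomorphisms of central extensions with the same squaring map.
-/

set_option autoImplicit false

namespace CfsgLib.Chev.SuzTwo

open Polynomial

/-- A commutative group regular on the non-zero vectors of an elementary abelian 2-group is the
multiplicative group of a field structure. -/
theorem singer {V : Type*} [AddCommGroup V] [Finite V] (h2 : ∀ v : V, v + v = 0)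
    {K : Type*} [Group K] (hcomm : ∀ a b : K, a * b = b * a) (ρ : K →* AddMonoid.End V)
    (hreg : ∀ v w : V, v ≠ 0 → w ≠ 0 → ∃! k : K, ρ k v = w) {e₀ : V} (he₀ : e₀ ≠ 0) :
    ∃ n : ℕ, n ≠ 0 ∧ Nat.card V = 2 ^ n ∧ ∃ (e : V ≃+ GaloisField 2 n) (χ : K ≃* (GaloisField 2 n)ˣ),
      e e₀ = 1 ∧ ∀ k v, e (ρ k v) = (χ k : GaloisField 2 n) * e v := by
  classical
  set S : Set (AddMonoid.End V) := Set.range ρ with hS
  set R := Subring.closure S with hR
  have hSS : ∀ a ∈ S, ∀ b ∈ S, a * b = b * a := by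
    rintro _ ⟨a, rfl⟩ _ ⟨b, rfl⟩
    rw [← map_mul, ← map_mul, hcomm]
  letI instR : CommRing R := Subring.closureCommRingOfComm hSS
  have hmem : ∀ k, ρ k ∈ R := fun k => Subring.subset_closure ⟨k, rfl⟩
  have hcommR : ∀ (r : R) (k : K) (v : V), (r : AddMonoid.End V) (ρ k v) = ρ k ((r : AddMonoid.End V) v) :=
    fun r k v => by
      have := congrArg Subtype.val (mul_comm r ⟨ρ k, hmem k⟩)
      exact DFunLike.congr_fun this v
  have hker : ∀ (r : R) (v : V), v ≠ 0 → (r : AddMonoid.End V) v = 0 → r = 0 := by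
    intro r v hv hr
    refine Subtype.ext (DFunLike.ext _ _ fun w => ?_)
    show (r : AddMonoid.End V) w = 0
    by_cases hw : w = 0
    · rw [hw, map_zero]
    · obtain ⟨k, hk, -⟩ := hreg v w hv hw
      rw [← hk, hcommR, hr, map_zero]
  have : Nontrivial R := by
    refine ⟨⟨1, 0, fun h => he₀ ?_⟩⟩
    exact congrArg (fun r : R => (r : AddMonoid.End V) e₀) h
  have : NoZeroDivisors R := ⟨fun {a b} hab => by
    by_cases hb : (b : AddMonoid.End V) e₀ = 0
    · exact Or.inr (hker b e₀ he₀ hb)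
    · refine Or.inl (hker a _ hb ?_)
      exact congrArg (fun r : R => (r : AddMonoid.End V) e₀) hab⟩
  have hdom : IsDomain R := NoZeroDivisors.to_isDomain R
  let ev : R →+ V :=
    { toFun := fun r => (r : AddMonoid.End V) e₀
      map_zero' := rfl
      map_add' := fun _ _ => rfl }
  have hinj : Function.Injective ev := (injective_iff_map_eq_zero ev).2 fun r hr => hker r e₀ he₀ hr
  have hsurj : Function.Surjective ev := by
    intro w
    by_cases hw : w = 0
    · exact ⟨0, by rw [hw, map_zero]⟩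
    · obtain ⟨k, hk, -⟩ := hreg e₀ w he₀ hw
      exact ⟨⟨ρ k, hmem k⟩, hk⟩
  let evE : R ≃+ V := AddEquiv.ofBijective ev ⟨hinj, hsurj⟩
  have : Finite R := Finite.of_equiv V evE.symm.toEquiv
  letI := Fintype.ofFinite R
  letI : Field R := Fintype.fieldOfDomain R
  have h20 : (2 : R) = 0 := hinj (by
    rw [show (2 : R) = 1 + 1 by norm_num, map_add, map_zero, h2])
  haveI : CharP R 2 := CharTwo.of_one_ne_zero_of_two_eq_zero one_ne_zero h20
  obtain ⟨n, -, hn⟩ := FiniteField.card R 2
  have hV : Nat.card V = 2 ^ (n : ℕ) := by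
    rw [← Nat.card_congr evE.toEquiv, Nat.card_eq_fintype_card, hn]
  refine ⟨n, n.2.ne', hV, ?_⟩
  letI : Algebra (ZMod 2) R := ZMod.algebra R 2
  let ψ : R ≃ₐ[ZMod 2] GaloisField 2 n := GaloisField.algEquivGaloisFieldOfFintype 2 (n : ℕ) (K := R) hn
  let e : V ≃+ GaloisField 2 n := evE.symm.trans ψ.toRingEquiv.toAddEquiv
  have he : ∀ r : R, e ((r : AddMonoid.End V) e₀) = ψ r := fun r => by
    show ψ (evE.symm (evE r)) = _
    rw [evE.symm_apply_apply]
  let χ₀ : K →* (GaloisField 2 n)ˣ := MonoidHom.toHomUnits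
    ((ψ : R →* GaloisField 2 n).comp (ρ.codRestrict R hmem))
  have hχ : ∀ k, (χ₀ k : GaloisField 2 n) = ψ ⟨ρ k, hmem k⟩ := fun k => rfl
  have hbij : Function.Bijective χ₀ := by
    constructor
    · intro a b hab
      have h := congrArg (fun u : (GaloisField 2 n)ˣ => (u : GaloisField 2 n)) hab
      simp only [hχ] at h
      have h' := congrArg (fun r : R => (r : AddMonoid.End V) e₀) (ψ.injective h)
      by_cases hz : ρ b e₀ = 0
      · exfalso
        have : (⟨ρ b, hmem b⟩ : R) = 0 := hker _ e₀ he₀ hz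
        have hb := hχ b
        rw [this, map_zero] at hb
        exact (χ₀ b).ne_zero hb
      · exact (hreg e₀ (ρ b e₀) he₀ hz).unique h' rfl
    · intro u
      obtain ⟨r, hr⟩ := ψ.surjective (u : GaloisField 2 n)
      have hr0 : (r : AddMonoid.End V) e₀ ≠ 0 := fun hz => u.ne_zero (by
        rw [← hr, hker r e₀ he₀ hz, map_zero])
      obtain ⟨k, hk, -⟩ := hreg e₀ _ he₀ hr0
      refine ⟨k, Units.ext ?_⟩
      rw [hχ, ← hr]
      exact congrArg ψ (hinj hk)
  refine ⟨e, MulEquiv.ofBijective χ₀ hbij, ?_, fun k v => ?_⟩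
  · have h := he 1
    rw [map_one] at h
    exact h
  · obtain ⟨r, rfl⟩ := hsurj v
    show e (((⟨ρ k, hmem k⟩ * r : R) : AddMonoid.End V) e₀) = _ * e ((r : AddMonoid.End V) e₀)
    rw [he, he, map_mul]
    rfl

/-- An equivariant bilinear map with vanishing diagonal is zero. -/
theorem bilin_zero {F : Type*} [Field F] [Finite F] [CharP F 2] (B : F → F → F)
    (hl : ∀ u v x, B (u + v) x = B u x + B v x) (hr : ∀ u x y, B u (x + y) = B u x + B u y)
    (hdiag : ∀ u, B u u = 0) (hsm : ∀ l u x, l ≠ 0 → B (l * u) (l * x) = l * B u x)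
    (u x : F) : B u x = 0 := by
  have h2 : (2 : F) = 0 := CharTwo.two_eq_zero
  have hsymm : ∀ u x, B u x = B x u := by
    intro u x
    have h := hdiag (u + x)
    rw [hl, hr, hr, hdiag, hdiag] at h
    linear_combination h - B x u * h2
  have hr0 : ∀ u, B u 0 = 0 := fun u => by
    have h := hr u 0 0
    rw [add_zero] at h
    linear_combination -h
  set D : F → F := fun t => B 1 (t ^ 2) with hD
  have hDadd : ∀ s t, D (s + t) = D s + D t := fun s t => by
    simp only [hD]
    rw [← hr, show (s + t) ^ 2 = s ^ 2 + t ^ 2 by linear_combination s * t * h2]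
  have hDinv : ∀ t, t ≠ 0 → D t⁻¹ = (t ^ 2)⁻¹ * D t := by
    intro t ht
    simp only [hD]
    have h := hsm (t ^ 2)⁻¹ (t ^ 2) 1 (inv_ne_zero (pow_ne_zero 2 ht))
    rw [inv_mul_cancel₀ (pow_ne_zero 2 ht), mul_one, hsymm (t ^ 2) 1] at h
    rw [inv_pow]
    exact h
  have hD1 : D 1 = 0 := by simp [hD, hdiag]
  have key : ∀ t, D (t ^ 2) = 0 := by
    intro t
    by_cases h0 : t = 0
    · simp [hD, h0, hr0]
    by_cases h1 : 1 + t = 0
    · rw [show t = 1 by linear_combination h1 - h2, one_pow, hD1]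
    have hs : t * (1 + t) ≠ 0 := mul_ne_zero h0 h1
    have e : (t * (1 + t))⁻¹ = t⁻¹ + (1 + t)⁻¹ := by
      field_simp
      linear_combination -t * h2
    have h := hDinv _ hs
    rw [e, hDadd, hDinv t h0, hDinv (1 + t) h1, hDadd 1 t, hD1, zero_add,
      show t * (1 + t) = t + t ^ 2 by ring, hDadd, ] at h
    have hne : (t + t ^ 2) ^ 2 ≠ 0 := by
      rw [show t + t ^ 2 = t * (1 + t) by ring]; exact pow_ne_zero 2 hs
    field_simp at h
    linear_combination (exp := 1) -h + (t ^ 2 + t) * D t * h2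
  have hB1 : ∀ x, B 1 x = 0 := by
    intro x
    obtain ⟨s, hs⟩ := FiniteField.isSquare_of_char_two (ringChar.eq F 2) x
    obtain ⟨t, ht⟩ := FiniteField.isSquare_of_char_two (ringChar.eq F 2) s
    have h := key t
    simp only [hD] at h
    rwa [hs, ht, show t * t * (t * t) = (t ^ 2) ^ 2 by ring]
  by_cases hu : u = 0
  · subst hu
    rw [hsymm, hr0]
  · have h := hsm u 1 (u⁻¹ * x) hu
    rw [mul_one, mul_inv_cancel_left₀ hu, hB1, mul_zero] at h
    exact h

lemma choose_two_pow_odd {k' : ℕ} (hk : Odd k') (c : ℕ) : Odd ((2 ^ c * k').choose (2 ^ c)) := by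
  induction c with
  | zero => simpa using hk
  | succ c ih =>
    haveI : Fact (Nat.Prime 2) := ⟨Nat.prime_two⟩
    have h := Choose.choose_modEq_choose_mod_mul_choose_div_nat (p := 2) (n := 2 ^ (c + 1) * k')
      (k := 2 ^ (c + 1))
    rw [show 2 ^ (c + 1) * k' = 2 * (2 ^ c * k') by ring, show 2 ^ (c + 1) = 2 * 2 ^ c by ring,
      Nat.mul_mod_right, Nat.mul_mod_right, Nat.mul_div_cancel_left _ two_pos,
      Nat.mul_div_cancel_left _ two_pos, Nat.choose_self, one_mul] at h
    rw [show 2 ^ (c + 1) * k' = 2 * (2 ^ c * k') by ring, show 2 ^ (c + 1) = 2 * 2 ^ c by ring,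
      Nat.odd_iff]
    have := Nat.odd_iff.1 ih
    unfold Nat.ModEq at h
    omega

/-- A quadratic power map has binary weight at most two. -/
theorem quad_pow {F : Type*} [Field F] [Fintype F] [CharP F 2] {m : ℕ} (hm0 : 0 < m)
    (hm : m < Fintype.card F)
    (h : ∀ x y : F, (x + y + 1) ^ m = (x + y) ^ m + (x + 1) ^ m + (y + 1) ^ m + x ^ m + y ^ m + 1) :
    ∃ a b, m = 2 ^ a * (2 ^ b + 1) ∨ m = 2 ^ a := by
  obtain ⟨a, m', hodd, rfl⟩ := Nat.exists_eq_two_pow_mul_odd hm0.ne'
  refine ⟨a, ?_⟩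
  by_cases h1 : m' = 1
  · exact ⟨0, Or.inr (by rw [h1, mul_one])⟩
  obtain ⟨c, k', hk', hk⟩ := Nat.exists_eq_two_pow_mul_odd (n := m' - 1)
    (by have := hodd.pos; omega)
  refine ⟨c, Or.inl ?_⟩
  suffices k' = 1 by
    subst this
    rw [mul_one] at hk
    rw [← hk, Nat.sub_add_cancel hodd.pos]
  by_contra hk1
  have hfrob : ∀ x y : F, x ^ 2 ^ a = y ^ 2 ^ a → x = y := fun x y e =>
    iterateFrobenius_inj F 2 a (by simpa [iterateFrobenius_def] using e)
  have h' : ∀ x y : F, (x + y + 1) ^ m' =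
      (x + y) ^ m' + (x + 1) ^ m' + (y + 1) ^ m' + x ^ m' + y ^ m' + 1 := by
    intro x y
    refine hfrob _ _ ?_
    simp only [add_pow_char_pow _ _ 2 a, ← pow_mul, mul_comm m', one_pow]
    rw [← h x y]
  set G : F[X] := (X + 1) ^ m' + X ^ m' + 1 with hG
  have hGev : ∀ z, G.eval z = (z + 1) ^ m' + z ^ m' + 1 := fun z => by simp [hG]
  have hadd : ∀ x z, G.eval (x + z) = G.eval x + G.eval z := by
    intro x z
    rw [hGev, hGev, hGev, h' x z]
    linear_combination (x + z) ^ m' * (CharTwo.two_eq_zero (R := F))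
  have hm' : m' ≤ 2 ^ a * m' := Nat.le_mul_of_pos_left _ (by positivity)
  have hGdeg : G.natDegree ≤ m' := by
    refine (natDegree_add_le _ _).trans (max_le ((natDegree_add_le _ _).trans (max_le ?_ ?_)) ?_)
    · exact natDegree_pow_le.trans (by rw [← map_one (C : F →+* F[X]), natDegree_X_add_C, mul_one])
    · simp
    · simp
  have hk0 : 0 < m' - 1 := by have := hodd.pos; omega
  have hj : 2 ^ c < m' - 1 := by
    rw [hk]
    exact lt_mul_of_one_lt_right (by positivity) (by have := hk'.pos; omega)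
  have hHzero : hasseDeriv (2 ^ c) G = C (G.coeff (2 ^ c)) := by
    rw [← sub_eq_zero]
    refine eq_zero_of_natDegree_lt_card_of_eval_eq_zero _ Function.injective_id (fun z => ?_) ?_
    · rw [eval_sub, eval_C, id, ← taylor_coeff]
      have hz : taylor z G - G - C (G.eval z) = 0 := by
        refine eq_zero_of_natDegree_lt_card_of_eval_eq_zero _ Function.injective_id (fun x => ?_) ?_
        · rw [id, eval_sub, eval_sub, taylor_eval, eval_C, hadd]
          ring
        · refine lt_of_le_of_lt ((natDegree_sub_le _ _).trans (max_le ((natDegree_sub_le _ _).trans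
            (max_le ?_ hGdeg)) (by simp))) (lt_of_le_of_lt hm' hm)
          rw [natDegree_taylor]; exact hGdeg
      have hc := congrArg (fun p => p.coeff (2 ^ c)) hz
      simp only [coeff_sub, coeff_C, coeff_zero, if_neg (show ¬ (2 ^ c = 0) by positivity),
        sub_zero] at hc
      exact hc
    · refine lt_of_le_of_lt ((natDegree_sub_le _ _).trans (max_le ?_ (by simp)))
        (lt_of_le_of_lt hm' hm)
      exact (natDegree_hasseDeriv_le _ _).trans ((Nat.sub_le _ _).trans hGdeg)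
  have hc := congrArg (fun p => p.coeff (m' - 1 - 2 ^ c)) hHzero
  simp only [hasseDeriv_coeff, coeff_C, Nat.sub_add_cancel hj.le,
    if_neg (show ¬ (m' - 1 - 2 ^ c = 0) by omega)] at hc
  have hGk : G.coeff (m' - 1) = (m' : F) := by
    rw [hG, coeff_add, coeff_add, coeff_X_add_one_pow, coeff_X_pow, coeff_one,
      if_neg (show ¬ (m' - 1 = m') by omega), if_neg (show ¬ (m' - 1 = 0) by omega),
      Nat.choose_symm_of_eq_add (show m' = m' - 1 + 1 by omega), Nat.choose_one_right]
    simp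
  rw [hGk, hk, ← Nat.cast_mul, CharP.cast_eq_zero_iff F 2] at hc
  have hoddp := (choose_two_pow_odd hk' c).mul hodd
  rw [Nat.odd_iff] at hoddp
  omega

/-- An automorphism `φ` with `x φ(x)` injective on units has odd order. -/
theorem odd_orderOf {F : Type*} [Field F] [Finite F] [CharP F 2] (φ : F ≃+* F)
    (h : ∀ x : F, x ≠ 0 → x * φ x = 1 → x = 1) : Odd (orderOf φ) := by
  by_contra hev
  obtain ⟨k, hk⟩ := Nat.not_odd_iff_even.1 hev
  have : Finite (F ≃+* F) := Finite.of_injective (fun e => (e : F → F)) DFunLike.coe_injective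
  have hpos : 0 < orderOf φ := orderOf_pos φ
  have hkey : ∀ y : F, φ (φ y) = y → φ y = y := by
    intro y hy
    by_contra hne
    have hy0 : y ≠ 0 := fun e => hne (by rw [e, map_zero])
    have h0 : φ y ≠ 0 := fun e => hy0 (φ.injective (by rw [e, map_zero]))
    have := h (y / φ y) (div_ne_zero hy0 h0) (by rw [map_div₀, hy]; field_simp)
    exact hne ((div_eq_one_iff_eq h0).1 this).symm
  let T : F → F := fun z => ∑ i ∈ Finset.range k, (φ ^ (2 * i)) z
  have hT : ∀ z, φ (φ (T z)) = T z := by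
    intro z
    show φ (φ (∑ i ∈ Finset.range k, (φ ^ (2 * i)) z)) = _
    rw [map_sum, map_sum]
    obtain ⟨j, rfl⟩ : ∃ j, k = j + 1 := ⟨k - 1, by omega⟩
    have e : ∀ i, φ (φ ((φ ^ (2 * i)) z)) = (φ ^ (2 * (i + 1))) z := fun i => by
      rw [show 2 * (i + 1) = 2 * i + 1 + 1 by ring, pow_succ', pow_succ']
      rfl
    simp only [e]
    show _ = ∑ i ∈ Finset.range (j + 1), (φ ^ (2 * i)) z
    rw [Finset.sum_range_succ, Finset.sum_range_succ' _ j,
      show 2 * (j + 1) = orderOf φ by omega, pow_orderOf_eq_one, mul_zero, pow_zero]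
  have hzero : ∀ z, (∑ i ∈ Finset.range (orderOf φ), (φ ^ i) z) = 0 := by
    intro z
    have h1 := hkey _ (hT z)
    rw [map_sum] at h1
    have e : ∀ j, ∑ i ∈ Finset.range (2 * j), (φ ^ i) z =
        ∑ i ∈ Finset.range j, (φ ^ (2 * i)) z + ∑ i ∈ Finset.range j, φ ((φ ^ (2 * i)) z) := by
      intro j
      induction j with
      | zero => simp
      | succ j ih =>
        rw [show 2 * (j + 1) = 2 * j + 1 + 1 by ring, Finset.sum_range_succ, Finset.sum_range_succ,
          ih, Finset.sum_range_succ, Finset.sum_range_succ, pow_succ' φ (2 * j)]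
        show _ + φ ((φ ^ (2 * j)) z) = _
        ring
    rw [hk, ← two_mul, e, h1]
    exact CharTwo.add_self_eq_zero _
  let f : Fin (orderOf φ) → F →* F := fun i => ((φ ^ (i : ℕ) : F ≃+* F) : F →* F)
  have hf : Function.Injective f := by
    intro i j hij
    refine Fin.ext (pow_injOn_Iio_orderOf i.2 j.2 ?_)
    exact RingEquiv.ext fun z => DFunLike.congr_fun hij z
  have hli := (linearIndependent_monoidHom F F).comp f hf
  have := Fintype.linearIndependent_iff.1 hli (fun _ => 1) (funext fun z => by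
    simpa [Finset.sum_apply, f, Finset.sum_range] using hzero z) ⟨0, hpos⟩
  exact one_ne_zero this

/-- Central extensions of one elementary group by another with the same squaring map are isomorphic. -/
theorem iso_of_sq {P A V W : Type*} [Group P] [Group A] [AddCommGroup V] [AddCommGroup W]
    (hV : ∀ v : V, v + v = 0)
    (πP : P →* Multiplicative V) (hπP : Function.Surjective πP) (iP : Multiplicative W →* P)
    (hiP : Function.Injective iP) (hkP : πP.ker = iP.range) (hcP : ∀ w p, iP w * p = p * iP w)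
    (πA : A →* Multiplicative V) (hπA : Function.Surjective πA) (iA : Multiplicative W →* A)
    (hiA : Function.Injective iA) (hkA : πA.ker = iA.range) (hcA : ∀ w p, iA w * p = p * iA w)
    (S : Multiplicative V → Multiplicative W)
    (hsP : ∀ p, p * p = iP (S (πP p))) (hsA : ∀ p, p * p = iA (S (πA p))) :
    Nonempty (P ≃* A) := by
  classical
  let Γ : Subgroup (P × A) := (πP.comp (MonoidHom.fst P A)).eqLocus (πA.comp (MonoidHom.snd P A))
  have hΓ : ∀ x : P × A, x ∈ Γ ↔ πP x.1 = πA x.2 := fun x => Iff.rfl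
  have hπi : ∀ w, πP (iP w) = 1 := fun w =>
    MonoidHom.mem_ker.1 (hkP ▸ ⟨w, rfl⟩)
  have hπiA : ∀ w, πA (iA w) = 1 := fun w =>
    MonoidHom.mem_ker.1 (hkA ▸ ⟨w, rfl⟩)
  let d : Multiplicative W →* ↥Γ := (iP.prod iA).codRestrict Γ fun w => by
    rw [hΓ]; exact (hπi w).trans (hπiA w).symm
  have hd : ∀ w, ((d w : P × A)) = (iP w, iA w) := fun w => rfl
  have : d.range.Normal := ⟨by
    rintro _ ⟨w, rfl⟩ g
    refine ⟨w, Subtype.ext ?_⟩
    rw [Subgroup.coe_mul, Subgroup.coe_mul, Subgroup.coe_inv, hd]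
    refine Prod.ext ?_ ?_
    · simp [← hcP]
    · simp [← hcA]⟩
  let R := ↥Γ ⧸ d.range
  have hR2 : ∀ r : R, r * r = 1 := by
    intro r
    obtain ⟨g, rfl⟩ := QuotientGroup.mk_surjective r
    rw [← QuotientGroup.mk_mul, QuotientGroup.eq_one_iff]
    refine ⟨S (πP g.1.1), Subtype.ext ?_⟩
    rw [Subgroup.coe_mul, hd]
    refine Prod.ext (hsP _).symm ?_
    show iA _ = g.1.2 * g.1.2
    rw [hsA, (hΓ _).1 g.2]
  letI : CommGroup R := { (inferInstance : Group R) with
    mul_comm := fun a b => by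
      have h1 : ∀ x : R, x⁻¹ = x := fun x => inv_eq_of_mul_eq_one_right (hR2 x)
      calc a * b = (a * b)⁻¹ := (h1 _).symm
        _ = b * a := by rw [_root_.mul_inv_rev, h1, h1] }
  let πR : R →* Multiplicative V := QuotientGroup.lift d.range
    ((πP.comp (MonoidHom.fst P A)).comp Γ.subtype) (by rintro _ ⟨w, rfl⟩; exact hπi w)
  have hπR : Function.Surjective πR := fun v => by
    obtain ⟨p, rfl⟩ := hπP v
    obtain ⟨a, ha⟩ := hπA (πP p)
    exact ⟨QuotientGroup.mk (⟨(p, a), ha.symm⟩ : ↥Γ), rfl⟩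
  letI : Module (ZMod 2) (Additive R) := AddCommGroup.zmodModule fun x => by
    rw [two_nsmul]; exact hR2 x
  letI : Module (ZMod 2) V := AddCommGroup.zmodModule fun x => by rw [two_nsmul]; exact hV x
  let L : Additive R →ₗ[ZMod 2] V := AddMonoidHom.toZModLinearMap 2 (MonoidHom.toAdditiveLeft πR)
  obtain ⟨σ, hσ⟩ := L.exists_rightInverse_of_surjective (LinearMap.range_eq_top.2 fun v => by
    obtain ⟨r, hr⟩ := hπR (Multiplicative.ofAdd v)
    exact ⟨Additive.ofMul r, congrArg Multiplicative.toAdd hr⟩)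
  let σ' : Multiplicative V →* R := AddMonoidHom.toMultiplicativeLeft σ.toAddMonoidHom
  have hσ' : ∀ v, πR (σ' v) = v := fun v =>
    Multiplicative.toAdd.injective (LinearMap.congr_fun hσ (Multiplicative.toAdd v))
  let H : Subgroup ↥Γ := σ'.range.comap (QuotientGroup.mk' d.range)
  have hH : ∀ g ∈ H, ∀ v, πR (QuotientGroup.mk g) = v → QuotientGroup.mk g = σ' v := by
    rintro g ⟨u, hu⟩ v hv
    have hu' : σ' u = QuotientGroup.mk g := hu
    rw [← hv, ← hu', hσ']
  have hd_mem : ∀ w, d w ∈ H := fun w => by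
    rw [Subgroup.mem_comap, QuotientGroup.mk'_apply, (QuotientGroup.eq_one_iff (N := d.range) (d w)).2 ⟨w, rfl⟩]
    exact one_mem _
  have hlift : ∀ v, ∃ g ∈ H, πP g.1.1 = v := by
    intro v
    obtain ⟨g, hg⟩ := QuotientGroup.mk_surjective (σ' v)
    refine ⟨g, ⟨v, hg.symm⟩, ?_⟩
    have h := hσ' v
    rw [← hg] at h
    exact h
  have hone : ∀ g ∈ H, πP g.1.1 = 1 → ∃ w, g = d w := by
    intro g hg h1
    have h := hH g hg 1 h1
    rw [map_one, QuotientGroup.eq_one_iff] at h
    obtain ⟨w, hw⟩ := h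
    exact ⟨w, hw.symm⟩
  let p₁ : ↥H →* P := (MonoidHom.fst P A).comp (Γ.subtype.comp H.subtype)
  let p₂ : ↥H →* A := (MonoidHom.snd P A).comp (Γ.subtype.comp H.subtype)
  have h1 : Function.Bijective p₁ := by
    refine ⟨(injective_iff_map_eq_one p₁).2 ?_, fun p => ?_⟩
    · rintro ⟨g, hg⟩ (h : g.1.1 = 1)
      obtain ⟨w, rfl⟩ := hone g hg (by rw [h, map_one])
      have hw : w = 1 := hiP (by rw [map_one]; exact h)
      subst hw
      exact Subtype.ext (map_one d)
    · obtain ⟨g, hg, hgv⟩ := hlift (πP p)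
      obtain ⟨w, hw⟩ : g.1.1⁻¹ * p ∈ iP.range := by
        rw [← hkP, MonoidHom.mem_ker, map_mul, map_inv, hgv, inv_mul_cancel]
      refine ⟨⟨g * d w, mul_mem hg (hd_mem w)⟩, ?_⟩
      show g.1.1 * iP w = p
      rw [hw, mul_inv_cancel_left]
  have h2 : Function.Bijective p₂ := by
    refine ⟨(injective_iff_map_eq_one p₂).2 ?_, fun a => ?_⟩
    · rintro ⟨g, hg⟩ (h : g.1.2 = 1)
      obtain ⟨w, rfl⟩ := hone g hg (by rw [(hΓ _).1 g.2, h, map_one])
      have hw : w = 1 := hiA (by rw [map_one]; exact h)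
      subst hw
      exact Subtype.ext (map_one d)
    · obtain ⟨g, hg, hgv⟩ := hlift (πA a)
      obtain ⟨w, hw⟩ : g.1.2⁻¹ * a ∈ iA.range := by
        rw [← hkA, MonoidHom.mem_ker, map_mul, map_inv, ← (hΓ _).1 g.2, hgv, inv_mul_cancel]
      refine ⟨⟨g * d w, mul_mem hg (hd_mem w)⟩, ?_⟩
      show g.1.2 * iA w = a
      rw [hw, mul_inv_cancel_left]
  exact ⟨(MulEquiv.ofBijective p₁ h1).symm.trans (MulEquiv.ofBijective p₂ h2)⟩

end CfsgLib.Chev.SuzTwo
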