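import Mathlib
import Cfsg.Agent.Lib.Chev.RankOneFix
import Cfsg.Agent.Lib.Chev.SuzTwoAlg
import Cfsg.Agent.Lib.FixedFree.FreeOrbit
import Cfsg.Agent.Lib.Solvable.Fitting
import Cfsg.Agent.Lib.Solvable.HallHigman
import Cfsg.Agent.Lib.FT.OddOrder
import Cfsg.Agent.S1161

/-!
# Rank-one set-up: the inverted elements form a cyclic torus

`D` acts transitively on the involutions fixing `a`; modulo the kernel, its Fitting subgroup is cyclic,
semiregular and contains all elements inverted by `t` (which act trivially on the automorphism group of that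
cyclic group), hence consists of their images.
-/

set_option autoImplicit false
set_option linter.unusedSectionVars false
set_option linter.style.haveILetI false

namespace CfsgLib.Chev.RankOne

open MulAction

universe u v

variable {G : Type u} {Ω : Type v} [Group G] [Finite G] [MulAction G Ω] [FaithfulSMul G Ω] {a : Ω} {t : G}
  {Q : Subgroup G}

/-- The involutions fixing `a`, with the identity. -/
def involGroup (hS : Cfsg.IsRankOneSetup G Ω a t Q)
    (h2 : ∃ x y : G, x ≠ 1 ∧ y ≠ 1 ∧ x ≠ y ∧ x * x = 1 ∧ y * y = 1 ∧ x * y = y * x) : Subgroup G where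
  carrier := {s | s ∈ stabilizer G a ∧ s * s = 1}
  one_mem' := ⟨one_mem _, one_mul 1⟩
  mul_mem' := fun {s s'} hs hs' => by
    refine ⟨mul_mem hs.1 hs'.1, ?_⟩
    by_cases h : s = 1
    · subst h; rw [one_mul]; exact hs'.2
    by_cases h' : s' = 1
    · subst h'; rw [mul_one]; exact hs.2
    exact invol_mul hS h2 ⟨hs.1, h, hs.2⟩ ⟨hs'.1, h', hs'.2⟩
  inv_mem' := fun {s} hs => ⟨inv_mem hs.1, by rw [← mul_inv_rev, hs.2, inv_one]⟩

variable (hS : Cfsg.IsRankOneSetup G Ω a t Q)
  (h2 : ∃ x y : G, x ≠ 1 ∧ y ≠ 1 ∧ x ≠ y ∧ x * x = 1 ∧ y * y = 1 ∧ x * y = y * x)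

include hS h2

theorem conj_involGroup {d s : G} (hd : d ∈ D a t) (hs : s ∈ involGroup hS h2) :
    d * s * d⁻¹ ∈ involGroup hS h2 := by
  have hda : d ∈ stabilizer G a := (Subgroup.mem_inf.1 hd).1
  refine ⟨mul_mem (mul_mem hda hs.1) (inv_mem hda), ?_⟩
  rw [show d * s * d⁻¹ * (d * s * d⁻¹) = d * (s * s) * d⁻¹ by group, hs.2]
  group

/-- `D` acts on the involutions fixing `a`. -/
def involAut : D a t →* MulAut (involGroup hS h2) where
  toFun d :=
    { toFun := fun s => ⟨(d : G) * s * (d : G)⁻¹, conj_involGroup hS h2 d.2 s.2⟩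
      invFun := fun s => ⟨(d : G)⁻¹ * s * ((d : G)⁻¹)⁻¹, conj_involGroup hS h2 (inv_mem d.2) s.2⟩
      left_inv := fun s => Subtype.ext (by group)
      right_inv := fun s => Subtype.ext (by group)
      map_mul' := fun s s' => Subtype.ext (by simp only [Subgroup.coe_mul]; group) }
  map_one' := MulEquiv.ext fun s => Subtype.ext (by simp)
  map_mul' d d' := MulEquiv.ext fun s => Subtype.ext (by simp [mul_assoc])

theorem mem_ker_involAut {d : D a t} :
    d ∈ (involAut hS h2).ker ↔
      (d : G) ∈ Subgroup.centralizer (Cfsg.involutionsIn (stabilizer G a : Set G)) := by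
  rw [MonoidHom.mem_ker, Subgroup.mem_centralizer_iff]
  constructor
  · intro h s hs
    have h' := congrArg Subtype.val (DFunLike.congr_fun h (⟨s, hs.1, hs.2.2⟩ : involGroup hS h2))
    exact (mul_inv_eq_iff_eq_mul.1 h').symm
  · intro h
    refine MulEquiv.ext fun s => Subtype.ext ?_
    show (d : G) * s * (d : G)⁻¹ = s
    by_cases hs : (s : G) = 1
    · rw [hs]; group
    · rw [← h s ⟨s.2.1, hs, s.2.2⟩, mul_inv_cancel_right]

theorem commute_t_of_ker {d : D a t} (hd : d ∈ (involAut hS h2).ker) : (d : G) * t = t * d := by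
  have h : (d : G) ∈ D a t ⊓ Subgroup.centralizer (Cfsg.involutionsIn (stabilizer G a : Set G)) :=
    ⟨d.2, (mem_ker_involAut hS h2).1 hd⟩
  rw [← centralizer_t_inverted_eq hS] at h
  exact Subgroup.mem_centralizer_singleton_iff.1 h.1.2

theorem inv_mem_invertedBy {k : G} (hk : k ∈ Cfsg.invertedBy (D a t) t) :
    k⁻¹ ∈ Cfsg.invertedBy (D a t) t :=
  ⟨inv_mem hk.1, by rw [show t * k⁻¹ * t⁻¹ = (t * k * t⁻¹)⁻¹ by group, hk.2]⟩

theorem mul_comm_involGroup (x y : involGroup hS h2) : x * y = y * x := by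
  have h : ∀ z : involGroup hS h2, z⁻¹ = z := fun z =>
    inv_eq_of_mul_eq_one_right (Subtype.ext z.2.2)
  calc x * y = (x * y)⁻¹ := (h _).symm
    _ = y * x := by rw [mul_inv_rev, h, h]

theorem card_involGroup :
    Nat.card (involGroup hS h2) = Nat.card (Cfsg.invertedBy (D a t) t) + 1 := by
  classical
  haveI : Fintype G := Fintype.ofFinite G
  rw [card_invertedBy hS]
  have e : Nat.card (Cfsg.involutionsIn (stabilizer G a : Set G)) =
      Nat.card {s : involGroup hS h2 // s ≠ 1} := Nat.card_congr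
    { toFun := fun s => ⟨⟨s.1, s.2.1, s.2.2.2⟩, fun h => s.2.2.1 (congrArg Subtype.val h)⟩
      invFun := fun s => ⟨s.1.1, s.1.2.1, fun h => s.2 (Subtype.ext h), s.1.2.2⟩
      left_inv := fun s => rfl
      right_inv := fun s => rfl }
  haveI : Fintype (involGroup hS h2) := Fintype.ofFinite _
  rw [e, Nat.card_eq_fintype_card,
    Nat.card_eq_fintype_card, Fintype.card_subtype_compl, Fintype.card_subtype_eq]
  have := Fintype.card_pos (α := involGroup hS h2)
  omega

/-- The elements of `D` inverted by `t` are the powers of one of them. -/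
theorem exists_torus_gen :
    ∃ k₀ ∈ Cfsg.invertedBy (D a t) t,
      (Subgroup.zpowers k₀ : Set G) = Cfsg.invertedBy (D a t) t := by
  classical
  set φ := involAut hS h2 with hφ
  letI iA : AddCommGroup (Additive (involGroup hS h2)) :=
    { (inferInstance : AddGroup (Additive (involGroup hS h2))) with
      add_comm := fun x y => mul_comm_involGroup hS h2 (Additive.toMul x) (Additive.toMul y) }
  let ψ := QuotientGroup.kerLift φ
  letI act : DistribMulAction (D a t ⧸ φ.ker) (Additive (involGroup hS h2)) :=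
    { smul := fun x e => Additive.ofMul (ψ x (Additive.toMul e))
      one_smul := fun e => congrArg Additive.ofMul (by rw [map_one]; rfl)
      mul_smul := fun x y e => congrArg Additive.ofMul (by rw [map_mul]; rfl)
      smul_zero := fun x => congrArg Additive.ofMul (map_one (ψ x))
      smul_add := fun x e e' => congrArg Additive.ofMul (map_mul (ψ x) _ _) }
  have hsmul : ∀ x e, x • e = Additive.ofMul (ψ x (Additive.toMul e)) := fun x e => rfl
  haveI : FaithfulSMul (D a t ⧸ φ.ker) (Additive (involGroup hS h2)) := ⟨fun {x y} h =>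
    QuotientGroup.kerLift_injective φ (MulEquiv.ext fun s => h (Additive.ofMul s))⟩
  obtain ⟨s₀, hs₀a, hs₀1, hs₀2⟩ := exists_invol hS
  haveI : Nontrivial (Additive (involGroup hS h2)) :=
    ⟨⟨Additive.ofMul ⟨s₀, hs₀a, hs₀2⟩, 0, fun h =>
      hs₀1 (congrArg (fun z => ((Additive.toMul z : involGroup hS h2) : G)) h)⟩⟩
  have hodd : Odd (Nat.card (D a t ⧸ φ.ker)) :=
    hS.odd_card.of_dvd_nat (Subgroup.card_quotient_dvd_card _)
  have hexp : ∀ e : Additive (involGroup hS h2), (2 : ℕ) • e = 0 := fun e => by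
    rw [two_nsmul]; exact congrArg Additive.ofMul (Subtype.ext (Additive.toMul e).2.2)
  have htr : ∀ x y : Additive (involGroup hS h2), x ≠ 0 → y ≠ 0 →
      ∃ d : D a t ⧸ φ.ker, d • x = y := by
    intro x y hx hy
    have hne : ∀ {z : Additive (involGroup hS h2)}, z ≠ 0 →
        ((Additive.toMul z : involGroup hS h2) : G) ≠ 1 := fun hz h =>
      hz (Additive.toMul.injective (Subtype.ext h))
    obtain ⟨k, hk, hke⟩ := invertedBy_transitive hS
      (s := ((Additive.toMul x : involGroup hS h2) : G))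
      ⟨(Additive.toMul x).2.1, hne hx, (Additive.toMul x).2.2⟩
      (s' := ((Additive.toMul y : involGroup hS h2) : G))
      ⟨(Additive.toMul y).2.1, hne hy, (Additive.toMul y).2.2⟩
    refine ⟨((⟨k⁻¹, inv_mem hk.1⟩ : D a t) : D a t ⧸ φ.ker), Additive.toMul.injective (Subtype.ext ?_)⟩
    show k⁻¹ * ((Additive.toMul x : involGroup hS h2) : G) * k⁻¹⁻¹ = _
    rw [inv_inv, hke]
  obtain ⟨hcyc, hsemi, -⟩ := Cfsg.Agent.S1161.result hodd Nat.prime_two hexp htr
  set F := Cfsg.fittingSubgroup (D a t ⧸ φ.ker) with hF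
  haveI : F.Characteristic := CfsgLib.Solvable.fittingSubgroup_characteristic _
  -- the automorphism induced by `t`
  let τ : D a t ≃* D a t :=
    { toFun := fun d => ⟨t * d * t, conj_D hS d.2⟩
      invFun := fun d => ⟨t * d * t, conj_D hS d.2⟩
      left_inv := fun d => Subtype.ext (by
        show t * (t * (d : G) * t) * t = d
        simp only [mul_assoc, t_mul_cancel hS, hS.mul_self, mul_one])
      right_inv := fun d => Subtype.ext (by
        show t * (t * (d : G) * t) * t = d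
        simp only [mul_assoc, t_mul_cancel hS, hS.mul_self, mul_one])
      map_mul' := fun d d' => Subtype.ext (by
        show t * ((d : G) * d') * t = t * d * t * (t * d' * t)
        simp only [mul_assoc, t_mul_cancel hS]) }
  have hτW : φ.ker.map τ.toMonoidHom = φ.ker := by
    have hfix : ∀ d ∈ φ.ker, τ d = d := fun d hd => Subtype.ext (by
      show t * (d : G) * t = d
      rw [← commute_t_of_ker hS h2 hd, mul_assoc, hS.mul_self, mul_one])
    ext d
    constructor
    · rintro ⟨e, he, rfl⟩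
      show τ e ∈ φ.ker
      rwa [hfix e he]
    · exact fun hd => ⟨d, hd, hfix d hd⟩
  let τ' : (D a t ⧸ φ.ker) ≃* (D a t ⧸ φ.ker) := QuotientGroup.congr _ _ τ hτW
  have hτF : ∀ x ∈ F, τ' x ∈ F := fun x hx => by
    have h := Subgroup.characteristic_iff_comap_eq.1 ‹F.Characteristic› τ'
    rw [← h] at hx
    exact hx
  have hτF' : ∀ x ∈ F, ∃ y ∈ F, τ' y = x := fun x hx => by
    have h := Subgroup.characteristic_iff_map_eq.1 ‹F.Characteristic› τ'
    rw [← h] at hx
    exact hx
  haveI : Group.IsSolvable (D a t ⧸ φ.ker) := CfsgLib.FT.odd_order_solvable hodd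
  haveI : F.Normal := inferInstance
  haveI := hcyc
  -- `τ'` fixes the action on `F`
  have hCent : ∀ d : D a t ⧸ φ.ker, (τ' d)⁻¹ * d ∈ F := by
    intro d
    refine CfsgLib.Solvable.centralizer_fittingSubgroup_le ?_
    rw [Subgroup.mem_centralizer_iff]
    intro x hx
    obtain ⟨g, hg⟩ := IsCyclic.exists_generator (α := F)
    obtain ⟨m, hm⟩ := Subgroup.mem_zpowers_iff.1
      (hg ⟨d * g * d⁻¹, Subgroup.Normal.conj_mem ‹F.Normal› _ g.2 d⟩)
    have hgm : d * (g : D a t ⧸ φ.ker) * d⁻¹ = (g : D a t ⧸ φ.ker) ^ m :=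
      (congrArg Subtype.val hm).symm
    have hall : ∀ y ∈ F, d * y * d⁻¹ = y ^ m := by
      intro y hy
      obtain ⟨i, hi⟩ := Subgroup.mem_zpowers_iff.1 (hg ⟨y, hy⟩)
      have hyi : y = (g : D a t ⧸ φ.ker) ^ i := (congrArg Subtype.val hi).symm
      rw [hyi, ← conj_zpow, hgm, ← zpow_mul, ← zpow_mul, mul_comm]
    obtain ⟨y, hy, hyx⟩ := hτF' x hx
    have h2 : τ' d * x * (τ' d)⁻¹ = x ^ m := by
      rw [← hyx, ← map_inv, ← map_mul, ← map_mul, hall y hy, map_zpow]
    calc x * ((τ' d)⁻¹ * d) = (τ' d)⁻¹ * (τ' d * x * (τ' d)⁻¹) * d := by group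
      _ = (τ' d)⁻¹ * (d * x * d⁻¹) * d := by rw [h2, hall x hx]
      _ = (τ' d)⁻¹ * d * x := by group
  -- inverted elements land in `F`
  let ι : Cfsg.invertedBy (D a t) t → D a t ⧸ φ.ker := fun k => ((⟨k.1, k.2.1⟩ : D a t) : D a t ⧸ φ.ker)
  have hιF : ∀ k, ι k ∈ F := by
    intro k
    have h1 : τ' (ι k) = (ι k)⁻¹ := by
      show (((τ ⟨k.1, k.2.1⟩ : D a t)) : D a t ⧸ φ.ker) = _
      rw [← QuotientGroup.mk_inv]
      refine congrArg _ (Subtype.ext ?_)
      show t * (k : G) * t = (k : G)⁻¹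
      have := k.2.2
      rwa [inv_t hS] at this
    have h2 := hCent (ι k)
    rw [h1, inv_inv] at h2
    obtain ⟨m, hm⟩ := hodd
    have h3 : ι k = (ι k * ι k) ^ (m + 1) := by
      rw [← pow_two, ← pow_mul, show 2 * (m + 1) = Nat.card (D a t ⧸ φ.ker) + 1 by omega,
        pow_succ, pow_card_eq_one', one_mul]
    rw [h3]
    exact pow_mem h2 _
  have hιinj : Function.Injective fun k => (⟨ι k, hιF k⟩ : F) := by
    intro k l h
    have h' : φ ⟨k.1, k.2.1⟩ = φ ⟨l.1, l.2.1⟩ :=
      congrArg (QuotientGroup.kerLift φ) (congrArg Subtype.val h)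
    refine Subtype.ext (inv_injective ?_)
    refine invertedBy_conj_inj hS hs₀a hs₀1 hs₀2 (inv_mem_invertedBy hS h2 k.2)
      (inv_mem_invertedBy hS h2 l.2) ?_
    have := congrArg Subtype.val (DFunLike.congr_fun h' (⟨s₀, hs₀a, hs₀2⟩ : involGroup hS h2))
    rw [inv_inv, inv_inv]
    exact this
  have hle : Nat.card F ≤ Nat.card (Cfsg.invertedBy (D a t) t) := by
    have hd := CfsgLib.FixedFree.card_dvd_of_free (ψ.comp F.subtype) (fun f hf1 y hy => by
      have h := hsemi f.1 f.2 (fun e => hf1 (Subtype.ext e)) (Additive.ofMul y)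
        (congrArg Additive.ofMul hy)
      exact congrArg Additive.toMul h)
    rw [card_involGroup hS h2, Nat.add_sub_cancel] at hd
    exact Nat.le_of_dvd (Nat.card_pos_iff.2 ⟨⟨⟨1, one_mem _, by simp [inv_t hS, hS.mul_self]⟩⟩, inferInstance⟩) hd
  have hbij : Function.Bijective fun k => (⟨ι k, hιF k⟩ : F) :=
    (Nat.bijective_iff_injective_and_card _).2
      ⟨hιinj, le_antisymm (Nat.card_le_card_of_injective _ hιinj) hle⟩
  obtain ⟨g, hg⟩ := IsCyclic.exists_generator (α := F)
  obtain ⟨k₀, hk₀⟩ := hbij.2 g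
  have hpow : ∀ n : ℤ, (k₀ : G) ^ n ∈ Cfsg.invertedBy (D a t) t := fun n =>
    ⟨zpow_mem k₀.2.1 n, by rw [← conj_zpow, k₀.2.2, inv_zpow]⟩
  refine ⟨k₀, k₀.2, Set.ext fun x => ⟨?_, fun hx => ?_⟩⟩
  · rintro ⟨n, rfl⟩; exact hpow n
  · obtain ⟨n, hn⟩ := Subgroup.mem_zpowers_iff.1 (hg ⟨ι ⟨x, hx⟩, hιF _⟩)
    refine ⟨n, ?_⟩
    have : (⟨_, hpow n⟩ : Cfsg.invertedBy (D a t) t) = ⟨x, hx⟩ := by
      refine hbij.1 (Subtype.ext ?_)
      have h1 := congrArg Subtype.val hn
      rw [← hk₀] at h1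
      exact (QuotientGroup.mk_zpow (φ.ker) (⟨k₀.1, k₀.2.1⟩ : D a t) n).trans h1
    exact congrArg Subtype.val this

/-- The inverted elements form a cyclic subgroup normal in `D`. -/
theorem exists_torus :
    ∃ C : Subgroup G, (C : Set G) = Cfsg.invertedBy (D a t) t ∧ IsCyclic C ∧
      ∀ d ∈ D a t, ∀ c ∈ C, d * c * d⁻¹ ∈ C := by
  obtain ⟨k₀, hk₀, hK⟩ := exists_torus_gen hS h2
  refine ⟨Subgroup.zpowers k₀, hK, inferInstance, fun d hd c hc => ?_⟩
  obtain ⟨⟨s, r⟩, ⟨hs, hr, he⟩, -⟩ := structure_equation hS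
  have hVs := centralizer_t_eq hS hs hr he
  have hda : d ∈ stabilizer G a := (Subgroup.mem_inf.1 hd).1
  have hsd : d⁻¹ * s * d ∈ Cfsg.involutionsIn (stabilizer G a : Set G) := by
    have h := conj_invol hs.2.1 hs.2.2 d⁻¹
    rw [inv_inv] at h
    exact ⟨mul_mem (mul_mem (inv_mem hda) hs.1) hda, h.1, h.2⟩
  obtain ⟨k, hk, hke⟩ := invertedBy_transitive hS hs hsd
  have hv : d * k⁻¹ ∈ D a t ⊓ Subgroup.centralizer {t} := by
    rw [hVs]
    refine ⟨mul_mem hd (Subgroup.inv_mem _ hk.1), Subgroup.mem_centralizer_singleton_iff.2 ?_⟩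
    calc d * k⁻¹ * s = d * (k⁻¹ * s * k) * k⁻¹ := by group
      _ = s * (d * k⁻¹) := by rw [hke]; group
  have hvt := Subgroup.mem_centralizer_singleton_iff.1 hv.2
  have hkC : k ∈ Subgroup.zpowers k₀ := by
    have : k ∈ (Subgroup.zpowers k₀ : Set G) := hK.symm ▸ hk
    exact this
  have hc' : k * c * k⁻¹ ∈ Subgroup.zpowers k₀ := mul_mem (mul_mem hkC hc) (Subgroup.inv_mem (Subgroup.zpowers k₀) hkC)
  have hcK : k * c * k⁻¹ ∈ Cfsg.invertedBy (D a t) t := hK ▸ hc'
  have : d * c * d⁻¹ ∈ Cfsg.invertedBy (D a t) t := by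
    rw [show d * c * d⁻¹ = d * k⁻¹ * (k * c * k⁻¹) * (d * k⁻¹)⁻¹ by group]
    set v := d * k⁻¹ with hvdef
    refine ⟨mul_mem (mul_mem hv.1 hcK.1) (inv_mem hv.1), ?_⟩
    calc t * (v * (k * c * k⁻¹) * v⁻¹) * t⁻¹
        = (t * v) * (k * c * k⁻¹) * (t * v)⁻¹ := by group
      _ = v * (t * (k * c * k⁻¹) * t⁻¹) * v⁻¹ := by rw [← hvt]; group
      _ = (v * (k * c * k⁻¹) * v⁻¹)⁻¹ := by rw [hcK.2]; group
  rw [← hK] at this
  exact this

/-- `C_D(t)` is cyclic modulo the elements centralising the torus. -/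
theorem exists_centralizer_gen :
    ∃ v ∈ D a t ⊓ Subgroup.centralizer {t},
      (D a t ⊓ Subgroup.centralizer {t} ⊓ Subgroup.centralizer (Cfsg.invertedBy (D a t) t)) ⊔
        Subgroup.closure {v} = D a t ⊓ Subgroup.centralizer {t} := by
  classical
  obtain ⟨k₀, hk₀, hK⟩ := exists_torus_gen hS h2
  set C := Subgroup.zpowers k₀ with hC
  have hCK : ∀ k, k ∈ C ↔ k ∈ Cfsg.invertedBy (D a t) t := fun k => by rw [← hK]; rfl
  obtain ⟨⟨s₀, r⟩, ⟨hs₀, hr, he⟩, -⟩ := structure_equation hS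
  have hVs := centralizer_t_eq hS hs₀ hr he
  letI iA : AddCommGroup (Additive (involGroup hS h2)) :=
    { (inferInstance : AddGroup (Additive (involGroup hS h2))) with
      add_comm := fun x y => mul_comm_involGroup hS h2 (Additive.toMul x) (Additive.toMul y) }
  let ρ : C →* AddMonoid.End (Additive (involGroup hS h2)) :=
    { toFun := fun k => MonoidHom.toAdditive
        (involAut hS h2 ⟨k.1, ((hCK k.1).1 k.2).1⟩).toMonoidHom
      map_one' := AddMonoidHom.ext fun x => Additive.toMul.injective (Subtype.ext (by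
        show (1 : G) * _ * (1 : G)⁻¹ = _
        group; rfl))
      map_mul' := fun k l => AddMonoidHom.ext fun x => Additive.toMul.injective (Subtype.ext (by
        show ((k : G) * l) * _ * ((k : G) * l)⁻¹ = (k : G) * ((l : G) * _ * (l : G)⁻¹) * (k : G)⁻¹
        group)) }
  have hρ : ∀ (k : C) (x : Additive (involGroup hS h2)),
      ((Additive.toMul (ρ k x) : involGroup hS h2) : G) =
        (k : G) * ((Additive.toMul x : involGroup hS h2) : G) * (k : G)⁻¹ := fun k x => rfl
  have hne : ∀ {z : Additive (involGroup hS h2)}, z ≠ 0 →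
      ((Additive.toMul z : involGroup hS h2) : G) ≠ 1 := fun hz h =>
    hz (Additive.toMul.injective (Subtype.ext h))
  have hreg : ∀ x y : Additive (involGroup hS h2), x ≠ 0 → y ≠ 0 → ∃! k : C, ρ k x = y := by
    intro x y hx hy
    obtain ⟨k, hk, hke⟩ := invertedBy_transitive hS
      (s := ((Additive.toMul x : involGroup hS h2) : G))
      ⟨(Additive.toMul x).2.1, hne hx, (Additive.toMul x).2.2⟩
      (s' := ((Additive.toMul y : involGroup hS h2) : G))
      ⟨(Additive.toMul y).2.1, hne hy, (Additive.toMul y).2.2⟩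
    refine ⟨⟨k⁻¹, inv_mem ((hCK k).2 hk)⟩, Additive.toMul.injective (Subtype.ext ?_), fun l hl => ?_⟩
    · rw [hρ]; show k⁻¹ * _ * k⁻¹⁻¹ = _; rw [inv_inv, hke]
    · refine Subtype.ext (inv_injective ?_)
      rw [inv_inv]
      refine invertedBy_conj_inj hS (Additive.toMul x).2.1 (hne hx) (Additive.toMul x).2.2
        ((hCK _).1 (inv_mem l.2)) hk ?_
      rw [inv_inv, hke, ← hρ, hl]
  obtain ⟨n, hn, -, e, χ, he1, hχ⟩ := CfsgLib.Chev.SuzTwo.singer
    (V := Additive (involGroup hS h2))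
    (fun x => congrArg Additive.ofMul (Subtype.ext (Additive.toMul x).2.2))
    (fun k l => Subtype.ext (by
      obtain ⟨i, hi⟩ := k.2
      obtain ⟨j, hj⟩ := l.2
      show (k : G) * l = l * k
      rw [← hi, ← hj, ← zpow_add, ← zpow_add, add_comm]))
    ρ hreg (e₀ := Additive.ofMul ⟨s₀, hs₀.1, hs₀.2.2⟩)
    (fun h => hs₀.2.1 (congrArg (fun z => ((Additive.toMul z : involGroup hS h2) : G)) h))
  haveI : Fintype (GaloisField 2 n) := Fintype.ofFinite _
  set V := D a t ⊓ Subgroup.centralizer {t} with hV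
  have hVD : ∀ v ∈ V, v ∈ D a t := fun v hv => hv.1
  let act : V → (Additive (involGroup hS h2)) ≃+ (Additive (involGroup hS h2)) := fun v =>
    MulEquiv.toAdditive (involAut hS h2 ⟨v.1, hVD v.1 v.2⟩)
  have hact : ∀ (v : V) (x : Additive (involGroup hS h2)),
      ((Additive.toMul (act v x) : involGroup hS h2) : G) =
        (v : G) * ((Additive.toMul x : involGroup hS h2) : G) * (v : G)⁻¹ := fun v x => rfl
  let σ : V → (GaloisField 2 n ≃+ GaloisField 2 n) := fun v => (e.symm.trans (act v)).trans e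
  have hσ : ∀ (v : V) (z : GaloisField 2 n), σ v z = e (act v (e.symm z)) := fun v z => rfl
  have hvfix : ∀ v : V, (v : G) * s₀ = s₀ * v := fun v => by
    have hv : (v : G) ∈ D a t ⊓ Subgroup.centralizer {s₀} := hVs ▸ v.2
    exact Subgroup.mem_centralizer_singleton_iff.1 hv.2
  have hmul : ∀ (v : V) (x y : GaloisField 2 n), σ v (x * y) = σ v x * σ v y := by
    intro v x y
    by_cases hx : x = 0
    · simp [hx]
    obtain ⟨k, hk⟩ := χ.surjective (Units.mk0 x hx)
    have hx' : x = (χ k : GaloisField 2 n) := by rw [hk, Units.val_mk0]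
    have hvk : (v : G) * k * (v : G)⁻¹ ∈ C := by
      obtain ⟨hkD, hki⟩ := (hCK k.1).1 k.2
      refine (hCK _).2 ⟨mul_mem (mul_mem (hVD v.1 v.2) hkD) (inv_mem (hVD v.1 v.2)), ?_⟩
      have hvt := Subgroup.mem_centralizer_singleton_iff.1 v.2.2
      calc t * ((v : G) * k * (v : G)⁻¹) * t⁻¹
          = (t * (v : G)) * k * (t * (v : G))⁻¹ := by group
        _ = (v : G) * (t * k * t⁻¹) * (v : G)⁻¹ := by rw [← hvt]; group
        _ = ((v : G) * k * (v : G)⁻¹)⁻¹ := by rw [hki]; group
    have key : ∀ z, σ v ((χ k : GaloisField 2 n) * z) =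
        (χ ⟨_, hvk⟩ : GaloisField 2 n) * σ v z := by
      intro z
      rw [hσ, hσ, ← hχ]
      refine congrArg e (Additive.toMul.injective (Subtype.ext ?_))
      have h1 : e.symm ((χ k : GaloisField 2 n) * z) = ρ k (e.symm z) :=
        e.injective (by rw [e.apply_symm_apply, hχ, e.apply_symm_apply])
      rw [h1, hact, hρ, hρ, hact]
      group
    have h1 : σ v 1 = 1 := by
      rw [hσ, ← he1, e.symm_apply_apply]
      refine congrArg e (Additive.toMul.injective (Subtype.ext ?_))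
      rw [hact]
      show (v : G) * s₀ * (v : G)⁻¹ = s₀
      rw [hvfix, mul_inv_cancel_right]
    have h2 := key 1
    rw [mul_one, h1, mul_one] at h2
    rw [hx', key, h2]
  let Θ : V →* (GaloisField 2 n ≃ₐ[ZMod 2] GaloisField 2 n) :=
    { toFun := fun v => AlgEquiv.ofRingEquiv (f := { σ v with map_mul' := hmul v }) fun c =>
        DFunLike.congr_fun (Subsingleton.elim
          ((RingEquiv.toRingHom { σ v with map_mul' := hmul v }).comp
            (algebraMap (ZMod 2) (GaloisField 2 n))) (algebraMap (ZMod 2) (GaloisField 2 n))) c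
      map_one' := AlgEquiv.ext fun z => by
        show σ 1 z = z
        rw [hσ]
        have : act 1 (e.symm z) = e.symm z := Additive.toMul.injective (Subtype.ext (by
          rw [hact]; show (1 : G) * _ * (1 : G)⁻¹ = _; group))
        rw [this, e.apply_symm_apply]
      map_mul' := fun v w => AlgEquiv.ext fun z => by
        show σ (v * w) z = σ v (σ w z)
        rw [hσ, hσ, hσ, e.symm_apply_apply]
        refine congrArg e (Additive.toMul.injective (Subtype.ext ?_))
        rw [hact, hact, hact]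
        show ((v : G) * w) * _ * ((v : G) * w)⁻¹ = _
        group }
  obtain ⟨⟨_, v, rfl⟩, hv⟩ := IsCyclic.exists_generator (α := Θ.range)
  refine ⟨v, v.2, le_antisymm (sup_le inf_le_left ((Subgroup.closure_le _).2
    (Set.singleton_subset_iff.2 v.2))) fun u hu => ?_⟩
  obtain ⟨m, hm⟩ := Subgroup.mem_zpowers_iff.1 (hv ⟨_, ⟨u, hu⟩, rfl⟩)
  have hker : Θ (⟨u, hu⟩ * (v ^ m)⁻¹) = 1 := by
    have hm' := congrArg Subtype.val hm
    rw [SubgroupClass.coe_zpow] at hm'
    rw [map_mul, map_inv, map_zpow, hm', mul_inv_cancel]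
  set w : V := ⟨u, hu⟩ * (v ^ m)⁻¹ with hw
  have hwW : (w : G) ∈ D a t ⊓ Subgroup.centralizer {t} ⊓
      Subgroup.centralizer (Cfsg.invertedBy (D a t) t) := by
    rw [centralizer_t_inverted_eq hS]
    refine ⟨hVD w.1 w.2, Subgroup.mem_centralizer_iff.2 fun s hs => ?_⟩
    have hz : σ w (e (Additive.ofMul ⟨s, hs.1, hs.2.2⟩)) = e (Additive.ofMul ⟨s, hs.1, hs.2.2⟩) :=
      DFunLike.congr_fun hker _
    rw [hσ, e.symm_apply_apply] at hz
    have := congrArg (fun z => ((Additive.toMul z : involGroup hS h2) : G)) (e.injective hz)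
    simp only [hact] at this
    exact (mul_inv_eq_iff_eq_mul.1 this).symm
  have hu' : u = (w : G) * (v : G) ^ m := by
    rw [hw, Subgroup.coe_mul, Subgroup.coe_inv, SubgroupClass.coe_zpow, inv_mul_cancel_right]
  rw [hu']
  exact mul_mem (Subgroup.mem_sup_left hwW)
    (Subgroup.mem_sup_right (zpow_mem (Subgroup.subset_closure (Set.mem_singleton _)) m))

end CfsgLib.Chev.RankOne
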