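import Mathlib
import Cfsg.Agent.Lib.Chev.ReeSL2

/-!
The centraliser of an involution of ²G₂ and the Sylow 2-subgroups.
-/

set_option autoImplicit false
set_option maxHeartbeats 1600000
set_option maxRecDepth 100000
set_option linter.unusedSectionVars false

namespace CfsgLib.Chev

open Cfsg.Lie

open scoped Pointwise

namespace SetupG2

variable {K : Type*} [Field K] [Fintype K] {m : ℕ} (S : SetupG2 K m)
include S

/-- The involution of the torus. -/
noncomputable def invol : ↥(twistedG2 K (3 ^ m)) := ⟨S.tauHom (-1), (S.tauHom_mem _).2⟩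

/-- The rank-one subgroup inside the group. -/
noncomputable def psiG : Matrix.SpecialLinearGroup (Fin 2) K →* ↥(twistedG2 K (3 ^ m)) :=
  S.psi.codRestrict _ S.psi_mem

lemma coe_psiG (A : Matrix.SpecialLinearGroup (Fin 2) K) :
    (S.psiG A : GL chevG2.Idx K) = S.psi A := rfl

lemma invol_comm_psi (A : Matrix.SpecialLinearGroup (Fin 2) K) :
    Commute (S.tauHom (-1)) (S.psi A) := by
  have hx : ∀ r ∈ ([1, 3, 8, 10] : List ℕ), ∀ t : K, Commute (S.tauHom (-1)) (goodG2.xG r t) := by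
    intro r hr t
    have hlt : ∀ r ∈ ([1, 3, 8, 10] : List ℕ), r < chevG2.nroots := by decide +kernel
    have hev : ∀ r ∈ ([1, 3, 8, 10] : List ℕ), (chevG2.cartan 0 r + chevG2.cartan 1 r) % 2 = 0 := by
      decide +kernel
    show _ * _ = _ * _
    rw [← mul_inv_eq_iff_eq_mul, S.tauHom_apply, goodG2.torHom_conj_xG _ (hlt r hr)]
    congr 1
    have hall : tauG2 m (-1 : Kˣ) = fun _ => -1 := by
      funext i
      simp only [tauG2]
      split_ifs
      · exact S.odd_e.neg_one_pow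
      · rfl
    rw [hall, show (∏ i : Fin chevG2.rank, (-1 : Kˣ) ^ chevG2.cartan i r) = 1 from ?_]
    · simp
    · rw [show (Finset.univ : Finset (Fin chevG2.rank)) = {⟨0, by decide⟩, ⟨1, by decide⟩} by
        decide +kernel, Finset.prod_pair (by decide), ← zpow_add]
      exact Even.neg_one_zpow (Int.even_iff.2 (hev r hr))
  have h : Subgroup.closure (Set.range slU ∪ Set.range slL) ≤
      (Subgroup.centralizer {S.tauHom (-1)}).comap S.psi := by
    rw [Subgroup.closure_le]
    rintro y (⟨t, rfl⟩ | ⟨t, rfl⟩) <;>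
      rw [SetLike.mem_coe, Subgroup.mem_comap, Subgroup.mem_centralizer_singleton_iff]
    · rw [S.psi_slU]
      exact ((hx 8 (by decide) _).mul_right (hx 10 (by decide) _)).eq.symm
    · rw [S.psi_slL]
      exact ((hx 3 (by decide) _).mul_right (hx 1 (by decide) _)).eq.symm
  rw [closure_slU_slL K] at h
  exact (Subgroup.mem_centralizer_singleton_iff.1 (h (Subgroup.mem_top A))).symm

lemma invol_not_range : S.invol ∉ S.psiG.range := by
  rintro ⟨A, hA⟩
  have hA' : S.psi A = S.tauHom (-1) := congrArg Subtype.val hA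
  have R : SL2Rel (G := Matrix.SpecialLinearGroup (Fin 2) K ⧸ (⊤ : Subgroup _))
      (fun _ : K => 1) (fun _ => 1) 1 1 :=
    ⟨by simp, by simp, by simp, by simp, by simp, by simp⟩
  rcases R.normal_form A with ⟨s, β, rfl⟩ | ⟨α, s, β, rfl⟩
  · rw [map_mul, S.psi_slD] at hA'
    have e : S.psi (slU β) = S.tauHom ((s ^ (3 * 3 ^ m + 1))⁻¹ * -1) := by
      rw [map_mul, map_inv, ← hA', inv_mul_cancel_left]
    have h1 : S.psi (slU β) ∈ chevG2.posUnipotent K ⊓ chevG2.diagonalSubgroup K :=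
      ⟨(S.psi_slU_pos β).1, e ▸ (S.tauHom_mem _).1⟩
    rw [goodG2.pos_inf_diagonal, Subgroup.mem_bot] at h1
    have h2 : (s ^ (3 * 3 ^ m + 1))⁻¹ * -1 = 1 := S.tauHom_inj (by rw [← e, h1, map_one])
    rw [inv_mul_eq_one] at h2
    obtain ⟨k, hk⟩ := ((show Odd 3 by decide).mul S.odd_e).add_odd odd_one
    rw [hk, _root_.pow_add] at h2
    -- `-1` is not a square
    have h3 : ((s ^ k) * (s ^ k)) ^ ((3 ^ (2 * m + 1) - 1) / 2) = 1 := by
      rw [← sq, ← pow_mul, Nat.mul_div_cancel' ?_, ← S.card_units_K, pow_card_eq_one']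
      have : 3 ^ (2 * m + 1) % 2 = 1 := by simp [Nat.pow_mod]
      omega
    rw [h2, S.half_odd.neg_one_pow] at h3
    exact S.neg_one_ne_one h3
  · refine S.psi_W_not_borel ?_
    rw [map_mul, map_mul, map_mul] at hA'
    have e : S.psi slW = (S.psi (slD s))⁻¹ * (S.psi (slU α))⁻¹ * S.tauHom (-1) * (S.psi (slU β))⁻¹ := by
      rw [← hA']; group
    rw [e, S.psi_slD]
    exact mul_mem (mul_mem (mul_mem (Subgroup.inv_mem _ (S.diag_le_borel (S.tauHom_mem _)))
      (Subgroup.inv_mem _ (S.pos_le_borel (S.psi_slU_pos α)))) (S.diag_le_borel (S.tauHom_mem _)))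
      (Subgroup.inv_mem _ (S.pos_le_borel (S.psi_slU_pos β)))

lemma invol_sq : S.invol * S.invol = 1 :=
  Subtype.ext (show S.tauHom (-1) * S.tauHom (-1) = 1 by rw [← map_mul]; simp)

lemma invol_ne : S.invol ≠ 1 := fun h =>
  S.neg_one_ne_one (S.tauHom_inj ((congrArg Subtype.val h).trans (map_one _).symm))

/-- An involution of the torus is the distinguished one. -/
lemma eq_invol {a : ↥(twistedG2 K (3 ^ m))} (haH : (a : GL chevG2.Idx K) ∈ chevG2.diagonalSubgroup K)
    (ha1 : a ≠ 1) (ha2 : a * a = 1) : a = S.invol := by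
  have hD : (a : GL chevG2.Idx K) ∈ chevG2.diagonalSubgroup K ⊓ twistedG2 K (3 ^ m) := ⟨haH, a.2⟩
  rw [← S.tauHom_range] at hD
  obtain ⟨b, hb⟩ := hD
  have hb2 : b * b = 1 := S.tauHom_inj (by rw [map_mul, hb, map_one]; exact congrArg Subtype.val ha2)
  rcases sq_eq_one_iff.1 (show (b : K) ^ 2 = 1 by rw [sq, ← Units.val_mul, hb2]; rfl) with h | h
  · exact absurd (Subtype.ext (by rw [← hb, show b = 1 from Units.ext h, map_one]; rfl)) ha1
  · exact Subtype.ext (by rw [← hb, show b = -1 from Units.ext (by simpa using h)]; rfl)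

lemma zpowers_invol {z : ↥(twistedG2 K (3 ^ m))} (hz : z ∈ Subgroup.zpowers S.invol) :
    z = 1 ∨ z = S.invol := by
  obtain ⟨k, rfl⟩ := hz
  rcases Int.even_or_odd k with ⟨l, rfl⟩ | ⟨l, rfl⟩
  · left
    show S.invol ^ (l + l) = 1
    rw [← two_mul, zpow_mul, show S.invol ^ (2 : ℤ) = 1 by rw [zpow_ofNat, sq, S.invol_sq], one_zpow]
  · right
    show S.invol ^ (2 * l + 1) = _
    rw [zpow_add_one, zpow_mul, show S.invol ^ (2 : ℤ) = 1 by rw [zpow_ofNat, sq, S.invol_sq],
      one_zpow, one_mul]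

/-- The product of the rank-one subgroup and the involution. -/
noncomputable def centHom :
    ↥(Subgroup.zpowers S.invol) × Matrix.SpecialLinearGroup (Fin 2) K →* ↥(twistedG2 K (3 ^ m)) :=
  (Subgroup.zpowers S.invol).subtype.noncommCoprod S.psiG fun z A => by
    rcases S.zpowers_invol z.2 with h | h <;> rw [Subgroup.coe_subtype, h]
    · exact Commute.one_left _
    · exact Subtype.ext (S.invol_comm_psi A).eq

lemma centHom_apply (z : ↥(Subgroup.zpowers S.invol)) (A : Matrix.SpecialLinearGroup (Fin 2) K) :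
    S.centHom (z, A) = (z : ↥(twistedG2 K (3 ^ m))) * S.psiG A := rfl

lemma psiG_le : S.psiG.range ≤ S.centHom.range := by
  rintro x ⟨A, rfl⟩
  exact ⟨(1, A), by simp [centHom_apply]⟩

lemma invol_mem_cent : S.invol ∈ S.centHom.range :=
  ⟨(⟨S.invol, Subgroup.mem_zpowers _⟩, 1), by simp [centHom_apply]⟩

lemma psi_range_le_centralizer : S.centHom.range ≤ Subgroup.centralizer {S.invol} := by
  rintro x ⟨⟨z, A⟩, rfl⟩
  rw [Subgroup.mem_centralizer_singleton_iff, centHom_apply]
  have hA : Commute S.invol (S.psiG A) := Subtype.ext (S.invol_comm_psi A).eq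
  have hz : Commute S.invol (z : ↥(twistedG2 K (3 ^ m))) := by
    rcases S.zpowers_invol z.2 with h | h
    · rw [h]; exact Commute.one_right _
    · rw [h]
  exact (hz.mul_right hA).eq.symm

/-- The torus in the product. -/
lemma tau_mem_cent (b : Kˣ) : (⟨S.tauHom b, (S.tauHom_mem b).2⟩ : ↥(twistedG2 K (3 ^ m))) ∈ S.centHom.range := by
  have hsq : ∀ y : Kˣ, (⟨S.tauHom (y * y), (S.tauHom_mem _).2⟩ : ↥(twistedG2 K (3 ^ m))) ∈
      S.centHom.range := by
    intro y
    refine S.psiG_le ⟨slD (y ^ (3 * 3 ^ m - 1)), Subtype.ext ?_⟩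
    show S.psi _ = S.tauHom (y * y)
    rw [S.psi_slD]
    congr 1
    have h1 : 1 ≤ 3 * 3 ^ m := Nat.one_le_iff_ne_zero.2 (by positivity)
    obtain ⟨k, hk⟩ := Nat.exists_eq_add_of_le h1
    refine mul_right_cancel (b := y) ?_
    rw [← pow_mul, ← pow_succ,
      show (3 * 3 ^ m - 1) * (3 * 3 ^ m + 1) + 1 = 3 * 3 ^ m * (3 * 3 ^ m) by
        rw [hk, show 1 + k - 1 = k by omega]; ring,
      show 3 * 3 ^ m * (3 * 3 ^ m) = 3 * 3 ^ m * 3 ^ m * 3 by ring, pow_mul, S.unit_pow_q,
      pow_three, mul_assoc]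
  have hchar : ringChar K ≠ 2 := by
    have := S.char
    rw [ringChar.eq K 3]
    decide
  rcases FiniteField.pow_dichotomy hchar b.ne_zero with h | h
  · obtain ⟨y, hy⟩ := (FiniteField.unit_isSquare_iff hchar b).2 (Units.ext (by simpa using h))
    subst hy
    exact hsq y
  · obtain ⟨y, hy⟩ := (FiniteField.unit_isSquare_iff hchar (-b)).2 (Units.ext (by
      have hodd : Odd (Fintype.card K / 2) := by
        rw [S.card]
        have : 3 ^ (2 * m + 1) % 4 = 3 := by rw [pow_succ, pow_mul, Nat.mul_mod, Nat.pow_mod]; simp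
        rw [Nat.odd_iff]
        generalize 3 ^ (2 * m + 1) = x at this ⊢
        omega
      rw [Units.val_pow_eq_pow_val, Units.val_neg, hodd.neg_pow, h, neg_neg, Units.val_one]))
    have hb : b = -1 * (y * y) := by rw [← hy]; simp
    subst hb
    have e : (⟨S.tauHom (-1 * (y * y)), (S.tauHom_mem _).2⟩ : ↥(twistedG2 K (3 ^ m))) =
        S.invol * ⟨S.tauHom (y * y), (S.tauHom_mem _).2⟩ := Subtype.ext (map_mul _ _ _)
    rw [e]
    exact mul_mem S.invol_mem_cent (hsq y)

/-- A unipotent element commuting with the involution. -/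
lemma fixed_pos {u : GL chevG2.Idx K} (hu : u ∈ chevG2.posUnipotent K ⊓ twistedG2 K (3 ^ m))
    (h : S.tauHom (-1) * u * (S.tauHom (-1))⁻¹ = u) : ∃ α, u = S.psi (slU α) := by
  obtain ⟨t, α, v, rfl⟩ := S.mem_pos hu
  have h' := S.tau_comm_word h
  have hne : ((-1 : Kˣ) : K) ≠ 1 := fun e => S.neg_one_ne_one (Units.ext e)
  have he : Odd (3 ^ m : ℤ) := Odd.pow (by decide)
  have h6 : t = 0 := by
    have := h' 6 (by decide)
    rw [show S.tauExp 6 = 2 - 3 * 3 ^ m by simp [tauExp],
      Odd.neg_one_zpow (Int.odd_sub.2 (iff_of_false (by decide) (fun hh => by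
        simpa [Int.not_even_iff_odd.2 ((show Odd (3 : ℤ) by decide).mul he)] using hh))),
      show S.wordVal t α v 6 = t by simp [wordVal]] at this
    by_contra ht
    exact hne ((mul_eq_right₀ ht).1 this)
  have h9 : v = 0 := by
    have := h' 9 (by decide)
    rw [show S.tauExp 9 = 3 ^ m by simp [tauExp], he.neg_one_zpow,
      show S.wordVal t α v 9 = v ^ 3 ^ m by simp [wordVal]] at this
    by_contra hv
    exact hne ((mul_eq_right₀ (pow_ne_zero _ hv)).1 this)
  subst h6 h9
  exact ⟨α, (S.psi_slU_word α).symm⟩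

lemma fixed_borel {b : ↥(twistedG2 K (3 ^ m))} (hb : b ∈ S.pB) (h : S.invol * b = b * S.invol) :
    b ∈ S.centHom.range := by
  obtain ⟨y, hy, t, ht, he⟩ := S.borel_decomp (S.mem_pB.1 hb)
  obtain ⟨c, rfl⟩ := S.tauHom_range.symm ▸ ht
  have h' : S.tauHom (-1) * (b : GL chevG2.Idx K) = b * S.tauHom (-1) := congrArg Subtype.val h
  rw [he, mul_assoc y, ← map_mul, mul_comm c, map_mul, ← mul_assoc, ← mul_assoc] at h'
  have hy' := mul_right_cancel h'
  obtain ⟨α, hα⟩ := S.fixed_pos hy (by rw [hy', mul_inv_cancel_right])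
  have e : b = S.psiG (slU α) * ⟨S.tauHom c, (S.tauHom_mem c).2⟩ :=
    Subtype.ext (by rw [he, hα]; rfl)
  rw [e]
  exact mul_mem (S.psiG_le ⟨_, rfl⟩) (S.tau_mem_cent c)

/-- Splitting a commuting element of the big cell. -/
lemma cell_comm {u b : GL chevG2.Idx K} (hu : u ∈ chevG2.posUnipotent K ⊓ twistedG2 K (3 ^ m))
    (hb : b ∈ chevG2.borelSubgroup K ⊓ twistedG2 K (3 ^ m))
    (h : S.tauHom (-1) * (u * S.omega * b) = u * S.omega * b * S.tauHom (-1)) :
    (∃ α, u = S.psi (slU α)) ∧ (⟨b, hb.2⟩ : ↥(twistedG2 K (3 ^ m))) ∈ S.centHom.range := by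
  obtain ⟨c, hc⟩ := S.tauHom_range.symm ▸ S.omega_normalizes (S.tauHom_mem (-1))
  have hc' : c = -1 := by
    have h1 : c * c = 1 := S.tauHom_inj (by
      rw [map_mul, hc, map_one, show S.omega⁻¹ * S.tauHom (-1) * S.omega *
        (S.omega⁻¹ * S.tauHom (-1) * S.omega) = S.omega⁻¹ * (S.tauHom (-1) * S.tauHom (-1)) * S.omega by
          group, ← map_mul]
      simp)
    rcases sq_eq_one_iff.1 (show (c : K) ^ 2 = 1 by rw [sq, ← Units.val_mul, h1]; rfl) with h2 | h2
    · exfalso
      rw [show c = 1 from Units.ext h2, map_one] at hc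
      refine S.neg_one_ne_one (S.tauHom_inj ?_)
      rw [map_one]
      calc S.tauHom (-1) = S.omega * (S.omega⁻¹ * S.tauHom (-1) * S.omega) * S.omega⁻¹ := by group
        _ = 1 := by rw [← hc]; group
    · exact Units.ext (by simpa using h2)
  subst hc'
  have h1 : S.tauHom (-1) * u * (S.tauHom (-1))⁻¹ * S.omega *
      (S.omega⁻¹ * S.tauHom (-1) * S.omega * b) = u * S.omega * (b * S.tauHom (-1)) := by
    calc _ = S.tauHom (-1) * (u * S.omega * b) := by group
      _ = _ := by rw [h]; group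
  obtain ⟨e1, e2⟩ := S.cell_unique (S.diag_normalizes_pos (S.tauHom_mem _) hu) hu
    (mul_mem (S.diag_le_borel (S.omega_normalizes (S.tauHom_mem _))) hb)
    (mul_mem hb (S.diag_le_borel (S.tauHom_mem _))) h1
  rw [← hc] at e2
  exact ⟨S.fixed_pos hu e1, S.fixed_borel (b := ⟨b, hb.2⟩) hb (Subtype.ext e2)⟩

/-- The centraliser of the involution. -/
theorem centralizer_eq : Subgroup.centralizer {S.invol} = S.centHom.range := by
  refine le_antisymm (fun g hg => ?_) S.psi_range_le_centralizer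
  have hg' := Subgroup.mem_centralizer_singleton_iff.1 hg
  rcases S.cell g.2 with h | ⟨u, hu, b, hb, he⟩
  · exact S.fixed_borel h hg'.symm
  have hcm : S.tauHom (-1) * (u * S.omega * b) = u * S.omega * b * S.tauHom (-1) := by
    rw [← he]; exact (congrArg Subtype.val hg').symm
  obtain ⟨⟨α, hα⟩, hb'⟩ := S.cell_comm hu hb hcm
  have homega : S.omegaG ∈ S.centHom.range := by
    rcases S.cell (S.psi_mem slW) with h | ⟨u0, hu0, b0, hb0, he0⟩
    · exact absurd h S.psi_W_not_borel
    obtain ⟨⟨α0, hα0⟩, hb0'⟩ := S.cell_comm hu0 hb0 (by rw [← he0]; exact (S.invol_comm_psi slW).eq)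
    have e : S.omegaG = (S.psiG (slU α0))⁻¹ * S.psiG slW * (⟨b0, hb0.2⟩ : ↥(twistedG2 K (3 ^ m)))⁻¹ := by
      refine Subtype.ext ?_
      simp only [Subgroup.coe_mul, Subgroup.coe_inv, omegaG, coe_psiG, ← hα0, he0]
      group
    rw [e]
    exact mul_mem (mul_mem (Subgroup.inv_mem _ (S.psiG_le ⟨_, rfl⟩)) (S.psiG_le ⟨_, rfl⟩))
      (Subgroup.inv_mem _ hb0')
  have e : g = S.psiG (slU α) * S.omegaG * ⟨b, hb.2⟩ := Subtype.ext (by rw [he, hα]; rfl)
  rw [e]
  exact mul_mem (mul_mem (S.psiG_le ⟨_, rfl⟩) homega) hb'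

lemma centHom_ker {z : ↥(Subgroup.zpowers S.invol)} {A : Matrix.SpecialLinearGroup (Fin 2) K}
    (h : S.centHom (z, A) = 1) : z = 1 ∧ (A = 1 ∨ A = slD (-1)) := by
  rw [centHom_apply] at h
  rcases S.zpowers_invol z.2 with hz | hz
  · rw [hz, one_mul] at h
    exact ⟨Subtype.ext hz, S.psi_ker.1 (congrArg Subtype.val h)⟩
  · exfalso
    rw [hz, mul_eq_one_iff_eq_inv] at h
    exact S.invol_not_range (h ▸ Subgroup.inv_mem _ ⟨A, rfl⟩)

/-- The centraliser is `2 × PSL₂(q)`. -/
theorem centralizer_iso {a : ↥(twistedG2 K (3 ^ m))}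
    (haH : (a : GL chevG2.Idx K) ∈ chevG2.diagonalSubgroup K) (ha1 : a ≠ 1) (ha2 : a * a = 1) :
    Nonempty (↥(Subgroup.centralizer {a}) ≃*
      Multiplicative (ZMod 2) × Matrix.ProjectiveSpecialLinearGroup (Fin 2) K) := by
  obtain rfl := S.eq_invol haH ha1 ha2
  let q := QuotientGroup.mk' (Subgroup.center (Matrix.SpecialLinearGroup (Fin 2) K))
  let pr : ↥(Subgroup.zpowers S.invol) × Matrix.SpecialLinearGroup (Fin 2) K →*
      ↥(Subgroup.zpowers S.invol) × Matrix.ProjectiveSpecialLinearGroup (Fin 2) K :=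
    (MonoidHom.id _).prodMap q
  have hpr : Function.Surjective pr := by
    rintro ⟨z, x⟩
    obtain ⟨A, rfl⟩ := QuotientGroup.mk'_surjective _ x
    exact ⟨(z, A), rfl⟩
  have hker : pr.ker = S.centHom.ker := by
    ext ⟨z, A⟩
    rw [MonoidHom.mem_ker, MonoidHom.mem_ker]
    constructor
    · intro h
      obtain ⟨h1, h2⟩ := Prod.ext_iff.1 h
      have hz : z = 1 := h1
      have hA : A ∈ Subgroup.center (Matrix.SpecialLinearGroup (Fin 2) K) :=
        (QuotientGroup.eq_one_iff A).1 h2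
      have e : S.psiG A = 1 := Subtype.ext (S.psi_ker.2 (center_sl2_le hA))
      rw [centHom_apply, hz, e]
      simp
    · intro h
      obtain ⟨rfl, h2⟩ := S.centHom_ker h
      refine Prod.ext rfl ((QuotientGroup.eq_one_iff A).2 ?_)
      rcases h2 with rfl | rfl
      · exact one_mem _
      · exact slD_neg_one_mem_center
  have e1 : (↥(Subgroup.zpowers S.invol) × Matrix.SpecialLinearGroup (Fin 2) K) ⧸ S.centHom.ker ≃*
      ↥(Subgroup.zpowers S.invol) × Matrix.ProjectiveSpecialLinearGroup (Fin 2) K :=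
    (QuotientGroup.quotientMulEquivOfEq hker.symm).trans
      (QuotientGroup.quotientKerEquivOfSurjective pr hpr)
  have e2 : ↥(Subgroup.centralizer {S.invol}) ≃*
      ↥(Subgroup.zpowers S.invol) × Matrix.ProjectiveSpecialLinearGroup (Fin 2) K :=
    ((MulEquiv.subgroupCongr S.centralizer_eq).trans
      (QuotientGroup.quotientKerEquivRange S.centHom).symm).trans e1
  have hcard : Nat.card ↥(Subgroup.zpowers S.invol) = 2 := by
    rw [Nat.card_zpowers]
    exact orderOf_eq_prime (by rw [sq, S.invol_sq]) S.invol_ne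
  exact ⟨e2.trans (MulEquiv.prodCongr (mulEquivOfCyclicCardEq (by simp [hcard])) (MulEquiv.refl _))⟩

/-- The Sylow 2-subgroups. -/
theorem sylow_two (P : Sylow 2 ↥(twistedG2 K (3 ^ m))) : Nat.card P = 8 ∧ ∀ x ∈ P, x * x = 1 := by
  classical
  have := Fact.mk Nat.prime_two
  have := S.char
  -- two commuting involutions of the rank-one subgroup
  obtain ⟨x, y, hxy⟩ := CharP.sq_add_sq K 3 (-1)
  let Rm : Matrix.SpecialLinearGroup (Fin 2) K := ⟨!![(x : K), y; y, -(x : K)], by
    rw [Matrix.det_fin_two_of]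
    push_cast at hxy
    linear_combination -hxy⟩
  have hcen : ∀ A : Matrix.SpecialLinearGroup (Fin 2) K, A.1 = -1 → S.psiG A = 1 := by
    intro A hA
    refine Subtype.ext (S.psi_ker.2 (Or.inr (Subtype.ext ?_)))
    rw [hA]
    ext i j
    fin_cases i <;> fin_cases j <;> simp [slD]
  set w := S.psiG slW
  set r := S.psiG Rm
  have hw : w * w = 1 := by
    rw [← map_mul]
    refine hcen _ ?_
    rw [Matrix.SpecialLinearGroup.coe_mul]
    ext i j
    fin_cases i <;> fin_cases j <;> simp [slW, Matrix.mul_apply, Fin.sum_univ_two]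
  have hr : r * r = 1 := by
    rw [← map_mul]
    refine hcen _ ?_
    rw [Matrix.SpecialLinearGroup.coe_mul]
    push_cast at hxy
    ext i j
    fin_cases i <;> fin_cases j <;> simp [Rm, Matrix.mul_apply, Fin.sum_univ_two] <;>
      first | ring1 | linear_combination hxy
  have hwr : Commute w r := by
    have h : S.psiG (slW * Rm * (Rm * slW)) = 1 := by
      rw [map_mul, map_mul, map_mul]
      show w * r * (r * w) = 1
      rw [show w * r * (r * w) = w * (r * r) * w by group, hr, mul_one, hw]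
    have h' : S.psiG (slW * Rm) * S.psiG (slW * Rm) = 1 := by
      rw [← map_mul]
      refine hcen _ ?_
      simp only [Matrix.SpecialLinearGroup.coe_mul]
      push_cast at hxy
      ext i j
      fin_cases i <;> fin_cases j <;> simp [Rm, slW, Matrix.mul_apply, Fin.sum_univ_two] <;>
        first | ring1 | linear_combination hxy
    rw [map_mul] at h'
    show w * r = r * w
    calc w * r = (w * r)⁻¹ := (inv_eq_of_mul_eq_one_right h').symm
      _ = r * w := by
        rw [_root_.mul_inv_rev, inv_eq_of_mul_eq_one_right hr, inv_eq_of_mul_eq_one_right hw]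
  have hni : ∀ A : Matrix.SpecialLinearGroup (Fin 2) K, A.1 0 1 ≠ 0 ∨ A.1 0 0 ≠ A.1 1 1 →
      S.psiG A ≠ 1 := by
    intro A hA h
    rcases S.psi_ker.1 (congrArg Subtype.val h) with rfl | rfl <;> simp [slD] at hA
  have hw1 : w ≠ 1 := hni _ (Or.inl (by simp [slW]))
  have hxy0 : (x : K) ≠ 0 ∨ (y : K) ≠ 0 := by
    by_contra h0
    push_cast at hxy
    obtain ⟨hx0, hy0⟩ : (x : K) = 0 ∧ (y : K) = 0 := by simpa [not_or] using h0
    rw [hx0, hy0] at hxy
    simp at hxy
  have two_ne : (2 : K) ≠ 0 := fun h2 =>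
    one_ne_zero (show (1 : K) = 0 by linear_combination S.three_zero - h2)
  have hr1 : r ≠ 1 := hni _ (by
    rcases hxy0 with h | h
    · refine Or.inr fun e => h ?_
      have e' : (x : K) = -x := by simpa [Rm] using e
      exact (mul_eq_zero.1 (show (2 : K) * x = 0 by linear_combination e')).resolve_left two_ne
    · exact Or.inl (by simpa [Rm] using h))
  have hwr1 : w * r ≠ 1 := by
    rw [← map_mul]
    refine hni _ ?_
    rw [Matrix.SpecialLinearGroup.coe_mul]
    rcases hxy0 with h | h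
    · exact Or.inl (by simpa [Rm, slW, Matrix.mul_apply, Fin.sum_univ_two] using h)
    · refine Or.inr fun e => h ?_
      have e' : (y : K) = -y := by simpa [Rm, slW, Matrix.mul_apply, Fin.sum_univ_two] using e
      exact (mul_eq_zero.1 (show (2 : K) * y = 0 by linear_combination e')).resolve_left two_ne
  have hz : ∀ (g : ↥(twistedG2 K (3 ^ m))), g * g = 1 → ∀ z ∈ Subgroup.zpowers g, z = 1 ∨ z = g := by
    intro g hg z hz
    obtain ⟨k, rfl⟩ := hz
    rcases Int.even_or_odd k with ⟨l, rfl⟩ | ⟨l, rfl⟩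
    · left
      show g ^ (l + l) = 1
      rw [← two_mul, zpow_mul, show g ^ (2 : ℤ) = 1 by rw [zpow_ofNat, sq, hg], one_zpow]
    · right
      show g ^ (2 * l + 1) = g
      rw [zpow_add_one, zpow_mul, show g ^ (2 : ℤ) = 1 by rw [zpow_ofNat, sq, hg], one_zpow, one_mul]
  let f1 : ↥(Subgroup.zpowers w) × ↥(Subgroup.zpowers r) →* ↥(twistedG2 K (3 ^ m)) :=
    (Subgroup.zpowers w).subtype.noncommCoprod (Subgroup.zpowers r).subtype fun a b => by
      rcases hz w hw _ a.2 with ha | ha <;> rcases hz r hr _ b.2 with hb | hb <;>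
        simp only [Subgroup.coe_subtype, ha, hb] <;>
        first | exact Commute.one_left _ | exact Commute.one_right _ | exact hwr
  have f1val : ∀ p, ∃ A, f1 p = S.psiG A := by
    rintro ⟨a, b⟩
    show ∃ A, (a : ↥(twistedG2 K (3 ^ m))) * b = S.psiG A
    rcases hz w hw _ a.2 with ha | ha <;> rcases hz r hr _ b.2 with hb | hb <;> rw [ha, hb]
    · exact ⟨1, by simp⟩
    · exact ⟨Rm, by simp [r]⟩
    · exact ⟨slW, by simp [w]⟩
    · exact ⟨slW * Rm, by simp [w, r]⟩
  let f : ↥(Subgroup.zpowers S.invol) × (↥(Subgroup.zpowers w) × ↥(Subgroup.zpowers r)) →*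
      ↥(twistedG2 K (3 ^ m)) :=
    (Subgroup.zpowers S.invol).subtype.noncommCoprod f1 fun a p => by
      obtain ⟨A, hA⟩ := f1val p
      rcases S.zpowers_invol a.2 with ha | ha <;> rw [Subgroup.coe_subtype, ha, hA]
      · exact Commute.one_left _
      · exact Subtype.ext (S.invol_comm_psi A).eq
  have hinj : Function.Injective f := by
    rw [← MonoidHom.ker_eq_bot_iff, eq_bot_iff]
    rintro ⟨a, p⟩ h
    rw [MonoidHom.mem_ker] at h
    have h' : (a : ↥(twistedG2 K (3 ^ m))) * f1 p = 1 := h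
    obtain ⟨A, hA⟩ := f1val p
    rcases S.zpowers_invol a.2 with ha | ha
    · rw [ha, one_mul] at h'
      obtain ⟨b, c⟩ := p
      have h2 : (b : ↥(twistedG2 K (3 ^ m))) * c = 1 := h'
      rw [Subgroup.mem_bot]
      rcases hz w hw _ b.2 with hb | hb <;> rcases hz r hr _ c.2 with hc | hc <;> rw [hb, hc] at h2
      · exact Prod.ext (Subtype.ext ha) (Prod.ext (Subtype.ext hb) (Subtype.ext hc))
      · exact absurd (by simpa using h2) hr1
      · exact absurd (by simpa using h2) hw1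
      · exact absurd h2 hwr1
    · exfalso
      rw [ha, hA, mul_eq_one_iff_eq_inv] at h'
      exact S.invol_not_range (h' ▸ Subgroup.inv_mem _ ⟨A, rfl⟩)
  have hcard : Nat.card f.range = 8 := by
    rw [← Nat.card_congr (MonoidHom.ofInjective hinj).toEquiv, Nat.card_prod, Nat.card_prod,
      Nat.card_zpowers, Nat.card_zpowers, Nat.card_zpowers,
      orderOf_eq_prime (p := 2) (by rw [sq, S.invol_sq]) S.invol_ne,
      orderOf_eq_prime (p := 2) (by rw [sq, hw]) hw1, orderOf_eq_prime (p := 2) (by rw [sq, hr]) hr1]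
  have hsq : ∀ z ∈ f.range, z * z = 1 := by
    rintro z ⟨⟨a, b, c⟩, rfl⟩
    rw [← map_mul]
    have ha : a * a = 1 := by
      rcases S.zpowers_invol a.2 with h | h <;> refine Subtype.ext ?_ <;>
        rw [Subgroup.coe_mul, h] <;> simp [S.invol_sq]
    have hb : b * b = 1 := by
      rcases hz w hw _ b.2 with h | h <;> refine Subtype.ext ?_ <;>
        rw [Subgroup.coe_mul, h] <;> simp [hw]
    have hc : c * c = 1 := by
      rcases hz r hr _ c.2 with h | h <;> refine Subtype.ext ?_ <;>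
        rw [Subgroup.coe_mul, h] <;> simp [hr]
    rw [Prod.mk_mul_mk, Prod.mk_mul_mk, ha, hb, hc]
    exact map_one f
  have hp : IsPGroup 2 ↥f.range := IsPGroup.of_card (n := 3) (by rw [hcard]; rfl)
  have hidx : ¬ 2 ∣ f.range.index := by
    have hi := f.range.index_mul_card
    rw [hcard, S.card_eq] at hi
    intro hd
    obtain ⟨k, hk⟩ := hd
    rw [hk] at hi
    set q := 3 ^ (2 * m + 1) with hq
    have h8 : q % 8 = 3 := by
      rw [hq, pow_succ, pow_mul, Nat.mul_mod, Nat.pow_mod]; simp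
    obtain ⟨n, hn⟩ : ∃ n, q = 8 * n + 3 := ⟨q / 8, by omega⟩
    rw [hn, show 8 * n + 3 - 1 = 2 * (4 * n + 1) by omega,
      show (8 * n + 3) ^ 3 * (2 * (4 * n + 1)) * ((8 * n + 3) ^ 3 + 1) =
        8 * ((8 * n + 3) ^ 3 * (4 * n + 1) * (2 * (64 * n ^ 3 + 72 * n ^ 2 + 27 * n + 3) + 1)) by ring]
      at hi
    have hodd : Odd ((8 * n + 3) ^ 3 * (4 * n + 1) *
        (2 * (64 * n ^ 3 + 72 * n ^ 2 + 27 * n + 3) + 1)) :=
      ((show Odd (8 * n + 3) from ⟨4 * n + 1, by ring⟩).pow.mul ⟨2 * n, by ring⟩).mul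
        ⟨_, rfl⟩
    rw [Nat.odd_iff] at hodd
    omega
  obtain ⟨g, rfl⟩ := MulAction.exists_smul_eq ↥(twistedG2 K (3 ^ m)) (hp.toSylow hidx) P
  refine ⟨?_, fun z hz' => ?_⟩
  · rw [Sylow.card_eq_multiplicity, ← Sylow.card_eq_multiplicity (hp.toSylow hidx)]
    exact hcard
  · have h1 : g⁻¹ * z * g ∈ f.range := by
      have h2 : z ∈ MulAut.conj g • f.range := hz'
      simpa [Subgroup.mem_pointwise_smul_iff_inv_smul_mem, MulAut.conj_apply, mul_assoc] using h2
    have := hsq _ h1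
    calc z * z = g * (g⁻¹ * z * g * (g⁻¹ * z * g)) * g⁻¹ := by group
      _ = 1 := by rw [this]; group

end SetupG2

end CfsgLib.Chev
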