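import Mathlib
import Cfsg.Agent.Lib.Chev.ReeInvolution
import Cfsg.Agent.Lib.Chev.ReeSeven
import Cfsg.Agent.Lib.Chev.ModWord

/-!
Elements of ²G₂ with a prescribed eigenvalue in the seven-dimensional representation.
-/

set_option autoImplicit false
set_option maxHeartbeats 1600000
set_option maxRecDepth 100000
set_option linter.unusedSectionVars false

namespace CfsgLib.Chev

open Cfsg.Lie

namespace ReeEigen

/-- The characteristic polynomial attached to a trace `τ` and its conjugate `σ`. -/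
def poly {L : Type*} [CommRing L] (τ σ l : L) : L :=
  l ^ 7 - τ * l ^ 6 + (2 * τ + σ) * l ^ 5 - (τ ^ 2 - τ - σ) * l ^ 4 + (τ ^ 2 - τ - σ) * l ^ 3 -
    (2 * τ + σ) * l ^ 2 + τ * l - 1

/-- The weights of the representation are roots. -/
theorem poly_six {L : Type*} [Field L] {x y z : L} (hx : x ≠ 0) (hy : y ≠ 0) (hxy : x * y * z = 1) :
    poly (1 + (x + x⁻¹ + y + y⁻¹ + z + z⁻¹))
      (1 + (x * y⁻¹ + y * x⁻¹ + (y * z⁻¹ + z * y⁻¹) + (z * x⁻¹ + x * z⁻¹))) x = 0 := by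
  obtain rfl : z = (x * y)⁻¹ := eq_inv_of_mul_eq_one_right hxy
  simp only [poly]
  field_simp
  ring

/-- The coordinates of the seven-dimensional submodule. -/
def sIx : Fin 7 → ℕ := ![0, 4, 5, 6, 9, 10, 11]

/-- The same coordinates as indices. -/
def sEmb : Fin 7 → chevG2.Idx :=
  ![Sum.inl ⟨0, by decide⟩, Sum.inr ⟨2, by decide⟩, Sum.inr ⟨3, by decide⟩, Sum.inr ⟨4, by decide⟩,
    Sum.inr ⟨7, by decide⟩, Sum.inr ⟨8, by decide⟩, Sum.inr ⟨9, by decide⟩]

lemma ix_sEmb : ∀ i, ix chevG2 (sEmb i) = sIx i := by decide +kernel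

lemma sEmb_mem : ∀ i, ix chevG2 (sEmb i) ∈ shortIx := by decide +kernel

lemma sEmb_surj : ∀ a : chevG2.Idx, ix chevG2 a ∈ shortIx → ∃ i, sEmb i = a := by decide +kernel

lemma sEmb_injective : Function.Injective sEmb := by decide +kernel

/-- The block on the submodule. -/
def res7 {R : Type*} [Field R] (M : Matrix chevG2.Idx chevG2.Idx R) : Matrix (Fin 7) (Fin 7) R :=
  M.submatrix sEmb sEmb

lemma res7_one {R : Type*} [Field R] : res7 (1 : Matrix chevG2.Idx chevG2.Idx R) = 1 :=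
  Matrix.submatrix_one sEmb sEmb_injective

lemma res7_mul {R : Type*} [Field R] {M N : Matrix chevG2.Idx chevG2.Idx R} (hN : ShortStable N) :
    res7 (M * N) = res7 M * res7 N := by
  let e : Fin 7 ≃ ShortIdx := Equiv.ofBijective (fun i => ⟨sEmb i, sEmb_mem i⟩)
    ⟨fun i j h => sEmb_injective (congrArg Subtype.val h),
      fun a => (sEmb_surj a.1 a.2).imp fun i h => Subtype.ext h⟩
  show (shortRes (M * N)).submatrix e e = (shortRes M).submatrix e e * (shortRes N).submatrix e e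
  rw [shortRes_mul hN, Matrix.submatrix_mul_equiv]

/-- The word of the long element. -/
def wl : List (ℕ × ℤ) :=
  [(7, 1), (4, -1), (7, 1), (6, 1), (5, -1), (6, 1), (7, 1), (4, -1), (7, 1), (6, 1), (5, -1), (6, 1),
   (7, 1), (4, -1), (7, 1), (6, 1), (5, -1), (6, 1)]

/-- The coefficient of the first power in a root element. -/
def tab1 (r : ℕ) : Fin 7 → Fin 7 → ℤ :=
  if r = 9 then fun i j =>
    if i = 0 ∧ j = 1 then -1 else if i = 4 ∧ j = 2 then 1 else if i = 5 ∧ j = 3 then -1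
    else if i = 6 ∧ j = 0 then -1 else 0
  else fun i j => if i = 5 ∧ j = 1 then 1 else if i = 6 ∧ j = 2 then -1 else 0

/-- The coefficient of the second power in a root element. -/
def tab2 (r : ℕ) : Fin 7 → Fin 7 → ℤ :=
  fun i j => if r = 9 ∧ i = 6 ∧ j = 1 then -1 else 0

/-- The signs of the involution of the torus. -/
def sgn7 : Fin 7 → ℤ := ![1, -1, 1, -1, -1, 1, -1]

/-- The permutation of the long element. -/
def pi7 : Fin 7 → Fin 7 := ![0, 6, 5, 4, 3, 2, 1]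

lemma check_wl : ∀ i j : Fin 7,
    (coef (wordP chevG2 3 wl [(sIx j, 1)]) (sIx i) - (if pi7 i = j then -1 else 0)) % 3 = 0 := by
  decide +kernel

lemma check_root : ∀ r ∈ ([9, 11] : List ℕ), ∀ i j : Fin 7,
    (coef (fcol chevG2 r 1 (sIx j)) (sIx i) - tab1 r i j) % 3 = 0 ∧
    (coef (fcol chevG2 r 2 (sIx j)) (sIx i) - tab2 r i j) % 3 = 0 ∧
    coef (fcol chevG2 r 3 (sIx j)) (sIx i) % 3 = 0 := by
  decide +kernel

lemma check_tor : ∀ i : Fin 7,
    (torExp chevG2 0 (sEmb i) + torExp chevG2 1 (sEmb i)) % 2 =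
      if sgn7 i = 1 then 0 else 1 := by decide +kernel

end ReeEigen

namespace SetupG2

open ReeEigen

variable {K : Type*} [Field K] [Fintype K] {m : ℕ} (S : SetupG2 K m)
include S

lemma res7_wordN : res7 ((goodG2.wordN wordG2 : GL chevG2.Idx K) : Matrix chevG2.Idx chevG2.Idx K) =
    Matrix.of fun i j => if pi7 i = j then -1 else 0 := by
  have := S.char
  have hsimp : chevG2.simple 0 = 7 ∧ chevG2.simple 1 = 6 ∧ chevG2.neg 7 = 4 ∧ chevG2.neg 6 = 5 := by
    decide +kernel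
  have hw : goodG2.wordN wordG2 = (wl.map fun a => goodG2.xG (F := K) a.1 (a.2 : K)).prod := by
    simp [Good.wordN, wordG2, Good.nI, Good.nG, wl, hsimp, mul_assoc]
  have hlt : ∀ a ∈ wl, a.1 < chevG2.nroots := by decide +kernel
  ext i j
  have hv : ∀ q ∈ ([(ix chevG2 (sEmb j), 1)] : SVec), q.1 ∈ Set.range (ix chevG2) := fun q hq => by
    rw [List.mem_singleton] at hq
    exact hq ▸ ⟨_, rfl⟩
  have hsingle : svecVal chevG2 K [(ix chevG2 (sEmb j), 1)] = Pi.single (sEmb j) 1 := by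
    funext c
    by_cases hc : c = sEmb j
    · subst hc; simp [svecVal, coef_cons, coef_nil]
    · have hne : ix chevG2 (sEmb j) ≠ ix chevG2 c := fun e => hc (ix_injective chevG2 e).symm
      simp [svecVal, coef_cons, coef_nil, hne, hc]
  have h := congrFun (goodG2.wordP_spec (F := K) (p := 3) wl hlt _ hv).2 (sEmb i)
  rw [hsingle, Matrix.mulVec_single_one] at h
  simp only [res7, Matrix.submatrix_apply, Matrix.of_apply, hw]
  refine h.symm.trans ?_
  show ((coef _ _ : ℤ) : K) = _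
  rw [ix_sEmb, ix_sEmb, S.cast_eq_of_mod (check_wl i j)]
  split_ifs <;> simp

lemma res7_xG {r : ℕ} (hr : r ∈ ([9, 11] : List ℕ)) (t : K) :
    res7 ((goodG2.xG r t : GL chevG2.Idx K) : Matrix chevG2.Idx chevG2.Idx K) = Matrix.of fun i j =>
      (if i = j then 1 else 0) + t * (tab1 r i j : K) + t ^ 2 * (tab2 r i j : K) := by
  have hlt : ∀ r ∈ ([9, 11] : List ℕ), r < chevG2.nroots := by decide +kernel
  ext i j
  obtain ⟨h1, h2, h3⟩ := check_root r hr i j
  have key : ∀ k ∈ [1, 2, 3], ∀ z : ℤ, (coef (fcol chevG2 r k (sIx j)) (sIx i) - z) % 3 = 0 →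
      amat chevG2 K r k (sEmb i) (sEmb j) = (z : K) := by
    intro k hk z hz
    show ((rmat chevG2 r k (sEmb i) (sEmb j) : ℤ) : K) = z
    rw [goodG2.lie.rmat_apply (hlt r hr) hk, ix_sEmb, ix_sEmb]
    exact S.cast_eq_of_mod hz
  simp only [res7, Matrix.submatrix_apply, Matrix.of_apply, Good.coe_xG, goodG2.x_eq_xr (hlt r hr),
    xr, Matrix.add_apply, Matrix.smul_apply, smul_eq_mul, Matrix.one_apply, sEmb_injective.eq_iff,
    key 1 (by simp) _ h1, key 2 (by simp) _ h2, key 3 (by simp) 0 (by simpa using h3), Int.cast_zero,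
    mul_zero, add_zero]

lemma res7_invol : res7 ((S.tauHom (-1) : GL chevG2.Idx K) : Matrix chevG2.Idx chevG2.Idx K) =
    Matrix.diagonal fun i => (sgn7 i : K) := by
  have hall : tauG2 m (-1 : Kˣ) = fun _ => -1 := by
    funext i
    simp only [tauG2]
    split_ifs
    · exact S.odd_e.neg_one_pow
    · rfl
  rw [S.tauHom_apply, torHom_apply, res7, Matrix.submatrix_diagonal _ _ sEmb_injective]
  congr 1
  funext i
  rw [Function.comp_apply, hall, show (Finset.univ : Finset (Fin chevG2.rank)) =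
    {⟨0, by decide⟩, ⟨1, by decide⟩} by decide +kernel, Finset.prod_pair (by decide), ← zpow_add]
  have h := check_tor i
  show (((-1 : Kˣ) ^ (torExp chevG2 0 (sEmb i) + torExp chevG2 1 (sEmb i)) : Kˣ) : K) = _
  have hs : sgn7 i = 1 ∨ sgn7 i = -1 := by revert i; decide
  rcases hs with hs | hs <;> rw [hs] at h ⊢
  · rw [if_pos rfl] at h
    rw [Even.neg_one_zpow (Int.even_iff.2 h)]
    simp
  · rw [if_neg (by decide)] at h
    rw [Odd.neg_one_zpow (Int.odd_iff.2 h)]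
    simp

/-- The restriction to the submodule. -/
noncomputable def rep7 : ↥(twistedG2 K (3 ^ m)) →* Matrix (Fin 7) (Fin 7) K where
  toFun g := res7 ((g : GL chevG2.Idx K) : Matrix chevG2.Idx chevG2.Idx K)
  map_one' := res7_one
  map_mul' g h := by
    have := S.char
    exact res7_mul (shortStable_group (S.sys.le_group h.2))

lemma rep7_apply (g : ↥(twistedG2 K (3 ^ m))) :
    S.rep7 g = res7 ((g : GL chevG2.Idx K) : Matrix chevG2.Idx chevG2.Idx K) := rfl

/-- The central element of a long root subgroup. -/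
lemma long_mem (v : K) : goodG2.xG 9 (v ^ 3 ^ m) * goodG2.xG 11 v ∈ twistedG2 K (3 ^ m) := by
  have h := (S.word_pos 0 0 v).2
  have h0 : (0 : K) ^ 3 ^ m = 0 := zero_pow (pow_ne_zero _ (by norm_num))
  simpa [reeWordU, g2a, g2b, g2ab, g2aab, g2aaab, g2aaabb, h0, zero_pow, Good.xG_zero, goodG2.xG_zero]
    using h

/-- The two families. -/
noncomputable def famG (k : ℕ) (v : K) : ↥(twistedG2 K (3 ^ m)) :=
  S.invol ^ k * (S.omegaG⁻¹ * ⟨goodG2.xG 9 (v ^ 3 ^ m) * goodG2.xG 11 v, S.long_mem v⟩)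

lemma rep7_famG (k : ℕ) (v : K) (i j : Fin 7) : S.rep7 (S.famG k v) i j =
    -((sgn7 i : K) ^ k) *
      ((Matrix.of fun i j => (if i = j then 1 else 0) + v ^ 3 ^ m * (tab1 9 i j : K) +
          (v ^ 3 ^ m) ^ 2 * (tab2 9 i j : K)) *
        (Matrix.of fun i j => (if i = j then 1 else 0) + v * (tab1 11 i j : K) +
          v ^ 2 * (tab2 11 i j : K)) : Matrix (Fin 7) (Fin 7) K) (pi7 i) j := by
  have hd : S.rep7 S.invol = Matrix.diagonal fun i => (sgn7 i : K) := S.res7_invol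
  have hw : S.rep7 S.omegaG⁻¹ = Matrix.of fun i j => if pi7 i = j then (-1 : K) else 0 := by
    rw [rep7_apply, ← S.res7_wordN]
    simp [omegaG, omega]
  have hx : S.rep7 ⟨goodG2.xG 9 (v ^ 3 ^ m) * goodG2.xG 11 v, S.long_mem v⟩ =
      res7 ((goodG2.xG 9 (v ^ 3 ^ m) : GL chevG2.Idx K) : Matrix chevG2.Idx chevG2.Idx K) *
        res7 ((goodG2.xG 11 v : GL chevG2.Idx K) : Matrix chevG2.Idx chevG2.Idx K) := by
    have := S.char
    rw [rep7_apply]
    show res7 (_ * _) = _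
    exact res7_mul (shortStable_x (by decide +kernel) v)
  rw [famG, map_mul, map_mul, map_pow, hd, hw, hx, S.res7_xG (by simp), S.res7_xG (by simp),
    Matrix.diagonal_pow, Matrix.diagonal_mul, Matrix.mul_apply]
  simp only [Pi.pow_apply, Matrix.of_apply, ite_mul, zero_mul, one_mul, Finset.sum_ite_eq,
    Finset.mem_univ, if_true, mul_neg, neg_mul]

/-- An element with an eigenvalue that is a root of the polynomial attached to a trace. -/
theorem exists_eigen {L : Type*} [Field L] [Algebra K L] {l : L} (τ : K) (hl : l ≠ 0)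
    (hl2 : l ^ 2 ≠ 1)
    (hP : poly (algebraMap K L τ) (algebraMap K L (τ ^ (3 * 3 ^ m))) l = 0) :
    ∃ g : ↥(twistedG2 K (3 ^ m)), ∃ w : Fin 7 → L, w ≠ 0 ∧
      Matrix.mulVec ((S.rep7 g).map (algebraMap K L)) w = l • w := by
  have := S.char
  -- `τ + 1` is a square up to sign
  classical
  obtain ⟨k, V, hk, hV⟩ : ∃ (k : ℕ) (V : K), (k = 0 ∨ k = 1) ∧ τ + 1 = (-1) ^ k * (V * V) := by
    by_cases hsq : IsSquare (τ + 1)
    · obtain ⟨V, hV⟩ := hsq
      exact ⟨0, V, Or.inl rfl, by rw [pow_zero, one_mul, hV]⟩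
    · have hc : Fintype.card K % 4 = 3 := by
        have h : ∀ n : ℕ, 3 ^ (2 * n + 1) % 4 = 3 := fun n => by
          induction n with
          | zero => rfl
          | succ n ih =>
            rw [show 2 * (n + 1) + 1 = 2 * n + 1 + 2 by ring, _root_.pow_add, Nat.mul_mod, ih]; rfl
        rw [S.card]; exact h m
      have hneg : ¬ IsSquare (-1 : K) := fun h =>
        (FiniteField.isSquare_neg_one_iff.1 h) hc
      have h0 : τ + 1 ≠ 0 := fun h => hsq (h ▸ IsSquare.zero)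
      obtain ⟨V, hV⟩ : IsSquare ((-1) * (τ + 1)) := by
        rw [← quadraticChar_one_iff_isSquare (mul_ne_zero (neg_ne_zero.2 one_ne_zero) h0), map_mul,
          quadraticChar_neg_one_iff_not_isSquare.2 hneg, quadraticChar_neg_one_iff_not_isSquare.2 hsq]
        norm_num
      exact ⟨1, V, Or.inr rfl, by linear_combination -hV⟩
  set v : K := V ^ (3 * 3 ^ m) with hv
  have hVv : v ^ 3 ^ m = V := by rw [hv, ← pow_mul, S.pow_q]
  have hodd : ((-1 : K) ^ k) ^ (3 * 3 ^ m) = (-1) ^ k := by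
    rw [← pow_mul, mul_comm, pow_mul, ((by decide : Odd 3).mul S.odd_e).neg_one_pow]
  have hσ : τ ^ (3 * 3 ^ m) + 1 = (-1) ^ k * (v * v) := by
    have h := congrArg (fun x : K => x ^ (3 * 3 ^ m)) hV
    simp only [S.pow_add', one_pow, mul_pow] at h
    rw [h, hodd, hv]
  refine ⟨S.famG k v, ?_⟩
  set A := algebraMap K L with hA
  have h3 : (3 : L) = 0 := by rw [← map_ofNat A 3, S.three_zero, map_zero]
  obtain ⟨ε, hε⟩ : ∃ ε : L, ε = (-1) ^ k := ⟨_, rfl⟩
  have hε2 : ε * ε = 1 := by rcases hk with rfl | rfl <;> simp [hε]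
  obtain ⟨X, hX⟩ : ∃ X : L, X = A V := ⟨_, rfl⟩
  obtain ⟨Y, hY⟩ : ∃ Y : L, Y = A v := ⟨_, rfl⟩
  obtain ⟨a, ha⟩ : ∃ a : L, a = ε * (X * X) := ⟨_, rfl⟩
  obtain ⟨b, hb⟩ : ∃ b : L, b = ε * (Y * Y) := ⟨_, rfl⟩
  have hτ : A τ = -1 + a := by
    rw [ha, hε, hX, show τ = -1 + (τ + 1) by ring, hV]; simp
  have hσ' : A (τ ^ (3 * 3 ^ m)) = -1 + b := by
    rw [hb, hε, hY, show τ ^ (3 * 3 ^ m) = -1 + (τ ^ (3 * 3 ^ m) + 1) by ring, hσ]; simp
  rw [hτ, hσ'] at hP
  simp only [poly] at hP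
  obtain ⟨s, hs⟩ : ∃ s : L, s = l ^ 2 - 1 := ⟨_, rfl⟩
  have hs0 : s ≠ 0 := hs ▸ sub_ne_zero.2 hl2
  have hl1 : l + 1 ≠ 0 := fun h => hl2 (by linear_combination (l - 1) * h)
  obtain ⟨T, hT⟩ : ∃ T : L, T = s * s + a * l ^ 2 := ⟨_, rfl⟩
  -- the determinant
  have hG : (s * (l + 1) - a * l * (l + 2)) * T + b * s * (l + 1) * l ^ 2 = 0 := by
    rw [hT, hs]
    linear_combination hP +
      ((-1) * l ^ 5 * a + (-1) * l ^ 3 * a ^ 2 + 2 * l ^ 3 * a + (-1) * l * a) * h3
  have hT0 : T ≠ 0 := by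
    intro h0
    rw [h0, mul_zero, zero_add] at hG
    have hb0 : b = 0 := by
      simpa [hs0, hl1, hl] using hG
    have hε0 : ε ≠ 0 := left_ne_zero_of_mul (hε2.symm ▸ one_ne_zero)
    have hY0 : Y = 0 := by simpa [hb, hε0] using hb0
    have hX0 : X = 0 := by
      rw [hX, ← hVv, map_pow, ← hY, hY0, zero_pow (pow_ne_zero _ (by norm_num))]
    rw [hT, ha, hX0] at h0
    simp [hs0] at h0
  -- the eigenvector
  obtain ⟨w0, hw0⟩ : ∃ z : L, z = X / (l + 1) := ⟨_, rfl⟩
  obtain ⟨w2, hw2⟩ : ∃ z : L, z = -Y * l * s / T := ⟨_, rfl⟩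
  obtain ⟨w3, hw3⟩ : ∃ z : L, z = -ε * X * l * w2 / s := ⟨_, rfl⟩
  refine ⟨![w0, 1, w2, w3, -ε * w3 / l, -w2 / l, -ε / l], fun h => ?_, ?_⟩
  · simpa using congrFun h 1
  have hAk : A ((-1 : K) ^ k) = ε := by rw [hε, map_pow, map_neg, map_one]
  funext i
  simp only [Matrix.mulVec, dotProduct, Matrix.map_apply, S.rep7_famG, Matrix.mul_apply,
    Matrix.of_apply, Fin.sum_univ_seven, hVv]
  fin_cases i <;> simp [pi7, sgn7, tab1, tab2, ← hX, ← hY, hAk]
  · rw [hw0]; field_simp; ring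
  · rw [hw0, hw2]; field_simp
    rw [ha, hb, hs] at hG
    rw [hT, ha, hs] at hG ⊢
    linear_combination -hG + (l + 1) * ((l ^ 2 - 1) * (l ^ 2 - 1) + ε * (X * X) * l ^ 2) * hε2
  · rw [hw3, hw2]; field_simp; rw [hT, ha, hs]; ring
  · rw [hw3]; field_simp; rw [hs]; linear_combination (-(ε * X * w2)) * hε2
  · field_simp
  · field_simp
  · field_simp

end SetupG2

end CfsgLib.Chev
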