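import Mathlib
import Cfsg.Agent.Lib.Chev.ReeEigen

/-!
Elements of ²G₂ of orders dividing `q² - q + 1` in the seven-dimensional representation.
-/

set_option autoImplicit false
set_option maxHeartbeats 1600000
set_option maxRecDepth 100000
set_option linter.unusedSectionVars false

namespace CfsgLib.Chev

open Cfsg.Lie

namespace SingerRep

/-- The fixed points of the power map are the base field. -/
theorem mem_range_of_pow_card {F L : Type*} [Field F] [Fintype F] [Field L] [Algebra F L] {a : L}
    (h : a ^ Fintype.card F = a) : ∃ t : F, algebraMap F L t = a := by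
  classical
  set P : Polynomial L := Polynomial.X ^ Fintype.card F - Polynomial.X with hP
  have hP0 : P ≠ 0 := FiniteField.X_pow_card_sub_X_ne_zero L Fintype.one_lt_card
  have hdeg : P.natDegree = Fintype.card F :=
    FiniteField.X_pow_card_sub_X_natDegree_eq L Fintype.one_lt_card
  let S : Finset L := Finset.univ.map ⟨algebraMap F L, (algebraMap F L).injective⟩
  by_contra hcon
  push Not at hcon
  have haS : a ∉ S := fun hm => by
    obtain ⟨t, -, ht⟩ := Finset.mem_map.1 hm
    exact hcon t ht
  have hsub : (insert a S).val ⊆ P.roots := by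
    intro x hx
    rw [Polynomial.mem_roots hP0, Polynomial.IsRoot, hP, Polynomial.eval_sub, Polynomial.eval_pow,
      Polynomial.eval_X, sub_eq_zero]
    rcases Finset.mem_insert.1 hx with rfl | hx'
    · exact h
    · obtain ⟨t, -, rfl⟩ := Finset.mem_map.1 hx'
      show algebraMap F L t ^ _ = algebraMap F L t
      rw [← map_pow, FiniteField.pow_card]
  have := (Polynomial.card_le_degree_of_subset_roots hsub)
  rw [Finset.card_insert_of_notMem haS, Finset.card_map, Finset.card_univ, hdeg] at this
  omega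

/-- Matrices commuting with a matrix with distinct eigenvalues act by scalars on its eigenvectors. -/
theorem eigen_of_commute {L ι : Type*} [Field L] [Fintype ι] [DecidableEq ι] (b : Module.Basis ι L (ι → L))
    {M X : Matrix ι ι L} {e : ι → L} (he : Function.Injective e)
    (hb : ∀ i, M.mulVec (b i) = e i • b i) (h : X * M = M * X) (i : ι) :
    X.mulVec (b i) = (b.repr (X.mulVec (b i)) i) • b i := by
  have hM : ∀ v : ι → L, ∀ j, b.repr (M.mulVec v) j = e j * b.repr v j := by
    intro v j
    conv_lhs => rw [← b.sum_repr v, Matrix.mulVec_sum]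
    simp only [Matrix.mulVec_smul, hb, map_sum, map_smul, Finsupp.coe_finset_sum, Finset.sum_apply,
      Finsupp.smul_apply, Module.Basis.repr_self, smul_eq_mul]
    rw [Finset.sum_eq_single j]
    · rw [Finsupp.single_eq_same]; ring
    · intro k _ hk
      rw [Finsupp.single_eq_of_ne (Ne.symm hk)]; ring
    · simp
  apply b.repr.injective
  ext j
  rw [map_smul, Finsupp.smul_apply, Module.Basis.repr_self, smul_eq_mul]
  by_cases hj : j = i
  · subst hj; simp
  rw [Finsupp.single_eq_of_ne hj, mul_zero]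
  have h1 := hM (X.mulVec (b i)) j
  rw [Matrix.mulVec_mulVec, ← h, ← Matrix.mulVec_mulVec, hb, Matrix.mulVec_smul, map_smul,
    Finsupp.smul_apply, smul_eq_mul] at h1
  by_contra hne
  exact hj (he (mul_right_cancel₀ hne h1).symm)

/-- Conjugate matrices have the same characteristic polynomial. -/
theorem charpoly_conj {L ι : Type*} [Field L] [Fintype ι] [DecidableEq ι] {U V M : Matrix ι ι L}
    (h : U * V = 1) : (U * M * V).charpoly = M.charpoly := by
  let u : (Matrix ι ι L)ˣ := ⟨U, V, h, mul_eq_one_comm.1 h⟩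
  rw [← Matrix.inv_eq_right_inv h]
  exact Matrix.charpoly_units_conj u M

/-- An eigenvalue is a root of the characteristic polynomial. -/
theorem isRoot_of_mulVec {L ι : Type*} [Field L] [Fintype ι] [DecidableEq ι] {M : Matrix ι ι L}
    {μ : L} {v : ι → L} (hv : v ≠ 0) (h : M.mulVec v = μ • v) : M.charpoly.IsRoot μ := by
  rw [← Matrix.charpoly_toLin', ← Module.End.hasEigenvalue_iff_isRoot_charpoly]
  exact Module.End.hasEigenvalue_of_hasEigenvector
    ⟨Module.End.mem_eigenspace_iff.2 (by rw [Matrix.toLin'_apply]; exact h), hv⟩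

end SingerRep

namespace SetupG2

variable {K : Type*} [Field K] [Fintype K] {m : ℕ} (S : SetupG2 K m)
include S

lemma rep7_injective (hm : 1 ≤ m) : Function.Injective S.rep7 := by
  have := (S.simple hm).1
  suffices h : Function.Injective S.rep7.toHomUnits by
    intro a b hab
    exact h (Units.ext hab)
  rw [← MonoidHom.ker_eq_bot_iff]
  refine ((MonoidHom.normal_ker _).eq_bot_or_eq_top).resolve_right fun htop => ?_
  have h1 : S.rep7.toHomUnits S.invol = 1 := MonoidHom.mem_ker.1 (htop ▸ Subgroup.mem_top _)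
  have h2 : S.rep7 S.invol = 1 := congrArg Units.val h1
  have hd : S.rep7 S.invol = Matrix.diagonal fun i => (ReeEigen.sgn7 i : K) := S.res7_invol
  rw [hd] at h2
  have h3 := congrFun (congrFun h2 1) 1
  simp [ReeEigen.sgn7] at h3
  have h4 : (2 : K) = 0 := by linear_combination (-1 : K) * h3
  exact one_ne_zero (show (1 : K) = 0 by linear_combination S.three_zero - h4)

/-- The data of an element of prime order dividing `q² - q + 1`. -/
theorem exists_eigenbasis (hm : 1 ≤ m) {x : ↥(twistedG2 K (3 ^ m))} {p : ℕ} [Fact p.Prime]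
    (hx : orderOf x = p) (h6 : (Fintype.card K : ZMod p) ^ 2 - Fintype.card K + 1 = 0) (hp3 : 3 < p) :
    ∃ (b : Module.Basis (Fin 7) (AlgebraicClosure K) (Fin 7 → AlgebraicClosure K))
      (e : Fin 7 → AlgebraicClosure K), Function.Injective e ∧ e 6 = 1 ∧
      (∀ i, ((S.rep7 x).map (algebraMap K (AlgebraicClosure K))).mulVec (b i) = e i • b i) ∧
      (∀ μ, ((S.rep7 x).map (algebraMap K (AlgebraicClosure K))).charpoly.IsRoot μ → ∃ i, e i = μ) ∧
      orderOf (e 0) = p := by
  classical
  have := S.char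
  have hp : p.Prime := Fact.out
  set L := AlgebraicClosure K
  have : CharP L 3 := charP_of_injective_algebraMap (algebraMap K L).injective 3
  set q := Fintype.card K with hq
  set M := (S.rep7 x).map (algebraMap K L) with hM
  have hMp : M ^ p = 1 := by
    rw [hM, ← RingHom.mapMatrix_apply, ← map_pow, ← map_pow, ← hx, pow_orderOf_eq_one, map_one, map_one]
  set f := M.charpoly with hf
  have hf0 : f ≠ 0 := M.charpoly_monic.ne_zero
  have hroots : f.roots.card = 7 := by
    rw [IsAlgClosed.card_roots_eq_natDegree, hf, Matrix.charpoly_natDegree_eq_dim, Fintype.card_fin]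
  have heig : ∀ μ, f.IsRoot μ → ∃ v : Fin 7 → L, v ≠ 0 ∧ M.mulVec v = μ • v := by
    intro μ hμ
    have h : Module.End.HasEigenvalue (Matrix.toLin' M) μ := by
      rw [Module.End.hasEigenvalue_iff_isRoot_charpoly, Matrix.charpoly_toLin']; exact hμ
    obtain ⟨v, hv⟩ := h.exists_hasEigenvector
    exact ⟨v, hv.2, by rw [← Matrix.toLin'_apply]; exact hv.apply_eq_smul⟩
  have hpow : ∀ μ, f.IsRoot μ → μ ^ p = 1 := by
    intro μ hμ
    obtain ⟨v, hv0, hv⟩ := heig μ hμ
    have hk : ∀ k : ℕ, (M ^ k).mulVec v = μ ^ k • v := by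
      intro k
      induction k with
      | zero => simp
      | succ k ih => rw [pow_succ, ← Matrix.mulVec_mulVec, hv, Matrix.mulVec_smul, ih, smul_smul, pow_succ, mul_comm]
    have := hk p
    rw [hMp, Matrix.one_mulVec] at this
    by_contra hne
    exact hv0 ((smul_eq_zero.1 (show (μ ^ p - 1) • v = 0 by rw [sub_smul, ← this, one_smul, sub_self])).resolve_left
      (sub_ne_zero.2 hne))
  -- a non-trivial eigenvalue
  obtain ⟨μ, hμ, hμ1⟩ : ∃ μ, f.IsRoot μ ∧ μ ≠ 1 := by
    by_contra hcon
    push Not at hcon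
    have hall : f.roots = Multiset.replicate 7 1 := Multiset.eq_replicate.2
      ⟨hroots, fun a ha => hcon a ((Polynomial.mem_roots hf0).1 ha)⟩
    have heq : f = (Polynomial.X - Polynomial.C 1) ^ 7 := by
      rw [(IsAlgClosed.splits f).eq_prod_roots_of_monic M.charpoly_monic, hall, Multiset.map_replicate,
        Multiset.prod_replicate]
    have h0 := Matrix.aeval_self_charpoly M
    rw [← hf, heq, map_pow, map_sub, Polynomial.aeval_X, Polynomial.aeval_C, map_one] at h0
    have h9 : (M - 1) ^ 3 ^ 2 = 0 := by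
      rw [show (3 : ℕ) ^ 2 = 7 + 2 from rfl, _root_.pow_add, h0, zero_mul]
    have := Fact.mk Nat.prime_three
    rw [sub_pow_char_pow_of_commute (p := 3) (n := 2) (Commute.one_right M), one_pow, sub_eq_zero] at h9
    have hM1 : M = 1 := by
      have hd1 : orderOf M ∣ p := orderOf_dvd_of_pow_eq_one hMp
      have hd2 : orderOf M ∣ 3 ^ 2 := orderOf_dvd_of_pow_eq_one h9
      exact orderOf_eq_one_iff.1 (Nat.eq_one_of_dvd_coprimes
        (((Nat.coprime_primes hp Nat.prime_three).2 (by omega)).pow_right 2) hd1 hd2)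
    have h1 : x = 1 := S.rep7_injective hm (by
      rw [map_one]
      apply Matrix.map_injective (algebraMap K L).injective
      beta_reduce
      rw [← hM, hM1, Matrix.map_one _ (map_zero _) (map_one _)])
    rw [h1, orderOf_one] at hx
    omega
  have hμo : orderOf μ = p := orderOf_eq_prime (hpow μ hμ) hμ1
  -- the orbit
  have hfq : ∀ ν, f.IsRoot ν → f.IsRoot (ν ^ q) := by
    intro ν hν
    have e : f = ((S.rep7 x).charpoly).map (algebraMap K L) := by rw [hf, hM, Matrix.charpoly_map]
    rw [e, Polynomial.IsRoot, Polynomial.eval_map, Polynomial.eval₂_eq_sum_range] at hν ⊢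
    have h := congrArg (fun t : L => t ^ q) hν
    simp only [zero_pow (show q ≠ 0 from Fintype.card_ne_zero)] at h
    rw [← h]
    have hsum : ∀ (s : Finset ℕ) (g : ℕ → L), (∑ i ∈ s, g i) ^ q = ∑ i ∈ s, g i ^ q := by
      intro s g
      have : Fact (Nat.Prime 3) := ⟨Nat.prime_three⟩
      rw [hq, S.card]
      exact sum_pow_char_pow 3 (2 * m + 1) s g
    rw [hsum]
    refine Finset.sum_congr rfl fun i _ => ?_
    rw [mul_pow, ← map_pow, hq, FiniteField.pow_card, ← pow_mul, ← pow_mul, mul_comm i]
  set z : ZMod p := (q : ZMod p) with hz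
  have hz3 : z ^ 3 = -1 := by linear_combination (z + 1) * h6
  have hne : ∀ k, 0 < k → k < 6 → z ^ k ≠ 1 := by
    have c2 : (2 : ZMod p) ≠ 0 := fun h => by
      have := (ZMod.natCast_eq_zero_iff 2 p).1 (by exact_mod_cast h)
      have := Nat.le_of_dvd (by norm_num) this; omega
    have c3 : (3 : ZMod p) ≠ 0 := fun h => by
      have := (ZMod.natCast_eq_zero_iff 3 p).1 (by exact_mod_cast h)
      have := Nat.le_of_dvd (by norm_num) this; omega
    intro k hk hk6 hk1
    interval_cases k
    · exact one_ne_zero (show (1 : ZMod p) = 0 by linear_combination h6 - z * hk1)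
    · exact c3 (by linear_combination (z + 2) * h6 - (z + 1) * hk1)
    · exact c2 (by linear_combination hz3 - hk1)
    · have hz1 : z = -1 := by linear_combination z * hz3 - hk1
      exact c3 (by rw [hz1] at h6; linear_combination h6)
    · have hz2 : z ^ 2 = -1 := by linear_combination z ^ 2 * hz3 - hk1
      have hz0 : z = 0 := by linear_combination hz2 - h6
      exact one_ne_zero (show (1 : ZMod p) = 0 by rw [hz0] at hz2; linear_combination hz2)
  let e : Fin 7 → L := fun i => if (i : ℕ) < 6 then μ ^ q ^ (i : ℕ) else 1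
  have hmodeq : ∀ a b : ℕ, μ ^ a = μ ^ b ↔ (a : ZMod p) = b := fun a b => by
    have hfin : IsOfFinOrder μ := orderOf_pos_iff.1 (by rw [hμo]; exact hp.pos)
    rw [hfin.pow_eq_pow_iff_modEq, hμo, ZMod.natCast_eq_natCast_iff]
  have hz0 : z ≠ 0 := fun h0 => by
    rw [h0] at h6; exact one_ne_zero (show (1 : ZMod p) = 0 by linear_combination h6)
  have hinj6 : ∀ i j : ℕ, i < 6 → j < 6 → μ ^ q ^ i = μ ^ q ^ j → i ≤ j → i = j := by
    intro i j hi hj h hij
    by_contra hne'
    rw [hmodeq, Nat.cast_pow, Nat.cast_pow, ← hz] at h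
    refine hne (j - i) (by omega) (by omega) ?_
    refine mul_left_cancel₀ (pow_ne_zero i hz0) ?_
    rw [mul_one, ← _root_.pow_add, Nat.add_sub_cancel' hij]
    exact h.symm
  have hne1 : ∀ i : ℕ, μ ^ q ^ i ≠ 1 := fun i h => by
    have h' : μ ^ q ^ i = μ ^ 0 := by rw [h, pow_zero]
    rw [hmodeq, Nat.cast_pow, ← hz, Nat.cast_zero] at h'
    exact pow_ne_zero i hz0 h'
  have heinj : Function.Injective e := by
    intro i j h
    simp only [e] at h
    apply Fin.ext
    by_cases hi : (i : ℕ) < 6 <;> by_cases hj : (j : ℕ) < 6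
    · rw [if_pos hi, if_pos hj] at h
      rcases le_total (i : ℕ) j with hl | hl
      · exact hinj6 _ _ hi hj h hl
      · exact (hinj6 _ _ hj hi h.symm hl).symm
    · rw [if_pos hi, if_neg hj] at h; exact absurd h (hne1 _)
    · rw [if_neg hi, if_pos hj] at h; exact absurd h.symm (hne1 _)
    · omega
  have horb : ∀ i : ℕ, f.IsRoot (μ ^ q ^ i) := by
    intro i
    induction i with
    | zero => simpa using hμ
    | succ i ih => rw [pow_succ q, pow_mul]; exact hfq _ ih
  -- the six conjugates and the last root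
  let six : Multiset L := (Multiset.range 6).map fun i => μ ^ q ^ i
  have hsix : six.Nodup := by
    refine (Multiset.nodup_range 6).map_on ?_
    intro a ha b hb h
    rw [Multiset.mem_range] at ha hb
    rcases le_total a b with hl | hl
    · exact hinj6 _ _ ha hb h hl
    · exact (hinj6 _ _ hb ha h.symm hl).symm
  have hle : six ≤ f.roots := (Multiset.le_iff_subset hsix).2 fun a ha => by
    obtain ⟨i, -, rfl⟩ := Multiset.mem_map.1 ha
    exact (Polynomial.mem_roots hf0).2 (horb i)
  obtain ⟨rest, hrest⟩ := Multiset.le_iff_exists_add.1 hle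
  have hrc : rest.card = 1 := by
    have := congrArg Multiset.card hrest
    simp only [hroots, Multiset.card_add, six, Multiset.card_map, Multiset.card_range] at this
    omega
  obtain ⟨c, rfl⟩ := Multiset.card_eq_one.1 hrc
  have hc1 : c = 1 := by
    have hcp : c ^ p = 1 := hpow c ((Polynomial.mem_roots hf0).1 (by rw [hrest]; simp))
    have hdet : M.det = c := by
      rw [Matrix.det_eq_prod_roots_charpoly, ← hf, hrest, Multiset.prod_add, Multiset.prod_singleton]
      have : six.prod = 1 := by
        show ((Multiset.range 6).map fun i => μ ^ q ^ i).prod = 1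
        have hz6 : μ ^ (∑ i ∈ Finset.range 6, q ^ i) = μ ^ 0 := by
          rw [hmodeq]
          simp only [Finset.sum_range_succ, Finset.sum_range_zero]
          push_cast
          rw [← hz]
          linear_combination (z ^ 3 + 2 * z ^ 2 + 2 * z + 1) * h6
        rw [pow_zero, ← Finset.prod_pow_eq_pow_sum] at hz6
        exact hz6
      rw [this, one_mul]
    have hcK : c = algebraMap K L (S.rep7 x).det := by
      rw [← hdet, hM, ← RingHom.mapMatrix_apply, ← RingHom.map_det]
    have hcq : c ^ (q - 1) = 1 := by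
      have hne0 : (S.rep7 x).det ≠ 0 := fun h0 => by
        rw [hcK, h0, map_zero, zero_pow hp.ne_zero] at hcp; exact zero_ne_one hcp
      rw [hcK, ← map_pow, hq, FiniteField.pow_card_sub_one_eq_one _ hne0, map_one]
    have hco : Nat.Coprime p (q - 1) := by
      refine (Nat.Prime.coprime_iff_not_dvd hp).2 fun hd => hne 1 one_pos (by norm_num) ?_
      have h0 := (ZMod.natCast_eq_zero_iff _ p).2 hd
      rw [Nat.cast_sub Fintype.card_pos, Nat.cast_one, sub_eq_zero] at h0
      rw [pow_one]; exact h0
    exact orderOf_eq_one_iff.1 (Nat.eq_one_of_dvd_coprimes hco (orderOf_dvd_of_pow_eq_one hcp)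
      (orderOf_dvd_of_pow_eq_one hcq))
  have hroot : ∀ i, f.IsRoot (e i) := by
    intro i
    simp only [e]
    split_ifs
    · exact horb _
    · exact (Polynomial.mem_roots hf0).1 (by rw [hrest, hc1]; simp)
  choose v hv0 hv using fun i => heig (e i) (hroot i)
  have hli : LinearIndependent L v :=
    Module.End.eigenvectors_linearIndependent' (Matrix.toLin' M) e heinj v fun i =>
      ⟨Module.End.mem_eigenspace_iff.2 (by rw [Matrix.toLin'_apply]; exact hv i), hv0 i⟩
  refine ⟨basisOfLinearIndependentOfCardEqFinrank hli (by simp), e, heinj, by simp [e],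
    fun i => by rw [coe_basisOfLinearIndependentOfCardEqFinrank]; exact hv i, fun ν hν => ?_,
    by simpa [e] using hμo⟩
  have hm' := (Polynomial.mem_roots hf0).2 hν
  rw [hrest, Multiset.mem_add, hc1] at hm'
  rcases hm' with h | h
  · obtain ⟨i, hi, rfl⟩ := Multiset.mem_map.1 h
    rw [Multiset.mem_range] at hi
    exact ⟨⟨i, by omega⟩, if_pos hi⟩
  · exact ⟨6, by rw [Multiset.mem_singleton.1 h]; simp [e]⟩

/-- Centralisers of elements of prime order dividing `q² - q + 1` are abelian. -/
theorem commute_of_singer (hm : 1 ≤ m) {x g h : ↥(twistedG2 K (3 ^ m))} {p : ℕ} [Fact p.Prime]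
    (hx : orderOf x = p) (h6 : (Fintype.card K : ZMod p) ^ 2 - Fintype.card K + 1 = 0) (hp3 : 3 < p)
    (hg : g * x = x * g) (hh : h * x = x * h) : g * h = h * g := by
  obtain ⟨b, e, he, -, hb, -, -⟩ := S.exists_eigenbasis hm hx h6 hp3
  apply S.rep7_injective hm
  apply Matrix.map_injective (algebraMap K (AlgebraicClosure K)).injective
  beta_reduce
  rw [map_mul, map_mul, Matrix.map_mul, Matrix.map_mul]
  have cm : ∀ y, y * x = x * y → (S.rep7 y).map (algebraMap K (AlgebraicClosure K)) *
      (S.rep7 x).map (algebraMap K (AlgebraicClosure K)) =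
      (S.rep7 x).map (algebraMap K (AlgebraicClosure K)) *
      (S.rep7 y).map (algebraMap K (AlgebraicClosure K)) := fun y hy => by
    rw [← Matrix.map_mul, ← Matrix.map_mul, ← map_mul, ← map_mul, hy]
  apply Matrix.toLin'.injective
  refine b.ext fun i => ?_
  have key : ∀ (X Y : Matrix (Fin 7) (Fin 7) (AlgebraicClosure K)) (s t : AlgebraicClosure K),
      X.mulVec (b i) = s • b i → Y.mulVec (b i) = t • b i → (X * Y).mulVec (b i) = (t * s) • b i :=
    fun X Y s t hX hY => by rw [← Matrix.mulVec_mulVec, hY, Matrix.mulVec_smul, hX, smul_smul]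
  rw [Matrix.toLin'_apply, Matrix.toLin'_apply,
    key _ _ _ _ (SingerRep.eigen_of_commute b he hb (cm g hg) i) (SingerRep.eigen_of_commute b he hb (cm h hh) i),
    key _ _ _ _ (SingerRep.eigen_of_commute b he hb (cm h hh) i) (SingerRep.eigen_of_commute b he hb (cm g hg) i),
    mul_comm]

/-- The automiser of a subgroup of prime order dividing `q² - q + 1` has order at most six. -/
theorem singer_automiser_le (hm : 1 ≤ m) {x : ↥(twistedG2 K (3 ^ m))} {p : ℕ} [Fact p.Prime]
    (hx : orderOf x = p) (h6 : (Fintype.card K : ZMod p) ^ 2 - Fintype.card K + 1 = 0) (hp3 : 3 < p) :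
    ((Subgroup.centralizer {x}).subgroupOf
      (Subgroup.normalizer ((Subgroup.zpowers x) : Set ↥(twistedG2 K (3 ^ m))))).index ≤ 6 := by
  classical
  obtain ⟨b, e, he, he6, hb, hroot, he0⟩ := S.exists_eigenbasis hm hx h6 hp3
  set N := Subgroup.normalizer ((Subgroup.zpowers x) : Set ↥(twistedG2 K (3 ^ m))) with hN
  set A := algebraMap K (AlgebraicClosure K)
  have hj : ∀ n : ↥N, ∃ j : ℕ, (n : ↥(twistedG2 K (3 ^ m))) * x * (n : ↥(twistedG2 K (3 ^ m)))⁻¹ = x ^ j := by
    intro n
    obtain ⟨j, hj⟩ := Submonoid.mem_powers_iff _ x |>.1 (mem_powers_iff_mem_zpowers.2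
      ((Subgroup.mem_normalizer_iff.1 n.2 x).1 (Subgroup.mem_zpowers x)))
    exact ⟨j, hj.symm⟩
  choose j hj using hj
  have hpow : ∀ k : ℕ, ((S.rep7 (x ^ k)).map A).mulVec (b 0) = e 0 ^ k • b 0 := by
    intro k
    induction k with
    | zero => simp [A]
    | succ k ih =>
      rw [pow_succ, map_mul, Matrix.map_mul, ← Matrix.mulVec_mulVec, hb, Matrix.mulVec_smul, ih,
        smul_smul, pow_succ, mul_comm]
  have hex : ∀ n : ↥N, ∃ i : Fin 6, e (Fin.castSucc i) = e 0 ^ j n := by
    intro n
    have hcp : ((S.rep7 (x ^ j n)).map A).charpoly = ((S.rep7 x).map A).charpoly := by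
      rw [← hj n, map_mul, map_mul, Matrix.map_mul, Matrix.map_mul]
      refine SingerRep.charpoly_conj ?_
      rw [← Matrix.map_mul, ← map_mul, mul_inv_cancel, map_one, Matrix.map_one _ (map_zero _) (map_one _)]
    have hr : ((S.rep7 x).map A).charpoly.IsRoot (e 0 ^ j n) :=
      hcp ▸ SingerRep.isRoot_of_mulVec (b.ne_zero 0) (hpow (j n))
    obtain ⟨i, hi⟩ := hroot _ hr
    have hi6 : (i : ℕ) < 6 := by
      by_contra hi6
      obtain rfl : i = 6 := Fin.ext (by show (i : ℕ) = 6; omega)
      rw [he6] at hi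
      have h1 := orderOf_dvd_of_pow_eq_one hi.symm
      rw [he0, ← hx, orderOf_dvd_iff_pow_eq_one, ← hj n, conj_eq_one_iff] at h1
      rw [h1, orderOf_one] at hx
      omega
    exact ⟨⟨i, hi6⟩, hi⟩
  choose F hF using hex
  rw [Subgroup.index_eq_card]
  refine le_trans (Nat.card_le_card_of_injective (fun c => F c.out) ?_) (by simp)
  intro c c' h
  have hh : F c.out = F c'.out := h
  have h' : e 0 ^ j c.out = e 0 ^ j c'.out := by rw [← hF, ← hF, hh]
  have hfin : IsOfFinOrder (e 0) := orderOf_pos_iff.1 (by rw [he0]; omega)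
  rw [hfin.pow_eq_pow_iff_modEq, he0, ← hx, ← (isOfFinOrder_of_finite x).pow_eq_pow_iff_modEq,
    ← hj, ← hj] at h'
  rw [← c.out_eq', ← c'.out_eq', QuotientGroup.eq, Subgroup.mem_subgroupOf,
    Subgroup.mem_centralizer_singleton_iff]
  obtain ⟨y, hy⟩ : ∃ y, y = (c.out : ↥(twistedG2 K (3 ^ m))) := ⟨_, rfl⟩
  obtain ⟨y', hy'⟩ : ∃ y', y' = (c'.out : ↥(twistedG2 K (3 ^ m))) := ⟨_, rfl⟩
  simp only [Subgroup.coe_mul, Subgroup.coe_inv, ← hy, ← hy'] at h' ⊢
  calc y⁻¹ * y' * x = y⁻¹ * (y' * x * y'⁻¹) * y' := by group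
    _ = y⁻¹ * (y * x * y⁻¹) * y' := by rw [h']
    _ = x * (y⁻¹ * y') := by group

end SetupG2

end CfsgLib.Chev
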