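import Mathlib
import Cfsg.Agent.Lib.Chev.ReeInvolution
import Cfsg.Agent.Lib.Chev.TwistFGPerfect

/-!
The normaliser of a Sylow 2-subgroup of ²G₂.
-/

set_option autoImplicit false
set_option maxHeartbeats 1600000
set_option maxRecDepth 100000
set_option linter.unusedSectionVars false

namespace CfsgLib.Chev

open Cfsg.Lie

open scoped Pointwise

/-- The number of conjugates under a subgroup. -/
theorem ncard_conjugates {G : Type*} [Group G] [Finite G] (N : Subgroup G) (z : G) :
    {x : G | ∃ n ∈ N, n * z * n⁻¹ = x}.ncard * Nat.card ↥(N ⊓ Subgroup.centralizer {z}) = Nat.card ↥N := by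
  set C := (Subgroup.centralizer {z}).subgroupOf N with hC
  have hiff : ∀ a b : ↥N, (a : G) * z * (a : G)⁻¹ = b * z * (b : G)⁻¹ ↔ a⁻¹ * b ∈ C := by
    intro a b
    rw [hC, Subgroup.mem_subgroupOf, Subgroup.mem_centralizer_singleton_iff]
    simp only [Subgroup.coe_mul, Subgroup.coe_inv]
    constructor
    · intro h
      calc (a : G)⁻¹ * b * z = (a : G)⁻¹ * (b * z * (b : G)⁻¹) * b := by group
        _ = z * ((a : G)⁻¹ * b) := by rw [← h]; group
    · intro h
      calc (a : G) * z * (a : G)⁻¹ = a * (z * ((a : G)⁻¹ * b)) * (b : G)⁻¹ := by group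
        _ = b * z * (b : G)⁻¹ := by rw [← h]; group
  let f : ↥N ⧸ C → {x : G | ∃ n ∈ N, n * z * n⁻¹ = x} :=
    Quotient.lift (fun a : ↥N => ⟨(a : G) * z * (a : G)⁻¹, a, a.2, rfl⟩) fun a b h =>
      Subtype.ext ((hiff a b).2 (QuotientGroup.leftRel_apply.1 h))
  have hf : Function.Bijective f := by
    constructor
    · intro x y
      induction x using QuotientGroup.induction_on with | _ a => ?_
      induction y using QuotientGroup.induction_on with | _ b => ?_
      intro h
      exact QuotientGroup.eq.2 ((hiff a b).1 (congrArg Subtype.val h))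
    · rintro ⟨x, n, hn, rfl⟩
      exact ⟨QuotientGroup.mk ⟨n, hn⟩, rfl⟩
  have e1 : {x : G | ∃ n ∈ N, n * z * n⁻¹ = x}.ncard = C.index := by
    rw [← Nat.card_coe_set_eq]; exact (Nat.card_eq_of_bijective f hf).symm
  have e2 : Nat.card ↥C = Nat.card ↥(N ⊓ Subgroup.centralizer {z}) := by
    rw [hC, ← Subgroup.inf_subgroupOf_right, Nat.card_congr
      (Subgroup.subgroupOfEquivOfLe inf_le_right).toEquiv, inf_comm]
  rw [e1, ← e2, Subgroup.index_mul_card]

/-- An element of a self-normalised-fixed abelian Sylow subgroup dies in a perfect group. -/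
theorem eq_one_of_fixed_by_normalizer {G : Type*} [Group G] [Finite G] (hG : commutator G = ⊤) {p : ℕ}
    [Fact p.Prime] (P : Sylow p G) (hP : ∀ x ∈ P, ∀ y ∈ P, x * y = y * x) {g : G} (hg : g ∈ P)
    (hfix : ∀ n ∈ Subgroup.normalizer ((P : Subgroup G) : Set G), n * g * n⁻¹ = g) : g = 1 := by
  let _ : CommGroup ↥(P : Subgroup G) :=
    { (inferInstance : Group ↥(P : Subgroup G)) with
      mul_comm := fun a b => Subtype.ext (hP _ a.2 _ b.2) }
  have : IsMulCommutative ↥(P : Subgroup G) := ⟨⟨fun a b => Subtype.ext (hP _ a.2 _ b.2)⟩⟩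
  have key : ∀ (k : ℕ) (g₀ : G), g₀⁻¹ * g ^ k * g₀ ∈ (P : Subgroup G) → g₀⁻¹ * g ^ k * g₀ = g ^ k := by
    intro k g₀ hk
    obtain ⟨n, hn, he⟩ := P.conj_eq_normalizer_conj_of_mem _ _ (pow_mem hg k) hk
    rw [he]
    have h := hfix n⁻¹ (inv_mem hn)
    rw [inv_inv] at h
    rw [← MulAut.conj_inv_apply n, map_pow, MulAut.conj_inv_apply, h]
  let τ : G →* ↥(P : Subgroup G) := MonoidHom.transfer (MonoidHom.id _)
  have hτ : τ g = 1 := by
    have h : commutator G ≤ τ.ker := Abelianization.commutator_subset_ker τ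
    exact MonoidHom.mem_ker.1 (h (hG ▸ Subgroup.mem_top g))
  rw [show τ g = _ from MonoidHom.transfer_eq_pow (MonoidHom.id ↥(P : Subgroup G)) g key] at hτ
  have h1 : g ^ (P : Subgroup G).index = 1 := congrArg Subtype.val hτ
  obtain ⟨k, hk⟩ := (IsPGroup.iff_orderOf.1 P.2) ⟨g, hg⟩
  rw [Subgroup.orderOf_mk] at hk
  have hco : Nat.Coprime (p ^ k) (P : Subgroup G).index :=
    Nat.Coprime.pow_left k ((Nat.Prime.coprime_iff_not_dvd Fact.out).2 P.not_dvd_index)
  exact orderOf_eq_one_iff.1 (Nat.eq_one_of_dvd_coprimes hco (hk ▸ dvd_rfl)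
    (orderOf_dvd_of_pow_eq_one h1))

namespace SetupG2

variable {K : Type*} [Field K] [Fintype K] {m : ℕ} (S : SetupG2 K m)
include S

lemma two_ne_zero' : (2 : K) ≠ 0 := fun h2 =>
  one_ne_zero (show (1 : K) = 0 by linear_combination S.three_zero - h2)

/-- The self-centralising elementary subgroup. -/
theorem klein :
    ∃ (Q : Fin 4 → Matrix.SpecialLinearGroup (Fin 2) K) (ω : Matrix.SpecialLinearGroup (Fin 2) K),
      Q 0 = 1 ∧ S.psiG (Q 3) = S.psiG (Q 1) * S.psiG (Q 2) ∧
      (∀ i j, Commute (S.psiG (Q i)) (S.psiG (Q j))) ∧ (∀ i, S.psiG (Q i) * S.psiG (Q i) = 1) ∧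
      (∀ i, i ≠ 0 → S.psiG (Q i) ≠ 1) ∧
      (∀ A, Commute (S.psiG A) (S.psiG (Q 1)) → Commute (S.psiG A) (S.psiG (Q 2)) →
        ∃ i, S.psiG A = S.psiG (Q i)) ∧
      S.psiG ω * S.psiG (Q 1) = S.psiG (Q 3) * S.psiG ω ∧
      S.psiG ω * S.psiG (Q 2) = S.psiG (Q 1) * S.psiG ω := by
  have := S.char
  have h2 := S.two_ne_zero'
  obtain ⟨x, y, hxy⟩ := CharP.sq_add_sq K 3 (-1)
  set X : K := (x : K) with hXdef
  set Y : K := (y : K) with hYdef
  push_cast at hxy
  have hXY : X ≠ 0 ∨ Y ≠ 0 := by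
    by_contra h0
    obtain ⟨hx0, hy0⟩ : X = 0 ∧ Y = 0 := by simpa [not_or] using h0
    rw [hx0, hy0] at hxy
    simp at hxy
  let R : Matrix.SpecialLinearGroup (Fin 2) K := ⟨!![X, Y; Y, -X], by
    rw [Matrix.det_fin_two_of]; linear_combination -hxy⟩
  let W : Matrix.SpecialLinearGroup (Fin 2) K := slW
  let Q : Fin 4 → Matrix.SpecialLinearGroup (Fin 2) K := ![1, W, R, W * R]
  let ω : Matrix.SpecialLinearGroup (Fin 2) K :=
    ⟨!![(-1 + X + Y) / 2, (1 + Y - X) / 2; (-1 + Y - X) / 2, (-1 - X - Y) / 2], by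
      rw [Matrix.det_fin_two_of]
      field_simp
      linear_combination (-2 : K) * hxy⟩
  have hneg : ∀ A B : Matrix.SpecialLinearGroup (Fin 2) K, A.1 = -B.1 → S.psiG A = S.psiG B := by
    intro A B h
    have hB : B⁻¹ * A = slD (-1) := by
      rw [inv_mul_eq_iff_eq_mul]
      apply Subtype.ext
      rw [Matrix.SpecialLinearGroup.coe_mul, h]
      ext i j
      fin_cases i <;> fin_cases j <;> simp [slD, Matrix.mul_apply, Fin.sum_univ_two]
    have h1 : S.psiG (B⁻¹ * A) = 1 := Subtype.ext (hB ▸ S.psi_ker.2 (Or.inr rfl))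
    rw [map_mul, map_inv, inv_mul_eq_one] at h1
    exact h1.symm
  have hval : ∀ A : Matrix.SpecialLinearGroup (Fin 2) K, S.psiG A = 1 → A.1 = 1 ∨ A.1 = -1 := by
    intro A h
    rcases S.psi_ker.1 (congrArg Subtype.val h) with rfl | rfl
    · exact Or.inl (by simp)
    · refine Or.inr ?_
      ext i j
      fin_cases i <;> fin_cases j <;> simp [slD]
  have hWR : (W * R).1 = !![Y, -X; -X, -Y] := by
    rw [Matrix.SpecialLinearGroup.coe_mul]
    ext i j
    fin_cases i <;> fin_cases j <;> simp [W, R, slW, Matrix.mul_apply, Fin.sum_univ_two]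
  have hanti : (R * W).1 = -(W * R).1 := by
    rw [hWR, Matrix.SpecialLinearGroup.coe_mul]
    ext i j
    fin_cases i <;> fin_cases j <;> simp [W, R, slW, Matrix.mul_apply, Fin.sum_univ_two]
  have cWR : Commute (S.psiG W) (S.psiG R) := by
    show _ * _ = _ * _
    rw [← map_mul, ← map_mul]
    exact (hneg _ _ hanti).symm
  have sq1 : ∀ A : Matrix.SpecialLinearGroup (Fin 2) K, (A * A).1 = -1 → S.psiG A * S.psiG A = 1 := by
    intro A h
    rw [← map_mul, hneg _ 1 (by rw [h]; simp), map_one]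
  have sW : S.psiG W * S.psiG W = 1 := sq1 W (by
    rw [Matrix.SpecialLinearGroup.coe_mul]
    ext i j
    fin_cases i <;> fin_cases j <;> simp [W, slW, Matrix.mul_apply, Fin.sum_univ_two])
  have sR : S.psiG R * S.psiG R = 1 := sq1 R (by
    rw [Matrix.SpecialLinearGroup.coe_mul]
    ext i j
    fin_cases i <;> fin_cases j <;> simp [R, Matrix.mul_apply, Fin.sum_univ_two] <;>
      first | ring1 | linear_combination hxy)
  have c3W : Commute (S.psiG (W * R)) (S.psiG W) := by
    rw [map_mul]; exact (Commute.refl _).mul_left cWR.symm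
  have c3R : Commute (S.psiG (W * R)) (S.psiG R) := by
    rw [map_mul]; exact cWR.mul_left (Commute.refl _)
  refine ⟨Q, ω, rfl, by simp [Q], fun i j => ?_, fun i => ?_, fun i hi => ?_, ?_, ?_, ?_⟩
  · have c0 : ∀ x, Commute (S.psiG (Q 0)) x := fun x => by
      rw [show Q 0 = 1 from rfl, map_one]; exact Commute.one_left _
    fin_cases i <;> fin_cases j
    all_goals first
      | exact Commute.refl _ | exact c0 _ | exact (c0 _).symm
      | exact cWR | exact cWR.symm | exact c3W | exact c3W.symm | exact c3R | exact c3R.symm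
  · fin_cases i
    · simp [Q]
    · exact sW
    · exact sR
    · show S.psiG (W * R) * S.psiG (W * R) = 1
      rw [map_mul, cWR.symm.mul_mul_mul_comm, sW, sR, one_mul]
  · intro h
    fin_cases i
    · exact hi rfl
    · rcases hval W h with e | e <;>
        simpa [W, slW] using congrFun (congrFun e 0) 1
    · rcases hval R h with e | e <;>
        · have e0 : Y = 0 := by simpa [R] using congrFun (congrFun e 0) 1
          have ex : X = -X := by
            have ea := congrFun (congrFun e 0) 0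
            have eb := congrFun (congrFun e 1) 1
            simp [R] at ea eb
            first | linear_combination ea - eb | linear_combination ea + eb
          have e1 : X = 0 := (mul_eq_zero.1 (show (2 : K) * X = 0 by linear_combination ex)).resolve_left h2
          exact hXY.elim (fun h' => h' e1) (fun h' => h' e0)
    · rcases hval (W * R) h with e | e <;>
        · rw [hWR] at e
          have e0 : X = 0 := by simpa using congrFun (congrFun e 0) 1
          have ey : Y = -Y := by
            have ea := congrFun (congrFun e 0) 0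
            have eb := congrFun (congrFun e 1) 1
            simp at ea eb
            first | linear_combination ea - eb | linear_combination ea + eb
          have e1 : Y = 0 := (mul_eq_zero.1 (show (2 : K) * Y = 0 by linear_combination ey)).resolve_left h2
          exact hXY.elim (fun h' => h' e0) (fun h' => h' e1)
  · intro A hAW hAR
    have hcases : ∀ B : Matrix.SpecialLinearGroup (Fin 2) K, Commute (S.psiG A) (S.psiG B) →
        A.1 * B.1 = B.1 * A.1 ∨ A.1 * B.1 = -(B.1 * A.1) := by
      intro B hB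
      have h : S.psiG ((B * A)⁻¹ * (A * B)) = 1 := by
        rw [map_mul, map_inv, map_mul, map_mul, hB.eq, inv_mul_cancel]
      have e : (A * B).1 = (B * A).1 * ((B * A)⁻¹ * (A * B)).1 := by
        rw [← Matrix.SpecialLinearGroup.coe_mul, mul_inv_cancel_left]
      rcases hval _ h with h' | h' <;> rw [h', Matrix.SpecialLinearGroup.coe_mul,
        Matrix.SpecialLinearGroup.coe_mul] at e
      · exact Or.inl (by simpa using e)
      · exact Or.inr (by simpa using e)
    have hdet := A.2
    rw [Matrix.det_fin_two] at hdet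
    set a := A.1 0 0 with ha
    set b := A.1 0 1 with hb
    set c := A.1 1 0 with hc
    set d := A.1 1 1 with hd
    have eA : A.1 = !![a, b; c, d] := Matrix.eta_fin_two A.1
    have half : ∀ z : K, (2 : K) * z = 0 → z = 0 := fun z hz => (mul_eq_zero.1 hz).resolve_left h2
    have done : ∀ (i : Fin 4) (k : K), k * k = 1 → A.1 = k • (Q i).1 → ∃ i, S.psiG A = S.psiG (Q i) := by
      intro i k hk e
      refine ⟨i, ?_⟩
      rcases mul_self_eq_one_iff.1 hk with rfl | rfl
      · exact congrArg _ (Subtype.ext (by rw [e, one_smul]))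
      · exact hneg _ _ (by rw [e, neg_one_smul])
    rcases hcases W hAW with hW | hW <;> rcases hcases R hAR with hR | hR <;>
      rw [eA] at hW hR <;>
      simp [W, R, slW, ← Matrix.ext_iff, Fin.forall_fin_two, Matrix.mul_apply, Fin.sum_univ_two]
        at hW hR <;>
      obtain ⟨⟨w00, w01⟩, ⟨w10, w11⟩⟩ := hW <;> obtain ⟨⟨r00, r01⟩, ⟨r10, r11⟩⟩ := hR
    · -- commuting with both
      have hbc : c = -b := by linear_combination -w00
      have hda : d = a := by linear_combination -w01
      have hb0 : b = 0 := by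
        rcases hXY with h | h
        · exact (mul_eq_zero.1 (half (b * X) (by linear_combination -r01 - Y * hda))).resolve_right h
        · exact (mul_eq_zero.1 (half (b * Y) (by linear_combination r00 + Y * hbc))).resolve_right h
      refine done 0 a (by rw [hbc, hda, hb0] at hdet; linear_combination hdet) ?_
      rw [eA, hbc, hda, hb0]
      ext i j
      fin_cases i <;> fin_cases j <;> simp [Q]
    · have hbc : c = -b := by linear_combination -w00
      have hda : d = a := by linear_combination -w01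
      have ha0 : a = 0 := by
        rcases hXY with h | h
        · exact (mul_eq_zero.1 (half (a * X) (by linear_combination r00 - Y * hbc))).resolve_right h
        · exact (mul_eq_zero.1 (half (a * Y) (by linear_combination r01 - Y * hda))).resolve_right h
      refine done 1 b (by rw [hbc, hda, ha0] at hdet; linear_combination hdet) ?_
      rw [eA, hbc, hda, ha0]
      ext i j
      fin_cases i <;> fin_cases j <;> simp [Q, W, slW]
    · have hbc : c = b := by linear_combination -w00
      have hda : d = -a := by linear_combination w01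
      have hab : b * X = a * Y := sub_eq_zero.1 (half _ (by linear_combination -r01 - Y * hda))
      rw [hbc, hda] at hdet
      refine done 2 (-(a * X + b * Y)) ?_ ?_
      · linear_combination (a * a + b * b) * hxy + hdet - (b * X - a * Y) * hab
      · rw [eA, hbc, hda]
        have ea : a = -(a * X + b * Y) * X := by linear_combination (a : K) * hxy + Y * hab
        have eb : b = -(a * X + b * Y) * Y := by linear_combination (b : K) * hxy - X * hab
        ext i j
        fin_cases i <;> fin_cases j <;> simp [Q, R]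
        · linear_combination ea
        · linear_combination eb
        · linear_combination eb
        · linear_combination ea
    · have hbc : c = b := by linear_combination -w00
      have hda : d = -a := by linear_combination w01
      have hab : a * X + b * Y = 0 := half _ (by linear_combination r00 - Y * hbc)
      rw [hbc, hda] at hdet
      refine done 3 (-(a * Y - b * X)) ?_ ?_
      · linear_combination (a * a + b * b) * hxy - (a * X + b * Y) * hab + hdet
      · rw [eA, hbc, hda]
        have ea : a = -(a * Y - b * X) * Y := by linear_combination (a : K) * hxy - X * hab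
        have eb : b = -(a * Y - b * X) * -X := by linear_combination (b : K) * hxy - Y * hab
        ext i j
        fin_cases i <;> fin_cases j <;> simp only [Q] <;> simp [Matrix.cons_val, hWR]
        · linear_combination ea
        · linear_combination eb
        · linear_combination eb
        · linear_combination ea
  · show S.psiG ω * S.psiG W = S.psiG (W * R) * S.psiG ω
    rw [← map_mul, ← map_mul]
    congr 1
    apply Subtype.ext
    rw [Matrix.SpecialLinearGroup.coe_mul, Matrix.SpecialLinearGroup.coe_mul (W * R) ω, hWR]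
    ext i j
    fin_cases i <;> fin_cases j <;> simp [ω, W, slW, Matrix.mul_apply, Fin.sum_univ_two] <;> field_simp <;>
      first | ring1 | linear_combination hxy | linear_combination -hxy | skip
  · show S.psiG ω * S.psiG R = S.psiG W * S.psiG ω
    rw [← map_mul, ← map_mul]
    congr 1
    apply Subtype.ext
    simp only [Matrix.SpecialLinearGroup.coe_mul]
    ext i j
    fin_cases i <;> fin_cases j <;> simp [ω, W, R, slW, Matrix.mul_apply, Fin.sum_univ_two] <;>
      field_simp <;>
      first | ring1 | linear_combination hxy | linear_combination -hxy | skip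

lemma psiG_eq_cent {z : ↥(twistedG2 K (3 ^ m))} (hz : z = 1 ∨ z = S.invol)
    {A B : Matrix.SpecialLinearGroup (Fin 2) K} (h : z * S.psiG A = S.psiG B) : z = 1 := by
  refine hz.resolve_right fun e => S.invol_not_range ⟨B * A⁻¹, ?_⟩
  rw [map_mul, map_inv, ← h, e, mul_inv_cancel_right]

/-- Sylow 2-subgroups: self-centralising, normaliser of order 168. -/
theorem sylow_two_normalizer (hm : 1 ≤ m) (P : Sylow 2 ↥(twistedG2 K (3 ^ m))) :
    Subgroup.centralizer ((P : Subgroup ↥(twistedG2 K (3 ^ m))) : Set ↥(twistedG2 K (3 ^ m))) = P ∧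
      Nat.card (Subgroup.normalizer ((P : Subgroup ↥(twistedG2 K (3 ^ m))) :
        Set ↥(twistedG2 K (3 ^ m)))) = 168 := by
  classical
  have := Fact.mk Nat.prime_two
  obtain ⟨Q, ω, hQ0, hQ3, hQc, hQs, hQ1, hQchar, hω1, hω2⟩ := S.klein
  set a := S.invol with ha
  have haψ : ∀ A, Commute a (S.psiG A) := fun A => Subtype.ext (S.invol_comm_psi A).eq
  set V := Subgroup.centralizer ({a, S.psiG (Q 1), S.psiG (Q 2)} : Set ↥(twistedG2 K (3 ^ m))) with hV
  let zf : Fin 2 → ↥(twistedG2 K (3 ^ m)) := ![1, a]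
  let e : Fin 2 × Fin 4 → ↥(twistedG2 K (3 ^ m)) := fun p => zf p.1 * S.psiG (Q p.2)
  have zfc : ∀ i, zf i = 1 ∨ zf i = a := by intro i; fin_cases i <;> simp [zf]
  have zfψ : ∀ i A, Commute (zf i) (S.psiG A) := fun i A => by
    rcases zfc i with h | h <;> rw [h]
    · exact Commute.one_left _
    · exact haψ A
  have hmemV : ∀ g, g ∈ V ↔ Commute g a ∧ Commute g (S.psiG (Q 1)) ∧ Commute g (S.psiG (Q 2)) := by
    intro g
    rw [hV, Subgroup.mem_centralizer_iff]
    refine ⟨fun h => ⟨(h a (by simp)).symm, (h _ (by simp)).symm, (h _ (by simp)).symm⟩, ?_⟩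
    rintro ⟨h1, h2, h3⟩ z hz
    simp only [Set.mem_insert_iff, Set.mem_singleton_iff] at hz
    rcases hz with rfl | rfl | rfl
    · exact h1.symm.eq
    · exact h2.symm.eq
    · exact h3.symm.eq
  have heV : ∀ p, e p ∈ V := by
    intro p
    rw [hmemV]
    refine ⟨Commute.mul_left ?_ (haψ _).symm, (zfψ _ _).mul_left (hQc _ _), (zfψ _ _).mul_left (hQc _ _)⟩
    rcases zfc p.1 with h | h <;> rw [h]
    exact Commute.one_left _
    all_goals exact Commute.refl _
  have hsurj : ∀ g ∈ V, ∃ p, e p = g := by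
    intro g hg
    obtain ⟨h1, h2, h3⟩ := (hmemV g).1 hg
    have hc : g ∈ S.centHom.range := by
      rw [← S.centralizer_eq, Subgroup.mem_centralizer_singleton_iff]
      exact h1.eq
    obtain ⟨⟨z, A⟩, rfl⟩ := hc
    rw [centHom_apply] at h2 h3 ⊢
    have hz := S.zpowers_invol z.2
    have hzA : ∀ B, Commute (z : ↥(twistedG2 K (3 ^ m))) (S.psiG B) := fun B => by
      rcases hz with h | h <;> rw [h]
      · exact Commute.one_left _
      · exact haψ B
    have strip : ∀ B, Commute ((z : ↥(twistedG2 K (3 ^ m))) * S.psiG A) (S.psiG B) →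
        Commute (S.psiG A) (S.psiG B) := fun B h => by
      have := (hzA B).inv_left.mul_left h
      rwa [inv_mul_cancel_left] at this
    obtain ⟨i, hi⟩ := hQchar A (strip _ h2) (strip _ h3)
    rcases hz with h | h
    · exact ⟨(0, i), by simp [e, zf, h, hi]⟩
    · exact ⟨(1, i), by simp [e, zf, h, hi, ha]⟩
  have hQinj : ∀ i j, S.psiG (Q i) = S.psiG (Q j) → i = j := by
    intro i j h
    have h' : S.psiG (Q i) * S.psiG (Q j) = 1 := by rw [h, hQs]
    by_contra hne
    have hprod : ∀ i j : Fin 4, i ≠ j → ∃ k, k ≠ 0 ∧ S.psiG (Q i) * S.psiG (Q j) = S.psiG (Q k) := by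
      intro i j hij
      have q0 : S.psiG (Q 0) = 1 := by rw [hQ0, map_one]
      have q12 : S.psiG (Q 1) * S.psiG (Q 2) = S.psiG (Q 3) := hQ3.symm
      have q13 : S.psiG (Q 1) * S.psiG (Q 3) = S.psiG (Q 2) := by
        rw [← q12, ← mul_assoc, hQs, one_mul]
      have q23 : S.psiG (Q 2) * S.psiG (Q 3) = S.psiG (Q 1) := by
        rw [← q12, (hQc 1 2).eq, ← mul_assoc, hQs, one_mul]
      have q21 := (hQc 2 1).eq.trans q12
      have q31 := (hQc 3 1).eq.trans q13
      have q32 := (hQc 3 2).eq.trans q23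
      have zl : ∀ k, S.psiG (Q 0) * S.psiG (Q k) = S.psiG (Q k) := fun k => by rw [q0, one_mul]
      have zr : ∀ k, S.psiG (Q k) * S.psiG (Q 0) = S.psiG (Q k) := fun k => by rw [q0, mul_one]
      fin_cases i <;> fin_cases j
      all_goals first
        | exact absurd rfl hij
        | exact ⟨1, by decide, q23⟩ | exact ⟨1, by decide, q32⟩ | exact ⟨1, by decide, zl 1⟩ | exact ⟨1, by decide, zr 1⟩
        | exact ⟨2, by decide, q13⟩ | exact ⟨2, by decide, q31⟩ | exact ⟨2, by decide, zl 2⟩ | exact ⟨2, by decide, zr 2⟩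
        | exact ⟨3, by decide, q12⟩ | exact ⟨3, by decide, q21⟩ | exact ⟨3, by decide, zl 3⟩ | exact ⟨3, by decide, zr 3⟩
    obtain ⟨k, hk, hk'⟩ := hprod i j hne
    exact hQ1 k hk (hk'.symm.trans h')
  have heinj : Function.Injective e := by
    rintro ⟨i, j⟩ ⟨i', j'⟩ h
    have h' : zf i' * zf i * S.psiG (Q j) = S.psiG (Q j') := by
      have hsq : zf i' * zf i' = 1 := by
        rcases zfc i' with h | h <;> rw [h]
        · simp
        · exact S.invol_sq
      simp only [e] at h
      rw [mul_assoc, h, ← mul_assoc, hsq, one_mul]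
    have hz : zf i' * zf i = 1 ∨ zf i' * zf i = a := by
      rcases zfc i' with h | h <;> rcases zfc i with h' | h' <;> rw [h, h'] <;>
        simp [ha, S.invol_sq]
    have hz1 := S.psiG_eq_cent hz h'
    rw [hz1, one_mul] at h'
    have hne1 : (1 : ↥(twistedG2 K (3 ^ m))) ≠ a := fun hh => S.invol_ne hh.symm
    have hi : i = i' := by
      fin_cases i <;> fin_cases i' <;> simp [zf] at hz1 <;>
        first | rfl | exact absurd hz1.symm hne1 | exact absurd hz1 S.invol_ne
    exact Prod.ext hi (hQinj _ _ h')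
  have hcardV : Nat.card ↥V = 8 := by
    rw [← Nat.card_eq_of_bijective (fun p => (⟨e p, heV p⟩ : ↥V))
      ⟨fun p p' h => heinj (congrArg Subtype.val h), fun g => by
        obtain ⟨p, hp⟩ := hsurj g g.2; exact ⟨p, Subtype.ext hp⟩⟩]
    simp
  have hVsq : ∀ g ∈ V, g * g = 1 := by
    intro g hg
    obtain ⟨⟨i, j⟩, rfl⟩ := hsurj g hg
    show zf i * S.psiG (Q j) * (zf i * S.psiG (Q j)) = 1
    rw [(zfψ i (Q j)).symm.mul_mul_mul_comm, hQs, mul_one]
    rcases zfc i with h | h <;> rw [h]
    · simp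
    · exact S.invol_sq
  have hVcomm : ∀ x ∈ V, ∀ y ∈ V, x * y = y * x := by
    intro x hx y hy
    have h := hVsq _ (mul_mem hx hy)
    calc x * y = (x * y)⁻¹ := (inv_eq_of_mul_eq_one_right h).symm
      _ = y * x := by
        rw [_root_.mul_inv_rev, inv_eq_of_mul_eq_one_right (hVsq x hx),
          inv_eq_of_mul_eq_one_right (hVsq y hy)]
  have haV : a ∈ V := by
    rw [hmemV]; exact ⟨Commute.refl _, haψ _, haψ _⟩
  have hQV : ∀ i, S.psiG (Q i) ∈ V := fun i => by
    rw [hmemV]; exact ⟨(haψ _).symm, hQc _ _, hQc _ _⟩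
  have hcentV : Subgroup.centralizer (V : Set ↥(twistedG2 K (3 ^ m))) = V := by
    refine le_antisymm (fun g hg => ?_) fun g hg => ?_
    · rw [Subgroup.mem_centralizer_iff] at hg
      rw [hmemV]
      exact ⟨(hg a haV).symm, (hg _ (hQV 1)).symm, (hg _ (hQV 2)).symm⟩
    · rw [Subgroup.mem_centralizer_iff]
      exact fun z hz => hVcomm z hz g hg
  -- a Sylow subgroup
  have h8 := (S.sylow_two P).1
  obtain ⟨k₀, hk₀⟩ : ∃ k, Nat.card ↥V = 2 ^ k := ⟨3, by rw [hcardV]; rfl⟩
  obtain ⟨P₀, hP₀⟩ := (IsPGroup.of_card hk₀).exists_le_sylow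
  have hVP : V = (P₀ : Subgroup ↥(twistedG2 K (3 ^ m))) :=
    Subgroup.eq_of_le_of_card_ge hP₀ (by rw [(S.sylow_two P₀).1, hcardV])
  set N := Subgroup.normalizer (V : Set ↥(twistedG2 K (3 ^ m))) with hN
  have hVN : V ≤ N := Subgroup.le_normalizer
  have hodd : ∀ H : Subgroup ↥(twistedG2 K (3 ^ m)), V ≤ H → ∀ M, H ≤ M → ∀ c,
      c * Nat.card ↥H = Nat.card ↥M → Odd c := by
    intro H hH M hM c hc
    obtain ⟨t, ht⟩ := Subgroup.card_dvd_of_le hH
    have hM' := Subgroup.card_dvd_of_le (hH.trans hM)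
    have hidx : ¬ 2 ∣ (P₀ : Subgroup ↥(twistedG2 K (3 ^ m))).index := P₀.not_dvd_index
    have hMi := M.index_mul_card
    have hVi := V.index_mul_card
    rw [← hVP] at hidx
    rw [← hMi, ← hc, ht] at hVi
    have e1 : V.index = M.index * c * t := by
      have hpos : 0 < Nat.card ↥V := Nat.card_pos
      exact Nat.eq_of_mul_eq_mul_right hpos (by rw [hVi]; ring)
    rw [Nat.odd_iff]
    by_contra h
    exact hidx (e1 ▸ ((Nat.dvd_of_mod_eq_zero (by omega : c % 2 = 0)).mul_left _).mul_right _)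
  have hconjV : ∀ n ∈ N, ∀ x ∈ V, n * x * n⁻¹ ∈ V := fun n hn x hx =>
    (Subgroup.mem_normalizer_iff.1 hn x).1 hx
  -- the element of order three
  set g := S.psiG ω with hg
  have hgQ : g * S.psiG (Q 1) * g⁻¹ = S.psiG (Q 3) ∧ g * S.psiG (Q 2) * g⁻¹ = S.psiG (Q 1) ∧
      g * S.psiG (Q 3) * g⁻¹ = S.psiG (Q 2) ∧ g * a * g⁻¹ = a := by
    have e1 : g * S.psiG (Q 1) * g⁻¹ = S.psiG (Q 3) := by rw [hω1, mul_inv_cancel_right]
    have e2 : g * S.psiG (Q 2) * g⁻¹ = S.psiG (Q 1) := by rw [hω2, mul_inv_cancel_right]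
    refine ⟨e1, e2, ?_, by rw [(haψ ω).symm.eq, mul_inv_cancel_right]⟩
    rw [hQ3, show g * (S.psiG (Q 1) * S.psiG (Q 2)) * g⁻¹ = g * S.psiG (Q 1) * g⁻¹ *
      (g * S.psiG (Q 2) * g⁻¹) by group, e1, e2, hQ3, (hQc 1 2).eq, mul_assoc, hQs, mul_one]
  let π : Fin 4 → Fin 4 := ![0, 3, 1, 2]
  have hge : ∀ i j, g * e (i, j) * g⁻¹ = e (i, π j) := by
    intro i j
    show g * (zf i * S.psiG (Q j)) * g⁻¹ = zf i * S.psiG (Q (π j))
    rw [show g * (zf i * S.psiG (Q j)) * g⁻¹ = g * zf i * (S.psiG (Q j) * g⁻¹) by group,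
      (zfψ i ω).symm.eq, show zf i * g * (S.psiG (Q j) * g⁻¹) = zf i * (g * S.psiG (Q j) * g⁻¹) by group]
    congr 1
    fin_cases j
    · simp [π, hQ0]
    · exact hgQ.1
    · exact hgQ.2.1
    · exact hgQ.2.2.1
  have hgN : g ∈ N := by
    refine Subgroup.mem_normalizer_fintype ?_
    intro x hx
    obtain ⟨⟨i, j⟩, rfl⟩ := hsurj x hx
    rw [hge]
    exact heV _
  have hga : g ∈ N ⊓ Subgroup.centralizer {a} :=
    Subgroup.mem_inf.2 ⟨hgN, Subgroup.mem_centralizer_singleton_iff.2 (haψ ω).symm.eq⟩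
  set H := N ⊓ Subgroup.centralizer {a} with hH
  have hVH : V ≤ H := le_inf hVN fun x hx =>
    Subgroup.mem_centralizer_singleton_iff.2 ((hmemV x).1 hx).1.eq
  -- the conjugates of the second involution
  have hH3 : ∀ n ∈ H, ∀ j, j ≠ 0 → ∃ j', j' ≠ 0 ∧ n * S.psiG (Q j) * n⁻¹ = S.psiG (Q j') := by
    intro n hn j hj
    obtain ⟨hnN, hna⟩ := Subgroup.mem_inf.1 hn
    obtain ⟨⟨i, j'⟩, hij⟩ := hsurj _ (hconjV n hnN _ (hQV j))
    rw [S.centralizer_eq] at hna
    obtain ⟨⟨z, B⟩, rfl⟩ := hna
    have hconj : S.centHom (z, B) * S.psiG (Q j) * (S.centHom (z, B))⁻¹ = S.psiG (B * Q j * B⁻¹) := by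
      rw [centHom_apply, map_mul, map_mul, map_inv]
      rcases S.zpowers_invol z.2 with h | h <;> rw [h]
      · simp
      · calc a * S.psiG B * S.psiG (Q j) * (a * S.psiG B)⁻¹
            = a * (S.psiG B * S.psiG (Q j) * (S.psiG B)⁻¹) * a⁻¹ := by group
          _ = _ := by
            rw [show S.psiG B * S.psiG (Q j) * (S.psiG B)⁻¹ = S.psiG (B * Q j * B⁻¹) by simp,
              (haψ _).eq, mul_inv_cancel_right]
    have hz := S.psiG_eq_cent (zfc i) (hij.trans hconj)
    refine ⟨j', fun h0 => ?_, ?_⟩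
    · have hone : S.centHom (z, B) * S.psiG (Q j) * (S.centHom (z, B))⁻¹ = 1 := by
        rw [← hij]; simp [e, hz, h0, hQ0]
      exact hQ1 j hj (conj_eq_one_iff.1 hone)
    · rw [← hij]; simp [e, hz]
  have hcardH : Nat.card ↥H = 24 := by
    set O := {x | ∃ n ∈ H, n * S.psiG (Q 1) * n⁻¹ = x} with hO
    have hO3 : O.ncard = 3 := by
      have e3 : O = {S.psiG (Q 1), S.psiG (Q 2), S.psiG (Q 3)} := by
        ext x
        constructor
        · rintro ⟨n, hn, rfl⟩
          obtain ⟨j', hj', hx⟩ := hH3 n hn 1 (by decide)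
          rw [hx]
          fin_cases j' <;> simp_all
        · intro hx
          rcases hx with rfl | rfl | rfl
          · exact ⟨1, one_mem _, by simp⟩
          · refine ⟨g * g, mul_mem hga hga, ?_⟩
            rw [show g * g * S.psiG (Q 1) * (g * g)⁻¹ = g * (g * S.psiG (Q 1) * g⁻¹) * g⁻¹ by group,
              hgQ.1, hgQ.2.2.1]
          · exact ⟨g, hga, hgQ.1⟩
      rw [e3, Set.ncard_eq_three]
      exact ⟨_, _, _, fun h => absurd (hQinj _ _ h) (by decide), fun h => absurd (hQinj _ _ h) (by decide),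
        fun h => absurd (hQinj _ _ h) (by decide), rfl⟩
    have h1 := ncard_conjugates H (S.psiG (Q 1))
    rw [← hO, hO3] at h1
    set H1 := H ⊓ Subgroup.centralizer {S.psiG (Q 1)} with hH1
    have hVH1 : V ≤ H1 := le_inf hVH fun x hx =>
      Subgroup.mem_centralizer_singleton_iff.2 ((hmemV x).1 hx).2.1.eq
    have hH1V : H1 = V := by
      refine le_antisymm (fun n hn => ?_) hVH1
      have h2 := ncard_conjugates H1 (S.psiG (Q 2))
      set O2 := {x | ∃ n ∈ H1, n * S.psiG (Q 2) * n⁻¹ = x} with hO2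
      have hodd2 := hodd _ (le_inf hVH1 fun x hx =>
        Subgroup.mem_centralizer_singleton_iff.2 ((hmemV x).1 hx).2.2.eq) H1 inf_le_left _ h2
      have hsub : O2 ⊆ {S.psiG (Q 2), S.psiG (Q 3)} := by
        rintro x ⟨l, hl, rfl⟩
        obtain ⟨j', hj', hx⟩ := hH3 l (Subgroup.mem_inf.1 hl).1 2 (by decide)
        rw [hx]
        fin_cases j'
        · exact absurd rfl hj'
        · exfalso
          have hl1 : l * S.psiG (Q 1) * l⁻¹ = S.psiG (Q 1) := by
            rw [(Subgroup.mem_centralizer_singleton_iff.1 (Subgroup.mem_inf.1 hl).2),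
              mul_inv_cancel_right]
          exact absurd (hQinj 2 1 (mul_left_cancel (mul_right_cancel (hx.trans hl1.symm)))) (by decide)
        · simp
        · simp
      have hle : O2.ncard ≤ 2 := (Set.ncard_le_ncard hsub (Set.toFinite _)).trans
        ((Set.ncard_insert_le _ _).trans (by simp))
      have h1' : O2.ncard = 1 := by
        obtain ⟨k, hk⟩ := hodd2
        omega
      obtain ⟨y, hy⟩ := Set.ncard_eq_one.1 h1'
      have hn2 : n * S.psiG (Q 2) * n⁻¹ = S.psiG (Q 2) := by
        have e1 : n * S.psiG (Q 2) * n⁻¹ ∈ O2 := ⟨n, hn, rfl⟩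
        have e2 : S.psiG (Q 2) ∈ O2 := ⟨1, one_mem _, by simp⟩
        rw [hy, Set.mem_singleton_iff] at e1 e2
        rw [e1, ← e2]
      obtain ⟨hnH, hn1⟩ := Subgroup.mem_inf.1 hn
      rw [hmemV]
      exact ⟨Subgroup.mem_centralizer_singleton_iff.1 (Subgroup.mem_inf.1 hnH).2,
        Subgroup.mem_centralizer_singleton_iff.1 hn1, mul_inv_eq_iff_eq_mul.1 hn2⟩
    rw [hH1V, hcardV] at h1
    omega
  have hcardN : Nat.card ↥N = 168 := by
    have h1 := ncard_conjugates N a
    set O := {x | ∃ n ∈ N, n * a * n⁻¹ = x} with hO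
    have hoddO := hodd _ hVH N inf_le_left _ h1
    let s : Finset (Fin 2 × Fin 4) := Finset.univ.filter fun p => e p ∈ O
    have hOs : O = e '' (s : Set (Fin 2 × Fin 4)) := by
      ext x
      simp only [s, Finset.coe_filter, Finset.mem_univ, true_and, Set.mem_image, Set.mem_setOf_eq]
      constructor
      · intro hx
        obtain ⟨n, hn, rfl⟩ := hx
        obtain ⟨p, hp⟩ := hsurj _ (hconjV n hn a haV)
        exact ⟨p, ⟨n, hn, hp.symm⟩, hp⟩
      · rintro ⟨p, hp, rfl⟩
        exact hp
    have hcs : O.ncard = s.card := by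
      rw [hOs, Set.ncard_image_of_injective _ heinj, Set.ncard_coe_finset]
    have ea : e (1, 0) = a := by simp [e, zf, hQ0]
    have hs1 : ((1, 0) : Fin 2 × Fin 4) ∈ s := by
      simp only [s, Finset.mem_filter, Finset.mem_univ, true_and]
      exact ⟨1, one_mem _, by simp [ea]⟩
    have hs0 : ((0, 0) : Fin 2 × Fin 4) ∉ s := by
      simp only [s, Finset.mem_filter, Finset.mem_univ, true_and]
      rintro ⟨n, hn, hna⟩
      refine S.invol_ne (conj_eq_one_iff.1 (hna.trans ?_))
      simp [e, zf, hQ0]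
    have hsπ : ∀ p ∈ s, (p.1, π p.2) ∈ s := by
      intro p hp
      simp only [s, Finset.mem_filter, Finset.mem_univ, true_and] at hp ⊢
      obtain ⟨n, hn, hne⟩ := hp
      exact ⟨g * n, mul_mem hgN hn, by rw [← hge p.1 p.2, ← hne]; group⟩
    have hne1 : s.card ≠ 1 := by
      intro h
      have hP₀comm : ∀ x ∈ P₀, ∀ y ∈ P₀, x * y = y * x := fun x hx y hy =>
        hVcomm x (hVP ▸ hx) y (hVP ▸ hy)
      refine S.invol_ne (eq_one_of_fixed_by_normalizer (S.perfect hm) P₀ hP₀comm (show S.invol ∈ (P₀ : Subgroup ↥(twistedG2 K (3 ^ m))) from hVP.le haV) ?_)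
      intro n hn
      have h1 : n * a * n⁻¹ ∈ O := ⟨n, by rw [hN, hVP]; exact hn, rfl⟩
      obtain ⟨y, hy⟩ := Set.ncard_eq_one.1 (hcs.trans h)
      have h2 : a ∈ O := ⟨1, one_mem _, by simp⟩
      rw [hy, Set.mem_singleton_iff] at h1 h2
      rw [h1, ← h2]
    have key : ∀ t : Finset (Fin 2 × Fin 4), (1, 0) ∈ t → (0, 0) ∉ t →
        (∀ p ∈ t, (p.1, (![0, 3, 1, 2] : Fin 4 → Fin 4) p.2) ∈ t) → t.card % 2 = 1 → t.card ≠ 1 →
          t.card = 7 := by
      decide +kernel
    have h7 : s.card = 7 := key s hs1 hs0 hsπ (by rw [← hcs]; exact Nat.odd_iff.1 hoddO) hne1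
    rw [hcs, h7, ← hH, hcardH] at h1
    omega
  obtain ⟨x, rfl⟩ := MulAction.exists_smul_eq ↥(twistedG2 K (3 ^ m)) P₀ P
  have hsub : ((x • P₀ : Sylow 2 ↥(twistedG2 K (3 ^ m))) : Subgroup ↥(twistedG2 K (3 ^ m))) =
      V.map (MulAut.conj x).toMonoidHom := by
    rw [hVP]; rfl
  refine ⟨?_, ?_⟩
  · rw [hsub]
    have hc := congrArg (Subgroup.map (MulAut.conj x).toMonoidHom) hcentV
    refine Eq.trans ?_ hc
    ext y
    simp only [Subgroup.mem_map, Subgroup.mem_centralizer_iff, Subgroup.coe_map, Set.mem_image,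
      MulEquiv.coe_toMonoidHom, SetLike.mem_coe, MulAut.conj_apply]
    constructor
    · intro h
      refine ⟨x⁻¹ * y * x, fun z hz => ?_, by group⟩
      have h' := h _ ⟨z, hz, rfl⟩
      calc z * (x⁻¹ * y * x) = x⁻¹ * (x * z * x⁻¹ * y) * x := by group
        _ = x⁻¹ * y * x * z := by rw [h']; group
    · rintro ⟨w, hw, rfl⟩ z ⟨u, hu, rfl⟩
      calc x * u * x⁻¹ * (x * w * x⁻¹) = x * (u * w) * x⁻¹ := by group
        _ = x * w * x⁻¹ * (x * u * x⁻¹) := by rw [hw u hu]; group
  · rw [hsub, ← Subgroup.map_equiv_normalizer_eq, Subgroup.card_map_of_injective (MulEquiv.injective _)]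
    exact hcardN

end SetupG2

end CfsgLib.Chev
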