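import Mathlib
import Cfsg.Agent.Lib.Chev.ReeInvolution

/-!
The split torus of ²G₂ and its normaliser.
-/

set_option autoImplicit false
set_option maxHeartbeats 800000
set_option maxRecDepth 100000
set_option linter.unusedSectionVars false

namespace CfsgLib.Chev

open Cfsg.Lie

/-- An element normalising a cyclic group normalises each of its subgroups. -/
theorem mem_normalizer_of_cyclic {G : Type*} [Group G] [Finite G] {T A : Subgroup G} [IsCyclic T]
    (hA : A ≤ T) {g : G} (hg : ∀ t ∈ T, g * t * g⁻¹ ∈ T) : g ∈ Subgroup.normalizer (A : Set G) := by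
  let φ : ↥T →* ↥T :=
    { toFun := fun t => ⟨g * t * g⁻¹, hg t t.2⟩
      map_one' := Subtype.ext (by simp)
      map_mul' := fun a b => Subtype.ext (by simp [mul_assoc]) }
  obtain ⟨k, hk⟩ := MonoidHom.map_cyclic φ
  have hin : ∀ x ∈ A, g * x * g⁻¹ ∈ A := fun x hx => by
    have := congrArg Subtype.val (hk ⟨x, hA hx⟩)
    simp only [Subgroup.coe_zpow] at this
    rw [show g * x * g⁻¹ = x ^ k from this]
    exact zpow_mem hx k
  rw [Subgroup.mem_normalizer_iff]
  refine fun x => ⟨hin x, fun hx => ?_⟩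
  let f : ↥A → ↥A := fun y => ⟨g * y * g⁻¹, hin y y.2⟩
  have hf : Function.Injective f := fun a b h => Subtype.ext (by simpa [f] using h)
  obtain ⟨y, hy⟩ := Finite.surjective_of_injective hf ⟨g * x * g⁻¹, hx⟩
  have : (y : G) = x := by simpa [f] using congrArg Subtype.val hy
  exact this ▸ y.2

/-- Normalisers of the non-trivial subgroups of a cyclic group. -/
theorem normalizer_eq_of_cyclic {G : Type*} [Group G] [Finite G] {A X : Subgroup G} [IsCyclic A]
    (hX : ∀ g ∈ X, g ∈ Subgroup.normalizer (A : Set G))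
    (h : ∀ x ∈ A, x ≠ 1 → ∀ g : G, g * x * g⁻¹ ∈ A → g ∈ X) {A₀ : Subgroup G} (h0 : A₀ ≤ A)
    (hne : A₀ ≠ ⊥) : Subgroup.normalizer (A₀ : Set G) = X := by
  refine le_antisymm (fun g hg => ?_) (fun g hg => ?_)
  · obtain ⟨x, hx, hx1⟩ := A₀.bot_or_exists_ne_one.resolve_left hne
    exact h x (h0 hx) hx1 g (h0 ((Subgroup.mem_normalizer_iff.1 hg x).1 hx))
  · exact mem_normalizer_of_cyclic h0 fun t ht => (Subgroup.mem_normalizer_iff.1 (hX g hg) t).1 ht

namespace SetupG2

variable {K : Type*} [Field K] [Fintype K] {m : ℕ} (S : SetupG2 K m)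
include S

/-- The torus in the group. -/
noncomputable def tauG : Kˣ →* ↥(twistedG2 K (3 ^ m)) :=
  S.tauHom.codRestrict _ fun b => (S.tauHom_mem b).2

lemma coe_tauG (b : Kˣ) : (S.tauG b : GL chevG2.Idx K) = S.tauHom b := rfl

lemma tauG_inj : Function.Injective S.tauG := fun _ _ h =>
  S.tauHom_inj (congrArg Subtype.val h)

lemma mem_tauG_range {g : ↥(twistedG2 K (3 ^ m))} :
    g ∈ S.tauG.range ↔ (g : GL chevG2.Idx K) ∈ chevG2.diagonalSubgroup K ⊓ twistedG2 K (3 ^ m) := by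
  rw [← S.tauHom_range]
  exact ⟨fun ⟨b, hb⟩ => ⟨b, congrArg Subtype.val hb⟩, fun ⟨b, hb⟩ => ⟨b, Subtype.ext hb⟩⟩

lemma tauG_pB (b : Kˣ) : S.tauG b ∈ S.pB := S.diag_le_borel (S.tauHom_mem b)

lemma omega_tauG (b : Kˣ) : S.omegaG⁻¹ * S.tauG b * S.omegaG ∈ S.tauG.range :=
  S.mem_tauG_range.2 (S.omega_normalizes (S.tauHom_mem b))

lemma omega_sq_mem : S.omegaG * S.omegaG ∈ S.tauG.range := by
  have ha : goodG2.Acts (goodG2.wordN wordG2 * goodG2.wordN wordG2 : GL chevG2.Idx K) 1 := by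
    have h := goodG2.acts_mul (goodG2.acts_wordN (F := K) wordG2) (goodG2.acts_wordN wordG2)
    rwa [show goodG2.wperm wordG2 * goodG2.wperm wordG2 = 1 from S.sys.w_sq (0 : Fin 1)] at h
  have hk := goodG2.monomial_same_acts (mul_mem (goodG2.wordN_mem wordG2) (goodG2.wordN_mem wordG2))
    (one_mem _) ha goodG2.acts_one
  rw [inv_one, mul_one] at hk
  refine S.mem_tauG_range.2 ⟨?_, (S.omegaG * S.omegaG).2⟩
  have := Subgroup.inv_mem _ hk
  rwa [_root_.mul_inv_rev] at this

lemma tauG_pB_of {g : ↥(twistedG2 K (3 ^ m))} (h : g ∈ S.tauG.range) : g ∈ S.pB := by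
  obtain ⟨b, rfl⟩ := h; exact S.tauG_pB b

lemma omega_normalizes_range {g : ↥(twistedG2 K (3 ^ m))} :
    S.omegaG⁻¹ * g * S.omegaG ∈ S.tauG.range ↔ g ∈ S.tauG.range := by
  have h : ∀ g, g ∈ S.tauG.range → S.omegaG⁻¹ * g * S.omegaG ∈ S.tauG.range := by
    rintro _ ⟨b, rfl⟩; exact S.omega_tauG b
  refine ⟨fun hg => ?_, h g⟩
  have h2 := h _ hg
  have e : g = (S.omegaG * S.omegaG) * (S.omegaG⁻¹ * (S.omegaG⁻¹ * g * S.omegaG) * S.omegaG) *
      (S.omegaG * S.omegaG)⁻¹ := by group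
  rw [e]
  exact mul_mem (mul_mem S.omega_sq_mem h2) (Subgroup.inv_mem _ S.omega_sq_mem)

/-- The stabiliser of the two points of the torus. -/
noncomputable def splitN : Subgroup ↥(twistedG2 K (3 ^ m)) where
  carrier := {g | g ∈ S.tauG.range ∨ S.omegaG⁻¹ * g ∈ S.tauG.range}
  one_mem' := Or.inl (one_mem _)
  mul_mem' {a b} ha hb := by
    rcases ha with ha | ha <;> rcases hb with hb | hb
    · exact Or.inl (mul_mem ha hb)
    · refine Or.inr ?_
      rw [show S.omegaG⁻¹ * (a * b) = (S.omegaG⁻¹ * a * S.omegaG) * (S.omegaG⁻¹ * b) by group]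
      exact mul_mem (S.omega_normalizes_range.2 ha) hb
    · refine Or.inr ?_
      rw [← mul_assoc]
      exact mul_mem ha hb
    · refine Or.inl ?_
      rw [show a * b = (S.omegaG * S.omegaG) *
        ((S.omegaG⁻¹ * (S.omegaG⁻¹ * a) * S.omegaG) * (S.omegaG⁻¹ * b)) by group]
      exact mul_mem S.omega_sq_mem (mul_mem (S.omega_normalizes_range.2 ha) hb)
  inv_mem' {a} ha := by
    rcases ha with ha | ha
    · exact Or.inl (Subgroup.inv_mem _ ha)
    · refine Or.inr ?_
      refine S.omega_normalizes_range.1 ?_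
      rw [show S.omegaG⁻¹ * (S.omegaG⁻¹ * a⁻¹) * S.omegaG =
        (S.omegaG * S.omegaG)⁻¹ * (S.omegaG⁻¹ * a)⁻¹ by group]
      exact mul_mem (Subgroup.inv_mem _ S.omega_sq_mem) (Subgroup.inv_mem _ ha)

lemma card_tauG : Nat.card ↥S.tauG.range = 3 ^ (2 * m + 1) - 1 := by
  rw [← Nat.card_congr (MonoidHom.ofInjective S.tauG_inj).toEquiv, S.card_units_K]

lemma range_le_splitN : S.tauG.range ≤ S.splitN := fun _ h => Or.inl h

lemma card_splitN : Nat.card ↥S.splitN = 2 * (3 ^ (2 * m + 1) - 1) := by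
  have hω : S.omegaG ∉ S.tauG.range := fun h =>
    S.omega_not_borel (S.diag_le_borel (S.mem_tauG_range.1 h))
  have hidx : (S.tauG.range.subgroupOf S.splitN).index = 2 := by
    refine Subgroup.index_eq_two_iff.2 ⟨⟨S.omegaG, Or.inr (by simp)⟩, fun b => ?_⟩
    simp only [Subgroup.mem_subgroupOf, Subgroup.coe_mul]
    rcases b.2 with hb | hb
    · refine Or.inr ⟨hb, fun h => hω ?_⟩
      have := mul_mem (Subgroup.inv_mem _ hb) h
      rwa [inv_mul_cancel_left] at this
    · refine Or.inl ⟨?_, fun h => hω ?_⟩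
      · refine S.omega_normalizes_range.1 ?_
        rw [show S.omegaG⁻¹ * ((b : ↥(twistedG2 K (3 ^ m))) * S.omegaG) * S.omegaG =
          S.omegaG⁻¹ * b * (S.omegaG * S.omegaG) by group]
        exact mul_mem hb S.omega_sq_mem
      · have := mul_mem h (Subgroup.inv_mem _ hb)
        simpa using this
  have h := (S.tauG.range.subgroupOf S.splitN).card_mul_index
  rw [hidx, Nat.card_congr (Subgroup.subgroupOfEquivOfLe S.range_le_splitN).toEquiv, S.card_tauG] at h
  omega

lemma splitN_normalizes {g : ↥(twistedG2 K (3 ^ m))} (hg : g ∈ S.splitN)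
    {t : ↥(twistedG2 K (3 ^ m))} (ht : t ∈ S.tauG.range) : g * t * g⁻¹ ∈ S.tauG.range := by
  rcases hg with hg | hg
  · exact mul_mem (mul_mem hg ht) (Subgroup.inv_mem _ hg)
  · have h := mul_mem (mul_mem hg ht) (Subgroup.inv_mem _ hg)
    refine S.omega_normalizes_range.1 ?_
    convert h using 1
    group

/-- The fixed points of a torus element of order above two. -/
lemma fixed_two {c : Kˣ} (hc : c * c ≠ 1) {g : ↥(twistedG2 K (3 ^ m))}
    (h : g⁻¹ * S.tauG c * g ∈ S.pB) : g ∈ S.pB ∨ S.omegaG⁻¹ * g ∈ S.pB := by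
  rcases S.cell g.2 with hb | ⟨u, hu, b, hb, he⟩
  · exact Or.inl hb
  right
  have h2 : (u * S.omega)⁻¹ * S.tauHom c * (u * S.omega) ∈
      chevG2.borelSubgroup K ⊓ twistedG2 K (3 ^ m) := by
    have h3 := mul_mem (mul_mem hb (S.mem_pB.1 h)) (Subgroup.inv_mem _ hb)
    simp only [Subgroup.coe_mul, Subgroup.coe_inv, coe_tauG, he] at h3
    convert h3 using 1
    group
  have h4 := S.three_point hu (S.tauHom_mem c) h2
  have hu1 : u = 1 := by
    have : u ∈ (chevG2.posUnipotent K ⊓ twistedG2 K (3 ^ m)) ⊓ Subgroup.centralizer {S.tauHom c} :=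
      ⟨hu, Subgroup.mem_centralizer_singleton_iff.2 h4.symm⟩
    rwa [S.pos_inf_centralizer hc, Subgroup.mem_bot] at this
  rw [S.mem_pB]
  simp only [Subgroup.coe_mul, Subgroup.coe_inv, he, hu1, one_mul, omegaG, inv_mul_cancel_left]
  exact hb

lemma two_point' {g : ↥(twistedG2 K (3 ^ m))} (hg : g ∈ S.pB)
    (h : S.omegaG⁻¹ * g * S.omegaG ∈ S.pB) : g ∈ S.tauG.range := by
  refine S.mem_tauG_range.2 (S.two_point (S.mem_pB.1 hg) ?_)
  exact S.mem_pB.1 h

/-- Fusion in the torus. -/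
theorem conj_mem_splitN {c : Kˣ} (hc : c * c ≠ 1) {g : ↥(twistedG2 K (3 ^ m))}
    (h : g * S.tauG c * g⁻¹ ∈ S.tauG.range) : g ∈ S.splitN := by
  obtain ⟨d, hd⟩ := h
  have hd2 : d * d ≠ 1 := fun e => hc (S.tauG_inj (by
    have h' : S.tauG (d * d) = g * S.tauG (c * c) * g⁻¹ := by rw [map_mul, map_mul, hd]; group
    rw [e, map_one, eq_comm, conj_eq_one_iff] at h'
    rw [h', map_one]))
  -- the images of the two fixed points
  have he : g⁻¹ * S.tauG d * g ∈ S.pB := by
    rw [hd, show g⁻¹ * (g * S.tauG c * g⁻¹) * g = S.tauG c by group]; exact S.tauG_pB c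
  have hω : (g * S.omegaG)⁻¹ * S.tauG d * (g * S.omegaG) ∈ S.pB := by
    rw [hd, show (g * S.omegaG)⁻¹ * (g * S.tauG c * g⁻¹) * (g * S.omegaG) =
      S.omegaG⁻¹ * S.tauG c * S.omegaG by group]
    obtain ⟨e, he'⟩ := S.omega_tauG c
    rw [← he']; exact S.tauG_pB e
  have hωB : S.omegaG ∉ S.pB := S.omega_not_borel
  rcases S.fixed_two hd2 he with hg | hg
  · rcases S.fixed_two hd2 hω with hg' | hg'
    · have := mul_mem (Subgroup.inv_mem _ hg) hg'
      rw [inv_mul_cancel_left] at this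
      exact absurd this hωB
    · exact Or.inl (S.two_point' hg (by rwa [← mul_assoc] at hg'))
  · rcases S.fixed_two hd2 hω with hg' | hg'
    · refine Or.inr (S.two_point' hg ?_)
      have hh := mul_mem (Subgroup.inv_mem _ (S.tauG_pB_of S.omega_sq_mem)) hg'
      convert hh using 1
      group
    · have := mul_mem (Subgroup.inv_mem _ hg) hg'
      rw [show (S.omegaG⁻¹ * g)⁻¹ * (S.omegaG⁻¹ * (g * S.omegaG)) = S.omegaG by group] at this
      exact absurd this hωB

lemma sq_pow_ne {c : Kˣ} (hc : c * c ≠ 1) :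
    c ^ (3 * 3 ^ m + 1) * c ^ (3 * 3 ^ m + 1) ≠ 1 := fun e => hc (by
  have h1 : c ^ (2 * (3 * 3 ^ m + 1)) = 1 := by rwa [two_mul, _root_.pow_add]
  have h3 : orderOf c ∣ 4 := by
    have a := orderOf_dvd_of_pow_eq_one h1
    have b : orderOf c ∣ 3 * 3 ^ m * 3 ^ m - 1 := by
      rw [show 3 * 3 ^ m * 3 ^ m = 3 ^ (2 * m + 1) by ring, ← S.card_units_K]
      exact orderOf_dvd_natCard c
    have e1 : 2 * (3 * 3 ^ m + 1) * (3 * 3 ^ m - 1) = 6 * (3 * 3 ^ m * 3 ^ m - 1) + 4 := by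
      have h1 : 1 ≤ 3 * 3 ^ m := Nat.one_le_iff_ne_zero.2 (by positivity)
      have h2 : 1 ≤ 3 * 3 ^ m * 3 ^ m := Nat.one_le_iff_ne_zero.2 (by positivity)
      zify [h1, h2]; ring
    have := a.mul_right (3 * 3 ^ m - 1)
    rw [e1, Nat.dvd_add_right (b.mul_left 6)] at this
    exact this
  have h4 : orderOf c ∣ 3 ^ (2 * m + 1) - 1 := S.card_units_K ▸ orderOf_dvd_natCard c
  have h5 : orderOf c ∣ 2 := by
    have hmod : (3 ^ (2 * m + 1) - 1) % 4 = 2 := by
      have h := S.half_odd (m := m)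
      have h2 : 3 ^ (2 * m + 1) % 2 = 1 := by simp [Nat.pow_mod]
      rw [Nat.odd_iff] at h; omega
    have := Nat.dvd_gcd h3 h4
    rwa [Nat.gcd_rec, hmod, show Nat.gcd 2 4 = 2 from rfl] at this
  rw [← sq]; exact orderOf_dvd_iff_pow_eq_one.1 h5)

/-- The centraliser of a torus element of order above two is the torus. -/
theorem centralizer_tauG {c : Kˣ} (hc : c * c ≠ 1) :
    Subgroup.centralizer {S.tauG c} = S.tauG.range := by
  refine le_antisymm (fun g hg => ?_) ?_
  · rw [Subgroup.mem_centralizer_singleton_iff] at hg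
    have hN : g ∈ S.splitN := S.conj_mem_splitN hc (by
      rw [hg, mul_inv_cancel_right]; exact ⟨c, rfl⟩)
    refine hN.resolve_right fun hg2 => ?_
    -- an element exchanging the points inverts a power of `c`
    set w := S.psiG slW with hw
    have hwN : S.omegaG⁻¹ * w ∈ S.tauG.range := by
      have hc4 := S.sq_pow_ne hc
      have hwN : w ∈ S.splitN := S.conj_mem_splitN hc4 (by
        have e : w * S.tauG (c ^ (3 * 3 ^ m + 1)) * w⁻¹ = S.tauG ((c⁻¹) ^ (3 * 3 ^ m + 1)) := by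
          have e1 : ∀ t : Kˣ, S.psiG (slD t) = S.tauG (t ^ (3 * 3 ^ m + 1)) := fun t =>
            Subtype.ext (S.psi_slD t)
          rw [hw, ← e1, ← e1, ← map_inv, ← map_mul, ← map_mul]
          congr 1
          apply Subtype.ext
          simp only [Matrix.SpecialLinearGroup.coe_mul, Matrix.SpecialLinearGroup.coe_inv]
          ext i j
          fin_cases i <;> fin_cases j <;>
            simp [slW, slD, Matrix.mul_apply, Fin.sum_univ_two, Matrix.adjugate_fin_two]
        rw [e]; exact ⟨_, rfl⟩)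
      refine hwN.resolve_left fun h => S.psi_W_not_borel ?_
      exact S.diag_le_borel (S.mem_tauG_range.1 h)
    -- so `g` inverts that power
    obtain ⟨x, hx⟩ := mul_mem (Subgroup.inv_mem _ hwN) hg2
    rw [show (S.omegaG⁻¹ * w)⁻¹ * (S.omegaG⁻¹ * g) = w⁻¹ * g by group] at hx
    have e1 : ∀ t : Kˣ, S.psiG (slD t) = S.tauG (t ^ (3 * 3 ^ m + 1)) := fun t =>
      Subtype.ext (S.psi_slD t)
    set D := S.tauG (c ^ (3 * 3 ^ m + 1)) with hD
    have hinv : w * D * w⁻¹ = D⁻¹ := by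
      rw [hD, hw, ← e1, ← map_inv, ← map_inv, ← map_mul, ← map_mul]
      congr 1
      apply Subtype.ext
      simp only [Matrix.SpecialLinearGroup.coe_mul, Matrix.SpecialLinearGroup.coe_inv]
      ext i j
      fin_cases i <;> fin_cases j <;>
        simp [slW, slD, Matrix.mul_apply, Fin.sum_univ_two, Matrix.adjugate_fin_two]
    have hgD : g * D * g⁻¹ = D := by
      rw [mul_inv_eq_iff_eq_mul, hD, map_pow]
      exact (Commute.pow_right hg _).eq
    rw [show g = w * S.tauG x by rw [hx, mul_inv_cancel_left], show w * S.tauG x * D * (w * S.tauG x)⁻¹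
      = w * (S.tauG x * D * (S.tauG x)⁻¹) * w⁻¹ by group, hD, ← map_mul, ← map_inv, ← map_mul,
      mul_inv_cancel_comm, ← hD, hinv, inv_eq_iff_mul_eq_one, hD, ← map_mul] at hgD
    exact S.sq_pow_ne hc (S.tauG_inj (hgD.trans (map_one _).symm))
  · rintro _ ⟨d, rfl⟩
    rw [Subgroup.mem_centralizer_singleton_iff, ← map_mul, ← map_mul, mul_comm]

end SetupG2

end CfsgLib.Chev
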