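import Mathlib
import Cfsg.Agent.Lib.Chev.ReeTorusSplit
import Cfsg.Agent.Lib.Chev.ReeSylowTwo
import Cfsg.Agent.Lib.Coprime.Generation
import Cfsg.Agent.Lib.Transfer.Frobenius

/-!
The tori of ²G₂ centralised by four-groups.
-/

set_option autoImplicit false
set_option maxHeartbeats 1600000
set_option maxRecDepth 100000
set_option linter.unusedSectionVars false

namespace CfsgLib.Chev

open Cfsg.Lie

namespace KleinTorus

/-- A matrix commuting with a non-scalar two by two matrix lies in the algebra it generates. -/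
theorem mem_of_commute {F : Type*} [Field F] {M N : Matrix (Fin 2) (Fin 2) F}
    (hN : ∀ c : F, N ≠ c • 1) (h : M * N = N * M) : ∃ a b : F, M = a • 1 + b • N := by
  have e : ∀ i j, M i 0 * N 0 j + M i 1 * N 1 j = N i 0 * M 0 j + N i 1 * M 1 j := fun i j => by
    simpa [Matrix.mul_apply, Fin.sum_univ_two] using congrFun (congrFun h i) j
  have e00 := e 0 0
  have e01 := e 0 1
  have e10 := e 1 0
  by_cases h01 : N 0 1 ≠ 0
  · refine ⟨M 0 0 - M 0 1 / N 0 1 * N 0 0, M 0 1 / N 0 1, ?_⟩
    ext i j
    fin_cases i <;> fin_cases j <;> simp <;> field_simp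
    · linear_combination -e00
    · linear_combination -e01
  by_cases h10 : N 1 0 ≠ 0
  · push Not at h01
    refine ⟨M 0 0 - M 1 0 / N 1 0 * N 0 0, M 1 0 / N 1 0, ?_⟩
    ext i j
    fin_cases i <;> fin_cases j <;> simp [h01] <;> (try field_simp)
    · have h' : N 1 0 * M 0 1 = 0 := by rw [h01] at e00; linear_combination e00
      exact (mul_eq_zero.1 h').resolve_left h10
    · linear_combination e10
  · push Not at h01 h10
    have hd : N 0 0 - N 1 1 ≠ 0 := fun hh => hN (N 0 0) (by
      ext i j
      fin_cases i <;> fin_cases j <;> simp [h01, h10]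
      linear_combination -hh)
    have m01 : M 0 1 = 0 := by
      have : (N 0 0 - N 1 1) * M 0 1 = 0 := by rw [h01] at e01; linear_combination -e01
      exact (mul_eq_zero.1 this).resolve_left hd
    have m10 : M 1 0 = 0 := by
      have : (N 0 0 - N 1 1) * M 1 0 = 0 := by rw [h10] at e10; linear_combination e10
      exact (mul_eq_zero.1 this).resolve_left hd
    refine ⟨M 0 0 - (M 0 0 - M 1 1) / (N 0 0 - N 1 1) * N 0 0, (M 0 0 - M 1 1) / (N 0 0 - N 1 1), ?_⟩
    ext i j
    fin_cases i <;> fin_cases j <;> simp [h01, h10, m01, m10]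
    field_simp
    ring

variable {F : Type*} [Field F] [Fintype F]

/-- The embedding of the quadratic extension in matrices, with a square root of `-1` sent to `slW`. -/
theorem exists_emb (hq : Fintype.card F % 4 = 3) :
    ∃ (e0 : Matrix.SpecialLinearGroup (Fin 2) F),
      orderOf e0 = Fintype.card F + 1 ∧
      ((e0 ^ ((Fintype.card F + 1) / 4) : Matrix.SpecialLinearGroup (Fin 2) F) = slW ∨
        e0 ^ ((Fintype.card F + 1) / 4) = slW⁻¹) ∧
      (∀ X : Matrix.SpecialLinearGroup (Fin 2) F, X * slW = slW * X → X ∈ Subgroup.zpowers e0) := by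
  obtain ⟨p, hp⟩ := CharP.exists F
  have := Fact.mk (CharP.char_is_prime F p)
  have hq1 : 1 < Fintype.card F := Fintype.one_lt_card
  have hneg : ¬ IsSquare (-1 : F) := fun h => (FiniteField.isSquare_neg_one_iff.1 h) hq
  let E := FiniteField.Extension F p 2
  have : Fintype E := Fintype.ofFinite E
  have hE : Fintype.card E = Fintype.card F ^ 2 := by
    rw [← Nat.card_eq_fintype_card, FiniteField.natCard_extension, Nat.card_eq_fintype_card]
  -- a square root of `-1`
  obtain ⟨x, hx⟩ := IsCyclic.exists_ofOrder_eq_natCard (α := Eˣ)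
  have hx' : orderOf x = (Fintype.card F + 1) * (Fintype.card F - 1) := by
    rw [hx, Nat.card_units, Nat.card_eq_fintype_card, hE, ← Nat.sq_sub_sq, one_pow]
  set k := (Fintype.card F + 1) / 4 with hk
  have hk4 : Fintype.card F + 1 = 4 * k := by omega
  set e := x ^ (Fintype.card F - 1) with he
  have heo : orderOf e = Fintype.card F + 1 := by
    rw [he, orderOf_pow' x (by omega), hx', Nat.gcd_mul_left_left, Nat.mul_div_cancel _ (by omega)]
  set i : E := ((e ^ k : Eˣ) : E) with hi
  have hi2 : i * i = -1 := by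
    have h4 : (i * i) * (i * i) = 1 := by
      rw [hi, ← Units.val_mul, ← Units.val_mul, ← pow_add, ← pow_add,
        show k + k + (k + k) = orderOf e by omega, pow_orderOf_eq_one, Units.val_one]
    rcases mul_self_eq_one_iff.1 h4 with h | h
    · exfalso
      rw [hi, ← Units.val_mul, ← pow_add] at h
      have := orderOf_dvd_of_pow_eq_one (Units.ext h : e ^ (k + k) = 1)
      have := Nat.le_of_dvd (by omega) this
      omega
    · exact h
  have hind : LinearIndependent F ![(1 : E), i] := by
    rw [LinearIndependent.pair_iff]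
    intro s t hst
    by_cases ht : t = 0
    · subst ht; simpa using hst
    · exfalso
      refine hneg ⟨-(s / t), ?_⟩
      apply (algebraMap F E).injective
      have hi' : i = algebraMap F E (-(s / t)) := by
        rw [Algebra.smul_def, Algebra.smul_def, mul_one] at hst
        rw [map_neg, map_div₀, eq_neg_iff_add_eq_zero, ← mul_div_cancel_left₀ i
          ((map_ne_zero (algebraMap F E)).2 ht), ← add_div, div_eq_zero_iff]
        left
        linear_combination hst
      rw [map_mul, ← hi', hi2, map_neg, map_one]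
  let b := basisOfLinearIndependentOfCardEqFinrank hind
    (by rw [FiniteField.finrank_extension]; rfl)
  let φ := Algebra.leftMulMatrix b
  have hb : ∀ j, b j = ![(1 : E), i] j := fun j => by simp [b]
  have hφi : φ i = !![0, -1; 1, 0] := by
    have h0 : i * b 0 = (0 : F) • b 0 + (1 : F) • b 1 := by simp [hb]
    have h1 : i * b 1 = (-1 : F) • b 0 + (0 : F) • b 1 := by simp [hb, hi2]
    ext r c
    rw [Algebra.leftMulMatrix_eq_repr_mul]
    fin_cases c <;> [rw [show ((⟨0, _⟩ : Fin 2)) = 0 from rfl, h0]; rw [show ((⟨1, _⟩ : Fin 2)) = 1 from rfl, h1]] <;>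
      fin_cases r <;> simp
  have hW : (slW : Matrix.SpecialLinearGroup (Fin 2) F).1 = !![0, 1; -1, 0] := by
    ext r c; fin_cases r <;> fin_cases c <;> simp [slW]
  have hnorm : ∀ u : Eˣ, ((φ (u : E)).det = 1 ↔ u ^ (Fintype.card F + 1) = 1) := by
    intro u
    have h : algebraMap F E ((φ (u : E)).det) = (u : E) ^ (Fintype.card F + 1) := by
      rw [← Algebra.norm_eq_matrix_det b, FiniteField.algebraMap_norm_eq_prod_pow,
        FiniteField.finrank_extension]
      simp only [Finset.prod_range_succ, Finset.prod_range_zero, one_mul, pow_zero, pow_one,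
        Nat.card_eq_fintype_card]
      rw [pow_succ']
    constructor
    · intro hd; rw [hd, map_one] at h; exact Units.ext (by simpa using h.symm)
    · intro hu
      apply (algebraMap F E).injective
      rw [h, map_one, ← Units.val_pow_eq_pow_val, hu, Units.val_one]
  let e0 : Matrix.SpecialLinearGroup (Fin 2) F :=
    ⟨φ (e : E), (hnorm e).2 (by rw [← heo, pow_orderOf_eq_one])⟩
  have he0 : ∀ n : ℕ, (e0 ^ n).1 = φ ((e ^ n : Eˣ) : E) := fun n => by
    rw [Matrix.SpecialLinearGroup.coe_pow, Units.val_pow_eq_pow_val, map_pow]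
  refine ⟨e0, ?_, ?_, fun X hX => ?_⟩
  · rw [← heo, orderOf_eq_orderOf_iff]
    intro n
    constructor
    · intro h
      have h' := congrArg Subtype.val h
      rw [he0, Matrix.SpecialLinearGroup.coe_one, ← map_one φ] at h'
      exact Units.ext ((Algebra.leftMulMatrix_injective b h').trans Units.val_one.symm)
    · intro h
      apply Subtype.ext
      rw [he0, h, Units.val_one, map_one, Matrix.SpecialLinearGroup.coe_one]
  · right
    apply Subtype.ext
    rw [he0, ← hi, hφi, Matrix.SpecialLinearGroup.coe_inv, hW, Matrix.adjugate_fin_two]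
    simp
  · have hXm : X.1 * φ i = φ i * X.1 := by
      have h := congrArg Subtype.val hX
      simp only [Matrix.SpecialLinearGroup.coe_mul, hW] at h
      have e' : φ i = -(!![0, 1; -1, 0] : Matrix (Fin 2) (Fin 2) F) := by
        rw [hφi]; ext r c; fin_cases r <;> fin_cases c <;> simp
      rw [e', mul_neg, neg_mul, h]
    obtain ⟨α, β, hαβ⟩ := mem_of_commute (fun c hc => by
      have := congrFun (congrFun hc 1) 0
      simp [hφi] at this) hXm
    have hX' : X.1 = φ (α • 1 + β • i) := by rw [hαβ, map_add, map_smul, map_smul, map_one]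
    have hne : α • (1 : E) + β • i ≠ 0 := fun h0 => by
      have := X.2
      rw [hX', h0, map_zero, Matrix.det_zero] at this
      exact zero_ne_one this
    set u := Units.mk0 _ hne with hu
    have hun : u ^ (Fintype.card F + 1) = 1 := (hnorm u).1 (by rw [hu, Units.val_mk0, ← hX']; exact X.2)
    have hmem : u ∈ Subgroup.zpowers e := by
      have hle : Subgroup.zpowers e ≤ (powMonoidHom (Fintype.card F + 1) : Eˣ →* Eˣ).ker :=
        Subgroup.zpowers_le.2 (show e ^ _ = 1 by rw [← heo, pow_orderOf_eq_one])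
      have hc : Nat.card (powMonoidHom (Fintype.card F + 1) : Eˣ →* Eˣ).ker = Fintype.card F + 1 := by
        rw [IsCyclic.card_powMonoidHom_ker, ← hx, hx', Nat.gcd_mul_right_left]
      rw [Subgroup.eq_of_le_of_card_ge hle (by rw [hc, Nat.card_zpowers, heo])]
      exact hun
    obtain ⟨n, hn⟩ := Submonoid.mem_powers_iff u e |>.1 (mem_powers_iff_mem_zpowers.2 hmem)
    refine ⟨(n : ℤ), ?_⟩
    show e0 ^ (n : ℤ) = X
    rw [zpow_natCast]
    apply Subtype.ext
    rw [he0, hn, hu, Units.val_mk0, hX']

end KleinTorus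

namespace SetupG2

variable {K : Type*} [Field K] [Fintype K] {m : ℕ} (S : SetupG2 K m)
include S

lemma card_mod_four : Fintype.card K % 4 = 3 := by
  have h2 : 3 ^ (2 * m + 1) % 2 = 1 := by simp [Nat.pow_mod]
  have h := S.half_odd (m := m)
  rw [S.card]; rw [Nat.odd_iff] at h; omega

lemma psiG_eq_one {X : Matrix.SpecialLinearGroup (Fin 2) K} :
    S.psiG X = 1 ↔ X = 1 ∨ X = slD (-1) :=
  ⟨fun h => S.psi_ker.1 (congrArg Subtype.val h), fun h => Subtype.ext (S.psi_ker.2 h)⟩

lemma invol_commute_psiG (A : Matrix.SpecialLinearGroup (Fin 2) K) :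
    Commute S.invol (S.psiG A) := Subtype.ext (S.invol_comm_psi A).eq

lemma mem_centralizer_invol {g : ↥(twistedG2 K (3 ^ m))} (hg : g * S.invol = S.invol * g) :
    ∃ X, g = S.psiG X ∨ g = S.invol * S.psiG X := by
  have h : g ∈ S.centHom.range := by
    rw [← S.centralizer_eq, Subgroup.mem_centralizer_singleton_iff]; exact hg
  obtain ⟨⟨z, X⟩, rfl⟩ := h
  refine ⟨X, ?_⟩
  rw [centHom_apply]
  rcases S.zpowers_invol z.2 with h | h <;> rw [h]
  · exact Or.inl (one_mul _)
  · exact Or.inr rfl

/-- Commutation of images. -/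
lemma psiG_commute_iff {X Y : Matrix.SpecialLinearGroup (Fin 2) K} :
    S.psiG X * S.psiG Y = S.psiG Y * S.psiG X ↔ X * Y = Y * X ∨ X * Y = Y * X * slD (-1) := by
  rw [← map_mul, ← map_mul, eq_comm, ← inv_mul_eq_one, ← map_inv, ← map_mul, S.psiG_eq_one,
    inv_mul_eq_one, inv_mul_eq_iff_eq_mul]
  exact or_congr_left eq_comm

end SetupG2

end CfsgLib.Chev
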