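import Mathlib
import Cfsg.Agent.Lib.Chev.ReeTorusKlein

/-!
The normaliser of a torus of order `(q + 1) / 4` of ²G₂.
-/

set_option autoImplicit false
set_option maxHeartbeats 1600000
set_option maxRecDepth 100000
set_option linter.unusedSectionVars false

namespace CfsgLib.Chev

open Cfsg.Lie

namespace KleinTorus

variable {F : Type*} [Field F]

/-- An element anticommuting with another one has square `-1`. -/
theorem anti_sq {X Y : Matrix.SpecialLinearGroup (Fin 2) F} (h2 : (2 : F) ≠ 0)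
    (h : X * Y = Y * X * slD (-1)) : Y * Y = slD (-1) := by
  have hd : ∀ M : Matrix.SpecialLinearGroup (Fin 2) F, (M * slD (-1)).1 = -M.1 := fun M => by
    rw [Matrix.SpecialLinearGroup.coe_mul]
    ext i j
    fin_cases i <;> fin_cases j <;> simp [slD, Matrix.mul_apply, Fin.sum_univ_two]
  have hm : X.1 * Y.1 = -(Y.1 * X.1) := by
    have := congrArg Subtype.val h
    rw [hd, Matrix.SpecialLinearGroup.coe_mul, Matrix.SpecialLinearGroup.coe_mul] at this
    exact this
  have htr : Y.1.trace = 0 := by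
    have e1 : (X⁻¹).1 * (X.1 * Y.1) = Y.1 := by
      rw [← mul_assoc, ← Matrix.SpecialLinearGroup.coe_mul, inv_mul_cancel,
        Matrix.SpecialLinearGroup.coe_one, one_mul]
    have e2 : ((X⁻¹).1 * (Y.1 * X.1)).trace = Y.1.trace := by
      rw [← mul_assoc, Matrix.trace_mul_comm, ← mul_assoc, ← Matrix.SpecialLinearGroup.coe_mul,
        mul_inv_cancel, Matrix.SpecialLinearGroup.coe_one, one_mul]
    have e3 : Y.1.trace = -Y.1.trace := by
      calc Y.1.trace = ((X⁻¹).1 * (X.1 * Y.1)).trace := by rw [e1]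
        _ = -Y.1.trace := by rw [hm, mul_neg, Matrix.trace_neg, e2]
    exact (mul_eq_zero.1 (show (2 : F) * Y.1.trace = 0 by linear_combination e3)).resolve_left h2
  rw [Matrix.trace_fin_two] at htr
  have hdet := Y.2
  rw [Matrix.det_fin_two] at hdet
  apply Subtype.ext
  rw [Matrix.SpecialLinearGroup.coe_mul]
  ext i j
  fin_cases i <;> fin_cases j <;> simp [slD, Matrix.mul_apply, Fin.sum_univ_two]
  · linear_combination (Y.1 0 0) * htr - hdet
  · linear_combination (Y.1 0 1) * htr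
  · linear_combination (Y.1 1 0) * htr
  · linear_combination (Y.1 1 1) * htr - hdet

/-- A four-group in an elementary group `T` of order eight with `|N(T)| = 168` is normalised by an element
of `N` moving a given involution. -/
theorem exists_moving {G : Type*} [Group G] [Finite G] {T V N : Subgroup G} (hT8 : Nat.card ↥T = 8)
    (hN : Nat.card ↥N = 168) (hVT : V ≤ T) (hTN : T ≤ N) (hnorm : ∀ n ∈ N, ∀ t ∈ T, n * t * n⁻¹ ∈ T)
    {z : G} (hA : ∀ g ∈ N, g ∈ Subgroup.centralizer (V : Set G) → g ∈ T)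
    (hfix : ∀ x ∈ Subgroup.normalizer (V : Set G), x * z * x⁻¹ = z →
      x ∈ Subgroup.centralizer (V : Set G))
    (P : Fin 4 → G × G) (hPinj : Function.Injective P) (hP : ∀ p, (P p).1 ∈ V ∧ (P p).2 ∈ V)
    (hgen : ∀ p, ∀ v ∈ V, v = 1 ∨ v = (P p).1 ∨ v = (P p).2 ∨ v = (P p).1 * (P p).2) :
    ∃ g ∈ N, g ∈ Subgroup.normalizer (V : Set G) ∧ g * z * g⁻¹ ≠ z := by
  by_contra hcon
  push Not at hcon
  let T' := T.subgroupOf N
  let Φ : (↥N ⧸ T') × Fin 4 → ↥T × ↥T := fun p =>
    (⟨(p.1.out : G) * (P p.2).1 * (p.1.out : G)⁻¹, hnorm _ p.1.out.2 _ (hVT (hP p.2).1)⟩,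
     ⟨(p.1.out : G) * (P p.2).2 * (p.1.out : G)⁻¹, hnorm _ p.1.out.2 _ (hVT (hP p.2).2)⟩)
  have hinj : Function.Injective Φ := by
    rintro ⟨i, p⟩ ⟨j, p'⟩ h
    have ha : (i.out : G) * (P p).1 * (i.out : G)⁻¹ = (j.out : G) * (P p').1 * (j.out : G)⁻¹ :=
      congrArg (fun t : ↥T × ↥T => (t.1 : G)) h
    have hb : (i.out : G) * (P p).2 * (i.out : G)⁻¹ = (j.out : G) * (P p').2 * (j.out : G)⁻¹ :=
      congrArg (fun t : ↥T × ↥T => (t.2 : G)) h
    obtain ⟨x, hx⟩ : ∃ x : G, x = (j.out : G)⁻¹ * i.out := ⟨_, rfl⟩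
    have hxa : x * (P p).1 * x⁻¹ = (P p').1 := by
      rw [hx, show ∀ a b c : G, a⁻¹ * b * c * (a⁻¹ * b)⁻¹ = a⁻¹ * (b * c * b⁻¹) * a from
        fun a b c => by group, ha]
      group
    have hxb : x * (P p).2 * x⁻¹ = (P p').2 := by
      rw [hx, show ∀ a b c : G, a⁻¹ * b * c * (a⁻¹ * b)⁻¹ = a⁻¹ * (b * c * b⁻¹) * a from
        fun a b c => by group, hb]
      group
    have hxN : x ∈ N := hx ▸ N.mul_mem (N.inv_mem j.out.2) i.out.2
    have hin : ∀ v ∈ V, x * v * x⁻¹ ∈ V := by
      intro v hv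
      rcases hgen p v hv with rfl | rfl | rfl | rfl
      · simp
      · rw [hxa]; exact (hP p').1
      · rw [hxb]; exact (hP p').2
      · rw [show x * ((P p).1 * (P p).2) * x⁻¹ = (x * (P p).1 * x⁻¹) * (x * (P p).2 * x⁻¹) by group,
          hxa, hxb]
        exact V.mul_mem (hP p').1 (hP p').2
    have hxV : x ∈ Subgroup.normalizer (V : Set G) := by
      rw [Subgroup.mem_normalizer_iff]
      refine fun v => ⟨hin v, fun hv => ?_⟩
      let f : ↥V → ↥V := fun y => ⟨x * y * x⁻¹, hin y y.2⟩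
      have hf : Function.Injective f := fun q q' hq => Subtype.ext (by simpa [f] using hq)
      obtain ⟨y, hy⟩ := Finite.surjective_of_injective hf ⟨x * v * x⁻¹, hv⟩
      have : (y : G) = v := by simpa [f] using congrArg Subtype.val hy
      exact this ▸ y.2
    have hxC := hfix x hxV (hcon x hxN hxV)
    have hij : i = j := by
      rw [← i.out_eq', ← j.out_eq', eq_comm, QuotientGroup.eq, Subgroup.mem_subgroupOf]
      have h := hA x hxN hxC
      rw [hx] at h
      exact h
    subst hij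
    rw [inv_mul_cancel] at hx
    subst hx
    rw [inv_one, one_mul, mul_one] at hxa hxb
    rw [hPinj (Prod.ext hxa hxb)]
  have h21 : Nat.card (↥N ⧸ T') = 21 := by
    have h := T'.card_eq_card_quotient_mul_card_subgroup
    rw [Nat.card_congr (Subgroup.subgroupOfEquivOfLe hTN).toEquiv, hT8, hN] at h
    omega
  have h := Nat.card_le_card_of_injective Φ hinj
  rw [Nat.card_prod, Nat.card_prod, h21, hT8, Nat.card_fin] at h
  omega

end KleinTorus

namespace SetupG2

variable {K : Type*} [Field K] [Fintype K] {m : ℕ} (S : SetupG2 K m)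
include S

lemma slD_sq : (slD (-1 : Kˣ) : Matrix.SpecialLinearGroup (Fin 2) K) * slD (-1) = 1 := by
  apply Subtype.ext
  rw [Matrix.SpecialLinearGroup.coe_mul]
  ext i j
  fin_cases i <;> fin_cases j <;> simp [slD, Matrix.mul_apply, Fin.sum_univ_two]

lemma psiG_slD : S.psiG (slD (-1)) = 1 := S.psiG_eq_one.2 (Or.inr rfl)

lemma w_sq : S.psiG slW * S.psiG slW = 1 := by
  rw [← map_mul, S.psiG_eq_one]
  right
  apply Subtype.ext
  rw [Matrix.SpecialLinearGroup.coe_mul]
  ext i j
  fin_cases i <;> fin_cases j <;> simp [slW, slD, Matrix.mul_apply, Fin.sum_univ_two]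

lemma w_ne_one : S.psiG slW ≠ 1 := fun h => by
  rcases S.psiG_eq_one.1 h with e | e <;>
  · have := congrArg (fun M : Matrix.SpecialLinearGroup (Fin 2) K => M.1 0 1) e
    simp [slW, slD] at this

/-- The four-group. -/
noncomputable def fourV : Subgroup ↥(twistedG2 K (3 ^ m)) where
  carrier := {g | g = 1 ∨ g = S.invol ∨ g = S.psiG slW ∨ g = S.invol * S.psiG slW}
  one_mem' := Or.inl rfl
  mul_mem' {a b} ha hb := by
    have hz := S.invol_sq
    have hw := S.w_sq
    have hc := (S.invol_commute_psiG slW).eq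
    have e1 : S.invol * (S.invol * S.psiG slW) = S.psiG slW := by rw [← mul_assoc, hz, one_mul]
    have e2 : S.psiG slW * (S.invol * S.psiG slW) = S.invol := by
      rw [hc, ← mul_assoc, hw, one_mul]
    have e3 : S.invol * S.psiG slW * S.invol = S.psiG slW := by rw [mul_assoc, ← hc, e1]
    have e4 : S.invol * S.psiG slW * S.psiG slW = S.invol := by rw [mul_assoc, hw, mul_one]
    have e5 : S.invol * S.psiG slW * (S.invol * S.psiG slW) = 1 := by rw [mul_assoc, e2, hz]
    rcases ha with rfl | rfl | rfl | rfl <;> rcases hb with rfl | rfl | rfl | rfl <;>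
      simp [hz, hw, e1, e2, e3, e4, e5, ← hc]
  inv_mem' {a} ha := by
    have hz := inv_eq_of_mul_eq_one_right S.invol_sq
    have hw := inv_eq_of_mul_eq_one_right S.w_sq
    rcases ha with rfl | rfl | rfl | rfl
    · exact Or.inl inv_one
    · exact Or.inr (Or.inl hz)
    · exact Or.inr (Or.inr (Or.inl hw))
    · refine Or.inr (Or.inr (Or.inr ?_))
      rw [_root_.mul_inv_rev, hz, hw, (S.invol_commute_psiG slW).eq]

lemma mem_fourV {g : ↥(twistedG2 K (3 ^ m))} : g ∈ S.fourV ↔
    g = 1 ∨ g = S.invol ∨ g = S.psiG slW ∨ g = S.invol * S.psiG slW := Iff.rfl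

lemma fourV_pgroup : IsPGroup 2 ↥S.fourV := by
  intro g
  refine ⟨1, Subtype.ext ?_⟩
  rw [pow_one, SubgroupClass.coe_pow, Subgroup.coe_one, sq]
  rcases g.2 with h | h | h | h <;> rw [h]
  · simp
  · exact S.invol_sq
  · exact S.w_sq
  · rw [(S.invol_commute_psiG slW).symm.mul_mul_mul_comm, S.invol_sq, S.w_sq, one_mul]

lemma w_ne_invol : S.psiG slW ≠ S.invol := fun h => S.invol_not_range ⟨_, h⟩

lemma not_mem_range {X Y : Matrix.SpecialLinearGroup (Fin 2) K} : S.invol * S.psiG X ≠ S.psiG Y :=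
  fun h => S.invol_ne (S.psiG_eq_cent (Or.inr rfl) h)

/-- An element normalising the four-group and fixing the involution centralises it. -/
lemma fix_w {g : ↥(twistedG2 K (3 ^ m))} (hg : g ∈ Subgroup.normalizer (S.fourV : Set ↥(twistedG2 K (3 ^ m))))
    (hz : g * S.invol = S.invol * g) : g * S.psiG slW = S.psiG slW * g := by
  rw [← mul_inv_eq_iff_eq_mul]
  have hmem : g * S.psiG slW * g⁻¹ ∈ S.fourV :=
    (Subgroup.mem_normalizer_iff.1 hg _).1 (Or.inr (Or.inr (Or.inl rfl)))
  obtain ⟨X, hX⟩ := S.mem_centralizer_invol hz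
  have hY : g * S.psiG slW * g⁻¹ = S.psiG (X * slW * X⁻¹) := by
    rw [map_mul, map_mul, map_inv]
    rcases hX with rfl | rfl
    · rfl
    · have hc := S.invol_commute_psiG (X * slW * X⁻¹)
      rw [map_mul, map_mul, map_inv] at hc
      calc S.invol * S.psiG X * S.psiG slW * (S.invol * S.psiG X)⁻¹
          = S.invol * (S.psiG X * S.psiG slW * (S.psiG X)⁻¹) * S.invol⁻¹ := by group
        _ = _ := by rw [hc.eq, mul_inv_cancel_right]
  rcases hmem with h | h | h | h
  · exact absurd (by simpa [conj_eq_one_iff] using h) S.w_ne_one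
  · exact absurd ⟨_, hY.symm.trans h⟩ S.invol_not_range
  · exact h
  · exact absurd (h.symm.trans hY) S.not_mem_range

lemma normalizer_centralizer_eq : Subgroup.normalizer (S.fourV : Set ↥(twistedG2 K (3 ^ m))) ⊓
    Subgroup.centralizer {S.invol} =
      Subgroup.centralizer (S.fourV : Set ↥(twistedG2 K (3 ^ m))) := by
  refine le_antisymm (fun g hg => ?_) (le_inf ?_ ?_)
  · obtain ⟨hg1, hg2⟩ := Subgroup.mem_inf.1 hg
    rw [Subgroup.mem_centralizer_singleton_iff] at hg2
    have hw := S.fix_w hg1 hg2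
    rw [Subgroup.mem_centralizer_iff]
    intro v hv
    rcases hv with rfl | rfl | rfl | rfl
    · simp
    · exact hg2.symm
    · exact hw.symm
    · exact (Commute.mul_right (show Commute g _ from hg2) (show Commute g _ from hw)).eq.symm
  · exact Subgroup.centralizer_le_normalizer _
  · exact Subgroup.centralizer_le (Set.singleton_subset_iff.2 (Or.inr (Or.inl rfl)))

/-- The three involutions of the four-group are conjugate in its normaliser. -/
theorem orbit_three (hm : 1 ≤ m) :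
    {x | ∃ n ∈ Subgroup.normalizer (S.fourV : Set ↥(twistedG2 K (3 ^ m))), n * S.invol * n⁻¹ = x} =
      {S.invol, S.psiG slW, S.invol * S.psiG slW} := by
  classical
  have := Fact.mk Nat.prime_two
  set z := S.invol
  set w := S.psiG slW
  set NV := Subgroup.normalizer (S.fourV : Set ↥(twistedG2 K (3 ^ m)))
  obtain ⟨T, hT⟩ := S.fourV_pgroup.exists_le_sylow
  obtain ⟨hT8, hTsq⟩ := S.sylow_two T
  obtain ⟨hCT, hNT⟩ := S.sylow_two_normalizer hm T
  set N := Subgroup.normalizer ((T : Subgroup ↥(twistedG2 K (3 ^ m))) : Set ↥(twistedG2 K (3 ^ m)))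
  have hTc : ∀ a ∈ T, ∀ b ∈ T, a * b = b * a := fun a ha b hb => by
    have h := hTsq _ (mul_mem ha hb)
    calc a * b = (a * b)⁻¹ := (inv_eq_of_mul_eq_one_right h).symm
      _ = b * a := by
        rw [_root_.mul_inv_rev, inv_eq_of_mul_eq_one_right (hTsq a ha),
          inv_eq_of_mul_eq_one_right (hTsq b hb)]
  have hz1 : z ≠ 1 := S.invol_ne
  have hzw : w ≠ z := S.w_ne_invol
  have hzw1 : z * w ≠ 1 := fun h => hzw (by
    rw [mul_eq_one_iff_eq_inv, inv_eq_of_mul_eq_one_right S.w_sq] at h; exact h.symm)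
  have hV4 : Nat.card ↥S.fourV = 4 := by
    have : (S.fourV : Set ↥(twistedG2 K (3 ^ m))) = {1, z, w, z * w} := by
      ext g; simp [SetLike.mem_coe, mem_fourV, z, w]
    show Nat.card (S.fourV : Set ↥(twistedG2 K (3 ^ m))) = 4
    rw [this, Nat.card_coe_set_eq, Set.ncard_insert_of_notMem, Set.ncard_insert_of_notMem,
      Set.ncard_pair]
    · exact fun h => hz1 (by simpa using h.symm)
    · simp only [Set.mem_insert_iff, Set.mem_singleton_iff, not_or]
      exact ⟨hzw.symm, fun h => S.w_ne_one (by simpa using h.symm)⟩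
    · simp only [Set.mem_insert_iff, Set.mem_singleton_iff, not_or]
      exact ⟨hz1.symm, S.w_ne_one.symm, hzw1.symm⟩
  -- centralising the four-group and normalising the Sylow subgroup
  have hA : ∀ g ∈ N, g ∈ Subgroup.centralizer (S.fourV : Set ↥(twistedG2 K (3 ^ m))) → g ∈ T := by
    intro g hgN hgV
    have hidx : (S.fourV.subgroupOf (T : Subgroup ↥(twistedG2 K (3 ^ m)))).index = 2 := by
      have h := (S.fourV.subgroupOf (T : Subgroup ↥(twistedG2 K (3 ^ m)))).card_mul_index
      rw [Nat.card_congr (Subgroup.subgroupOfEquivOfLe hT).toEquiv, hV4, hT8] at h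
      omega
    have hfix : ∀ v ∈ S.fourV, g * v * g⁻¹ = v := fun v hv => by
      rw [mul_inv_eq_iff_eq_mul]; exact (Subgroup.mem_centralizer_iff.1 hgV v hv).symm
    have hg2 : g * g ∈ T := by
      show g * g ∈ (T : Subgroup ↥(twistedG2 K (3 ^ m)))
      rw [← hCT, Subgroup.mem_centralizer_iff]
      intro x hx
      rw [eq_comm, ← mul_inv_eq_iff_eq_mul,
        show g * g * x * (g * g)⁻¹ = g * (g * x * g⁻¹) * g⁻¹ by group]
      by_cases hxV : x ∈ S.fourV
      · rw [hfix x hxV, hfix x hxV]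
      have hgx : g * x * g⁻¹ ∈ T := (Subgroup.mem_normalizer_iff.1 hgN x).1 hx
      have hgxV : g * x * g⁻¹ ∉ S.fourV := fun h => hxV (by
        have h2 := hfix _ h
        rw [show x = g⁻¹ * (g * x * g⁻¹) * g by group]
        rw [mul_inv_eq_iff_eq_mul] at h2
        rwa [mul_assoc g⁻¹, ← h2, inv_mul_cancel_left])
      have hv : x⁻¹ * (g * x * g⁻¹) ∈ S.fourV := by
        have := (Subgroup.mul_mem_iff_of_index_two hidx (a := (⟨x⁻¹, Subgroup.inv_mem _ hx⟩ : ↥(T : Subgroup _)))
          (b := ⟨_, hgx⟩)).2 (by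
            simp only [Subgroup.mem_subgroupOf]
            exact iff_of_false (fun h => hxV (by simpa using Subgroup.inv_mem _ h)) hgxV)
        simpa [Subgroup.mem_subgroupOf] using this
      set v := x⁻¹ * (g * x * g⁻¹) with hvd
      have e : g * x * g⁻¹ = x * v := by rw [hvd]; group
      rw [e, show g * (x * v) * g⁻¹ = (g * x * g⁻¹) * (g * v * g⁻¹) by group, hfix v hv, e, mul_assoc]
      rw [hTsq v (hT hv), mul_one]
    have h4 : IsPGroup 2 ↥(Subgroup.zpowers g) := by
      refine IsPGroup.of_card_dvd_pow (n := 2) ?_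
      rw [Nat.card_zpowers, orderOf_dvd_iff_pow_eq_one, show 2 ^ 2 = 2 * 2 from rfl, pow_mul, sq, sq]
      exact hTsq _ hg2
    have := h4.inf_normalizer_sylow T
    have hgm : g ∈ Subgroup.zpowers g ⊓ N := ⟨Subgroup.mem_zpowers g, hgN⟩
    rw [show Subgroup.zpowers g ⊓ N = Subgroup.zpowers g ⊓ (T : Subgroup ↥(twistedG2 K (3 ^ m))) from this] at hgm
    exact hgm.2
  -- an element moving the involution
  have hz2 : z * z = 1 := S.invol_sq
  have hw2 : w * w = 1 := S.w_sq
  have hc : z * w = w * z := (S.invol_commute_psiG slW).eq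
  let P : Fin 4 → ↥(twistedG2 K (3 ^ m)) × ↥(twistedG2 K (3 ^ m)) :=
    ![(z, w), (w, z), (z, z * w), (w, z * w)]
  obtain ⟨g, hgN, hgV, hgz⟩ := KleinTorus.exists_moving hT8 hNT hT Subgroup.le_normalizer
    (fun n hn t ht => (Subgroup.mem_normalizer_iff.1 hn t).1 ht) (z := z) hA
    (fun x hx hxz => by
      rw [← S.normalizer_centralizer_eq]
      exact ⟨hx, Subgroup.mem_centralizer_singleton_iff.2 (mul_inv_eq_iff_eq_mul.1 hxz)⟩)
    P (by
      have e1 : z * w ≠ z := fun h => S.w_ne_one (mul_eq_left.1 h)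
      have e2 : z * w ≠ w := fun h => hz1 (mul_eq_right.1 h)
      intro p p' h
      fin_cases p <;> fin_cases p' <;>
        simp [P, Prod.ext_iff, hzw, hzw.symm, e1, e1.symm, e2, e2.symm] at h ⊢)
    (by
      intro p
      fin_cases p <;> simp [P, mem_fourV, z, w])
    (by
      intro p v hv
      have e1 : z * (z * w) = w := by rw [← mul_assoc, hz2, one_mul]
      have e2 : w * (z * w) = z := by rw [hc, ← mul_assoc, hw2, one_mul]
      rcases hv with rfl | rfl | rfl | rfl <;> fin_cases p <;>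
        simp [P, z, w, e1, e2, ← hc])
  -- the orbit
  have hnot : ∀ x ∈ NV, x * z * x⁻¹ ∈ ({z, w, z * w} : Set ↥(twistedG2 K (3 ^ m))) := by
    intro x hx
    rcases (Subgroup.mem_normalizer_iff.1 hx z).1 (Or.inr (Or.inl rfl)) with h | h | h | h
    · exact absurd (by simpa [conj_eq_one_iff] using h) hz1
    · exact Or.inl h
    · exact Or.inr (Or.inl h)
    · exact Or.inr (Or.inr h)
  have hTV : ∀ x ∈ T, x ∈ Subgroup.centralizer (S.fourV : Set ↥(twistedG2 K (3 ^ m))) := fun x hx =>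
    Subgroup.mem_centralizer_iff.2 fun v hv => hTc v (hT hv) x hx
  have hg21 : g ^ 21 ∈ T := by
    have hnorm : ((T : Subgroup ↥(twistedG2 K (3 ^ m))).subgroupOf N).Normal := Subgroup.normal_in_normalizer
    have h := Subgroup.pow_index_mem ((T : Subgroup ↥(twistedG2 K (3 ^ m))).subgroupOf N) (⟨g, hgN⟩ : ↥N)
    have hidx : ((T : Subgroup ↥(twistedG2 K (3 ^ m))).subgroupOf N).index = 21 := by
      have h := ((T : Subgroup ↥(twistedG2 K (3 ^ m))).subgroupOf N).card_mul_index
      rw [Nat.card_congr (Subgroup.subgroupOfEquivOfLe Subgroup.le_normalizer).toEquiv, hT8, hNT] at h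
      omega
    rw [hidx] at h
    exact h
  have hg2 : g * g * z * (g * g)⁻¹ ≠ z := by
    intro h
    apply hgz
    have h2 : g ^ 2 ∈ Subgroup.centralizer {z} := by
      rw [sq, Subgroup.mem_centralizer_singleton_iff]; exact mul_inv_eq_iff_eq_mul.1 h
    have h21 : g ^ 21 ∈ Subgroup.centralizer {z} :=
      Subgroup.centralizer_le (t := (S.fourV : Set ↥(twistedG2 K (3 ^ m))))
        (Set.singleton_subset_iff.2 (Or.inr (Or.inl rfl))) (hTV _ hg21)
    have hg1 : g ∈ Subgroup.centralizer {z} := by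
      have := mul_mem h21 (Subgroup.inv_mem _ (pow_mem h2 10))
      rwa [← pow_mul, ← pow_sub g (by norm_num), pow_one] at this
    rw [mul_inv_eq_iff_eq_mul]
    exact Subgroup.mem_centralizer_singleton_iff.1 hg1
  refine Set.Subset.antisymm (by rintro _ ⟨n, hn, rfl⟩; exact hnot n hn) ?_
  have m0 : z ∈ {x | ∃ n ∈ NV, n * z * n⁻¹ = x} := ⟨1, one_mem _, by simp⟩
  have m1 : g * z * g⁻¹ ∈ {x | ∃ n ∈ NV, n * z * n⁻¹ = x} := ⟨g, hgV, rfl⟩
  have m2 : g * g * z * (g * g)⁻¹ ∈ {x | ∃ n ∈ NV, n * z * n⁻¹ = x} := ⟨g * g, mul_mem hgV hgV, rfl⟩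
  have n12 : g * g * z * (g * g)⁻¹ ≠ g * z * g⁻¹ := fun h => hgz (by
    have := congrArg (fun t => g⁻¹ * t * g) h
    group at this ⊢
    exact this)
  rcases hnot g hgV with e1 | e1 | e1
  · exact absurd e1 hgz
  · rcases hnot _ (mul_mem hgV hgV) with e2 | e2 | e2
    · exact absurd e2 hg2
    · exact absurd (e2.trans e1.symm) n12
    · rintro x (rfl | rfl | rfl)
      exacts [m0, e1 ▸ m1, e2 ▸ m2]
  · rcases hnot _ (mul_mem hgV hgV) with e2 | e2 | e2
    · exact absurd e2 hg2
    · rintro x (rfl | rfl | rfl)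
      exacts [m0, e2 ▸ m2, e1 ▸ m1]
    · exact absurd (e2.trans e1.symm) n12

end SetupG2

end CfsgLib.Chev
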