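import Mathlib
import Cfsg.Agent.Lib.Chev.ReeTorusSplit

/-!
Centralisers of elements of order three and full cyclic subgroups in ²G₂.
-/

set_option autoImplicit false
set_option maxHeartbeats 800000
set_option maxRecDepth 100000
set_option linter.unusedSectionVars false

namespace CfsgLib.Chev

open Cfsg.Lie

/-- With a cyclic subgroup of full `p`-part every `p`-subgroup is conjugate into it. -/
theorem exists_conj_le_of_cyclic {G : Type*} [Group G] [Finite G] {p : ℕ} [Fact p.Prime]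
    {A : Subgroup G} (hA : IsCyclic ↥A) (hdvd : p ^ (Nat.card G).factorization p ∣ Nat.card ↥A)
    {P : Subgroup G} (hP : IsPGroup p ↥P) : ∃ g : G, ∀ x ∈ P, g * x * g⁻¹ ∈ A := by
  obtain ⟨a, ha⟩ := hA.exists_generator
  obtain ⟨c, hc⟩ := hdvd
  have hao : orderOf a = Nat.card ↥A := orderOf_eq_card_of_forall_mem_zpowers ha
  have hc0 : 0 < c := by
    rcases Nat.eq_zero_or_pos c with h | h
    · rw [h, mul_zero] at hc; exact absurd hc Nat.card_pos.ne'
    · exact h
  have hord : orderOf ((a : G) ^ c) = p ^ (Nat.card G).factorization p := by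
    rw [← SubgroupClass.coe_pow, Subgroup.orderOf_coe, orderOf_pow' a hc0.ne', hao, hc,
      Nat.gcd_eq_right (dvd_mul_left c _), Nat.mul_div_cancel _ hc0]
  let S : Sylow p G := Sylow.ofCard (Subgroup.zpowers ((a : G) ^ c)) (by rw [Nat.card_zpowers, hord])
  obtain ⟨Q, hQ⟩ := hP.exists_le_sylow
  obtain ⟨g, hg⟩ := MulAction.exists_smul_eq G Q S
  refine ⟨g, fun x hx => ?_⟩
  have h1 : g * x * g⁻¹ ∈ ((g • Q : Sylow p G) : Subgroup G) := by
    rw [Sylow.coe_subgroup_smul]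
    exact ⟨x, hQ hx, rfl⟩
  rw [hg] at h1
  exact Subgroup.zpowers_le.2 (A.pow_mem a.2 c) h1

namespace SetupG2

variable {K : Type*} [Field K] [Fintype K] {m : ℕ} (S : SetupG2 K m)
include S

lemma card_pB : Nat.card ↥S.pB = (3 ^ (2 * m + 1)) ^ 3 * (3 ^ (2 * m + 1) - 1) := by
  rw [Nat.card_congr (Subgroup.subgroupOfEquivOfLe inf_le_right).toEquiv]
  show Nat.card ↥(chevG2.borelSubgroup K ⊓ S.sys.G1) = _
  rw [S.sys.card_borel_inf hasCommG2]
  show Nat.card ↥(chevG2.posUnipotent K ⊓ S.sys.G1) * Nat.card ↥(chevG2.diagonalSubgroup K ⊓ S.sys.G1) = _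
  have hU : Nat.card ↥(chevG2.posUnipotent K ⊓ S.sys.G1) = (3 ^ (2 * m + 1)) ^ 3 := (pos_twistedG2 K S.card).2
  have hH : Nat.card ↥(chevG2.diagonalSubgroup K ⊓ S.sys.G1) = 3 ^ (2 * m + 1) - 1 := S.card_diag
  rw [hU, hH]

/-- The centraliser of a non-trivial element of `U¹` lies in the Borel subgroup. -/
theorem mem_pB_of_commute {x a : ↥(twistedG2 K (3 ^ m))} (hx : x ∈ S.pU) (hx1 : x ≠ 1)
    (h : a * x = x * a) : a ∈ S.pB := by
  by_contra ha
  refine hx1 (S.conj_inf ha hx ?_)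
  rw [mul_assoc, ← h, inv_mul_cancel_left]
  exact hx

/-- The centraliser of an element of order a power of three has order dividing that of the Borel
subgroup. -/
theorem orderOf_dvd_of_commute_three {t a : ↥(twistedG2 K (3 ^ m))} (ht : orderOf t = 3)
    (h : a * t = t * a) : orderOf a ∣ (3 ^ (2 * m + 1)) ^ 3 * (3 ^ (2 * m + 1) - 1) := by
  have := Fact.mk Nat.prime_three
  obtain ⟨Q, hQ⟩ := (IsPGroup.of_card (p := 3) (n := 1) (by rw [Nat.card_zpowers, ht, pow_one]) :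
    IsPGroup 3 ↥(Subgroup.zpowers t)).exists_le_sylow
  obtain ⟨P₀, hP₀⟩ := S.exists_sylow
  obtain ⟨g, hg⟩ := MulAction.exists_smul_eq ↥(twistedG2 K (3 ^ m)) Q P₀
  have hx : g * t * g⁻¹ ∈ S.pU := by
    rw [← hP₀, ← hg, Sylow.coe_subgroup_smul]
    exact ⟨t, hQ (Subgroup.mem_zpowers t), rfl⟩
  have hx1 : g * t * g⁻¹ ≠ 1 := by
    rw [Ne, conj_eq_one_iff]
    intro h1
    rw [h1, orderOf_one] at ht
    omega
  have hb := S.mem_pB_of_commute hx hx1 (a := g * a * g⁻¹) (by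
    rw [show g * a * g⁻¹ * (g * t * g⁻¹) = g * (a * t) * g⁻¹ by group, h]
    group)
  have e : orderOf (g * a * g⁻¹) = orderOf a :=
    MulEquiv.orderOf_eq (MulAut.conj g) a
  rw [← e, ← S.card_pB, ← Subgroup.orderOf_mk (g * a * g⁻¹) hb]
  exact orderOf_dvd_natCard _

end SetupG2

end CfsgLib.Chev
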