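import Mathlib
import Cfsg.Agent.Lib.Chev.ReeTorusKleinTwo
import Cfsg.Agent.Lib.Chev.ReeTorusLocal

/-!
The cyclic subgroups of order `(q + 1) / 4` of ²G₂.
-/

set_option autoImplicit false
set_option maxHeartbeats 1600000
set_option maxRecDepth 100000
set_option linter.unusedSectionVars false

namespace CfsgLib.Chev

open Cfsg.Lie

/-- A group of order `4 a`, `a` odd, with a four-group that is centralised by its normaliser and with
all centralisers of involutions of the four-group inside an abelian subgroup `M`. -/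
theorem eq_of_four_centralizers {G : Type*} [Group G] [Finite G] {V M : Subgroup G}
    (hV : IsPGroup 2 ↥V) (hV4 : Nat.card ↥V = 4) (hVsq : ∀ v ∈ V, v * v = 1)
    (h8 : ¬ 8 ∣ Nat.card G) (hVM : V ≤ M)
    (hnorm : Subgroup.normalizer (V : Set G) ≤ Subgroup.centralizer (V : Set G))
    (hcent : ∀ v ∈ V, v ≠ 1 → Subgroup.centralizer {v} ≤ M) : M = ⊤ := by
  classical
  have := Fact.mk Nat.prime_two
  obtain ⟨P, hP⟩ := hV.exists_le_sylow
  have hPeq : (P : Subgroup G) = V := by
    refine (Subgroup.eq_of_le_of_card_ge hP ?_).symm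
    obtain ⟨n, hn⟩ := IsPGroup.iff_card.1 P.2
    rw [hn, hV4]
    by_contra hlt
    push Not at hlt
    have hn3 : 3 ≤ n := by
      by_contra h
      have : 2 ^ n ≤ 2 ^ 2 := Nat.pow_le_pow_right (by norm_num) (by omega)
      omega
    exact h8 ((pow_dvd_pow 2 hn3).trans (hn ▸ Subgroup.card_subgroup_dvd_card _))
  obtain ⟨P', R, hR, hc⟩ := CfsgLib.Transfer.hasNormalPComplement_of_normalizer_le_centralizer P
    (by rw [hPeq]; exact hnorm)
  have hR2 : ¬ 2 ∣ Nat.card ↥R := by
    intro hd
    apply h8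
    obtain ⟨n, hn⟩ := IsPGroup.iff_card.1 P'.2
    have h4 : Nat.card ↥(P' : Subgroup G) = 4 := by
      rw [P'.card_eq_multiplicity, ← P.card_eq_multiplicity, hPeq, hV4]
    rw [← hc.card_mul, h4]
    obtain ⟨c, hc'⟩ := hd
    exact ⟨c, by omega⟩
  have hAab : IsMulCommutative V := ⟨⟨fun a b => Subtype.ext (by
    have h := hVsq _ (V.mul_mem a.2 b.2)
    calc (a : G) * b = ((a : G) * b)⁻¹ := (inv_eq_of_mul_eq_one_right h).symm
      _ = (b : G) * a := by
        rw [_root_.mul_inv_rev, inv_eq_of_mul_eq_one_right (hVsq _ a.2),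
          inv_eq_of_mul_eq_one_right (hVsq _ b.2)])⟩⟩
  have hnc : ¬ IsCyclic V := by
    intro h
    obtain ⟨g, hg⟩ := h.exists_generator
    have h1 : orderOf g = 4 := by rw [orderOf_eq_card_of_forall_mem_zpowers hg, hV4]
    have h2 : orderOf g ∣ 2 := orderOf_dvd_of_pow_eq_one (Subtype.ext (by
      simpa [sq] using hVsq g g.2))
    rw [h1] at h2
    norm_num at h2
  have hcop : (Nat.card V).Coprime (Nat.card R) := by
    rw [hV4, show 4 = 2 ^ 2 from rfl]
    exact Nat.Coprime.pow_left 2 (Nat.prime_two.coprime_iff_not_dvd.2 hR2)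
  have hRM : R ≤ M := by
    rw [← CfsgLib.Coprime.iSup_centralizer_eq hAab hnc Subgroup.le_normalizer_of_normal hcop]
    exact iSup_le fun a => inf_le_right.trans (hcent a.1 a.2.1 a.2.2)
  have htop : R ⊔ V = ⊤ := by
    refine Subgroup.eq_top_of_le_card _ ?_
    have hd1 : Nat.card R * Nat.card V ∣ Nat.card ↥(R ⊔ V : Subgroup G) :=
      Nat.Coprime.mul_dvd_of_dvd_of_dvd hcop.symm (Subgroup.card_dvd_of_le le_sup_left)
        (Subgroup.card_dvd_of_le le_sup_right)
    have hG : Nat.card G = Nat.card R * Nat.card V := by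
      rw [← hc.card_mul, P'.card_eq_multiplicity, ← P.card_eq_multiplicity, hPeq]
    rw [hG]
    exact Nat.le_of_dvd Nat.card_pos hd1
  exact top_unique (htop ▸ sup_le hRM hVM)

namespace SetupG2

variable {K : Type*} [Field K] [Fintype K] {m : ℕ} (S : SetupG2 K m)
include S

/-- The cyclic subgroups of order `(q + 1) / 4` and their centralisers. -/
theorem klein_torus_full (hm : 1 ≤ m) :
    ∃ A M : Subgroup ↥(twistedG2 K (3 ^ m)), IsCyclic A ∧ Nat.card ↥A = (3 ^ (2 * m + 1) + 1) / 4 ∧
      Nat.card (Subgroup.normalizer (A : Set ↥(twistedG2 K (3 ^ m)))) = 6 * (3 ^ (2 * m + 1) + 1) ∧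
      (∀ A₀ ≤ A, A₀ ≠ ⊥ → Subgroup.normalizer (A₀ : Set ↥(twistedG2 K (3 ^ m))) =
        Subgroup.normalizer (A : Set ↥(twistedG2 K (3 ^ m)))) ∧
      (∃ g : ↥(twistedG2 K (3 ^ m)), orderOf g = (3 ^ (2 * m + 1) + 1) / 2) ∧
      A ≤ M ∧ (∀ g ∈ M, ∀ h ∈ M, g * h = h * g) ∧ Nat.card ↥M = 3 ^ (2 * m + 1) + 1 ∧
      (∀ g ∈ M, g ^ ((3 ^ (2 * m + 1) + 1) / 2) = 1) ∧ S.fourV ≤ M ∧
      Subgroup.normalizer (A : Set ↥(twistedG2 K (3 ^ m))) =
        Subgroup.normalizer (S.fourV : Set ↥(twistedG2 K (3 ^ m))) ∧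
      (∀ a ∈ A, a ≠ 1 → ∀ g, g * a = a * g → g ∈ M) := by
  classical
  have := Fact.mk Nat.prime_two
  have h2 : (2 : K) ≠ 0 := S.two_ne_zero'
  obtain ⟨e0, he0, heW, hcW⟩ := KleinTorus.exists_emb (F := K) S.card_mod_four
  have hq4 := S.card_mod_four
  rw [S.card] at he0 heW hq4
  set q := 3 ^ (2 * m + 1) with hq
  set k := (q + 1) / 4 with hk
  have hqk : q + 1 = 4 * k := by omega
  have hkodd : Odd k := by
    have h : ∀ n : ℕ, 3 ^ (2 * n + 1) % 8 = 3 := fun n => by
      rw [pow_succ, pow_mul, Nat.mul_mod, Nat.pow_mod]; simp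
    have := h m; rw [← hq] at this
    rw [Nat.odd_iff]; omega
  have hq27 : 27 ≤ q := le_trans (show 27 ≤ 3 ^ 3 by norm_num) (Nat.pow_le_pow_right (by norm_num) (by omega))
  set W : Matrix.SpecialLinearGroup (Fin 2) K := slW
  set d : Matrix.SpecialLinearGroup (Fin 2) K := slD (-1)
  set z := S.invol with hz
  set w := S.psiG W with hw
  set β := S.psiG e0 with hβ
  have hWW : W * W = d := by
    apply Subtype.ext
    rw [Matrix.SpecialLinearGroup.coe_mul]
    ext i j
    fin_cases i <;> fin_cases j <;> simp [W, d, slW, slD, Matrix.mul_apply, Fin.sum_univ_two]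
  have hdd : d * d = 1 := S.slD_sq
  have hψd : S.psiG d = 1 := S.psiG_slD
  have hdc : ∀ X, d * X = X * d := fun X =>
    (Subgroup.mem_center_iff.1 slD_neg_one_mem_center X).symm
  have heWc : e0 * W = W * e0 := by
    rcases heW with h | h
    · rw [← h, ← pow_succ', ← pow_succ]
    · have : Commute e0 W⁻¹ := by rw [← h]; exact (Commute.refl e0).pow_right _
      simpa using this.inv_right.eq
  have he2k : e0 ^ (2 * k) = d := by
    rcases heW with h | h <;> rw [mul_comm, pow_mul, h, sq]
    · exact hWW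
    · rw [← _root_.mul_inv_rev, hWW, inv_eq_iff_mul_eq_one, hdd]
  -- the cyclic group
  have hβo : orderOf β = 2 * k := by
    refine Nat.dvd_antisymm (orderOf_dvd_of_pow_eq_one (by rw [hβ, ← map_pow, he2k, hψd])) ?_
    have h1 : (e0 ^ orderOf β) ^ 2 = 1 := by
      have h : S.psiG (e0 ^ orderOf β) = 1 := by rw [map_pow, ← hβ, pow_orderOf_eq_one]
      rcases S.psiG_eq_one.1 h with e | e <;> rw [e]
      · exact one_pow 2
      · rw [sq]; exact hdd
    rw [← pow_mul] at h1
    have h3 := orderOf_dvd_of_pow_eq_one h1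
    rw [he0, hqk, show 4 * k = 2 * k * 2 by ring] at h3
    exact Nat.dvd_of_mul_dvd_mul_right (by norm_num) h3
  set Z := Subgroup.zpowers β with hZ
  have hZimg : ∀ g ∈ Z, ∃ Y, g = S.psiG Y ∧ Y * W = W * Y := by
    intro g hg
    obtain ⟨j, rfl⟩ := hg
    exact ⟨e0 ^ j, (map_zpow _ _ _).symm, ((show Commute e0 W from heWc).zpow_left j).eq⟩
  have hzZ : z ∉ Z := fun h => by
    obtain ⟨Y, hY, -⟩ := hZimg z h
    exact S.invol_not_range ⟨Y, hY.symm⟩
  have hZin : ∀ X, X * W = W * X → S.psiG X ∈ Z := fun X hX => by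
    obtain ⟨j, hj⟩ := hcW X hX
    exact ⟨j, by rw [← hj]; exact (map_zpow _ _ _).symm⟩
  have hwZ : w ∈ Z := hZin W rfl
  have hzc : ∀ g ∈ Z, z * g = g * z := fun g hg => by
    obtain ⟨Y, rfl, -⟩ := hZimg g hg
    exact (S.invol_commute_psiG Y).eq
  have hzz : z * z = 1 := S.invol_sq
  have hzi : z⁻¹ = z := inv_eq_of_mul_eq_one_right hzz
  let M : Subgroup ↥(twistedG2 K (3 ^ m)) :=
    { carrier := {g | g ∈ Z ∨ z * g ∈ Z}
      one_mem' := Or.inl (one_mem _)
      mul_mem' := fun {a b} ha hb => by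
        rcases ha with ha | ha <;> rcases hb with hb | hb
        · exact Or.inl (mul_mem ha hb)
        · refine Or.inr ?_
          rw [← mul_assoc, hzc a ha, mul_assoc]
          exact mul_mem ha hb
        · exact Or.inr (by rw [← mul_assoc]; exact mul_mem ha hb)
        · refine Or.inl ?_
          have e : a * b = (z * a) * (z * b) := by
            have := hzc _ ha
            calc a * b = z * (z * a) * b := by rw [← mul_assoc z z, hzz, one_mul]
              _ = (z * a) * z * b := by rw [this]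
              _ = (z * a) * (z * b) := mul_assoc _ _ _
          rw [e]
          exact mul_mem ha hb
      inv_mem' := fun {a} ha => by
        rcases ha with ha | ha
        · exact Or.inl (Subgroup.inv_mem _ ha)
        · refine Or.inr ?_
          have h := Subgroup.inv_mem _ ha
          rw [_root_.mul_inv_rev, hzi] at h
          have e : z * a⁻¹ = a⁻¹ * z := by
            calc z * a⁻¹ = z * (a⁻¹ * z) * z := by rw [mul_assoc, mul_assoc, hzz, mul_one]
              _ = a⁻¹ * z := by rw [hzc _ h, mul_assoc, hzz, mul_one]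
          rw [e]; exact h }
  have hM : ∀ g, g ∈ M ↔ g ∈ Z ∨ z * g ∈ Z := fun g => Iff.rfl
  have hMab : ∀ g ∈ M, ∀ h ∈ M, g * h = h * g := by
    have hZc : ∀ g ∈ Z, ∀ h ∈ Z, g * h = h * g := by
      rintro _ ⟨i, rfl⟩ _ ⟨j, rfl⟩
      exact ((Commute.refl β).zpow_zpow i j).eq
    have hsplit : ∀ g ∈ M, ∃ y ∈ Z, g = y ∨ g = z * y := fun g hg => hg.elim
      (fun h => ⟨g, h, Or.inl rfl⟩) (fun h => ⟨z * g, h, Or.inr (by rw [← mul_assoc, hzz, one_mul])⟩)
    intro g hg h hh
    obtain ⟨y, hy, rfl | rfl⟩ := hsplit g hg <;> obtain ⟨y', hy', rfl | rfl⟩ := hsplit h hh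
    · exact hZc _ hy _ hy'
    · exact ((show Commute g z from (hzc _ hy).symm).mul_right (hZc _ hy _ hy')).eq
    · exact ((show Commute z h from hzc _ hy').mul_left (hZc _ hy _ hy')).eq
    · exact ((((Commute.refl z).mul_right (hzc _ hy'))).mul_left
        ((show Commute y z from (hzc _ hy).symm).mul_right (hZc _ hy _ hy'))).eq
  have hZM : Z ≤ M := fun g hg => Or.inl hg
  have hzM : z ∈ M := Or.inr (by rw [hzz]; exact one_mem _)
  have hMcard : Nat.card ↥M = q + 1 := by
    have hidx : (Z.subgroupOf M).index = 2 := by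
      refine Subgroup.index_eq_two_iff.2 ⟨⟨z, hzM⟩, fun b => ?_⟩
      simp only [Subgroup.mem_subgroupOf, Subgroup.coe_mul]
      rcases b.2 with hb | hb
      · refine Or.inr ⟨hb, fun h => hzZ ?_⟩
        have := mul_mem (Subgroup.inv_mem _ hb) h
        rwa [inv_mul_cancel_left] at this
      · have e : (b : ↥(twistedG2 K (3 ^ m))) * z = z * b := hMab _ b.2 _ hzM
        refine Or.inl ⟨e ▸ hb, fun h => hzZ ?_⟩
        have := mul_mem hb (Subgroup.inv_mem _ h)
        rwa [mul_inv_cancel_right] at this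
    have h := (Z.subgroupOf M).card_mul_index
    rw [hidx, Nat.card_congr (Subgroup.subgroupOfEquivOfLe hZM).toEquiv, hZ, Nat.card_zpowers, hβo] at h
    omega
  -- the centraliser of the four-group
  obtain ⟨x0, y0, hxy⟩ := @CharP.sq_add_sq K _ _ 3 _ S.char (-1)
  push_cast at hxy
  let R : Matrix.SpecialLinearGroup (Fin 2) K := ⟨!![(x0 : K), y0; y0, -(x0 : K)], by
    rw [Matrix.det_fin_two_of]; linear_combination -hxy⟩
  have hRW : W * R = R * W * d := by
    apply Subtype.ext
    simp only [Matrix.SpecialLinearGroup.coe_mul]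
    ext i j
    fin_cases i <;> fin_cases j <;>
      simp [W, R, d, slW, slD, Matrix.mul_apply, Fin.sum_univ_two]
  set r := S.psiG R with hr
  set V := S.fourV with hV
  set CV := Subgroup.centralizer (V : Set ↥(twistedG2 K (3 ^ m))) with hCV
  have hVM : V ≤ M := by
    rintro g (rfl | rfl | rfl | rfl)
    · exact one_mem _
    · exact hzM
    · exact hZM hwZ
    · exact mul_mem hzM (hZM hwZ)
  have hMCV : M ≤ CV := fun g hg => Subgroup.mem_centralizer_iff.2 fun v hv => hMab v (hVM hv) g hg
  have hrCV : r ∈ CV := by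
    rw [hCV, Subgroup.mem_centralizer_iff]
    have h1 : z * r = r * z := (S.invol_commute_psiG R).eq
    have h2' : w * r = r * w := by
      rw [hw, hr, S.psiG_commute_iff]; exact Or.inr hRW
    rintro v (rfl | rfl | rfl | rfl)
    · simp
    · exact h1
    · exact h2'
    · exact ((show Commute z r from h1).mul_left h2').eq
  have hCVchar : ∀ g ∈ CV, (g ∈ M ∧ g * r ∉ M) ∨ (g * r ∈ M ∧ g ∉ M ∧ g * g = 1) := by
    intro g hg
    rw [hCV, Subgroup.mem_centralizer_iff] at hg
    obtain ⟨X, hX⟩ := S.mem_centralizer_invol (hg z (Or.inr (Or.inl rfl))).symm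
    have hgw := hg w (Or.inr (Or.inr (Or.inl rfl)))
    have hzψ : ∀ Y, z * S.psiG Y = S.psiG Y * z := fun Y => (S.invol_commute_psiG Y).eq
    have hXw : S.psiG X * S.psiG W = S.psiG W * S.psiG X := by
      rcases hX with rfl | rfl
      · exact hgw.symm
      · rw [← mul_assoc, ← hzψ, mul_assoc, mul_assoc] at hgw
        exact (mul_left_cancel hgw).symm
    have hmemM : ∀ Y, (g = S.psiG X ∨ g = z * S.psiG X) → Y * W = W * Y →
        ∀ h, h = S.psiG Y ∨ h = z * S.psiG Y → h ∈ M := by
      intro Y _ hY h hh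
      rcases hh with rfl | rfl
      · exact hZM (hZin Y hY)
      · exact mul_mem hzM (hZM (hZin Y hY))
    have hd1 : d ≠ 1 := fun h => by
      have := congrArg (fun Y : Matrix.SpecialLinearGroup (Fin 2) K => Y.1 0 0) h
      simp [d, slD] at this
      exact h2 (by linear_combination -this)
    have hMW : ∀ Y, (g = S.psiG X ∨ g = z * S.psiG X) → (S.psiG Y ∈ M) → Y * W = W * Y := by
      intro Y _ hY
      have hYZ : S.psiG Y ∈ Z := by
        refine hY.resolve_right fun h => ?_
        obtain ⟨Y', hY', -⟩ := hZimg _ h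
        exact S.not_mem_range hY'
      obtain ⟨Y', hY', hY'W⟩ := hZimg _ hYZ
      have h1 : S.psiG (Y'⁻¹ * Y) = 1 := by rw [map_mul, map_inv, hY', inv_mul_cancel]
      have hc : (Y'⁻¹ * Y) * W = W * (Y'⁻¹ * Y) := by
        rcases S.psiG_eq_one.1 h1 with e | e <;> rw [e]
        · simp
        · exact hdc W
      rw [show Y = Y' * (Y'⁻¹ * Y) by group]
      exact ((show Commute Y' W from hY'W).mul_left hc).eq
    have hiff : ∀ Y, (g = S.psiG X ∨ g = z * S.psiG X) → ∀ h, (h = S.psiG Y ∨ h = z * S.psiG Y) →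
        h ∈ M → Y * W = W * Y := by
      intro Y hg' h hh hhM
      refine hMW Y hg' ?_
      rcases hh with rfl | rfl
      · exact hhM
      · have := mul_mem hzM hhM
        rwa [← mul_assoc, hzz, one_mul] at this
    have hgr : g * r = S.psiG (X * R) ∨ g * r = z * S.psiG (X * R) := by
      rcases hX with rfl | rfl
      · exact Or.inl (map_mul _ _ _).symm
      · exact Or.inr (by rw [mul_assoc, hr, ← map_mul])
    have hXR : X * W = W * X → (X * R) * W ≠ W * (X * R) := by
      intro hx he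
      apply hd1
      have e : X * (R * W) = X * (R * W * d) := by
        rw [← mul_assoc, he, ← mul_assoc, ← hx, mul_assoc, hRW]
      have := mul_left_cancel e
      exact (mul_eq_left.1 this.symm)
    rcases S.psiG_commute_iff.1 hXw with hx | hx
    · exact Or.inl ⟨hmemM X hX hx g hX, fun h => hXR hx (hiff _ hX _ hgr h)⟩
    · have hXRc : X * R * W = W * (X * R) := by
        have e1 : R * W = W * R * d := by rw [hRW, mul_assoc, hdd, mul_one]
        calc X * R * W = X * (R * W) := mul_assoc _ _ _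
          _ = X * W * R * d := by rw [e1]; group
          _ = W * X * d * R * d := by rw [hx]
          _ = W * (X * R) * (d * d) := by rw [mul_assoc (W * X), hdc R]; group
          _ = W * (X * R) := by rw [hdd, mul_one]
      have hX2 : X * X = d := KleinTorus.anti_sq h2 (show W * X = X * W * d by rw [hx, mul_assoc, hdd, mul_one])
      refine Or.inr ⟨hmemM _ hX hXRc _ hgr, fun h => ?_, ?_⟩
      · have hxc := hiff X hX g hX h
        exact hd1 (mul_eq_left.1 (hxc.symm.trans hx).symm)
      · have hs : S.psiG X * S.psiG X = 1 := by rw [← map_mul, hX2, hψd]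
        rcases hX with rfl | rfl
        · exact hs
        · rw [(show Commute (S.psiG X) z from (hzψ X).symm).mul_mul_mul_comm, hs, hzz, mul_one]
  have hCVcard : Nat.card ↥CV = 2 * (q + 1) := by
    have hidx : (M.subgroupOf CV).index = 2 := by
      refine Subgroup.index_eq_two_iff.2 ⟨⟨r, hrCV⟩, fun b => ?_⟩
      simp only [Subgroup.mem_subgroupOf, Subgroup.coe_mul]
      rcases hCVchar b b.2 with ⟨h1, h2'⟩ | ⟨h1, h2', -⟩
      · exact Or.inr ⟨h1, h2'⟩
      · exact Or.inl ⟨h1, h2'⟩
    have h := (M.subgroupOf CV).card_mul_index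
    rw [hidx, Nat.card_congr (Subgroup.subgroupOfEquivOfLe hMCV).toEquiv, hMcard] at h
    omega
  set NV := Subgroup.normalizer (V : Set ↥(twistedG2 K (3 ^ m))) with hNV
  have horb := S.orbit_three hm
  have hNVcard : Nat.card ↥NV = 6 * (q + 1) := by
    have h := ncard_conjugates NV z
    rw [horb, S.normalizer_centralizer_eq, hCVcard, Set.ncard_eq_toFinset_card'] at h
    rw [← h]
    have e1 : z ≠ w := S.w_ne_invol.symm
    have e2 : z ≠ z * w := fun h => S.w_ne_one (mul_eq_left.1 h.symm)
    have e3 : w ≠ z * w := fun h => S.invol_ne (mul_eq_right.1 h.symm)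
    have : ({z, w, z * w} : Set ↥(twistedG2 K (3 ^ m))).toFinset.card = 3 := by
      rw [← Set.ncard_eq_toFinset_card']
      exact Set.ncard_eq_three.2 ⟨_, _, _, e1, e2, e3, rfl⟩
    rw [this]; ring
  -- the subgroup of order `k`
  set A := Subgroup.zpowers (β ^ 2) with hA
  have hAcard : Nat.card ↥A = k := by
    rw [hA, Nat.card_zpowers, orderOf_pow' β two_ne_zero, hβo, Nat.gcd_mul_right_left,
      Nat.mul_div_cancel_left _ (by norm_num)]
  have hAZ : A ≤ Z := Subgroup.zpowers_le.2 (pow_mem (Subgroup.mem_zpowers β) 2)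
  have hAodd : ∀ x ∈ A, Odd (orderOf x) := fun x hx =>
    hkodd.of_dvd_nat (hAcard ▸ (Subgroup.orderOf_mk x hx) ▸ orderOf_dvd_natCard _)
  have hodd : ∀ x ∈ CV, Odd (orderOf x) → x ∈ A := by
    intro x hx ho
    obtain ⟨j, hj⟩ := ho
    have hpow : x ^ (2 * j + 1) = 1 := hj ▸ pow_orderOf_eq_one x
    rcases hCVchar x hx with ⟨hxM, -⟩ | ⟨-, hxM, hsq⟩
    · have hxZ : x ∈ Z := by
        refine hxM.resolve_right fun hzx => hzZ ?_
        have h := pow_mem hzx (2 * j + 1)
        rw [(show Commute z x from hMab z hzM x hxM).mul_pow, hpow, mul_one, pow_succ, pow_mul, sq, hzz,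
          one_pow, one_mul] at h
        exact h
      obtain ⟨n, hn⟩ := hxZ
      have hx2 : x ^ 2 ∈ A := ⟨n, by
        show (β ^ 2) ^ n = x ^ 2
        rw [← hn]
        simp only [← zpow_natCast, ← zpow_mul, mul_comm]⟩
      have : x = (x ^ 2) ^ (j + 1) := by
        rw [← pow_mul, show 2 * (j + 1) = 2 * j + 1 + 1 by ring, pow_succ, hpow, one_mul]
      rw [this]
      exact pow_mem hx2 _
    · rw [← sq] at hsq
      rw [pow_succ, pow_mul, hsq, one_pow, one_mul] at hpow
      rw [hpow]; exact one_mem _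
  have hNVA : ∀ g ∈ NV, ∀ x ∈ A, g * x * g⁻¹ ∈ A := by
    intro g hg x hx
    refine hodd _ ?_ ?_
    · rw [hCV, Subgroup.mem_centralizer_iff]
      intro v hv
      have hv' : g⁻¹ * v * g ∈ V := by
        have := (Subgroup.mem_normalizer_iff.1 (Subgroup.inv_mem _ hg) v).1 hv
        rwa [inv_inv] at this
      have := Subgroup.mem_centralizer_iff.1 (hMCV (hZM (hAZ hx))) _ hv'
      calc v * (g * x * g⁻¹) = g * ((g⁻¹ * v * g) * x) * g⁻¹ := by group
        _ = g * (x * (g⁻¹ * v * g)) * g⁻¹ := by rw [this]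
        _ = g * x * g⁻¹ * v := by group
    · rw [show orderOf (g * x * g⁻¹) = orderOf x from MulEquiv.orderOf_eq (MulAut.conj g) x]
      exact hAodd x hx
  have hA2 : ∀ x ∈ A, x ≠ 1 → x * x ≠ 1 := fun x hx hx1 h => hx1 (by
    obtain ⟨j, hj⟩ := hAodd x hx
    have := pow_orderOf_eq_one x
    rw [hj, pow_succ, pow_mul, sq, h, one_pow, one_mul] at this
    exact this)
  have hCz : ∀ a ∈ A, a ≠ 1 → ∀ g, g * a = a * g → g * z = z * g → g ∈ M := by
    intro a ha ha1 g hga hgz
    obtain ⟨Y, hY, hYW⟩ := hZimg a (hAZ ha)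
    obtain ⟨X, hX⟩ := S.mem_centralizer_invol hgz
    have hXY : S.psiG X * S.psiG Y = S.psiG Y * S.psiG X := by
      rw [hY] at hga
      rcases hX with rfl | rfl
      · exact hga
      · rw [mul_assoc, ← mul_assoc (S.psiG Y), ← (S.invol_commute_psiG Y).eq, mul_assoc z] at hga
        exact mul_left_cancel hga
    have hY2 : Y * Y ≠ 1 ∧ Y * Y ≠ d := by
      constructor <;> intro h <;> apply hA2 a ha ha1 <;> rw [hY, ← map_mul, h]
      · exact map_one _
      · exact hψd
    have hx : X * Y = Y * X :=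
      (S.psiG_commute_iff.1 hXY).resolve_right fun h => hY2.2 (KleinTorus.anti_sq h2 h)
    have hWns : ∀ c : K, W.1 ≠ c • 1 := fun c h => by
      have := congrFun (congrFun h 0) 1
      simp [W, slW] at this
    obtain ⟨α, γ, hαγ⟩ := KleinTorus.mem_of_commute hWns (by
      have := congrArg Subtype.val hYW
      simpa only [Matrix.SpecialLinearGroup.coe_mul] using this)
    have hγ : γ ≠ 0 := fun h0 => hY2.1 (by
      rw [h0, zero_smul, add_zero] at hαγ
      have hdet := Y.2
      rw [hαγ, Matrix.det_smul, Fintype.card_fin, Matrix.det_one, mul_one] at hdet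
      apply Subtype.ext
      rw [Matrix.SpecialLinearGroup.coe_mul, hαγ, Matrix.smul_mul, one_mul, smul_smul, ← sq, hdet,
        one_smul, Matrix.SpecialLinearGroup.coe_one])
    have hxW : X * W = W * X := by
      apply Subtype.ext
      have h := congrArg Subtype.val hx
      simp only [Matrix.SpecialLinearGroup.coe_mul, hαγ, mul_add, add_mul, Matrix.mul_smul,
        Matrix.smul_mul, mul_one, one_mul, add_right_inj] at h
      exact smul_right_injective _ hγ h
    rcases hX with rfl | rfl
    · exact hZM (hZin X hxW)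
    · exact mul_mem hzM (hZM (hZin X hxW))
  have hcent : ∀ a ∈ A, a ≠ 1 → ∀ g, g * a = a * g → g ∈ M := by
    intro a ha ha1
    set C := Subgroup.centralizer {a} with hC
    have hCM : M ≤ C := fun g hg =>
      Subgroup.mem_centralizer_singleton_iff.2 (hMab g hg a (hZM (hAZ ha)))
    have h3 : ¬ 3 ∣ Nat.card ↥C := by
      intro h3
      have := Fact.mk Nat.prime_three
      obtain ⟨t, ht⟩ := exists_prime_orderOf_dvd_card' 3 h3
      rw [← Subgroup.orderOf_coe] at ht
      have hd := S.orderOf_dvd_of_commute_three ht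
        (Subgroup.mem_centralizer_singleton_iff.1 t.2).symm
      have hdk : orderOf a ∣ k := hAcard ▸ (Subgroup.orderOf_mk a ha) ▸ orderOf_dvd_natCard _
      have hco : Nat.Coprime k (q ^ 3 * (q - 1)) := by
        refine Nat.Coprime.mul_right (Nat.Coprime.pow_right 3 ?_) ?_
        · refine Nat.Coprime.pow_right _ ((Nat.Prime.coprime_iff_not_dvd Nat.prime_three).2 ?_).symm
          intro h
          have : 3 ∣ q + 1 := hqk ▸ h.mul_left 4
          have : 3 ∣ q := hq ▸ dvd_pow_self 3 (by omega)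
          omega
        · refine Nat.coprime_of_dvd fun p hp h1 h2' => ?_
          have : p ∣ 2 := by
            have := Nat.dvd_sub (hqk ▸ h1.mul_left 4 : p ∣ q + 1) h2'
            rwa [show q + 1 - (q - 1) = 2 by omega] at this
          obtain rfl := (Nat.prime_dvd_prime_iff_eq hp Nat.prime_two).1 this
          exact absurd (hkodd.of_dvd_nat h1) (by decide)
      exact ha1 (orderOf_eq_one_iff.1 (Nat.eq_one_of_dvd_coprimes hco hdk hd))
    have h8 : ¬ 8 ∣ Nat.card ↥C := by
      intro h8
      have hVC : V ≤ C := hVM.trans hCM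
      obtain ⟨Q, hQ⟩ := (S.fourV_pgroup.comap_of_injective C.subtype C.subtype_injective :
        IsPGroup 2 ↥(V.comap C.subtype)).exists_le_sylow
      set Qm := (Q : Subgroup ↥C).map C.subtype with hQm
      obtain ⟨T, hT⟩ := (Q.2.map C.subtype : IsPGroup 2 ↥Qm).exists_le_sylow
      obtain ⟨hT8, hTsq⟩ := S.sylow_two T
      have hQ8 : 8 ∣ Nat.card ↥Qm := by
        rw [hQm, Nat.card_congr ((Q : Subgroup ↥C).equivMapOfInjective
          C.subtype C.subtype_injective).toEquiv.symm, Q.card_eq_multiplicity]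
        exact pow_dvd_pow 2 ((Nat.prime_two.pow_dvd_iff_le_factorization Nat.card_pos.ne').1
          (show 2 ^ 3 ∣ Nat.card ↥C from h8))
      have hzQ : z ∈ Qm := ⟨⟨z, hVC (Or.inr (Or.inl rfl))⟩, hQ (Or.inr (Or.inl rfl)), rfl⟩
      have hle : Qm ≤ M := by
        intro g hg
        refine hCz a ha ha1 g ?_ ?_
        · obtain ⟨g', -, rfl⟩ := hg
          exact Subgroup.mem_centralizer_singleton_iff.1 g'.2
        · have h := hTsq _ (mul_mem (hT hg) (hT hzQ))
          calc g * z = (g * z)⁻¹ := (inv_eq_of_mul_eq_one_right h).symm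
            _ = z * g := by
              rw [_root_.mul_inv_rev, inv_eq_of_mul_eq_one_right (hTsq g (hT hg)), hzi]
      have h4 : 8 ∣ q + 1 := hMcard ▸ hQ8.trans (Subgroup.card_dvd_of_le hle)
      rw [hqk, Nat.odd_iff] at *
      omega
    -- every involution of the four-group
    have hinv : ∀ v ∈ V, v ≠ 1 → ∀ g ∈ C, g * v = v * g → g ∈ M := by
      intro v hv hv1 g hg hgv
      have hmem : v ∈ ({z, w, z * w} : Set ↥(twistedG2 K (3 ^ m))) := by
        rcases hv with rfl | rfl | rfl | rfl
        · exact absurd rfl hv1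
        · exact Or.inl rfl
        · exact Or.inr (Or.inl rfl)
        · exact Or.inr (Or.inr rfl)
      rw [← horb] at hmem
      obtain ⟨n, hn, rfl⟩ := hmem
      have hn' := Subgroup.inv_mem _ hn
      have ha' : n⁻¹ * a * n ∈ A := by
        have := hNVA _ hn' a ha
        rwa [inv_inv] at this
      have hg' : n⁻¹ * g * n ∈ M := by
        refine hCz _ ha' (fun h => ha1 ?_) _ ?_ ?_
        · rwa [mul_assoc, inv_mul_eq_one, eq_comm, mul_eq_right] at h
        · rw [show n⁻¹ * g * n * (n⁻¹ * a * n) = n⁻¹ * (g * a) * n by group,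
            Subgroup.mem_centralizer_singleton_iff.1 hg]
          group
        · rw [show n⁻¹ * g * n * z = n⁻¹ * (g * (n * z * n⁻¹)) * n by group, hgv]
          simp [mul_assoc, z]
      -- the normaliser of the four-group preserves `M`
      have hMn : ∀ y ∈ M, n * y * n⁻¹ ∈ M := by
        intro y hy
        have hy' : n * y * n⁻¹ ∈ CV := by
          rw [hCV, Subgroup.mem_centralizer_iff]
          intro u hu
          have hu' : n⁻¹ * u * n ∈ V := by
            have := (Subgroup.mem_normalizer_iff.1 hn' u).1 hu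
            rwa [inv_inv] at this
          calc u * (n * y * n⁻¹) = n * ((n⁻¹ * u * n) * y) * n⁻¹ := by group
            _ = n * (y * (n⁻¹ * u * n)) * n⁻¹ := by rw [hMab _ (hVM hu') _ hy]
            _ = n * y * n⁻¹ * u := by group
        rcases hCVchar _ hy' with ⟨h1, -⟩ | ⟨hyr, h1, -⟩
        · exact h1
        exfalso
        -- an element outside `M` does not centralise `a`
        have hya : n * y * n⁻¹ * a = a * (n * y * n⁻¹) := by
          rw [show n * y * n⁻¹ * a = n * (y * (n⁻¹ * a * n)) * n⁻¹ by group,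
            hMab _ hy _ (hZM (hAZ ha'))]
          group
        exact h1 (hCz a ha ha1 _ hya (Subgroup.mem_centralizer_iff.1 hy' z (Or.inr (Or.inl rfl))).symm)
      have := hMn _ hg'
      rwa [show n * (n⁻¹ * g * n) * n⁻¹ = g by group] at this
    -- apply transfer inside `C`
    have hVC : V ≤ C := hVM.trans hCM
    have key := eq_of_four_centralizers (G := ↥C) (V := V.subgroupOf C) (M := M.subgroupOf C)
      (S.fourV_pgroup.comap_of_injective C.subtype C.subtype_injective)
      (by
        rw [Nat.card_congr (Subgroup.subgroupOfEquivOfLe hVC).toEquiv]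
        have e : (V : Set ↥(twistedG2 K (3 ^ m))) = {1, z, w, z * w} := by
          ext g; simp [SetLike.mem_coe, hV, mem_fourV, z, w, W]
        show Nat.card (V : Set ↥(twistedG2 K (3 ^ m))) = 4
        rw [e, Nat.card_coe_set_eq, Set.ncard_eq_four]
        exact ⟨_, _, _, _, S.invol_ne.symm, S.w_ne_one.symm,
          fun h => S.w_ne_invol ((eq_inv_of_mul_eq_one_right h.symm).trans hzi), S.w_ne_invol.symm,
          fun h => S.w_ne_one (mul_eq_left.1 h.symm), fun h => S.invol_ne (mul_eq_right.1 h.symm), rfl⟩)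
      (fun v hv => Subtype.ext (by
        have hv' : (v : ↥(twistedG2 K (3 ^ m))) ∈ V := hv
        rcases hv' with h | h | h | h <;> simp only [Subgroup.coe_mul, Subgroup.coe_one, h]
        · exact one_mul 1
        · exact hzz
        · exact S.w_sq
        · rw [(show Commute w z from (S.invol_commute_psiG W).symm.eq).mul_mul_mul_comm, hzz,
            S.w_sq, one_mul]))
      h8 (fun g hg => hVM hg) ?_ ?_
    · intro g hg
      exact (key ▸ Subgroup.mem_top (⟨g, Subgroup.mem_centralizer_singleton_iff.2 hg⟩ : ↥C) : _ ∈ M.subgroupOf C)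
    · -- the normaliser
      intro g hg
      have hgNV : (g : ↥(twistedG2 K (3 ^ m))) ∈ NV := by
        rw [hNV, Subgroup.mem_normalizer_iff]
        intro v
        constructor
        · intro hv
          exact (Subgroup.mem_normalizer_iff.1 hg ⟨v, hVC hv⟩).1 hv
        · intro hv
          have h := hVC hv
          have hvC : v ∈ C := by
            have := mul_mem (mul_mem (Subgroup.inv_mem _ g.2) h) g.2
            simpa [mul_assoc] using this
          exact (Subgroup.mem_normalizer_iff.1 hg ⟨v, hvC⟩).2 hv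
      -- the orbit of the involution under the normaliser in `C`
      have hgz : (g : ↥(twistedG2 K (3 ^ m))) * z = z * g := by
        set H := C ⊓ NV
        have hcnt := ncard_conjugates H z
        have hHz : H ⊓ Subgroup.centralizer {z} = M := by
          refine le_antisymm (fun x hx => ?_) (fun x hx => ?_)
          · exact hCz a ha ha1 x (Subgroup.mem_centralizer_singleton_iff.1 hx.1.1)
              (Subgroup.mem_centralizer_singleton_iff.1 hx.2)
          · exact ⟨⟨hCM hx, Subgroup.centralizer_le_normalizer _ (hMCV hx)⟩,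
              Subgroup.mem_centralizer_singleton_iff.2 (hMab x hx z hzM)⟩
        rw [hHz, hMcard] at hcnt
        set O := {x | ∃ n ∈ H, n * z * n⁻¹ = x} with hO
        have hsub : O ⊆ ({z, w, z * w} : Set ↥(twistedG2 K (3 ^ m))) := by
          rw [← horb]
          rintro _ ⟨n, hn, rfl⟩
          exact ⟨n, hn.2, rfl⟩
        have hle3 : O.ncard ≤ 3 := (Set.ncard_le_ncard hsub).trans (by
          refine (Set.ncard_insert_le _ _).trans ?_
          have := Set.ncard_insert_le w ({z * w} : Set ↥(twistedG2 K (3 ^ m)))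
          rw [Set.ncard_singleton] at this
          omega)
        have hd : Nat.card ↥H ∣ Nat.card ↥C := Subgroup.card_dvd_of_le inf_le_left
        rw [← hcnt] at hd
        have hO1 : O.ncard = 1 := by
          have hne : O.ncard ≠ 0 := fun h => by
            rw [Set.ncard_eq_zero] at h
            exact (h ▸ (⟨1, one_mem _, by simp⟩ : z ∈ O) : z ∈ (∅ : Set _))
          have h3' : O.ncard ≠ 3 := fun h => h3 (dvd_trans (Dvd.intro _ (by rw [h])) hd)
          have h2'' : O.ncard ≠ 2 := fun h => h8 (dvd_trans (by rw [h, hqk]; exact ⟨k, by ring⟩) hd)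
          omega
        obtain ⟨x, hx⟩ := Set.ncard_eq_one.1 hO1
        have e1 : z ∈ O := ⟨1, one_mem _, by simp⟩
        have e2 : (g : ↥(twistedG2 K (3 ^ m))) * z * (g : ↥(twistedG2 K (3 ^ m)))⁻¹ ∈ O :=
          ⟨g, ⟨g.2, hgNV⟩, rfl⟩
        rw [hx, Set.mem_singleton_iff] at e1 e2
        exact mul_inv_eq_iff_eq_mul.1 (e2.trans e1.symm)
      have hgM := hCz a ha ha1 _ (Subgroup.mem_centralizer_singleton_iff.1 g.2) hgz
      rw [Subgroup.mem_centralizer_iff]
      intro v hv
      exact Subtype.ext (hMab _ (hVM hv) _ hgM)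
    · intro v hv hv1 g hg
      refine hinv v hv (fun h => hv1 (Subtype.ext h)) g g.2 ?_
      exact congrArg Subtype.val (Subgroup.mem_centralizer_singleton_iff.1 hg)
  -- elements of `M`
  have hMexp : ∀ g ∈ M, g ^ (2 * k) = 1 := by
    intro g hg
    have hZe : ∀ y ∈ Z, y ^ (2 * k) = 1 := fun y hy => by
      rw [← hβo, ← Nat.card_zpowers]
      exact congrArg Subtype.val (pow_card_eq_one' (G := ↥Z) (x := ⟨y, hy⟩))
    rcases hg with h | h
    · exact hZe g h
    · have e := hZe _ h
      rwa [(show Commute z g from hMab z hzM g (Or.inr h)).mul_pow, pow_mul z, sq, hzz, one_pow,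
        one_mul] at e
  -- fusion
  have hkey : ∀ x ∈ A, x ≠ 1 → ∀ g, g * x * g⁻¹ ∈ A → g ∈ NV := by
    intro x hx hx1 g hg
    set x' := g * x * g⁻¹ with hx'
    have hx'1 : x' ≠ 1 := fun h => hx1 (conj_eq_one_iff.1 h)
    have hin : ∀ v ∈ V, g * v * g⁻¹ ∈ V := by
      intro v hv
      have hvv : v * v = 1 := by
        rcases hv with rfl | rfl | rfl | rfl
        · exact one_mul 1
        · exact hzz
        · exact S.w_sq
        · rw [(show Commute w z from (S.invol_commute_psiG W).symm.eq).mul_mul_mul_comm, hzz,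
            S.w_sq, one_mul]
      have hgv : g * v * g⁻¹ ∈ M := by
        refine hcent x' hg hx'1 _ ?_
        rw [hx', show g * v * g⁻¹ * (g * x * g⁻¹) = g * (v * x) * g⁻¹ by group,
          hMab v (hVM hv) x (hZM (hAZ hx))]
        group
      have hsq : g * v * g⁻¹ * (g * v * g⁻¹) = 1 := by
        rw [show g * v * g⁻¹ * (g * v * g⁻¹) = g * (v * v) * g⁻¹ by group, hvv]; group
      obtain ⟨t, ht⟩ : ∃ t, t = g * v * g⁻¹ := ⟨_, rfl⟩
      rw [← ht] at hgv hsq ⊢
      -- the involutions of `M` are those of the four-group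
      have hZinv : ∀ y ∈ Z, y * y = 1 → y = 1 ∨ y = w := by
        intro y hy hyy
        obtain ⟨n, hn⟩ := Submonoid.mem_powers_iff y β |>.1 (mem_powers_iff_mem_zpowers.2 hy)
        subst hn
        rw [← _root_.pow_add] at hyy
        have hd := orderOf_dvd_of_pow_eq_one hyy
        rw [hβo, ← two_mul] at hd
        obtain ⟨c, hc⟩ := Nat.dvd_of_mul_dvd_mul_left (by norm_num) hd
        have hwk : β ^ k = w := by
          rw [hβ, ← map_pow]
          rcases heW with h | h <;> rw [h]
          rw [map_inv]; exact inv_eq_of_mul_eq_one_right S.w_sq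
        rw [hc, pow_mul, hwk]
        rcases Nat.even_or_odd c with ⟨e, rfl⟩ | ⟨e, rfl⟩
        · left; rw [← two_mul, pow_mul, sq, S.w_sq, one_pow]
        · right; rw [pow_succ, pow_mul, sq, S.w_sq, one_pow, one_mul]
      rcases hgv with h | h
      · rcases hZinv t h hsq with e | e
        · exact Or.inl e
        · exact Or.inr (Or.inr (Or.inl e))
      · have hzt := hMab z hzM t (Or.inr h)
        rcases hZinv _ h (by rw [(show Commute t z from hzt.symm).mul_mul_mul_comm, hzz, hsq, one_mul]) with e | e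
        · exact Or.inr (Or.inl ((eq_inv_of_mul_eq_one_right e).trans hzi))
        · exact Or.inr (Or.inr (Or.inr (by
            show t = z * w
            rw [← e, ← mul_assoc, hzz, one_mul])))
    rw [hNV, Subgroup.mem_normalizer_iff]
    refine fun v => ⟨hin v, fun hv => ?_⟩
    let f : ↥V → ↥V := fun y => ⟨g * y * g⁻¹, hin y y.2⟩
    have hf : Function.Injective f := fun p p' hp => Subtype.ext (by simpa [f] using hp)
    obtain ⟨y, hy⟩ := Finite.surjective_of_injective hf ⟨g * v * g⁻¹, hv⟩
    have : (y : ↥(twistedG2 K (3 ^ m))) = v := by simpa [f] using congrArg Subtype.val hy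
    exact this ▸ y.2
  have hNA : Subgroup.normalizer (A : Set ↥(twistedG2 K (3 ^ m))) = NV := by
    refine normalizer_eq_of_cyclic (fun g hg => mem_normalizer_of_cyclic le_rfl (hNVA g hg)) ?_ le_rfl ?_
    · exact hkey
    · intro h; rw [h, Subgroup.card_bot] at hAcard; omega
  refine ⟨A, M, inferInstance, hAcard, ?_, ?_, ⟨β, by rw [hβo]; omega⟩, hAZ.trans hZM, hMab, hMcard,
    fun g hg => ?_, hVM, hNA, hcent⟩
  · rw [hNA, hNVcard]
  · intro A₀ h0 hne
    have hX : ∀ g ∈ NV, g ∈ Subgroup.normalizer (A : Set ↥(twistedG2 K (3 ^ m))) :=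
      fun g hg => mem_normalizer_of_cyclic le_rfl (hNVA g hg)
    rw [normalizer_eq_of_cyclic hX hkey h0 hne, normalizer_eq_of_cyclic hX hkey le_rfl
      (fun h => hne (le_bot_iff.1 (h0.trans h.le)))]
  · rw [show (q + 1) / 2 = 2 * k by omega]
    exact hMexp g hg

/-- The cyclic subgroups of order `(q + 1) / 4`. -/
theorem klein_torus (hm : 1 ≤ m) :
    ∃ A : Subgroup ↥(twistedG2 K (3 ^ m)), IsCyclic A ∧ Nat.card ↥A = (3 ^ (2 * m + 1) + 1) / 4 ∧
      Nat.card (Subgroup.normalizer (A : Set ↥(twistedG2 K (3 ^ m)))) = 6 * (3 ^ (2 * m + 1) + 1) ∧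
      (∀ A₀ ≤ A, A₀ ≠ ⊥ → Subgroup.normalizer (A₀ : Set ↥(twistedG2 K (3 ^ m))) =
        Subgroup.normalizer (A : Set ↥(twistedG2 K (3 ^ m)))) ∧
      (∃ g : ↥(twistedG2 K (3 ^ m)), orderOf g = (3 ^ (2 * m + 1) + 1) / 2) ∧
      (∀ a ∈ A, a ≠ 1 → ∀ g, g * a = a * g → g ^ ((3 ^ (2 * m + 1) + 1) / 2) = 1) := by
  obtain ⟨A, M, h1, h2, h3, h4, h5, -, -, -, h6, -, -, h7⟩ := S.klein_torus_full hm
  exact ⟨A, h1, h2, h3, h4, h5, fun a ha ha1 g hg => h6 g (h7 a ha ha1 g hg)⟩

end SetupG2

end CfsgLib.Chev
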