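import Mathlib
import Cfsg.Agent.Lib.Chev.ReeTorusKleinThree
import Cfsg.Agent.Lib.Chev.ReeSingerRep

/-!
The cyclic Hall subgroups of orders `q ± r + 1` of ²G₂ and the centralisers of semisimple elements.
-/

set_option autoImplicit false
set_option maxHeartbeats 1600000
set_option maxRecDepth 100000
set_option linter.unusedSectionVars false

namespace CfsgLib.Chev

open Cfsg.Lie

/-- A semiregular action away from a fixed point. -/
theorem dvd_index_sub_one {G : Type*} [Group G] [Finite G] {C N : Subgroup G} (hCN : C ≤ N)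
    (h : ∀ c ∈ C, c ≠ 1 → ∀ g : G, g⁻¹ * c * g ∈ N → g ∈ N) : Nat.card ↥C ∣ N.index - 1 := by
  classical
  let base : G ⧸ N := ((1 : G) : G ⧸ N)
  let X := {a : G ⧸ N // a ≠ base}
  have hfix : ∀ c : ↥C, (c : G) • base = base := fun c => by
    show ((c : G) • ((1 : G) : G ⧸ N)) = ((1 : G) : G ⧸ N)
    rw [MulAction.Quotient.smul_mk, smul_eq_mul, mul_one, QuotientGroup.eq, mul_one]
    exact Subgroup.inv_mem _ (hCN c.2)
  letI act : MulAction ↥C X :=
    { smul := fun c a => ⟨(c : G) • a.1, fun e => a.2 (by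
        have := congrArg (fun b => (c : G)⁻¹ • b) e
        simp only [inv_smul_smul] at this
        rw [this]; exact hfix c⁻¹)⟩
      one_smul := fun a => Subtype.ext (one_smul G a.1)
      mul_smul := fun c d a => Subtype.ext (mul_smul (c : G) (d : G) a.1) }
  have hfree : ∀ a : X, MulAction.stabilizer ↥C a = ⊥ := by
    intro a
    rw [eq_bot_iff]
    intro c hc
    rw [Subgroup.mem_bot]
    by_contra hne
    have hc' : (c : G) • a.1 = a.1 := congrArg Subtype.val (MulAction.mem_stabilizer_iff.1 hc)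
    obtain ⟨g, hg⟩ := QuotientGroup.mk_surjective a.1
    rw [← hg, MulAction.Quotient.smul_mk, smul_eq_mul, eq_comm, QuotientGroup.eq] at hc'
    refine a.2 ?_
    rw [← hg]
    refine (QuotientGroup.eq.2 ?_).symm
    rw [inv_one, one_mul]
    exact h c c.2 (fun e => hne (Subtype.ext e)) g (by rwa [mul_assoc])
  have : Fintype (MulAction.orbitRel.Quotient ↥C X) := Fintype.ofFinite _
  have hcard : Nat.card X = Nat.card (MulAction.orbitRel.Quotient ↥C X) * Nat.card ↥C := by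
    rw [Nat.card_congr (MulAction.selfEquivSigmaOrbitsQuotientStabilizer ↥C X), Nat.card_sigma]
    have : ∀ o : MulAction.orbitRel.Quotient ↥C X,
        Nat.card (↥C ⧸ MulAction.stabilizer ↥C o.out) = Nat.card ↥C := fun o => by
      rw [← Subgroup.index_eq_card, hfree, Subgroup.index_bot]
    simp only [this, Finset.sum_const, Finset.card_univ, smul_eq_mul, Nat.card_eq_fintype_card]
  have hX : N.index - 1 = Nat.card X := by
    have : Fintype (G ⧸ N) := Fintype.ofFinite _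
    rw [Subgroup.index_eq_card, Nat.card_eq_fintype_card, Nat.card_eq_fintype_card,
      Fintype.card_subtype_compl, Fintype.card_subtype_eq]
  rw [hX, hcard]
  exact dvd_mul_left _ _

namespace SetupG2

variable {K : Type*} [Field K] [Fintype K] {m : ℕ} (S : SetupG2 K m)
include S

/-- All involutions are conjugate. -/
theorem isConj_invol (hm : 1 ≤ m) {t : ↥(twistedG2 K (3 ^ m))} (ht : t * t = 1) (ht1 : t ≠ 1) :
    ∃ g : ↥(twistedG2 K (3 ^ m)), g * S.invol * g⁻¹ = t := by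
  classical
  have := Fact.mk Nat.prime_two
  have := Fact.mk (by norm_num : Nat.Prime 7)
  obtain ⟨z, hzdef⟩ : ∃ z, z = S.invol := ⟨_, rfl⟩
  have hzz : z * z = 1 := hzdef ▸ S.invol_sq
  have hz1 : z ≠ 1 := hzdef ▸ S.invol_ne
  rw [← hzdef]
  have hp : ∀ u : ↥(twistedG2 K (3 ^ m)), u * u = 1 → IsPGroup 2 ↥(Subgroup.zpowers u) := fun u hu =>
    IsPGroup.of_card_dvd_pow (n := 1) (by
      rw [Nat.card_zpowers, pow_one]; exact orderOf_dvd_of_pow_eq_one (by rw [sq, hu]))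
  obtain ⟨T, hT⟩ := (hp z hzz).exists_le_sylow
  have hzT : z ∈ (T : Subgroup ↥(twistedG2 K (3 ^ m))) := hT (Subgroup.mem_zpowers z)
  obtain ⟨hT8, hTsq⟩ := S.sylow_two T
  obtain ⟨hCT, hNT⟩ := S.sylow_two_normalizer hm T
  set N := Subgroup.normalizer ((T : Subgroup ↥(twistedG2 K (3 ^ m))) : Set ↥(twistedG2 K (3 ^ m)))
  have h7 : ¬ 7 ∣ Nat.card ↥(N ⊓ Subgroup.centralizer {z}) := by
    intro h7
    obtain ⟨g, hg⟩ := exists_prime_orderOf_dvd_card' 7 h7
    rw [← Subgroup.orderOf_coe] at hg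
    obtain ⟨hgN, hgz⟩ := Subgroup.mem_inf.1 g.2
    rw [Subgroup.mem_centralizer_singleton_iff] at hgz
    -- the action on the six other involutions
    have hgT : (g : ↥(twistedG2 K (3 ^ m))) ∈
        Subgroup.centralizer ((T : Subgroup ↥(twistedG2 K (3 ^ m))) : Set ↥(twistedG2 K (3 ^ m))) := by
      rw [Subgroup.mem_centralizer_iff]
      intro x hx
      let Y := {y : ↥(T : Subgroup ↥(twistedG2 K (3 ^ m))) // (y : ↥(twistedG2 K (3 ^ m))) ≠ 1 ∧ (y : ↥(twistedG2 K (3 ^ m))) ≠ z}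
      have hY : Nat.card Y = 6 := by
        have : Fintype ↥(T : Subgroup ↥(twistedG2 K (3 ^ m))) := Fintype.ofFinite _
        rw [Nat.card_eq_fintype_card, Fintype.card_subtype]
        have e : (Finset.univ.filter fun y : ↥(T : Subgroup ↥(twistedG2 K (3 ^ m))) =>
            (y : ↥(twistedG2 K (3 ^ m))) ≠ 1 ∧ (y : ↥(twistedG2 K (3 ^ m))) ≠ z) =
            Finset.univ \ {1, ⟨z, hzT⟩} := by
          ext y
          simp only [Finset.mem_filter_univ, Finset.mem_sdiff, Finset.mem_univ, true_and, Finset.mem_insert,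
            Finset.mem_singleton, not_or]
          constructor
          · rintro ⟨u1, u2⟩
            exact ⟨fun h => u1 (h ▸ rfl), fun h => u2 (congrArg Subtype.val h)⟩
          · rintro ⟨u1, u2⟩
            exact ⟨fun h => u1 (Subtype.ext h), fun h => u2 (Subtype.ext h)⟩
        rw [e, Finset.card_sdiff, Finset.inter_univ,
          Finset.card_pair (fun h => hz1 (congrArg Subtype.val h).symm),
          Finset.card_univ, ← Nat.card_eq_fintype_card, hT8]
      by_cases hx1 : x = 1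
      · rw [hx1, one_mul, mul_one]
      by_cases hxz : x = z
      · rw [hxz, hgz]
      have hmap : ∀ y : Y, (g : ↥(twistedG2 K (3 ^ m))) * y.1 * (g : ↥(twistedG2 K (3 ^ m)))⁻¹ ∈
          (T : Subgroup ↥(twistedG2 K (3 ^ m))) := fun y => (Subgroup.mem_normalizer_iff.1 hgN _).1 y.1.2
      let f : Y → Y := fun y => ⟨⟨_, hmap y⟩, fun h => y.2.1 (conj_eq_one_iff.1 h), fun h => y.2.2 (by
        have e : (y.1 : ↥(twistedG2 K (3 ^ m))) =
            (g : ↥(twistedG2 K (3 ^ m)))⁻¹ * z * (g : ↥(twistedG2 K (3 ^ m))) :=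
          (show (y.1 : ↥(twistedG2 K (3 ^ m))) = (g : ↥(twistedG2 K (3 ^ m)))⁻¹ *
            ((g : ↥(twistedG2 K (3 ^ m))) * y.1 * (g : ↥(twistedG2 K (3 ^ m)))⁻¹) *
            (g : ↥(twistedG2 K (3 ^ m))) by group).trans
          (congrArg (fun u => (g : ↥(twistedG2 K (3 ^ m)))⁻¹ * u * (g : ↥(twistedG2 K (3 ^ m)))) h)
        rw [e, mul_assoc, ← hgz, inv_mul_cancel_left])⟩
      have hfi : Function.Injective f := fun a b h => by
        have h' : (g : ↥(twistedG2 K (3 ^ m))) * a.1 * (g : ↥(twistedG2 K (3 ^ m)))⁻¹ =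
            g * b.1 * (g : ↥(twistedG2 K (3 ^ m)))⁻¹ := congrArg (fun y : Y => (y.1 : ↥(twistedG2 K (3 ^ m)))) h
        exact Subtype.ext (Subtype.ext (mul_left_cancel (mul_right_cancel h')))
      let σ : Equiv.Perm Y := Equiv.ofBijective f (Finite.injective_iff_bijective.1 hfi)
      have hit : ∀ k : ℕ, ∀ y : Y, ((σ ^ k) y).1.1 =
          (g : ↥(twistedG2 K (3 ^ m))) ^ k * y.1 * ((g : ↥(twistedG2 K (3 ^ m))) ^ k)⁻¹ := by
        intro k
        induction k with
        | zero => intro y; simp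
        | succ k ih =>
          intro y
          rw [pow_succ' σ, Equiv.Perm.mul_apply]
          show (g : ↥(twistedG2 K (3 ^ m))) * _ * _ = _
          rw [ih, pow_succ']
          group
      have hσ7 : σ ^ 7 = 1 := Equiv.ext fun y => Subtype.ext (Subtype.ext (by
        rw [hit, show (g : ↥(twistedG2 K (3 ^ m))) ^ 7 = 1 by rw [← hg, pow_orderOf_eq_one]]; simp))
      have hfix : σ = 1 := by
        have h1 : orderOf σ ∣ 7 := orderOf_dvd_of_pow_eq_one hσ7
        have h2 : orderOf σ ∣ 720 := by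
          have : Fintype Y := Fintype.ofFinite _
          have h := orderOf_dvd_natCard σ
          rwa [Nat.card_perm, hY] at h
        exact orderOf_eq_one_iff.1 (Nat.eq_one_of_dvd_coprimes (by decide) h1 h2)
      have h := congrArg (fun y : Y => y.1.1) (congrArg (fun s : Equiv.Perm Y => s ⟨⟨x, hx⟩, hx1, hxz⟩) hfix)
      exact (mul_inv_eq_iff_eq_mul.1 h).symm
    rw [hCT] at hgT
    have h2 := orderOf_dvd_of_pow_eq_one (show (g : ↥(twistedG2 K (3 ^ m))) ^ 2 = 1 by rw [sq]; exact hTsq _ hgT)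
    rw [hg] at h2
    norm_num at h2
  -- the orbit
  set O := {x | ∃ n ∈ N, n * z * n⁻¹ = x} with hO
  have hcnt : O.ncard * Nat.card ↥(N ⊓ Subgroup.centralizer {z}) = 168 := by
    rw [hO, ncard_conjugates, hNT]
  have hO7 : 7 ∣ O.ncard := ((show Nat.Prime 7 by norm_num).dvd_mul.1 (hcnt ▸ (by norm_num : 7 ∣ 168))).resolve_right h7
  have hsub : O ⊆ ((T : Subgroup ↥(twistedG2 K (3 ^ m))) : Set ↥(twistedG2 K (3 ^ m))) \ {1} := by
    rintro _ ⟨n, hn, rfl⟩
    exact ⟨(Subgroup.mem_normalizer_iff.1 hn z).1 hzT, fun h => hz1 (conj_eq_one_iff.1 h)⟩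
  have h7' : (((T : Subgroup ↥(twistedG2 K (3 ^ m))) : Set ↥(twistedG2 K (3 ^ m))) \ {1}).ncard = 7 := by
    rw [Set.ncard_diff_singleton_of_mem (one_mem (T : Subgroup ↥(twistedG2 K (3 ^ m)))), ← Nat.card_coe_set_eq]
    show Nat.card ↥(T : Subgroup ↥(twistedG2 K (3 ^ m))) - 1 = 7
    rw [hT8]
  have hne : O.Nonempty := ⟨z, 1, one_mem _, by simp⟩
  have hOeq : O = ((T : Subgroup ↥(twistedG2 K (3 ^ m))) : Set ↥(twistedG2 K (3 ^ m))) \ {1} := by
    refine Set.eq_of_subset_of_ncard_le hsub ?_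
    rw [h7']
    exact Nat.le_of_dvd hne.ncard_pos hO7
  -- move `t` into the Sylow subgroup
  obtain ⟨T', hT'⟩ := (hp t ht).exists_le_sylow
  obtain ⟨a, ha⟩ := MulAction.exists_smul_eq ↥(twistedG2 K (3 ^ m)) T' T
  have hat : a * t * a⁻¹ ∈ (T : Subgroup ↥(twistedG2 K (3 ^ m))) := by
    rw [← ha, Sylow.coe_subgroup_smul]
    exact ⟨t, hT' (Subgroup.mem_zpowers t), rfl⟩
  have hm' : a * t * a⁻¹ ∈ O := hOeq ▸ ⟨hat, fun h => ht1 (conj_eq_one_iff.1 h)⟩
  obtain ⟨n, -, hn⟩ := hm'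
  refine ⟨a⁻¹ * n, ?_⟩
  rw [show a⁻¹ * n * z * (a⁻¹ * n)⁻¹ = a⁻¹ * (n * z * n⁻¹) * a by group, hn]
  group

/-- Arithmetic of `q = 3 ^ (2 m + 1)` and `r = 3 ^ (m + 1)`. -/
theorem arith (hm : 1 ≤ m) :
    27 ≤ 3 ^ (2 * m + 1) ∧ 9 ≤ 3 ^ (m + 1) ∧ 3 ^ (m + 1) * 3 ^ (m + 1) = 3 * 3 ^ (2 * m + 1) ∧
      3 ∣ 3 ^ (2 * m + 1) ∧ 3 ^ (2 * m + 1) % 2 = 1 ∧ 3 * 3 ^ (m + 1) ≤ 3 ^ (2 * m + 1) + 0 := by
  refine ⟨le_trans (by norm_num : 27 ≤ 3 ^ 3) (Nat.pow_le_pow_right (by norm_num) (by omega)),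
    le_trans (by norm_num : 9 ≤ 3 ^ 2) (Nat.pow_le_pow_right (by norm_num) (by omega)), by ring,
    dvd_pow_self 3 (by omega), by simp [Nat.pow_mod], ?_⟩
  rw [add_zero, ← pow_succ']
  exact Nat.pow_le_pow_right (by norm_num) (by omega)

/-- The order of the group in factored form. -/
theorem card_factor : Nat.card ↥(twistedG2 K (3 ^ m)) =
    (3 ^ (2 * m + 1)) ^ 3 * (3 ^ (2 * m + 1) - 1) * (3 ^ (2 * m + 1) + 1) *
      (3 ^ (2 * m + 1) * 3 ^ (2 * m + 1) - 3 ^ (2 * m + 1) + 1) := by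
  rw [S.card_eq]
  have h1 : 1 ≤ 3 ^ (2 * m + 1) := Nat.one_le_pow _ _ (by norm_num)
  have h2 : 3 ^ (2 * m + 1) ≤ 3 ^ (2 * m + 1) * 3 ^ (2 * m + 1) := Nat.le_mul_self _
  zify [h1, h2]
  ring

/-- A prime dividing `q² - q + 1`. -/
theorem singer_prime (hm : 1 ≤ m) {p : ℕ} (hp : p.Prime)
    (hd : p ∣ 3 ^ (2 * m + 1) * 3 ^ (2 * m + 1) - 3 ^ (2 * m + 1) + 1) :
    (Fintype.card K : ZMod p) ^ 2 - Fintype.card K + 1 = 0 ∧ 7 ≤ p ∧
      ¬ p ∣ 3 ^ (2 * m + 1) - 1 ∧ ¬ p ∣ 3 ^ (2 * m + 1) + 1 ∧ ¬ p ∣ 3 ^ (2 * m + 1) := by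
  obtain ⟨hq27, -, -, h3q, hqodd, -⟩ := S.arith hm
  rw [S.card]
  set q := 3 ^ (2 * m + 1)
  have hqq : q ≤ q * q := Nat.le_mul_self q
  have h6 : (q : ZMod p) ^ 2 - q + 1 = 0 := by
    have h := (ZMod.natCast_eq_zero_iff _ p).2 hd
    rw [Nat.cast_add, Nat.cast_sub hqq, Nat.cast_mul, Nat.cast_one] at h
    linear_combination h
  have hid : q * q - q = (q - 1) * q := by rw [Nat.sub_mul, one_mul]
  have h2 : p ≠ 2 := by
    rintro rfl
    have : (q * q - q) % 2 = 0 := by rw [hid, Nat.mul_mod, show (q - 1) % 2 = 0 by omega]; simp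
    omega
  have h3 : p ≠ 3 := by
    rintro rfl
    have : 3 ∣ q * q - q := Nat.dvd_sub (h3q.mul_right q) h3q
    have h := (Nat.dvd_add_right this).1 hd
    norm_num at h
  have h5 : p ≠ 5 := by
    rintro rfl
    revert h6
    generalize (q : ZMod 5) = x
    revert x
    decide
  have hp2 := hp.two_le
  have h4 : p ≠ 4 := fun h => by rw [h] at hp; norm_num at hp
  have h6' : p ≠ 6 := fun h => by rw [h] at hp; norm_num at hp
  refine ⟨h6, by omega, fun h => ?_, fun h => ?_, fun h => ?_⟩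
  · rw [hid, Nat.dvd_add_right (h.mul_right q)] at hd
    exact hp.one_lt.ne' (Nat.dvd_one.1 hd)
  · have h0 : (q : ZMod p) + 1 = 0 := by
      have := (ZMod.natCast_eq_zero_iff _ p).2 h
      push_cast at this; exact this
    have h3' : ((3 : ℕ) : ZMod p) = 0 := by push_cast; linear_combination h6 - ((q : ZMod p) - 2) * h0
    exact h3 ((Nat.prime_dvd_prime_iff_eq hp Nat.prime_three).1 ((ZMod.natCast_eq_zero_iff 3 p).1 h3'))
  · exact h3 ((Nat.prime_dvd_prime_iff_eq hp Nat.prime_three).1 (hp.dvd_of_dvd_pow h))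

/-- An element of prime order dividing `q² - q + 1` commutes only with such elements. -/
theorem prime_of_commute_singer (hm : 1 ≤ m) {x y : ↥(twistedG2 K (3 ^ m))} {p l : ℕ} (hp : p.Prime)
    (hl : l.Prime) (hx : orderOf x = p)
    (hd : p ∣ 3 ^ (2 * m + 1) * 3 ^ (2 * m + 1) - 3 ^ (2 * m + 1) + 1)
    (hy : orderOf y = l) (hxy : x * y = y * x) :
    l ∣ 3 ^ (2 * m + 1) * 3 ^ (2 * m + 1) - 3 ^ (2 * m + 1) + 1 := by
  classical
  obtain ⟨hq27, -, -, h3q, hqodd, -⟩ := S.arith hm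
  obtain ⟨-, hp7, hp1, hp2, hp3⟩ := S.singer_prime hm hp hd
  set q := 3 ^ (2 * m + 1) with hq
  by_contra hln
  have := Fact.mk hl
  by_cases hl3 : l = 3
  · subst hl3
    have h := S.orderOf_dvd_of_commute_three hy hxy
    rw [hx, hp.dvd_mul] at h
    rcases h with h | h
    · exact hp3 (hp.dvd_of_dvd_pow h)
    · exact hp1 h
  by_cases hl2 : l = 2
  · subst hl2
    obtain ⟨g, hg⟩ := S.isConj_invol hm (t := y) (by rw [← sq, ← hy, pow_orderOf_eq_one])
      (fun h => by rw [h, orderOf_one] at hy; omega)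
    have hc : g⁻¹ * x * g * S.invol = S.invol * (g⁻¹ * x * g) := by
      rw [show S.invol = g⁻¹ * y * g by rw [← hg]; group,
        show g⁻¹ * x * g * (g⁻¹ * y * g) = g⁻¹ * (x * y) * g by group, hxy]
      group
    obtain ⟨X, hX⟩ := S.mem_centralizer_invol hc
    have hsl : X ^ Nat.card (GL (Fin 2) K) = 1 := by
      apply Matrix.SpecialLinearGroup.toGL_injective
      rw [map_pow, pow_card_eq_one', map_one]
    have hpow : (g⁻¹ * x * g) ^ (2 * Nat.card (GL (Fin 2) K)) = 1 := by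
      have hψ : S.psiG X ^ (2 * Nat.card (GL (Fin 2) K)) = 1 := by
        rw [← map_pow, mul_comm, pow_mul, hsl, one_pow, map_one]
      rcases hX with e | e <;> rw [e]
      · exact hψ
      · rw [(S.invol_commute_psiG X).mul_pow, hψ, mul_one, pow_mul, sq, S.invol_sq, one_pow]
    have hd' := orderOf_dvd_of_pow_eq_one hpow
    rw [show orderOf (g⁻¹ * x * g) = orderOf x by
      simpa using MulEquiv.orderOf_eq (MulAut.conj g⁻¹) x, hx] at hd'
    rw [Matrix.card_GL_field, Fin.prod_univ_two, S.card] at hd'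
    simp only [Fin.val_zero, pow_zero, Fin.val_one, pow_one] at hd'
    have e1 : q ^ 2 - 1 = (q - 1) * (q + 1) := by rw [mul_comm]; exact Nat.sq_sub_sq q 1
    have e2 : q ^ 2 - q = (q - 1) * q := by rw [Nat.sub_mul, one_mul, sq]
    rw [← hq, e1, e2, hp.dvd_mul, hp.dvd_mul, hp.dvd_mul, hp.dvd_mul] at hd'
    rcases hd' with h | (h | h) | (h | h)
    · have := Nat.le_of_dvd (by norm_num) h; omega
    · exact hp1 h
    · exact hp2 h
    · exact hp1 h
    · exact hp3 h
  have hG : l ∣ Nat.card ↥(twistedG2 K (3 ^ m)) := hy ▸ orderOf_dvd_natCard y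
  have hlq : ¬ l ∣ q := fun h => hl3 ((Nat.prime_dvd_prime_iff_eq hl Nat.prime_three).1 (hl.dvd_of_dvd_pow h))
  have hfull := Nat.ordProj_dvd (Nat.card ↥(twistedG2 K (3 ^ m))) l
  set v := (Nat.card ↥(twistedG2 K (3 ^ m))).factorization l with hv
  rw [S.card_factor, ← hq] at hfull hG
  have hcop : ∀ a, ¬ l ∣ a → Nat.Coprime (l ^ v) a := fun a h =>
    Nat.Coprime.pow_left v (hl.coprime_iff_not_dvd.2 h)
  have hyP : IsPGroup l ↥(Subgroup.zpowers y) :=
    IsPGroup.of_card (n := 1) (by rw [Nat.card_zpowers, hy, pow_one])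
  by_cases hl1 : l ∣ q - 1
  · have hlp : ¬ l ∣ q + 1 := fun h => hl2 ((Nat.prime_dvd_prime_iff_eq hl Nat.prime_two).1
      (by simpa [show q + 1 - (q - 1) = 2 by omega] using Nat.dvd_sub h hl1))
    have hf : l ^ v ∣ q - 1 :=
      (hcop _ (fun h => hlq (hl.dvd_of_dvd_pow h))).dvd_of_dvd_mul_left
        ((hcop _ hlp).dvd_of_dvd_mul_right ((hcop _ hln).dvd_of_dvd_mul_right hfull))
    have hA : IsCyclic ↥S.tauG.range := isCyclic_of_surjective S.tauG.rangeRestrict S.tauG.rangeRestrict_surjective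
    obtain ⟨g, hg⟩ := exists_conj_le_of_cyclic hA (by rwa [S.card_tauG]) hyP
    obtain ⟨c, hc⟩ := hg y (Subgroup.mem_zpowers y)
    have hc2 : c * c ≠ 1 := fun h => by
      have h2 : orderOf (S.tauG c) ∣ 2 := orderOf_dvd_of_pow_eq_one (by rw [← map_pow, sq, h, map_one])
      rw [hc, show orderOf (g * y * g⁻¹) = orderOf y from MulEquiv.orderOf_eq (MulAut.conj g) y, hy] at h2
      exact hl2 ((Nat.prime_dvd_prime_iff_eq hl Nat.prime_two).1 h2)
    have hxT : g * x * g⁻¹ ∈ S.tauG.range := by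
      rw [← S.centralizer_tauG hc2, Subgroup.mem_centralizer_singleton_iff, hc,
        show g * x * g⁻¹ * (g * y * g⁻¹) = g * (x * y) * g⁻¹ by group, hxy]
      group
    have h := Subgroup.orderOf_mk (g * x * g⁻¹) hxT ▸ orderOf_dvd_natCard (⟨_, hxT⟩ : ↥S.tauG.range)
    rw [S.card_tauG, show orderOf (g * x * g⁻¹) = orderOf x from MulEquiv.orderOf_eq (MulAut.conj g) x, hx] at h
    exact hp1 h
  · rcases hl.dvd_mul.1 hG with h | h
    · rcases hl.dvd_mul.1 h with h | h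
      · rcases hl.dvd_mul.1 h with h | h
        · exact hlq (hl.dvd_of_dvd_pow h)
        · exact hl1 h
      · have hf : l ^ v ∣ q + 1 :=
          (hcop _ (fun hh => (hl.dvd_mul.1 hh).elim (fun e => hlq (hl.dvd_of_dvd_pow e)) hl1)).dvd_of_dvd_mul_left
            ((hcop _ hln).dvd_of_dvd_mul_right hfull)
        obtain ⟨A, hA, hAc, -, -, -, hexp⟩ := S.klein_torus hm
        have hl4 : Nat.Coprime (l ^ v) 4 := hcop 4 (fun h4 => hl2
          ((Nat.prime_dvd_prime_iff_eq hl Nat.prime_two).1 (hl.dvd_of_dvd_pow (show l ∣ 2 ^ 2 from h4))))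
        have hk : q + 1 = 4 * ((q + 1) / 4) := by
          have := S.card_mod_four
          rw [S.card, ← hq] at this
          omega
        have hfA : l ^ v ∣ Nat.card ↥A := by
          rw [hAc]
          exact hl4.dvd_of_dvd_mul_left (hk ▸ hf)
        obtain ⟨g, hg⟩ := exists_conj_le_of_cyclic hA hfA hyP
        have hy' := hg y (Subgroup.mem_zpowers y)
        have e := hexp _ hy' (fun h1 => by
          rw [conj_eq_one_iff] at h1; rw [h1, orderOf_one] at hy; exact hl.one_lt.ne hy)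
          (g * x * g⁻¹) (by rw [show g * x * g⁻¹ * (g * y * g⁻¹) = g * (x * y) * g⁻¹ by group, hxy]; group)
        have hd' := orderOf_dvd_of_pow_eq_one e
        rw [show orderOf (g * x * g⁻¹) = orderOf x from MulEquiv.orderOf_eq (MulAut.conj g) x, hx] at hd'
        exact hp2 (hd'.trans ⟨2, by omega⟩)
    · exact hln h

/-- The order of the centraliser of an element of prime order dividing `q² - q + 1`. -/
theorem card_centralizer_singer (hm : 1 ≤ m) {x : ↥(twistedG2 K (3 ^ m))} {p : ℕ} (hp : p.Prime)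
    (hx : orderOf x = p) (hd : p ∣ 3 ^ (2 * m + 1) * 3 ^ (2 * m + 1) - 3 ^ (2 * m + 1) + 1) :
    Nat.card ↥(Subgroup.centralizer {x}) ∣
      3 ^ (2 * m + 1) * 3 ^ (2 * m + 1) - 3 ^ (2 * m + 1) + 1 := by
  set c := Nat.card ↥(Subgroup.centralizer {x})
  have hc : c ∣ Nat.card ↥(twistedG2 K (3 ^ m)) := Subgroup.card_subgroup_dvd_card _
  rw [S.card_factor] at hc
  refine Nat.Coprime.dvd_of_dvd_mul_left ?_ hc
  refine Nat.coprime_of_dvd fun l hl hlc hlr => ?_
  have := Fact.mk hl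
  obtain ⟨y, hy⟩ := exists_prime_orderOf_dvd_card' l hlc
  rw [← Subgroup.orderOf_coe] at hy
  have hln := S.prime_of_commute_singer hm hp hl hx hd hy
    (Subgroup.mem_centralizer_singleton_iff.1 y.2).symm
  obtain ⟨-, -, h1, h2, h3⟩ := S.singer_prime hm hl hln
  rcases hl.dvd_mul.1 hlr with h | h
  · rcases hl.dvd_mul.1 h with h | h
    · exact h3 (hl.dvd_of_dvd_pow h)
    · exact h1 h
  · exact h2 h

end SetupG2

end CfsgLib.Chev
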