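import Mathlib
import Cfsg.Agent.Lib.Chev.ReeSinger

/-!
Existence and normalisers of the cyclic subgroups of orders `q ± r + 1` of ²G₂.
-/

set_option autoImplicit false
set_option maxHeartbeats 1600000
set_option maxRecDepth 100000
set_option linter.unusedSectionVars false

namespace CfsgLib.Chev

open Cfsg.Lie

namespace SingerRep

/-- The orbit of a weight and the conjugate orbit. -/
def sixSum {L : Type*} [Field L] (x y z : L) : L := x + x⁻¹ + y + y⁻¹ + z + z⁻¹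

/-- The orbit of a difference of weights. -/
def longSum {L : Type*} [Field L] (x y z : L) : L :=
  x * y⁻¹ + y * x⁻¹ + (y * z⁻¹ + z * y⁻¹) + (z * x⁻¹ + x * z⁻¹)

/-- Behaviour of the two sums under the power maps. -/
theorem sums_pow {L : Type*} [Field L] {q r : ℕ} (hadd : ∀ a b : L, (a + b) ^ r = a ^ r + b ^ r)
    (haddq : ∀ a b : L, (a + b) ^ q = a ^ q + b ^ q)
    {ξ : L} (hξ : ξ ≠ 0) (h2 : ξ ^ (q * q) * ξ = ξ ^ q)
    (hr : ξ ^ r = ξ ^ (q + 1) ∨ ξ ^ r * ξ ^ (q + 1) = 1) :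
    (sixSum ξ (ξ ^ q)⁻¹ (ξ * (ξ ^ q)⁻¹)⁻¹) ^ q = sixSum ξ (ξ ^ q)⁻¹ (ξ * (ξ ^ q)⁻¹)⁻¹ ∧
    (sixSum ξ (ξ ^ q)⁻¹ (ξ * (ξ ^ q)⁻¹)⁻¹) ^ r = longSum ξ (ξ ^ q)⁻¹ (ξ * (ξ ^ q)⁻¹)⁻¹ := by
  have hw : ξ ^ q ≠ 0 := pow_ne_zero _ hξ
  constructor
  · have e2 : (ξ ^ q) ^ q = ξ ^ q * ξ⁻¹ := by
      rw [← pow_mul, ← h2, mul_inv_cancel_right₀ hξ]
    simp only [sixSum, haddq, inv_pow, mul_pow, inv_inv, _root_.mul_inv_rev, e2]
    field_simp
    ring
  · rcases hr with h | h
    · have e2 : (ξ ^ q) ^ r = (ξ ^ q * ξ⁻¹) * ξ ^ q := by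
        rw [← pow_mul, mul_comm, pow_mul, h, ← pow_mul, add_mul, one_mul, pow_add, ← h2,
          mul_inv_cancel_right₀ hξ]
      rw [pow_succ] at h
      simp only [sixSum, longSum, hadd, inv_pow, mul_pow, inv_inv, _root_.mul_inv_rev, e2, h]
      field_simp
      ring
    · have h' : ξ ^ r = (ξ ^ q * ξ)⁻¹ := by
        rw [← pow_succ]; exact eq_inv_of_mul_eq_one_left h
      have e2 : (ξ ^ q) ^ r = ((ξ ^ q * ξ⁻¹) * ξ ^ q)⁻¹ := by
        rw [← pow_mul, mul_comm, pow_mul, h', inv_pow, mul_pow, ← pow_mul, ← h2,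
          mul_inv_cancel_right₀ hξ]
      simp only [sixSum, longSum, hadd, inv_pow, mul_pow, inv_inv, _root_.mul_inv_rev, e2, h']
      field_simp
      ring

end SingerRep

namespace SetupG2

variable {K : Type*} [Field K] [Fintype K] {m : ℕ} (S : SetupG2 K m)
include S

/-- The two orders. -/
theorem singer_orders (hm : 1 ≤ m) {N N' : ℕ}
    (hN : (N = 3 ^ (2 * m + 1) - 3 ^ (m + 1) + 1 ∧ N' = 3 ^ (2 * m + 1) + 3 ^ (m + 1) + 1) ∨
      (N' = 3 ^ (2 * m + 1) - 3 ^ (m + 1) + 1 ∧ N = 3 ^ (2 * m + 1) + 3 ^ (m + 1) + 1)) :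
    N * N' = 3 ^ (2 * m + 1) * 3 ^ (2 * m + 1) - 3 ^ (2 * m + 1) + 1 ∧ Nat.Coprime N N' ∧ 19 ≤ N := by
  obtain ⟨hq27, hr9, hrr, h3q, hqodd, h3r⟩ := S.arith hm
  rw [add_zero] at h3r
  set q := 3 ^ (2 * m + 1) with hq
  set r := 3 ^ (m + 1) with hr
  have hle : r ≤ q := by omega
  have hprod : (q - r + 1) * (q + r + 1) = q * q - q + 1 := by
    zify [hle, Nat.le_mul_self q]
    have : (r : ℤ) * r = 3 * q := by exact_mod_cast hrr
    linear_combination -this
  have hco : Nat.Coprime (q - r + 1) (q + r + 1) := by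
    refine Nat.coprime_of_dvd fun p hp h1 h2 => ?_
    obtain ⟨-, hp7, -, -, hpq⟩ := S.singer_prime hm hp (hprod ▸ h1.mul_right _)
    have h : p ∣ 2 * r := by
      have := Nat.dvd_sub h2 h1
      rwa [show q + r + 1 - (q - r + 1) = 2 * r by omega] at this
    rcases hp.dvd_mul.1 h with h | h
    · have := Nat.le_of_dvd (by norm_num) h; omega
    · refine hpq ?_
      rw [hr] at h
      exact (hp.dvd_of_dvd_pow h).trans h3q
  rcases hN with ⟨rfl, rfl⟩ | ⟨rfl, rfl⟩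
  · exact ⟨hprod, hco, by omega⟩
  · exact ⟨by rw [mul_comm, hprod], hco.symm, by omega⟩

/-- An element of order `q ± r + 1`. -/
theorem exists_singer (hm : 1 ≤ m) {N : ℕ}
    (hN : N = 3 ^ (2 * m + 1) - 3 ^ (m + 1) + 1 ∨ N = 3 ^ (2 * m + 1) + 3 ^ (m + 1) + 1) :
    ∃ g : ↥(twistedG2 K (3 ^ m)), orderOf g = N := by
  classical
  have := S.char
  have := Fact.mk Nat.prime_three
  obtain ⟨hq27, hr9, hrr, h3q, hqodd, h3r⟩ := S.arith hm
  rw [add_zero] at h3r
  obtain ⟨N', hNN⟩ : ∃ N', (N = 3 ^ (2 * m + 1) - 3 ^ (m + 1) + 1 ∧ N' = 3 ^ (2 * m + 1) + 3 ^ (m + 1) + 1) ∨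
      (N' = 3 ^ (2 * m + 1) - 3 ^ (m + 1) + 1 ∧ N = 3 ^ (2 * m + 1) + 3 ^ (m + 1) + 1) := by
    rcases hN with h | h
    · exact ⟨_, Or.inl ⟨h, rfl⟩⟩
    · exact ⟨_, Or.inr ⟨rfl, h⟩⟩
  obtain ⟨hprod, -, hN19⟩ := S.singer_orders hm hNN
  set L := AlgebraicClosure K
  have : CharP L 3 := charP_of_injective_algebraMap (algebraMap K L).injective 3
  set q := 3 ^ (2 * m + 1) with hq
  set r := 3 ^ (m + 1) with hr
  have h3N : ¬ 3 ∣ N := by
    intro h
    obtain ⟨-, h7, -⟩ := S.singer_prime hm Nat.prime_three (hprod ▸ h.mul_right N')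
    omega
  have : NeZero (N : L) := ⟨fun h => h3N ((CharP.cast_eq_zero_iff L 3 N).1 h)⟩
  obtain ⟨ξ, hξ⟩ := HasEnoughRootsOfUnity.exists_primitiveRoot L N
  have hξ0 : ξ ≠ 0 := hξ.ne_zero (by omega)
  have hpow : ∀ a b : ℕ, (a : ZMod N) = b → ξ ^ a = ξ ^ b := fun a b h => by
    rw [ZMod.natCast_eq_natCast_iff'] at h
    rw [← pow_mod_orderOf ξ a, ← pow_mod_orderOf ξ b, ← hξ.eq_orderOf, h]
  have hn0 : ((q * q - q + 1 : ℕ) : ZMod N) = 0 := (ZMod.natCast_eq_zero_iff _ N).2 (hprod ▸ dvd_mul_right N N')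
  rw [Nat.cast_add, Nat.cast_sub (Nat.le_mul_self q), Nat.cast_mul, Nat.cast_one] at hn0
  have h2 : ξ ^ (q * q) * ξ = ξ ^ q := by
    rw [← pow_succ]
    refine hpow _ _ ?_
    push_cast
    linear_combination hn0
  have hrcase : ξ ^ r = ξ ^ (q + 1) ∨ ξ ^ r * ξ ^ (q + 1) = 1 := by
    rcases hN with h | h
    · refine Or.inl (hpow _ _ ?_)
      have h0 : ((q - r + 1 : ℕ) : ZMod N) = 0 := by rw [← h, ZMod.natCast_self]
      rw [Nat.cast_add, Nat.cast_sub (show r ≤ q by omega), Nat.cast_one] at h0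
      push_cast
      linear_combination -h0
    · refine Or.inr ?_
      rw [← _root_.pow_add, ← pow_zero ξ]
      refine hpow _ _ ?_
      have h0 : ((q + r + 1 : ℕ) : ZMod N) = 0 := by rw [← h, ZMod.natCast_self]
      push_cast at h0 ⊢
      linear_combination h0
  obtain ⟨hfix, hlong⟩ := SingerRep.sums_pow (q := q) (r := r)
    (fun a b => add_pow_char_pow a b 3 (m + 1)) (fun a b => add_pow_char_pow a b 3 (2 * m + 1)) hξ0 h2 hrcase
  set y := (ξ ^ q)⁻¹ with hy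
  set z := (ξ * y)⁻¹ with hz
  have hy0 : y ≠ 0 := inv_ne_zero (pow_ne_zero _ hξ0)
  have hxyz : ξ * y * z = 1 := mul_inv_cancel₀ (mul_ne_zero hξ0 hy0)
  obtain ⟨s, hs⟩ := SingerRep.mem_range_of_pow_card (F := K) (L := L)
    (a := SingerRep.sixSum ξ y z) (by rw [S.card]; exact hfix)
  have hτ : algebraMap K L (1 + s) = 1 + SingerRep.sixSum ξ y z := by rw [map_add, map_one, hs]
  have hσ : algebraMap K L ((1 + s) ^ (3 * 3 ^ m)) = 1 + SingerRep.longSum ξ y z := by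
    rw [map_pow, hτ, show 3 * 3 ^ m = 3 ^ (m + 1) by ring, add_pow_char_pow _ _ 3 (m + 1), one_pow, ← hlong]
  have hξ2 : ξ ^ 2 ≠ 1 := fun h => by
    have := Nat.le_of_dvd (by norm_num) (hξ.dvd_of_pow_eq_one 2 h)
    omega
  obtain ⟨g, w, hw0, hw⟩ := S.exists_eigen (l := ξ) (1 + s) hξ0 hξ2 (by
    rw [hτ, hσ]; exact ReeEigen.poly_six hξ0 hy0 hxyz)
  have hk : ∀ k : ℕ, ((S.rep7 (g ^ k)).map (algebraMap K L)).mulVec w = ξ ^ k • w := by
    intro k
    induction k with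
    | zero => simp
    | succ k ih =>
      rw [pow_succ, map_mul, Matrix.map_mul, ← Matrix.mulVec_mulVec, hw, Matrix.mulVec_smul, ih,
        smul_smul, pow_succ, mul_comm]
  have hd : N ∣ orderOf g := by
    refine hξ.dvd_of_pow_eq_one _ ?_
    have h := hk (orderOf g)
    rw [pow_orderOf_eq_one, map_one, Matrix.map_one _ (map_zero _) (map_one _), Matrix.one_mulVec] at h
    by_contra hne
    exact hw0 ((smul_eq_zero.1 (show (ξ ^ orderOf g - 1) • w = 0 by
      rw [sub_smul, ← h, one_smul, sub_self])).resolve_left (sub_ne_zero.2 hne))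
  exact ⟨g ^ (orderOf g / N), orderOf_pow_orderOf_div (orderOf_pos g).ne' hd⟩

/-- The cyclic subgroups of orders `q ± r + 1`, self-centralising. -/
theorem singer_torus_full (hm : 1 ≤ m) {N : ℕ}
    (hN : N = 3 ^ (2 * m + 1) - 3 ^ (m + 1) + 1 ∨ N = 3 ^ (2 * m + 1) + 3 ^ (m + 1) + 1) :
    ∃ A : Subgroup ↥(twistedG2 K (3 ^ m)), IsCyclic A ∧ Nat.card ↥A = N ∧
      Nat.card (Subgroup.normalizer (A : Set ↥(twistedG2 K (3 ^ m)))) = 6 * N ∧
      (∀ A₀ ≤ A, A₀ ≠ ⊥ → Subgroup.normalizer (A₀ : Set ↥(twistedG2 K (3 ^ m))) =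
        Subgroup.normalizer (A : Set ↥(twistedG2 K (3 ^ m)))) ∧
      (∀ a ∈ A, a ≠ 1 → ∀ g, g * a = a * g → g ∈ A) := by
  classical
  obtain ⟨hq27, hr9, hrr, h3q, hqodd, h3r⟩ := S.arith hm
  rw [add_zero] at h3r
  obtain ⟨N', hNN⟩ : ∃ N', (N = 3 ^ (2 * m + 1) - 3 ^ (m + 1) + 1 ∧ N' = 3 ^ (2 * m + 1) + 3 ^ (m + 1) + 1) ∨
      (N' = 3 ^ (2 * m + 1) - 3 ^ (m + 1) + 1 ∧ N = 3 ^ (2 * m + 1) + 3 ^ (m + 1) + 1) := by
    rcases hN with h | h
    · exact ⟨_, Or.inl ⟨h, rfl⟩⟩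
    · exact ⟨_, Or.inr ⟨rfl, h⟩⟩
  have hN'or : N' = 3 ^ (2 * m + 1) - 3 ^ (m + 1) + 1 ∨ N' = 3 ^ (2 * m + 1) + 3 ^ (m + 1) + 1 := by
    rcases hNN with h | h
    · exact Or.inr h.2
    · exact Or.inl h.1
  obtain ⟨hprod, hco, hN19⟩ := S.singer_orders hm hNN
  obtain ⟨g, hg⟩ := S.exists_singer hm (Or.imp id id hN)
  obtain ⟨g', hg'⟩ := S.exists_singer hm hN'or
  set q := 3 ^ (2 * m + 1) with hq
  set r := 3 ^ (m + 1) with hr
  set n := q * q - q + 1 with hn
  set A := Subgroup.zpowers g with hA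
  have hAcard : Nat.card ↥A = N := by rw [hA, Nat.card_zpowers, hg]
  obtain ⟨p, hp, hpN⟩ := Nat.exists_prime_and_dvd (show N ≠ 1 by omega)
  have := Fact.mk hp
  have hpn : p ∣ n := hprod ▸ hpN.mul_right N'
  obtain ⟨h6, hp7, -⟩ := S.singer_prime hm hp hpn
  set x := g ^ (N / p) with hxdef
  have hx : orderOf x = p := by
    have := orderOf_pow_orderOf_div (x := g) (n := p) (orderOf_pos g).ne' (hg ▸ hpN)
    rwa [hg] at this
  set C := Subgroup.centralizer {x} with hC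
  have hgx : g * x = x * g := ((Commute.refl g).pow_right _).eq
  have hgC : g ∈ C := Subgroup.mem_centralizer_singleton_iff.2 hgx
  have hAC : A ≤ C := Subgroup.zpowers_le.2 hgC
  have hCab : ∀ a ∈ C, ∀ b ∈ C, a * b = b * a := fun a ha b hb =>
    S.commute_of_singer hm hx h6 (by omega) (Subgroup.mem_centralizer_singleton_iff.1 ha)
      (Subgroup.mem_centralizer_singleton_iff.1 hb)
  have hCn : Nat.card ↥C ∣ n := S.card_centralizer_singer hm hp hx hpn
  -- prime divisors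
  have hfullp : ∀ l : ℕ, l.Prime → ∀ N₁ N₂ : ℕ, N₁ * N₂ = n → Nat.Coprime N₁ N₂ → l ∣ N₁ →
      l ^ (Nat.card ↥(twistedG2 K (3 ^ m))).factorization l ∣ N₁ := by
    intro l hl N₁ N₂ h12 hco12 hlN
    obtain ⟨-, -, h1, h2, h3⟩ := S.singer_prime hm hl (show l ∣ n from h12 ▸ hlN.mul_right N₂)
    have hfull := Nat.ordProj_dvd (Nat.card ↥(twistedG2 K (3 ^ m))) l
    set v := (Nat.card ↥(twistedG2 K (3 ^ m))).factorization l
    rw [S.card_factor, ← hq, ← hn, ← h12] at hfull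
    have hlr : ¬ l ∣ q ^ 3 * (q - 1) * (q + 1) := fun h => by
      rcases hl.dvd_mul.1 h with h | h
      · rcases hl.dvd_mul.1 h with h | h
        · exact h3 (hl.dvd_of_dvd_pow h)
        · exact h1 h
      · exact h2 h
    exact (Nat.Coprime.pow_left v (hl.coprime_iff_not_dvd.2 fun h =>
      hl.one_lt.ne' (Nat.dvd_one.1 (hco12 ▸ Nat.dvd_gcd hlN h)))).dvd_of_dvd_mul_right
      ((Nat.Coprime.pow_left v (hl.coprime_iff_not_dvd.2 hlr)).dvd_of_dvd_mul_left hfull)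
  -- every element of the centraliser has it as centraliser
  have hsame : ∀ a ∈ C, a ≠ 1 → ∀ b : ↥(twistedG2 K (3 ^ m)), b * a = a * b → b ∈ C := by
    intro a ha ha1 b hb
    obtain ⟨l, hl, hla⟩ := Nat.exists_prime_and_dvd (show orderOf a ≠ 1 from fun h => ha1 (orderOf_eq_one_iff.1 h))
    have := Fact.mk hl
    set y := a ^ (orderOf a / l)
    have hy : orderOf y = l := orderOf_pow_orderOf_div (orderOf_pos a).ne' hla
    have hln : l ∣ n := (hla.trans (Subgroup.orderOf_mk a ha ▸ orderOf_dvd_natCard _)).trans hCn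
    obtain ⟨h6', hl7, -⟩ := S.singer_prime hm hl hln
    rw [hC, Subgroup.mem_centralizer_singleton_iff]
    have hax : a * x = x * a := Subgroup.mem_centralizer_singleton_iff.1 ha
    exact S.commute_of_singer hm hy h6' (by omega) ((show Commute b a from hb).pow_right _).eq
      ((show Commute x a from hax.symm).pow_right _).eq
  -- subgroups of prime order
  have hxle : ∀ h : ↥(twistedG2 K (3 ^ m)), h * x * h⁻¹ ∈ C → h * x * h⁻¹ ∈ Subgroup.zpowers x := by
    intro h hh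
    obtain ⟨k, hk⟩ := exists_conj_le_of_cyclic (p := p) (A := A) inferInstance
      (hAcard ▸ hfullp p hp N N' hprod hco hpN) (P := Subgroup.zpowers x ⊔ Subgroup.zpowers (h * x * h⁻¹)) (by
        refine IsPGroup.to_sup_of_normal_right' ?_ ?_ ?_
        · exact IsPGroup.of_card (n := 1) (by rw [Nat.card_zpowers, hx, pow_one])
        · refine IsPGroup.of_card (n := 1) ?_
          rw [Nat.card_zpowers, pow_one, show orderOf (h * x * h⁻¹) = orderOf x from
            MulEquiv.orderOf_eq (MulAut.conj h) x, hx]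
        · rw [Subgroup.zpowers_le, Subgroup.mem_normalizer_iff]
          have hc : Commute x (h * x * h⁻¹) := (Subgroup.mem_centralizer_singleton_iff.1 hh).symm
          have hfx : ∀ u ∈ Subgroup.zpowers (h * x * h⁻¹), x * u * x⁻¹ = u := by
            rintro _ ⟨i, rfl⟩
            rw [(hc.zpow_right i).eq, mul_inv_cancel_right]
          intro u
          refine ⟨fun hu => by rw [hfx u hu]; exact hu, fun hu => ?_⟩
          have e := hfx _ hu
          have e' : u = x * u * x⁻¹ := by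
            calc u = x⁻¹ * (x * u * x⁻¹) * x := by group
              _ = x⁻¹ * (x * (x * u * x⁻¹) * x⁻¹) * x := by rw [e]
              _ = x * u * x⁻¹ := by group
          rw [e']; exact hu)
    have h1 := hk x (Subgroup.mem_sup_left (Subgroup.mem_zpowers x))
    have h2 := hk _ (Subgroup.mem_sup_right (Subgroup.mem_zpowers (h * x * h⁻¹)))
    have ho1 : orderOf (k * x * k⁻¹) = p := (MulEquiv.orderOf_eq (MulAut.conj k) x).trans hx
    have ho2 : orderOf (k * (h * x * h⁻¹) * k⁻¹) = p :=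
      ((MulEquiv.orderOf_eq (MulAut.conj k) _).trans (MulEquiv.orderOf_eq (MulAut.conj h) x)).trans hx
    have he : Subgroup.zpowers (⟨_, h1⟩ : ↥A) = Subgroup.zpowers ⟨_, h2⟩ := by
      letI : CommGroup ↥A := IsCyclic.commGroup
      have hker : Nat.card ↥(powMonoidHom p : ↥A →* ↥A).ker = p := by
        rw [IsCyclic.card_powMonoidHom_ker, hAcard, Nat.gcd_eq_right hpN]
      have hle : ∀ u : ↥A, orderOf u = p → Subgroup.zpowers u = (powMonoidHom p : ↥A →* ↥A).ker := by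
        intro u hu
        refine Subgroup.eq_of_le_of_card_ge (Subgroup.zpowers_le.2 ?_) (by rw [hker, Nat.card_zpowers, hu])
        show u ^ p = 1
        rw [← hu, pow_orderOf_eq_one]
      exact (hle _ (by rw [Subgroup.orderOf_mk]; exact ho1)).trans (hle _ (by rw [Subgroup.orderOf_mk]; exact ho2)).symm
    obtain ⟨i, hi⟩ : (⟨_, h2⟩ : ↥A) ∈ Subgroup.zpowers (⟨_, h1⟩ : ↥A) := he ▸ Subgroup.mem_zpowers _
    refine ⟨i, ?_⟩
    have hi' := congrArg Subtype.val hi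
    simp only [SubgroupClass.coe_zpow, conj_zpow] at hi'
    exact mul_left_cancel (mul_right_cancel hi')
  set NX := Subgroup.normalizer ((Subgroup.zpowers x) : Set ↥(twistedG2 K (3 ^ m))) with hNX
  have hCNX : C ≤ NX := fun b hb => by
    rw [Subgroup.mem_normalizer_iff]
    have hc : Commute b x := Subgroup.mem_centralizer_singleton_iff.1 hb
    have hfx : ∀ u ∈ Subgroup.zpowers x, b * u * b⁻¹ = u := by
      rintro _ ⟨i, rfl⟩
      rw [(hc.zpow_right i).eq, mul_inv_cancel_right]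
    intro u
    refine ⟨fun hu => by rw [hfx u hu]; exact hu, fun hu => ?_⟩
    have e := hfx _ hu
    have e' : u = b * u * b⁻¹ := by
      calc u = b⁻¹ * (b * u * b⁻¹) * b := by group
        _ = b⁻¹ * (b * (b * u * b⁻¹) * b⁻¹) * b := by rw [e]
        _ = b * u * b⁻¹ := by group
    rw [e']; exact hu
  set w := (C.subgroupOf NX).index with hw
  have hw6 : w ≤ 6 := S.singer_automiser_le hm hx h6 (by omega)
  have hcardNX : Nat.card ↥NX = Nat.card ↥C * w := by
    rw [hw, ← (C.subgroupOf NX).card_mul_index, Nat.card_congr (Subgroup.subgroupOfEquivOfLe hCNX).toEquiv]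
  -- fusion
  have hfus : ∀ c ∈ C, c ≠ 1 → ∀ h : ↥(twistedG2 K (3 ^ m)), h⁻¹ * c * h ∈ NX → h ∈ NX := by
    intro c hc hc1 h hh
    -- the order of `c` is prime to the index
    have hcC : h⁻¹ * c * h ∈ C := by
      have : (C.subgroupOf NX).Normal := ⟨fun a ha b => by
        rw [Subgroup.mem_subgroupOf, hC, Subgroup.mem_centralizer_singleton_iff] at ha ⊢
        obtain ⟨i, hi⟩ := (Subgroup.mem_normalizer_iff.1 (Subgroup.inv_mem _ b.2) x).1 (Subgroup.mem_zpowers x)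
        simp only [inv_inv] at hi
        simp only [Subgroup.coe_mul, Subgroup.coe_inv]
        have e := ((show Commute (a : ↥(twistedG2 K (3 ^ m))) x from ha).zpow_right i).eq
        rw [show x ^ i = (b : ↥(twistedG2 K (3 ^ m)))⁻¹ * x * b from hi] at e
        calc (b : ↥(twistedG2 K (3 ^ m))) * a * (b : ↥(twistedG2 K (3 ^ m)))⁻¹ * x = b * (a * ((b : ↥(twistedG2 K (3 ^ m)))⁻¹ * x * b)) * (b : ↥(twistedG2 K (3 ^ m)))⁻¹ := by group
          _ = b * (((b : ↥(twistedG2 K (3 ^ m)))⁻¹ * x * b) * a) * (b : ↥(twistedG2 K (3 ^ m)))⁻¹ := by rw [e]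
          _ = x * (b * a * (b : ↥(twistedG2 K (3 ^ m)))⁻¹) := by group⟩
      have h1 := Subgroup.pow_index_mem (C.subgroupOf NX) (⟨_, hh⟩ : ↥NX)
      rw [← hw, Subgroup.mem_subgroupOf] at h1
      have ho : orderOf (h⁻¹ * c * h) ∣ n := by
        rw [show orderOf (h⁻¹ * c * h) = orderOf c by simpa using MulEquiv.orderOf_eq (MulAut.conj h⁻¹) c]
        exact (Subgroup.orderOf_mk c hc ▸ orderOf_dvd_natCard _).trans hCn
      have hco' : Nat.Coprime w (orderOf (h⁻¹ * c * h)) := by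
        refine Nat.coprime_of_dvd fun l hl hlw hlo => ?_
        obtain ⟨-, hl7, -⟩ := S.singer_prime hm hl (hlo.trans ho)
        have hwpos : 0 < w := Nat.pos_of_ne_zero Subgroup.index_ne_zero_of_finite
        have := Nat.le_of_dvd hwpos hlw
        omega
      obtain ⟨i, hi⟩ := exists_pow_eq_self_of_coprime hco'
      rw [← hi]
      exact pow_mem h1 i
    -- so `h` maps `x` into the centraliser
    have hxC : h⁻¹ * x * h ∈ C := by
      refine hsame _ hcC (fun e => hc1 ?_) _ ?_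
      · rw [mul_assoc, inv_mul_eq_one, eq_comm, mul_eq_right] at e; exact e
      · rw [show h⁻¹ * x * h * (h⁻¹ * c * h) = h⁻¹ * (x * c) * h by group,
          show x * c = c * x from (Subgroup.mem_centralizer_singleton_iff.1 hc).symm]
        group
    have h2 := hxle h⁻¹ (by simpa using hxC)
    rw [inv_inv] at h2
    have hin : h⁻¹ ∈ NX := by
      have hle : ∀ u ∈ Subgroup.zpowers x, h⁻¹ * u * h⁻¹⁻¹ ∈ Subgroup.zpowers x := by
        rintro _ ⟨i, rfl⟩
        rw [← conj_zpow, inv_inv]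
        exact zpow_mem h2 i
      exact mem_normalizer_of_cyclic le_rfl hle
    simpa using Subgroup.inv_mem _ hin
  -- the congruence
  have hsemi : Nat.card ↥C ∣ NX.index - 1 := dvd_index_sub_one hCNX hfus
  obtain ⟨e, he⟩ := hCn
  set c := Nat.card ↥C with hc
  have hcpos : 0 < c := Nat.card_pos
  have hidx : NX.index * w = q ^ 3 * (q - 1) * (q + 1) * e := by
    have h := NX.card_mul_index
    rw [hcardNX, S.card_factor, ← hq, ← hn, he] at h
    apply mul_left_cancel₀ hcpos.ne'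
    calc c * (NX.index * w) = c * w * NX.index := by ring
      _ = _ := h
      _ = c * (q ^ 3 * (q - 1) * (q + 1) * e) := by ring
  have hcong : (c : ℤ) ∣ ((q : ℤ) - 2) * e + w := by
    have hpos : 0 < NX.index := Nat.pos_of_ne_zero Subgroup.index_ne_zero_of_finite
    obtain ⟨k, hk⟩ := hsemi
    have h1 : (NX.index : ℤ) = c * k + 1 := by
      have : NX.index = c * k + 1 := by omega
      exact_mod_cast this
    have h2 : (NX.index : ℤ) * w = (q : ℤ) ^ 3 * ((q : ℤ) - 1) * ((q : ℤ) + 1) * e := by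
      have := congrArg (fun t : ℕ => (t : ℤ)) hidx
      simp only [Nat.cast_mul, Nat.cast_pow, Nat.cast_add, Nat.cast_one,
        Nat.cast_sub (show 1 ≤ q by omega)] at this
      exact this
    have h3 : (c : ℤ) * e = (q : ℤ) * q - q + 1 := by
      have := congrArg (fun t : ℕ => (t : ℤ)) he
      simp only [hn, Nat.cast_add, Nat.cast_mul, Nat.cast_sub (Nat.le_mul_self q), Nat.cast_one] at this
      exact this.symm
    refine ⟨((q : ℤ) ^ 3 + (q : ℤ) ^ 2 - q - 1) * e * e - k * w - e * e, ?_⟩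
    linear_combination h2 - (w : ℤ) * h1 - (((q : ℤ) ^ 3 + (q : ℤ) ^ 2 - q - 1) * e - e) * h3
  have hNc : N ∣ c := hAcard ▸ Subgroup.card_dvd_of_le hAC
  have hcN : c = N := by
    by_contra hne
    obtain ⟨d, hd⟩ := hNc
    have hd1 : d ≠ 1 := fun h => hne (by rw [hd, h, mul_one])
    obtain ⟨p', hp', hp'd⟩ := Nat.exists_prime_and_dvd hd1
    have := Fact.mk hp'
    have hdN' : d ∣ N' := by
      refine ⟨e, ?_⟩
      apply mul_left_cancel₀ (show N ≠ 0 by omega)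
      rw [hprod, ← mul_assoc, ← hd]
      exact he
    obtain ⟨y, hy⟩ := exists_prime_orderOf_dvd_card' p' (show p' ∣ c from hd ▸ hp'd.mul_left N)
    rw [← Subgroup.orderOf_coe] at hy
    obtain ⟨k, hk⟩ := exists_conj_le_of_cyclic (p := p') (A := Subgroup.zpowers g') inferInstance
      (by
        rw [Nat.card_zpowers, hg']
        exact hfullp p' hp' N' N (by rw [mul_comm, hprod]) hco.symm (hp'd.trans hdN'))
      (P := Subgroup.zpowers (y : ↥(twistedG2 K (3 ^ m)))) (IsPGroup.of_card (n := 1) (by rw [Nat.card_zpowers, hy, pow_one]))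
    obtain ⟨i, hi⟩ := hk _ (Subgroup.mem_zpowers (y : ↥(twistedG2 K (3 ^ m))))
    have hg'C : k⁻¹ * g' * k ∈ C := by
      refine hsame _ y.2 (fun h => by rw [h, orderOf_one] at hy; exact hp'.one_lt.ne hy) _ ?_
      have e1 : (y : ↥(twistedG2 K (3 ^ m))) = k⁻¹ * g' ^ i * k := by rw [show g' ^ i = k * y * k⁻¹ from hi]; group
      rw [e1]
      group
    have hN'c : N' ∣ c := by
      rw [← hg', show orderOf g' = orderOf (k⁻¹ * g' * k) by
        simpa using (MulEquiv.orderOf_eq (MulAut.conj k⁻¹) g').symm, ← Subgroup.orderOf_mk _ hg'C]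
      exact orderOf_dvd_natCard _
    have hcn : c = n := Nat.dvd_antisymm ⟨e, he⟩ (hprod ▸ hco.mul_dvd_of_dvd_of_dvd ⟨d, hd⟩ hN'c)
    have he1 : e = 1 := mul_left_cancel₀ hcpos.ne' (by rw [mul_one, ← he, hcn])
    rw [he1, hcn, Nat.cast_one, mul_one] at hcong
    have hpos' : 0 < w := Nat.pos_of_ne_zero Subgroup.index_ne_zero_of_finite
    have h5 : (n : ℤ) ≤ ((q : ℤ) - 2) + w := Int.le_of_dvd (by omega) hcong
    have : (27 : ℤ) * q ≤ (q : ℤ) * q := by nlinarith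
    rw [hn] at h5
    push_cast [Nat.cast_sub (Nat.le_mul_self q)] at h5
    omega
  have hwe : w = 6 := by
    have hee : e = N' := mul_left_cancel₀ hcpos.ne' (by rw [← he, hcN, hprod])
    rw [hcN, hee] at hcong
    have hrrZ : (r : ℤ) * r = 3 * q := by exact_mod_cast hrr
    have hd6 : (N : ℤ) ∣ (w : ℤ) - 6 := by
      obtain ⟨k, hk⟩ := hcong
      rcases hNN with ⟨h1, h2⟩ | ⟨h1, h2⟩
      · rw [h1, Nat.cast_add, Nat.cast_sub (show r ≤ q by omega), Nat.cast_one] at hk ⊢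
        rw [h2] at hk; push_cast at hk
        refine ⟨k - (q : ℤ) - 2 * r - 4, ?_⟩
        linear_combination hk - 2 * hrrZ
      · rw [h2, Nat.cast_add, Nat.cast_add, Nat.cast_one] at hk ⊢
        rw [h1, Nat.cast_add, Nat.cast_sub (show r ≤ q by omega), Nat.cast_one] at hk
        refine ⟨k - (q : ℤ) + 2 * r - 4, ?_⟩
        linear_combination hk - 2 * hrrZ
    have := Int.eq_zero_of_abs_lt_dvd hd6 (by rw [abs_lt]; constructor <;> omega)
    omega
  have hCA : C = A := (Subgroup.eq_of_le_of_card_ge hAC (by rw [← hc, hcN, hAcard])).symm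
  have hNXA : ∀ b ∈ NX, b ∈ Subgroup.normalizer (A : Set ↥(twistedG2 K (3 ^ m))) := by
    intro b hb
    refine mem_normalizer_of_cyclic (T := A) le_rfl fun a ha => ?_
    rw [← hCA] at ha ⊢
    rw [hC, Subgroup.mem_centralizer_singleton_iff] at ha ⊢
    obtain ⟨i, hi⟩ := (Subgroup.mem_normalizer_iff.1 (Subgroup.inv_mem _ hb) x).1 (Subgroup.mem_zpowers x)
    simp only [inv_inv] at hi
    have e := ((show Commute a x from ha).zpow_right i).eq
    rw [show x ^ i = b⁻¹ * x * b from hi] at e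
    calc b * a * b⁻¹ * x = b * (a * (b⁻¹ * x * b)) * b⁻¹ := by group
      _ = b * ((b⁻¹ * x * b) * a) * b⁻¹ := by rw [e]
      _ = x * (b * a * b⁻¹) := by group
  have hkey : ∀ a ∈ A, a ≠ 1 → ∀ b : ↥(twistedG2 K (3 ^ m)), b * a * b⁻¹ ∈ A → b ∈ NX := by
    intro a ha ha1 b hb
    rw [← hCA] at hb ha
    refine hfus _ hb (fun h => ha1 (conj_eq_one_iff.1 h)) b ?_
    rw [show b⁻¹ * (b * a * b⁻¹) * b = a by group]
    exact hCNX ha
  have hne : A ≠ ⊥ := fun h => by rw [h, Subgroup.card_bot] at hAcard; omega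
  refine ⟨A, inferInstance, hAcard, ?_, fun A₀ h0 h0' => ?_, fun a ha ha1 b hb => ?_⟩
  · rw [normalizer_eq_of_cyclic hNXA hkey le_rfl hne, hcardNX, hwe, hcN, mul_comm]
  · rw [normalizer_eq_of_cyclic hNXA hkey h0 h0', normalizer_eq_of_cyclic hNXA hkey le_rfl hne]
  · exact hCA ▸ hsame a (hCA ▸ ha) ha1 b hb

/-- The cyclic subgroups of orders `q ± r + 1`. -/
theorem singer_torus (hm : 1 ≤ m) {N : ℕ}
    (hN : N = 3 ^ (2 * m + 1) - 3 ^ (m + 1) + 1 ∨ N = 3 ^ (2 * m + 1) + 3 ^ (m + 1) + 1) :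
    ∃ A : Subgroup ↥(twistedG2 K (3 ^ m)), IsCyclic A ∧ Nat.card ↥A = N ∧
      Nat.card (Subgroup.normalizer (A : Set ↥(twistedG2 K (3 ^ m)))) = 6 * N ∧
      (∀ A₀ ≤ A, A₀ ≠ ⊥ → Subgroup.normalizer (A₀ : Set ↥(twistedG2 K (3 ^ m))) =
        Subgroup.normalizer (A : Set ↥(twistedG2 K (3 ^ m)))) ∧
      (∀ a ∈ A, a ≠ 1 → ∀ g, g * a = a * g → g ^ N = 1) := by
  obtain ⟨A, h1, h2, h3, h4, h5⟩ := S.singer_torus_full hm hN
  refine ⟨A, h1, h2, h3, h4, fun a ha ha1 g hg => ?_⟩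
  rw [← h2]
  exact congrArg Subtype.val (pow_card_eq_one' (G := ↥A) (x := ⟨g, h5 a ha ha1 g hg⟩))

end SetupG2

end CfsgLib.Chev
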