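import Mathlib
import Cfsg.Agent.Lib.Chev.ReeSingerTwo

/-!
The cyclic subgroup of order `(q - 1) / 2` of ²G₂.
-/

set_option autoImplicit false
set_option maxHeartbeats 1600000
set_option maxRecDepth 100000
set_option linter.unusedSectionVars false

namespace CfsgLib.Chev

open Cfsg.Lie

namespace SetupG2

variable {K : Type*} [Field K] [Fintype K] {m : ℕ} (S : SetupG2 K m)
include S

/-- The odd part of the split torus inside the torus. -/
theorem split_torus_full (hm : 1 ≤ m) :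
    ∃ A : Subgroup ↥(twistedG2 K (3 ^ m)), IsCyclic A ∧ Nat.card ↥A = (3 ^ (2 * m + 1) - 1) / 2 ∧
      Nat.card (Subgroup.normalizer (A : Set ↥(twistedG2 K (3 ^ m)))) = 2 * (3 ^ (2 * m + 1) - 1) ∧
      (∀ A₀ ≤ A, A₀ ≠ ⊥ → Subgroup.normalizer (A₀ : Set ↥(twistedG2 K (3 ^ m))) =
        Subgroup.normalizer (A : Set ↥(twistedG2 K (3 ^ m)))) ∧
      A ≤ S.tauG.range ∧ (∀ a ∈ A, a ≠ 1 → ∀ g, g * a = a * g → g ∈ S.tauG.range) := by
  classical
  obtain ⟨hq27, -, -, -, hqodd, -⟩ := S.arith hm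
  obtain ⟨b, hb⟩ := IsCyclic.exists_generator (α := Kˣ)
  have hbo : orderOf b = 3 ^ (2 * m + 1) - 1 := by
    rw [orderOf_eq_card_of_forall_mem_zpowers hb, S.card_units_K]
  set A := Subgroup.zpowers (S.tauG (b ^ 2)) with hA
  have hd : 2 ∣ orderOf b := by rw [hbo]; omega
  have hAc : Nat.card ↥A = (3 ^ (2 * m + 1) - 1) / 2 := by
    rw [hA, Nat.card_zpowers, orderOf_injective S.tauG S.tauG_inj,
      orderOf_pow_of_dvd (by norm_num) hd, hbo]
  have hAT : A ≤ S.tauG.range := Subgroup.zpowers_le.2 ⟨_, rfl⟩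
  have hT : IsCyclic ↥S.tauG.range :=
    isCyclic_of_surjective S.tauG.rangeRestrict S.tauG.rangeRestrict_surjective
  have hX : ∀ g ∈ S.splitN, g ∈ Subgroup.normalizer (A : Set ↥(twistedG2 K (3 ^ m))) := fun g hg =>
    mem_normalizer_of_cyclic hAT fun t ht => S.splitN_normalizes hg ht
  have hsq : ∀ c : Kˣ, S.tauG c ∈ A → S.tauG c ≠ 1 → c * c ≠ 1 := by
    intro c hx hx1 e
    refine hx1 ?_
    -- the order of `A` is odd
    have h2 : orderOf (S.tauG c) ∣ 2 := orderOf_dvd_of_pow_eq_one (by rw [← map_pow, sq, e, map_one])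
    have hA' : orderOf (S.tauG c) ∣ (3 ^ (2 * m + 1) - 1) / 2 :=
      hAc ▸ Subgroup.orderOf_mk _ hx ▸ orderOf_dvd_natCard (⟨_, hx⟩ : ↥A)
    have hodd := S.half_odd (m := m)
    rw [Nat.odd_iff] at hodd
    exact orderOf_eq_one_iff.1 (Nat.eq_one_of_dvd_coprimes
      (Nat.prime_two.coprime_iff_not_dvd.2 (by omega)) h2 hA')
  have h : ∀ x ∈ A, x ≠ 1 → ∀ g, g * x * g⁻¹ ∈ A → g ∈ S.splitN := by
    intro x hx hx1 g hg
    obtain ⟨c, rfl⟩ := hAT hx
    exact S.conj_mem_splitN (hsq c hx hx1) (hAT hg)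
  have hne : A ≠ ⊥ := fun e => by rw [e, Subgroup.card_bot] at hAc; omega
  refine ⟨A, inferInstance, hAc, ?_, fun A₀ h0 h1 => ?_, hAT, fun a ha ha1 g hg => ?_⟩
  · rw [normalizer_eq_of_cyclic hX h le_rfl hne, S.card_splitN]
  · rw [normalizer_eq_of_cyclic hX h h0 h1, normalizer_eq_of_cyclic hX h le_rfl hne]
  · obtain ⟨c, rfl⟩ := hAT ha
    rw [← S.centralizer_tauG (hsq c ha ha1), Subgroup.mem_centralizer_singleton_iff]
    exact hg

/-- The odd part of the split torus. -/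
theorem split_torus (hm : 1 ≤ m) :
    ∃ A : Subgroup ↥(twistedG2 K (3 ^ m)), IsCyclic A ∧ Nat.card ↥A = (3 ^ (2 * m + 1) - 1) / 2 ∧
      Nat.card (Subgroup.normalizer (A : Set ↥(twistedG2 K (3 ^ m)))) = 2 * (3 ^ (2 * m + 1) - 1) ∧
      (∀ A₀ ≤ A, A₀ ≠ ⊥ → Subgroup.normalizer (A₀ : Set ↥(twistedG2 K (3 ^ m))) =
        Subgroup.normalizer (A : Set ↥(twistedG2 K (3 ^ m)))) ∧
      (∀ a ∈ A, a ≠ 1 → ∀ g, g * a = a * g → g ^ (3 ^ (2 * m + 1) - 1) = 1) := by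
  obtain ⟨A, h1, h2, h3, h4, -, h5⟩ := S.split_torus_full hm
  refine ⟨A, h1, h2, h3, h4, fun a ha ha1 g hg => ?_⟩
  rw [← S.card_tauG]
  exact congrArg Subtype.val (pow_card_eq_one' (G := ↥S.tauG.range) (x := ⟨g, h5 a ha ha1 g hg⟩))

end SetupG2

end CfsgLib.Chev
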