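import Mathlib
import Cfsg.Agent.Lib.Chev.ReeSmall

/-!
The elements of order three of the unipotent subgroup of ²G₂.
-/

set_option autoImplicit false
set_option maxHeartbeats 800000
set_option maxRecDepth 100000
set_option linter.unusedSectionVars false

namespace CfsgLib.Chev

open Cfsg.Lie

namespace SetupG2

variable {K : Type*} [Field K] [Fintype K] {m : ℕ} (S : SetupG2 K m)
include S

lemma conj7_four (A : K) (x : K × K × K × K) :
    goodG2.xG 7 A * four ![7, 6, 8, 9, 10, 11] x =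
      four ![7, 6, 8, 9, 10, 11] (x.1, x.2.1 + A * x.1, x.2.2.1, x.2.2.2) * goodG2.xG 7 A := by
  set r : Fin 6 → ℕ := ![7, 6, 8, 9, 10, 11]
  rw [← mul_inv_eq_iff_eq_mul, show (x.1, x.2.1 + A * x.1, x.2.2.1, x.2.2.2) =
    (x.1, A * x.1, (0 : K), (0 : K)) + (0, x.2.1, x.2.2.1, x.2.2.2) by ext <;> simp [add_comm],
    ← S.four_mul six_pos]
  have h2 : goodG2.xG 7 A * goodG2.xG 8 x.1 * (goodG2.xG 7 A)⁻¹ =
      goodG2.xG 8 x.1 * goodG2.xG 9 (A * x.1) := by
    have h := goodG2.xG_conj hasCommG2 (r := 8) (s := 7) (by decide +kernel) (by decide +kernel)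
      (by decide) (by decide +kernel) x.1 A
    rw [← goodG2.fterms_eq (r := 7) (s := 8) (by decide +kernel) (by decide +kernel),
      show fterms chevG2 7 8 = [(9, -2, 1, 1), (10, -3, 2, 1), (11, 3, 1, 2)] by decide +kernel] at h
    simp only [List.map_cons, List.map_nil, List.prod_cons, List.prod_nil, mul_one, pow_one,
      S.cast_eq_of_mod (a := -2) (b := 1) (by decide), S.cast_eq_of_mod (a := -3) (b := 0) (by decide),
      S.cast_eq_of_mod (a := 3) (b := 0) (by decide), Int.cast_one, Int.cast_zero, one_mul, zero_mul,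
      goodG2.xG_zero] at h
    exact h
  have h3 : ∀ i, i = 9 ∨ i = 10 ∨ i = 11 → ∀ z : K,
      goodG2.xG 7 A * goodG2.xG i z * (goodG2.xG 7 A)⁻¹ = goodG2.xG i z := by
    intro i hi z
    have hlt : i < chevG2.nroots := by rcases hi with rfl | rfl | rfl <;> decide +kernel
    have hne : i ≠ 7 ∧ i ≠ chevG2.neg 7 := by rcases hi with rfl | rfl | rfl <;> decide +kernel
    have h := goodG2.xG_conj hasCommG2 hlt (s := 7) (by decide +kernel) hne.1 hne.2 z A
    rw [← goodG2.fterms_eq (r := 7) (by decide +kernel) hlt] at h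
    rw [h, List.prod_eq_one (fun w hw => ?_), mul_one]
    obtain ⟨c, hc, rfl⟩ := List.mem_map.1 hw
    have h0 : ∀ c ∈ fterms chevG2 7 i, c.2.1 % 3 = 0 := by
      rcases hi with rfl | rfl | rfl <;> decide +kernel
    rw [S.cast_eq_of_mod (a := c.2.1) (b := 0) (by simpa using h0 c hc), Int.cast_zero, zero_mul,
      zero_mul, goodG2.xG_zero]
  simp only [four, r]
  simp only [Matrix.cons_val_zero, Matrix.cons_val_one, Matrix.cons_val, goodG2.xG_zero, one_mul,
    mul_one]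
  rw [show goodG2.xG 7 A * (goodG2.xG 8 x.1 * (goodG2.xG 9 x.2.1 * (goodG2.xG 10 x.2.2.1 *
      goodG2.xG 11 x.2.2.2))) * (goodG2.xG 7 A)⁻¹ =
    (goodG2.xG 7 A * goodG2.xG 8 x.1 * (goodG2.xG 7 A)⁻¹) *
    ((goodG2.xG 7 A * goodG2.xG 9 x.2.1 * (goodG2.xG 7 A)⁻¹) *
    ((goodG2.xG 7 A * goodG2.xG 10 x.2.2.1 * (goodG2.xG 7 A)⁻¹) *
    (goodG2.xG 7 A * goodG2.xG 11 x.2.2.2 * (goodG2.xG 7 A)⁻¹))) by group, h2,
    h3 9 (Or.inl rfl), h3 10 (Or.inr (Or.inl rfl)), h3 11 (Or.inr (Or.inr rfl))]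

lemma conj6_four (B : K) (x : K × K × K × K) :
    goodG2.xG 6 B * four ![7, 6, 8, 9, 10, 11] x =
      four ![7, 6, 8, 9, 10, 11] (x.1, x.2.1, x.2.2.1, x.2.2.2 + B * x.2.2.1) * goodG2.xG 6 B := by
  set r : Fin 6 → ℕ := ![7, 6, 8, 9, 10, 11]
  rw [← mul_inv_eq_iff_eq_mul, show (x.1, x.2.1, x.2.2.1, x.2.2.2 + B * x.2.2.1) =
    (x.1, x.2.1, x.2.2.1, B * x.2.2.1) + ((0 : K), (0 : K), (0 : K), x.2.2.2) by ext <;> simp [add_comm],
    ← S.four_mul six_pos]
  have c : ∀ j : Fin 6, j = 2 ∨ j = 3 ∨ j = 5 → ∀ z : K,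
      goodG2.xG 6 B * goodG2.xG (r j) z * (goodG2.xG 6 B)⁻¹ = goodG2.xG (r j) z := by
    intro j hj z
    have h : Commute (goodG2.xG (r 1) B) (goodG2.xG (r j) z) := by
      rcases hj with rfl | rfl | rfl <;> exact S.comm six_pos (by decide) _ _
    exact mul_inv_eq_iff_eq_mul.2 h.eq
  have h4 : goodG2.xG 6 B * goodG2.xG 10 x.2.2.1 * (goodG2.xG 6 B)⁻¹ =
      goodG2.xG 10 x.2.2.1 * goodG2.xG 11 (B * x.2.2.1) := by
    have h := goodG2.xG_conj hasCommG2 (r := 10) (s := 6) (by decide +kernel) (by decide +kernel)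
      (by decide) (by decide +kernel) x.2.2.1 B
    rw [← goodG2.fterms_eq (r := 6) (s := 10) (by decide +kernel) (by decide +kernel),
      show fterms chevG2 6 10 = [(11, 1, 1, 1)] by decide +kernel] at h
    simpa using h
  have c2 := c 2 (Or.inl rfl) x.1
  have c3 := c 3 (Or.inr (Or.inl rfl)) x.2.1
  have c5 := c 5 (Or.inr (Or.inr rfl)) x.2.2.2
  simp only [r, Matrix.cons_val] at c2 c3 c5
  simp only [four, r]
  simp only [Matrix.cons_val, goodG2.xG_zero, one_mul, mul_one]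
  rw [show goodG2.xG 6 B * (goodG2.xG 8 x.1 * (goodG2.xG 9 x.2.1 * (goodG2.xG 10 x.2.2.1 *
      goodG2.xG 11 x.2.2.2))) * (goodG2.xG 6 B)⁻¹ =
    (goodG2.xG 6 B * goodG2.xG 8 x.1 * (goodG2.xG 6 B)⁻¹) *
    ((goodG2.xG 6 B * goodG2.xG 9 x.2.1 * (goodG2.xG 6 B)⁻¹) *
    ((goodG2.xG 6 B * goodG2.xG 10 x.2.2.1 * (goodG2.xG 6 B)⁻¹) *
    (goodG2.xG 6 B * goodG2.xG 11 x.2.2.2 * (goodG2.xG 6 B)⁻¹))) by group, c2, c3, h4, c5]
  simp only [mul_assoc]

/-- The cube. -/
theorem cube (B A : K) (F : K × K × K × K) :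
    (goodG2.xG 6 B * goodG2.xG 7 A * four ![7, 6, 8, 9, 10, 11] F) ^ 3 =
      four ![7, 6, 8, 9, 10, 11] (0, -(A ^ 2 * B), 0, -(A ^ 3 * B ^ 2)) := by
  set r : Fin 6 → ℕ := ![7, 6, 8, 9, 10, 11] with hr
  set b := goodG2.xG 6 B
  set a := goodG2.xG 7 A
  have e7 : ∀ (X : K) (z : K × K × K × K), goodG2.xG 7 X * four r z =
      four r (z.1, z.2.1 + X * z.1, z.2.2.1, z.2.2.2) * goodG2.xG 7 X := S.conj7_four
  have e6 : ∀ (X : K) (z : K × K × K × K), goodG2.xG 6 X * four r z =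
      four r (z.1, z.2.1, z.2.2.1, z.2.2.2 + X * z.2.2.1) * goodG2.xG 6 X := S.conj6_four
  -- move the unipotent parts to the left
  have e : ∀ z : K × K × K × K, b * a * four r z =
      four r (z.1, z.2.1 + A * z.1, z.2.2.1, z.2.2.2 + B * z.2.2.1) * (b * a) := fun z => by
    rw [mul_assoc, e7, ← mul_assoc, e6, mul_assoc]
  have hx : (b * a * four r F) ^ 3 = (b * a) ^ 3 := by
    rw [pow_three, pow_three]
    set F₁ : K × K × K × K := (F.1, F.2.1 + A * F.1, F.2.2.1, F.2.2.2 + B * F.2.2.1) with hF₁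
    set F₂ : K × K × K × K := (F₁.1, F₁.2.1 + A * F₁.1, F₁.2.2.1, F₁.2.2.2 + B * F₁.2.2.1) with hF₂
    set F₃ : K × K × K × K := (F₂.1, F₂.2.1 + A * F₂.1, F₂.2.2.1, F₂.2.2.2 + B * F₂.2.2.1) with hF₃
    have hsum : F₁ + F₂ + F₃ = 0 := by
      have h3 := S.three_zero
      simp only [hF₁, hF₂, hF₃, Prod.mk_add_mk, Prod.mk_eq_zero]
      refine ⟨?_, ?_, ?_, ?_⟩
      · linear_combination F.1 * h3
      · linear_combination (F.2.1 + 2 * A * F.1) * h3
      · linear_combination F.2.2.1 * h3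
      · linear_combination (F.2.2.2 + 2 * B * F.2.2.1) * h3
    rw [e F, ← hF₁]
    rw [show four r F₁ * (b * a) * (four r F₁ * (b * a) * (four r F₁ * (b * a))) =
      four r F₁ * ((b * a) * four r F₁) * ((b * a) * four r F₁) * (b * a) by simp only [mul_assoc],
      e F₁, ← hF₂, show four r F₁ * (four r F₂ * (b * a)) * (four r F₂ * (b * a)) * (b * a) =
        four r F₁ * four r F₂ * ((b * a) * four r F₂) * ((b * a) * (b * a)) by simp only [mul_assoc],
      e F₂, ← hF₃, show four r F₁ * four r F₂ * (four r F₃ * (b * a)) * ((b * a) * (b * a)) =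
        four r F₁ * four r F₂ * four r F₃ * ((b * a) * ((b * a) * (b * a))) by simp only [mul_assoc],
      S.four_mul six_pos, S.four_mul six_pos, hsum, S.four_zero, one_mul]
  rw [hx]
  have sw : ∀ X : K, goodG2.xG 7 X * b = b * goodG2.xG 7 X *
      four r (-(X * B), -(X ^ 2 * B), X ^ 3 * B, X ^ 3 * B ^ 2) := fun X => by
    have h := S.swap' six_pos B X
    simp only [Int.cast_one, one_mul] at h
    exact h
  have i7 : ∀ (X : K) (z : K × K × K × K), four r z * goodG2.xG 7 X =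
      goodG2.xG 7 X * four r (z.1, z.2.1 - X * z.1, z.2.2.1, z.2.2.2) := fun X z => by
    rw [e7]
    simp
  have i6 : ∀ (z : K × K × K × K), four r z * b =
      b * four r (z.1, z.2.1, z.2.2.1, z.2.2.2 - B * z.2.2.1) := fun z => by
    rw [e6]
    simp [b]
  have hb3 : b * b * b = 1 := by
    simp only [b, goodG2.xG_add, show B + B + B = 0 by linear_combination B * S.three_zero,
      goodG2.xG_zero]
  calc (b * a) ^ 3 = b * (a * b) * a * (b * a) := by rw [pow_three]; simp only [mul_assoc]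
    _ = b * b * goodG2.xG 7 (A + A) * four r (-(A * B), 0, A ^ 3 * B, A ^ 3 * B ^ 2) * (b * a) := by
      rw [sw, show b * (b * a * four r (-(A * B), -(A ^ 2 * B), A ^ 3 * B, A ^ 3 * B ^ 2)) * a =
        b * b * (a * (four r (-(A * B), -(A ^ 2 * B), A ^ 3 * B, A ^ 3 * B ^ 2) * a)) by
          simp only [mul_assoc], i7, ← mul_assoc a (goodG2.xG 7 A),
        show a * goodG2.xG 7 A = goodG2.xG 7 (A + A) from goodG2.xG_add _ _ _, ← mul_assoc (b * b)]
      congr 3
      simp only [Prod.mk.injEq, true_and, and_true]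
      ring
    _ = b * b * (goodG2.xG 7 (A + A) * b) * four r (-(A * B), 0, A ^ 3 * B, 0) * a := by
      rw [← mul_assoc _ b a, mul_assoc _ _ b, i6]
      simp only [← mul_assoc]
      congr 3
      simp only [Prod.mk.injEq, true_and]
      ring
    _ = goodG2.xG 7 (A + A) * (four r (0, -(A ^ 2 * B), 0, -(A ^ 3 * B ^ 2)) * a) := by
      rw [sw, show b * b * (b * goodG2.xG 7 (A + A) * four r
          (-((A + A) * B), -((A + A) ^ 2 * B), (A + A) ^ 3 * B, (A + A) ^ 3 * B ^ 2)) *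
          four r (-(A * B), 0, A ^ 3 * B, 0) * a = b * b * b * goodG2.xG 7 (A + A) * ((four r
          (-((A + A) * B), -((A + A) ^ 2 * B), (A + A) ^ 3 * B, (A + A) ^ 3 * B ^ 2) *
          four r (-(A * B), 0, A ^ 3 * B, 0)) * a) by simp only [mul_assoc], hb3, one_mul,
        S.four_mul six_pos]
      congr 3
      simp only [Prod.mk_add_mk, Prod.mk.injEq]
      refine ⟨?_, ?_, ?_, ?_⟩
      · linear_combination (-(A * B)) * S.three_zero
      · linear_combination (-(A ^ 2 * B)) * S.three_zero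
      · linear_combination (3 * A ^ 3 * B) * S.three_zero
      · linear_combination (3 * A ^ 3 * B ^ 2) * S.three_zero
    _ = _ := by
      rw [i7, ← mul_assoc, goodG2.xG_add, show A + A + A = 0 by linear_combination A * S.three_zero,
        goodG2.xG_zero, one_mul]
      simp

lemma word_cube_iff (t u v : K) :
    (((reeWordU (3 ^ m) t u v).map fun p => goodG2.xG p.1 p.2).prod) ^ 3 = 1 ↔ t = 0 := by
  rw [S.word_sorted, S.cube]
  constructor
  · intro h
    have e : ∀ w : ℕ → K, goodG2.xAlong minusG2 w =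
        goodG2.xG 6 (w 6) * goodG2.xG 7 (w 7) * four ![7, 6, 8, 9, 10, 11] (w 8, w 9, w 10, w 11) :=
      fun w => by simp [minusG2, Good.xAlong, four, mul_assoc]
    let z : ℕ → K := fun i => if i = 9 then -((t ^ 3 ^ m) ^ 2 * t) else
      if i = 11 then -((t ^ 3 ^ m) ^ 3 * t ^ 2) else 0
    have h' := goodG2.xAlong_inj (by decide) (Good.minus_list S.minusSet_w) (t := z)
      (u := fun _ => (0 : K)) (by
        rw [e, e]
        simpa [z, goodG2.xG_zero, four] using h) 9 (by decide)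
    have h9 : -((t ^ 3 ^ m) ^ 2 * t) = 0 := by simpa [z] using h'
    simpa [pow_ne_zero] using h9
  · rintro rfl
    simp [four, goodG2.xG_zero]

/-- The elements of order three. -/
theorem card_order_three :
    Nat.card {u : ↥(chevG2.posUnipotent K ⊓ twistedG2 K (3 ^ m)) // orderOf u = 3} =
      (3 ^ (2 * m + 1)) ^ 2 - 1 := by
  classical
  have := Fact.mk Nat.prime_three
  let w : K × K → ↥(chevG2.posUnipotent K ⊓ twistedG2 K (3 ^ m)) := fun p => ⟨_, S.word_pos 0 p.1 p.2⟩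
  have hone : ∀ p : K × K, w p = 1 ↔ p = 0 := by
    have h0 : ((reeWordU (3 ^ m) (0 : K) 0 0).map fun p => goodG2.xG p.1 p.2).prod = 1 := by
      rw [S.word_sorted]
      simp [zero_pow (pow_ne_zero m three_ne_zero), four, goodG2.xG_zero]
    intro p
    constructor
    · intro h
      obtain ⟨-, h1, h2⟩ := S.word_inj ((congrArg Subtype.val h).trans h0.symm :)
      exact Prod.ext h1 h2
    · rintro rfl
      exact Subtype.ext h0
  let e : {p : K × K // p ≠ 0} → {u : ↥(chevG2.posUnipotent K ⊓ twistedG2 K (3 ^ m)) // orderOf u = 3} :=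
    fun p => ⟨w p.1, orderOf_eq_prime (Subtype.ext ((S.word_cube_iff 0 _ _).2 rfl))
      (fun h => p.2 ((hone _).1 h))⟩
  rw [← Nat.card_eq_of_bijective e ⟨fun p p' h => ?_, fun x => ?_⟩]
  · rw [Nat.card_eq_fintype_card, Fintype.card_subtype_compl, Fintype.card_subtype_eq, Fintype.card_prod,
      S.card, sq]
  · obtain ⟨-, h1, h2⟩ := S.word_inj (congrArg (fun x => ((x.1 : GL chevG2.Idx K))) h :)
    exact Subtype.ext (Prod.ext h1 h2)
  · obtain ⟨t, u, v, hx⟩ := S.mem_pos x.1.2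
    have h3 : (x.1 : GL chevG2.Idx K) ^ 3 = 1 := by
      rw [← Subgroup.coe_pow, orderOf_eq_iff (by norm_num) |>.1 x.2 |>.1]; rfl
    rw [hx] at h3
    obtain rfl := (S.word_cube_iff t u v).1 h3
    refine ⟨⟨(u, v), fun h => ?_⟩, Subtype.ext (Subtype.ext hx.symm)⟩
    have h1 : w (u, v) = 1 := (hone _).2 h
    have h2 : x.1 = 1 := (Subtype.ext hx : x.1 = w (u, v)).trans h1
    have := x.2
    rw [h2, orderOf_one] at this
    exact absurd this (by decide)

end SetupG2

end CfsgLib.Chev
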