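import Mathlib
import Cfsg.Agent.Lib.Chev.ReeHall
import Cfsg.Agent.Lib.Chev.ReeThree

/-!
The orders of the elements of ²G₂.
-/

set_option autoImplicit false
set_option maxHeartbeats 1600000
set_option maxRecDepth 100000
set_option linter.unusedSectionVars false

namespace CfsgLib.Chev

open Cfsg.Lie

/-- An element commuting with an element of prime order that can be moved into a torus. -/
theorem orderOf_dvd_of_torus {G : Type*} [Group G] [Finite G] {A : Subgroup G} {E l : ℕ} [Fact l.Prime]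
    (hA : IsCyclic ↥A) (hfull : l ^ (Nat.card G).factorization l ∣ Nat.card ↥A)
    (hexp : ∀ a ∈ A, a ≠ 1 → ∀ g, g * a = a * g → g ^ E = 1) {g : G} (hl : l ∣ orderOf g) :
    orderOf g ∣ E := by
  set y := g ^ (orderOf g / l) with hydef
  have hy : orderOf y = l := orderOf_pow_orderOf_div (orderOf_pos g).ne' hl
  obtain ⟨h, hh⟩ := exists_conj_le_of_cyclic hA hfull (P := Subgroup.zpowers y)
    (IsPGroup.of_card (n := 1) (by rw [Nat.card_zpowers, hy, pow_one]))
  have h1 := hh y (Subgroup.mem_zpowers y)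
  have hgy : Commute g y := (Commute.refl g).pow_right _
  have e := hexp _ h1 (fun e1 => by
    rw [conj_eq_one_iff] at e1
    rw [e1, orderOf_one] at hy
    exact (Fact.out : l.Prime).one_lt.ne hy) (h * g * h⁻¹) (by
    rw [show h * g * h⁻¹ * (h * y * h⁻¹) = h * (g * y) * h⁻¹ by group, hgy.eq]; group)
  rw [conj_pow, conj_eq_one_iff] at e
  exact orderOf_dvd_of_pow_eq_one e

/-- Elements of three-power order of `SL(2)` in characteristic three. -/
theorem slTwo_three {F : Type*} [Field F] [CharP F 3] {M : Matrix (Fin 2) (Fin 2) F}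
    (h : M ^ 9 = 1) : M ^ 3 = 1 := by
  have := Fact.mk Nat.prime_three
  set P := M - 1 with hP
  have h9 : P ^ 9 = 0 := by
    rw [hP, show 9 = 3 ^ 2 by norm_num, sub_pow_char_pow_of_commute 3 2 (Commute.one_right M),
      one_pow, show 3 ^ 2 = 9 by norm_num, h, sub_self]
  have hdet : P 0 0 * P 1 1 - P 0 1 * P 1 0 = 0 := by
    have := congrArg Matrix.det h9
    rw [Matrix.det_pow, Matrix.det_zero, Matrix.det_fin_two] at this
    exact pow_eq_zero_iff (n := 9) (by norm_num) |>.1 this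
  have hCH : P * P = (P 0 0 + P 1 1) • P := by
    ext i j
    fin_cases i <;> fin_cases j <;> simp [Matrix.mul_apply, Fin.sum_univ_two] <;>
      first | linear_combination hdet | linear_combination -hdet | ring
  have hpow : ∀ k : ℕ, P ^ (k + 1) = (P 0 0 + P 1 1) ^ k • P := by
    intro k
    induction k with
    | zero => simp
    | succ k ih => rw [pow_succ, ih, smul_mul_assoc, hCH, smul_smul, ← pow_succ]
  have h2 : P * P = 0 := by
    rw [hpow 8, smul_eq_zero] at h9
    rcases h9 with h9 | h9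
    · rw [hCH, pow_eq_zero_iff (by norm_num) |>.1 h9, zero_smul]
    · rw [h9, mul_zero]
  have h3 : P ^ 3 = 0 := by rw [pow_three, h2, mul_zero]
  have := sub_pow_char_of_commute 3 (Commute.one_right M)
  rw [← hP, h3, one_pow, eq_comm, sub_eq_zero] at this
  exact this

namespace SetupG2

variable {K : Type*} [Field K] [Fintype K] {m : ℕ} (S : SetupG2 K m)
include S

/-- The unipotent subgroup has exponent nine. -/
theorem pU_pow_nine {x : ↥(twistedG2 K (3 ^ m))} (hx : x ∈ S.pU) : x ^ 9 = 1 := by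
  obtain ⟨t, u, v, he⟩ := S.mem_pos (Subgroup.mem_subgroupOf.1 hx)
  refine Subtype.ext ?_
  rw [Subgroup.coe_pow, Subgroup.coe_one, he, show 9 = 3 * 3 by norm_num, pow_mul, S.word_sorted, S.cube,
    pow_three, S.four_mul six_pos, S.four_mul six_pos]
  convert S.four_zero (r := ![7, 6, 8, 9, 10, 11]) using 2
  ext <;> simp only [Prod.fst_add, Prod.snd_add, Prod.fst_zero, Prod.snd_zero]
  · ring
  · linear_combination (-((t ^ 3 ^ m) ^ 2 * t)) * S.three_zero
  · ring
  · linear_combination (-((t ^ 3 ^ m) ^ 3 * t ^ 2)) * S.three_zero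

/-- An element of order nine. -/
theorem exists_order_nine : ∃ x : ↥(twistedG2 K (3 ^ m)), orderOf x = 9 := by
  have := Fact.mk Nat.prime_three
  refine ⟨⟨_, (S.word_pos 1 0 0).2⟩, ?_⟩
  refine orderOf_eq_prime_pow (p := 3) (n := 1) (fun h => ?_) ?_
  · rw [pow_one] at h
    exact one_ne_zero ((S.word_cube_iff 1 0 0).1 (congrArg Subtype.val h))
  · exact S.pU_pow_nine (Subgroup.mem_subgroupOf.2 (S.word_pos 1 0 0))

/-- An element of order six. -/
theorem exists_order_six : ∃ x : ↥(twistedG2 K (3 ^ m)), orderOf x = 6 := by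
  have := Fact.mk Nat.prime_two
  have := Fact.mk Nat.prime_three
  have h2 : orderOf S.invol = 2 := orderOf_eq_prime (by rw [sq, S.invol_sq]) S.invol_ne
  have h3 : orderOf (S.psiG (slU 1)) = 3 := by
    refine orderOf_eq_prime ?_ (fun h => ?_)
    · rw [← map_pow]
      have : (slU (1 : K)) ^ 3 = 1 := by
        apply Subtype.ext
        rw [Matrix.SpecialLinearGroup.coe_pow, Matrix.SpecialLinearGroup.coe_one]
        ext i j
        fin_cases i <;> fin_cases j <;> simp [slU, pow_succ, Matrix.mul_apply, Fin.sum_univ_two]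
        linear_combination S.three_zero
      rw [this, map_one]
    · rcases S.psiG_eq_one.1 h with e | e <;>
        have := congrArg (fun X : Matrix.SpecialLinearGroup (Fin 2) K => X.1 0 1) e <;>
        simp [slU, slD] at this
  exact ⟨S.invol * S.psiG (slU 1), by
    rw [(S.invol_commute_psiG _).orderOf_mul_eq_mul_orderOf_of_coprime (by rw [h2, h3]; decide), h2, h3]⟩

/-- No element has order eighteen. -/
theorem orderOf_ne_eighteen (hm : 1 ≤ m) (g : ↥(twistedG2 K (3 ^ m))) : orderOf g ≠ 18 := by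
  classical
  have := S.char
  intro hg
  have hz : g ^ 9 * g ^ 9 = 1 := by rw [← _root_.pow_add, ← orderOf_dvd_iff_pow_eq_one, hg]
  have hz1 : g ^ 9 ≠ 1 := fun h => by have := orderOf_dvd_of_pow_eq_one h; rw [hg] at this; omega
  obtain ⟨a, ha⟩ := S.isConj_invol hm hz hz1
  set k := a⁻¹ * g * a with hk
  have hok : orderOf k = 18 := by
    rw [hk, show orderOf (a⁻¹ * g * a) = orderOf g by simpa using MulEquiv.orderOf_eq (MulAut.conj a⁻¹) g, hg]
  have hk9 : k ^ 9 = S.invol := by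
    rw [hk, show a⁻¹ * g * a = a⁻¹ * g * (a⁻¹)⁻¹ by rw [inv_inv], conj_pow, inv_inv, ← ha]
    group
  obtain ⟨X, hX⟩ := S.mem_centralizer_invol (g := k) (by rw [← hk9]; exact ((Commute.refl k).pow_right 9).eq)
  have hk2 : k ^ 2 = S.psiG (X ^ 2) := by
    rcases hX with e | e
    · rw [e, map_pow]
    · rw [e, (S.invol_commute_psiG X).mul_pow, sq S.invol, S.invol_sq, one_mul, map_pow]
  have h18 : S.psiG (X ^ 18) = 1 := by
    rw [show 18 = 2 * 9 by norm_num, pow_mul, map_pow, ← hk2, ← pow_mul, ← orderOf_dvd_iff_pow_eq_one, hok]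
  have h36 : X ^ 36 = 1 := by
    rcases S.psiG_eq_one.1 h18 with e | e
    · rw [show 36 = 18 * 2 by norm_num, pow_mul, e, one_pow]
    · rw [show 36 = 18 * 2 by norm_num, pow_mul, e, sq, slD_sq (S := S)]
  have h12 : (X ^ 12 : Matrix.SpecialLinearGroup (Fin 2) K) = 1 := by
    apply Subtype.ext
    rw [Matrix.SpecialLinearGroup.coe_pow, Matrix.SpecialLinearGroup.coe_one,
      show 12 = 4 * 3 by norm_num, pow_mul]
    refine slTwo_three ?_
    rw [← pow_mul, ← Matrix.SpecialLinearGroup.coe_pow, show 4 * 9 = 36 by norm_num, h36,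
      Matrix.SpecialLinearGroup.coe_one]
  have : k ^ 12 = 1 := by
    rw [show 12 = 2 * 6 by norm_num, pow_mul, hk2, ← map_pow, ← pow_mul, show 2 * 6 = 12 by norm_num, h12, map_one]
  have := orderOf_dvd_of_pow_eq_one this
  rw [hok] at this
  omega

/-- The possible element orders. -/
theorem orderOf_cases (hm : 1 ≤ m) (g : ↥(twistedG2 K (3 ^ m))) :
    orderOf g ∣ 6 ∨ orderOf g ∣ 9 ∨ orderOf g ∣ 3 ^ (2 * m + 1) - 1 ∨
      orderOf g ∣ (3 ^ (2 * m + 1) + 1) / 2 ∨ orderOf g ∣ 3 ^ (2 * m + 1) - 3 ^ (m + 1) + 1 ∨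
      orderOf g ∣ 3 ^ (2 * m + 1) + 3 ^ (m + 1) + 1 := by
  classical
  obtain ⟨hq27, hr9, hrr, h3q, hqodd, h3r⟩ := S.arith hm
  set q := 3 ^ (2 * m + 1) with hq
  set r := 3 ^ (m + 1) with hr
  set G := Nat.card ↥(twistedG2 K (3 ^ m)) with hG
  by_cases hex : ∃ l, l.Prime ∧ 5 ≤ l ∧ l ∣ orderOf g
  · obtain ⟨l, hl, hl5, hlg⟩ := hex
    have := Fact.mk hl
    set v := G.factorization l
    have hfull : l ^ v ∣ q ^ 3 * (q - 1) * (q + 1) * (q * q - q + 1) := by
      rw [← S.card_factor]; exact Nat.ordProj_dvd G l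
    have hlG : l ∣ q ^ 3 * (q - 1) * (q + 1) * (q * q - q + 1) := by
      rw [← S.card_factor]; exact hlg.trans (orderOf_dvd_natCard g)
    have hlq : ¬ l ∣ q := fun h => by
      have := (Nat.prime_dvd_prime_iff_eq hl Nat.prime_three).1 (hl.dvd_of_dvd_pow h); omega
    have hcop : ∀ a, ¬ l ∣ a → Nat.Coprime (l ^ v) a := fun a h =>
      Nat.Coprime.pow_left v (hl.coprime_iff_not_dvd.2 h)
    have hl2 : ¬ l ∣ 2 := fun h => by have := Nat.le_of_dvd (by norm_num) h; omega
    by_cases hn : l ∣ q * q - q + 1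
    · obtain ⟨-, -, h1, h2, h3⟩ := S.singer_prime hm hl hn
      obtain ⟨hprod, hco, -⟩ := S.singer_orders hm (Or.inl ⟨rfl, rfl⟩ :
        (q - r + 1 = q - r + 1 ∧ q + r + 1 = q + r + 1) ∨ (q + r + 1 = q - r + 1 ∧ q - r + 1 = q + r + 1))
      have hvn : l ^ v ∣ q * q - q + 1 := (hcop _ (fun h => (hl.dvd_mul.1 h).elim
        (fun h => (hl.dvd_mul.1 h).elim (fun e => hlq (hl.dvd_of_dvd_pow e)) h1) h2)).dvd_of_dvd_mul_left hfull
      rw [← hprod] at hn hvn
      rcases hl.dvd_mul.1 hn with h | h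
      · obtain ⟨A, hA, hAc, -, -, hexp⟩ := S.singer_torus hm (N := q - r + 1) (Or.inl rfl)
        refine Or.inr (Or.inr (Or.inr (Or.inr (Or.inl (orderOf_dvd_of_torus hA ?_ hexp hlg)))))
        rw [hAc]
        exact (hcop _ fun h' => hl.one_lt.ne' (Nat.dvd_one.1 (hco ▸ Nat.dvd_gcd h h'))).dvd_of_dvd_mul_right hvn
      · obtain ⟨A, hA, hAc, -, -, hexp⟩ := S.singer_torus hm (N := q + r + 1) (Or.inr rfl)
        refine Or.inr (Or.inr (Or.inr (Or.inr (Or.inr (orderOf_dvd_of_torus hA ?_ hexp hlg)))))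
        rw [hAc]
        exact (hcop _ fun h' => hl.one_lt.ne' (Nat.dvd_one.1 (hco ▸ Nat.dvd_gcd h' h))).dvd_of_dvd_mul_left hvn
    have hpm := (hcop _ hn).dvd_of_dvd_mul_right hfull
    rcases (hl.dvd_mul.1 hlG).resolve_right hn |> hl.dvd_mul.1 with h | h
    · have h1 : l ∣ q - 1 := (hl.dvd_mul.1 h).resolve_left fun e => hlq (hl.dvd_of_dvd_pow e)
      have hnp : ¬ l ∣ q + 1 := fun e => hl2 (by
        simpa [show q + 1 - (q - 1) = 2 by omega] using Nat.dvd_sub e h1)
      obtain ⟨A, hA, hAc, -, -, hexp⟩ := S.split_torus hm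
      refine Or.inr (Or.inr (Or.inl (orderOf_dvd_of_torus hA ?_ hexp hlg)))
      rw [hAc]
      refine (hcop 2 hl2).dvd_of_dvd_mul_left ?_
      rw [Nat.mul_div_cancel' (show 2 ∣ q - 1 by omega)]
      exact (hcop _ fun e => hlq (hl.dvd_of_dvd_pow e)).dvd_of_dvd_mul_left
        ((hcop _ hnp).dvd_of_dvd_mul_right hpm)
    · have hnm : ¬ l ∣ q - 1 := fun e => hl2 (by
        simpa [show q + 1 - (q - 1) = 2 by omega] using Nat.dvd_sub h e)
      obtain ⟨A, hA, hAc, -, -, -, hexp⟩ := S.klein_torus hm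
      refine Or.inr (Or.inr (Or.inr (Or.inl (orderOf_dvd_of_torus hA ?_ hexp hlg))))
      rw [hAc]
      refine (hcop 4 fun e => hl2 (hl.dvd_of_dvd_pow (show l ∣ 2 ^ 2 from e))).dvd_of_dvd_mul_left ?_
      have := S.card_mod_four
      rw [S.card, ← hq] at this
      rw [Nat.mul_div_cancel' (show 4 ∣ q + 1 by omega)]
      exact (hcop _ fun e => (hl.dvd_mul.1 e).elim (fun e => hlq (hl.dvd_of_dvd_pow e)) hnm).dvd_of_dvd_mul_left hpm
  -- only the primes two and three
  push Not at hex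
  have := Fact.mk Nat.prime_two
  have := Fact.mk Nat.prime_three
  have hp2 : ∀ x : ↥(twistedG2 K (3 ^ m)), ∀ a, orderOf x = 2 ^ a → a ≤ 1 := by
    intro x a hx
    obtain ⟨P, hP⟩ := (IsPGroup.of_card (p := 2) (n := a) (by rw [Nat.card_zpowers, hx]) :
      IsPGroup 2 ↥(Subgroup.zpowers x)).exists_le_sylow
    have h : x ^ 2 = 1 := by rw [sq]; exact (S.sylow_two P).2 x (hP (Subgroup.mem_zpowers x))
    have h := orderOf_dvd_of_pow_eq_one h
    rw [hx] at h
    exact (Nat.pow_dvd_pow_iff_le_right (x := 2) (k := a) (l := 1) (by norm_num)).1 (by rwa [pow_one])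
  have hp3 : ∀ x : ↥(twistedG2 K (3 ^ m)), ∀ b, orderOf x = 3 ^ b → b ≤ 2 := by
    intro x b hx
    obtain ⟨P, hP⟩ := (IsPGroup.of_card (p := 3) (n := b) (by rw [Nat.card_zpowers, hx]) :
      IsPGroup 3 ↥(Subgroup.zpowers x)).exists_le_sylow
    obtain ⟨P₀, hP₀⟩ := S.exists_sylow
    obtain ⟨a, ha⟩ := MulAction.exists_smul_eq ↥(twistedG2 K (3 ^ m)) P P₀
    have h : a * x * a⁻¹ ∈ S.pU := by
      rw [← hP₀, ← ha, Sylow.coe_subgroup_smul]
      exact ⟨x, hP (Subgroup.mem_zpowers x), rfl⟩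
    have h9 := S.pU_pow_nine h
    rw [conj_pow, conj_eq_one_iff] at h9
    have h9 := orderOf_dvd_of_pow_eq_one h9
    rw [hx, show (9 : ℕ) = 3 ^ 2 by norm_num] at h9
    exact (Nat.pow_dvd_pow_iff_le_right (by norm_num)).1 h9
  set d := orderOf g with hd
  have hd0 : d ≠ 0 := (orderOf_pos g).ne'
  set a := d.factorization 2
  set b := d.factorization 3
  have hdd : d = 2 ^ a * 3 ^ b := by
    have h3 : ∀ l ∈ d.primeFactors, l = 2 ∨ l = 3 := fun l hl => by
      obtain ⟨hl, hld, -⟩ := Nat.mem_primeFactors.1 hl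
      have := hex l hl
      have := hl.two_le
      have : l ≠ 4 := fun h => by rw [h] at hl; norm_num at hl
      by_contra hne
      push Not at hne
      exact this (by omega)
    conv_lhs => rw [← Nat.prod_factorization_pow_eq_self hd0]
    rw [Finsupp.prod_of_support_subset (s := {2, 3}) _ (fun l hl => by
      rw [Nat.support_factorization] at hl; simpa using h3 l hl) _ (fun _ _ => pow_zero _),
      Finset.prod_pair (by norm_num)]
  have ha1 : a ≤ 1 := hp2 (g ^ 3 ^ b) a (by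
    rw [orderOf_pow_of_dvd (by positivity) (by rw [← hd, hdd]; exact dvd_mul_left _ _), ← hd, hdd,
      Nat.mul_div_cancel _ (by positivity)])
  have hb2 : b ≤ 2 := hp3 (g ^ 2 ^ a) b (by
    rw [orderOf_pow_of_dvd (by positivity) (by rw [← hd, hdd]; exact dvd_mul_right _ _), ← hd, hdd,
      Nat.mul_div_cancel_left _ (by positivity)])
  have h18 := S.orderOf_ne_eighteen hm g
  rw [← hd, hdd] at h18
  rw [hdd]
  interval_cases a <;> interval_cases b <;> first | (norm_num at h18; done) | norm_num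

/-- The element orders. -/
theorem exists_orderOf_iff (hm : 1 ≤ m) (d : ℕ) :
    (∃ g : ↥(twistedG2 K (3 ^ m)), orderOf g = d) ↔
      (d ∣ 6 ∨ d ∣ 9 ∨ d ∣ 3 ^ (2 * m + 1) - 1 ∨ d ∣ (3 ^ (2 * m + 1) + 1) / 2 ∨
        d ∣ 3 ^ (2 * m + 1) - 3 ^ (m + 1) + 1 ∨ d ∣ 3 ^ (2 * m + 1) + 3 ^ (m + 1) + 1) := by
  refine ⟨fun ⟨g, hg⟩ => hg ▸ S.orderOf_cases hm g, fun h => ?_⟩
  have hdiv : ∀ {N : ℕ}, (∃ g : ↥(twistedG2 K (3 ^ m)), orderOf g = N) → d ∣ N →
      ∃ g : ↥(twistedG2 K (3 ^ m)), orderOf g = d := by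
    rintro N ⟨g, rfl⟩ hd
    exact ⟨g ^ (orderOf g / d), orderOf_pow_orderOf_div (orderOf_pos g).ne' hd⟩
  rcases h with h | h | h | h | h | h
  · exact hdiv S.exists_order_six h
  · exact hdiv S.exists_order_nine h
  · obtain ⟨b, hb⟩ := IsCyclic.exists_generator (α := Kˣ)
    exact hdiv ⟨S.tauG b, by
      rw [orderOf_injective S.tauG S.tauG_inj, orderOf_eq_card_of_forall_mem_zpowers hb, S.card_units_K]⟩ h
  · obtain ⟨A, -, -, -, -, hg, -⟩ := S.klein_torus hm
    exact hdiv hg h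
  · exact hdiv (S.exists_singer hm (Or.inl rfl)) h
  · exact hdiv (S.exists_singer hm (Or.inr rfl)) h

end SetupG2

end CfsgLib.Chev
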