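import Mathlib
import Cfsg.Agent.Lib.Chev.ReeSinger
import Cfsg.Agent.Lib.Chev.ReeOrders
import Cfsg.Agent.Lib.Classical.SLTwoSylow

/-!
Numbers of elements of orders two, three, six and nine in ²G₂(q).
-/

set_option autoImplicit false
set_option maxHeartbeats 800000
set_option maxRecDepth 100000
set_option linter.unusedSectionVars false

namespace CfsgLib.Chev

open Cfsg.Lie

/-- Bundling a count over subgroups with trivial intersections. -/
theorem card_orderOf_sylow {G : Type*} [Group G] [Finite G] {p : ℕ} [Fact p.Prime]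
    (hTI : ∀ P Q : Sylow p G, P ≠ Q → (P : Subgroup G) ⊓ Q = ⊥) (P₀ : Sylow p G) {d n : ℕ}
    (hd : d = p ^ n) (hd1 : d ≠ 1) :
    Nat.card {g : G // orderOf g = d} =
      Nat.card (Sylow p G) * Nat.card {x : ↥(P₀ : Subgroup G) // orderOf x = d} := by
  classical
  let e : ∀ P : Sylow p G, {x : ↥(P : Subgroup G) // orderOf x = d} ≃
      {x : ↥(P₀ : Subgroup G) // orderOf x = d} := fun P =>
    (Sylow.equiv P P₀).toEquiv.subtypeEquiv fun x => by
      show orderOf x = d ↔ orderOf (Sylow.equiv P P₀ x) = d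
      rw [MulEquiv.orderOf_eq]
  let F : (Σ P : Sylow p G, {x : ↥(P : Subgroup G) // orderOf x = d}) → {g : G // orderOf g = d} :=
    fun s => ⟨(s.2.1 : G), (Subgroup.orderOf_coe _).trans s.2.2⟩
  have hF : Function.Bijective F := by
    constructor
    · rintro ⟨P, x⟩ ⟨Q, y⟩ h
      have h' : (x.1 : G) = (y.1 : G) := congrArg Subtype.val h
      have hPQ : P = Q := by
        by_contra hne
        have hmem : (x.1 : G) ∈ (P : Subgroup G) ⊓ Q := ⟨x.1.2, h' ▸ y.1.2⟩
        rw [hTI P Q hne, Subgroup.mem_bot] at hmem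
        apply hd1
        rw [← x.2, show x.1 = 1 from Subtype.ext hmem, orderOf_one]
      subst hPQ
      exact congrArg _ (Subtype.ext (Subtype.ext h'))
    · rintro ⟨g, hg⟩
      obtain ⟨P, hP⟩ := (IsPGroup.of_card (p := p) (n := n) (by rw [Nat.card_zpowers, hg, hd]) :
        IsPGroup p ↥(Subgroup.zpowers g)).exists_le_sylow
      exact ⟨⟨P, ⟨⟨g, hP (Subgroup.mem_zpowers g)⟩, by rw [← Subgroup.orderOf_coe]; exact hg⟩⟩,
        Subtype.ext rfl⟩
  rw [← Nat.card_eq_of_bijective F hF, Nat.card_congr ((Equiv.sigmaCongrRight e).trans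
    (Equiv.sigmaEquivProd _ _)), Nat.card_prod]

/-- The elements of order three of `SL₂` in characteristic three. -/
theorem card_slTwo_three {F : Type*} [Field F] [Fintype F] [CharP F 3] :
    Nat.card {X : Matrix.SpecialLinearGroup (Fin 2) F // orderOf X = 3} = Fintype.card F ^ 2 - 1 := by
  classical
  have := Fact.mk Nat.prime_three
  have h3 : (3 : F) = 0 := by exact_mod_cast CharP.cast_eq_zero F 3
  let fM : F × F → Matrix (Fin 2) (Fin 2) F := fun p =>
    if p.2 = 0 then !![1, 0; p.1, 1] else !![1 + p.1, p.2; -p.1 ^ 2 / p.2, 1 - p.1]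
  have hfM : ∀ p, (fM p).det = 1 := fun p => by
    by_cases hb : p.2 = 0
    · simp [fM, hb, Matrix.det_fin_two_of]
    · simp only [fM, hb, if_false, Matrix.det_fin_two_of]; field_simp; ring
  let f : F × F → Matrix.SpecialLinearGroup (Fin 2) F := fun p => ⟨fM p, hfM p⟩
  have hf3 : ∀ p, f p ^ 3 = 1 := by
    intro p
    apply Subtype.ext
    rw [Matrix.SpecialLinearGroup.coe_pow, Matrix.SpecialLinearGroup.coe_one]
    obtain ⟨N, hN, hNN⟩ : ∃ N : Matrix (Fin 2) (Fin 2) F, (f p).1 = 1 + N ∧ N * N = 0 := by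
      refine ⟨(f p).1 - 1, by simp, ?_⟩
      by_cases hb : p.2 = 0
      · simp only [f, fM, hb, if_true]
        ext i j
        fin_cases i <;> fin_cases j <;> simp [Matrix.mul_apply, Fin.sum_univ_two]
      · simp only [f, fM, hb, if_false]
        ext i j
        fin_cases i <;> fin_cases j <;> simp [Matrix.mul_apply, Fin.sum_univ_two] <;>
          field_simp <;> ring
    rw [hN, pow_three]
    simp only [mul_add, add_mul, one_mul, mul_one, hNN, add_zero]
    ext i j
    simp only [Matrix.add_apply]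
    linear_combination (N i j) * h3
  have hf1 : ∀ p, f p = 1 ↔ p = 0 := by
    intro p
    constructor
    · intro h
      by_cases hb : p.2 = 0
      · have e := congrArg (fun X : Matrix.SpecialLinearGroup (Fin 2) F => X.1 1 0) h
        simp [f, fM, hb] at e
        exact Prod.ext e hb
      · have e := congrArg (fun X : Matrix.SpecialLinearGroup (Fin 2) F => X.1 0 1) h
        simp [f, fM, hb] at e
    · rintro rfl
      apply Subtype.ext
      simp only [f, fM, Prod.snd_zero, if_true, Prod.fst_zero]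
      exact Matrix.one_fin_two.symm
  let g : {p : F × F // p ≠ 0} → {X : Matrix.SpecialLinearGroup (Fin 2) F // orderOf X = 3} :=
    fun p => ⟨f p.1, orderOf_eq_prime (hf3 _) fun h => p.2 ((hf1 _).1 h)⟩
  rw [← Nat.card_eq_of_bijective g ⟨?_, ?_⟩]
  · rw [Nat.card_eq_fintype_card, Fintype.card_subtype_compl, Fintype.card_subtype_eq,
      Fintype.card_prod, sq]
  · rintro ⟨⟨a, b⟩, hp⟩ ⟨⟨a', b'⟩, hp'⟩ h
    have h' : f (a, b) = f (a', b') := congrArg Subtype.val h
    have e00 := congrArg (fun X : Matrix.SpecialLinearGroup (Fin 2) F => X.1 0 0) h'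
    have e01 := congrArg (fun X : Matrix.SpecialLinearGroup (Fin 2) F => X.1 0 1) h'
    have e10 := congrArg (fun X : Matrix.SpecialLinearGroup (Fin 2) F => X.1 1 0) h'
    apply Subtype.ext
    by_cases hb : b = 0 <;> by_cases hb' : b' = 0
    · subst hb; subst hb'
      have e : fM (a, (0 : F)) 1 0 = fM (a', (0 : F)) 1 0 := e10
      simp [fM] at e
      simp [e]
    · exfalso
      simp [f, fM, hb, hb'] at e01
      exact hb' e01.symm
    · exfalso
      simp [f, fM, hb, hb'] at e01
    · simp [f, fM, hb, hb'] at e00 e01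
      simp [e00, e01]
  · rintro ⟨X, hX⟩
    have hX3 : X ^ 3 = 1 := hX ▸ pow_orderOf_eq_one X
    have hXm : X.1 ^ 3 = 1 := by
      rw [← Matrix.SpecialLinearGroup.coe_pow, hX3, Matrix.SpecialLinearGroup.coe_one]
    have hN : (X.1 - 1) ^ 3 = 0 := by
      rw [sub_pow_char_of_commute 3 (Commute.one_right X.1), hXm, one_pow, sub_self]
    have hd0 : (X.1 - 1).det = 0 := by
      have := congrArg Matrix.det hN
      rw [Matrix.det_pow, Matrix.det_zero] at this
      exact (pow_eq_zero_iff (n := 3) (by norm_num)).1 this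
    have hdet := X.2
    rw [Matrix.det_fin_two] at hdet hd0
    simp at hd0
    have htr : X.1 1 1 = 2 - X.1 0 0 := by linear_combination hdet - hd0
    have hp0 : ∀ a b : F, f (a, b) = X → (a, b) ≠ 0 := fun a b h he => by
      rw [he, (hf1 0).2 rfl] at h
      rw [← h, orderOf_one] at hX
      omega
    by_cases hb : X.1 0 1 = 0
    · have ha : X.1 0 0 = 1 := by
        rw [hb, htr] at hd0
        have : (X.1 0 0 - 1) ^ 2 = 0 := by linear_combination -hd0
        exact sub_eq_zero.1 ((pow_eq_zero_iff two_ne_zero).1 this)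
      have hfe : f (X.1 1 0, 0) = X := by
        apply Subtype.ext
        ext i j
        fin_cases i <;> fin_cases j <;> simp [f, fM, ha, hb, htr]
        norm_num
      exact ⟨⟨_, hp0 _ _ hfe⟩, Subtype.ext hfe⟩
    · have hfe : f (X.1 0 0 - 1, X.1 0 1) = X := by
        apply Subtype.ext
        ext i j
        fin_cases i <;> fin_cases j <;> simp [f, fM, hb]
        · field_simp
          rw [htr] at hdet
          linear_combination hdet
        · rw [htr]; ring
      exact ⟨⟨_, hp0 _ _ hfe⟩, Subtype.ext hfe⟩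

namespace SetupG2

variable {K : Type*} [Field K] [Fintype K] {m : ℕ} (S : SetupG2 K m)
include S

/-- The centraliser of an involution has order `q (q² - 1)`. -/
theorem card_centralizer_invol :
    Nat.card ↥(Subgroup.centralizer {S.invol}) =
      3 ^ (2 * m + 1) * ((3 ^ (2 * m + 1)) ^ 2 - 1) := by
  classical
  have hz : Nat.card ↥(Subgroup.zpowers S.invol) = 2 := by
    rw [Nat.card_zpowers]
    exact orderOf_eq_prime (by rw [sq, S.invol_sq]) S.invol_ne
  have hker : Nat.card ↥S.centHom.ker = 2 := by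
    have hd : (slD (-1) : Matrix.SpecialLinearGroup (Fin 2) K) ≠ 1 := fun h => by
      have := congrArg (fun Y : Matrix.SpecialLinearGroup (Fin 2) K => Y.1 0 0) h
      simp [slD] at this
      exact S.two_ne_zero' (by linear_combination -this)
    show Nat.card ↥(↑S.centHom.ker : Set (↥(Subgroup.zpowers S.invol) × Matrix.SpecialLinearGroup (Fin 2) K)) = 2
    have e : (↑S.centHom.ker : Set (↥(Subgroup.zpowers S.invol) × Matrix.SpecialLinearGroup (Fin 2) K)) =
        {(1, 1), (1, slD (-1))} := by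
      ext ⟨z, A⟩
      simp only [SetLike.mem_coe, MonoidHom.mem_ker, Set.mem_insert_iff, Set.mem_singleton_iff,
        Prod.mk.injEq]
      constructor
      · intro h
        obtain ⟨rfl, h2⟩ := S.centHom_ker h
        rcases h2 with rfl | rfl
        · exact Or.inl ⟨rfl, rfl⟩
        · exact Or.inr ⟨rfl, rfl⟩
      · rintro (⟨rfl, rfl⟩ | ⟨rfl, rfl⟩)
        · exact map_one _
        · rw [centHom_apply]
          simp [S.psiG_slD]
    rw [e, Nat.card_coe_set_eq, Set.ncard_pair]
    intro h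
    exact hd (Prod.ext_iff.1 h).2.symm
  have h := Subgroup.card_mul_index S.centHom.ker
  rw [Subgroup.index_ker, hker, Nat.card_prod, hz, CfsgLib.Classical.card_sl_two_eq, S.card,
    ← S.centralizer_eq] at h
  omega

/-- The number of involutions. -/
theorem card_involutions (hm : 1 ≤ m) :
    Nat.card {g : ↥(twistedG2 K (3 ^ m)) // orderOf g = 2} =
      (3 ^ (2 * m + 1)) ^ 2 * ((3 ^ (2 * m + 1)) ^ 2 - 3 ^ (2 * m + 1) + 1) := by
  classical
  obtain ⟨hq27, -, -, -, -, -⟩ := S.arith hm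
  have h := ncard_conjugates (⊤ : Subgroup ↥(twistedG2 K (3 ^ m))) S.invol
  rw [top_inf_eq, Subgroup.card_top, S.card_centralizer_invol, S.card_factor] at h
  have e : {x : ↥(twistedG2 K (3 ^ m)) | ∃ n ∈ (⊤ : Subgroup ↥(twistedG2 K (3 ^ m))),
      n * S.invol * n⁻¹ = x} = {g | orderOf g = 2} := by
    ext g
    simp only [Subgroup.mem_top, true_and, Set.mem_ofPred_eq]
    constructor
    · rintro ⟨n, rfl⟩
      rw [show n * S.invol * n⁻¹ = MulAut.conj n S.invol from rfl, MulEquiv.orderOf_eq]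
      exact orderOf_eq_prime (by rw [sq, S.invol_sq]) S.invol_ne
    · intro hg
      refine S.isConj_invol hm ?_ ?_
      · rw [← sq, ← hg, pow_orderOf_eq_one]
      · rintro rfl
        rw [orderOf_one] at hg
        omega
  rw [e, ← Nat.card_coe_set_eq] at h
  show Nat.card ↥{g : ↥(twistedG2 K (3 ^ m)) | orderOf g = 2} = _
  set q := 3 ^ (2 * m + 1)
  have hq : q ^ 2 - 1 = (q - 1) * (q + 1) := by
    rw [mul_comm, ← Nat.sq_sub_sq, one_pow]
  rw [hq] at h
  rw [show q ^ 2 - q + 1 = q * q - q + 1 by rw [sq]]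
  apply Nat.eq_of_mul_eq_mul_right (m := q * ((q - 1) * (q + 1)))
  · have : 0 < q - 1 := by omega
    positivity
  · rw [h]; ring

/-- The normaliser of the maximal unipotent subgroup. -/
theorem normalizer_pU :
    Subgroup.normalizer (S.pU : Set ↥(twistedG2 K (3 ^ m))) = S.pB := by
  refine le_antisymm (fun g hg => ?_) (fun g hg => ?_)
  · by_contra hgB
    have : S.pU = ⊥ := by
      rw [eq_bot_iff]
      intro x hx
      rw [Subgroup.mem_bot]
      refine S.conj_inf hgB hx ?_
      have := (Subgroup.mem_normalizer_iff.1 (Subgroup.inv_mem _ hg) x).1 hx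
      simpa using this
    have h := S.card_pU
    rw [this, Subgroup.card_bot] at h
    have : 1 < (3 ^ (2 * m + 1)) ^ 3 :=
      Nat.one_lt_pow (by norm_num) (Nat.one_lt_pow (by omega) (by norm_num))
    omega
  · rw [Subgroup.mem_normalizer_iff]
    intro x
    refine ⟨fun hx => S.pB_normalizes hg hx, fun hx => ?_⟩
    have := S.pB_normalizes (Subgroup.inv_mem _ hg) hx
    simpa [mul_assoc] using this

/-- The number of Sylow 3-subgroups. -/
theorem card_sylow_three (hm : 1 ≤ m) :
    Nat.card (Sylow 3 ↥(twistedG2 K (3 ^ m))) = (3 ^ (2 * m + 1)) ^ 3 + 1 := by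
  have := Fact.mk Nat.prime_three
  obtain ⟨P₀, hP₀⟩ := S.exists_sylow
  rw [P₀.card_eq_index_normalizer]
  show (Subgroup.normalizer ((P₀ : Subgroup ↥(twistedG2 K (3 ^ m))) : Set ↥(twistedG2 K (3 ^ m)))).index = _
  rw [hP₀, S.normalizer_pU]
  have h := S.pB.card_mul_index
  rw [S.card_pB, S.card_factor] at h
  obtain ⟨hq27, -, -, -, -, -⟩ := S.arith hm
  set q := 3 ^ (2 * m + 1)
  have e : q ^ 3 + 1 = (q + 1) * (q * q - q + 1) := by
    have hqq : q ≤ q * q := Nat.le_mul_self q
    zify [hqq]; ring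
  rw [e]
  apply Nat.eq_of_mul_eq_mul_left (n := q ^ 3 * (q - 1))
  · have : 0 < q - 1 := by omega
    positivity
  · rw [h]; ring

/-- The number of elements of order three. -/
theorem card_three (hm : 1 ≤ m) :
    Nat.card {g : ↥(twistedG2 K (3 ^ m)) // orderOf g = 3} =
      ((3 ^ (2 * m + 1)) ^ 2 - 1) * ((3 ^ (2 * m + 1)) ^ 3 + 1) := by
  have := Fact.mk Nat.prime_three
  obtain ⟨P₀, hP₀⟩ := S.exists_sylow
  rw [card_orderOf_sylow S.sylow_inf P₀ (n := 1) (by norm_num) (by norm_num), S.card_sylow_three hm,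
    mul_comm]
  congr 1
  rw [← S.card_order_three, hP₀]
  exact Nat.card_congr ((Subgroup.subgroupOfEquivOfLe inf_le_right).toEquiv.subtypeEquiv fun x => by
    show orderOf x = 3 ↔ orderOf (Subgroup.subgroupOfEquivOfLe inf_le_right x) = 3
    rw [MulEquiv.orderOf_eq])

/-- The number of elements of order nine. -/
theorem card_nine (hm : 1 ≤ m) :
    Nat.card {g : ↥(twistedG2 K (3 ^ m)) // orderOf g = 9} =
      (3 ^ (2 * m + 1)) ^ 2 * (3 ^ (2 * m + 1) - 1) * ((3 ^ (2 * m + 1)) ^ 3 + 1) := by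
  classical
  have := Fact.mk Nat.prime_three
  obtain ⟨hq27, -, -, -, -, -⟩ := S.arith hm
  obtain ⟨P₀, hP₀⟩ := S.exists_sylow
  rw [card_orderOf_sylow S.sylow_inf P₀ (n := 2) (by norm_num) (by norm_num), S.card_sylow_three hm,
    mul_comm]
  congr 1
  rw [hP₀]
  have h3 : Nat.card {x : ↥S.pU // orderOf x = 3} = (3 ^ (2 * m + 1)) ^ 2 - 1 := by
    rw [← S.card_order_three]
    exact Nat.card_congr ((Subgroup.subgroupOfEquivOfLe inf_le_right).toEquiv.subtypeEquiv fun x => by
      show orderOf x = 3 ↔ orderOf (Subgroup.subgroupOfEquivOfLe inf_le_right x) = 3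
      rw [MulEquiv.orderOf_eq])
  have hcases : ∀ x : ↥S.pU, orderOf x = 1 ∨ orderOf x = 3 ∨ orderOf x = 9 := by
    intro x
    have h : orderOf x ∣ 3 ^ 2 := orderOf_dvd_of_pow_eq_one (Subtype.ext (S.pU_pow_nine x.2))
    obtain ⟨i, hi, he⟩ := (Nat.dvd_prime_pow Nat.prime_three).1 h
    interval_cases i <;> simp [he]
  have hsum : Nat.card ↥S.pU = 1 + Nat.card {x : ↥S.pU // orderOf x = 3} +
      Nat.card {x : ↥S.pU // orderOf x = 9} := by
    have : Fintype ↥S.pU := Fintype.ofFinite _
    rw [Nat.card_eq_fintype_card (α := {x : ↥S.pU // orderOf x = 3}),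
      Nat.card_eq_fintype_card (α := {x : ↥S.pU // orderOf x = 9}),
      Fintype.card_subtype, Fintype.card_subtype, Nat.card_eq_fintype_card (α := ↥S.pU)]
    have hu : (Finset.univ : Finset ↥S.pU) = {1} ∪ Finset.univ.filter (fun x => orderOf x = 3) ∪
        Finset.univ.filter (fun x => orderOf x = 9) := by
      ext x
      simp only [Finset.mem_univ, Finset.mem_union, Finset.mem_singleton, Finset.mem_filter, true_and,
        true_iff]
      rcases hcases x with h | h | h
      · exact Or.inl (Or.inl (orderOf_eq_one_iff.1 h))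
      · exact Or.inl (Or.inr h)
      · exact Or.inr h
    rw [← Finset.card_univ]
    conv_lhs => rw [hu]
    rw [Finset.card_union_of_disjoint, Finset.card_union_of_disjoint, Finset.card_singleton]
    · rw [Finset.disjoint_singleton_left]
      simp
    · rw [Finset.disjoint_left]
      intro x hx hx9
      simp only [Finset.mem_union, Finset.mem_singleton, Finset.mem_filter, Finset.mem_univ, true_and] at hx hx9
      rcases hx with rfl | hx
      · rw [orderOf_one] at hx9; omega
      · omega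
  rw [S.card_pU, h3] at hsum
  set q := 3 ^ (2 * m + 1)
  have e : q ^ 2 * (q - 1) = q ^ 3 - q ^ 2 := by rw [Nat.mul_sub, mul_one, ← pow_succ]
  have : 1 ≤ q ^ 2 := Nat.one_le_pow _ _ (by omega)
  omega

/-- The elements of order three centralising the involution. -/
theorem card_three_centralizer :
    Nat.card {t : ↥(twistedG2 K (3 ^ m)) // orderOf t = 3 ∧ Commute t S.invol} =
      (3 ^ (2 * m + 1)) ^ 2 - 1 := by
  classical
  have := Fact.mk Nat.prime_three
  have := S.char
  rw [← S.card, ← card_slTwo_three (F := K)]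
  have hψ : ∀ X : Matrix.SpecialLinearGroup (Fin 2) K, orderOf X = 3 → orderOf (S.psiG X) = 3 := by
    intro X hX
    refine orderOf_eq_prime (by rw [← map_pow, show X ^ 3 = 1 from orderOf_dvd_iff_pow_eq_one.1 (dvd_of_eq hX), map_one]) fun h => ?_
    rcases S.psiG_eq_one.1 h with rfl | rfl
    · rw [orderOf_one] at hX; omega
    · have : orderOf (slD (-1) : Matrix.SpecialLinearGroup (Fin 2) K) ∣ 2 :=
        orderOf_dvd_of_pow_eq_one (by rw [sq, S.slD_sq])
      rw [hX] at this
      omega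
  symm
  refine Nat.card_eq_of_bijective (fun X => ⟨S.psiG X.1, hψ _ X.2,
    (S.invol_commute_psiG _).symm⟩) ⟨?_, ?_⟩
  · rintro ⟨X, hX⟩ ⟨Y, hY⟩ h
    have h' : S.psiG X = S.psiG Y := congrArg Subtype.val h
    apply Subtype.ext
    have h1 : S.psiG (Y⁻¹ * X) = 1 := by rw [map_mul, map_inv, h', inv_mul_cancel]
    rcases S.psiG_eq_one.1 h1 with e | e
    · rw [inv_mul_eq_one] at e; exact e.symm
    · exfalso
      rw [inv_mul_eq_iff_eq_mul] at e
      have hY3 : Y ^ 3 = 1 := hY ▸ pow_orderOf_eq_one Y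
      have hd2 : (slD (-1) : Matrix.SpecialLinearGroup (Fin 2) K) ^ 2 = 1 := by rw [sq, S.slD_sq]
      have hX3 : X ^ 3 = 1 := hX ▸ pow_orderOf_eq_one X
      rw [e, (show Commute Y (slD (-1)) from Subgroup.mem_center_iff.1 slD_neg_one_mem_center Y).mul_pow,
        hY3, one_mul, pow_succ, hd2, one_mul] at hX3
      have := congrArg (fun Z : Matrix.SpecialLinearGroup (Fin 2) K => Z.1 0 0) hX3
      simp [slD] at this
      exact S.two_ne_zero' (by linear_combination -this)
  · rintro ⟨t, ht, htc⟩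
    obtain ⟨A, hA⟩ := S.mem_centralizer_invol htc.eq
    have ht3 : t ^ 3 = 1 := orderOf_dvd_iff_pow_eq_one.1 (dvd_of_eq ht)
    have ht4 : t = S.psiG (A ^ 4) := by
      have : t ^ 4 = t := by rw [pow_succ, ht3, one_mul]
      rw [← this]
      rcases hA with e | e
      · rw [e, map_pow]
      · rw [e, (S.invol_commute_psiG A).mul_pow, pow_succ, pow_succ, pow_succ, pow_one, S.invol_sq,
          one_mul, S.invol_sq, one_mul, map_pow]
    set B := A ^ 4
    have hB3 : S.psiG (B ^ 3) = 1 := by rw [map_pow, ← ht4, ht3]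
    have hB12 : (B ^ 4) ^ 3 = 1 := by
      rw [← pow_mul, mul_comm, pow_mul]
      rcases S.psiG_eq_one.1 hB3 with e | e <;> rw [e]
      · exact one_pow _
      · rw [show (4 : ℕ) = 2 * 2 by norm_num, pow_mul, show (slD (-1) : Matrix.SpecialLinearGroup (Fin 2) K) ^ 2 = 1 by rw [sq, S.slD_sq], one_pow]
    have e : S.psiG (B ^ 4) = t := by rw [map_pow, ← ht4, pow_succ, ht3, one_mul]
    refine ⟨⟨B ^ 4, orderOf_eq_prime hB12 fun h => ?_⟩, Subtype.ext e⟩
    rw [h, map_one] at e
    rw [← e, orderOf_one] at ht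
    omega

/-- The number of elements of order six. -/
theorem card_six (hm : 1 ≤ m) :
    Nat.card {g : ↥(twistedG2 K (3 ^ m)) // orderOf g = 6} =
      (3 ^ (2 * m + 1)) ^ 2 * (3 ^ (2 * m + 1) - 1) * ((3 ^ (2 * m + 1)) ^ 3 + 1) := by
  classical
  obtain ⟨hq27, -, -, -, -, -⟩ := S.arith hm
  have hconj : ∀ z : {z : ↥(twistedG2 K (3 ^ m)) // orderOf z = 2}, ∃ g : ↥(twistedG2 K (3 ^ m)), g * S.invol * g⁻¹ = z.1 := fun z => by
    refine S.isConj_invol hm ?_ ?_
    · rw [← sq]; exact orderOf_dvd_iff_pow_eq_one.1 (dvd_of_eq z.2)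
    · intro h
      have := z.2
      rw [h, orderOf_one] at this
      omega
  choose γ hγ using hconj
  let F : {z : ↥(twistedG2 K (3 ^ m)) // orderOf z = 2} × {t : ↥(twistedG2 K (3 ^ m)) // orderOf t = 3 ∧ Commute t S.invol} →
      {g : ↥(twistedG2 K (3 ^ m)) // orderOf g = 6} := fun p =>
    ⟨p.1.1 * (γ p.1 * p.2.1 * (γ p.1)⁻¹), by
      have hc : Commute p.1.1 (γ p.1 * p.2.1 * (γ p.1)⁻¹) := by
        show _ = _
        conv_lhs => rw [← hγ p.1]
        conv_rhs => rw [← hγ p.1]
        rw [show γ p.1 * S.invol * (γ p.1)⁻¹ * (γ p.1 * p.2.1 * (γ p.1)⁻¹) =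
          γ p.1 * (S.invol * p.2.1) * (γ p.1)⁻¹ by group, p.2.2.2.symm.eq]
        group
      have h3 : orderOf (γ p.1 * p.2.1 * (γ p.1)⁻¹) = 3 :=
        (MulEquiv.orderOf_eq (MulAut.conj (γ p.1)) p.2.1).trans p.2.2.1
      rw [hc.orderOf_mul_eq_mul_orderOf_of_coprime (by rw [p.1.2, h3]; decide), p.1.2, h3]⟩
  have hF : Function.Bijective F := by
    have hpow : ∀ p, (F p).1 ^ 3 = p.1.1 ∧ (F p).1 ^ 4 = γ p.1 * p.2.1 * (γ p.1)⁻¹ := by
      intro p
      have hc : Commute p.1.1 (γ p.1 * p.2.1 * (γ p.1)⁻¹) := by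
        show _ = _
        conv_lhs => rw [← hγ p.1]
        conv_rhs => rw [← hγ p.1]
        rw [show γ p.1 * S.invol * (γ p.1)⁻¹ * (γ p.1 * p.2.1 * (γ p.1)⁻¹) =
          γ p.1 * (S.invol * p.2.1) * (γ p.1)⁻¹ by group, p.2.2.2.symm.eq]
        group
      have hz : p.1.1 ^ 2 = 1 := orderOf_dvd_iff_pow_eq_one.1 (dvd_of_eq p.1.2)
      have ht : p.2.1 ^ 3 = 1 := orderOf_dvd_iff_pow_eq_one.1 (dvd_of_eq p.2.2.1)
      constructor
      · show (p.1.1 * _) ^ 3 = _
        rw [hc.mul_pow, conj_pow, ht, pow_succ, hz]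
        group
      · show (p.1.1 * _) ^ 4 = _
        rw [hc.mul_pow, conj_pow, show p.1.1 ^ 4 = (p.1.1 ^ 2) ^ 2 by rw [← pow_mul], hz, one_pow,
          pow_succ, ht, one_mul, one_mul]
    constructor
    · intro p p' h
      have h' : (F p).1 = (F p').1 := congrArg Subtype.val h
      have e1 : p.1 = p'.1 := Subtype.ext (by rw [← (hpow p).1, h', (hpow p').1])
      refine Prod.ext e1 (Subtype.ext ?_)
      have e2 := (hpow p).2
      rw [h', (hpow p').2, e1] at e2
      exact (mul_left_cancel (mul_right_cancel e2)).symm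
    · rintro ⟨g, hg⟩
      have hz : orderOf (g ^ 3) = 2 := by rw [orderOf_pow' g (by norm_num), hg]; decide
      set z : {z : ↥(twistedG2 K (3 ^ m)) // orderOf z = 2} := ⟨g ^ 3, hz⟩
      set t := (γ z)⁻¹ * g ^ 4 * γ z
      have ht : orderOf t = 3 := by
        rw [show t = MulAut.conj (γ z)⁻¹ (g ^ 4) by simp [t], MulEquiv.orderOf_eq,
          orderOf_pow' g (by norm_num), hg]
        decide
      have htc : Commute t S.invol := by
        have h1 : S.invol = (γ z)⁻¹ * g ^ 3 * γ z := by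
          rw [show g ^ 3 = γ z * S.invol * (γ z)⁻¹ from (hγ z).symm]; group
        show t * S.invol = S.invol * t
        rw [h1]
        show (γ z)⁻¹ * g ^ 4 * γ z * ((γ z)⁻¹ * g ^ 3 * γ z) = (γ z)⁻¹ * g ^ 3 * γ z * ((γ z)⁻¹ * g ^ 4 * γ z)
        group
      refine ⟨(z, ⟨t, ht, htc⟩), Subtype.ext ?_⟩
      show g ^ 3 * (γ z * t * (γ z)⁻¹) = g
      rw [show γ z * t * (γ z)⁻¹ = g ^ 4 by simp [t, mul_assoc], ← _root_.pow_add, show 3 + 4 = 6 + 1 from rfl,
        pow_succ, show g ^ 6 = 1 from orderOf_dvd_iff_pow_eq_one.1 (dvd_of_eq hg), one_mul]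
  rw [← Nat.card_eq_of_bijective F hF, Nat.card_prod, S.card_involutions hm, S.card_three_centralizer]
  set q := 3 ^ (2 * m + 1)
  have h1 : 1 ≤ q := by omega
  have h2 : 1 ≤ q ^ 2 := Nat.one_le_pow _ _ h1
  have h3 : q ≤ q ^ 2 := Nat.le_self_pow two_ne_zero q
  zify [h1, h2, h3]
  ring

end SetupG2

end CfsgLib.Chev
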