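import Mathlib
import Cfsg.Agent.Lib.Chev.ReeTorusLocal
import Cfsg.Agent.Lib.Chev.ReeThree

/-!
The layers of the maximal unipotent subgroup of ²G₂ and the action of the torus on them.
-/

set_option autoImplicit false
set_option maxHeartbeats 800000
set_option maxRecDepth 100000
set_option linter.unusedSectionVars false

namespace CfsgLib.Chev

open Cfsg.Lie

namespace SetupG2

variable {K : Type*} [Field K] [Fintype K] {m : ℕ} (S : SetupG2 K m)
include S

/-- A unipotent element from its three coordinates. -/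
noncomputable def wU (t u v : K) : ↥(twistedG2 K (3 ^ m)) := ⟨_, (S.word_pos t u v).2⟩

lemma coe_wU (t u v : K) : (S.wU t u v : GL chevG2.Idx K) =
    goodG2.xG 6 t * goodG2.xG 7 (t ^ 3 ^ m) * four ![7, 6, 8, 9, 10, 11]
      (u ^ 3 ^ m, v ^ 3 ^ m, t ^ (3 * 3 ^ m + 1) + u, t ^ (3 * 3 ^ m + 2) + v) :=
  S.word_sorted t u v

lemma wU_mem (t u v : K) : S.wU t u v ∈ S.pU := Subgroup.mem_subgroupOf.2 (S.word_pos t u v)

lemma exists_wU {x : ↥(twistedG2 K (3 ^ m))} (hx : x ∈ S.pU) : ∃ t u v, x = S.wU t u v := by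
  obtain ⟨t, u, v, he⟩ := S.mem_pos (Subgroup.mem_subgroupOf.1 hx)
  exact ⟨t, u, v, Subtype.ext he⟩

lemma wU_inj {t u v t' u' v' : K} (h : S.wU t u v = S.wU t' u' v') : t = t' ∧ u = u' ∧ v = v' :=
  S.word_inj (congrArg Subtype.val h)

lemma frob_inj {x y : K} (h : x ^ 3 ^ m = y ^ 3 ^ m) : x = y := by
  rw [← S.pow_q x, ← S.pow_q y, show 3 * 3 ^ m * 3 ^ m = 3 ^ m * (3 * 3 ^ m) by ring, pow_mul, h,
    ← pow_mul]

lemma coe_wU_low (u v : K) : (S.wU 0 u v : GL chevG2.Idx K) =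
    four ![7, 6, 8, 9, 10, 11] (u ^ 3 ^ m, v ^ 3 ^ m, u, v) := by
  rw [S.coe_wU]
  simp [zero_pow (pow_ne_zero m three_ne_zero), goodG2.xG_zero]

/-- The product in the lower layers. -/
theorem wU_low_mul (u v u' v' : K) : S.wU 0 u v * S.wU 0 u' v' = S.wU 0 (u + u') (v + v') := by
  apply Subtype.ext
  rw [Subgroup.coe_mul, S.coe_wU_low, S.coe_wU_low, S.coe_wU_low, S.four_mul six_pos]
  simp [S.pow_add]

lemma wU_zero : S.wU 0 0 0 = 1 := by
  apply Subtype.ext
  rw [S.coe_wU_low, Subgroup.coe_one]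
  simp [four, goodG2.xG_zero, zero_pow (pow_ne_zero m three_ne_zero)]

/-- The product of two elements. -/
theorem wU_mul (t u v t' u' v' : K) :
    ∃ v'', S.wU t u v * S.wU t' u' v' =
      S.wU (t + t') (u + u' - t * t' ^ (3 * 3 ^ m)) v'' := by
  obtain ⟨T, U, V, h⟩ := S.exists_wU (mul_mem (S.wU_mem t u v) (S.wU_mem t' u' v'))
  set r : Fin 6 → ℕ := ![7, 6, 8, 9, 10, 11] with hr
  set e := 3 ^ m with he
  set F : K × K × K × K := (u ^ e, v ^ e, t ^ (3 * e + 1) + u, t ^ (3 * e + 2) + v) with hF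
  set F' : K × K × K × K := (u' ^ e, v' ^ e, t' ^ (3 * e + 1) + u', t' ^ (3 * e + 2) + v') with hF'
  have e7 : ∀ (X : K) (z : K × K × K × K), goodG2.xG 7 X * four r z =
      four r (z.1, z.2.1 + X * z.1, z.2.2.1, z.2.2.2) * goodG2.xG 7 X := S.conj7_four
  have e6 : ∀ (X : K) (z : K × K × K × K), goodG2.xG 6 X * four r z =
      four r (z.1, z.2.1, z.2.2.1, z.2.2.2 + X * z.2.2.1) * goodG2.xG 6 X := S.conj6_four
  have i7 : ∀ (X : K) (z : K × K × K × K), four r z * goodG2.xG 7 X =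
      goodG2.xG 7 X * four r (z.1, z.2.1 - X * z.1, z.2.2.1, z.2.2.2) := fun X z => by
    rw [e7]; simp
  have i6 : ∀ (X : K) (z : K × K × K × K), four r z * goodG2.xG 6 X =
      goodG2.xG 6 X * four r (z.1, z.2.1, z.2.2.1, z.2.2.2 - X * z.2.2.1) := fun X z => by
    rw [e6]; simp
  set C : K × K × K × K := (-(t ^ e * t'), -((t ^ e) ^ 2 * t'), (t ^ e) ^ 3 * t', (t ^ e) ^ 3 * t' ^ 2) with hC
  have sw : goodG2.xG 7 (t ^ e) * goodG2.xG 6 t' =
      goodG2.xG 6 t' * goodG2.xG 7 (t ^ e) * four r C := by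
    have h := S.swap' six_pos t' (t ^ e)
    simp only [Int.cast_one, one_mul] at h
    exact h
  have key : ∃ G : K × K × K × K, G.1 = u ^ e + u' ^ e - t ^ e * t' ∧
      ((S.wU t u v * S.wU t' u' v' : ↥(twistedG2 K (3 ^ m))) : GL chevG2.Idx K) =
        goodG2.xG 6 (t + t') * goodG2.xG 7 (t ^ e + t' ^ e) * four r G := by
    rw [Subgroup.coe_mul, S.coe_wU, S.coe_wU, ← hF, ← hF']
    set F1 : K × K × K × K := (F.1, F.2.1, F.2.2.1, F.2.2.2 - t' * F.2.2.1) with hF1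
    set F2 : K × K × K × K := (F1.1, F1.2.1 - t' ^ e * F1.1, F1.2.2.1, F1.2.2.2) with hF2
    set C1 : K × K × K × K := (C.1, C.2.1 - t' ^ e * C.1, C.2.2.1, C.2.2.2) with hC1
    refine ⟨C1 + F2 + F', ?_, ?_⟩
    · simp only [hC1, hF2, hF1, hC, hF, hF', Prod.fst_add]
      ring
    · calc goodG2.xG 6 t * goodG2.xG 7 (t ^ e) * four r F *
            (goodG2.xG 6 t' * goodG2.xG 7 (t' ^ e) * four r F')
          = goodG2.xG 6 t * (goodG2.xG 7 (t ^ e) * (four r F * goodG2.xG 6 t')) *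
              goodG2.xG 7 (t' ^ e) * four r F' := by simp only [mul_assoc]
        _ = goodG2.xG 6 t * (goodG2.xG 7 (t ^ e) * goodG2.xG 6 t') *
              (four r F1 * goodG2.xG 7 (t' ^ e)) * four r F' := by
            rw [i6, ← hF1]; simp only [mul_assoc]
        _ = goodG2.xG 6 t * goodG2.xG 6 t' * goodG2.xG 7 (t ^ e) *
              (four r C * goodG2.xG 7 (t' ^ e)) * (four r F2 * four r F') := by
            rw [sw, i7, ← hF2]; simp only [mul_assoc]
        _ = goodG2.xG 6 (t + t') * (goodG2.xG 7 (t ^ e) * goodG2.xG 7 (t' ^ e)) *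
              (four r C1 * (four r F2 * four r F')) := by
            rw [i7, ← hC1, goodG2.xG_add]; simp only [mul_assoc]
        _ = _ := by
            rw [goodG2.xG_add, S.four_mul six_pos, S.four_mul six_pos, add_assoc]
  obtain ⟨G, hG1, hG⟩ := key
  rw [h, S.coe_wU] at hG
  have e0 : ∀ w : ℕ → K, goodG2.xAlong minusG2 w =
      goodG2.xG 6 (w 6) * goodG2.xG 7 (w 7) * four r (w 8, w 9, w 10, w 11) :=
    fun w => by simp [minusG2, Good.xAlong, four, hr, mul_assoc]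
  let z1 : ℕ → K := fun i => if i = 6 then T else if i = 7 then T ^ e else if i = 8 then U ^ e else
    if i = 9 then V ^ e else if i = 10 then T ^ (3 * e + 1) + U else T ^ (3 * e + 2) + V
  let z2 : ℕ → K := fun i => if i = 6 then t + t' else if i = 7 then t ^ e + t' ^ e else
    if i = 8 then G.1 else if i = 9 then G.2.1 else if i = 10 then G.2.2.1 else G.2.2.2
  have hz := goodG2.xAlong_inj (by decide) (Good.minus_list S.minusSet_w) (t := z1) (u := z2) (by
    rw [e0, e0]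
    simpa [z1, z2] using hG)
  have hT : T = t + t' := by simpa [z1, z2] using hz 6 (by decide)
  have hU : U ^ e = G.1 := by simpa [z1, z2] using hz 8 (by decide)
  refine ⟨V, ?_⟩
  rw [h, hT, show U = u + u' - t * t' ^ (3 * e) from S.frob_inj ?_]
  rw [hU, hG1, sub_eq_add_neg (u + u'), S.pow_add, S.pow_add,
    Odd.neg_pow S.odd_e, mul_pow, ← pow_mul t', S.pow_q, sub_eq_add_neg]

/-- The first coordinate of the inverse. -/
theorem wU_inv (t u v : K) : ∃ v'', (S.wU t u v)⁻¹ = S.wU (-t) (-u - t * t ^ (3 * 3 ^ m)) v'' := by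
  obtain ⟨T, U, V, h⟩ := S.exists_wU (Subgroup.inv_mem _ (S.wU_mem t u v))
  obtain ⟨w, hw⟩ := S.wU_mul t u v T U V
  rw [← h, mul_inv_cancel, ← S.wU_zero] at hw
  obtain ⟨h1, h2, -⟩ := S.wU_inj hw
  have hT : T = -t := by linear_combination -h1
  refine ⟨V, ?_⟩
  rw [h, hT, show U = -u - t * t ^ (3 * 3 ^ m) from ?_]
  rw [hT, Odd.neg_pow (Odd.mul (by decide) S.odd_e)] at h2
  linear_combination -h2

/-- The commutator in the first layer. -/
theorem wU_comm_top (t u v t' u' v' : K) :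
    ∃ v'', S.wU t u v * S.wU t' u' v' * (S.wU t u v)⁻¹ * (S.wU t' u' v')⁻¹ =
      S.wU 0 (t' * t ^ (3 * 3 ^ m) - t * t' ^ (3 * 3 ^ m)) v'' := by
  obtain ⟨w1, h1⟩ := S.wU_mul t u v t' u' v'
  obtain ⟨w2, h2⟩ := S.wU_mul t' u' v' t u v
  obtain ⟨T, U, V, h⟩ := S.exists_wU (mul_mem (mul_mem (mul_mem (S.wU_mem t u v) (S.wU_mem t' u' v'))
    (Subgroup.inv_mem _ (S.wU_mem t u v))) (Subgroup.inv_mem _ (S.wU_mem t' u' v')))
  refine ⟨V, ?_⟩
  have e : S.wU T U V * (S.wU t' u' v' * S.wU t u v) = S.wU t u v * S.wU t' u' v' := by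
    rw [← h]; group
  rw [h2, h1] at e
  obtain ⟨w3, h3⟩ := S.wU_mul T U V (t' + t) (u' + u - t' * t ^ (3 * 3 ^ m)) w2
  rw [h3] at e
  obtain ⟨e1, e2, -⟩ := S.wU_inj e
  have hT : T = 0 := by linear_combination e1
  rw [hT, zero_mul, sub_zero] at e2
  rw [h, hT, show U = t' * t ^ (3 * 3 ^ m) - t * t' ^ (3 * 3 ^ m) by linear_combination e2]

/-- The commutator of the first and second layers. -/
theorem wU_comm_mid (t u v u' v' : K) :
    S.wU t u v * S.wU 0 u' v' * (S.wU t u v)⁻¹ * (S.wU 0 u' v')⁻¹ = S.wU 0 0 (t * u') := by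
  apply Subtype.ext
  set r : Fin 6 → ℕ := ![7, 6, 8, 9, 10, 11] with hr
  set e := 3 ^ m with he
  set F : K × K × K × K := (u ^ e, v ^ e, t ^ (3 * e + 1) + u, t ^ (3 * e + 2) + v) with hF
  set z : K × K × K × K := (u' ^ e, v' ^ e, u', v') with hz
  have hFz : four r F * four r z = four r z * four r F := by
    rw [S.four_mul six_pos, S.four_mul six_pos, add_comm]
  simp only [Subgroup.coe_mul, Subgroup.coe_inv]
  rw [S.coe_wU, S.coe_wU_low, S.coe_wU_low, ← hF, ← hz, mul_inv_eq_iff_eq_mul, mul_inv_eq_iff_eq_mul]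
  set b := goodG2.xG 6 t
  set a := goodG2.xG 7 (t ^ e)
  calc b * a * four r F * four r z = b * a * four r z * four r F := by
        rw [mul_assoc, hFz, ← mul_assoc]
    _ = four r (z.1, z.2.1 + t ^ e * z.1, z.2.2.1, z.2.2.2 + t * z.2.2.1) * (b * a * four r F) := by
        rw [mul_assoc b a, S.conj7_four, ← mul_assoc b, S.conj6_four]
        simp only [mul_assoc]
        rfl
    _ = _ := by
        rw [S.four_mul six_pos]
        congr 2
        simp [hz, zero_pow (pow_ne_zero m three_ne_zero), mul_pow, add_comm, he]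

/-- The torus scales the coordinates. -/
theorem tau_conj_wU (b : Kˣ) (t u v : K) :
    S.tauG b * S.wU t u v * (S.tauG b)⁻¹ = S.wU (((b ^ S.tauExp 6 : Kˣ) : K) * t)
      (((b ^ S.tauExp 10 : Kˣ) : K) * u) (((b ^ S.tauExp 11 : Kˣ) : K) * v) := by
  have hin : S.tauG b * S.wU t u v * (S.tauG b)⁻¹ ∈ S.pU :=
    S.pB_normalizes (S.tauG_pB b) (S.wU_mem t u v)
  obtain ⟨T, U, V, h⟩ := S.exists_wU hin
  have h' : S.tauHom b * (S.wU t u v : GL chevG2.Idx K) * (S.tauHom b)⁻¹ = (S.wU T U V : GL chevG2.Idx K) := by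
    rw [← S.coe_tauG, ← h, Subgroup.coe_mul, Subgroup.coe_mul, Subgroup.coe_inv]
  change S.tauHom b * ((reeWordU (3 ^ m) t u v).map fun p => goodG2.xG p.1 p.2).prod * (S.tauHom b)⁻¹ =
    ((reeWordU (3 ^ m) T U V).map fun p => goodG2.xG p.1 p.2).prod at h'
  rw [S.word_xAlong, S.word_xAlong, S.tauHom_apply,
    goodG2.torHom_conj_xAlong _ (fun r hr => (Good.minus_list S.minusSet_w r hr).1)] at h'
  have hr : ∀ r ∈ minusG2, ((b ^ S.tauExp r : Kˣ) : K) * S.wordVal t u v r = S.wordVal T U V r := by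
    intro r hr
    rw [← S.chi_tau b hr]
    exact goodG2.xAlong_inj (by decide) (Good.minus_list S.minusSet_w) h' r hr
  have h6 := hr 6 (by decide)
  have h10 := hr 10 (by decide)
  have h11 := hr 11 (by decide)
  simp only [wordVal, tauExp] at h6 h10 h11 ⊢
  norm_num at h6 h10 h11 ⊢
  set e : ℕ := 3 ^ m with he
  have hq : b ^ (3 * (3 ^ m : ℤ) * 3 ^ m - 1) = 1 := S.unit_pow_sub_one b
  have x10 : (b ^ (2 - 3 * (3 ^ m : ℤ))) ^ (3 * e + 1) = b ^ (3 * (3 ^ m : ℤ) - 1) := by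
    rw [← zpow_natCast, ← zpow_mul, show (2 - 3 * (3 ^ m : ℤ)) * ((3 * e + 1 : ℕ) : ℤ) =
      (3 * (3 ^ m : ℤ) - 1) + (3 * (3 ^ m : ℤ) * 3 ^ m - 1) * (-3) by rw [he]; push_cast; ring,
      zpow_add, zpow_mul, hq, one_zpow, mul_one]
  have x11 : (b ^ (2 - 3 * (3 ^ m : ℤ))) ^ (3 * e + 2) = b := by
    rw [← zpow_natCast, ← zpow_mul, show (2 - 3 * (3 ^ m : ℤ)) * ((3 * e + 2 : ℕ) : ℤ) =
      (1 : ℤ) + (3 * (3 ^ m : ℤ) * 3 ^ m - 1) * (-3) by rw [he]; push_cast; ring,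
      zpow_add, zpow_mul, hq, one_zpow, mul_one, zpow_one]
  have y10 := congrArg Units.val x10
  have y11 := congrArg Units.val x11
  simp only [Units.val_pow_eq_pow_val, Units.val_zpow_eq_zpow_val] at y10 y11
  rw [← h6, mul_pow, y10] at h10
  rw [← h6, mul_pow, y11] at h11
  rw [h, ← h6, show U = (b : K) ^ (3 * (3 ^ m : ℤ) - 1) * u by linear_combination -h10,
    show V = (b : K) * v by linear_combination -h11]

/-- Scalars on the first layer. -/
lemma exists_exp_six (c : Kˣ) : ∃ b : Kˣ, b ^ S.tauExp 6 = c := by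
  refine Finite.surjective_of_injective (f := fun b : Kˣ => b ^ S.tauExp 6) (fun a b h => ?_) c
  have h1 : (a * b⁻¹) ^ S.tauExp 6 = 1 := by
    rw [mul_zpow, inv_zpow, mul_inv_eq_one]
    exact h
  have h2 := S.sq_eq_one_of_tauExp (by decide) h1
  rw [← mul_inv_eq_one]
  by_contra hne
  have hm1 : a * b⁻¹ = -1 := by
    rcases sq_eq_one_iff.1 (show ((a * b⁻¹ : Kˣ) : K) ^ 2 = 1 by rw [sq, ← Units.val_mul, h2]; rfl) with e | e
    · exact absurd (Units.ext e) hne
    · exact Units.ext (by simpa using e)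
  rw [hm1] at h1
  have hodd : Odd (S.tauExp 6) := by
    simp only [tauExp, if_true]
    exact Even.sub_odd (by decide) (Odd.mul (by decide) (Odd.pow (by decide)))
  rw [hodd.neg_zpow, one_zpow] at h1
  exact S.neg_one_ne_one h1

/-- Every square is a scalar on the second layer. -/
lemma exists_exp_ten (c : Kˣ) : ∃ b : Kˣ, b ^ S.tauExp 10 = c ^ 2 := by
  refine ⟨c ^ (3 * (3 ^ m : ℤ) + 1), ?_⟩
  rw [← zpow_mul, show (3 * (3 ^ m : ℤ) + 1) * S.tauExp 10 = (2 : ℤ) + (3 * (3 ^ m : ℤ) * 3 ^ m - 1) * 3 by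
    simp [tauExp]; ring, zpow_add, zpow_mul, S.unit_pow_sub_one, one_zpow, mul_one]
  exact zpow_two c |>.trans (sq c).symm

end SetupG2

end CfsgLib.Chev
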