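import Mathlib
import Cfsg.Agent.Lib.Chev.ReeTorusLocal

/-!
Cyclic subgroups with abelian centralisers which control their own fusion.
-/

set_option autoImplicit false
set_option linter.unusedSectionVars false

namespace CfsgLib.Chev

/-- A cyclic subgroup `A` of order `k` with centraliser the abelian group `M` of order `c * k` and
exponent dividing `2 * k`, normalising data `w`, and full Sylow subgroups for the primes of `k`. -/
structure TorusData (G : Type*) [Group G] where
  /-- The cyclic subgroup. -/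
  A : Subgroup G
  /-- Its centraliser. -/
  M : Subgroup G
  /-- The order of `A`. -/
  k : ℕ
  /-- The index of `A` in `M`. -/
  c : ℕ
  /-- The index of `M` in its normaliser. -/
  w : ℕ
  cyclic : IsCyclic ↥A
  cardA : Nat.card ↥A = k
  le : A ≤ M
  cardM : Nat.card ↥M = c * k
  comm : ∀ x ∈ M, ∀ y ∈ M, x * y = y * x
  cent : ∀ a ∈ A, a ≠ 1 → ∀ g, g * a = a * g → g ∈ M
  cardN : Nat.card (Subgroup.normalizer (A : Set G)) = w * (c * k)
  normEq : ∀ A₀ ≤ A, A₀ ≠ ⊥ → Subgroup.normalizer (A₀ : Set G) = Subgroup.normalizer (A : Set G)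
  full : ∀ l : ℕ, l.Prime → l ∣ k → l ^ (Nat.card G).factorization l ∣ k
  cop : Nat.Coprime c k
  odd : Odd k
  exp : ∀ x ∈ M, x ^ (2 * k) = 1

namespace TorusData

variable {G : Type*} [Group G] [Finite G] (T : TorusData G)

theorem pow_k {x : G} (hx : x ∈ T.A) : x ^ T.k = 1 := by
  rw [← T.cardA]
  exact congrArg Subtype.val (pow_card_eq_one' (G := ↥T.A) (x := ⟨x, hx⟩))

theorem mem_A {x : G} (hx : x ∈ T.M) (hxk : x ^ T.k = 1) : x ∈ T.A := by
  have hn : (T.A.subgroupOf T.M).Normal := ⟨fun a ha b => by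
    have e : b * a * b⁻¹ = a := Subtype.ext (by
      show (b : G) * a * (b : G)⁻¹ = a
      rw [T.comm _ b.2 _ a.2, mul_inv_cancel_right])
    rw [e]; exact ha⟩
  have hidx : (T.A.subgroupOf T.M).index = T.c := by
    have h := (T.A.subgroupOf T.M).card_mul_index
    rw [Nat.card_congr (Subgroup.subgroupOfEquivOfLe T.le).toEquiv, T.cardA, T.cardM, mul_comm T.c] at h
    exact Nat.eq_of_mul_eq_mul_left (T.cardA ▸ Nat.card_pos) h
  have h1 : x ^ T.c ∈ T.A := by
    have := Subgroup.pow_index_mem (T.A.subgroupOf T.M) (⟨x, hx⟩ : ↥T.M)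
    rwa [hidx, Subgroup.mem_subgroupOf] at this
  have hco : Nat.Coprime T.c (orderOf x) :=
    Nat.Coprime.coprime_dvd_right (orderOf_dvd_of_pow_eq_one hxk) T.cop
  obtain ⟨i, hi⟩ := exists_pow_eq_self_of_coprime hco
  rw [← hi]
  exact pow_mem h1 i

theorem k_pos : 0 < T.k := T.cardA ▸ Nat.card_pos

theorem normalizes_M (hk : 1 < T.k) {n : G} (hn : n ∈ Subgroup.normalizer (T.A : Set G)) {x : G}
    (hx : x ∈ T.M) : n * x * n⁻¹ ∈ T.M := by
  obtain ⟨a, ha, ha1⟩ := T.A.bot_or_exists_ne_one.resolve_left fun h => by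
    have := T.cardA
    rw [h, Subgroup.card_bot] at this
    omega
  have ha' := (Subgroup.mem_normalizer_iff.1 (Subgroup.inv_mem _ hn) a).1 ha
  rw [inv_inv] at ha'
  refine T.cent a ha ha1 _ ?_
  calc n * x * n⁻¹ * a = n * (x * (n⁻¹ * a * n)) * n⁻¹ := by group
    _ = n * ((n⁻¹ * a * n) * x) * n⁻¹ := by rw [T.comm x hx _ (T.le ha')]
    _ = a * (n * x * n⁻¹) := by group

/-- An element whose order divides `k` is conjugate into `A`. -/
theorem exists_conj {g : G} (hg : g ^ T.k = 1) : ∃ h : G, h * g * h⁻¹ ∈ T.A := by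
  by_cases hg1 : g = 1
  · exact ⟨1, by simp [hg1]⟩
  obtain ⟨l, hl, hlg⟩ :=
    Nat.exists_prime_and_dvd (show orderOf g ≠ 1 from fun h => hg1 (orderOf_eq_one_iff.1 h))
  have := Fact.mk hl
  set y := g ^ (orderOf g / l) with hydef
  have hy : orderOf y = l := orderOf_pow_orderOf_div (orderOf_pos g).ne' hlg
  obtain ⟨h, hh⟩ := exists_conj_le_of_cyclic T.cyclic
    (T.cardA.symm ▸ T.full l hl (hlg.trans (orderOf_dvd_of_pow_eq_one hg)))
    (P := Subgroup.zpowers y) (IsPGroup.of_card (n := 1) (by rw [Nat.card_zpowers, hy, pow_one]))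
  refine ⟨h, T.mem_A (T.cent _ (hh y (Subgroup.mem_zpowers y)) (fun e => ?_) _ ?_) ?_⟩
  · rw [conj_eq_one_iff] at e
    rw [e, orderOf_one] at hy
    exact hl.one_lt.ne hy
  · have hc : Commute g y := (Commute.refl g).pow_right _
    rw [show h * g * h⁻¹ * (h * y * h⁻¹) = h * (g * y) * h⁻¹ by group, hc.eq]
    group
  · rw [conj_pow, hg, mul_one, mul_inv_cancel]

/-- The subgroups of `A` are determined by their orders. -/
theorem subgroup_eq {B C : Subgroup G} (hB : B ≤ T.A) (hC : C ≤ T.A)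
    (h : Nat.card ↥B = Nat.card ↥C) : B = C := by
  have := T.cyclic
  let : CommGroup ↥T.A := IsCyclic.commGroup
  have key : ∀ D : Subgroup G, D ≤ T.A →
      D.subgroupOf T.A = (powMonoidHom (Nat.card ↥D) : ↥T.A →* ↥T.A).ker := by
    intro D hD
    refine Subgroup.eq_of_le_of_card_ge (fun x hx => ?_) ?_
    · show x ^ Nat.card ↥D = 1
      refine Subtype.ext ?_
      rw [Subgroup.coe_pow, Subgroup.coe_one]
      exact congrArg Subtype.val (pow_card_eq_one' (G := ↥D) (x := ⟨x, hx⟩))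
    · rw [IsCyclic.card_powMonoidHom_ker,
        Nat.card_congr (Subgroup.subgroupOfEquivOfLe hD).toEquiv,
        Nat.gcd_eq_right (Subgroup.card_dvd_of_le hD)]
  have e : B.subgroupOf T.A = C.subgroupOf T.A := by rw [key B hB, key C hC, h]
  rwa [Subgroup.subgroupOf_inj, inf_eq_left.2 hB, inf_eq_left.2 hC] at e

/-- Cyclic subgroups of the same order dividing `k` are conjugate. -/
theorem conjugate {B C : Subgroup G} (hB : IsCyclic ↥B) (hC : IsCyclic ↥C)
    (hd : Nat.card ↥B ∣ T.k) (h : Nat.card ↥C = Nat.card ↥B) :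
    ∃ g : G, C = B.map (MulAut.conj g).toMonoidHom := by
  have hinto : ∀ D : Subgroup G, IsCyclic ↥D → Nat.card ↥D ∣ T.k →
      ∃ g : G, D.map (MulAut.conj g).toMonoidHom ≤ T.A := by
    intro D hD hDk
    obtain ⟨d, hd⟩ := hD.exists_generator
    obtain ⟨g, hg⟩ := T.exists_conj (g := (d : G)) (by
      obtain ⟨e, he⟩ := hDk
      rw [he, pow_mul, ← Subgroup.coe_pow, pow_card_eq_one', Subgroup.coe_one, one_pow])
    refine ⟨g, ?_⟩
    rintro _ ⟨x, hx, rfl⟩
    obtain ⟨i, hi⟩ := hd ⟨x, hx⟩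
    have hx' : x = (d : G) ^ i := (congrArg Subtype.val hi).symm.trans (Subgroup.coe_zpow _ _ _)
    show MulAut.conj g x ∈ T.A
    rw [hx', map_zpow]
    exact zpow_mem hg i
  obtain ⟨g, hg⟩ := hinto B hB hd
  obtain ⟨g', hg'⟩ := hinto C hC (h ▸ hd)
  have e := T.subgroup_eq hg' hg (by
    rw [Subgroup.card_map_of_injective (MulEquiv.injective _),
      Subgroup.card_map_of_injective (MulEquiv.injective _), h])
  refine ⟨g'⁻¹ * g, ?_⟩
  have e' := congrArg (Subgroup.map (MulAut.conj g'⁻¹).toMonoidHom) e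
  rw [Subgroup.map_map, Subgroup.map_map] at e'
  convert e' using 1
  · refine (Subgroup.map_id C).symm.trans ?_
    congr 1
    ext x
    simp [mul_assoc]
  · congr 1
    ext x
    simp [mul_assoc]

/-- The centralisers of the non-trivial subgroups of a conjugate of `A`. -/
theorem centralizer_sub {H : Subgroup G} (hH : IsCyclic ↥H) (hc : Nat.card ↥H = T.k) :
    ∃ g : G, ∀ B ≤ H, B ≠ ⊥ →
      Subgroup.centralizer (B : Set G) = T.M.map (MulAut.conj g).toMonoidHom := by
  obtain ⟨g, rfl⟩ := T.conjugate T.cyclic hH (T.cardA ▸ dvd_rfl) (hc.trans T.cardA.symm)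
  refine ⟨g, fun B hB hne => le_antisymm (fun x hx => ?_) ?_⟩
  · obtain ⟨b, hb, hb1⟩ := B.bot_or_exists_ne_one.resolve_left hne
    obtain ⟨a, ha, rfl⟩ := hB hb
    refine ⟨g⁻¹ * x * g, T.cent a ha (fun e => hb1 (by rw [e, map_one])) _ ?_, by simp [mul_assoc]⟩
    have := Subgroup.mem_centralizer_iff.1 hx _ hb
    simp only [MulEquiv.coe_toMonoidHom, MulAut.conj_apply] at this
    calc g⁻¹ * x * g * a = g⁻¹ * (x * (g * a * g⁻¹)) * g := by group
      _ = g⁻¹ * ((g * a * g⁻¹) * x) * g := by rw [this]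
      _ = a * (g⁻¹ * x * g) := by group
  · rintro _ ⟨x, hx, rfl⟩
    rw [Subgroup.mem_centralizer_iff]
    intro b hb
    obtain ⟨a, ha, rfl⟩ := hB hb
    simp only [MulEquiv.coe_toMonoidHom, ← map_mul]
    rw [T.comm a (T.le ha) x hx]

/-- Counting the elements of order `e * i`, `i` a non-trivial divisor of `k`. -/
theorem card_orderOf {e i : ℕ} (hi : 1 < i) (hik : i ∣ T.k) :
    Nat.card {g : G // orderOf g = e * i} * (T.w * (T.c * T.k)) =
      Nat.card G * Nat.card {x : ↥T.M // orderOf x = e * i} := by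
  classical
  set N := Subgroup.normalizer (T.A : Set G) with hN
  have hk : 1 < T.k := lt_of_lt_of_le hi (Nat.le_of_dvd T.k_pos hik)
  have hpow : ∀ g : G, orderOf g = e * i → orderOf (g ^ e) = i := fun g hg => by
    have h0 : e ≠ 0 := fun h => by
      rw [h, zero_mul] at hg
      exact (orderOf_pos g).ne' hg
    rw [orderOf_pow' g h0, hg, Nat.gcd_eq_right (dvd_mul_right e i),
      Nat.mul_div_cancel_left _ (Nat.pos_of_ne_zero h0)]
  -- fusion
  have hfus : ∀ x ∈ T.M, orderOf x = e * i → ∀ h : G, h * x * h⁻¹ ∈ T.M → h ∈ N := by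
    intro x hx ho h hh
    set y := x ^ e with hydef
    have hyi : orderOf y = i := hpow x ho
    have hyk : ∀ z : G, orderOf z = i → z ^ T.k = 1 := fun z hz =>
      orderOf_dvd_iff_pow_eq_one.1 (hz ▸ hik)
    have hyA : y ∈ T.A := T.mem_A (pow_mem hx e) (hyk y hyi)
    have hconj : orderOf (h * y * h⁻¹) = i := (MulEquiv.orderOf_eq (MulAut.conj h) y).trans hyi
    have hy'A : h * y * h⁻¹ ∈ T.A := T.mem_A (by rw [hydef, ← conj_pow]; exact pow_mem hh e)
      (hyk _ hconj)
    have heq := T.subgroup_eq (Subgroup.zpowers_le.2 hyA) (Subgroup.zpowers_le.2 hy'A)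
      (by rw [Nat.card_zpowers, Nat.card_zpowers, hyi, hconj])
    have hne : Subgroup.zpowers y ≠ ⊥ := fun hb => by
      have := congrArg (fun D : Subgroup G => Nat.card ↥D) hb
      simp only [Nat.card_zpowers, Subgroup.card_bot, hyi] at this
      omega
    rw [hN, ← T.normEq _ (Subgroup.zpowers_le.2 hyA) hne, Subgroup.mem_normalizer_iff]
    intro u
    constructor
    · rintro ⟨j, rfl⟩
      rw [← conj_zpow, heq]
      exact zpow_mem (Subgroup.mem_zpowers _) j
    · intro hu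
      rw [heq] at hu
      obtain ⟨j, hj⟩ := hu
      refine ⟨j, ?_⟩
      simp only [conj_zpow] at hj
      exact mul_left_cancel (mul_right_cancel hj)
  let F : (G ⧸ N) × {x : ↥T.M // orderOf x = e * i} → {g : G // orderOf g = e * i} := fun p =>
    ⟨p.1.out * ((p.2 : ↥T.M) : G) * p.1.out⁻¹, by
      rw [show p.1.out * ((p.2 : ↥T.M) : G) * p.1.out⁻¹ = MulAut.conj p.1.out ((p.2 : ↥T.M) : G) from rfl,
        MulEquiv.orderOf_eq, Subgroup.orderOf_coe, p.2.2]⟩
  have hF : Function.Bijective F := by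
    constructor
    · rintro ⟨a, x⟩ ⟨b, y⟩ hxy
      have hval : a.out * ((x : ↥T.M) : G) * a.out⁻¹ = b.out * ((y : ↥T.M) : G) * b.out⁻¹ :=
        congrArg Subtype.val hxy
      have h1 : (b.out⁻¹ * a.out) * ((x : ↥T.M) : G) * (b.out⁻¹ * a.out)⁻¹ = ((y : ↥T.M) : G) := by
        calc (b.out⁻¹ * a.out) * ((x : ↥T.M) : G) * (b.out⁻¹ * a.out)⁻¹
            = b.out⁻¹ * (a.out * ((x : ↥T.M) : G) * a.out⁻¹) * b.out := by group
          _ = b.out⁻¹ * (b.out * ((y : ↥T.M) : G) * b.out⁻¹) * b.out := by rw [hval]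
          _ = _ := by group
      have hmem := hfus _ x.1.2 (by rw [Subgroup.orderOf_coe, x.2]) (b.out⁻¹ * a.out) (h1 ▸ y.1.2)
      have hab : a = b := by
        rw [← a.out_eq', ← b.out_eq', eq_comm, QuotientGroup.eq]
        exact hmem
      subst hab
      refine Prod.ext rfl (Subtype.ext (Subtype.ext ?_))
      exact mul_left_cancel (mul_right_cancel hval)
    · rintro ⟨g, hg⟩
      have hgi := hpow g hg
      obtain ⟨h, hh⟩ := T.exists_conj (g := g ^ e) (orderOf_dvd_iff_pow_eq_one.1 (hgi ▸ hik))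
      have hge1 : g ^ e ≠ 1 := fun he => by rw [he, orderOf_one] at hgi; omega
      have hM : h * g * h⁻¹ ∈ T.M := by
        refine T.cent _ hh (fun e1 => hge1 (conj_eq_one_iff.1 e1)) _ ?_
        rw [← conj_pow]
        exact ((Commute.refl _).pow_right e).eq
      obtain ⟨n, hn⟩ := QuotientGroup.mk_out_eq_mul N h⁻¹
      set x₀ : ↥T.M := ⟨(n : G)⁻¹ * (h * g * h⁻¹) * n, by
        simpa using T.normalizes_M hk (Subgroup.inv_mem _ n.2) hM⟩
      refine ⟨(QuotientGroup.mk h⁻¹, ⟨x₀, ?_⟩), Subtype.ext ?_⟩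
      · rw [← Subgroup.orderOf_coe, show (x₀ : G) = MulAut.conj ((n : G)⁻¹ * h) g from ?_,
          MulEquiv.orderOf_eq, hg]
        show (n : G)⁻¹ * (h * g * h⁻¹) * n = ((n : G)⁻¹ * h) * g * ((n : G)⁻¹ * h)⁻¹
        group
      · show (QuotientGroup.mk h⁻¹ : G ⧸ N).out * (x₀ : G) * (QuotientGroup.mk h⁻¹ : G ⧸ N).out⁻¹ = g
        rw [hn]
        show h⁻¹ * (n : G) * ((n : G)⁻¹ * (h * g * h⁻¹) * n) * (h⁻¹ * (n : G))⁻¹ = g
        group
  rw [← Nat.card_eq_of_bijective F hF, Nat.card_prod]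
  calc Nat.card (G ⧸ N) * Nat.card {x : ↥T.M // orderOf x = e * i} * (T.w * (T.c * T.k))
      = N.index * Nat.card ↥N * Nat.card {x : ↥T.M // orderOf x = e * i} := by
        rw [hN, T.cardN]
        show (Subgroup.normalizer (T.A : Set G)).index * _ * _ = _
        ring
    _ = _ := by rw [Subgroup.index_mul_card]

/-- The elements of order `i` of the centraliser. -/
theorem card_M_orderOf {i : ℕ} (hik : i ∣ T.k) :
    Nat.card {x : ↥T.M // orderOf x = i} = Nat.totient i := by
  have := T.cyclic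
  classical
  have := Fintype.ofFinite ↥T.A
  have h : Fintype.card {a : ↥T.A // orderOf a = i} = Nat.totient i := by
    rw [Fintype.card_subtype]
    exact IsCyclic.card_orderOf_eq_totient (by rw [← Nat.card_eq_fintype_card, T.cardA]; exact hik)
  rw [← h, ← Nat.card_eq_fintype_card]
  refine Nat.card_congr
    { toFun := fun x => ⟨⟨x.1.1, T.mem_A x.1.2 (orderOf_dvd_iff_pow_eq_one.1 (by
        rw [Subgroup.orderOf_coe, x.2]; exact hik))⟩, by
        rw [← Subgroup.orderOf_coe]; exact (Subgroup.orderOf_coe x.1).trans x.2⟩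
      invFun := fun a => ⟨⟨a.1.1, T.le a.1.2⟩, by
        rw [← Subgroup.orderOf_coe]; exact (Subgroup.orderOf_coe a.1).trans a.2⟩
      left_inv := fun x => rfl
      right_inv := fun a => rfl }

/-- The involutions of the centraliser. -/
theorem card_M_two : Nat.card {x : ↥T.M // orderOf x = 2} = T.c - 1 := by
  classical
  let : CommGroup ↥T.M :=
    { (inferInstance : Group ↥T.M) with mul_comm := fun a b => Subtype.ext (T.comm _ a.2 _ b.2) }
  set f : ↥T.M →* ↥T.M := powMonoidHom T.k with hf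
  set L : Subgroup ↥T.M := (powMonoidHom 2 : ↥T.M →* ↥T.M).ker with hL
  have hfk : f.ker = T.A.subgroupOf T.M := by
    ext x
    rw [MonoidHom.mem_ker, Subgroup.mem_subgroupOf]
    show x ^ T.k = 1 ↔ _
    constructor
    · exact fun h => T.mem_A x.2 (by rw [← Subgroup.coe_pow, h, Subgroup.coe_one])
    · exact fun h => Subtype.ext (by rw [Subgroup.coe_pow, T.pow_k h, Subgroup.coe_one])
  have hLr : L = f.range := by
    apply le_antisymm
    · intro x hx
      have hx2 : x ^ 2 = 1 := hx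
      obtain ⟨j, hj⟩ := T.odd
      exact ⟨x, show x ^ T.k = x by rw [hj, pow_succ, pow_mul, hx2, one_pow, one_mul]⟩
    · rintro _ ⟨x, rfl⟩
      show (x ^ T.k) ^ 2 = 1
      rw [← pow_mul, mul_comm]
      exact Subtype.ext (by rw [Subgroup.coe_pow, T.exp _ x.2, Subgroup.coe_one])
  have hLc : Nat.card ↥L = T.c := by
    have h := Subgroup.card_mul_index f.ker
    rw [Subgroup.index_ker, hfk, Nat.card_congr (Subgroup.subgroupOfEquivOfLe T.le).toEquiv,
      T.cardA, T.cardM, mul_comm T.c] at h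
    rw [hLr]
    exact Nat.eq_of_mul_eq_mul_left T.k_pos h
  have := Fintype.ofFinite ↥L
  rw [← hLc, Nat.card_eq_fintype_card (α := ↥L)]
  have e : {x : ↥T.M // orderOf x = 2} ≃ {x : ↥L // x ≠ 1} :=
    { toFun := fun x => ⟨⟨x.1, orderOf_dvd_iff_pow_eq_one.1 (dvd_of_eq x.2)⟩, fun h => by
        have h1 : x.1 = 1 := congrArg Subtype.val h
        have := x.2
        rw [h1, orderOf_one] at this
        omega⟩
      invFun := fun x => ⟨x.1.1, orderOf_eq_prime (p := 2) x.1.2 (fun h => x.2 (Subtype.ext h))⟩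
      left_inv := fun x => rfl
      right_inv := fun x => rfl }
  rw [Nat.card_congr e, Nat.card_eq_fintype_card, Fintype.card_subtype_compl,
    Fintype.card_subtype_eq]

/-- The elements of order `2 * i` of the centraliser. -/
theorem card_M_two_mul {i : ℕ} (hik : i ∣ T.k) :
    Nat.card {x : ↥T.M // orderOf x = 2 * i} = (T.c - 1) * Nat.totient i := by
  classical
  rw [← T.card_M_two, ← T.card_M_orderOf hik, ← Nat.card_prod]
  have hodd : Odd i := T.odd.of_dvd_nat hik
  have hcop : Nat.Coprime 2 i := Nat.coprime_two_left.2 hodd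
  have hcm : ∀ a b : ↥T.M, Commute a b := fun a b => Subtype.ext (T.comm _ a.2 _ b.2)
  refine (Nat.card_eq_of_bijective (fun p : {x : ↥T.M // orderOf x = 2} × {x : ↥T.M // orderOf x = i} =>
    (⟨p.1.1 * p.2.1, by
      rw [(hcm _ _).orderOf_mul_eq_mul_orderOf_of_coprime (by rw [p.1.2, p.2.2]; exact hcop),
        p.1.2, p.2.2]⟩ : {x : ↥T.M // orderOf x = 2 * i})) ⟨?_, ?_⟩).symm
  · rintro ⟨⟨u, hu⟩, ⟨y, hy⟩⟩ ⟨⟨u', hu'⟩, ⟨y', hy'⟩⟩ h
    have h' : u * y = u' * y' := congrArg Subtype.val h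
    have hp : ∀ v z : ↥T.M, orderOf v = 2 → orderOf z = i → (v * z) ^ i = v := by
      intro v z hv hz
      rw [(hcm v z).mul_pow, show z ^ i = 1 from hz ▸ pow_orderOf_eq_one z, mul_one]
      obtain ⟨j, hj⟩ := hodd
      rw [hj, pow_succ, pow_mul, show v ^ 2 = 1 from hv ▸ pow_orderOf_eq_one v, one_pow, one_mul]
    have huu : u = u' := by rw [← hp u y hu hy, h', hp u' y' hu' hy']
    subst huu
    exact Prod.ext rfl (Subtype.ext (mul_left_cancel h'))
  · rintro ⟨x, hx⟩
    have hu : orderOf (x ^ i) = 2 := by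
      rw [orderOf_pow' x (by rintro rfl; exact absurd hodd (by decide)), hx,
        Nat.gcd_eq_right (dvd_mul_left i 2), Nat.mul_div_cancel _ hodd.pos]
    have hy : orderOf (x ^ (i + 1)) = i := by
      rw [orderOf_pow' x (by omega), hx]
      obtain ⟨j, hj⟩ := hodd
      have hg : Nat.gcd (2 * i) (i + 1) = 2 := by
        rw [hj, show 2 * j + 1 + 1 = 2 * (j + 1) by ring, Nat.gcd_mul_left]
        have : Nat.Coprime (2 * j + 1) (j + 1) := by
          rw [show 2 * j + 1 = j + (j + 1) by ring, Nat.coprime_add_self_left]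
          simp
        rw [this, mul_one]
      rw [hg, Nat.mul_div_cancel_left _ (by norm_num)]
    refine ⟨(⟨x ^ i, hu⟩, ⟨x ^ (i + 1), hy⟩), Subtype.ext ?_⟩
    show x ^ i * x ^ (i + 1) = x
    have h1 : x ^ (2 * i) = 1 := hx ▸ pow_orderOf_eq_one x
    rw [← pow_add, show i + (i + 1) = 2 * i + 1 by ring, pow_succ, h1, one_mul]

end TorusData

end CfsgLib.Chev
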