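import Mathlib
import Cfsg.Agent.Lib.Chev.ReeHall
import Cfsg.Agent.Lib.Chev.TorusData

/-!
The four families of tori of ²G₂(q).
-/

set_option autoImplicit false
set_option maxHeartbeats 800000
set_option maxRecDepth 100000
set_option linter.unusedSectionVars false

namespace CfsgLib.Chev

open Cfsg.Lie

namespace SetupG2

variable {K : Type*} [Field K] [Fintype K] {m : ℕ} (S : SetupG2 K m)
include S

/-- The residues of `q`. -/
theorem q_mod : 3 ^ (2 * m + 1) % 8 = 3 := by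
  rw [pow_succ, pow_mul, Nat.mul_mod, Nat.pow_mod]; simp

/-- A prime power dividing the order, split along the four factors. -/
theorem ordProj_split (l : ℕ) :
    l ^ (Nat.card ↥(twistedG2 K (3 ^ m))).factorization l ∣
      (3 ^ (2 * m + 1)) ^ 3 * (3 ^ (2 * m + 1) - 1) * (3 ^ (2 * m + 1) + 1) *
        (3 ^ (2 * m + 1) * 3 ^ (2 * m + 1) - 3 ^ (2 * m + 1) + 1) := by
  rw [← S.card_factor]
  exact Nat.ordProj_dvd _ l

/-- The split torus data. -/
theorem torusData_split (hm : 1 ≤ m) :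
    ∃ T : TorusData ↥(twistedG2 K (3 ^ m)),
      T.k = (3 ^ (2 * m + 1) - 1) / 2 ∧ T.c = 2 ∧ T.w = 2 ∧ IsCyclic ↥T.M := by
  classical
  obtain ⟨hq27, -, -, h3q, hqodd, -⟩ := S.arith hm
  obtain ⟨A, hA, hAc, hAN, hNE, hAT, hcent⟩ := S.split_torus_full hm
  have hodd := S.half_odd (m := m)
  set q := 3 ^ (2 * m + 1) with hq
  have h2k : 2 * ((q - 1) / 2) = q - 1 := by omega
  have hT : IsCyclic ↥S.tauG.range :=
    isCyclic_of_surjective S.tauG.rangeRestrict S.tauG.rangeRestrict_surjective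
  refine ⟨{ A := A, M := S.tauG.range, k := (q - 1) / 2, c := 2, w := 2, cyclic := hA, cardA := hAc,
            le := hAT, cardM := ?_, comm := ?_, cent := hcent, cardN := ?_, normEq := hNE,
            full := ?_, cop := ?_, odd := hodd, exp := ?_ }, rfl, rfl, rfl, hT⟩
  · rw [h2k, S.card_tauG]
  · rintro _ ⟨a, rfl⟩ _ ⟨b, rfl⟩
    rw [← map_mul, ← map_mul, mul_comm]
  · rw [h2k, hAN]
  · intro l hl hlk
    have hl2 : l ≠ 2 := by
      rintro rfl
      exact absurd (hodd.of_dvd_nat hlk) (by decide)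
    have hl1 : l ∣ q - 1 := h2k ▸ hlk.mul_left 2
    have hlq : ¬ l ∣ q := fun h => by
      have := Nat.dvd_sub h hl1
      rw [show q - (q - 1) = 1 by omega] at this
      exact hl.one_lt.ne' (Nat.dvd_one.1 this)
    have hlp : ¬ l ∣ q + 1 := fun h => by
      have := Nat.dvd_sub h hl1
      rw [show q + 1 - (q - 1) = 2 by omega] at this
      exact hl2 ((Nat.prime_dvd_prime_iff_eq hl Nat.prime_two).1 this)
    have hln : ¬ l ∣ q * q - q + 1 := fun h => by
      obtain ⟨-, -, h1, -, -⟩ := S.singer_prime hm hl h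
      exact h1 hl1
    set v := (Nat.card ↥(twistedG2 K (3 ^ m))).factorization l
    have hcop : ∀ a, ¬ l ∣ a → Nat.Coprime (l ^ v) a := fun a h =>
      Nat.Coprime.pow_left v (hl.coprime_iff_not_dvd.2 h)
    have h := ((hcop _ hlp).dvd_of_dvd_mul_right ((hcop _ hln).dvd_of_dvd_mul_right (S.ordProj_split l)))
    have h' := (hcop _ fun e => hlq (hl.dvd_of_dvd_pow e)).dvd_of_dvd_mul_left h
    rw [← hq, ← h2k] at h'
    exact (hcop 2 fun e => hl2 ((Nat.prime_dvd_prime_iff_eq hl Nat.prime_two).1 e)).dvd_of_dvd_mul_left h'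
  · exact (Nat.coprime_two_left.2 hodd)
  · intro x hx
    rw [h2k, ← S.card_tauG]
    exact congrArg Subtype.val (pow_card_eq_one' (G := ↥S.tauG.range) (x := ⟨x, hx⟩))

/-- The quarter torus data. -/
theorem torusData_klein (hm : 1 ≤ m) :
    ∃ T : TorusData ↥(twistedG2 K (3 ^ m)),
      T.k = (3 ^ (2 * m + 1) + 1) / 4 ∧ T.c = 4 ∧ T.w = 6 ∧ S.fourV ≤ T.M ∧
        Subgroup.normalizer (T.A : Set ↥(twistedG2 K (3 ^ m))) =
          Subgroup.normalizer (S.fourV : Set ↥(twistedG2 K (3 ^ m))) := by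
  classical
  obtain ⟨hq27, -, -, h3q, hqodd, -⟩ := S.arith hm
  obtain ⟨A, M, hA, hAc, hAN, hNE, -, hAM, hMab, hMc, hMexp, hVM, hNA, hcent⟩ := S.klein_torus_full hm
  have h8 := S.q_mod
  set q := 3 ^ (2 * m + 1) with hq
  have h4k : 4 * ((q + 1) / 4) = q + 1 := by omega
  have hodd : Odd ((q + 1) / 4) := by rw [Nat.odd_iff]; omega
  refine ⟨{ A := A, M := M, k := (q + 1) / 4, c := 4, w := 6, cyclic := hA, cardA := hAc,
            le := hAM, cardM := ?_, comm := hMab, cent := hcent, cardN := ?_, normEq := hNE,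
            full := ?_, cop := ?_, odd := hodd, exp := ?_ }, rfl, rfl, rfl, hVM, hNA⟩
  · rw [h4k, hMc]
  · rw [h4k, hAN]
  · intro l hl hlk
    have hl2 : l ≠ 2 := by
      rintro rfl
      exact absurd (hodd.of_dvd_nat hlk) (by decide)
    have hl1 : l ∣ q + 1 := h4k ▸ hlk.mul_left 4
    have hlq : ¬ l ∣ q := fun h => by
      have := Nat.dvd_sub hl1 h
      rw [show q + 1 - q = 1 by omega] at this
      exact hl.one_lt.ne' (Nat.dvd_one.1 this)
    have hlm : ¬ l ∣ q - 1 := fun h => by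
      have := Nat.dvd_sub hl1 h
      rw [show q + 1 - (q - 1) = 2 by omega] at this
      exact hl2 ((Nat.prime_dvd_prime_iff_eq hl Nat.prime_two).1 this)
    have hln : ¬ l ∣ q * q - q + 1 := fun h => by
      obtain ⟨-, -, -, h1, -⟩ := S.singer_prime hm hl h
      exact h1 hl1
    set v := (Nat.card ↥(twistedG2 K (3 ^ m))).factorization l
    have hcop : ∀ a, ¬ l ∣ a → Nat.Coprime (l ^ v) a := fun a h =>
      Nat.Coprime.pow_left v (hl.coprime_iff_not_dvd.2 h)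
    have h := (hcop _ hln).dvd_of_dvd_mul_right (S.ordProj_split l)
    have h' := (hcop _ fun e => (hl.dvd_mul.1 e).elim (fun e => hlq (hl.dvd_of_dvd_pow e))
      hlm).dvd_of_dvd_mul_left h
    rw [← hq, ← h4k] at h'
    exact (hcop 4 fun e => hl2 ((Nat.prime_dvd_prime_iff_eq hl Nat.prime_two).1
      (hl.dvd_of_dvd_pow (show l ∣ 2 ^ 2 from e)))).dvd_of_dvd_mul_left h'
  · exact (Nat.Coprime.pow_left 2 (Nat.coprime_two_left.2 hodd) : Nat.Coprime (2 ^ 2) _)
  · intro x hx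
    rw [show 2 * ((q + 1) / 4) = (q + 1) / 2 by omega]
    exact hMexp x hx

/-- The Singer tori data. -/
theorem torusData_singer (hm : 1 ≤ m) {N : ℕ}
    (hN : N = 3 ^ (2 * m + 1) - 3 ^ (m + 1) + 1 ∨ N = 3 ^ (2 * m + 1) + 3 ^ (m + 1) + 1) :
    ∃ T : TorusData ↥(twistedG2 K (3 ^ m)), T.k = N ∧ T.c = 1 ∧ T.w = 6 := by
  classical
  obtain ⟨hq27, hr9, hrr, h3q, hqodd, h3r⟩ := S.arith hm
  obtain ⟨A, hA, hAc, hAN, hNE, hcent⟩ := S.singer_torus_full hm hN
  obtain ⟨N', hNN⟩ : ∃ N',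
      (N = 3 ^ (2 * m + 1) - 3 ^ (m + 1) + 1 ∧ N' = 3 ^ (2 * m + 1) + 3 ^ (m + 1) + 1) ∨
      (N' = 3 ^ (2 * m + 1) - 3 ^ (m + 1) + 1 ∧ N = 3 ^ (2 * m + 1) + 3 ^ (m + 1) + 1) := by
    rcases hN with h | h
    · exact ⟨_, Or.inl ⟨h, rfl⟩⟩
    · exact ⟨_, Or.inr ⟨rfl, h⟩⟩
  obtain ⟨hprod, hco, -⟩ := S.singer_orders hm hNN
  set q := 3 ^ (2 * m + 1) with hq
  have h2r : 3 ^ (m + 1) % 2 = 1 := by simp [Nat.pow_mod]
  refine ⟨{ A := A, M := A, k := N, c := 1, w := 6, cyclic := hA, cardA := hAc,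
            le := le_rfl, cardM := ?_, comm := ?_, cent := hcent, cardN := ?_, normEq := hNE,
            full := ?_, cop := Nat.coprime_one_left N, odd := ?_, exp := ?_ }, rfl, rfl, rfl⟩
  · rw [one_mul, hAc]
  · intro x hx y hy
    have := hA
    let : CommGroup ↥A := IsCyclic.commGroup
    exact congrArg Subtype.val (mul_comm (⟨x, hx⟩ : ↥A) ⟨y, hy⟩)
  · rw [one_mul, hAN]
  · intro l hl hlk
    obtain ⟨-, -, h1, h2, h3⟩ := S.singer_prime hm hl (show l ∣ q * q - q + 1 from hprod ▸ hlk.mul_right N')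
    set v := (Nat.card ↥(twistedG2 K (3 ^ m))).factorization l
    have hcop : ∀ a, ¬ l ∣ a → Nat.Coprime (l ^ v) a := fun a h =>
      Nat.Coprime.pow_left v (hl.coprime_iff_not_dvd.2 h)
    have h := (hcop _ fun e => (hl.dvd_mul.1 e).elim (fun e => (hl.dvd_mul.1 e).elim
      (fun e => h3 (hl.dvd_of_dvd_pow e)) h1) h2).dvd_of_dvd_mul_left (S.ordProj_split l)
    rw [← hq, ← hprod] at h
    exact (hcop _ fun e => hl.one_lt.ne' (Nat.dvd_one.1 (hco ▸ Nat.dvd_gcd hlk e))).dvd_of_dvd_mul_right h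
  · rw [Nat.odd_iff]
    rcases hN with rfl | rfl <;> omega
  · intro x hx
    rw [mul_comm, pow_mul, ← hAc]
    have : x ^ Nat.card ↥A = 1 := congrArg Subtype.val (pow_card_eq_one' (G := ↥A) (x := ⟨x, hx⟩))
    rw [this, one_pow]

end SetupG2

namespace ReeCount

variable {K : Type*} [Field K] [Fintype K] {m : ℕ}

/-- Element counts for the split torus. -/
theorem split (S : SetupG2 K m) (hm : 1 ≤ m) (T : TorusData ↥(twistedG2 K (3 ^ m)))
    (hk : T.k = (3 ^ (2 * m + 1) - 1) / 2) (hc : T.c = 2) (hw : T.w = 2) (hcyc : IsCyclic ↥T.M)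
    {i : ℕ} (hi : 2 < i) (hid : i ∣ 3 ^ (2 * m + 1) - 1) :
    2 * Nat.card {g : ↥(twistedG2 K (3 ^ m)) // orderOf g = i} =
      Nat.totient i * (3 ^ (2 * m + 1)) ^ 3 * ((3 ^ (2 * m + 1)) ^ 3 + 1) := by
  classical
  obtain ⟨hq27, -, -, -, hqodd, -⟩ := S.arith hm
  have hodd := T.odd
  have hcm : T.c * T.k = 3 ^ (2 * m + 1) - 1 := by
    rw [hc, hk]; omega
  have hM : Nat.card {x : ↥T.M // orderOf x = i} = Nat.totient i := by
    have := hcyc
    have := Fintype.ofFinite ↥T.M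
    rw [Nat.card_eq_fintype_card, Fintype.card_subtype]
    exact IsCyclic.card_orderOf_eq_totient (by rw [← Nat.card_eq_fintype_card, T.cardM, hcm]; exact hid)
  -- write `i` as `e * i'`
  obtain ⟨e, i', he, hi', hik⟩ : ∃ e i', e * i' = i ∧ 1 < i' ∧ i' ∣ T.k := by
    rcases Nat.even_or_odd i with h | h
    · obtain ⟨i', rfl⟩ := h
      refine ⟨2, i', by omega, by omega, ?_⟩
      rw [← two_mul, ← hcm, hc] at hid
      exact Nat.dvd_of_mul_dvd_mul_left (by norm_num) hid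
    · refine ⟨1, i, one_mul i, by omega, ?_⟩
      rw [← hcm, hc] at hid
      exact (Nat.coprime_two_right.2 h).dvd_of_dvd_mul_left hid
  have h := T.card_orderOf (e := e) hi' hik
  rw [he, hM, hw, hcm, S.card_factor] at h
  set q := 3 ^ (2 * m + 1)
  set N := Nat.card {g : ↥(twistedG2 K (3 ^ m)) // orderOf g = i}
  apply Nat.eq_of_mul_eq_mul_right (m := q - 1) (by omega)
  have e3 : q ^ 3 + 1 = (q + 1) * (q * q - q + 1) := by
    zify [Nat.le_mul_self q]; ring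
  calc 2 * N * (q - 1) = N * (2 * (q - 1)) := by ring
    _ = _ := h
    _ = _ := by rw [e3]; ring

/-- Element counts for the quarter torus. -/
theorem klein (S : SetupG2 K m) (hm : 1 ≤ m) (T : TorusData ↥(twistedG2 K (3 ^ m)))
    (hk : T.k = (3 ^ (2 * m + 1) + 1) / 4) (hc : T.c = 4) (hw : T.w = 6)
    {i : ℕ} (hi : 1 < i) (hid : i ∣ (3 ^ (2 * m + 1) + 1) / 4) :
    6 * Nat.card {g : ↥(twistedG2 K (3 ^ m)) // orderOf g = i} =
        Nat.totient i * (3 ^ (2 * m + 1)) ^ 3 * (3 ^ (2 * m + 1) - 1) *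
          ((3 ^ (2 * m + 1)) ^ 2 - 3 ^ (2 * m + 1) + 1) ∧
      2 * Nat.card {g : ↥(twistedG2 K (3 ^ m)) // orderOf g = 2 * i} =
        Nat.totient i * (3 ^ (2 * m + 1)) ^ 3 * (3 ^ (2 * m + 1) - 1) *
          ((3 ^ (2 * m + 1)) ^ 2 - 3 ^ (2 * m + 1) + 1) := by
  obtain ⟨hq27, -, -, -, hqodd, -⟩ := S.arith hm
  have h8 := S.q_mod
  have hcm : T.c * T.k = 3 ^ (2 * m + 1) + 1 := by
    rw [hc, hk]; omega
  have hik : i ∣ T.k := hk ▸ hid
  have h1 := T.card_orderOf (e := 1) hi hik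
  rw [one_mul, T.card_M_orderOf hik, hw, hcm, S.card_factor] at h1
  have h2 := T.card_orderOf (e := 2) hi hik
  rw [T.card_M_two_mul hik, hw, hcm, S.card_factor, hc] at h2
  set q := 3 ^ (2 * m + 1)
  set N1 := Nat.card {g : ↥(twistedG2 K (3 ^ m)) // orderOf g = i}
  set N2 := Nat.card {g : ↥(twistedG2 K (3 ^ m)) // orderOf g = 2 * i}
  rw [sq q]
  constructor
  · apply Nat.eq_of_mul_eq_mul_right (m := q + 1) (by omega)
    calc 6 * N1 * (q + 1) = N1 * (6 * (q + 1)) := by ring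
      _ = _ := h1
      _ = _ := by ring
  · apply Nat.eq_of_mul_eq_mul_right (m := 3 * (q + 1)) (by omega)
    calc 2 * N2 * (3 * (q + 1)) = N2 * (6 * (q + 1)) := by ring
      _ = _ := h2
      _ = _ := by ring

/-- Element counts for a Singer torus. -/
theorem singer (S : SetupG2 K m) (hm : 1 ≤ m) (T : TorusData ↥(twistedG2 K (3 ^ m))) {N N' : ℕ}
    (hk : T.k = N) (hc : T.c = 1) (hw : T.w = 6)
    (hN : (N = 3 ^ (2 * m + 1) - 3 ^ (m + 1) + 1 ∧ N' = 3 ^ (2 * m + 1) + 3 ^ (m + 1) + 1) ∨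
      (N' = 3 ^ (2 * m + 1) - 3 ^ (m + 1) + 1 ∧ N = 3 ^ (2 * m + 1) + 3 ^ (m + 1) + 1))
    {i : ℕ} (hi : 1 < i) (hid : i ∣ N) :
    6 * Nat.card {g : ↥(twistedG2 K (3 ^ m)) // orderOf g = i} =
      Nat.totient i * (3 ^ (2 * m + 1)) ^ 3 * ((3 ^ (2 * m + 1)) ^ 2 - 1) * N' := by
  obtain ⟨hprod, -, h19⟩ := S.singer_orders hm hN
  have hik : i ∣ T.k := hk ▸ hid
  have h1 := T.card_orderOf (e := 1) hi hik
  rw [one_mul, T.card_M_orderOf hik, hw, hc, hk, S.card_factor, ← hprod] at h1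
  set q := 3 ^ (2 * m + 1)
  set C := Nat.card {g : ↥(twistedG2 K (3 ^ m)) // orderOf g = i}
  rw [show q ^ 2 - 1 = (q - 1) * (q + 1) by rw [mul_comm, ← Nat.sq_sub_sq, one_pow]]
  apply Nat.eq_of_mul_eq_mul_right (m := N) (by omega)
  calc 6 * C * N = C * (6 * (1 * N)) := by ring
    _ = _ := h1
    _ = _ := by ring

end ReeCount

end CfsgLib.Chev
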