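import Mathlib
import Cfsg.Agent.Lib.Chev.ReeLayers
import Cfsg.Agent.Lib.Chev.ReeSinger
import Cfsg.Agent.Lib.Chev.TwistFGPerfect

/-!
# The smallest degree of a faithful representation of ²G₂(q)
-/

set_option autoImplicit false
set_option maxHeartbeats 800000
set_option maxRecDepth 100000
set_option linter.unusedSectionVars false

namespace CfsgLib.Chev

open Cfsg.Lie Module

namespace EigProj

variable {A : Type*} [AddCommGroup A] [Fintype A] {M : Type*} [AddCommGroup M] [Module ℂ M]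
  (Y : A → Module.End ℂ M)

/-- The projection on the eigenspace of a character. -/
noncomputable def proj (χ : AddChar A ℂ) : Module.End ℂ M :=
  (Fintype.card A : ℂ)⁻¹ • ∑ a, χ (-a) • Y a

variable {Y}

theorem mul_proj (hadd : ∀ a b, Y (a + b) = Y a * Y b) (χ : AddChar A ℂ) (b : A) :
    Y b * proj Y χ = χ b • proj Y χ := by
  rw [proj, mul_smul_comm, Finset.mul_sum, smul_comm (χ b)]
  congr 1
  rw [Finset.smul_sum]
  refine Fintype.sum_equiv (Equiv.addLeft b) _ _ fun a => ?_
  simp only [Equiv.coe_addLeft, mul_smul_comm, ← hadd, smul_smul]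
  congr 1
  rw [← AddChar.map_add_eq_mul]
  congr 1
  abel

theorem proj_eigen {χ φ : AddChar A ℂ} [Decidable (χ = φ)] {x : M} (hx : ∀ a, Y a x = φ a • x) :
    proj Y χ x = if χ = φ then x else 0 := by
  classical
  have hs : ∑ a, χ (-a) * φ a = if φ * χ⁻¹ = 0 then (Fintype.card A : ℂ) else 0 := by
    rw [← AddChar.sum_eq_ite]
    refine Finset.sum_congr rfl fun a _ => ?_
    rw [AddChar.mul_apply, AddChar.inv_apply, mul_comm]
  have e : proj Y χ x = ((Fintype.card A : ℂ)⁻¹ * ∑ a, χ (-a) * φ a) • x := by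
    simp only [proj, LinearMap.smul_apply, LinearMap.sum_apply, hx, smul_smul, ← Finset.sum_smul]
  rw [e, hs]
  by_cases h : χ = φ
  · subst h
    have hc : χ * χ⁻¹ = 0 := mul_inv_cancel χ
    rw [if_pos rfl, if_pos hc, inv_mul_cancel₀ (by simp), one_smul]
  · have hc : ¬ φ * χ⁻¹ = 0 := fun h' => h ((mul_inv_eq_one (G := AddChar A ℂ)).1 h').symm
    rw [if_neg h, if_neg hc, mul_zero, zero_smul]

theorem sum_proj (h0 : Y 0 = 1) : ∑ χ : AddChar A ℂ, proj Y χ = 1 := by
  classical
  simp only [proj, ← Finset.smul_sum]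
  rw [Finset.sum_comm]
  simp only [← Finset.sum_smul, AddChar.sum_apply_eq_ite, neg_eq_zero, ite_smul, zero_smul,
    Finset.sum_ite_eq', Finset.mem_univ, if_true, h0, smul_smul]
  rw [inv_mul_cancel₀ (by simp), one_smul]

theorem proj_mul (hadd : ∀ a b, Y (a + b) = Y a * Y b) (χ φ : AddChar A ℂ) [Decidable (χ = φ)] :
    proj Y χ * proj Y φ = if χ = φ then proj Y φ else 0 := by
  refine LinearMap.ext fun x => ?_
  rw [Module.End.mul_apply, proj_eigen (φ := φ) (fun a => by
    rw [← Module.End.mul_apply, mul_proj hadd, LinearMap.smul_apply])]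
  split <;> rfl

theorem isIdem (hadd : ∀ a b, Y (a + b) = Y a * Y b) (χ : AddChar A ℂ) : IsIdempotentElem (proj Y χ) := by
  classical
  rw [IsIdempotentElem, proj_mul hadd, if_pos rfl]

end EigProj

/-- The trace of a projection is the dimension of its image. -/
theorem trace_idem {M : Type*} [AddCommGroup M] [Module ℂ M] [FiniteDimensional ℂ M] {f : Module.End ℂ M}
    (hf : IsIdempotentElem f) : LinearMap.trace ℂ M f = (finrank ℂ (LinearMap.range f) : ℂ) :=
  ((LinearMap.isProj_range_iff_isIdempotentElem f).2 hf).trace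

namespace SetupG2

open EigProj

variable {K : Type*} [Field K] [Fintype K] {m : ℕ} (S : SetupG2 K m)
include S

variable {M : Type*} [AddCommGroup M] [Module ℂ M] [FiniteDimensional ℂ M]

/-- The minimal degree. -/
theorem min_degree (hm : 1 ≤ m) (ρ : Representation ℂ ↥(twistedG2 K (3 ^ m)) M) (hne : ∃ g, ρ g ≠ 1) :
    (3 ^ (2 * m + 1)) ^ 2 - 3 ^ (2 * m + 1) + 1 ≤ finrank ℂ M := by
  classical
  have := S.char
  set q := 3 ^ (2 * m + 1) with hq
  let Z : K → Module.End ℂ M := fun v => ρ (S.wU 0 0 v)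
  let Y : K → Module.End ℂ M := fun u => ρ (S.wU 0 u 0)
  have hZadd : ∀ a b, Z (a + b) = Z a * Z b := fun a b => by
    simp only [Z, ← map_mul, S.wU_low_mul, add_zero]
  have hZ0 : Z 0 = 1 := by simp only [Z, S.wU_zero, map_one]
  have hYadd : ∀ a b, Y (a + b) = Y a * Y b := fun a b => by
    simp only [Y, ← map_mul, S.wU_low_mul, add_zero]
  have hY0 : Y 0 = 1 := by simp only [Y, S.wU_zero, map_one]
  -- the torus permutes the eigenspaces
  have hconj : ∀ (b : Kˣ) (ψ : AddChar K ℂ),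
      ρ (S.tauG b) * proj Z ψ * ρ (S.tauG b)⁻¹ = proj Z (ψ.mulShift ((b⁻¹ : Kˣ) : K)) := by
    intro b ψ
    simp only [proj, mul_smul_comm, smul_mul_assoc, Finset.mul_sum, Finset.sum_mul]
    congr 1
    refine Fintype.sum_equiv (Equiv.mulLeft₀ ((b : Kˣ) : K) b.ne_zero) _ _ fun v => ?_
    simp only [Equiv.mulLeft₀_apply, Z, ← map_mul, S.tau_conj_wU, mul_zero, AddChar.mulShift_apply]
    have h11 : S.tauExp 11 = 1 := rfl
    rw [h11, zpow_one, mul_neg, ← mul_assoc, ← Units.val_mul, inv_mul_cancel, Units.val_one, one_mul]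
  -- some non-trivial eigenspace
  have hex : ∃ ψ : AddChar K ℂ, ψ ≠ 1 ∧ proj Z ψ ≠ 0 := by
    by_contra hall
    push Not at hall
    have h1 : proj Z 1 = 1 := by
      rw [← sum_proj (Y := Z) hZ0, Finset.sum_eq_single_of_mem (1 : AddChar K ℂ) (Finset.mem_univ _)
        fun ψ _ h => hall ψ h]
    have hker : S.wU 0 0 1 ∈ MonoidHom.ker ρ := by
      rw [MonoidHom.mem_ker]
      have := mul_proj hZadd (1 : AddChar K ℂ) 1
      rw [h1, mul_one, AddChar.one_apply, one_smul] at this
      exact this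
    have hne1 : S.wU 0 0 (1 : K) ≠ 1 := fun h => one_ne_zero (S.wU_inj (h.trans S.wU_zero.symm)).2.2
    rcases (S.simple hm).1.eq_bot_or_eq_top_of_normal (MonoidHom.ker ρ) (MonoidHom.normal_ker ρ) with h | h
    · rw [h, Subgroup.mem_bot] at hker
      exact hne1 hker
    · obtain ⟨g, hg⟩ := hne
      exact hg (MonoidHom.mem_ker.1 (h ▸ Subgroup.mem_top g))
  have hall : ∀ ψ : AddChar K ℂ, ψ ≠ 1 → proj Z ψ ≠ 0 := by
    obtain ⟨ψ₀, h0, hp⟩ := hex
    intro ψ hψ hz
    have hsurj : Function.Surjective (fun a : K => ψ₀.mulShift a) :=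
      ((Fintype.bijective_iff_injective_and_card _).mpr
        ⟨AddChar.to_mulShift_inj_of_isPrimitive (AddChar.IsPrimitive.of_ne_one h0), AddChar.card_eq.symm⟩).2
    obtain ⟨a, ha⟩ := hsurj ψ
    have ha0 : a ≠ 0 := fun h => hψ (by rw [← ha]; simp [h])
    refine hp ?_
    have h := hconj (Units.mk0 a ha0)⁻¹ ψ₀
    simp only at ha
    rw [inv_inv, Units.val_mk0, ha, hz] at h
    have h2 := congrArg (fun f => ρ (S.tauG (Units.mk0 a ha0)⁻¹)⁻¹ * f * ρ (S.tauG (Units.mk0 a ha0)⁻¹)) h
    simp only [mul_zero, zero_mul, ← mul_assoc, ← map_mul, inv_mul_cancel, map_one, one_mul] at h2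
    rwa [mul_assoc, ← map_mul, inv_mul_cancel, map_one, mul_one] at h2
  -- each of them has dimension at least q
  have hdim : ∀ ψ : AddChar K ℂ, ψ ≠ 1 → q ≤ finrank ℂ (LinearMap.range (proj Z ψ)) := by
    intro ψ hψ
    obtain ⟨φ, hφ⟩ : ∃ φ : AddChar K ℂ, proj Y φ * proj Z ψ ≠ 0 := by
      by_contra hc
      push Not at hc
      refine hall ψ hψ ?_
      rw [← one_mul (proj Z ψ), ← sum_proj (Y := Y) hY0, Finset.sum_mul]
      exact Finset.sum_eq_zero fun φ _ => hc φ
    obtain ⟨x, hx⟩ : ∃ x, proj Y φ (proj Z ψ x) ≠ 0 := by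
      by_contra hc
      push Not at hc
      exact hφ (LinearMap.ext hc)
    set w₀ := proj Y φ (proj Z ψ x) with hw
    have hYw : ∀ u, ρ (S.wU 0 u 0) w₀ = φ u • w₀ := fun u => LinearMap.congr_fun (mul_proj hYadd φ u) _
    have hcomm : ∀ u v, Z v * Y u = Y u * Z v := fun u v => by
      simp only [Z, Y, ← map_mul, S.wU_low_mul, add_comm u, add_comm v]
    have hcp : ∀ v, Z v * proj Y φ = proj Y φ * Z v := fun v => by
      simp only [proj, mul_smul_comm, smul_mul_assoc, Finset.mul_sum, Finset.sum_mul, hcomm]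
    have hZw : ∀ v, ρ (S.wU 0 0 v) w₀ = ψ v • w₀ := fun v => by
      show Z v w₀ = _
      rw [hw, ← Module.End.mul_apply, hcp, Module.End.mul_apply,
        ← Module.End.mul_apply (Z v), mul_proj hZadd, LinearMap.smul_apply, map_smul]
    let w : K → M := fun t => ρ (S.wU t 0 0) w₀
    let χ : K → AddChar K ℂ := fun t => φ * ψ.mulShift (-t)
    have hYt : ∀ t u, Y u (w t) = χ t u • w t := by
      intro t u
      have e : S.wU 0 u 0 * S.wU t 0 0 = (S.wU t 0 0 * S.wU 0 u 0) * S.wU 0 0 (-(t * u)) := by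
        have h := S.wU_comm_mid t 0 0 u 0
        rw [mul_inv_eq_iff_eq_mul, mul_inv_eq_iff_eq_mul] at h
        have hc : S.wU t 0 0 * S.wU 0 0 (-(t * u)) = S.wU 0 0 (-(t * u)) * S.wU t 0 0 := by
          have h' := S.wU_comm_mid t 0 0 0 (-(t * u))
          rwa [mul_zero, S.wU_zero, mul_inv_eq_one, mul_inv_eq_iff_eq_mul] at h'
        rw [h, mul_assoc, hc]
        simp only [← mul_assoc, S.wU_low_mul]
        congr 2 <;> ring
      show ρ (S.wU 0 u 0) (ρ (S.wU t 0 0) w₀) = _
      rw [← Module.End.mul_apply, ← map_mul, e, map_mul, Module.End.mul_apply, hZw, map_smul, map_mul,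
        Module.End.mul_apply, hYw, map_smul, smul_smul]
      congr 1
      rw [AddChar.mul_apply, AddChar.mulShift_apply, mul_comm, neg_mul]
    have hw0 : ∀ t, w t ≠ 0 := fun t h => hx (by
      have := congrArg (ρ (S.wU t 0 0)⁻¹) h
      rwa [← Module.End.mul_apply, ← map_mul, inv_mul_cancel, map_one, map_zero] at this)
    have hχ : Function.Injective χ := fun s t h => by
      have h' := AddChar.to_mulShift_inj_of_isPrimitive (AddChar.IsPrimitive.of_ne_one hψ) (mul_left_cancel h)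
      exact neg_injective h'
    have hli : LinearIndependent ℂ w := by
      rw [Fintype.linearIndependent_iff]
      intro c hc t
      have h := congrArg (proj Y (χ t)) hc
      simp only [map_sum, map_smul, map_zero, proj_eigen (hYt _)] at h
      rw [Finset.sum_eq_single_of_mem t (Finset.mem_univ t) (fun s _ hs => by
        rw [if_neg (fun e => hs (hχ e).symm), smul_zero]), if_pos rfl] at h
      exact (smul_eq_zero.1 h).resolve_right (hw0 t)
    have hsub : Submodule.span ℂ (Set.range w) ≤ LinearMap.range (proj Z ψ) := by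
      rw [Submodule.span_le]
      rintro _ ⟨t, rfl⟩
      refine ⟨w t, ?_⟩
      rw [proj_eigen (φ := ψ) fun v => ?_, if_pos rfl]
      show ρ (S.wU 0 0 v) (ρ (S.wU t 0 0) w₀) = _
      have hc := S.wU_comm_mid t 0 0 0 v
      rw [mul_zero, S.wU_zero, mul_inv_eq_one, mul_inv_eq_iff_eq_mul] at hc
      rw [← Module.End.mul_apply, ← map_mul, ← hc, map_mul, Module.End.mul_apply, hZw, map_smul]
    have h := Submodule.finrank_mono hsub
    rwa [finrank_span_eq_card hli, S.card] at h
  -- the dimensions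
  have htr : (finrank ℂ M : ℂ) = ∑ ψ : AddChar K ℂ, (finrank ℂ (LinearMap.range (proj Z ψ)) : ℂ) := by
    rw [← LinearMap.trace_one, ← sum_proj (Y := Z) hZ0, map_sum]
    exact Finset.sum_congr rfl fun ψ _ => trace_idem (isIdem hZadd ψ)
  have hsum : finrank ℂ M = ∑ ψ : AddChar K ℂ, finrank ℂ (LinearMap.range (proj Z ψ)) := by
    exact_mod_cast htr
  rw [← Finset.add_sum_erase _ _ (Finset.mem_univ (1 : AddChar K ℂ))] at hsum
  have hrest : (q - 1) * q ≤
      ∑ ψ ∈ Finset.univ.erase (1 : AddChar K ℂ), finrank ℂ (LinearMap.range (proj Z ψ)) := by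
    have h := Finset.card_nsmul_le_sum (Finset.univ.erase (1 : AddChar K ℂ)) _ q
      (fun ψ hψ => hdim ψ (Finset.ne_of_mem_erase hψ))
    rwa [smul_eq_mul, Finset.card_erase_of_mem (Finset.mem_univ _), Finset.card_univ, AddChar.card_eq,
      S.card] at h
  have hq2 : q ^ 2 - q = (q - 1) * q := by rw [Nat.sub_one_mul, sq]
  rw [hq2]
  by_contra hlt
  have hk : finrank ℂ M = (q - 1) * q := by omega
  have hP1 : proj Z 1 = 0 := by
    have h0 : finrank ℂ (LinearMap.range (proj Z 1)) = 0 := by omega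
    rwa [Submodule.finrank_eq_zero, LinearMap.range_eq_bot] at h0
  -- the involution has trace zero
  have hJ : LinearMap.trace ℂ M (ρ S.invol) = 0 := by
    rw [← mul_one (ρ S.invol), ← sum_proj (Y := Z) hZ0, Finset.mul_sum, map_sum]
    refine Finset.sum_eq_zero fun ψ _ => ?_
    by_cases hψ : ψ = 1
    · rw [hψ, hP1, mul_zero, map_zero]
    have hmove : ρ S.invol * proj Z ψ = proj Z (ψ.mulShift (-1)) * ρ S.invol := by
      have h := hconj (-1) ψ
      rw [show S.invol = S.tauG (-1) from rfl]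
      rw [inv_neg, inv_one, Units.val_neg, Units.val_one] at h
      rw [← h, mul_assoc (ρ (S.tauG (-1)) * proj Z ψ), ← map_mul, inv_mul_cancel, map_one, mul_one]
    have hne' : ψ ≠ ψ.mulShift (-1) := by
      intro h
      have h' := AddChar.to_mulShift_inj_of_isPrimitive (AddChar.IsPrimitive.of_ne_one hψ)
        (a₁ := (1 : K)) (a₂ := -1) (by rw [← h]; ext x; simp [AddChar.mulShift_apply])
      exact S.neg_one_ne_one (Units.ext (by simpa using h'.symm))
    rw [← isIdem hZadd ψ, ← mul_assoc, LinearMap.trace_mul_comm, hmove, ← mul_assoc, proj_mul hZadd,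
      if_neg hne', zero_mul, map_zero]
  obtain ⟨P⟩ : Nonempty (Sylow 2 ↥(twistedG2 K (3 ^ m))) := inferInstance
  obtain ⟨hP8, hP2⟩ := S.sylow_two P
  have := Fintype.ofFinite (↥(P : Subgroup ↥(twistedG2 K (3 ^ m))))
  let A : Module.End ℂ M := (8 : ℂ)⁻¹ • ∑ x : ↥(P : Subgroup ↥(twistedG2 K (3 ^ m))), ρ x
  have hAA : IsIdempotentElem A := by
    have hmul : ∀ y : ↥(P : Subgroup ↥(twistedG2 K (3 ^ m))),
        ρ y * ∑ x : ↥(P : Subgroup ↥(twistedG2 K (3 ^ m))), ρ x = ∑ x : ↥(P : Subgroup ↥(twistedG2 K (3 ^ m))), ρ x := by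
      intro y
      rw [Finset.mul_sum]
      exact Fintype.sum_equiv (Equiv.mulLeft y) _ _ fun x => by simp [← map_mul]
    show A * A = A
    simp only [A, smul_mul_assoc, mul_smul_comm, Finset.sum_mul, hmul, Finset.sum_const, Finset.card_univ,
      ← Nat.card_eq_fintype_card, ← Nat.cast_smul_eq_nsmul ℂ, smul_smul]
    rw [hP8]
    norm_num
  have hA : LinearMap.trace ℂ M A = (8 : ℂ)⁻¹ * finrank ℂ M := by
    simp only [A, map_smul, map_sum, smul_eq_mul]
    congr 1
    rw [Finset.sum_eq_single_of_mem (1 : ↥(P : Subgroup ↥(twistedG2 K (3 ^ m)))) (Finset.mem_univ _) fun x _ hx => ?_]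
    · rw [Subgroup.coe_one, map_one, LinearMap.trace_one]
    obtain ⟨g, hg⟩ := S.isConj_invol hm (hP2 x x.2) (fun h => hx (Subtype.ext h))
    rw [← hg, map_mul, LinearMap.trace_mul_comm, ← map_mul, inv_mul_cancel_left]
    exact hJ
  rw [trace_idem hAA, hk] at hA
  have h8 : 8 * finrank ℂ (LinearMap.range A) = (q - 1) * q := by
    have : (8 : ℂ) * (finrank ℂ (LinearMap.range A) : ℂ) = (((q - 1) * q : ℕ) : ℂ) := by
      rw [hA]; field_simp
    exact_mod_cast this
  have h4 : q % 4 = 3 := by rw [hq, pow_succ, pow_mul, Nat.mul_mod, Nat.pow_mod]; simp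
  clear_value q
  have h4' : ((q - 1) * q) % 4 = 2 := by
    rw [Nat.mul_mod, h4, show (q - 1) % 4 = 2 by omega]
  omega

end SetupG2

end CfsgLib.Chev
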