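import Mathlib
import Cfsg.Agent.Lib.Chev.ReeOrders
import Cfsg.Agent.Lib.Chev.ReeTorusKlein

/-!
Large groups with the spectrum of `²G₂(q)³`: `R × R × (W^n ⋊ (2 × L₂(q)))`, where `W` is the tensor product of the
natural module of `SL₂(q)` with its Frobenius twist and the factor of order two acts on `W` by `-1`.
-/

set_option autoImplicit false
set_option linter.unusedSectionVars false

namespace CfsgLib.Chev.ReeCube

open Matrix Cfsg.Lie

variable {K : Type*} [Field K] [CharP K 3] {n : ℕ}

/-- The semisimple acting group with sign. -/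
abbrev Act (K : Type*) [Field K] := SpecialLinearGroup (Fin 2) K × ℤˣ

/-- The module. -/
abbrev W (K : Type*) (n : ℕ) := Fin n → Matrix (Fin 2) (Fin 2) K

/-- The twisted matrix. -/
noncomputable def tw (g : SpecialLinearGroup (Fin 2) K) : Matrix (Fin 2) (Fin 2) K :=
  ((g : Matrix (Fin 2) (Fin 2) K).map (frobenius K 3))ᵀ

theorem tw_mul (g h : SpecialLinearGroup (Fin 2) K) : tw (g * h) = tw h * tw g := by
  simp [tw, Matrix.map_mul, transpose_mul]

theorem tw_one : tw (1 : SpecialLinearGroup (Fin 2) K) = 1 := by simp [tw]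

/-- The action. -/
noncomputable def act (p : Act K) (w : W K n) : W K n :=
  fun i => ((p.2 : ℤ) : K) • ((p.1 : Matrix (Fin 2) (Fin 2) K) * w i * tw p.1)

theorem act_mul (p p' : Act K) (w : W K n) : act (p * p') w = act p (act p' w) := by
  funext i
  simp [act, tw_mul, Matrix.mul_assoc, smul_smul]

theorem act_one (w : W K n) : act (1 : Act K) w = w := by
  funext i; simp [act, tw_one]

theorem act_add (p : Act K) (v w : W K n) : act p (v + w) = act p v + act p w := by
  funext i; simp [act, Matrix.mul_add, Matrix.add_mul, smul_add]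

/-- The action as automorphisms. -/
noncomputable def Ψ (K : Type*) [Field K] [CharP K 3] (n : ℕ) : Act K →* MulAut (Multiplicative (W K n)) where
  toFun p :=
    { toFun := fun w => Multiplicative.ofAdd (act p w.toAdd)
      invFun := fun w => Multiplicative.ofAdd (act p⁻¹ w.toAdd)
      left_inv := fun w => by simp [← act_mul, act_one]
      right_inv := fun w => by simp [← act_mul, act_one]
      map_mul' := fun v w => by simp [act_add] }
  map_one' := MulEquiv.ext fun w => by simp [act_one]
  map_mul' := fun p p' => MulEquiv.ext fun w => by simp [act_mul]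

theorem Ψ_apply (p : Act K) (w : Multiplicative (W K n)) : Ψ K n p w = Multiplicative.ofAdd (act p w.toAdd) := rfl

/-- The group. -/
abbrev Grp (K : Type*) [Field K] [CharP K 3] (n : ℕ) :=
  SemidirectProduct (Multiplicative (W K n)) ↥(Ψ K n).range (Ψ K n).range.subtype

theorem three_mul_zero (v : W K n) : v + v + v = 0 := by
  funext i; ext a b
  show v i a b + v i a b + v i a b = 0
  have h3 : ((3 : ℕ) : K) = 0 := CharP.cast_eq_zero K 3
  push_cast at h3
  linear_combination (v i a b) * h3

theorem two_ne : (2 : K) ≠ 0 := fun h => by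
  have h3 : ((3 : ℕ) : K) = 0 := CharP.cast_eq_zero K 3
  push_cast at h3
  exact one_ne_zero (α := K) (by linear_combination h3 - h)

theorem ch (A : Matrix (Fin 2) (Fin 2) K) (h : A.det = 1) : A * A + 1 = A.trace • A := by
  rw [det_fin_two] at h
  ext i j
  fin_cases i <;> fin_cases j <;>
    simp [Matrix.mul_apply, Fin.sum_univ_two, Matrix.trace_fin_two] <;>
    first
    | linear_combination -h
    | linear_combination h
    | ring

theorem ch_self (g : SpecialLinearGroup (Fin 2) K) :
    (g : Matrix (Fin 2) (Fin 2) K) * g + 1 = (g : Matrix (Fin 2) (Fin 2) K).trace • (g : Matrix (Fin 2) (Fin 2) K) :=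
  ch _ g.det_coe

/-- No non-zero fixed matrix unless the trace is in the prime field. -/
theorem fixed_zero {g : SpecialLinearGroup (Fin 2) K} (ht : (g : Matrix (Fin 2) (Fin 2) K).trace ^ 3 ≠
    (g : Matrix (Fin 2) (Fin 2) K).trace) {X : Matrix (Fin 2) (Fin 2) K}
    (h : (g : Matrix (Fin 2) (Fin 2) K) * X * tw g = X) : X = 0 := by
  set A := (g : Matrix (Fin 2) (Fin 2) K) with hA
  set C := tw g⁻¹ with hC
  have hTC : tw g * C = 1 := by rw [hC, ← tw_mul, inv_mul_cancel, tw_one]
  have hCT : C * tw g = 1 := by rw [hC, ← tw_mul, mul_inv_cancel, tw_one]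
  have hAX : A * X = X * C := by
    conv_rhs => rw [← h]
    rw [Matrix.mul_assoc, hTC, Matrix.mul_one]
  have htr : C.trace = A.trace ^ 3 := by
    rw [hC, tw, trace_transpose, trace_fin_two, Matrix.map_apply, Matrix.map_apply, ← map_add, frobenius_def, hA,
      trace_fin_two]
    congr 1
    simp [Matrix.SpecialLinearGroup.coe_inv, adjugate_fin_two, add_comm]
  have hdet : C.det = 1 := by
    rw [hC, tw, det_transpose]
    show ((frobenius K 3).mapMatrix (g⁻¹ : SpecialLinearGroup (Fin 2) K).1).det = 1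
    rw [← RingHom.map_det, (g⁻¹).det_coe, map_one]
  have e1 : A * A * X + X = A.trace • (A * X) := by
    rw [← Matrix.smul_mul, ← ch_self g, ← hA, Matrix.add_mul, Matrix.one_mul]
  have e2 : X * C * C + X = C.trace • (X * C) := by
    rw [Matrix.mul_assoc X, ← Matrix.mul_smul, ← ch C hdet, Matrix.mul_add, Matrix.mul_one]
  rw [Matrix.mul_assoc A, hAX, ← Matrix.mul_assoc, hAX, e2, htr] at e1
  have e3 : (A.trace ^ 3 - A.trace) • (X * C) = 0 := by rw [sub_smul, e1, sub_self]
  have e4 := (smul_eq_zero.1 e3).resolve_left (sub_ne_zero.2 ht)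
  rw [← Matrix.mul_one X, ← hCT, ← Matrix.mul_assoc, e4, Matrix.zero_mul]

theorem cube_eq_self {t : K} (h : t ^ 3 = t) : t = 0 ∨ t = 1 ∨ t = -1 := by
  have : t * ((t - 1) * (t + 1)) = 0 := by linear_combination h
  rcases mul_eq_zero.1 this with h | h
  · exact Or.inl h
  rcases mul_eq_zero.1 h with h | h
  · exact Or.inr (Or.inl (sub_eq_zero.1 h))
  · exact Or.inr (Or.inr (eq_neg_of_add_eq_zero_left h))

theorem sign_cast (ε : ℤˣ) : ((ε : ℤ) : K) * ((ε : ℤ) : K) = 1 := by
  rcases Int.units_eq_one_or ε with rfl | rfl <;> simp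

/-- The action is free off the prime field traces. -/
theorem act_fixed (hns : ∀ x : K, x * x ≠ -1) {p : Act K}
    (ht : (p.1 : Matrix (Fin 2) (Fin 2) K).trace ^ 3 ≠ (p.1 : Matrix (Fin 2) (Fin 2) K).trace) {w : W K n}
    (h : act p w = w) : w = 0 := by
  have h2 : act (p * p) w = w := by rw [act_mul, h, h]
  funext i
  have hi := congrFun h2 i
  simp only [act, Prod.fst_mul, Prod.snd_mul, Units.val_mul, Int.cast_mul, sign_cast, one_smul] at hi
  refine fixed_zero (fun e => ?_) hi
  set A := (p.1 : Matrix (Fin 2) (Fin 2) K) with hA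
  have htr : ((p.1 * p.1 : SpecialLinearGroup (Fin 2) K) : Matrix (Fin 2) (Fin 2) K).trace = A.trace ^ 2 - 2 := by
    show (A * A).trace = _
    rw [eq_sub_of_add_eq (ch_self p.1), ← hA, trace_sub, trace_smul, trace_one,
      Fintype.card_fin, smul_eq_mul]
    push_cast; ring
  rw [htr] at e
  have h3 : ((3 : ℕ) : K) = 0 := CharP.cast_eq_zero K 3
  push_cast at h3
  rcases cube_eq_self e with e | e | e
  · exact hns A.trace (by linear_combination e + h3)
  · have h0 : A.trace = 0 := pow_eq_zero_iff (n := 2) (by norm_num) |>.1 (by linear_combination e + h3)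
    exact ht (by rw [h0]; ring)
  · have h1 : (A.trace - 1) * (A.trace + 1) = 0 := by linear_combination e
    rcases mul_eq_zero.1 h1 with h1 | h1
    · exact ht (by rw [sub_eq_zero.1 h1]; ring)
    · exact ht (by rw [eq_neg_of_add_eq_zero_left h1]; ring)

theorem Ψ_neg_one (ε : ℤˣ) : Ψ K n (-1, ε) = Ψ K n (1, ε) := by
  refine MulEquiv.ext fun w => ?_
  rw [Ψ_apply, Ψ_apply]
  congr 1
  funext i
  simp [act, tw, Matrix.map_neg, Matrix.transpose_neg]

theorem eq_pm_one {h : SpecialLinearGroup (Fin 2) K} (hh : h * h = 1) : h = 1 ∨ h = -1 := by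
  have hinv : h⁻¹ = h := inv_eq_of_mul_eq_one_right hh
  have e := congrArg (fun x : SpecialLinearGroup (Fin 2) K => (x : Matrix (Fin 2) (Fin 2) K)) hinv
  replace e : (h : Matrix (Fin 2) (Fin 2) K).adjugate = h.1 := e
  rw [adjugate_fin_two] at e
  have e00 := congrFun (congrFun e 0) 0
  have e01 := congrFun (congrFun e 0) 1
  have e10 := congrFun (congrFun e 1) 0
  simp at e00 e01 e10
  have z01 : h.1 0 1 = 0 := (mul_eq_zero.1 (show (2 : K) * h.1 0 1 = 0 by linear_combination -e01)).resolve_left two_ne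
  have z10 : h.1 1 0 = 0 := (mul_eq_zero.1 (show (2 : K) * h.1 1 0 = 0 by linear_combination -e10)).resolve_left two_ne
  have hd := h.det_coe
  rw [det_fin_two, z01, e00, zero_mul, sub_zero] at hd
  rcases mul_self_eq_one_iff.1 hd with hd | hd
  · left; ext i j; fin_cases i <;> fin_cases j <;> simp [z01, z10, e00, hd]
  · right; ext i j; fin_cases i <;> fin_cases j <;> simp [z01, z10, e00, hd]

theorem powers [Fintype K] {g : SpecialLinearGroup (Fin 2) K}
    (ht : (g : Matrix (Fin 2) (Fin 2) K).trace ^ 3 ≠ (g : Matrix (Fin 2) (Fin 2) K).trace) :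
    g ^ Fintype.card K = g ∨ g ^ Fintype.card K = g⁻¹ := by
  set A := (g : Matrix (Fin 2) (Fin 2) K) with hA
  set t := A.trace with htdef
  set q := Fintype.card K with hq
  obtain ⟨k, -, hk⟩ := FiniteField.card K 3
  have hch : A * A + 1 = t • A := ch_self g
  have rep : ∀ j : ℕ, ∃ a b : K, A ^ j = a • A + b • 1 ∧ ∀ x : K, x * x + 1 = t * x → x ^ j = a * x + b := by
    intro j
    induction j with
    | zero => exact ⟨0, 1, by simp, fun x _ => by simp⟩
    | succ j ih =>
      obtain ⟨a, b, h1, h2⟩ := ih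
      refine ⟨a * t + b, -a, ?_, fun x hx => ?_⟩
      · rw [pow_succ, h1, Matrix.add_mul, Matrix.smul_mul, Matrix.smul_mul, Matrix.one_mul, eq_sub_of_add_eq hch,
          smul_sub, smul_smul, add_smul, neg_smul]
        abel
      · rw [pow_succ, h2 x hx]; linear_combination a * hx
  obtain ⟨a, b, hy, hroot⟩ := rep q
  have hprod : (A ^ q - A) * (A ^ q - (t • 1 - A)) = 0 := by
    have e := congrArg (· ^ (3 ^ (k : ℕ))) hch
    rw [add_pow_char_pow_of_commute 3 k (Commute.one_right _), one_pow, (Commute.refl A).mul_pow, smul_pow,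
      ← hk, FiniteField.pow_card] at e
    have hc : A ^ q * A = A * A ^ q := (Commute.self_pow A q).eq.symm
    rw [Matrix.sub_mul, Matrix.mul_sub, Matrix.mul_sub, Matrix.mul_sub, Matrix.mul_sub, Matrix.mul_smul,
      Matrix.mul_smul, Matrix.mul_one, Matrix.mul_one, ← hc, eq_sub_of_add_eq e, eq_sub_of_add_eq hch]
    abel
  have hy' : A ^ q - A = (a - 1) • A + b • 1 := by rw [hy, sub_smul, one_smul]; abel
  have hg : ∀ c : Matrix (Fin 2) (Fin 2) K, A ^ q = c → (g ^ q : SpecialLinearGroup (Fin 2) K).1 = c := fun c h => by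
    show A ^ q = c
    exact h
  suffices A ^ q = A ∨ A ^ q = t • 1 - A by
    rcases this with h | h
    · exact Or.inl (Subtype.ext (hg _ h))
    · refine Or.inr (Subtype.ext ((hg _ h).trans ?_))
      show _ = A.adjugate
      rw [adjugate_fin_two, htdef, trace_fin_two]
      ext i j
      fin_cases i <;> fin_cases j <;> simp [hA]
  by_cases hsq : ∃ s, s * s = t * t - 4
  · left
    obtain ⟨s, hs⟩ := hsq
    have hs0 : s ≠ 0 := by
      rintro rfl
      have h3 : ((3 : ℕ) : K) = 0 := CharP.cast_eq_zero K 3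
      push_cast at h3
      have h1 : (t - 1) * (t + 1) = 0 := by linear_combination -hs + h3
      rcases mul_eq_zero.1 h1 with h1 | h1
      · exact ht (by rw [sub_eq_zero.1 h1]; ring)
      · exact ht (by rw [eq_neg_of_add_eq_zero_left h1]; ring)
    have h2 := two_ne (K := K)
    have key : ∀ s, s * s = t * t - 4 → (t + s) / 2 = a * ((t + s) / 2) + b := by
      intro s hs
      rw [← hroot _ (by field_simp; linear_combination hs), FiniteField.pow_card]
    have k1 := key s hs
    have k2 := key (-s) (by linear_combination hs)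
    have ha : a = 1 := by
      have : (a - 1) * s = 0 := by
        field_simp at k1 k2
        exact (mul_eq_zero.1 (show (2 : K) * ((a - 1) * s) = 0 by linear_combination k2 - k1)).resolve_left h2
      rcases mul_eq_zero.1 this with h | h
      · exact sub_eq_zero.1 h
      · exact absurd h hs0
    have hb : b = 0 := by rw [ha] at k1; linear_combination -k1
    rw [hy, ha, hb, one_smul, zero_smul, add_zero]
  · by_cases hd : (A ^ q - A).det = 0
    · left
      have hab : b * b + (a - 1) * b * t + (a - 1) * (a - 1) = 0 := by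
        rw [hy', det_fin_two] at hd
        simp at hd
        have hdetA := g.det_coe
        rw [← hA, det_fin_two] at hdetA
        rw [htdef, trace_fin_two]
        linear_combination hd - (a - 1) * (a - 1) * hdetA
      by_cases ha : a - 1 = 0
      · rw [ha] at hab
        have hb : b = 0 := mul_self_eq_zero.1 (by linear_combination hab)
        rw [← sub_eq_zero, hy', ha, hb, zero_smul, zero_smul, add_zero]
      · refine absurd ⟨2 * (b / (a - 1)) + t, ?_⟩ hsq
        field_simp
        linear_combination 4 * hab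
    · right
      have hu : IsUnit (A ^ q - A) := (Matrix.isUnit_iff_isUnit_det _).2 (isUnit_iff_ne_zero.2 hd)
      exact sub_eq_zero.1 (hu.mul_right_eq_zero.1 hprod)

theorem pow_right_left {x : Grp K n} {d : ℕ} (h : x.right ^ d = 1) :
    (x ^ d).right = 1 ∧ x.right.1 (x ^ d).left = (x ^ d).left := by
  have hr : (x ^ d).right = 1 := by rw [← SemidirectProduct.rightHom_eq_right, map_pow]; exact h
  refine ⟨hr, ?_⟩
  have hc := congrArg SemidirectProduct.left ((Commute.refl x).pow_right d).eq
  rw [SemidirectProduct.mul_left, SemidirectProduct.mul_left, hr, map_one, MulAut.one_apply, mul_comm x.left] at hc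
  have := mul_right_cancel hc
  simpa using this

theorem pow_three_mul {x : Grp K n} {d : ℕ} (h : x.right ^ d = 1) : x ^ (d * 3) = 1 := by
  obtain ⟨hr, -⟩ := pow_right_left h
  obtain ⟨y, hy⟩ : ∃ y, y = x ^ d := ⟨_, rfl⟩
  rw [pow_mul, ← hy]
  rw [← hy] at hr
  refine SemidirectProduct.ext ?_ (by simp [pow_three, hr])
  simp only [pow_three, SemidirectProduct.mul_left, hr, map_one, MulAut.one_apply, SemidirectProduct.one_left]
  refine Multiplicative.toAdd.injective ?_
  simp only [toAdd_mul, toAdd_one]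
  rw [← add_assoc]
  exact three_mul_zero _

theorem pow_free {x : Grp K n} {d : ℕ} (h : x.right ^ d = 1)
    (hfree : ∀ v, x.right.1 v = v → v = 1) : x ^ d = 1 := by
  obtain ⟨hr, hl⟩ := pow_right_left h
  exact SemidirectProduct.ext (hfree _ hl) hr

variable [Fintype K]

theorem not_sq_neg_one (hq : Fintype.card K % 4 = 3) (x : K) : x * x ≠ -1 := fun h =>
  FiniteField.isSquare_neg_one_iff.1 (⟨x, h.symm⟩ : IsSquare (-1 : K)) hq

theorem sign_pow_even (ε : ℤˣ) {d : ℕ} (hd : Even d) : ε ^ d = 1 := by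
  obtain ⟨c, rfl⟩ := hd
  rw [← two_mul, pow_mul, sq, Int.units_mul_self, one_pow]

/-- The element orders of the group. -/
theorem order_cases {m : ℕ} (hK : Fintype.card K = 3 ^ (2 * m + 1)) (hq : Fintype.card K % 4 = 3) (x : Grp K n) :
    orderOf x ∣ 6 ∨ orderOf x ∣ 9 ∨ orderOf x ∣ 3 ^ (2 * m + 1) - 1 ∨
      orderOf x ∣ (3 ^ (2 * m + 1) + 1) / 2 := by
  obtain ⟨⟨g, ε⟩, hp⟩ := MonoidHom.mem_range.1 x.right.2
  set A := (g : Matrix (Fin 2) (Fin 2) K) with hA
  set t := A.trace with htdef
  have hpow : ∀ d, Ψ K n (g ^ d, ε ^ d) = 1 → x.right ^ d = 1 := fun d h =>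
    Subtype.ext (by rw [SubgroupClass.coe_pow, ← hp, ← map_pow, Prod.pow_mk, h, OneMemClass.coe_one])
  have hch : A * A + 1 = t • A := ch_self g
  by_cases ht : t ^ 3 = t
  · by_cases ht0 : t = 0
    · left
      have hg : g ^ 2 = -1 := by
        refine Subtype.ext ?_
        show A ^ 2 = -1
        rw [sq, eq_sub_of_add_eq hch, ht0, zero_smul, zero_sub]
      refine orderOf_dvd_of_pow_eq_one (pow_three_mul (d := 2) (hpow 2 ?_))
      rw [hg, sign_pow_even ε even_two, Ψ_neg_one, Prod.mk_one_one, map_one]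
    have ht2 : t * t = 1 := by
      rcases cube_eq_self ht with h | h | h
      · exact absurd h ht0
      · rw [h, mul_one]
      · rw [h]; ring
    have h3 : Ψ K n (g ^ 3, (1 : ℤˣ)) = 1 := by
      have hg3 : (g ^ 3 : SpecialLinearGroup (Fin 2) K).1 = (-t) • 1 := by
        show A ^ 3 = _
        rw [pow_three, eq_sub_of_add_eq hch, Matrix.mul_sub, Matrix.mul_smul,
          eq_sub_of_add_eq hch, Matrix.mul_one, smul_sub, smul_smul, ht2, one_smul, neg_smul]
        abel
      rcases mul_self_eq_one_iff.1 ht2 with h | h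
      · rw [show g ^ 3 = -1 from Subtype.ext (by rw [hg3, h]; simp), Ψ_neg_one, Prod.mk_one_one, map_one]
      · rw [show g ^ 3 = 1 from Subtype.ext (by rw [hg3, h]; simp), Prod.mk_one_one, map_one]
    rcases Int.units_eq_one_or ε with hε | hε
    · exact Or.inr (Or.inl (orderOf_dvd_of_pow_eq_one (pow_three_mul (d := 3) (hpow 3 (by rw [hε, one_pow, h3])))))
    · left
      have h6 : Ψ K n (g ^ 6, ε ^ 6) = 1 := by
        rw [sign_pow_even ε (by decide), show 6 = 3 * 2 from rfl, pow_mul,
          show ((g ^ 3) ^ 2, (1 : ℤˣ)) = (g ^ 3, (1 : ℤˣ)) ^ 2 by simp, map_pow, h3, one_pow]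
      refine orderOf_dvd_of_pow_eq_one (pow_free (hpow 6 h6) fun v hv => ?_)
      rw [← hp, hε] at hv
      have e1 : Ψ K n ((g, -1) ^ 3) v = v := by
        rw [map_pow, pow_three, MulAut.mul_apply, MulAut.mul_apply, hv, hv, hv]
      rw [Prod.pow_mk, show ((-1 : ℤˣ) ^ 3) = -1 by decide,
        show (g ^ 3, (-1 : ℤˣ)) = (g ^ 3, (1 : ℤˣ)) * (1, -1) by simp, map_mul, h3, one_mul, Ψ_apply] at e1
      refine Multiplicative.toAdd.injective ?_
      have e2 := congrArg Multiplicative.toAdd e1
      rw [toAdd_ofAdd] at e2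
      rw [toAdd_one]
      funext i
      have e3 := congrFun e2 i
      simp [act, tw_one] at e3
      have : (2 : K) • v.toAdd i = 0 := by
        rw [two_smul]; nth_rewrite 1 [← e3]; exact neg_add_cancel _
      exact (smul_eq_zero.1 this).resolve_left two_ne
  · have hfree : ∀ v, x.right.1 v = v → v = 1 := fun v hv => by
      rw [← hp, Ψ_apply] at hv
      exact Multiplicative.toAdd.injective
        (act_fixed (not_sq_neg_one hq) ht (by simpa using congrArg Multiplicative.toAdd hv))
    have hq1 : 1 < Fintype.card K := Fintype.one_lt_card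
    rcases powers (g := g) ht with h | h
    · refine Or.inr (Or.inr (Or.inl (orderOf_dvd_of_pow_eq_one (pow_free (hpow _ ?_) hfree))))
      rw [← hK, sign_pow_even ε ⟨(Fintype.card K - 1) / 2, by omega⟩]
      have : g ^ (Fintype.card K - 1) = 1 := by
        refine mul_right_cancel (b := g) ?_
        rw [← pow_succ, Nat.sub_add_cancel hq1.le, h, one_mul]
      rw [this, Prod.mk_one_one, map_one]
    · refine Or.inr (Or.inr (Or.inr (orderOf_dvd_of_pow_eq_one (pow_free (hpow _ ?_) hfree))))
      rw [← hK, sign_pow_even ε ⟨(Fintype.card K + 1) / 4, by omega⟩]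
      have : g ^ ((Fintype.card K + 1) / 2) * g ^ ((Fintype.card K + 1) / 2) = 1 := by
        rw [← pow_add, show (Fintype.card K + 1) / 2 + (Fintype.card K + 1) / 2 = Fintype.card K + 1 by omega,
          pow_succ, h, inv_mul_cancel]
      rcases eq_pm_one this with e | e <;> rw [e]
      · rw [Prod.mk_one_one, map_one]
      · rw [Ψ_neg_one, Prod.mk_one_one, map_one]

/-- The kernel of the action. -/
theorem Ψ_eq_one [NeZero n] {g : SpecialLinearGroup (Fin 2) K} {ε : ℤˣ} (h : Ψ K n (g, ε) = 1) :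
    g * g = 1 ∧ ε = 1 := by
  have key : ∀ X : Matrix (Fin 2) (Fin 2) K, ((ε : ℤ) : K) • ((g : Matrix (Fin 2) (Fin 2) K) * X * tw g) = X := by
    intro X
    have := congrFun (congrArg Multiplicative.toAdd (MulEquiv.congr_fun h (Multiplicative.ofAdd fun _ => X))) 0
    simpa [Ψ_apply, act] using this
  set A := (g : Matrix (Fin 2) (Fin 2) K) with hA
  have h1 := key 1
  rw [Matrix.mul_one] at h1
  have hcomm : ∀ X : Matrix (Fin 2) (Fin 2) K, A * X = X * A := by
    intro X
    have h1' : A * (((ε : ℤ) : K) • tw g) = 1 := by rw [Matrix.mul_smul, h1]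
    have h2 := key X
    rw [Matrix.mul_assoc, ← Matrix.mul_smul, ← Matrix.mul_smul] at h2
    have h3 : (((ε : ℤ) : K) • tw g) * A = 1 := mul_eq_one_comm.1 h1'
    conv_rhs => rw [← h2]
    rw [Matrix.mul_assoc A, Matrix.mul_assoc X, h3, Matrix.mul_one]
  have a01 := congrFun (congrFun (hcomm (Matrix.of ![![0, 1], ![0, 0]])) 0) 1
  have a10 := congrFun (congrFun (hcomm (Matrix.of ![![0, 1], ![0, 0]])) 1) 1
  have b10 := congrFun (congrFun (hcomm (Matrix.of ![![0, 0], ![1, 0]])) 0) 0
  simp [Matrix.mul_apply, Fin.sum_univ_two] at a01 a10 b10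
  have hd := g.det_coe
  rw [← hA, det_fin_two, b10, zero_mul, sub_zero, ← a01] at hd
  have hgg : g * g = 1 := by
    ext i j
    fin_cases i <;> fin_cases j <;>
      simp [Matrix.mul_apply, Fin.sum_univ_two, ← hA, a10, b10, ← a01, hd]
  refine ⟨hgg, ?_⟩
  have hε : Ψ K n (1, ε) = 1 := by
    rcases eq_pm_one hgg with rfl | rfl
    · exact h
    · rwa [Ψ_neg_one] at h
  rcases Int.units_eq_one_or ε with rfl | rfl
  · rfl
  · exfalso
    have := congrFun (congrFun (congrFun (congrArg Multiplicative.toAdd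
      (MulEquiv.congr_fun hε (Multiplicative.ofAdd fun _ => (1 : Matrix (Fin 2) (Fin 2) K)))) 0) 0) 0
    simp [Ψ_apply, act, tw_one] at this
    exact two_ne (K := K) (by linear_combination -this)

/-- The image of an acting element. -/
noncomputable def el (n : ℕ) (p : Act K) : Grp K n := SemidirectProduct.inr ⟨Ψ K n p, p, rfl⟩

theorem orderOf_el (p : Act K) : orderOf (el n p) = orderOf (Ψ K n p) := by
  rw [el, orderOf_injective _ SemidirectProduct.inr_injective, ← Subgroup.orderOf_coe]

theorem slU_mul (a b : K) : slU a * slU b = slU (a + b) := by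
  refine Subtype.ext ?_
  show (slU a).1 * (slU b).1 = (slU (a + b)).1
  ext i j
  fin_cases i <;> fin_cases j <;> simp [slU, Matrix.mul_apply, Fin.sum_univ_two, add_comm]

theorem slU_zero : slU (0 : K) = 1 := by
  refine Subtype.ext ?_
  show _ = (1 : Matrix (Fin 2) (Fin 2) K)
  ext i j
  fin_cases i <;> fin_cases j <;> simp [slU]

theorem slD_mul (a b : Kˣ) : slD (a * b) = slD a * slD b := by
  refine Subtype.ext ?_
  show _ = (slD a).1 * (slD b).1
  ext i j
  fin_cases i <;> fin_cases j <;> simp [slD, Matrix.mul_apply, Fin.sum_univ_two, mul_comm]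

theorem slU_pow (d : ℕ) : (slU (1 : K)) ^ d = slU (d : K) := by
  induction d with
  | zero => rw [pow_zero, Nat.cast_zero, slU_zero]
  | succ d ih => rw [pow_succ, ih, slU_mul, Nat.cast_succ]

/-- All four maximal orders occur. -/
theorem exists_orders [NeZero n] {m : ℕ} (hK : Fintype.card K = 3 ^ (2 * m + 1))
    (hq : Fintype.card K % 4 = 3) :
    (∃ x : Grp K n, orderOf x = 6) ∧ (∃ x : Grp K n, orderOf x = 9) ∧
      (∃ x : Grp K n, orderOf x = 3 ^ (2 * m + 1) - 1) ∧ ∃ x : Grp K n, orderOf x = (3 ^ (2 * m + 1) + 1) / 2 := by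
  have := Fact.mk Nat.prime_three
  have h3 : ((3 : ℕ) : K) = 0 := CharP.cast_eq_zero K 3
  refine ⟨⟨el n (slU 1, -1), ?_⟩, ?_, ?_, ?_⟩
  · rw [orderOf_el, orderOf_eq_iff (by norm_num)]
    refine ⟨?_, fun d hd hd0 e => ?_⟩
    · rw [← map_pow, Prod.pow_mk, slU_pow, show ((6 : ℕ) : K) = 0 by push_cast at h3 ⊢; linear_combination 2 * h3,
        show ((-1 : ℤˣ) ^ 6) = 1 by decide]
      rw [slU_zero, Prod.mk_one_one, map_one]
    · rw [← map_pow, Prod.pow_mk, slU_pow] at e
      obtain ⟨e1, e2⟩ := Ψ_eq_one e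
      rw [slU_mul] at e1
      have := congrArg (fun g : SpecialLinearGroup (Fin 2) K => g.1 0 1) e1
      simp [slU] at this
      have hd3 : 3 ∣ d := (CharP.cast_eq_zero_iff K 3 d).1
        ((mul_eq_zero.1 (show (2 : K) * d = 0 by linear_combination this)).resolve_left two_ne)
      have hd2 : Even d := by
        by_contra h
        rw [(Nat.not_even_iff_odd.1 h).neg_one_pow] at e2
        exact absurd e2 (by decide)
      obtain ⟨c, rfl⟩ := hd2
      omega
  · let w : W K n := fun _ => Matrix.of ![![0, 0], ![0, 1]]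
    refine ⟨SemidirectProduct.inl (Multiplicative.ofAdd w) * el n (slU 1, 1), ?_⟩
    obtain ⟨x, hx⟩ : ∃ x, x = SemidirectProduct.inl (Multiplicative.ofAdd w) * el n (slU (1 : K), 1) := ⟨_, rfl⟩
    have hr : x.right.1 = Ψ K n (slU 1, 1) := by rw [hx]; simp [el]
    have hl : x.left = Multiplicative.ofAdd w := by rw [hx]; simp [el]
    have h33 : x.right ^ 3 = 1 := by
      refine Subtype.ext ?_
      rw [SubgroupClass.coe_pow, hr, ← map_pow, Prod.pow_mk, one_pow, slU_pow, h3,
        slU_zero, Prod.mk_one_one, map_one]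
      rfl
    rw [← hx]
    refine orderOf_eq_prime_pow (p := 3) (n := 1) (fun e => ?_) (pow_three_mul h33)
    have := congrFun (congrFun (congrFun (congrArg Multiplicative.toAdd (congrArg SemidirectProduct.left e)) 0) 0) 0
    simp [pow_three, SemidirectProduct.mul_left, hl, hr, Ψ_apply, w, act, tw, slU,
      Fin.sum_univ_two, Matrix.vecMul, Matrix.vecHead, Matrix.vecTail, dotProduct, frobenius_def] at this
    push_cast at h3
    exact two_ne (K := K) (by linear_combination this - h3)
  · obtain ⟨b, hb⟩ := IsCyclic.exists_ofOrder_eq_natCard (α := Kˣ)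
    rw [Nat.card_units, Nat.card_eq_fintype_card, hK] at hb
    set q := 3 ^ (2 * m + 1) with hqdef
    let D : Kˣ →* SpecialLinearGroup (Fin 2) K :=
      { toFun := slD
        map_one' := by
          refine Subtype.ext ?_
          show _ = (1 : Matrix (Fin 2) (Fin 2) K)
          ext i j; fin_cases i <;> fin_cases j <;> simp [slD]
        map_mul' := slD_mul }
    have hD : Function.Injective D := fun a c (e : slD a = slD c) => Units.ext (by
      simpa [slD] using congrArg (fun g : SpecialLinearGroup (Fin 2) K => g.1 0 0) e)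
    refine ⟨el n (D b, -1), ?_⟩
    have hq1 : 1 < q := by rw [← hK]; exact Fintype.one_lt_card
    have hq4 : q % 4 = 3 := by rw [← hK]; exact hq
    rw [orderOf_el]
    refine Nat.dvd_antisymm (orderOf_dvd_of_pow_eq_one ?_) ?_
    · rw [← map_pow, Prod.pow_mk, sign_pow_even _ ⟨(q - 1) / 2, by omega⟩, ← map_pow, ← hb, pow_orderOf_eq_one,
        map_one, Prod.mk_one_one, map_one]
    · have e := pow_orderOf_eq_one (Ψ K n (D b, -1))
      rw [← map_pow, Prod.pow_mk] at e
      obtain ⟨e1, e2⟩ := Ψ_eq_one e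
      set d := orderOf (Ψ K n (D b, -1))
      have hd2 : Even d := by
        by_contra h
        rw [(Nat.not_even_iff_odd.1 h).neg_one_pow] at e2
        exact absurd e2 (by decide)
      rw [← pow_add, ← map_pow] at e1
      have h2 : q - 1 ∣ d + d := hb ▸ orderOf_dvd_of_pow_eq_one (hD (e1.trans (map_one D).symm))
      have hA : (q - 1) / 2 ∣ d := by
        rw [← two_mul, show q - 1 = 2 * ((q - 1) / 2) by omega] at h2
        exact Nat.dvd_of_mul_dvd_mul_left two_pos h2
      rw [show q - 1 = 2 * ((q - 1) / 2) by omega]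
      exact Nat.Coprime.mul_dvd_of_dvd_of_dvd
        (Nat.coprime_two_left.2 (Nat.odd_iff.2 (by omega))) (even_iff_two_dvd.1 hd2) hA
  · obtain ⟨e0, he0, -, -⟩ := KleinTorus.exists_emb (F := K) hq
    refine ⟨el n (e0, 1), ?_⟩
    rw [hK] at he0
    set q := 3 ^ (2 * m + 1) with hqdef
    have hq4 : q % 4 = 3 := by rw [← hK]; exact hq
    rw [orderOf_el]
    refine Nat.dvd_antisymm (orderOf_dvd_of_pow_eq_one ?_) ?_
    · rw [← map_pow, Prod.pow_mk, one_pow]
      have : e0 ^ ((q + 1) / 2) * e0 ^ ((q + 1) / 2) = 1 := by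
        rw [← pow_add, show (q + 1) / 2 + (q + 1) / 2 = orderOf e0 by omega, pow_orderOf_eq_one]
      rcases eq_pm_one this with e | e <;> rw [e]
      · rw [Prod.mk_one_one, map_one]
      · rw [Ψ_neg_one, Prod.mk_one_one, map_one]
    · have e := pow_orderOf_eq_one (Ψ K n (e0, 1))
      rw [← map_pow, Prod.pow_mk, one_pow] at e
      obtain ⟨e1, -⟩ := Ψ_eq_one e
      rw [← pow_add, ← two_mul] at e1
      have := orderOf_dvd_of_pow_eq_one e1
      rw [he0, show q + 1 = 2 * ((q + 1) / 2) by omega] at this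
      exact Nat.dvd_of_mul_dvd_mul_left two_pos this

/-- Spectrum of the triple product. -/
theorem range_eq {R G : Type*} [Group R] [Finite R] [Group G] [Finite G] {C D : ℕ}
    (hG : ∀ g : G, ∃ r : R, orderOf r = orderOf g)
    (hR : ∀ r : R, (∃ g : G, orderOf g = orderOf r) ∨ orderOf r ∣ C ∨ orderOf r ∣ D)
    (hC : ∀ d, d ∣ C → ∃ r : R, orderOf r = d) (hD : ∀ d, d ∣ D → ∃ r : R, orderOf r = d) :
    Set.range (orderOf : G × R × R → ℕ) = Set.range (orderOf : R × R × R → ℕ) := by
  refine Set.Subset.antisymm ?_ ?_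
  · rintro _ ⟨⟨g, r, s⟩, rfl⟩
    obtain ⟨r', hr⟩ := hG g
    exact ⟨(r', r, s), by rw [Prod.orderOf_mk, Prod.orderOf_mk, Prod.orderOf_mk, Prod.orderOf_mk, hr]⟩
  · rintro _ ⟨⟨a, b, c⟩, rfl⟩
    simp only [Set.mem_range, Prod.exists, Prod.orderOf_mk]
    by_cases ha : ∃ g : G, orderOf g = orderOf a
    · obtain ⟨g, hg⟩ := ha; exact ⟨g, b, c, by rw [hg]⟩
    by_cases hb : ∃ g : G, orderOf g = orderOf b
    · obtain ⟨g, hg⟩ := hb; exact ⟨g, a, c, by rw [hg, ← Nat.lcm_assoc, Nat.lcm_comm (orderOf b), Nat.lcm_assoc]⟩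
    by_cases hc : ∃ g : G, orderOf g = orderOf c
    · obtain ⟨g, hg⟩ := hc
      exact ⟨g, a, b, by rw [hg, Nat.lcm_comm (orderOf c), Nat.lcm_assoc]⟩
    have pair : ∀ {E : ℕ}, (∀ d, d ∣ E → ∃ r : R, orderOf r = d) → ∀ u v : R, orderOf u ∣ E → orderOf v ∣ E →
        ∃ r : R, orderOf r = (orderOf u).lcm (orderOf v) := fun hE u v hu hv => hE _ (Nat.lcm_dvd hu hv)
    have fin : ∀ u v w : R, (∃ r : R, orderOf r = (orderOf u).lcm (orderOf v)) →
        ∃ g r s, (orderOf (g : G)).lcm ((orderOf (r : R)).lcm (orderOf (s : R))) =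
          ((orderOf u).lcm (orderOf v)).lcm (orderOf w) := fun u v w ⟨r, hr⟩ =>
      ⟨1, r, w, by rw [orderOf_one, Nat.lcm_one_left, hr]⟩
    have ab : ∀ {E : ℕ}, (∀ d, d ∣ E → ∃ r : R, orderOf r = d) → orderOf a ∣ E → orderOf b ∣ E →
        ∃ g r s, (orderOf (g : G)).lcm ((orderOf (r : R)).lcm (orderOf (s : R))) =
          (orderOf a).lcm ((orderOf b).lcm (orderOf c)) := fun hE h1 h2 => by
      rw [← Nat.lcm_assoc]; exact fin a b c (pair hE a b h1 h2)
    have ac : ∀ {E : ℕ}, (∀ d, d ∣ E → ∃ r : R, orderOf r = d) → orderOf a ∣ E → orderOf c ∣ E →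
        ∃ g r s, (orderOf (g : G)).lcm ((orderOf (r : R)).lcm (orderOf (s : R))) =
          (orderOf a).lcm ((orderOf b).lcm (orderOf c)) := fun hE h1 h2 => by
      rw [Nat.lcm_comm (orderOf b), ← Nat.lcm_assoc]; exact fin a c b (pair hE a c h1 h2)
    have bc : ∀ {E : ℕ}, (∀ d, d ∣ E → ∃ r : R, orderOf r = d) → orderOf b ∣ E → orderOf c ∣ E →
        ∃ g r s, (orderOf (g : G)).lcm ((orderOf (r : R)).lcm (orderOf (s : R))) =
          (orderOf a).lcm ((orderOf b).lcm (orderOf c)) := fun hE h1 h2 => by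
      rw [Nat.lcm_comm]; exact fin b c a (pair hE b c h1 h2)
    rcases (hR a).resolve_left ha with h1 | h1 <;> rcases (hR b).resolve_left hb with h2 | h2 <;>
      rcases (hR c).resolve_left hc with h3 | h3
    · exact ab hC h1 h2
    · exact ab hC h1 h2
    · exact ac hC h1 h3
    · exact bc hD h2 h3
    · exact bc hC h2 h3
    · exact ac hD h1 h3
    · exact ab hD h1 h2
    · exact ab hD h1 h2

/-- Arbitrarily large groups isospectral to the cube. -/
theorem exists_large {K : Type*} [Field K] [Fintype K] {m : ℕ} (hm : 1 ≤ m)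
    (hK : Fintype.card K = 3 ^ (2 * m + 1)) (N : ℕ) :
    ∃ (H : Type) (_ : Group H) (_ : Fintype H), N < Fintype.card H ∧
      Set.range (orderOf : H → ℕ) = Set.range (orderOf : ↥(twistedG2 K (3 ^ m)) × ↥(twistedG2 K (3 ^ m)) ×
        ↥(twistedG2 K (3 ^ m)) → ℕ) := by
  classical
  obtain ⟨S⟩ := exists_setupG2 K hK
  have := S.char
  have hq : Fintype.card K % 4 = 3 := by
    rw [hK, pow_succ, pow_mul, Nat.mul_mod, Nat.pow_mod]; simp
  let G := Grp K (N + 1)
  have : Finite (MulAut (Multiplicative (W K (N + 1)))) := Finite.of_injective _ DFunLike.coe_injective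
  have : Finite G := Finite.of_equiv _ SemidirectProduct.equivProd.symm
  let R := ↥(twistedG2 K (3 ^ m))
  let H0 := G × R × R
  have : Finite H0 := inferInstanceAs (Finite (G × R × R))
  let f : Shrink.{0} H0 ≃* H0 := Shrink.mulEquiv
  have : Finite (Shrink.{0} H0) := Finite.of_equiv _ f.symm.toEquiv
  let := Fintype.ofFinite (Shrink.{0} H0)
  refine ⟨Shrink.{0} H0, inferInstance, inferInstance, ?_, ?_⟩
  · rw [← Nat.card_eq_fintype_card, Nat.card_congr f.toEquiv]
    have h1 : Nat.card (W K (N + 1)) ≤ Nat.card G :=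
      Nat.card_le_card_of_injective (fun w => SemidirectProduct.inl (Multiplicative.ofAdd w))
        (SemidirectProduct.inl_injective.comp Multiplicative.ofAdd.injective)
    have h2 : N < Nat.card (W K (N + 1)) := by
      rw [Nat.card_pi, Finset.prod_const, Finset.card_univ, Fintype.card_fin]
      exact (Nat.lt_succ_self N).trans (Nat.lt_pow_self (by
        rw [Nat.card_eq_fintype_card]; exact Fintype.one_lt_card))
    have h3 : Nat.card G ≤ Nat.card H0 :=
      Nat.card_le_card_of_injective (fun g => ((g, 1, 1) : H0)) fun a b h => (Prod.mk.inj h).1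
    omega
  · have hf : Set.range (orderOf : Shrink.{0} H0 → ℕ) = Set.range (orderOf : H0 → ℕ) := by
      rw [← f.surjective.range_comp]
      exact congrArg Set.range (funext fun x => (f.orderOf_eq x).symm)
    rw [hf]
    obtain ⟨e6, e9, eA, eB⟩ := exists_orders (n := N + 1) hK hq
    have low : ∀ {M d : ℕ}, (∃ g : G, orderOf g = M) → d ∣ M → ∃ g : G, orderOf g = d := by
      rintro M d ⟨g, rfl⟩ hd
      exact ⟨g ^ (orderOf g / d), orderOf_pow_orderOf_div (orderOf_pos g).ne' hd⟩
    refine range_eq (C := 3 ^ (2 * m + 1) - 3 ^ (m + 1) + 1) (D := 3 ^ (2 * m + 1) + 3 ^ (m + 1) + 1)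
      (fun g => (S.exists_orderOf_iff hm _).2 ?_) (fun r => ?_)
      (fun d hd => (S.exists_orderOf_iff hm d).2 (by tauto))
      (fun d hd => (S.exists_orderOf_iff hm d).2 (by tauto))
    · rcases order_cases hK hq g with h | h | h | h <;> tauto
    · rcases (S.exists_orderOf_iff hm _).1 ⟨r, rfl⟩ with h | h | h | h | h | h
      · exact Or.inl (low e6 h)
      · exact Or.inl (low e9 h)
      · exact Or.inl (low eA h)
      · exact Or.inl (low eB h)
      · exact Or.inr (Or.inl h)
      · exact Or.inr (Or.inr h)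

end CfsgLib.Chev.ReeCube
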