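import Mathlib
import Cfsg.Agent.Lib.Chev.ReeLayers
import Cfsg.Agent.Lib.Chev.ReeSinger

/-!
²G₂(q) is generated by two elements.
-/

set_option autoImplicit false
set_option maxHeartbeats 800000
set_option maxRecDepth 100000
set_option linter.unusedSectionVars false

namespace CfsgLib.Chev

open Cfsg.Lie

namespace SetupG2

variable {K : Type*} [Field K] [Fintype K] {m : ℕ} (S : SetupG2 K m)
include S

/-- The torus and one element of the first layer generate the unipotent subgroup. -/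
theorem pU_le_of_tau (hm : 1 ≤ m) {H : Subgroup ↥(twistedG2 K (3 ^ m))} (hT : ∀ b, S.tauG b ∈ H)
    {t₀ u₀ v₀ : K} (hx : S.wU t₀ u₀ v₀ ∈ H) (ht₀ : t₀ ≠ 0) : S.pU ≤ H := by
  classical
  obtain ⟨hq27, -, -, -, hqodd, -⟩ := S.arith hm
  have hscale : ∀ (b : Kˣ) t u v, S.wU t u v ∈ H → S.wU (((b ^ S.tauExp 6 : Kˣ) : K) * t)
      (((b ^ S.tauExp 10 : Kˣ) : K) * u) (((b ^ S.tauExp 11 : Kˣ) : K) * v) ∈ H := fun b t u v h => by
    rw [← S.tau_conj_wU]
    exact mul_mem (mul_mem (hT b) h) (Subgroup.inv_mem _ (hT b))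
  -- the first layer
  have htop : ∀ t : K, ∃ u v, S.wU t u v ∈ H := by
    intro t
    by_cases ht : t = 0
    · exact ⟨0, 0, by rw [ht, S.wU_zero]; exact one_mem H⟩
    obtain ⟨b, hb⟩ := S.exists_exp_six (Units.mk0 (t / t₀) (div_ne_zero ht ht₀))
    have h := hscale b _ _ _ hx
    rw [hb, Units.val_mk0, div_mul_cancel₀ _ ht₀] at h
    exact ⟨_, _, h⟩
  -- a non-trivial element of the second layer
  obtain ⟨s, hs⟩ : ∃ s : K, s ^ (3 * 3 ^ m) ≠ s := by
    by_contra hall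
    push Not at hall
    have h3 : ∀ s : K, s ^ 3 = s := fun s => by
      have h1 : s ^ 3 ^ m = s := by
        have := congrArg (fun x => x ^ 3 ^ m) (hall s)
        simp only [← pow_mul, S.pow_q] at this
        exact this.symm
      conv_rhs => rw [← hall s, mul_comm, pow_mul, h1]
    have hle : Fintype.card K ≤ ({0, 1, -1} : Finset K).card := by
      rw [← Finset.card_univ]
      refine Finset.card_le_card fun s _ => ?_
      have : s * ((s - 1) * (s + 1)) = 0 := by linear_combination h3 s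
      simp only [Finset.mem_insert, Finset.mem_singleton]
      rcases mul_eq_zero.1 this with h | h
      · exact Or.inl h
      rcases mul_eq_zero.1 h with h | h
      · exact Or.inr (Or.inl (sub_eq_zero.1 h))
      · exact Or.inr (Or.inr (eq_neg_of_add_eq_zero_left h))
    rw [S.card] at hle
    have := hle.trans Finset.card_le_three
    omega
  obtain ⟨u₁, hu₁, v₁, hw₁⟩ : ∃ u₁ : K, u₁ ≠ 0 ∧ ∃ v₁, S.wU 0 u₁ v₁ ∈ H := by
    obtain ⟨ua, va, ha⟩ := htop 1
    obtain ⟨ub, vb, hb⟩ := htop s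
    obtain ⟨w, hw⟩ := S.wU_comm_top 1 ua va s ub vb
    refine ⟨s * 1 ^ (3 * 3 ^ m) - 1 * s ^ (3 * 3 ^ m), ?_, w, hw ▸ mul_mem (mul_mem (mul_mem ha hb)
      (Subgroup.inv_mem _ ha)) (Subgroup.inv_mem _ hb)⟩
    rw [one_pow, mul_one, one_mul, sub_ne_zero]
    exact fun h => hs h.symm
  -- the centre
  have hbot : ∀ v : K, S.wU 0 0 v ∈ H := by
    intro v
    obtain ⟨u, w, h⟩ := htop (v / u₁)
    have := mul_mem (mul_mem (mul_mem h hw₁) (Subgroup.inv_mem _ h)) (Subgroup.inv_mem _ hw₁)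
    rwa [S.wU_comm_mid, div_mul_cancel₀ _ hu₁] at this
  -- the second layer
  have hmid : ∀ u : K, ∃ v, S.wU 0 u v ∈ H := by
    intro u
    by_cases hu : u = 0
    · exact ⟨0, hu ▸ hbot 0⟩
    have hsq : ∀ a : K, a ≠ 0 → IsSquare a → ∃ v, S.wU 0 (a * u₁) v ∈ H := by
      rintro _ ha ⟨c, rfl⟩
      obtain ⟨b, hb⟩ := S.exists_exp_ten (Units.mk0 c (left_ne_zero_of_mul ha))
      have h := hscale b _ _ _ hw₁
      rw [hb, mul_zero, Units.val_pow_eq_pow_val, Units.val_mk0, sq] at h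
      exact ⟨_, h⟩
    have ha : u / u₁ ≠ 0 := div_ne_zero hu hu₁
    by_cases hs : IsSquare (u / u₁)
    · obtain ⟨v, hv⟩ := hsq _ ha hs
      rw [div_mul_cancel₀ _ hu₁] at hv
      exact ⟨v, hv⟩
    · have hchar : ringChar K ≠ 2 := by
        rw [(ringChar.eq_iff).2 S.char]; norm_num
      have hs' : IsSquare (-(u / u₁)) := by
        rw [FiniteField.isSquare_iff hchar (neg_ne_zero.2 ha), neg_pow]
        rw [FiniteField.isSquare_iff hchar ha] at hs
        rcases FiniteField.pow_dichotomy hchar ha with h | h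
        · exact absurd h hs
        · rw [h]
          have hodd : Odd (Fintype.card K / 2) := by
            have := S.half_odd (m := m)
            rw [S.card]
            convert this using 1
            omega
          rw [hodd.neg_one_pow]
          ring
      obtain ⟨v, hv⟩ := hsq _ (neg_ne_zero.2 ha) hs'
      have h := Subgroup.inv_mem _ hv
      obtain ⟨w, hw⟩ := S.wU_inv 0 (-(u / u₁) * u₁) v
      rw [hw, neg_zero, zero_mul, sub_zero, neg_mul, neg_neg, div_mul_cancel₀ _ hu₁] at h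
      exact ⟨w, h⟩
  -- everything
  intro x hx
  obtain ⟨t, u, v, rfl⟩ := S.exists_wU hx
  obtain ⟨u', v', h'⟩ := htop t
  obtain ⟨w, hw⟩ := hmid (u - u')
  obtain ⟨w', hw'⟩ := S.wU_mul t u' v' 0 (u - u') w
  have hy : S.wU t u w' ∈ H := by
    have := mul_mem h' hw
    rwa [hw', add_zero, zero_pow (by positivity), mul_zero, sub_zero, add_sub_cancel] at this
  obtain ⟨T, U, V, hz⟩ := S.exists_wU (mul_mem (Subgroup.inv_mem _ (S.wU_mem t u w')) (S.wU_mem t u v))
  obtain ⟨w'', h''⟩ := S.wU_mul t u w' T U V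
  rw [← hz, mul_inv_cancel_left] at h''
  obtain ⟨e1, e2, -⟩ := S.wU_inj h''
  have hT : T = 0 := by linear_combination -e1
  rw [hT, zero_pow (by positivity), mul_zero, sub_zero] at e2
  have hU : U = 0 := by linear_combination -e2
  rw [hT, hU] at hz
  rw [show S.wU t u v = S.wU t u w' * S.wU 0 0 V by rw [← hz, mul_inv_cancel_left]]
  exact mul_mem hy (hbot V)

/-- Two generators. -/
theorem two_generated (hm : 1 ≤ m) :
    ∃ a b : ↥(twistedG2 K (3 ^ m)), Subgroup.closure ({a, b} : Set ↥(twistedG2 K (3 ^ m))) = ⊤ := by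
  classical
  obtain ⟨hq27, -, -, -, hqodd, -⟩ := S.arith hm
  obtain ⟨g, hg⟩ := IsCyclic.exists_generator (α := Kˣ)
  set c := S.wU 1 0 0 * S.omegaG with hc
  refine ⟨S.tauG g, c, ?_⟩
  set H := Subgroup.closure ({S.tauG g, c} : Set ↥(twistedG2 K (3 ^ m)))
  have hT : ∀ b, S.tauG b ∈ H := fun b => by
    obtain ⟨i, rfl⟩ := hg b
    rw [map_zpow]
    exact zpow_mem (Subgroup.subset_closure (Set.mem_insert _ _)) i
  have hcH : c ∈ H := Subgroup.subset_closure (Set.mem_insert_of_mem _ rfl)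
  -- a conjugate of a torus element
  obtain ⟨e, he⟩ : ∃ e : Kˣ, ((e ^ S.tauExp 6 : Kˣ) : K) ≠ 1 := by
    obtain ⟨e, he⟩ := S.exists_exp_six (-1)
    exact ⟨e, he ▸ fun h => S.neg_one_ne_one (Units.ext (by simpa using h))⟩
  obtain ⟨d, hd⟩ : ∃ d, S.omegaG * d * S.omegaG⁻¹ = S.tauG e ∧ d ∈ H := by
    have h := S.omega_tauG e
    obtain ⟨f, hf⟩ := h
    exact ⟨S.tauG f, by rw [hf]; group, hT f⟩
  have hmem : S.wU 1 0 0 * (S.tauG e * (S.wU 1 0 0)⁻¹ * (S.tauG e)⁻¹) ∈ H := by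
    have h1 := mul_mem (mul_mem hcH hd.2) (Subgroup.inv_mem _ hcH)
    have h2 := mul_mem h1 (Subgroup.inv_mem _ (hT e))
    convert h2 using 1
    rw [hc, ← hd.1]
    group
  obtain ⟨w, hw⟩ := S.wU_inv 1 0 0
  rw [hw, S.tau_conj_wU] at hmem
  obtain ⟨w', hw'⟩ := S.wU_mul 1 0 0 (((e ^ S.tauExp 6 : Kˣ) : K) * -1)
    (((e ^ S.tauExp 10 : Kˣ) : K) * (-0 - 1 * 1 ^ (3 * 3 ^ m))) (((e ^ S.tauExp 11 : Kˣ) : K) * w)
  rw [hw'] at hmem
  have hU : S.pU ≤ H := S.pU_le_of_tau hm hT hmem (fun h => he (by linear_combination -h))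
  have hω : S.omegaG ∈ H := by
    have := mul_mem (Subgroup.inv_mem _ (hU (S.wU_mem 1 0 0))) hcH
    rwa [hc, inv_mul_cancel_left] at this
  have hB : ∀ x ∈ S.pB, x ∈ H := fun x hx => by
    obtain ⟨y, hy, t, ht, he'⟩ := S.borel_decomp (S.mem_pB.1 hx)
    have hy' : (⟨y, hy.2⟩ : ↥(twistedG2 K (3 ^ m))) ∈ H := hU (Subgroup.mem_subgroupOf.2 hy)
    obtain ⟨b, hb⟩ := (S.tauHom_range.symm ▸ ht : t ∈ S.tauHom.range)
    rw [show x = ⟨y, hy.2⟩ * S.tauG b from Subtype.ext (by rw [he', Subgroup.coe_mul, coe_tauG, hb])]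
    exact mul_mem hy' (hT b)
  rw [eq_top_iff]
  intro x _
  rcases S.cell x.2 with h | ⟨u, hu, b, hb, he'⟩
  · exact hB x (S.mem_pB.2 h)
  · have h1 : (⟨u, hu.2⟩ : ↥(twistedG2 K (3 ^ m))) ∈ H := hU (Subgroup.mem_subgroupOf.2 hu)
    have h2 : (⟨b, hb.2⟩ : ↥(twistedG2 K (3 ^ m))) ∈ H := hB _ (S.mem_pB.2 hb)
    rw [show x = ⟨u, hu.2⟩ * S.omegaG * ⟨b, hb.2⟩ from Subtype.ext he']
    exact mul_mem (mul_mem h1 hω) h2

end SetupG2

end CfsgLib.Chev
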