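import Cfsg.Agent.Lib.Chev.ModWord
import Cfsg.Agent.Lib.Chev.TwistG2
import Cfsg.Agent.Lib.Chev.ReeThreeData

/-!
# Word identities in `²G₂(3)`, by products of literal matrices modulo three
-/

set_option autoImplicit false
set_option maxRecDepth 100000

namespace CfsgLib.Chev

open Cfsg.Lie Matrix

namespace ReeNine

/-- The word of an upper generator. -/
def uWord (t u v : ℤ) : List (ℕ × ℤ) :=
  [(7, t), (6, t), (8, t * t + u), (9, t * t * t + v), (10, u), (11, v)]

/-- The word of a lower generator. -/
def vWord (t u v : ℤ) : List (ℕ × ℤ) :=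
  [(4, -t), (5, -t), (3, -(t * t + u)), (2, -(t * t * t + v)), (1, -u), (0, -v)]

/-- The words of the four letters. -/
def letWord : List (List (ℕ × ℤ)) := [uWord 1 0 0, vWord 1 0 0, uWord 2 2 1, vWord 2 2 1]

/-- A word in the letters as a word in root elements. -/
noncomputable def expand (w : List ℕ) : List (ℕ × ℤ) :=
  List.rec [] (fun k _ ih => appR (letWord.getD k []) ih) w

/-- The inverse letter. -/
def opp (k : ℕ) : ℕ := (k + 2) % 4

/-- The inverse word. -/
def invWord (w : List ℕ) : List ℕ := (w.map opp).reverse

/-- A generator of one of the nine subgroups. -/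
def klein (i r : ℕ) : List ℕ := (kleinTab.getD i []).getD r []

/-- Evaluation of a word in `GL`. -/
noncomputable def gW (F : Type*) [Field F] (w : List ℕ) : GL chevG2.Idx F :=
  ((expand w).map fun a => goodG2.xG a.1 (a.2 : F)).prod

/-- The scalar product of two lists. -/
noncomputable def dotN (r : List ℕ) : List ℕ → ℕ :=
  List.rec (fun _ => 0)
    (fun a _ ih v => List.rec 0 (fun b v' _ => a * b + ih v') v) r

/-- A matrix applied to a vector modulo three. -/
noncomputable def applyN (M : List (List ℕ)) (v : List ℕ) : List ℕ :=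
  mapR (fun r => dotN r v % 3) M

/-- A word in the letters applied to a vector. -/
noncomputable def evalN (w : List ℕ) (v : List ℕ) : List ℕ :=
  List.rec v (fun k _ ih => applyN (letMat.getD k []) ih) w

/-- A unit vector. -/
noncomputable def unitN (j : ℕ) : List ℕ := mapR (fun i => bif Nat.beq i j then 1 else 0) (upto 14)

/-- Equality of lists of numbers. -/
noncomputable def eqN (u : List ℕ) : List ℕ → Bool :=
  List.rec (fun v => List.rec true (fun _ _ _ => false) v)
    (fun a _ ih v => List.rec false (fun b v' _ => Nat.beq a b && ih v') v) u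

/-- Two words in the letters agree. -/
noncomputable def eqW (w₁ w₂ : List ℕ) : Bool :=
  allR (fun k => Nat.blt k 4) (appR w₁ w₂) &&
    allR (fun j => eqN (evalN w₁ (unitN j)) (evalN w₂ (unitN j))) (upto 14)

/-- A word in root elements agrees with a word in the letters. -/
noncomputable def eqRootW (r : List (ℕ × ℤ)) (w : List ℕ) : Bool :=
  allR (fun a : ℕ × ℤ => Nat.blt a.1 12) r && allR (fun k => Nat.blt k 4) w &&
    allR (fun j => eqN (mapR (fun i => (coef (wordP chevG2 3 r [(j, 1)]) i % 3).toNat) (upto 14))
      (evalN w (unitN j))) (upto 14)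

noncomputable def checkMat : Bool :=
  allR (fun k => allR (fun j => eqN
    (mapR (fun i => (coef (wordP chevG2 3 (letWord.getD k []) [(j, 1)]) i % 3).toNat) (upto 14))
    (mapR (fun r : List ℕ => r.getD j 0) (letMat.getD k []))) (upto 14)) (upto 4)

noncomputable def checkShape : Bool :=
  allR (fun M : List (List ℕ) => Nat.beq M.length 14 && allR (fun r : List ℕ => Nat.beq r.length 14) M)
    letMat

noncomputable def checkInv : Bool := allR (fun k => eqW [k, opp k] []) (upto 4)

noncomputable def checkGen : Bool :=
  allR (fun n => eqRootW (uWord (n / 9 : ℕ) (n / 3 % 3 : ℕ) (n % 3 : ℕ)) (uTab.getD n []) &&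
    eqRootW (vWord (n / 9 : ℕ) (n / 3 % 3 : ℕ) (n % 3 : ℕ)) (vTab.getD n [])) (upto 27)

noncomputable def checkConj : Bool :=
  allR (fun k => allR (fun i => allR (fun r => eqW (k :: klein i r ++ [opp k])
    ((((((expTab.getD k []).getD i []).getD r []).map
      (klein ((permTab.getD k []).getD i 0))).flatten))) (upto 3)) (upto 9)) (upto 2)

noncomputable def checkPair : Bool :=
  allR (fun i => allR (fun c : ℕ × ℕ => eqW (klein i c.1 ++ klein i c.2) (klein i c.2 ++ klein i c.1))
    [(0, 1), (0, 2), (1, 2)]) (upto 9) &&
  (allR (fun k => Nat.blt k 4) (appR (klein 0 (nonCommPair.getD 0 0)) (klein 1 (nonCommPair.getD 1 0))) &&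
  !eqW (klein 0 (nonCommPair.getD 0 0) ++ klein 1 (nonCommPair.getD 1 0))
    (klein 1 (nonCommPair.getD 1 0) ++ klein 0 (nonCommPair.getD 0 0)))

theorem checkShape_ok : checkShape = true := by decide +kernel
theorem checkMat_ok : checkMat = true := by decide +kernel
theorem checkInv_ok : checkInv = true := by decide +kernel
theorem checkPair_ok : checkPair = true := by decide +kernel
theorem checkConj_ok : checkConj = true := by decide +kernel
theorem checkGen_ok : checkGen = true := by decide +kernel

end ReeNine

end CfsgLib.Chev
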