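import Cfsg.Agent.Lib.Chev.ModWord
import Cfsg.Agent.Lib.Chev.TwistG2
import Cfsg.Agent.Lib.Chev.ReeNineCheck
import Cfsg.Agent.S0727
import Cfsg.Agent.S1069
import Cfsg.Agent.Lib.Geom.DicksonPSL
import Cfsg.Agent.Lib.Solvable.FixedPointFree

/-!
# The Ree group `²G₂(3)` on nine points

Its derived group is `PSL(2, 8)`.
-/

set_option autoImplicit false
set_option maxRecDepth 100000

namespace CfsgLib.Chev

open Cfsg.Lie
open scoped commutatorElement

variable {F : Type*} [Field F]

namespace ReeNine

open Matrix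

/-- The vector of a list. -/
noncomputable def vecN (F : Type*) [Field F] (v : List ℕ) : chevG2.Idx → F :=
  fun a => ((v.getD (ix chevG2 a) 0 : ℕ) : F)

/-- The matrix of a list of rows. -/
noncomputable def matN (F : Type*) [Field F] (M : List (List ℕ)) : Matrix chevG2.Idx chevG2.Idx F :=
  Matrix.of fun a b => (((M.getD (ix chevG2 a) []).getD (ix chevG2 b) 0 : ℕ) : F)

theorem dotN_eq : ∀ (n : ℕ) (r v : List ℕ), r.length = n → v.length = n →
    dotN r v = ∑ i : Fin n, r.getD i.val 0 * v.getD i.val 0 := by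
  intro n
  induction n with
  | zero =>
    intro r v hr hv
    rw [List.length_eq_zero_iff.mp hr]
    simp [dotN]
  | succ n ih =>
    intro r v hr hv
    obtain ⟨a, r, rfl⟩ := List.exists_cons_of_length_eq_add_one hr
    obtain ⟨b, v, rfl⟩ := List.exists_cons_of_length_eq_add_one hv
    rw [Fin.sum_univ_succ]
    show a * b + dotN r v = _
    rw [ih r v (by simpa using hr) (by simpa using hv)]
    simp

theorem ix_lt (a : chevG2.Idx) : ix chevG2 a < 14 := by
  rcases a with a | a
  · rw [ix_inl]
    exact lt_of_lt_of_le a.isLt (by decide +kernel)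
  · rw [ix_inr]
    exact lt_of_lt_of_le (Nat.add_lt_add_left a.isLt _) (by decide +kernel)

/-- Coordinates as numbers below fourteen. -/
noncomputable def ixFin (a : chevG2.Idx) : Fin 14 := ⟨ix chevG2 a, ix_lt a⟩

theorem ixFin_bijective : Function.Bijective ixFin := by
  refine (Fintype.bijective_iff_injective_and_card _).mpr
    ⟨fun a b h => ix_injective chevG2 (congrArg Fin.val h), ?_⟩
  rw [Fintype.card_sum, Fintype.card_fin, Fintype.card_fin, Fintype.card_fin]
  decide +kernel

theorem letMat_shape {k : ℕ} (hk : k < 4) : (letMat.getD k []).length = 14 ∧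
    ∀ i, i < 14 → ((letMat.getD k []).getD i []).length = 14 := by
  have hlen : letMat.length = 4 := by decide +kernel
  have h := checkShape_ok
  rw [checkShape, allR_eq, List.all_eq_true] at h
  have hm : letMat.getD k [] ∈ letMat := by
    rw [List.getD_eq_getElem _ _ (by omega)]
    exact List.getElem_mem _
  have h' := h _ hm
  rw [Bool.and_eq_true, Nat.beq_eq, allR_eq, List.all_eq_true] at h'
  refine ⟨h'.1, fun i hi => ?_⟩
  have hr : (letMat.getD k []).getD i [] ∈ letMat.getD k [] := by
    rw [List.getD_eq_getElem (letMat.getD k []) [] (n := i) (by omega)]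
    exact List.getElem_mem _
  exact Nat.eq_of_beq_eq_true (h'.2 _ hr)

theorem applyN_spec [CharP F 3] {k : ℕ} (hk : k < 4) {v : List ℕ} (hv : v.length = 14) :
    (applyN (letMat.getD k []) v).length = 14 ∧
      vecN F (applyN (letMat.getD k []) v) = matN F (letMat.getD k []) *ᵥ vecN F v := by
  obtain ⟨hl, hr⟩ := letMat_shape hk
  refine ⟨by rw [applyN, mapR_eq, List.length_map, hl], ?_⟩
  funext a
  rw [vecN, applyN, mapR_eq, List.getD_eq_getElem _ _ (by rw [List.length_map, hl]; exact ix_lt a),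
    List.getElem_map, CharP.natCast_eq_natCast' F 3 (Nat.mod_modEq _ 3), dotN_eq 14 _ _ ?_ hv,
    Nat.cast_sum]
  · show _ = ∑ b, matN F _ a b * vecN F v b
    refine (Fintype.sum_bijective ixFin ixFin_bijective _ _ fun b => ?_).symm
    rw [Nat.cast_mul]
    simp only [matN, vecN, Matrix.of_apply, ixFin]
    rw [List.getD_eq_getElem (letMat.getD k []) [] (by rw [hl]; exact ix_lt a)]
  · have := hr _ (ix_lt a)
    rwa [List.getD_eq_getElem (letMat.getD k []) [] (by rw [hl]; exact ix_lt a)] at this

theorem unitN_spec (b : chevG2.Idx) : (unitN (ix chevG2 b)).length = 14 ∧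
    vecN F (unitN (ix chevG2 b)) = Pi.single b 1 := by
  have hl : (unitN (ix chevG2 b)).length = 14 := by
    rw [unitN, mapR_eq, upto_eq, List.length_map, List.length_range]
  refine ⟨hl, funext fun a => ?_⟩
  rw [vecN, List.getD_eq_getElem _ _ (by rw [hl]; exact ix_lt a)]
  simp only [unitN, mapR_eq, upto_eq, List.getElem_map, List.getElem_range]
  by_cases h : a = b
  · subst h; simp
  · have hne : ix chevG2 a ≠ ix chevG2 b := fun e => h (ix_injective chevG2 e)
    rw [show Nat.beq (ix chevG2 a) (ix chevG2 b) = false from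
      Bool.eq_false_iff.mpr fun e => hne (Nat.eq_of_beq_eq_true e)]
    simp [h]

theorem expand_append (v w : List ℕ) : expand (v ++ w) = expand v ++ expand w := by
  induction v with
  | nil => rfl
  | cons k v ih =>
    show appR _ (expand (v ++ w)) = appR _ (expand v) ++ _
    rw [ih, appR_eq, appR_eq, List.append_assoc]

theorem gW_append (v w : List ℕ) : gW F (v ++ w) = gW F v * gW F w := by
  rw [gW, expand_append, List.map_append, List.prod_append]; rfl

theorem gW_nil : gW F [] = 1 := rfl

theorem gW_cons (k : ℕ) (w : List ℕ) : gW F (k :: w) = gW F [k] * gW F w :=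
  gW_append [k] w

theorem gW_flatMap (l : List (List ℕ)) : gW F l.flatten = (l.map (gW F)).prod := by
  induction l with
  | nil => rfl
  | cons a l ih => rw [List.flatten_cons, gW_append, ih, List.map_cons, List.prod_cons]

/-- The value of a reduced coefficient. -/
theorem natCast_toNat [CharP F 3] (x : ℤ) : (((x % 3).toNat : ℕ) : F) = (x : F) := by
  rw [← Int.cast_natCast, Int.toNat_of_nonneg (Int.emod_nonneg _ (by norm_num)), Int.emod_def,
    Int.cast_sub, Int.cast_mul]
  rw [show ((3 : ℤ) : F) = ((3 : ℕ) : F) by push_cast; rfl, CharP.cast_eq_zero F 3, zero_mul, sub_zero]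

theorem root_col [CharP F 3] {r : List (ℕ × ℤ)} (hr : ∀ a ∈ r, a.1 < chevG2.nroots) (b : chevG2.Idx)
    (a : chevG2.Idx) :
    (((coef (wordP chevG2 3 r [(ix chevG2 b, 1)]) (ix chevG2 a) % 3).toNat : ℕ) : F) =
      (((r.map fun x => goodG2.xG x.1 (x.2 : F)).prod : GL chevG2.Idx F) :
        Matrix chevG2.Idx chevG2.Idx F) a b := by
  have hv : ∀ q ∈ ([(ix chevG2 b, 1)] : SVec), q.1 ∈ Set.range (ix chevG2) := fun q hq => by
    rw [List.mem_singleton] at hq
    exact hq ▸ ⟨b, rfl⟩
  have hsingle : svecVal chevG2 F [(ix chevG2 b, 1)] = Pi.single b 1 := by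
    funext c
    by_cases hc : c = b
    · subst hc; simp [svecVal, coef_cons, coef_nil]
    · have hne : ix chevG2 b ≠ ix chevG2 c := fun e => hc (ix_injective chevG2 e).symm
      simp [svecVal, coef_cons, coef_nil, hne, hc]
  have h := congrFun (goodG2.wordP_spec (F := F) (p := 3) r hr _ hv).2 a
  rw [hsingle, Matrix.mulVec_single_one] at h
  rw [natCast_toNat]
  exact h

theorem eqN_eq : ∀ (u v : List ℕ), eqN u v = true → u = v := by
  intro u
  induction u with
  | nil => intro v h; cases v with | nil => rfl | cons b v => exact Bool.noConfusion h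
  | cons a u ih =>
    intro v h
    cases v with
    | nil => exact Bool.noConfusion h
    | cons b v =>
      have h' : (Nat.beq a b && eqN u v) = true := h
      rw [Bool.and_eq_true] at h'
      rw [Nat.eq_of_beq_eq_true h'.1, ih v h'.2]

theorem letter_eq [CharP F 3] {k : ℕ} (hk : k < 4) :
    ((gW F [k] : GL chevG2.Idx F) : Matrix chevG2.Idx chevG2.Idx F) = matN F (letMat.getD k []) := by
  obtain ⟨hl, hr⟩ := letMat_shape hk
  have hlt : ∀ x ∈ letWord.getD k [], x.1 < chevG2.nroots := by
    have h : ∀ k : Fin 4, ∀ x ∈ letWord.getD k.val [], x.1 < chevG2.nroots := by decide +kernel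
    exact h ⟨k, hk⟩
  ext a b
  have h := eqN_eq _ _ (allR_upto (allR_upto checkMat_ok hk) (ix_lt b))
  have h' := congrArg (fun l : List ℕ => l.getD (ix chevG2 a) 0) h
  simp only [mapR_eq, upto_eq] at h'
  rw [List.getD_eq_getElem _ _ (show ix chevG2 a < (List.map _ (List.range 14)).length by
      rw [List.length_map, List.length_range]; exact ix_lt a),
    List.getD_eq_getElem (List.map _ (letMat.getD k [])) _
      (by rw [List.length_map, hl]; exact ix_lt a), List.getElem_map, List.getElem_map,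
    List.getElem_range] at h'
  have hexp : expand [k] = letWord.getD k [] := (appR_eq _ []).trans (List.append_nil _)
  rw [matN, Matrix.of_apply, List.getD_eq_getElem (letMat.getD k []) [] (by rw [hl]; exact ix_lt a),
    ← h', gW, hexp]
  exact (root_col hlt b a).symm

theorem evalN_spec [CharP F 3] {w : List ℕ} (hw : ∀ k ∈ w, k < 4) (b : chevG2.Idx) :
    (evalN w (unitN (ix chevG2 b))).length = 14 ∧ ∀ a, vecN F (evalN w (unitN (ix chevG2 b))) a =
      ((gW F w : GL chevG2.Idx F) : Matrix chevG2.Idx chevG2.Idx F) a b := by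
  induction w with
  | nil =>
    obtain ⟨h1, h2⟩ := unitN_spec (F := F) b
    refine ⟨h1, fun a => ?_⟩
    show vecN F (unitN (ix chevG2 b)) a = _
    rw [h2, gW_nil, Units.val_one, Matrix.one_apply, Pi.single_apply]
  | cons k w ih =>
    obtain ⟨h1, h2⟩ := ih fun x hx => hw x (List.mem_cons_of_mem _ hx)
    have hk := hw k List.mem_cons_self
    obtain ⟨h3, h4⟩ := applyN_spec (F := F) hk h1
    refine ⟨h3, fun a => ?_⟩
    show vecN F (applyN (letMat.getD k []) (evalN w (unitN (ix chevG2 b)))) a = _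
    rw [h4, gW_cons, Units.val_mul, letter_eq hk, Matrix.mul_apply]
    show ∑ c, matN F (letMat.getD k []) a c * vecN F (evalN w (unitN (ix chevG2 b))) c = _
    exact Finset.sum_congr rfl fun c _ => by rw [h2]

theorem word_eq [CharP F 3] {w₁ w₂ : List ℕ} (h : eqW w₁ w₂ = true) : gW F w₁ = gW F w₂ := by
  rw [eqW, Bool.and_eq_true] at h
  have hlt : ∀ k ∈ w₁ ++ w₂, k < 4 := fun k hk =>
    Nat.blt_eq.mp (allR_true h.1 (appR_eq w₁ w₂ ▸ hk))
  refine Units.ext (Matrix.ext fun a b => ?_)
  rw [← (evalN_spec (F := F) (fun k hk => hlt k (List.mem_append_left _ hk)) b).2,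
    ← (evalN_spec (F := F) (fun k hk => hlt k (List.mem_append_right _ hk)) b).2,
    eqN_eq _ _ (allR_upto h.2 (ix_lt b))]

theorem root_eq [CharP F 3] {r : List (ℕ × ℤ)} {w : List ℕ} (h : eqRootW r w = true) :
    (r.map fun x => goodG2.xG x.1 (x.2 : F)).prod = gW F w := by
  rw [eqRootW, Bool.and_eq_true, Bool.and_eq_true] at h
  have hr : ∀ x ∈ r, x.1 < chevG2.nroots := fun x hx => Nat.blt_eq.mp (allR_true h.1.1 hx)
  refine Units.ext (Matrix.ext fun a b => ?_)
  rw [← root_col hr b a, ← (evalN_spec (F := F) (fun k hk => Nat.blt_eq.mp (allR_true h.1.2 hk)) b).2]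
  have h' := eqN_eq _ _ (allR_upto h.2 (ix_lt b))
  rw [vecN, ← h', mapR_eq, upto_eq, List.getD_eq_getElem _ _ (by simpa using ix_lt a)]
  simp

theorem applyN_lt {k : ℕ} {v : List ℕ} : ∀ x ∈ applyN (letMat.getD k []) v, x < 3 := by
  intro x hx
  rw [applyN, mapR_eq, List.mem_map] at hx
  obtain ⟨r, -, rfl⟩ := hx
  exact Nat.mod_lt _ (by norm_num)

/-- Equal group elements have equal tables. -/
theorem eqW_of_eq [CharP F 3] {w₁ w₂ : List ℕ} (hlt : ∀ k ∈ w₁ ++ w₂, k < 4) (h1 : w₁ ≠ [])
    (h2 : w₂ ≠ []) (h : gW F w₁ = gW F w₂) : eqW w₁ w₂ = true := by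
  rw [eqW, Bool.and_eq_true, allR_eq, allR_eq, List.all_eq_true, List.all_eq_true]
  refine ⟨fun k hk => Nat.blt_eq.mpr (hlt k (appR_eq w₁ w₂ ▸ hk)), fun j hj => ?_⟩
  rw [upto_eq, List.mem_range] at hj
  obtain ⟨b, hb⟩ := ixFin_bijective.surjective ⟨j, hj⟩
  have hb' : ix chevG2 b = j := congrArg Fin.val hb
  subst hb'
  obtain ⟨l1, e1⟩ := evalN_spec (F := F) (fun k hk => hlt k (List.mem_append_left _ hk)) b
  obtain ⟨l2, e2⟩ := evalN_spec (F := F) (fun k hk => hlt k (List.mem_append_right _ hk)) b
  have e : evalN w₁ (unitN (ix chevG2 b)) = evalN w₂ (unitN (ix chevG2 b)) := by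
    refine List.ext_getElem (l1.trans l2.symm) fun i hi1 hi2 => ?_
    obtain ⟨a, ha⟩ := ixFin_bijective.surjective ⟨i, l1 ▸ hi1⟩
    have ha' : ix chevG2 a = i := congrArg Fin.val ha
    have hc := (e1 a).trans ((congrArg (fun g : GL chevG2.Idx F =>
      (g : Matrix chevG2.Idx chevG2.Idx F) a b) h).trans (e2 a).symm)
    simp only [vecN] at hc
    rw [ha', List.getD_eq_getElem _ _ hi1, List.getD_eq_getElem _ _ hi2] at hc
    have hlt1 : (evalN w₁ (unitN (ix chevG2 b)))[i] < 3 := by
      obtain ⟨k, w, rfl⟩ := List.exists_cons_of_ne_nil h1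
      exact applyN_lt _ (List.getElem_mem hi1)
    have hlt2 : (evalN w₂ (unitN (ix chevG2 b)))[i] < 3 := by
      obtain ⟨k, w, rfl⟩ := List.exists_cons_of_ne_nil h2
      exact applyN_lt _ (List.getElem_mem hi2)
    have := (CharP.natCast_eq_natCast F 3).mp hc
    rwa [Nat.ModEq, Nat.mod_eq_of_lt hlt1, Nat.mod_eq_of_lt hlt2] at this
  rw [e]
  generalize evalN w₂ (unitN (ix chevG2 b)) = l
  induction l with
  | nil => rfl
  | cons x l ih =>
    show (Nat.beq x x && eqN l l) = true
    rw [ih, Nat.beq_refl, Bool.and_true]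

/-- A letter as a permutation of nine points. -/
def letFun (k : Fin 4) (i : Fin 9) : Fin 9 := Fin.ofNat 9 ((permTab.getD k.val []).getD i.val 0)

def letPerm (k : Fin 4) : Equiv.Perm (Fin 9) where
  toFun := letFun k
  invFun := letFun ⟨opp k.val, Nat.mod_lt _ (by decide)⟩
  left_inv := by revert k; decide +kernel
  right_inv := by revert k; decide +kernel

/-- A word as a permutation of nine points. -/
def pW (w : List ℕ) : Equiv.Perm (Fin 9) := (w.map fun k => letPerm (Fin.ofNat 4 k)).prod

theorem pW_append (v w : List ℕ) : pW (v ++ w) = pW v * pW w := by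
  rw [pW, List.map_append, List.prod_append]; rfl

/-- The derived generators. -/
def der (k : ℕ) : List ℕ := derGens.getD k []

/-- The code of a permutation. -/
def code (π : Equiv.Perm (Fin 9)) : ℕ :=
  (List.finRange 9).foldr (fun i acc => (π i).val + 16 * acc) 0

theorem pairTab_ok : ∀ i j : Fin 9, i ≠ j →
    pW (pairTab.getD (9 * i.val + j.val) []) 0 = i ∧ pW (pairTab.getD (9 * i.val + j.val) []) 1 = j := by
  decide +kernel

/-- Reading a point off a code. -/
def digit (c i : ℕ) : ℕ := c / 16 ^ i % 16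

/-- Right multiplication of a code by a permutation. -/
def codeMul (c : ℕ) (h : List ℕ) : ℕ :=
  (List.finRange 9).foldr (fun i acc => digit c (pW h i).val + 16 * acc) 0

theorem derMul_ok : ∀ k : Fin 2, ((derTab.zip (derMul.getD k.val [])).all fun e =>
    Nat.beq (derTab.getD e.2 0) (codeMul e.1 (der k.val)) && Nat.blt e.2 504) = true := by
  decide +kernel

theorem der_facts : derTab.length = 504 ∧ (∀ k : Fin 2, (derMul.getD k.val []).length = 504) ∧
    derTab.contains (code 1) = true ∧ derTab.contains (code (pW [0])) = false ∧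
    (∀ k : Fin 4, ∀ j : Fin 2, derTab.contains (code (pW (k.val :: der j.val ++ [opp k.val]))) = true) := by
  decide +kernel

theorem der_comm : derGens = [[0] ++ [1] ++ invWord [0] ++ invWord [1],
    [0] ++ [3] ++ invWord [0] ++ invWord [3]] := by
  decide +kernel

theorem first_ok : ∀ i : Fin 9, pW ((firstTab.getD i.val []).map der).flatten 0 = i := by
  decide +kernel

theorem second_ok : ∀ j : Fin 8, pW ((secondTab.getD j.val []).map der).flatten 0 = 0 ∧
    pW ((secondTab.getD j.val []).map der).flatten 1 = j.succ := by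
  decide +kernel

theorem third_ok : ∀ j : Fin 7, pW ((thirdTab.getD j.val []).map der).flatten 0 = 0 ∧
    pW ((thirdTab.getD j.val []).map der).flatten 1 = 1 ∧
    pW ((thirdTab.getD j.val []).map der).flatten 2 = j.succ.succ := by
  decide +kernel

theorem flatten_lt : ∀ n : Fin 81, ∀ k ∈ pairTab.getD n.val [], k < 4 := by decide +kernel

/-- Its derived group. -/
def derGroup : Subgroup (Equiv.Perm (Fin 9)) := Subgroup.closure {pW (der 0), pW (der 1)}

theorem digit_code : ∀ (π : Equiv.Perm (Fin 9)) (i : Fin 9), digit (code π) i.val = (π i).val := by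
  intro π i
  have h : ∀ (f : Fin 9 → Fin 16) (i : Fin 9),
      digit ((List.finRange 9).foldr (fun i acc => (f i).val + 16 * acc) 0) i.val = (f i).val := by
    intro f i
    simp only [List.finRange, List.ofFn, Fin.foldr_succ, Fin.foldr_zero, List.foldr_cons,
      List.foldr_nil, digit]
    fin_cases i <;> simp <;> omega
  exact h (fun i => ⟨(π i).val, by omega⟩) i

theorem code_mul (π : Equiv.Perm (Fin 9)) (h : List ℕ) : codeMul (code π) h = code (π * pW h) := by
  simp only [codeMul, digit_code]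
  rfl

theorem code_injective : Function.Injective code := fun π ρ h => Equiv.ext fun i => Fin.ext (by
  rw [← digit_code, h, digit_code])

theorem code_mem {π : Equiv.Perm (Fin 9)} (h : π ∈ derGroup) : code π ∈ derTab := by
  have hm : π ∈ Submonoid.closure ({pW (der 0), pW (der 1)} : Set (Equiv.Perm (Fin 9))) := by
    rw [← Subgroup.closure_toSubmonoid_of_finite]
    exact h
  have hstep : ∀ ρ : Equiv.Perm (Fin 9), code ρ ∈ derTab → ∀ k : Fin 2,
      code (ρ * pW (der k.val)) ∈ derTab := by
    intro ρ hρ k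
    obtain ⟨n, hn, hne⟩ := List.getElem_of_mem hρ
    have hl := der_facts.2.1 k
    have hn' : n < (derMul.getD k.val []).length := by
      rw [hl]; exact der_facts.1 ▸ hn
    have hz := List.all_eq_true.mp (derMul_ok k) (derTab[n], (derMul.getD k.val [])[n])
      (List.mem_iff_getElem.mpr ⟨n, by rw [List.length_zip]; omega, List.getElem_zip⟩)
    rw [Bool.and_eq_true, Nat.beq_eq] at hz
    have hlt := Nat.blt_eq.mp hz.2
    rw [← code_mul, ← hne, ← hz.1, List.getD_eq_getElem _ _ (der_facts.1 ▸ hlt)]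
    exact List.getElem_mem _
  clear h
  induction hm using Submonoid.closure_induction_right with
  | one => exact List.contains_iff_mem.mp der_facts.2.2.1
  | mul_right x _ y hy ih =>
    rcases hy with rfl | rfl
    · exact hstep x ih 0
    · exact hstep x ih 1

theorem card_derGroup_le : Nat.card derGroup ≤ 504 := by
  classical
  refine le_trans (Nat.card_le_card_of_injective
    (fun π : derGroup => (⟨code π.1, List.mem_toFinset.mpr (code_mem π.2)⟩ : derTab.toFinset))
    fun π ρ h => Subtype.ext (code_injective (congrArg Subtype.val h))) ?_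
  rw [Nat.card_eq_finsetCard]
  exact derTab.toFinset_card_le.trans der_facts.1.le

theorem pW_der_mem (l : List ℕ) : pW (l.map der).flatten ∈ derGroup := by
  induction l with
  | nil => exact derGroup.one_mem
  | cons k l ih =>
    rw [List.map_cons, List.flatten_cons, pW_append]
    refine derGroup.mul_mem ?_ ih
    rcases k with _ | _ | k
    · exact Subgroup.subset_closure (by simp)
    · exact Subgroup.subset_closure (by simp)
    · exact derGroup.one_mem

/-- A transversal chain. -/
def chainElem (e : Fin 9 × Fin 8 × Fin 7) : derGroup :=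
  ⟨pW ((firstTab.getD e.1.val []).map der).flatten *
    (pW ((secondTab.getD e.2.1.val []).map der).flatten *
      pW ((thirdTab.getD e.2.2.val []).map der).flatten),
    derGroup.mul_mem (pW_der_mem _) (derGroup.mul_mem (pW_der_mem _) (pW_der_mem _))⟩

theorem chainElem_spec (i : Fin 9) (j : Fin 8) (k : Fin 7) :
    ((chainElem (i, j, k) : derGroup) : Equiv.Perm (Fin 9)) 0 = i ∧
    ((chainElem (i, j, k) : derGroup) : Equiv.Perm (Fin 9)) 1 =
      pW ((firstTab.getD i.val []).map der).flatten j.succ ∧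
    ((chainElem (i, j, k) : derGroup) : Equiv.Perm (Fin 9)) 2 =
      pW ((firstTab.getD i.val []).map der).flatten
        (pW ((secondTab.getD j.val []).map der).flatten k.succ.succ) := by
  simp only [chainElem, Equiv.Perm.mul_apply]
  obtain ⟨z0, z1, z2⟩ := third_ok k
  obtain ⟨v0, v1⟩ := second_ok j
  exact ⟨by rw [z0, v0, first_ok], by rw [z1, v1], by rw [z2]⟩

theorem chainElem_injective : Function.Injective chainElem := by
  rintro ⟨i, j, k⟩ ⟨i', j', k'⟩ h
  obtain ⟨a0, a1, a2⟩ := chainElem_spec i j k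
  obtain ⟨b0, b1, b2⟩ := chainElem_spec i' j' k'
  rw [h] at a0 a1 a2
  obtain rfl : i = i' := a0.symm.trans b0
  obtain rfl : j = j' := Fin.succ_injective _ (Equiv.injective _ (a1.symm.trans b1))
  obtain rfl : k = k' := Fin.succ_injective _ (Fin.succ_injective _
    (Equiv.injective _ (Equiv.injective _ (a2.symm.trans b2))))
  rfl

theorem card_derGroup : Nat.card derGroup = 504 := by
  refine le_antisymm card_derGroup_le ?_
  have h := Nat.card_le_card_of_injective chainElem chainElem_injective
  simpa using h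

/-- The images of `0, 1, 2`. -/
def tri (π : derGroup) : Fin 9 × Fin 9 × Fin 9 :=
  ((π : Equiv.Perm (Fin 9)) 0, (π : Equiv.Perm (Fin 9)) 1, (π : Equiv.Perm (Fin 9)) 2)

theorem chainElem_surjective : Function.Surjective chainElem :=
  ((Nat.bijective_iff_injective_and_card _).mpr
    ⟨chainElem_injective, by rw [card_derGroup]; simp⟩).2

theorem tri_injective : Function.Injective tri := by
  intro π ρ h
  obtain ⟨⟨i, j, k⟩, rfl⟩ := chainElem_surjective π
  obtain ⟨⟨i', j', k'⟩, rfl⟩ := chainElem_surjective ρ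
  obtain ⟨a0, a1, a2⟩ := chainElem_spec i j k
  obtain ⟨b0, b1, b2⟩ := chainElem_spec i' j' k'
  simp only [tri, Prod.mk.injEq, a0, a1, a2, b0, b1, b2] at h
  obtain ⟨rfl, h1, h2⟩ := h
  obtain rfl := Fin.succ_injective _ (Equiv.injective _ h1)
  obtain rfl := Fin.succ_injective _ (Fin.succ_injective _ (Equiv.injective _ (Equiv.injective _ h2)))
  rfl

/-- Reaching every triple. -/
theorem exists_triple (x : Fin 3 ↪ Fin 9) : ∃ π : derGroup, ∀ i : Fin 3,
    (π : Equiv.Perm (Fin 9)) (Fin.castLE (by decide) i) = x i := by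
  obtain ⟨j, hj⟩ : ∃ j : Fin 8, pW ((firstTab.getD (x 0).val []).map der).flatten j.succ = x 1 := by
    obtain ⟨y, hy⟩ := (pW ((firstTab.getD (x 0).val []).map der).flatten).surjective (x 1)
    have hy0 : y ≠ 0 := fun e => by
      rw [e, first_ok] at hy
      exact absurd (x.injective hy) (by decide)
    obtain ⟨j, rfl⟩ := Fin.exists_succ_eq.mpr hy0
    exact ⟨j, hy⟩
  obtain ⟨k, hk⟩ : ∃ k : Fin 7, pW ((firstTab.getD (x 0).val []).map der).flatten
      (pW ((secondTab.getD j.val []).map der).flatten k.succ.succ) = x 2 := by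
    obtain ⟨y, hy⟩ := (pW ((firstTab.getD (x 0).val []).map der).flatten).surjective (x 2)
    obtain ⟨z, rfl⟩ := (pW ((secondTab.getD j.val []).map der).flatten).surjective y
    obtain ⟨v0, v1⟩ := second_ok j
    have hz0 : z ≠ 0 := fun e => by
      rw [e, v0, first_ok] at hy
      exact absurd (x.injective hy) (by decide)
    obtain ⟨z', rfl⟩ := Fin.exists_succ_eq.mpr hz0
    have hz1 : z' ≠ 0 := fun e => by
      rw [e, show (Fin.succ (0 : Fin 8)) = (1 : Fin 9) from rfl, v1, hj] at hy
      exact absurd (x.injective hy) (by decide)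
    obtain ⟨k, rfl⟩ := Fin.exists_succ_eq.mpr hz1
    exact ⟨k, hy⟩
  obtain ⟨a0, a1, a2⟩ := chainElem_spec (x 0) j k
  refine ⟨chainElem (x 0, j, k), fun i => ?_⟩
  fin_cases i
  · exact a0
  · exact a1.trans hj
  · exact a2.trans hk

theorem derGroup_psl {L : Type*} [Field L] [Fintype L] (hL : Fintype.card L = 8) :
    Nonempty (derGroup ≃* Matrix.ProjectiveSpecialLinearGroup (Fin 2) L) := by
  have h3 : MulAction.IsMultiplyPretransitive derGroup (Fin 9) 3 := by
    rw [MulAction.isMultiplyPretransitive_iff]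
    intro x y
    obtain ⟨π, hπ⟩ := exists_triple x
    obtain ⟨ρ, hρ⟩ := exists_triple y
    refine ⟨ρ * π⁻¹, Function.Embedding.ext fun i => ?_⟩
    show (ρ * π⁻¹ : derGroup) • x i = y i
    rw [mul_smul, ← hπ i, ← hρ i]
    show ρ • π⁻¹ • (π • (Fin.castLE _ i : Fin 9)) = _
    rw [inv_smul_smul]
    rfl
  have hsharp : ∀ x : Fin 3 ↪ Fin 9, MulAction.stabilizer derGroup x = ⊥ := by
    intro x
    rw [Subgroup.eq_bot_iff_forall]
    intro g hg
    obtain ⟨π, hπ⟩ := exists_triple x
    have hfix : ∀ i, (g : Equiv.Perm (Fin 9)) (x i) = x i := fun i =>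
      congrArg (fun f : Fin 3 ↪ Fin 9 => f i) hg
    have e : g * π = π := by
      refine tri_injective ?_
      have h : ∀ i : Fin 3, (g : Equiv.Perm (Fin 9)) ((π : Equiv.Perm (Fin 9)) (Fin.castLE (by decide) i)) =
          (π : Equiv.Perm (Fin 9)) (Fin.castLE (by decide) i) := fun i => by rw [hπ, hfix]
      simp only [tri, Subgroup.coe_mul, Equiv.Perm.mul_apply]
      exact Prod.ext (h 0) (Prod.ext (h 1) (h 2))
    simpa using e
  obtain ⟨F, iF, iFF, hF, ⟨e⟩⟩ := Cfsg.Agent.S0727.result (f := 3) (by norm_num) (by simp) derGroup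
    h3 hsharp
  have hs : Function.Surjective (Matrix.ProjectiveSpecialLinearGroup.toPGL (n := Fin 2) (R := F)) := by
    refine Matrix.ProjectiveSpecialLinearGroup.toPGL_surj_of_roots fun r => ⟨r ^ 4, ?_⟩
    have h7 : r ^ 7 = 1 := by
      classical
      have := pow_card_eq_one (x := r)
      rwa [Fintype.card_units, hF] at this
    rw [Fintype.card_fin, ← pow_mul, show 4 * 2 = 7 + 1 from rfl, pow_succ, h7, one_mul]
  let E : Matrix.ProjectiveSpecialLinearGroup (Fin 2) F ≃* Matrix.ProjGenLinGroup (Fin 2) F :=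
    MulEquiv.ofBijective _ ⟨Matrix.ProjectiveSpecialLinearGroup.toPGL_injective, hs⟩
  let e' : F ≃+* L := FiniteField.ringEquivOfCardEq (K := F) (K' := L) (by rw [hF, hL]; norm_num)
  exact ⟨(e.trans E.symm).trans (CfsgLib.Geom.Moebius.pslCongr e')⟩

section Action

variable [CharP F 3]

theorem gW_opp (k : ℕ) (hk : k < 4) : gW F [k] * gW F [opp k] = 1 := by
  rw [← gW_append]
  exact word_eq (w₂ := []) (allR_upto checkInv_ok hk)

/-- One of the nine subgroups. -/
noncomputable def kleinGroup (F : Type*) [Field F] (i : ℕ) : Subgroup (GL chevG2.Idx F) :=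
  Subgroup.closure {x | ∃ r < 3, x = gW F (klein i r)}

theorem klein_comm (i : Fin 9) {x y : GL chevG2.Idx F} (hx : x ∈ kleinGroup F i.val)
    (hy : y ∈ kleinGroup F i.val) : x * y = y * x := by
  have hc := checkPair_ok
  rw [checkPair, Bool.and_eq_true] at hc
  have hgen : ∀ c ∈ [(0, 1), (0, 2), (1, 2)],
      gW F (klein i.val c.1) * gW F (klein i.val c.2) = gW F (klein i.val c.2) * gW F (klein i.val c.1) := by
    intro c hcm
    rw [← gW_append, ← gW_append]
    exact word_eq (allR_true (allR_upto hc.1 i.isLt) hcm)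
  have : IsMulCommutative (kleinGroup F i.val) := Subgroup.isMulCommutative_closure fun a ha b hb => by
    obtain ⟨r, hr, rfl⟩ := ha
    obtain ⟨r', hr', rfl⟩ := hb
    interval_cases r <;> interval_cases r'
    exacts [rfl, hgen (0, 1) (by simp), hgen (0, 2) (by simp), (hgen (0, 1) (by simp)).symm, rfl,
      hgen (1, 2) (by simp), (hgen (0, 2) (by simp)).symm, (hgen (1, 2) (by simp)).symm, rfl]
  exact congrArg Subtype.val (this.is_comm.comm ⟨x, hx⟩ ⟨y, hy⟩)

theorem conj_letter (k : Fin 2) (i : Fin 9) {x : GL chevG2.Idx F} (hx : x ∈ kleinGroup F i.val) :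
    gW F [k.val] * x * (gW F [k.val])⁻¹ ∈ kleinGroup F (pW [k.val] i).val := by
  have hinv : (gW F [k.val])⁻¹ = gW F [opp k.val] := inv_eq_of_mul_eq_one_right (gW_opp _ (by omega))
  have hi : (pW [k.val] i).val = (permTab.getD k.val []).getD i.val 0 := by
    have h : ∀ (k : Fin 2) (i : Fin 9), (pW [k.val] i).val = (permTab.getD k.val []).getD i.val 0 := by
      decide +kernel
    exact h k i
  have hgen : ∀ r < 3, gW F [k.val] * gW F (klein i.val r) * (gW F [k.val])⁻¹ ∈
      kleinGroup F (pW [k.val] i).val := by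
    intro r hr
    have h := word_eq (F := F) (allR_upto (allR_upto (allR_upto checkConj_ok k.isLt) i.isLt) hr)
    rw [gW_append, gW_cons, ← hinv] at h
    rw [h, hi, gW_flatMap, List.map_map]
    refine Subgroup.list_prod_mem _ fun y hy => ?_
    obtain ⟨b, hb, rfl⟩ := List.mem_map.mp hy
    refine Subgroup.subset_closure ⟨b, ?_, rfl⟩
    have hlt : ∀ (k : Fin 2) (i : Fin 9) (r : Fin 3),
        ∀ b ∈ ((expTab.getD k.val []).getD i.val []).getD r.val [], b < 3 := by decide +kernel
    exact hlt k i ⟨r, hr⟩ b hb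
  have hle : kleinGroup F i.val ≤
      (kleinGroup F (pW [k.val] i).val).comap (MulAut.conj (gW F [k.val])).toMonoidHom := by
    rw [kleinGroup, Subgroup.closure_le]
    rintro _ ⟨r, hr, rfl⟩
    exact hgen r hr
  exact hle hx

theorem conj_word (w : List (Fin 2)) (i : Fin 9) {x : GL chevG2.Idx F}
    (hx : x ∈ kleinGroup F i.val) :
    gW F (w.map Fin.val) * x * (gW F (w.map Fin.val))⁻¹ ∈
      kleinGroup F (pW (w.map Fin.val) i).val := by
  induction w with
  | nil => simpa [gW_nil, pW] using hx
  | cons k w ih =>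
    have h := conj_letter (F := F) k (pW (w.map Fin.val) i) ih
    rw [List.map_cons, gW_cons, show pW (k.val :: w.map Fin.val) = pW [k.val] * pW (w.map Fin.val) from
      pW_append [k.val] _, Equiv.Perm.mul_apply]
    refine (congrArg (· ∈ _) ?_).mp h
    group

variable (F) in
/-- The group generated by two letters. -/
noncomputable def two : Subgroup (GL chevG2.Idx F) := Subgroup.closure {gW F [0], gW F [1]}

theorem exists_word [Finite F] {x : GL chevG2.Idx F} (hx : x ∈ two F) :
    ∃ w : List (Fin 2), x = gW F (w.map Fin.val) := by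
  have hm : x ∈ Submonoid.closure ({gW F [0], gW F [1]} : Set (GL chevG2.Idx F)) := by
    rw [← Subgroup.closure_toSubmonoid_of_finite]
    exact hx
  clear hx
  induction hm using Submonoid.closure_induction with
  | mem y hy =>
    rcases hy with rfl | rfl
    · exact ⟨[0], rfl⟩
    · exact ⟨[1], rfl⟩
  | one => exact ⟨[], rfl⟩
  | mul y z _ _ ihy ihz =>
    obtain ⟨v, rfl⟩ := ihy
    obtain ⟨w, rfl⟩ := ihz
    exact ⟨v ++ w, by rw [List.map_append, gW_append]⟩

theorem klein_ne [Finite F] {i j : Fin 9} (hij : i ≠ j) :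
    kleinGroup F i.val ≠ kleinGroup F j.val := by
  intro he
  have hw : ∃ w : List (Fin 2), pW (w.map Fin.val) 0 = i ∧ pW (w.map Fin.val) 1 = j := by
    have hlet : ∀ k : Fin 4, ∃ v : List (Fin 2), pW [k.val] = pW (v.map Fin.val) := by
      have e2 : pW [2] = pW ([0, 0, 0, 0, 0, 0, 0, 0] : List ℕ) := by decide +kernel
      have e3 : pW [3] = pW ([1, 1, 1, 1, 1, 1, 1, 1] : List ℕ) := by decide +kernel
      intro k
      fin_cases k
      · exact ⟨[0], rfl⟩
      · exact ⟨[1], rfl⟩
      · exact ⟨[0, 0, 0, 0, 0, 0, 0, 0], e2⟩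
      · exact ⟨[1, 1, 1, 1, 1, 1, 1, 1], e3⟩
    obtain ⟨h0, h1⟩ := pairTab_ok i j hij
    have hl := flatten_lt ⟨9 * i.val + j.val, by omega⟩
    replace hl : ∀ k ∈ pairTab.getD (9 * i.val + j.val) [], k < 4 := hl
    generalize pairTab.getD (9 * i.val + j.val) [] = l at h0 h1 hl ⊢
    suffices ∃ v : List (Fin 2), pW l = pW (v.map Fin.val) by
      obtain ⟨v, hv⟩ := this
      exact ⟨v, by rw [← hv, h0], by rw [← hv, h1]⟩
    clear h0 h1
    induction l with
    | nil => exact ⟨[], rfl⟩
    | cons k l ih =>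
      obtain ⟨v, hv⟩ := ih fun x hx => hl x (List.mem_cons_of_mem _ hx)
      obtain ⟨u, hu⟩ := hlet ⟨k, hl k List.mem_cons_self⟩
      exact ⟨u ++ v, by rw [List.map_append, pW_append, ← hu, ← hv, ← pW_append]; rfl⟩
  obtain ⟨w, w0, w1⟩ := hw
  have hc := checkPair_ok
  rw [checkPair, Bool.and_eq_true, Bool.and_eq_true, Bool.not_eq_true'] at hc
  have hlt : nonCommPair.getD 0 0 < 3 ∧ nonCommPair.getD 1 0 < 3 := by decide +kernel
  have hx := conj_word (F := F) w 0 (Subgroup.subset_closure ⟨_, hlt.1, rfl⟩)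
  have hy := conj_word (F := F) w 1 (Subgroup.subset_closure ⟨_, hlt.2, rfl⟩)
  rw [w0] at hx
  rw [w1, ← he] at hy
  have hcomm := klein_comm i hx hy
  set g := gW F (w.map Fin.val)
  have e : gW F (klein 0 (nonCommPair.getD 0 0) ++ klein 1 (nonCommPair.getD 1 0)) =
      gW F (klein 1 (nonCommPair.getD 1 0) ++ klein 0 (nonCommPair.getD 0 0)) := by
    rw [gW_append, gW_append]
    refine (MulAut.conj g).injective ?_
    rw [map_mul, map_mul]
    exact hcomm
  refine Bool.false_ne_true (hc.2.2.symm.trans (eqW_of_eq (F := F) ?_ ?_ ?_ e))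
  · decide +kernel
  · decide +kernel
  · decide +kernel

theorem exists_hom [Finite F] : ∃ φ : two F →* Equiv.Perm (Fin 9),
    (∀ (h : gW F [0] ∈ two F), φ ⟨_, h⟩ = pW [0]) ∧ (∀ (h : gW F [1] ∈ two F), φ ⟨_, h⟩ = pW [1]) := by
  classical
  choose W hW using fun x : two F => exists_word x.2
  have hone : ∀ u : List (Fin 2), gW F (u.map Fin.val) = 1 → pW (u.map Fin.val) = 1 := by
    intro u hu
    set π := pW (u.map Fin.val)
    have hle : ∀ i : Fin 9, kleinGroup F i.val ≤ kleinGroup F (π i).val := fun i x hx => by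
      simpa [hu] using conj_word u i hx
    have hiter : ∀ (n : ℕ) (i : Fin 9), kleinGroup F i.val ≤ kleinGroup F ((π ^ n) i).val := by
      intro n
      induction n with
      | zero => intro i; rw [pow_zero, Equiv.Perm.one_apply]
      | succ n ih => intro i; rw [pow_succ', Equiv.Perm.mul_apply]; exact (ih i).trans (hle _)
    refine Equiv.ext fun i => by_contra fun hne => klein_ne (F := F) (Ne.symm hne) (le_antisymm (hle i) ?_)
    have h := hiter (orderOf π - 1) (π i)
    rwa [← Equiv.Perm.mul_apply, ← pow_succ,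
      Nat.sub_add_cancel (orderOf_pos π), pow_orderOf_eq_one, Equiv.Perm.one_apply] at h
  have huniq : ∀ (v w : List (Fin 2)), gW F (v.map Fin.val) = gW F (w.map Fin.val) →
      pW (v.map Fin.val) = pW (w.map Fin.val) := by
    intro v w h
    obtain ⟨z, hz⟩ : ∃ z : List (Fin 2), (gW F (v.map Fin.val))⁻¹ = gW F (z.map Fin.val) := by
      refine exists_word (Subgroup.inv_mem _ ?_)
      clear h hone
      induction v with
      | nil => exact (two F).one_mem
      | cons k v ih =>
        rw [List.map_cons, gW_cons]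
        refine (two F).mul_mem ?_ ih
        fin_cases k
        · exact Subgroup.subset_closure (by simp)
        · exact Subgroup.subset_closure (by simp)
    have e1 := hone (z ++ v) (by rw [List.map_append, gW_append, ← hz, inv_mul_cancel])
    have e2 := hone (z ++ w) (by rw [List.map_append, gW_append, ← hz, ← h, inv_mul_cancel])
    rw [List.map_append, pW_append] at e1 e2
    exact mul_left_cancel (e1.trans e2.symm)
  refine ⟨MonoidHom.mk' (fun x => pW ((W x).map Fin.val)) fun x y => ?_, fun h => ?_, fun h => ?_⟩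
  · rw [← pW_append, ← List.map_append]
    exact huniq _ _ (by rw [List.map_append, gW_append, ← hW, ← hW, ← hW, Subgroup.coe_mul])
  · exact huniq _ [0] ((hW ⟨_, h⟩).symm.trans rfl)
  · exact huniq _ [1] ((hW ⟨_, h⟩).symm.trans rfl)

end Action

theorem twistedG2_eq_two : twistedG2 (ZMod 3) 1 = two (ZMod 3) := by
  have hlet : ∀ l : List ℕ, (∀ k ∈ l, k < 4) → gW (ZMod 3) l ∈ two (ZMod 3) := by
    intro l
    induction l with
    | nil => exact fun _ => (two _).one_mem
    | cons k l ih =>
      intro h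
      rw [gW_cons]
      refine (two _).mul_mem ?_ (ih fun x hx => h x (List.mem_cons_of_mem _ hx))
      have hk := h k List.mem_cons_self
      have a0 : gW (ZMod 3) [0] ∈ two (ZMod 3) := Subgroup.subset_closure (by simp)
      have a1 : gW (ZMod 3) [1] ∈ two (ZMod 3) := Subgroup.subset_closure (by simp)
      interval_cases k
      · exact a0
      · exact a1
      · rw [show gW (ZMod 3) [2] = (gW (ZMod 3) [0])⁻¹ from
          (inv_eq_of_mul_eq_one_right (gW_opp 0 (by norm_num))).symm]
        exact (two _).inv_mem a0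
      · rw [show gW (ZMod 3) [3] = (gW (ZMod 3) [1])⁻¹ from
          (inv_eq_of_mul_eq_one_right (gW_opp 1 (by norm_num))).symm]
        exact (two _).inv_mem a1
  have hlt : ∀ n : Fin 27, (∀ k ∈ uTab.getD n.val [], k < 4) ∧ ∀ k ∈ vTab.getD n.val [], k < 4 := by
    decide +kernel
  have hneg : ∀ n : Fin 27, chevG2.negWord (reeWordU 1 ((n.val / 9 : ℕ) : ZMod 3)
      ((n.val / 3 % 3 : ℕ) : ZMod 3) ((n.val % 3 : ℕ) : ZMod 3)) =
      (vWord (n.val / 9 : ℕ) (n.val / 3 % 3 : ℕ) (n.val % 3 : ℕ)).map fun a => (a.1, (a.2 : ZMod 3)) := by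
    decide +kernel
  have hpos : ∀ n : Fin 27, reeWordU 1 ((n.val / 9 : ℕ) : ZMod 3)
      ((n.val / 3 % 3 : ℕ) : ZMod 3) ((n.val % 3 : ℕ) : ZMod 3) =
      (uWord (n.val / 9 : ℕ) (n.val / 3 % 3 : ℕ) (n.val % 3 : ℕ)).map fun a => (a.1, (a.2 : ZMod 3)) := by
    decide +kernel
  have hn : ∀ t u v : ZMod 3, ∃ n : Fin 27, t = ((n.val / 9 : ℕ) : ZMod 3) ∧
      u = ((n.val / 3 % 3 : ℕ) : ZMod 3) ∧ v = ((n.val % 3 : ℕ) : ZMod 3) := by
    decide +kernel
  have hchk := fun n : Fin 27 => Bool.and_eq_true_iff.mp (allR_upto checkGen_ok n.isLt)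
  rw [CfsgLib.Chev.twistedG2_eq]
  refine le_antisymm ?_ ?_
  · rw [Subgroup.closure_le]
    rintro _ ⟨w, ⟨t, u, v, hw⟩, rfl⟩
    obtain ⟨n, rfl, rfl, rfl⟩ := hn t u v
    rcases hw with rfl | rfl
    · rw [hpos, List.map_map]
      have h := root_eq (F := ZMod 3) (hchk n).1
      exact SetLike.mem_coe.mpr (h.symm ▸ hlet _ (hlt n).1)
    · rw [show reeWordV 1 ((n.val / 9 : ℕ) : ZMod 3) ((n.val / 3 % 3 : ℕ) : ZMod 3)
          ((n.val % 3 : ℕ) : ZMod 3) = _ from hneg n, List.map_map]
      have h := root_eq (F := ZMod 3) (hchk n).2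
      exact SetLike.mem_coe.mpr (h.symm ▸ hlet _ (hlt n).2)
  · rw [two, Subgroup.closure_le]
    rintro x (rfl | rfl)
    · refine Subgroup.subset_closure ⟨reeWordU 1 1 0 0, ⟨1, 0, 0, Or.inl rfl⟩, ?_⟩
      have h : expand [0] = uWord 1 0 0 := rfl
      rw [gW, h, show reeWordU 1 (1 : ZMod 3) 0 0 =
        (uWord 1 0 0).map fun a => (a.1, (a.2 : ZMod 3)) from by decide +kernel, List.map_map]
      rfl
    · refine Subgroup.subset_closure ⟨reeWordV 1 1 0 0, ⟨1, 0, 0, Or.inr rfl⟩, ?_⟩
      have h : expand [1] = vWord 1 0 0 := rfl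
      rw [gW, h, show reeWordV 1 (1 : ZMod 3) 0 0 =
        (vWord 1 0 0).map fun a => (a.1, (a.2 : ZMod 3)) from by decide +kernel, List.map_map]
      rfl

/-- The derived group of `²G₂(3)`. -/
theorem derived {L : Type*} [Field L] [Fintype L] (hL : Fintype.card L = 8) :
    Nat.card ↥(commutator ↥(twistedG2 (ZMod 3) 1)) = 504 ∧
      Nonempty (↥(commutator ↥(twistedG2 (ZMod 3) 1)) ≃* Matrix.ProjectiveSpecialLinearGroup (Fin 2) L) := by
  classical
  rw [twistedG2_eq_two]
  obtain ⟨φ, hφ0, hφ1⟩ := exists_hom (F := ZMod 3)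
  have hcard : Nat.card (two (ZMod 3)) = 1512 := by
    rw [← twistedG2_eq_two]
    have h := Cfsg.Agent.S1069.result (K := ZMod 3) (m := 0) (by simp)
    simpa using h
  have hr0 : pW [0] ∈ φ.range := ⟨⟨_, Subgroup.subset_closure (by simp)⟩, hφ0 _⟩
  have hr1 : pW [1] ∈ φ.range := ⟨⟨_, Subgroup.subset_closure (by simp)⟩, hφ1 _⟩
  have hder : derGroup = Subgroup.closure {⁅pW [0], pW [1]⁆, ⁅pW [0], pW [3]⁆} := by
    have e : pW (der 0) = ⁅pW [0], pW [1]⁆ ∧ pW (der 1) = ⁅pW [0], pW [3]⁆ := by
      have i0 : pW (invWord [0]) = (pW [0])⁻¹ := by decide +kernel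
      have i1 : pW (invWord [1]) = (pW [1])⁻¹ := by decide +kernel
      have i3 : pW (invWord [3]) = (pW [3])⁻¹ := by decide +kernel
      refine ⟨?_, ?_⟩
      · rw [der, der_comm, List.getD_cons_zero, pW_append, pW_append, pW_append, i0, i1,
          commutatorElement_def]
      · rw [der, der_comm, List.getD_cons_succ, List.getD_cons_zero, pW_append, pW_append, pW_append,
          i0, i3, commutatorElement_def]
    rw [derGroup, e.1, e.2]
  have hr3 : pW [3] ∈ φ.range := by
    rw [show pW [3] = (pW [1])⁻¹ by decide +kernel]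
    exact φ.range.inv_mem hr1
  have hle : derGroup ≤ (commutator φ.range).map φ.range.subtype := by
    rw [hder, Subgroup.closure_le, commutator_def]
    rintro _ (rfl | rfl)
    · exact ⟨⁅⟨_, hr0⟩, ⟨_, hr1⟩⁆, Subgroup.commutator_mem_commutator (Subgroup.mem_top _)
        (Subgroup.mem_top _), rfl⟩
    · exact ⟨⁅⟨_, hr0⟩, ⟨_, hr3⟩⁆, Subgroup.commutator_mem_commutator (Subgroup.mem_top _)
        (Subgroup.mem_top _), rfl⟩
  have hler : derGroup ≤ φ.range := hle.trans (Subgroup.map_subtype_le _)
  have hnot : pW [0] ∉ derGroup := fun h => by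
    have := List.contains_iff_mem.mpr (code_mem h)
    rw [der_facts.2.2.2.1] at this
    exact Bool.false_ne_true this
  have hrange : Nat.card φ.range = 1512 := by
    have h1 : Nat.card φ.range ∣ 1512 := hcard ▸ Subgroup.card_range_dvd φ
    have h2 := Subgroup.card_dvd_of_le hler
    rw [card_derGroup] at h2
    obtain ⟨c, hc⟩ := h2
    have hc1 : c ≠ 1 := fun e => by
      rw [e, mul_one, ← card_derGroup] at hc
      exact hnot ((Subgroup.eq_of_le_of_card_ge hler hc.le).symm ▸ hr0)
    rw [hc] at h1 ⊢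
    have h3 : c ∣ 3 := Nat.dvd_of_mul_dvd_mul_left (by norm_num : 0 < 504) h1
    rcases (Nat.dvd_prime Nat.prime_three).mp h3 with h | h
    · exact absurd h hc1
    · rw [h]
  have hinj : Function.Injective φ := by
    rw [← MonoidHom.ker_eq_bot_iff, ← Subgroup.card_eq_one]
    have h := φ.ker.card_mul_index
    rw [Subgroup.index_ker, hrange, hcard] at h
    omega
  have hgen : Subgroup.closure ({pW [0], pW [1]} : Set (Equiv.Perm (Fin 9))) = φ.range := by
    refine le_antisymm ((Subgroup.closure_le _).mpr ?_) ?_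
    · rintro _ (rfl | rfl) <;> assumption
    · rintro _ ⟨⟨x, hx⟩, rfl⟩
      induction hx using Subgroup.closure_induction with
      | mem y hy =>
        rcases hy with rfl | rfl
        · have h := hφ0 (Subgroup.subset_closure (by simp))
          exact SetLike.mem_coe.mp (h.symm ▸ Subgroup.subset_closure (by simp))
        · have h := hφ1 (Subgroup.subset_closure (by simp))
          exact SetLike.mem_coe.mp (h.symm ▸ Subgroup.subset_closure (by simp))
      | one =>
        show φ 1 ∈ _
        rw [map_one]; exact Subgroup.one_mem _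
      | mul y z hy hz ihy ihz =>
        rw [show (⟨y * z, _⟩ : two (ZMod 3)) = ⟨y, hy⟩ * ⟨z, hz⟩ from rfl, map_mul]
        exact Subgroup.mul_mem _ ihy ihz
      | inv y hy ih =>
        rw [show (⟨y⁻¹, _⟩ : two (ZMod 3)) = (⟨y, hy⟩ : two (ZMod 3))⁻¹ from rfl, map_inv]
        exact Subgroup.inv_mem _ ih
  have hnorm : φ.range ≤ Subgroup.normalizer (derGroup : Set (Equiv.Perm (Fin 9))) := by
    rw [← hgen, Subgroup.closure_le]
    have hk : ∀ k : Fin 4, ∀ x ∈ derGroup, pW [k.val] * x * (pW [k.val])⁻¹ ∈ derGroup := by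
      intro k
      have hinv : (pW [k.val])⁻¹ = pW [opp k.val] := by revert k; decide +kernel
      suffices h : derGroup ≤ derGroup.comap (MulAut.conj (pW [k.val])).toMonoidHom from fun x hx => h hx
      rw [derGroup, Subgroup.closure_le]
      have key : ∀ j : Fin 2, pW [k.val] * pW (der j.val) * (pW [k.val])⁻¹ ∈ derGroup := by
        intro j
        rw [hinv, ← pW_append, ← pW_append]
        have h := List.contains_iff_mem.mp (der_facts.2.2.2.2 k j)
        have himg : derGroup.carrier.toFinset.image code = derTab.toFinset := by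
          refine Finset.eq_of_subset_of_card_le (fun c hc => ?_) ?_
          · obtain ⟨π, hπ, rfl⟩ := Finset.mem_image.mp hc
            exact List.mem_toFinset.mpr (code_mem (Set.mem_toFinset.mp hπ))
          · rw [Finset.card_image_of_injective _ code_injective, Set.toFinset_card,
              ← Nat.card_eq_fintype_card]
            exact (derTab.toFinset_card_le.trans der_facts.1.le).trans card_derGroup.ge
        obtain ⟨π, hπ, e⟩ := Finset.mem_image.mp (himg.symm ▸ List.mem_toFinset.mpr h)
        exact code_injective e ▸ Set.mem_toFinset.mp hπ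
      rintro _ (rfl | rfl)
      · exact key 0
      · exact key 1
    rintro _ (rfl | rfl) <;> rw [SetLike.mem_coe, Subgroup.mem_normalizer_iff] <;> intro x
    · refine ⟨fun h => hk 0 x h, fun h => ?_⟩
      have h' := hk 2 _ h
      rwa [show pW [((2 : Fin 4) : ℕ)] = (pW [0])⁻¹ by decide +kernel, inv_inv,
        show (pW [0])⁻¹ * (pW [0] * x * (pW [0])⁻¹) * pW [0] = x by group] at h'
    · refine ⟨fun h => hk 1 x h, fun h => ?_⟩
      have h' := hk 3 _ h
      rwa [show pW [((3 : Fin 4) : ℕ)] = (pW [1])⁻¹ by decide +kernel, inv_inv,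
        show (pW [1])⁻¹ * (pW [1] * x * (pW [1])⁻¹) * pW [1] = x by group] at h'
  haveI : (derGroup.subgroupOf φ.range).Normal := (Subgroup.normal_subgroupOf_iff_le_normalizer hler).mpr hnorm
  have hidx : (derGroup.subgroupOf φ.range).index = 3 := by
    have h := (derGroup.subgroupOf φ.range).card_mul_index
    rw [Nat.card_congr (Subgroup.subgroupOfEquivOfLe hler).toEquiv, card_derGroup, hrange] at h
    omega
  haveI : IsCyclic (φ.range ⧸ derGroup.subgroupOf φ.range) :=
    isCyclic_of_prime_card (p := 3) (by rw [← Subgroup.index_eq_card, hidx])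
  have hge : commutator φ.range ≤ derGroup.subgroupOf φ.range :=
    Subgroup.Normal.quotient_commutative_iff_commutator_le.mp
      ⟨⟨fun a b => CfsgLib.Solvable.comm_of_isCyclic a b⟩⟩
  let e₀ : two (ZMod 3) ≃* φ.range := MonoidHom.ofInjective hinj
  have e₁ : ↥(commutator (two (ZMod 3))) ≃* ↥(commutator φ.range) :=
    ((commutator (two (ZMod 3))).equivMapOfInjective e₀.toMonoidHom e₀.injective).trans
      (MulEquiv.subgroupCongr (by
        rw [commutator_def, commutator_def, Subgroup.map_commutator,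
          Subgroup.map_top_of_surjective e₀.toMonoidHom e₀.surjective]))
  have e₂ : ↥(commutator φ.range) ≃* derGroup :=
    ((commutator φ.range).equivMapOfInjective φ.range.subtype φ.range.subtype_injective).trans
      (MulEquiv.subgroupCongr (le_antisymm (by
        rintro _ ⟨x, hx, rfl⟩
        exact hge hx) hle))
  obtain ⟨e₃⟩ := derGroup_psl hL
  exact ⟨by rw [Nat.card_congr (e₁.trans e₂).toEquiv, card_derGroup], ⟨(e₁.trans e₂).trans e₃⟩⟩

end ReeNine

end CfsgLib.Chev
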