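import Mathlib

/-!
Central extensions of a group of order eight with an automorphism of order seven are abelian.
-/

set_option autoImplicit false
set_option linter.unusedSectionVars false

namespace CfsgLib.Chev

variable {G : Type*} [Group G]

/-- An element of order seven acting non-trivially on a group of order eight has two orbits. -/
theorem seven_orbit [Finite G] {P : Subgroup G} (hP : Nat.card ↥P = 8) {s : G} (hs : orderOf s = 7)
    (hsN : s ∈ Subgroup.normalizer (P : Set G)) (hsC : s ∉ Subgroup.centralizer (P : Set G)) :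
    (∀ x ∈ P, x ≠ 1 → ¬ Commute s x) ∧
      ∀ x ∈ P, x ≠ 1 → ∀ y ∈ P, y ≠ 1 → ∃ i < 7, s ^ i * x * (s ^ i)⁻¹ = y := by
  classical
  have := Fintype.ofFinite G
  set U : Finset G := (P : Set G).toFinset.erase 1 with hU
  have hUc : U.card = 7 := by
    rw [hU, Finset.card_erase_of_mem (by simp [one_mem]), Set.toFinset_card, ← Nat.card_eq_fintype_card]
    show Nat.card ↥P - 1 = 7
    rw [hP]
  have hmem : ∀ x, x ∈ U ↔ x ≠ 1 ∧ x ∈ P := fun x => by simp [hU]
  have hN : ∀ (i : ℕ) x, x ∈ P → s ^ i * x * (s ^ i)⁻¹ ∈ P := fun i x hx =>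
    (Subgroup.mem_normalizer_iff.1 (pow_mem hsN i) x).1 hx
  have hgen : ∀ i j : ℕ, i < 7 → j < 7 → i ≠ j → ∀ x : G,
      s ^ i * x * (s ^ i)⁻¹ = s ^ j * x * (s ^ j)⁻¹ → Commute s x := by
    intro i j hi hj hij x h
    wlog hle : i < j generalizing i j
    · exact this j i hj hi hij.symm h.symm (by omega)
    obtain ⟨d, rfl⟩ := Nat.exists_eq_add_of_le hle.le
    have hc : Commute (s ^ d) x := by
      rw [pow_add, _root_.mul_inv_rev] at h
      have h' : x = s ^ d * x * (s ^ d)⁻¹ := by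
        calc x = (s ^ i)⁻¹ * (s ^ i * x * (s ^ i)⁻¹) * s ^ i := by group
          _ = (s ^ i)⁻¹ * (s ^ i * s ^ d * x * ((s ^ d)⁻¹ * (s ^ i)⁻¹)) * s ^ i := by rw [h]
          _ = _ := by group
      exact (eq_mul_inv_iff_mul_eq.1 h').symm
    have hco : Nat.Coprime d (orderOf s) := by
      rw [hs]
      exact ((Nat.Prime.coprime_iff_not_dvd (by norm_num)).2 fun h7 => by
        have := Nat.le_of_dvd (by omega) h7
        omega).symm
    obtain ⟨e, he⟩ := exists_pow_eq_self_of_coprime hco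
    rw [← he]
    exact hc.pow_left e
  have horb : ∀ x ∈ P, x ≠ 1 → ¬ Commute s x → ∀ y ∈ P, y ≠ 1 →
      ∃ i < 7, s ^ i * x * (s ^ i)⁻¹ = y := by
    intro x hx hx1 hnc y hy hy1
    have himg : (Finset.range 7).image (fun i => s ^ i * x * (s ^ i)⁻¹) = U := by
      refine Finset.eq_of_subset_of_card_le (fun z hz => ?_) ?_
      · obtain ⟨i, -, rfl⟩ := Finset.mem_image.1 hz
        exact (hmem _).2 ⟨fun h => hx1 (conj_eq_one_iff.1 h), hN i x hx⟩
      · rw [hUc, Finset.card_image_of_injOn, Finset.card_range]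
        intro i hi j hj h
        simp only [Finset.coe_range, Set.mem_Iio] at hi hj
        by_contra hne
        exact hnc (hgen i j hi hj hne x h)
    have hy' : y ∈ U := (hmem y).2 ⟨hy1, hy⟩
    rw [← himg, Finset.mem_image] at hy'
    obtain ⟨i, hi, he⟩ := hy'
    exact ⟨i, Finset.mem_range.1 hi, he⟩
  have hfree : ∀ x ∈ P, x ≠ 1 → ¬ Commute s x := by
    intro x hx hx1 hc
    refine hsC (Subgroup.mem_centralizer_iff.2 fun y hy => ?_)
    by_cases hy1 : y = 1
    · simp [hy1]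
    by_contra hne
    obtain ⟨i, -, hi⟩ := horb y hy hy1 (fun h => hne h.symm.eq) x hx hx1
    apply hne
    have hyx : y = x := by
      calc y = (s ^ i)⁻¹ * (s ^ i * y * (s ^ i)⁻¹) * s ^ i := by group
        _ = (s ^ i)⁻¹ * x * s ^ i := by rw [hi]
        _ = x := by rw [mul_assoc, ← (hc.pow_left i).eq, inv_mul_cancel_left]
    rw [hyx]
    exact hc.symm.eq
  exact ⟨hfree, fun x hx hx1 y hy hy1 => horb x hx hx1 (hfree x hx hx1) y hy hy1⟩

open scoped commutatorElement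

/-- Preimages of a group of order eight with an element of order seven acting are abelian in a
central extension. -/
theorem lift_abelian_of_seven [Finite G] {Γ : Type*} [Group Γ] {σ : Γ →* G}
    (hσ : Function.Surjective σ) (hZ : σ.ker ≤ Subgroup.center Γ) {P : Subgroup G}
    (hP : Nat.card ↥P = 8) (hexp : ∀ x ∈ P, x * x = 1) {s : G} (hs : orderOf s = 7)
    (hsN : s ∈ Subgroup.normalizer (P : Set G)) (hsC : s ∉ Subgroup.centralizer (P : Set G))
    {a b : Γ} (ha : σ a ∈ P) (hb : σ b ∈ P) : Commute a b := by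
  classical
  obtain ⟨hfree, horb⟩ := seven_orbit hP hs hsN hsC
  obtain ⟨x, hx, hx1⟩ : ∃ x ∈ P, x ≠ 1 := by
    refine P.bot_or_exists_ne_one.resolve_left fun h => ?_
    rw [h, Subgroup.card_bot] at hP
    omega
  obtain ⟨S, hS⟩ := hσ s
  obtain ⟨X, hX⟩ := hσ x
  have hcen : ∀ z, σ z = 1 → ∀ g : Γ, Commute z g := fun z hz g =>
    (Subgroup.mem_center_iff.1 (hZ hz) g).symm
  -- commutators only depend on the images
  have hdep : ∀ u u' v v' : Γ, σ u = σ u' → σ v = σ v' → ⁅u, v⁆ = ⁅u', v'⁆ := by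
    intro u u' v v' hu hv
    obtain ⟨z, hz, rfl⟩ : ∃ z, σ z = 1 ∧ u = u' * z := ⟨u'⁻¹ * u, by simp [hu], by group⟩
    obtain ⟨w, hw, rfl⟩ : ∃ w, σ w = 1 ∧ v = v' * w := ⟨v'⁻¹ * v, by simp [hv], by group⟩
    simp only [commutatorElement_def, _root_.mul_inv_rev]
    calc u' * z * (v' * w) * (z⁻¹ * u'⁻¹) * (w⁻¹ * v'⁻¹)
        = u' * (z * (v' * w) * z⁻¹) * u'⁻¹ * (w⁻¹ * v'⁻¹) := by simp only [mul_assoc]
      _ = u' * v' * (w * u'⁻¹ * w⁻¹) * v'⁻¹ := by
          rw [(hcen z hz (v' * w)).eq, mul_inv_cancel_right]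
          simp only [mul_assoc]
      _ = u' * v' * u'⁻¹ * v'⁻¹ := by rw [(hcen w hw u'⁻¹).eq, mul_inv_cancel_right]
  set A : ℕ → Γ := fun i => S ^ i * X * (S ^ i)⁻¹ with hA
  have hσA : ∀ i, σ (A i) = s ^ i * x * (s ^ i)⁻¹ := fun i => by simp [hA, hS, hX]
  have hPA : ∀ i, σ (A i) ∈ P := fun i => by
    rw [hσA]; exact (Subgroup.mem_normalizer_iff.1 (pow_mem hsN i) x).1 hx
  have hper : ∀ i, σ (A (i + 7)) = σ (A i) := fun i => by
    rw [hσA, hσA, pow_add, show s ^ 7 = 1 from orderOf_dvd_iff_pow_eq_one.1 (dvd_of_eq hs), mul_one]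
  -- images commute
  have hcomm : ∀ u v : Γ, σ u ∈ P → σ v ∈ P → σ ⁅u, v⁆ = 1 := by
    intro u v hu hv
    have h := hexp _ (mul_mem hu hv)
    rw [map_commutatorElement, commutatorElement_eq_one_iff_mul_comm]
    calc σ u * σ v = (σ u * σ v)⁻¹ := (inv_eq_of_mul_eq_one_right h).symm
      _ = σ v * σ u := by
        rw [_root_.mul_inv_rev, inv_eq_of_mul_eq_one_right (hexp _ hu),
          inv_eq_of_mul_eq_one_right (hexp _ hv)]
  set ψ : ℕ → Γ := fun d => ⁅X, A d⁆ with hψ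
  have hψz : ∀ d g, Commute (ψ d) g := fun d g => hcen _ (hcomm _ _ (by rw [hX]; exact hx) (hPA d)) g
  have hψ0 : ψ 0 = 1 := by simp [hψ, hA]
  have hψ7 : ∀ d, ψ (d + 7) = ψ d := fun d => hdep _ _ _ _ rfl (hper d)
  have hshift : ∀ i d, ⁅A i, A (i + d)⁆ = ψ d := by
    intro i d
    have e : ⁅A i, A (i + d)⁆ = S ^ i * ψ d * (S ^ i)⁻¹ := by
      simp only [hψ, hA, commutatorElement_def, pow_add]
      group
    rw [e, ← (hψz d (S ^ i)).eq, mul_inv_cancel_right]
  have hmulr : ∀ u v w : Γ, σ u ∈ P → σ w ∈ P → ⁅u, v * w⁆ = ⁅u, v⁆ * ⁅u, w⁆ := by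
    intro u v w hu hw
    have hc := hcen _ (hcomm u w hu hw) v
    calc ⁅u, v * w⁆ = ⁅u, v⁆ * (v * ⁅u, w⁆ * v⁻¹) := by simp only [commutatorElement_def]; group
      _ = _ := by rw [← hc.eq, mul_inv_cancel_right]
  have hXP : σ X ∈ P := hX ▸ hx
  have hsq : ∀ d, ψ d * ψ d = 1 := by
    intro d
    show ⁅X, A d⁆ * ⁅X, A d⁆ = 1
    rw [← hmulr _ _ _ hXP (hPA d), hdep X X (A d * A d) 1 rfl (by rw [map_mul, hexp _ (hPA d), map_one]),
      commutatorElement_one_right]
  have hsym : ∀ d ≤ 7, ψ (7 - d) = ψ d := by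
    intro d hd
    have h1 : ⁅A d, A (d + (7 - d))⁆ = ψ (7 - d) := hshift d (7 - d)
    rw [show d + (7 - d) = 0 + 7 by omega, hdep _ (A d) _ (A 0) rfl (hper 0)] at h1
    rw [← h1, ← commutatorElement_inv, show A 0 = X by simp [hA]]
    exact inv_eq_of_mul_eq_one_right (hsq d)
  -- the relation
  obtain ⟨k, hk7, hk⟩ : ∃ k < 7, s ^ k * x * (s ^ k)⁻¹ = x * (s * x * s⁻¹) := by
    have hsx : s * x * s⁻¹ ∈ P := (Subgroup.mem_normalizer_iff.1 hsN x).1 hx
    refine horb x hx hx1 _ (mul_mem hx hsx) fun h => hfree x hx hx1 ?_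
    have e : s * x * s⁻¹ = x :=
      (eq_inv_of_mul_eq_one_right h).trans (inv_eq_of_mul_eq_one_right (hexp x hx))
    exact mul_inv_eq_iff_eq_mul.1 e
  have hrel : ∀ i, ψ (i + k) = ψ i * ψ (i + 1) := by
    intro i
    show ⁅X, A (i + k)⁆ = ⁅X, A i⁆ * ⁅X, A (i + 1)⁆
    rw [← hmulr _ _ _ hXP (hPA _)]
    refine hdep _ _ _ _ rfl ?_
    rw [hσA, map_mul, hσA, hσA, pow_add, pow_add, pow_one,
      show s ^ i * s ^ k * x * (s ^ i * s ^ k)⁻¹ = s ^ i * (s ^ k * x * (s ^ k)⁻¹) * (s ^ i)⁻¹ by group, hk]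
    group
  have hall : ∀ d < 7, ψ d = 1 := by
    have s4 := hsym 3 (by norm_num)
    have s5 := hsym 2 (by norm_num)
    have s6 := hsym 1 (by norm_num)
    have e0 := hrel 0
    have e1 := hrel 1
    have e2 := hrel 2
    have e3 := hrel 3
    have p0 := hψ7 0
    have p1 := hψ7 1
    have p2 := hψ7 2
    have cancel : ∀ u v : Γ, u = u * v → v = 1 := fun u v h => mul_eq_left.1 h.symm
    have q1 := hsq 1
    suffices h : ψ 1 = 1 ∧ ψ 2 = 1 ∧ ψ 3 = 1 by
      intro d hd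
      interval_cases d
      · exact hψ0
      · exact h.1
      · exact h.2.1
      · exact h.2.2
      · exact s4.trans h.2.2
      · exact s5.trans h.2.1
      · exact s6.trans h.1
    simp only [Nat.reduceSub, Nat.reduceAdd, zero_add] at s4 s5 s6 e0 e1 e2 e3 p0 p1 p2
    interval_cases k <;> simp only [Nat.reduceAdd, zero_add] at e0 e1 e2 e3
    · rw [hψ0, one_mul] at e0
      exact ⟨e0.symm, cancel _ _ e1, cancel _ _ e2⟩
    · have a : ψ 1 = 1 := mul_eq_right.1 e1.symm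
      have b : ψ 2 = 1 := mul_eq_right.1 e2.symm
      exact ⟨a, b, mul_eq_right.1 e3.symm⟩
    · rw [hψ0, one_mul] at e0
      rw [e0, q1] at e1
      rw [s4, e1, mul_one] at e2
      exact ⟨e0.symm.trans e2.symm, e2.symm, e1⟩
    · rw [hψ0, one_mul] at e0
      rw [s4, e0] at e1
      have b := cancel _ _ e1
      rw [s5] at e2
      have c := cancel _ _ e2
      exact ⟨e0.symm.trans c, b, c⟩
    · rw [hψ0, one_mul, s4] at e0
      rw [s5] at e1
      have a : ψ 1 = 1 := mul_eq_right.1 e1.symm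
      rw [s6, e0, a, mul_one] at e2
      exact ⟨a, e2.symm, e0.trans a⟩
    · rw [hψ0, one_mul, s5] at e0
      rw [s6] at e1
      have b := cancel _ _ e1
      rw [p0, hψ0, b, one_mul] at e2
      exact ⟨e0.symm.trans b, b, e2.symm⟩
    · rw [p0, hψ0] at e1
      have hb : ψ 2 = ψ 1 := (eq_inv_of_mul_eq_one_right e1.symm).trans (inv_eq_of_mul_eq_one_right q1)
      rw [p1, hb] at e2
      have c := cancel _ _ e2
      rw [p2, s4, c, mul_one] at e3
      exact ⟨hb.symm.trans e3, e3, c⟩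
  have hgen : ∀ g : Γ, σ g ∈ P → ∃ z, σ z = 1 ∧ (g = z ∨ ∃ i < 7, g = z * A i) := by
    intro g hg
    by_cases h1 : σ g = 1
    · exact ⟨g, h1, Or.inl rfl⟩
    obtain ⟨i, hi, he⟩ := horb x hx hx1 _ hg h1
    exact ⟨g * (A i)⁻¹, by rw [map_mul, map_inv, hσA, he, mul_inv_cancel], Or.inr ⟨i, hi, by group⟩⟩
  have hAA : ∀ i < 7, ∀ j < 7, ⁅A i, A j⁆ = 1 := by
    intro i hi j hj
    rcases le_or_gt i j with hle | hlt
    · obtain ⟨d, rfl⟩ := Nat.exists_eq_add_of_le hle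
      rw [hshift i d, hall d (by omega)]
    · obtain ⟨d, rfl⟩ := Nat.exists_eq_add_of_le hlt.le
      rw [← commutatorElement_inv, hshift j d, hall d (by omega), inv_one]
  obtain ⟨za, hza, ha'⟩ := hgen a ha
  obtain ⟨zb, hzb, hb'⟩ := hgen b hb
  rcases ha' with rfl | ⟨i, hi, rfl⟩
  · exact hcen _ hza _
  rcases hb' with rfl | ⟨j, hj, rfl⟩
  · exact (hcen _ hzb _).symm
  · exact ((hcen _ hza _).mul_left ((hcen _ hzb _).symm.mul_right
      (commutatorElement_eq_one_iff_mul_comm.1 (hAA i hi j hj))))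

end CfsgLib.Chev
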