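import Mathlib
import Cfsg.Agent.Lib.Chev.ReeLayers
import Cfsg.Agent.Lib.Chev.SevenLift
import Cfsg.Agent.Lib.Chev.ReeSylowTwo
import Cfsg.Agent.Lib.Chev.ReeSylowCyclic
import Cfsg.Agent.Lib.Chev.ReeSinger
import Cfsg.Agent.Lib.KnownA.Stem

/-!
The Schur multiplier of ²G₂(q), q ≥ 27, is trivial.
-/

set_option autoImplicit false
set_option maxHeartbeats 1600000
set_option maxRecDepth 100000
set_option linter.unusedSectionVars false

namespace CfsgLib.Chev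

open Cfsg.Lie
open scoped commutatorElement

section Pairings

variable {F : Type*} [Field F] {Q : Type*} [Group Q]

/-- An additive map into a group takes equal values only on a coset of its kernel. -/
theorem addMap_sub {φ : F → Q} (h : ∀ a b, φ (a + b) = φ a * φ b) {p r : F} (e : φ p = φ r) :
    φ (p - r) = 1 := by
  have := h (p - r) r
  rw [sub_add_cancel, e, right_eq_mul] at this
  exact this

/-- An invariant biadditive pairing of the field with itself in characteristic three. -/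
theorem pairing_self_three (h3 : (3 : F) = 0) {x : F} (hx0 : x ≠ 0) (hx1 : x ≠ 1) (hx2 : x + 1 ≠ 0)
    (γ : F → F → Q) (hl : ∀ a a' b, γ (a + a') b = γ a b * γ a' b)
    (hr : ∀ a b b', γ a (b + b') = γ a b * γ a b')
    (hinv : ∀ l a b, l ≠ 0 → γ (l * a) (l * b) = γ a b) (a b : F) : γ a b = 1 := by
  have hdiv : ∀ a b, a ≠ 0 → γ a b = γ 1 (b / a) := fun a b ha => by
    conv_lhs => rw [show γ a b = γ (a * 1) (a * (b / a)) by rw [mul_one, mul_div_cancel₀ _ ha]]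
    exact hinv a 1 _ ha
  have hD : (x + 1)⁻¹ - (x⁻¹ + 1) ≠ 0 := by
    intro e
    apply hx1
    field_simp at e
    have : (x - 1) * (x - 1) = 0 := by linear_combination (-1) * e - x * h3
    rcases mul_eq_zero.1 this with h | h <;> exact sub_eq_zero.1 h
  have hall : ∀ v, γ 1 v = 1 := by
    intro v
    have e : γ 1 (v / ((x + 1)⁻¹ - (x⁻¹ + 1)) * (x + 1)⁻¹) =
        γ 1 (v / ((x + 1)⁻¹ - (x⁻¹ + 1)) * (x⁻¹ + 1)) := by
      set w := v / ((x + 1)⁻¹ - (x⁻¹ + 1))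
      have h := hl x 1 w
      rw [hdiv (x + 1) _ hx2, hdiv x _ hx0, ← hr] at h
      rw [← div_eq_mul_inv, h, mul_add, mul_one, ← div_eq_mul_inv]
    have := addMap_sub (hr 1) e
    rwa [← mul_sub, div_mul_cancel₀ _ hD] at this
  rcases eq_or_ne a 0 with rfl | ha
  · have := hl 0 0 b
    rw [add_zero, right_eq_mul] at this
    exact this
  · rw [hdiv a b ha, hall]

open Polynomial in
/-- Small exponents prime to three are not additive. -/
theorem exists_not_additive [Fintype F] [CharP F 3] {c : ℕ} (hc : ¬ 3 ∣ c) (hc2 : 2 ≤ c)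
    (hcard : c + 2 < Fintype.card F) :
    ∃ x : F, x ≠ 0 ∧ x + 1 ≠ 0 ∧ (x + 1) ^ c ≠ x ^ c + 1 := by
  classical
  by_contra hall
  push Not at hall
  set p : F[X] := (X + C 1) ^ c - X ^ c - C 1 with hp
  have hp0 : p ≠ 0 := by
    intro e
    have h1 := congrArg (fun f : F[X] => f.coeff 1) e
    simp only [hp, coeff_sub, coeff_X_add_C_pow, coeff_X_pow, coeff_C, coeff_zero, one_pow, one_mul,
      Nat.choose_one_right] at h1
    rw [if_neg (by omega), if_neg one_ne_zero, sub_zero, sub_zero] at h1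
    exact hc ((CharP.cast_eq_zero_iff F 3 c).1 h1)
  have hdeg : p.natDegree ≤ c := by
    refine (natDegree_sub_le _ _).trans (max_le ((natDegree_sub_le _ _).trans (max_le ?_ ?_)) ?_)
    · rw [natDegree_pow, natDegree_X_add_C, mul_one]
    · rw [natDegree_X_pow]
    · rw [natDegree_C]; exact Nat.zero_le _
  have hsub : (Finset.univ.erase (0 : F)).erase (-1) ⊆ p.roots.toFinset := by
    intro x hx
    simp only [Finset.mem_erase, Finset.mem_univ, and_true] at hx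
    rw [Multiset.mem_toFinset, mem_roots hp0, IsRoot.def]
    simp only [hp, eval_sub, eval_pow, eval_add, eval_X, eval_C]
    rw [hall x hx.2 fun h => hx.1 (eq_neg_of_add_eq_zero_left h)]
    ring
  have h1 := (Finset.card_le_card hsub).trans ((Multiset.toFinset_card_le _).trans p.card_roots')
  have h2 := Finset.pred_card_le_card_erase (a := (-1 : F)) (s := Finset.univ.erase (0 : F))
  rw [Finset.card_erase_of_mem (Finset.mem_univ _), Finset.card_univ] at h2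
  omega

/-- A biadditive pairing invariant under a twisted action. -/
theorem pairing_twist [Fintype F] [CharP F 3] {c : ℕ} (hc : ¬ 3 ∣ c) (hc2 : 2 ≤ c)
    (hcard : c + 2 < Fintype.card F) (γ : F → F → Q)
    (hl : ∀ a a' b, γ (a + a') b = γ a b * γ a' b) (hr : ∀ a b b', γ a (b + b') = γ a b * γ a b')
    (hinv : ∀ t v, v ≠ 0 → γ t v = γ (t * v ^ c) 1) (t v : F) : γ t v = 1 := by
  obtain ⟨x, hx0, hx1, hx⟩ := exists_not_additive hc hc2 hcard (F := F)
  have hD : (x + 1) ^ c - (x ^ c + 1) ≠ 0 := sub_ne_zero.2 hx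
  have hall : ∀ w, γ w 1 = 1 := by
    intro w
    set t := w / ((x + 1) ^ c - (x ^ c + 1)) with ht
    have e : γ (t * (x + 1) ^ c) 1 = γ (t * (x ^ c + 1)) 1 := by
      rw [← hinv t _ hx1, hr, hinv t _ hx0, mul_add, mul_one, hl]
    have := addMap_sub (φ := fun a => γ a 1) (fun a b => hl a b 1) e
    rwa [← mul_sub, ht, div_mul_cancel₀ _ hD] at this
  rcases eq_or_ne v 0 with rfl | hv
  · have := hr t 0 0
    rw [add_zero, right_eq_mul] at this
    exact this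
  · rw [hinv t v hv, hall]

end Pairings

/-- Commutators of a central extension only depend on the images. -/
theorem commutator_dep {Γ G : Type*} [Group Γ] [Group G] {σ : Γ →* G}
    (hZ : σ.ker ≤ Subgroup.center Γ) {u u' v v' : Γ} (hu : σ u = σ u') (hv : σ v = σ v') :
    ⁅u, v⁆ = ⁅u', v'⁆ := by
  have hcen : ∀ z, σ z = 1 → ∀ g : Γ, Commute z g := fun z hz g =>
    (Subgroup.mem_center_iff.1 (hZ hz) g).symm
  obtain ⟨z, hz, rfl⟩ : ∃ z, σ z = 1 ∧ u = u' * z := ⟨u'⁻¹ * u, by simp [hu], by group⟩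
  obtain ⟨w, hw, rfl⟩ : ∃ w, σ w = 1 ∧ v = v' * w := ⟨v'⁻¹ * v, by simp [hv], by group⟩
  simp only [commutatorElement_def, _root_.mul_inv_rev]
  calc u' * z * (v' * w) * (z⁻¹ * u'⁻¹) * (w⁻¹ * v'⁻¹)
      = u' * (z * (v' * w) * z⁻¹) * u'⁻¹ * (w⁻¹ * v'⁻¹) := by simp only [mul_assoc]
    _ = u' * v' * (w * u'⁻¹ * w⁻¹) * v'⁻¹ := by
        rw [(hcen z hz (v' * w)).eq, mul_inv_cancel_right]
        simp only [mul_assoc]
    _ = u' * v' * u'⁻¹ * v'⁻¹ := by rw [(hcen w hw u'⁻¹).eq, mul_inv_cancel_right]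

namespace SetupG2

variable {K : Type*} [Field K] [Fintype K] {m : ℕ} (S : SetupG2 K m)
include S

/-- The second layer. -/
noncomputable def lowU : Subgroup ↥(twistedG2 K (3 ^ m)) where
  carrier := {g | ∃ u v, g = S.wU 0 u v}
  one_mem' := ⟨0, 0, S.wU_zero.symm⟩
  mul_mem' := by
    rintro _ _ ⟨u, v, rfl⟩ ⟨u', v', rfl⟩
    exact ⟨_, _, S.wU_low_mul u v u' v'⟩
  inv_mem' := by
    rintro _ ⟨u, v, rfl⟩
    refine ⟨-u, -v, inv_eq_of_mul_eq_one_right ?_⟩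
    rw [S.wU_low_mul, add_neg_cancel, add_neg_cancel, S.wU_zero]

/-- The third layer. -/
noncomputable def botU : Subgroup ↥(twistedG2 K (3 ^ m)) where
  carrier := {g | ∃ v, g = S.wU 0 0 v}
  one_mem' := ⟨0, S.wU_zero.symm⟩
  mul_mem' := by
    rintro _ _ ⟨v, rfl⟩ ⟨v', rfl⟩
    exact ⟨_, (S.wU_low_mul 0 v 0 v').trans (by rw [add_zero])⟩
  inv_mem' := by
    rintro _ ⟨v, rfl⟩
    refine ⟨-v, inv_eq_of_mul_eq_one_right ?_⟩
    rw [S.wU_low_mul, add_zero, add_neg_cancel, S.wU_zero]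

lemma wU_low_inv (u v : K) : (S.wU 0 u v)⁻¹ = S.wU 0 (-u) (-v) :=
  inv_eq_of_mul_eq_one_right (by rw [S.wU_low_mul, add_neg_cancel, add_neg_cancel, S.wU_zero])

lemma wU_low_cube (u v : K) : S.wU 0 u v ^ 3 = 1 := by
  rw [pow_three, S.wU_low_mul, S.wU_low_mul, ← S.wU_zero]
  congr 1
  · linear_combination u * S.three_zero
  · linear_combination v * S.three_zero

/-- The derived subgroup of the preimage of the unipotent subgroup misses the kernel. -/
theorem stem_three (hm : 1 ≤ m) {Γ : Type*} [Group Γ] {σ : Γ →* ↥(twistedG2 K (3 ^ m))}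
    (hσ : Function.Surjective σ) (hZ : σ.ker ≤ Subgroup.center Γ) {d : Γ} (hd : σ d = 1)
    (hdD : d ∈ ⁅S.pU.comap σ, S.pU.comap σ⁆) : d = 1 := by
  classical
  obtain ⟨hq27, hr9, -, -, hqodd, -⟩ := S.arith hm
  have := S.char
  have h3 : (3 : K) = 0 := S.three_zero
  -- an element of the field different from `0`, `1`, `-1`
  obtain ⟨x₀, hx00, hx01, hx02⟩ : ∃ x : K, x ≠ 0 ∧ x ≠ 1 ∧ x + 1 ≠ 0 := by
    have hlt : ({0, 1, -1} : Finset K).card < Fintype.card K :=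
      lt_of_le_of_lt Finset.card_le_three (by rw [S.card]; omega)
    obtain ⟨x, hx⟩ : ∃ x, x ∉ ({0, 1, -1} : Finset K) := by
      by_contra h
      push Not at h
      exact absurd (Finset.card_le_card (fun x _ => h x : Finset.univ ⊆ _)) (not_le.2 (by simpa using hlt))
    simp only [Finset.mem_insert, Finset.mem_singleton, not_or] at hx
    exact ⟨x, hx.1, hx.2.1, fun h => hx.2.2 (eq_neg_of_add_eq_zero_left h)⟩
  have hcen : ∀ z, σ z = 1 → ∀ g : Γ, Commute z g := fun z hz g =>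
    (Subgroup.mem_center_iff.1 (hZ hz) g).symm
  have hdep : ∀ {u u' v v' : Γ}, σ u = σ u' → σ v = σ v' → ⁅u, v⁆ = ⁅u', v'⁆ := fun hu hv =>
    commutator_dep hZ hu hv
  choose L hL using hσ
  -- conjugation by lifts of the torus
  have hconj : ∀ (b : Kˣ) (a : Γ) (t u v : K), σ a = S.wU t u v →
      σ (L (S.tauG b) * a * (L (S.tauG b))⁻¹) = S.wU (((b ^ S.tauExp 6 : Kˣ) : K) * t)
        (((b ^ S.tauExp 10 : Kˣ) : K) * u) (((b ^ S.tauExp 11 : Kˣ) : K) * v) := by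
    intro b a t u v ha
    rw [map_mul, map_mul, map_inv, hL, ha, S.tau_conj_wU]
  have hconjc : ∀ (g a c : Γ), g * ⁅a, c⁆ * g⁻¹ = ⁅g * a * g⁻¹, g * c * g⁻¹⁆ := fun g a c => by
    simp only [commutatorElement_def]; group
  have hsix : ∀ l : K, l ≠ 0 → ∃ b : Kˣ, ((b ^ S.tauExp 6 : Kˣ) : K) = l := fun l hl => by
    obtain ⟨b, hb⟩ := S.exists_exp_six (Units.mk0 l hl)
    exact ⟨b, by rw [hb, Units.val_mk0]⟩
  have e11 : ∀ b : Kˣ, b ^ S.tauExp 11 = b := fun b => by simp [tauExp]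
  have hm10 : (((-1 : Kˣ) ^ S.tauExp 10 : Kˣ) : K) = 1 := by
    have he : Even (S.tauExp 10) := by
      simp only [tauExp]
      norm_num
      exact Odd.mul (by decide : Odd (3 : ℤ)) (by decide : Odd (3 : ℤ)).pow
    rw [he.neg_one_zpow, Units.val_one]
  have hm11 : (((-1 : Kˣ) ^ S.tauExp 11 : Kˣ) : K) = -1 := by
    rw [e11, Units.val_neg, Units.val_one]
  -- commutator identities
  have hmull : ∀ a a' c : Γ, (σ ⁅a', c⁆ = 1) → ⁅a * a', c⁆ = ⁅a, c⁆ * ⁅a', c⁆ := by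
    intro a a' c h
    calc ⁅a * a', c⁆ = a * ⁅a', c⁆ * a⁻¹ * ⁅a, c⁆ := by simp only [commutatorElement_def]; group
      _ = _ := by rw [← (hcen _ h a).eq, mul_inv_cancel_right, (hcen _ h _).eq]
  have hmulr : ∀ a c c' : Γ, (σ ⁅a, c'⁆ = 1) → ⁅a, c * c'⁆ = ⁅a, c⁆ * ⁅a, c'⁆ := by
    intro a c c' h
    calc ⁅a, c * c'⁆ = ⁅a, c⁆ * (c * ⁅a, c'⁆ * c⁻¹) := by simp only [commutatorElement_def]; group
      _ = _ := by rw [← (hcen _ h c).eq, mul_inv_cancel_right]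
  have hlowc : ∀ {a c : Γ}, σ a ∈ S.lowU → σ c ∈ S.lowU → σ ⁅a, c⁆ = 1 := by
    rintro a c ⟨u, v, ha⟩ ⟨u', v', hc⟩
    rw [map_commutatorElement, commutatorElement_eq_one_iff_mul_comm, ha, hc, S.wU_low_mul,
      S.wU_low_mul, add_comm u, add_comm v]
  have hbot_low : S.botU ≤ S.lowU := fun g ⟨v, hv⟩ => ⟨0, v, hv⟩
  have hlow_pU : S.lowU ≤ S.pU := fun g ⟨u, v, hg⟩ => hg ▸ S.wU_mem 0 u v
  -- step 0: the third layer lifts to an abelian group
  have h33 : ∀ a c : Γ, σ a ∈ S.botU → σ c ∈ S.botU → ⁅a, c⁆ = 1 := by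
    rintro a c ⟨v, ha⟩ ⟨v', hc⟩
    rw [hdep (ha.trans (hL _).symm) (hc.trans (hL _).symm)]
    have hzero : ∀ p r : K, σ ⁅L (S.wU 0 0 p), L (S.wU 0 0 r)⁆ = 1 := fun p r =>
      hlowc ⟨0, p, hL _⟩ ⟨0, r, hL _⟩
    refine pairing_self_three h3 hx00 hx01 hx02
      (fun p r : K => ⁅L (S.wU 0 0 p), L (S.wU 0 0 r)⁆) ?_ ?_ ?_ v v'
    · intro p p' r
      rw [← hmull _ _ _ (hzero _ _)]
      exact hdep (by rw [map_mul, hL, hL, hL, S.wU_low_mul, add_zero]) rfl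
    · intro p r r'
      rw [← hmulr _ _ _ (hzero _ _)]
      exact hdep rfl (by rw [map_mul, hL, hL, hL, S.wU_low_mul, add_zero])
    · intro l p r hl
      have key : L (S.tauG (Units.mk0 l hl)) * ⁅L (S.wU 0 0 p), L (S.wU 0 0 r)⁆ *
          (L (S.tauG (Units.mk0 l hl)))⁻¹ = ⁅L (S.wU 0 0 (l * p)), L (S.wU 0 0 (l * r))⁆ := by
        rw [hconjc]
        exact hdep (by rw [hconj _ _ _ _ _ (hL _), hL, mul_zero, mul_zero, e11, Units.val_mk0])
          (by rw [hconj _ _ _ _ _ (hL _), hL, mul_zero, mul_zero, e11, Units.val_mk0])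
      rw [← key, ← (hcen _ (hzero p r) _).eq, mul_inv_cancel_right]
  -- step 1: it commutes with the second layer
  have h23 : ∀ y l : Γ, σ y ∈ S.lowU → σ l ∈ S.botU → ⁅y, l⁆ = 1 := by
    rintro y l ⟨u, v, hy⟩ ⟨w, hw⟩
    set c := ⁅y, l⁆ with hc
    have hc1 : σ c = 1 := hlowc ⟨u, v, hy⟩ (hbot_low ⟨w, hw⟩)
    have h3c : c * (c * c) = 1 := by
      rw [hc, ← hmull _ _ _ hc1, ← hmull _ _ _ (hlowc (by
        rw [map_mul]; exact mul_mem ⟨u, v, hy⟩ ⟨u, v, hy⟩) (hbot_low ⟨w, hw⟩)), ← pow_three,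
        hdep (u' := (1 : Γ)) (by rw [map_pow, hy, S.wU_low_cube, map_one]) (rfl : σ l = σ l),
        commutatorElement_one_left]
    have h2c : c * c = 1 := by
      have e : c = ⁅y, l⁻¹⁆ := by
        conv_lhs => rw [← mul_inv_cancel_right c (L (S.tauG (-1))), (hcen c hc1 _).eq, hc, hconjc]
        refine (hdep (u' := y * L (S.wU 0 0 (-(2 * v)))) (v' := l⁻¹) ?_ ?_).trans ?_
        · rw [hconj _ _ _ _ _ hy, map_mul, hL, hy, S.wU_low_mul, mul_zero, hm10, hm11, one_mul, add_zero]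
          congr 1
          ring
        · rw [hconj _ _ _ _ _ hw, map_inv, hw, S.wU_low_inv, mul_zero, mul_zero, neg_zero, hm11]
          congr 1
          ring
        · have hl' : σ l⁻¹ ∈ S.botU := by rw [map_inv]; exact Subgroup.inv_mem _ (show σ l ∈ S.botU from ⟨w, hw⟩)
          rw [hmull _ _ _ (hlowc (hbot_low ⟨_, hL _⟩) (hbot_low hl')), h33 _ _ ⟨_, hL _⟩ hl', mul_one]
      calc c * c = ⁅y, l⁆ * ⁅y, l⁻¹⁆ := by rw [← hc, ← e]
        _ = ⁅y, l * l⁻¹⁆ := (hmulr _ _ _ (by rw [← e, hc1])).symm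
        _ = 1 := by rw [mul_inv_cancel, commutatorElement_one_right]
    rw [h2c, mul_one] at h3c
    exact h3c
  -- the first coordinate
  have hsplit : ∀ {a : Γ} {t u v : K}, σ a = S.wU t u v →
      ∃ w, σ w ∈ S.lowU ∧ a = L (S.wU t 0 0) * w := by
    intro a t u v ha
    refine ⟨(L (S.wU t 0 0))⁻¹ * a, ?_, by group⟩
    rw [map_mul, map_inv, hL, ha]
    obtain ⟨T, U, V, h⟩ := S.exists_wU (mul_mem (Subgroup.inv_mem _ (S.wU_mem t 0 0)) (S.wU_mem t u v))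
    obtain ⟨w, hw⟩ := S.wU_mul t 0 0 T U V
    rw [← h, mul_inv_cancel_left] at hw
    obtain ⟨e, -, -⟩ := S.wU_inj hw
    have hT : T = 0 := by linear_combination -e
    refine ⟨U, V, ?_⟩
    rw [h, hT]
  have hcomm_bot : ∀ t u v : K, ∀ a l : Γ, σ a = S.wU t u v → σ l ∈ S.botU → σ ⁅a, l⁆ = 1 := by
    rintro t u v a l ha ⟨w, hw⟩
    rw [map_commutatorElement, ha, hw, commutatorElement_def, S.wU_comm_mid, mul_zero, S.wU_zero]
  -- step 2: it is central in the preimage of the unipotent subgroup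
  have h13 : ∀ a l : Γ, σ a ∈ S.pU → σ l ∈ S.botU → ⁅a, l⁆ = 1 := by
    intro a l ha hl
    obtain ⟨t, u, v, ha⟩ := S.exists_wU ha
    obtain ⟨v₀, hv₀⟩ := hl
    obtain ⟨w, hw, rfl⟩ := hsplit ha
    rw [hmull _ _ _ (hlowc hw (hbot_low ⟨_, hv₀⟩)), h23 _ _ hw ⟨_, hv₀⟩, mul_one,
      hdep rfl (hv₀.trans (hL _).symm)]
    have hzero : ∀ p r : K, σ ⁅L (S.wU p 0 0), L (S.wU 0 0 r)⁆ = 1 := fun p r =>
      hcomm_bot p 0 0 _ _ (hL _) ⟨r, hL _⟩
    obtain ⟨e, he⟩ : ∃ e : ℕ, e = 3 ^ m := ⟨_, rfl⟩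
    have he3 : 3 ≤ e := he ▸ Nat.le_self_pow (by omega) 3
    refine pairing_twist (c := 3 * e - 2) (by omega) (by omega) ?_
      (fun p r : K => ⁅L (S.wU p 0 0), L (S.wU 0 0 r)⁆) ?_ ?_ ?_ t v₀
    · rw [S.card, show 2 * m + 1 = 1 + m + m by ring, _root_.pow_add, _root_.pow_add, pow_one, ← he]
      have h1 : 3 * e * 3 ≤ 3 * e * e := Nat.mul_le_mul_left _ he3
      omega
    · intro p p' r
      rw [← hmull _ _ _ (hzero _ _)]
      have hpp : σ (L (S.wU p 0 0) * L (S.wU p' 0 0)) ∈ S.pU := by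
        rw [map_mul, hL, hL]; exact mul_mem (S.wU_mem _ _ _) (S.wU_mem _ _ _)
      obtain ⟨w', hw'⟩ := S.wU_mul p 0 0 p' 0 0
      obtain ⟨y, hy, hye⟩ := hsplit (a := L (S.wU p 0 0) * L (S.wU p' 0 0))
        (by rw [map_mul, hL, hL, hw'])
      rw [hye, hmull _ _ _ (hlowc hy (hbot_low ⟨_, hL _⟩)), h23 _ _ hy ⟨_, hL _⟩, mul_one]
    · intro p r r'
      rw [← hmulr _ _ _ (hzero _ _)]
      exact hdep rfl (by rw [map_mul, hL, hL, hL, S.wU_low_mul, add_zero])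
    · intro p r hr
      set b : Kˣ := Units.mk0 r hr with hb
      set T' := L (S.tauG b)
      set c6 : K := ((b ^ S.tauExp 6 : Kˣ) : K) with hc6
      have hc60 : c6 ≠ 0 := Units.ne_zero _
      have hval : p * r ^ (3 * e - 2) = p / c6 := by
        have : c6⁻¹ = r ^ (3 * e - 2) := by
          rw [hc6, ← Units.val_inv_eq_inv_val, ← zpow_neg, show -S.tauExp 6 = ((3 * e - 2 : ℕ) : ℤ) by
            simp only [tauExp, if_true]
            rw [Nat.cast_sub (by omega), he]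
            push_cast
            ring, zpow_natCast, Units.val_pow_eq_pow_val, hb, Units.val_mk0]
        rw [← this, div_eq_mul_inv]
      have key : T' * ⁅L (S.wU (p / c6) 0 0), L (S.wU 0 0 1)⁆ * T'⁻¹ =
          ⁅L (S.wU p 0 0), L (S.wU 0 0 r)⁆ := by
        rw [hconjc]
        refine hdep ?_ ?_
        · rw [hconj _ _ _ _ _ (hL _), hL, mul_zero, mul_zero, mul_div_cancel₀ _ hc60]
        · rw [hconj _ _ _ _ _ (hL _), hL, mul_zero, mul_zero, e11, hb, Units.val_mk0, mul_one]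
      rw [hval, ← key, ← (hcen _ (hzero _ _) _).eq, mul_inv_cancel_right]
  -- step 3: the second layer lifts to an abelian group
  have h22 : ∀ a c : Γ, σ a ∈ S.lowU → σ c ∈ S.lowU → ⁅a, c⁆ = 1 := by
    rintro a c ⟨u, v, ha⟩ ⟨u', v', hc⟩
    have hzero : ∀ p r : K, σ ⁅L (S.wU 0 p 0), L (S.wU 0 r 0)⁆ = 1 := fun p r =>
      hlowc ⟨p, 0, hL _⟩ ⟨r, 0, hL _⟩
    rw [hdep (u' := L (S.wU 0 u 0) * L (S.wU 0 0 v)) (v' := L (S.wU 0 u' 0) * L (S.wU 0 0 v'))
      (by rw [map_mul, hL, hL, ha, S.wU_low_mul, add_zero, zero_add])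
      (by rw [map_mul, hL, hL, hc, S.wU_low_mul, add_zero, zero_add])]
    have hb1 : σ (L (S.wU 0 u' 0) * L (S.wU 0 0 v')) ∈ S.lowU := by
      rw [map_mul]; exact mul_mem ⟨_, _, hL _⟩ ⟨_, _, hL _⟩
    rw [hmull _ _ _ (hlowc (hbot_low ⟨_, hL _⟩) hb1), hmulr _ _ _ (hlowc ⟨_, _, hL _⟩ (hbot_low ⟨_, hL _⟩)),
      h13 _ _ (hlow_pU ⟨_, _, hL _⟩) ⟨_, hL _⟩, mul_one,
      show ⁅L (S.wU 0 0 v), L (S.wU 0 u' 0) * L (S.wU 0 0 v')⁆ = 1 by
        rw [← commutatorElement_inv, h13 _ _ (hlow_pU hb1) ⟨_, hL _⟩, inv_one], mul_one]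
    refine pairing_self_three h3 hx00 hx01 hx02
      (fun p r : K => ⁅L (S.wU 0 p 0), L (S.wU 0 r 0)⁆) ?_ ?_ ?_ u u'
    · intro p p' r
      rw [← hmull _ _ _ (hzero _ _)]
      exact hdep (by rw [map_mul, hL, hL, hL, S.wU_low_mul, add_zero]) rfl
    · intro p r r'
      rw [← hmulr _ _ _ (hzero _ _)]
      exact hdep rfl (by rw [map_mul, hL, hL, hL, S.wU_low_mul, add_zero])
    · intro l p r hl
      have hsq : ∀ k : K, k ≠ 0 → ∀ p r : K, ⁅L (S.wU 0 (k * k * p) 0), L (S.wU 0 (k * k * r) 0)⁆ =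
          ⁅L (S.wU 0 p 0), L (S.wU 0 r 0)⁆ := by
        intro k hk p r
        obtain ⟨b, hb⟩ := S.exists_exp_ten (Units.mk0 k hk)
        have key : L (S.tauG b) * ⁅L (S.wU 0 p 0), L (S.wU 0 r 0)⁆ * (L (S.tauG b))⁻¹ =
            ⁅L (S.wU 0 (k * k * p) 0), L (S.wU 0 (k * k * r) 0)⁆ := by
          rw [hconjc]
          refine hdep ?_ ?_ <;>
            rw [hconj _ _ _ _ _ (hL _), hL, mul_zero, mul_zero, hb, Units.val_pow_eq_pow_val,
              Units.val_mk0, sq]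
        rw [← key, ← (hcen _ (hzero p r) _).eq, mul_inv_cancel_right]
      have hneg : ∀ p r : K, ⁅L (S.wU 0 (-p) 0), L (S.wU 0 (-r) 0)⁆ =
          ⁅L (S.wU 0 p 0), L (S.wU 0 r 0)⁆ := by
        intro p r
        have h0 : ∀ s : K, ⁅L (S.wU 0 s 0), L (S.wU 0 0 0)⁆ = 1 := fun s => by
          rw [hdep (v' := (1 : Γ)) rfl (by rw [hL, S.wU_zero, map_one]), commutatorElement_one_right]
        have h0' : ∀ s : K, ⁅L (S.wU 0 0 0), L (S.wU 0 s 0)⁆ = 1 := fun s => by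
          rw [← commutatorElement_inv, h0, inv_one]
        have e1 : ⁅L (S.wU 0 (-p) 0), L (S.wU 0 (-r) 0)⁆ * ⁅L (S.wU 0 p 0), L (S.wU 0 (-r) 0)⁆ = 1 := by
          rw [← hmull _ _ _ (hzero _ _), hdep (u' := L (S.wU 0 0 0))
            (by rw [map_mul, hL, hL, hL, S.wU_low_mul, neg_add_cancel, add_zero]) rfl, h0']
        have e2 : ⁅L (S.wU 0 p 0), L (S.wU 0 r 0)⁆ * ⁅L (S.wU 0 p 0), L (S.wU 0 (-r) 0)⁆ = 1 := by
          rw [← hmulr _ _ _ (hzero _ _), hdep (v' := L (S.wU 0 0 0)) rfl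
            (by rw [map_mul, hL, hL, hL, S.wU_low_mul, add_neg_cancel, add_zero]), h0]
        exact mul_right_cancel (e1.trans e2.symm)
      by_cases hs : IsSquare l
      · obtain ⟨k, rfl⟩ := hs
        exact hsq k (left_ne_zero_of_mul hl) p r
      · have hchar : ringChar K ≠ 2 := by
          rw [(ringChar.eq_iff).2 S.char]; norm_num
        have hs' : IsSquare (-l) := by
          rw [FiniteField.isSquare_iff hchar (neg_ne_zero.2 hl), neg_pow]
          rw [FiniteField.isSquare_iff hchar hl] at hs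
          rcases FiniteField.pow_dichotomy hchar hl with h | h
          · exact absurd h hs
          · rw [h]
            have hodd : Odd (Fintype.card K / 2) := by
              have := S.half_odd (m := m)
              rw [S.card]
              convert this using 1
              omega
            rw [hodd.neg_one_pow]
            ring
        obtain ⟨k, hk⟩ := hs'
        rw [show l = -(k * k) by rw [← hk, neg_neg], neg_mul, neg_mul, hneg]
        exact hsq k (fun h => hl (neg_eq_zero.1 (by rw [hk, h, mul_zero]))) p r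
  -- the complement of the kernel in the second layer
  obtain ⟨g₀, hg₀⟩ := IsCyclic.exists_generator (α := Kˣ)
  have hg2 : g₀ * g₀ ≠ 1 := by
    intro h
    have h1 : orderOf g₀ ∣ 2 := orderOf_dvd_of_pow_eq_one (by rw [sq, h])
    rw [orderOf_eq_card_of_forall_mem_zpowers hg₀, S.card_units_K] at h1
    have := Nat.le_of_dvd (by norm_num) h1
    omega
  set μ : K := ((g₀ ^ S.tauExp 10 : Kˣ) : K) with hμ
  set ν : K := ((g₀ ^ S.tauExp 11 : Kˣ) : K) with hν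
  have hμ1 : μ - 1 ≠ 0 := fun h => hg2 (S.sq_eq_one_of_tauExp (by decide) (Units.ext (sub_eq_zero.1 h)))
  have hν1 : ν - 1 ≠ 0 := fun h => hg2 (S.sq_eq_one_of_tauExp (by decide) (Units.ext (sub_eq_zero.1 h)))
  set T₀ := L (S.tauG g₀) with hT₀
  have hT0low : ∀ y, σ y ∈ S.lowU → σ ⁅T₀, y⁆ ∈ S.lowU := by
    rintro y ⟨u, v, hy⟩
    rw [commutatorElement_def, map_mul, map_inv, hconj _ _ _ _ _ hy, hy, mul_zero]
    exact mul_mem ⟨_, _, rfl⟩ (Subgroup.inv_mem _ ⟨_, _, rfl⟩)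
  have hTmul : ∀ y y', σ y ∈ S.lowU → σ y' ∈ S.lowU → ⁅T₀, y * y'⁆ = ⁅T₀, y⁆ * ⁅T₀, y'⁆ := by
    intro y y' hy hy'
    calc ⁅T₀, y * y'⁆ = ⁅T₀, y⁆ * (y * ⁅T₀, y'⁆ * y⁻¹) := by simp only [commutatorElement_def]; group
      _ = _ := by
        rw [commutatorElement_eq_one_iff_mul_comm.1 (h22 _ _ hy (hT0low y' hy')), mul_inv_cancel_right]
  let R : Subgroup Γ :=
    { carrier := {r | ∃ y, σ y ∈ S.lowU ∧ r = ⁅T₀, y⁆}
      one_mem' := ⟨1, by rw [map_one]; exact one_mem _, (commutatorElement_one_right _).symm⟩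
      mul_mem' := by
        rintro _ _ ⟨y, hy, rfl⟩ ⟨y', hy', rfl⟩
        exact ⟨y * y', by rw [map_mul]; exact mul_mem hy hy', (hTmul y y' hy hy').symm⟩
      inv_mem' := by
        rintro _ ⟨y, hy, rfl⟩
        refine ⟨y⁻¹, by rw [map_inv]; exact Subgroup.inv_mem _ hy, inv_eq_of_mul_eq_one_right ?_⟩
        rw [← hTmul _ _ hy (by rw [map_inv]; exact Subgroup.inv_mem _ hy), mul_inv_cancel, commutatorElement_one_right] }
  have hRZ : ∀ r ∈ R, σ r = 1 → r = 1 := by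
    rintro _ ⟨y, ⟨u, v, hy⟩, rfl⟩ h
    rw [map_commutatorElement, commutatorElement_eq_one_iff_mul_comm, ← mul_inv_eq_iff_eq_mul] at h
    have h' := hconj g₀ y 0 u v hy
    rw [map_mul, map_mul, map_inv, h, hy] at h'
    obtain ⟨-, e1, e2⟩ := S.wU_inj h'
    have hu : u = 0 := (mul_eq_zero.1 (show (μ - 1) * u = 0 by linear_combination -e1)).resolve_left hμ1
    have hv : v = 0 := (mul_eq_zero.1 (show (ν - 1) * v = 0 by linear_combination -e2)).resolve_left hν1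
    rw [hu, hv, S.wU_zero] at hy
    rw [hdep (v' := (1 : Γ)) rfl (by rw [hy, map_one]), commutatorElement_one_right]
  have hRlow : ∀ r ∈ R, σ r ∈ S.lowU := by
    rintro _ ⟨y, hy, rfl⟩
    exact hT0low y hy
  have hdec : ∀ a, σ a ∈ S.lowU → ∃ z r, σ z = 1 ∧ r ∈ R ∧ a = z * r := by
    rintro a ⟨u, v, ha⟩
    set y := L (S.wU 0 (u / (μ - 1)) (v / (ν - 1)))
    have hr : σ ⁅T₀, y⁆ = σ a := by
      rw [commutatorElement_def, map_mul, map_inv, hconj _ _ _ _ _ (hL _), hL, ha, mul_zero,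
        S.wU_low_inv, S.wU_low_mul]
      congr 1
      · rw [← hμ]; field_simp; ring
      · rw [← hν]; field_simp; ring
    exact ⟨a * ⁅T₀, y⁆⁻¹, ⁅T₀, y⁆, by rw [map_mul, map_inv, hr, mul_inv_cancel],
      ⟨y, ⟨_, _, hL _⟩, rfl⟩, by group⟩
  choose! pr rr hpr hrr hdec' using hdec
  have pr_eq : ∀ {a z r : Γ}, σ z = 1 → r ∈ R → a = z * r → pr a = z := by
    intro a z r hz hr he
    have ha : σ a ∈ S.lowU := by rw [he, map_mul, hz, one_mul]; exact hRlow r hr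
    have e : z⁻¹ * pr a = r * (rr a)⁻¹ := by
      have := (hdec' a ha).symm.trans he
      calc z⁻¹ * pr a = z⁻¹ * (pr a * rr a) * (rr a)⁻¹ := by group
        _ = _ := by rw [this]; group
    have h1 := hRZ _ (mul_mem hr (Subgroup.inv_mem _ (hrr a ha))) (by rw [← e, map_mul, map_inv, hz, hpr a ha]; simp)
    rw [← e, inv_mul_eq_one] at h1
    exact h1.symm
  have pr_mul : ∀ {a c : Γ}, σ a ∈ S.lowU → σ c ∈ S.lowU → pr (a * c) = pr a * pr c := by
    intro a c ha hc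
    refine pr_eq (by rw [map_mul, hpr a ha, hpr c hc, mul_one]) (mul_mem (hrr a ha) (hrr c hc)) ?_
    conv_lhs => rw [hdec' a ha, hdec' c hc]
    rw [mul_assoc (pr a) (pr c), ← mul_assoc (pr c), (hcen _ (hpr c hc) (rr a)).eq]
    simp only [mul_assoc]
  have pr_one : pr 1 = 1 := pr_eq (map_one _) (one_mem R) (one_mul 1).symm
  have pr_inv : ∀ {a : Γ}, σ a ∈ S.lowU → pr a⁻¹ = (pr a)⁻¹ := by
    intro a ha
    refine eq_inv_of_mul_eq_one_left ?_
    rw [← pr_mul (by rw [map_inv]; exact Subgroup.inv_mem _ ha) ha, inv_mul_cancel, pr_one]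
  have pr_R : ∀ {r : Γ}, r ∈ R → pr r = 1 := fun hr => pr_eq (map_one _) hr (one_mul _).symm
  have pr_conj : ∀ {g a : Γ}, (∀ r ∈ R, g * r * g⁻¹ ∈ R) → σ a ∈ S.lowU → pr (g * a * g⁻¹) = pr a := by
    intro g a hg ha
    refine pr_eq (hpr a ha) (hg _ (hrr a ha)) ?_
    conv_lhs => rw [hdec' a ha]
    rw [← mul_assoc g, ← (hcen _ (hpr a ha) g).eq]
    simp only [mul_assoc]
  have hTR : ∀ b : Kˣ, ∀ r ∈ R, L (S.tauG b) * r * (L (S.tauG b))⁻¹ ∈ R := by
    rintro b _ ⟨y, ⟨u, v, hy⟩, rfl⟩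
    refine ⟨L (S.tauG b) * y * (L (S.tauG b))⁻¹, ⟨_, _, by rw [hconj _ _ _ _ _ hy, mul_zero]⟩, ?_⟩
    rw [hconjc]
    refine hdep ?_ rfl
    rw [map_mul, map_mul, map_inv, hL, hT₀, hL, ← map_inv, ← map_mul, ← map_mul, mul_inv_cancel_comm]
  -- step 4: the second layer commutes with everything modulo `R`
  have hcommlow : ∀ a y : Γ, σ a ∈ S.pU → σ y ∈ S.lowU → σ ⁅a, y⁆ ∈ S.botU := by
    rintro a y ha ⟨u, v, hy⟩
    obtain ⟨t, p, r, ha⟩ := S.exists_wU ha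
    rw [map_commutatorElement, ha, hy, commutatorElement_def, S.wU_comm_mid]
    exact ⟨_, rfl⟩
  have hbotcen : ∀ a l : Γ, σ a ∈ S.pU → σ l ∈ S.botU → Commute a l := fun a l ha hl =>
    commutatorElement_eq_one_iff_mul_comm.1 (h13 a l ha hl)
  have h12 : ∀ a y : Γ, σ a ∈ S.pU → σ y ∈ S.lowU → pr ⁅a, y⁆ = 1 := by
    intro a y ha hy
    obtain ⟨u, v, hy'⟩ := id hy
    set c := ⁅a, y⁆ with hc
    have hc3 := hcommlow a y ha hy
    set J := L (S.tauG (-1)) with hJ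
    have e2 : pr c * pr c = 1 := by
      obtain ⟨t, p, r, ha'⟩ := S.exists_wU ha
      set w := a * (J * a * J⁻¹) with hw
      have hw2 : σ w ∈ S.lowU := by
        obtain ⟨s, hs⟩ := S.wU_mul t p r (((-1 : Kˣ) ^ S.tauExp 6 : Kˣ) * t)
          ((((-1 : Kˣ) ^ S.tauExp 10 : Kˣ) : K) * p) ((((-1 : Kˣ) ^ S.tauExp 11 : Kˣ) : K) * r)
        rw [hw, map_mul, hconj _ _ _ _ _ ha', ha', hs]
        have h6 : (((-1 : Kˣ) ^ S.tauExp 6 : Kˣ) : K) = -1 := by
          have ho : Odd (S.tauExp 6) := by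
            simp only [tauExp, if_true]
            exact Even.sub_odd (by decide) (Odd.mul (by decide) (Odd.pow (by decide)))
          rw [ho.neg_one_zpow, Units.val_neg, Units.val_one]
        rw [h6, neg_one_mul, add_neg_cancel]
        exact ⟨_, _, rfl⟩
      have e : pr c = (pr c)⁻¹ := by
        have h1 : J * c * J⁻¹ = ⁅a⁻¹ * w, y * L (S.wU 0 0 (-(2 * v)))⁆ := by
          rw [hc, hconjc]
          refine hdep (by rw [hw]; group) ?_
          rw [hconj _ _ _ _ _ hy', map_mul, hL, hy', S.wU_low_mul, mul_zero, hm10, hm11, one_mul, add_zero]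
          congr 1
          ring
        have ha1 : σ a⁻¹ ∈ S.pU := by rw [map_inv]; exact Subgroup.inv_mem _ ha
        have haw : σ (a⁻¹ * w) ∈ S.pU := by rw [map_mul]; exact mul_mem ha1 (hlow_pU hw2)
        have h2 : ⁅a⁻¹ * w, y * L (S.wU 0 0 (-(2 * v)))⁆ = ⁅a⁻¹, y⁆ := by
          rw [hmulr _ _ _ (by rw [h13 _ _ haw ⟨_, hL _⟩, map_one]), h13 _ _ haw ⟨_, hL _⟩, mul_one,
            hmull _ _ _ (hlowc hw2 hy), h22 _ _ hw2 hy, mul_one]
        have h4 : σ c⁻¹ ∈ S.botU := by rw [map_inv]; exact Subgroup.inv_mem _ hc3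
        have h3' : ⁅a⁻¹, y⁆ = c⁻¹ := by
          have : ⁅a⁻¹, y⁆ = a⁻¹ * c⁻¹ * a := by
            rw [hc]; simp only [commutatorElement_def]; group
          rw [this, (hbotcen a⁻¹ c⁻¹ ha1 h4).eq, inv_mul_cancel_right]
        rw [← pr_inv (hbot_low hc3), ← h3', ← h2, ← h1, pr_conj (hTR _) (hbot_low hc3)]
      exact mul_eq_one_iff_eq_inv.2 e
    have e3 : pr c * (pr c * pr c) = 1 := by
      have hy2 : σ (y * y) ∈ S.lowU := by rw [map_mul]; exact mul_mem hy hy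
      have hmy : ∀ y₁ y₂ : Γ, σ y₁ ∈ S.lowU → σ y₂ ∈ S.lowU → ⁅a, y₁ * y₂⁆ = ⁅a, y₁⁆ * ⁅a, y₂⁆ := by
        intro y₁ y₂ h1 h2
        calc ⁅a, y₁ * y₂⁆ = ⁅a, y₁⁆ * (y₁ * ⁅a, y₂⁆ * y₁⁻¹) := by
              simp only [commutatorElement_def]; group
          _ = _ := by rw [(hbotcen y₁ _ (hlow_pU h1) (hcommlow a y₂ ha h2)).eq, mul_inv_cancel_right]
      have hcc : σ (c * c) ∈ S.lowU := by rw [map_mul]; exact mul_mem (hbot_low hc3) (hbot_low hc3)
      rw [← pr_mul (hbot_low hc3) (hbot_low hc3), ← pr_mul (hbot_low hc3) hcc,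
        show c * (c * c) = ⁅a, y * (y * y)⁆ by rw [hmy y _ hy hy2, hmy y y hy hy],
        hdep (v' := (1 : Γ)) rfl (by rw [map_mul, map_mul, ← pow_three, hy', S.wU_low_cube, map_one]),
        commutatorElement_one_right, pr_one]
    rw [e2, mul_one] at e3
    exact e3
  have hR12 : ∀ a y : Γ, σ a ∈ S.pU → σ y ∈ S.lowU → ⁅a, y⁆ ∈ R := by
    intro a y ha hy
    have hl := hbot_low (hcommlow a y ha hy)
    rw [hdec' _ hl, h12 a y ha hy, one_mul]
    exact hrr _ hl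
  have hMR : ∀ a : Γ, σ a ∈ S.pU → ∀ r ∈ R, a * r * a⁻¹ ∈ R := by
    intro a ha r hr
    rw [show a * r * a⁻¹ = ⁅a, r⁆ * r by simp only [commutatorElement_def]; group]
    exact mul_mem (hR12 a r ha (hRlow r hr)) hr
  -- step 5: everything
  have hcomm11 : ∀ a c : Γ, σ a ∈ S.pU → σ c ∈ S.pU → σ ⁅a, c⁆ ∈ S.lowU := by
    intro a c ha hc
    obtain ⟨t, u, v, ha⟩ := S.exists_wU ha
    obtain ⟨t', u', v', hc⟩ := S.exists_wU hc
    obtain ⟨w, hw⟩ := S.wU_comm_top t u v t' u' v'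
    rw [map_commutatorElement, ha, hc, commutatorElement_def, hw]
    exact ⟨_, _, rfl⟩
  have hpl : ∀ a a' c : Γ, σ a ∈ S.pU → σ a' ∈ S.pU → σ c ∈ S.pU →
      pr ⁅a * a', c⁆ = pr ⁅a, c⁆ * pr ⁅a', c⁆ := by
    intro a a' c ha ha' hc
    have h1 := hcomm11 a' c ha' hc
    have h2 := hcomm11 a c ha hc
    have h1' : σ (a * ⁅a', c⁆ * a⁻¹) ∈ S.lowU := by
      rw [show a * ⁅a', c⁆ * a⁻¹ = ⁅a, ⁅a', c⁆⁆ * ⁅a', c⁆ by simp only [commutatorElement_def]; group,
        map_mul]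
      exact mul_mem (hbot_low (hcommlow a _ ha h1)) h1
    rw [show ⁅a * a', c⁆ = a * ⁅a', c⁆ * a⁻¹ * ⁅a, c⁆ by simp only [commutatorElement_def]; group,
      pr_mul h1' h2, pr_conj (hMR a ha) h1, (hcen _ (hpr _ h1) _).eq]
  have hprl : ∀ a c : Γ, σ a ∈ S.pU → σ c ∈ S.pU → pr ⁅a, c⁆ = (pr ⁅c, a⁆)⁻¹ := by
    intro a c ha hc
    rw [← pr_inv (hcomm11 c a hc ha), commutatorElement_inv]
  have hp2r : ∀ a c : Γ, σ a ∈ S.pU → σ c ∈ S.lowU → pr ⁅c, a⁆ = 1 := fun a c ha hc => by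
    rw [hprl c a (hlow_pU hc) ha, h12 a c ha hc, inv_one]
  have hgen : ∀ {a c : Γ} {t u v t' u' v' : K}, σ a = S.wU t u v → σ c = S.wU t' u' v' →
      pr ⁅a, c⁆ = pr ⁅L (S.wU t 0 0), L (S.wU t' 0 0)⁆ := by
    intro a c t u v t' u' v' ha hc
    obtain ⟨w, hw, rfl⟩ := hsplit ha
    obtain ⟨w', hw', rfl⟩ := hsplit hc
    have hX : ∀ s : K, σ (L (S.wU s 0 0)) ∈ S.pU := fun s => by rw [hL]; exact S.wU_mem _ _ _
    have hcU : σ (L (S.wU t' 0 0) * w') ∈ S.pU := hc ▸ S.wU_mem _ _ _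
    rw [hpl _ _ _ (hX t) (hlow_pU hw) hcU, hp2r _ _ hcU hw, mul_one, hprl _ _ (hX t) hcU,
      hpl _ _ _ (hX t') (hlow_pU hw') (hX t), hp2r _ _ (hX t) hw', mul_one,
      ← hprl _ _ (hX t) (hX t')]
  have hbase : ∀ t s : K, pr ⁅L (S.wU t 0 0), L (S.wU s 0 0)⁆ = 1 := by
    have hX : ∀ s : K, σ (L (S.wU s 0 0)) ∈ S.pU := fun s => by rw [hL]; exact S.wU_mem _ _ _
    have hadd : ∀ p p' r : K, pr ⁅L (S.wU (p + p') 0 0), L (S.wU r 0 0)⁆ =
        pr ⁅L (S.wU p 0 0), L (S.wU r 0 0)⁆ * pr ⁅L (S.wU p' 0 0), L (S.wU r 0 0)⁆ := by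
      intro p p' r
      obtain ⟨w, hw⟩ := S.wU_mul p 0 0 p' 0 0
      rw [← hpl _ _ _ (hX p) (hX p') (hX r)]
      exact (hgen (by rw [map_mul, hL, hL, hw]) (hL _)).symm
    refine pairing_self_three h3 hx00 hx01 hx02
      (fun p r : K => pr ⁅L (S.wU p 0 0), L (S.wU r 0 0)⁆) hadd ?_ ?_
    · intro p r r'
      have hpr1 : ∀ a b : K, σ (pr ⁅L (S.wU a 0 0), L (S.wU b 0 0)⁆)⁻¹ = 1 := fun a b => by
        rw [map_inv, hpr _ (hcomm11 _ _ (hX a) (hX b)), inv_one]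
      rw [hprl _ _ (hX p) (hX (r + r')), hadd, _root_.mul_inv_rev, ← hprl _ _ (hX p) (hX r'),
        ← hprl _ _ (hX p) (hX r)]
      exact (hcen _ (hpr _ (hcomm11 _ _ (hX p) (hX r'))) _).eq
    · intro l p r hl
      obtain ⟨b, hb⟩ := hsix l hl
      rw [← pr_conj (hTR b) (hcomm11 _ _ (hX p) (hX r)), hconjc]
      rw [hgen (hconj b _ _ _ _ (hL (S.wU p 0 0))) (hconj b _ _ _ _ (hL (S.wU r 0 0))), hb]
  -- conclusion
  have hle : ⁅S.pU.comap σ, S.pU.comap σ⁆ ≤ R := by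
    rw [Subgroup.commutator_le]
    intro a ha c hc
    rw [Subgroup.mem_comap] at ha hc
    have hl := hcomm11 a c ha hc
    obtain ⟨t, u, v, ha⟩ := S.exists_wU ha
    obtain ⟨t', u', v', hc⟩ := S.exists_wU hc
    rw [hdec' _ hl, hgen ha hc, hbase, one_mul]
    exact hrr _ hl
  exact hRZ d (hle hdD) hd

/-- The Schur multiplier is trivial. -/
theorem stem_trivial (hm : 1 ≤ m) {Γ : Type*} [Group Γ] [Finite Γ]
    {σ : Γ →* ↥(twistedG2 K (3 ^ m))} (hσ : Cfsg.IsStemExtension σ) : σ.ker = ⊥ := by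
  classical
  have := Fact.mk Nat.prime_two
  have := Fact.mk Nat.prime_three
  have := Fact.mk (by norm_num : Nat.Prime 7)
  rw [eq_bot_iff]
  intro z hz
  rw [Subgroup.mem_bot]
  by_contra hz1
  obtain ⟨l, hl, hlz⟩ := Nat.exists_prime_and_dvd (show orderOf z ≠ 1 from fun h => hz1 (orderOf_eq_one_iff.1 h))
  have := Fact.mk hl
  have hab : ∀ N : Subgroup ↥(twistedG2 K (3 ^ m)),
      (∀ a b : Γ, σ a ∈ N → σ b ∈ N → Commute a b) →
      ∀ x ∈ σ.ker, x ∈ ⁅N.comap σ, N.comap σ⁆ → x = 1 := by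
    intro N hN x _ hx
    have h : ⁅N.comap σ, N.comap σ⁆ ≤ ⊥ := by
      rw [Subgroup.commutator_le]
      intro a ha b hb
      rw [Subgroup.mem_bot, commutatorElement_eq_one_iff_mul_comm]
      exact hN a b ha hb
    exact Subgroup.mem_bot.1 (h hx)
  have key : ∃ N : Subgroup ↥(twistedG2 K (3 ^ m)), ¬ l ∣ N.index ∧
      ∀ x ∈ σ.ker, x ∈ ⁅N.comap σ, N.comap σ⁆ → x = 1 := by
    by_cases h3 : l = 3
    · subst h3
      obtain ⟨P, hP⟩ := S.exists_sylow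
      exact ⟨S.pU, hP ▸ P.not_dvd_index, fun x hx hxD => S.stem_three hm hσ.1 hσ.2.1 hx hxD⟩
    obtain ⟨P⟩ : Nonempty (Sylow l ↥(twistedG2 K (3 ^ m))) := inferInstance
    by_cases h2 : l = 2
    · subst h2
      obtain ⟨hC, hN⟩ := S.sylow_two_normalizer hm P
      obtain ⟨s, hs⟩ := exists_prime_orderOf_dvd_card' 7 (show 7 ∣ _ by rw [hN]; norm_num :
        7 ∣ Nat.card ↥(Subgroup.normalizer
          ((P : Subgroup ↥(twistedG2 K (3 ^ m))) : Set ↥(twistedG2 K (3 ^ m)))))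
      rw [← Subgroup.orderOf_coe] at hs
      refine ⟨P, P.not_dvd_index, hab _ fun a b ha hb =>
        lift_abelian_of_seven hσ.1 hσ.2.1 (S.sylow_two P).1 (S.sylow_two P).2 hs s.2 ?_ ha hb⟩
      rw [hC]
      intro h
      have := orderOf_dvd_of_pow_eq_one (show (s : ↥(twistedG2 K (3 ^ m))) ^ 2 = 1 by
        rw [sq]; exact (S.sylow_two P).2 _ h)
      rw [hs] at this
      norm_num at this
    · refine ⟨P, P.not_dvd_index, hab _ fun a b ha hb => ?_⟩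
      have hl3 : 3 < l := by have := hl.two_le; omega
      have hcy := S.sylow_cyclic hm hl3 P
      let f : ↥((P : Subgroup ↥(twistedG2 K (3 ^ m))).comap σ) →* ↥(P : Subgroup ↥(twistedG2 K (3 ^ m))) :=
        σ.subgroupComap _
      have hf : f.ker ≤ Subgroup.center _ := fun x hx => by
        rw [Subgroup.mem_center_iff]
        intro y
        exact Subtype.ext (Subgroup.mem_center_iff.1 (hσ.2.1 (congrArg Subtype.val hx)) y.1)
      exact congrArg Subtype.val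
        (commutative_of_cyclic_center_quotient f hf ⟨a, ha⟩ ⟨b, hb⟩)
  obtain ⟨N, hN, hND⟩ := key
  exact hN (hlz.trans (orderOf_dvd_of_pow_eq_one (CfsgLib.KnownA.stem_pow_index_eq_one hσ N hND z hz)))

end SetupG2

end CfsgLib.Chev
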