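import Mathlib
import Cfsg.Prelude.Def_KGroupFacts
import Cfsg.Agent.Lib.Chev.ReeGenTwo
import Cfsg.Agent.Lib.Chev.ReeSchur
import Cfsg.Agent.Lib.Chev.ReeTorusKlein
import Cfsg.Agent.Lib.Chev.ReeCounts

/-!
The automorphisms of ²G₂(q), q ≥ 27.
-/

set_option autoImplicit false
set_option maxHeartbeats 1600000
set_option maxRecDepth 100000
set_option linter.unusedSectionVars false

namespace CfsgLib.Chev

open Cfsg.Lie

/-- Entrywise application of a field automorphism to root element matrices. -/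
theorem xMat_map {K : Type*} [Field K] (σ : K ≃+* K) (D : ChevalleyDatum) (r : Fin D.nroots) (t : K) :
    (D.xMat K r t).map σ = D.xMat K r (σ t) := by
  ext a b
  rw [Matrix.map_apply]
  rcases a with i | u <;> rcases b with j | s <;>
    simp only [ChevalleyDatum.xMat, Matrix.of_apply] <;> (repeat' split) <;>
    simp [map_list_sum, List.map_map, Function.comp_def]

theorem wordMat_map {K : Type*} [Field K] (σ : K ≃+* K) (D : ChevalleyDatum) (w : List (ℕ × K)) :
    (D.wordMat K w).map σ = D.wordMat K (w.map fun p => (p.1, σ p.2)) := by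
  induction w with
  | nil => simp [ChevalleyDatum.wordMat, Matrix.map_one]
  | cons p w ih =>
    simp only [ChevalleyDatum.wordMat, List.map_cons, List.prod_cons] at ih ⊢
    rw [Matrix.map_mul, ih]
    congr 1
    simp only [ChevalleyDatum.x]
    split
    · exact xMat_map σ D _ _
    · simp [Matrix.map_one]

/-- The map of `GL` induced by a field automorphism. -/
def fieldGL (K : Type*) [Field K] (σ : K ≃+* K) : GL chevG2.Idx K →* GL chevG2.Idx K :=
  Units.map (σ.toRingHom.mapMatrix.toMonoidHom)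

theorem fieldGL_mem {K : Type*} [Field K] (σ : K ≃+* K) {e : ℕ} {g : GL chevG2.Idx K}
    (hg : g ∈ twistedG2 K e) : fieldGL K σ g ∈ twistedG2 K e := by
  unfold twistedG2 ChevalleyDatum.genSubgroup at hg ⊢
  induction hg using Subgroup.closure_induction with
  | mem x hx =>
    obtain ⟨w, ⟨t, u, v, hw⟩, hx⟩ := hx
    refine Subgroup.subset_closure ⟨w.map fun p => (p.1, σ p.2), ⟨σ t, σ u, σ v, ?_⟩, ?_⟩
    · rcases hw with rfl | rfl
      · left; simp [reeWordU]
      · right; simp [reeWordV, reeWordU, ChevalleyDatum.negWord]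
    · show (x : Matrix chevG2.Idx chevG2.Idx K).map σ = _
      rw [hx, wordMat_map]
  | one => rw [map_one]; exact one_mem _
  | mul a b _ _ ha hb => rw [map_mul]; exact mul_mem ha hb
  | inv a _ ha => rw [map_inv]; exact Subgroup.inv_mem _ ha

/-- The action of a field automorphism on ²G₂. -/
noncomputable def fieldEquiv (K : Type*) [Field K] (e : ℕ) (σ : K ≃+* K) : MulAut ↥(twistedG2 K e) where
  toFun g := ⟨fieldGL K σ g, fieldGL_mem σ g.2⟩
  invFun g := ⟨fieldGL K σ.symm g, fieldGL_mem σ.symm g.2⟩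
  left_inv g := by
    refine Subtype.ext (Units.ext (Matrix.ext fun i j => ?_))
    exact σ.symm_apply_apply _
  right_inv g := by
    refine Subtype.ext (Units.ext (Matrix.ext fun i j => ?_))
    exact σ.apply_symm_apply _
  map_mul' a b := Subtype.ext (map_mul (fieldGL K σ) (a : GL chevG2.Idx K) b)

/-- The field automorphisms as automorphisms of ²G₂. -/
noncomputable def fieldAut (K : Type*) [Field K] (e : ℕ) : (K ≃+* K) →* MulAut ↥(twistedG2 K e) where
  toFun := fieldEquiv K e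
  map_one' := MulEquiv.ext fun _ => Subtype.ext (Units.ext (Matrix.ext fun _ _ => rfl))
  map_mul' _ _ := MulEquiv.ext fun _ => Subtype.ext (Units.ext (Matrix.ext fun _ _ => rfl))

namespace SetupG2

variable {K : Type*} [Field K] [Fintype K] {m : ℕ} (S : SetupG2 K m)
include S

lemma fieldAut_wU (σ : K ≃+* K) (t u v : K) :
    fieldAut K (3 ^ m) σ (S.wU t u v) = S.wU (σ t) (σ u) (σ v) := by
  have e : ∀ a b c : K, ((S.wU a b c : GL chevG2.Idx K) : Matrix chevG2.Idx chevG2.Idx K) =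
      chevG2.wordMat K (reeWordU (3 ^ m) a b c) := fun a b c => by
    simp [wU, reeWordU, ChevalleyDatum.wordMat, Good.coe_xG]
  refine Subtype.ext (Units.ext ?_)
  show ((S.wU t u v : GL chevG2.Idx K) : Matrix chevG2.Idx chevG2.Idx K).map σ = _
  rw [e, e, wordMat_map]
  simp [reeWordU]

/-- Every non-zero element is a scalar of the second layer up to sign. -/
lemma exists_ten_or_neg (w : K) (hw : w ≠ 0) :
    ∃ b : Kˣ, ((b ^ S.tauExp 10 : Kˣ) : K) = w ∨ ((b ^ S.tauExp 10 : Kˣ) : K) = -w := by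
  have hchar : ringChar K ≠ 2 := by
    rw [(ringChar.eq_iff).2 S.char]; norm_num
  have key : ∀ a : K, a ≠ 0 → IsSquare a → ∃ b : Kˣ, ((b ^ S.tauExp 10 : Kˣ) : K) = a := by
    rintro _ ha ⟨c, rfl⟩
    obtain ⟨b, hb⟩ := S.exists_exp_ten (Units.mk0 c (left_ne_zero_of_mul ha))
    exact ⟨b, by rw [hb, Units.val_pow_eq_pow_val, Units.val_mk0, sq]⟩
  by_cases hs : IsSquare w
  · obtain ⟨b, hb⟩ := key w hw hs
    exact ⟨b, Or.inl hb⟩
  · have hs' : IsSquare (-w) := by
      rw [FiniteField.isSquare_iff hchar (neg_ne_zero.2 hw), neg_pow]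
      rw [FiniteField.isSquare_iff hchar hw] at hs
      rcases FiniteField.pow_dichotomy hchar hw with h | h
      · exact absurd h hs
      · rw [h]
        have hodd : Odd (Fintype.card K / 2) := by
          have := S.half_odd (m := m)
          have hq : Fintype.card K % 2 = 1 := FiniteField.odd_card_of_char_ne_two hchar
          rw [← S.card] at this
          rwa [show Fintype.card K / 2 = (Fintype.card K - 1) / 2 by omega]
        rw [hodd.neg_one_pow]
        ring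
    obtain ⟨b, hb⟩ := key (-w) (neg_ne_zero.2 hw) hs'
    exact ⟨b, Or.inr hb⟩

/-- An automorphism preserves the unipotent subgroup up to conjugation. -/
theorem exists_conj_pU (α : MulAut ↥(twistedG2 K (3 ^ m))) :
    ∃ g, ∀ x, (x ∈ S.pU ↔ g * α x * g⁻¹ ∈ S.pU) := by
  have := Fact.mk Nat.prime_three
  obtain ⟨P, hP⟩ := S.exists_sylow
  set Q : Sylow 3 ↥(twistedG2 K (3 ^ m)) :=
    Sylow.ofCard ((P : Subgroup ↥(twistedG2 K (3 ^ m))).map α.toMonoidHom)
      (by rw [Subgroup.card_map_of_injective α.injective, P.card_eq_multiplicity])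
  obtain ⟨g, hg⟩ := MulAction.exists_smul_eq ↥(twistedG2 K (3 ^ m)) Q P
  refine ⟨g, fun x => ?_⟩
  conv_rhs => rw [← hP, ← hg, Sylow.coe_subgroup_smul]
  rw [← hP]
  constructor
  · intro hx
    exact ⟨α x, ⟨x, hx, rfl⟩, rfl⟩
  · rintro ⟨_, ⟨y, hy, rfl⟩, he⟩
    have : α y = α x := mul_left_cancel (mul_right_cancel he)
    rwa [← α.injective this]

/-- The first coordinate under conjugation by the Borel subgroup. -/
theorem exists_pB_scalar {b : ↥(twistedG2 K (3 ^ m))} (hb : b ∈ S.pB) :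
    ∃ (y : ↥(twistedG2 K (3 ^ m))) (c : Kˣ), y ∈ S.pU ∧ b = y * S.tauG c ∧
      ∀ t u v : K, ∃ u' v', b * S.wU t u v * b⁻¹ = S.wU (((c ^ S.tauExp 6 : Kˣ) : K) * t) u' v' := by
  obtain ⟨y, hy, d, hd, he⟩ := S.borel_decomp (S.mem_pB.1 hb)
  obtain ⟨c, hc⟩ := (S.tauHom_range.symm ▸ hd : d ∈ S.tauHom.range)
  set y' : ↥(twistedG2 K (3 ^ m)) := ⟨y, hy.2⟩
  have hy' : y' ∈ S.pU := Subgroup.mem_subgroupOf.2 hy
  have hbe : b = y' * S.tauG c := Subtype.ext (by rw [he, Subgroup.coe_mul, coe_tauG, hc])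
  refine ⟨y', c, hy', hbe, fun t u v => ?_⟩
  obtain ⟨T, U, V, hT⟩ := S.exists_wU hy'
  obtain ⟨Ui, hUi⟩ := S.wU_inv T U V
  obtain ⟨v1, h1⟩ := S.wU_mul T U V (((c ^ S.tauExp 6 : Kˣ) : K) * t)
    (((c ^ S.tauExp 10 : Kˣ) : K) * u) (((c ^ S.tauExp 11 : Kˣ) : K) * v)
  obtain ⟨v2, h2⟩ := S.wU_mul (T + ((c ^ S.tauExp 6 : Kˣ) : K) * t)
    (U + ((c ^ S.tauExp 10 : Kˣ) : K) * u - T * (((c ^ S.tauExp 6 : Kˣ) : K) * t) ^ (3 * 3 ^ m)) v1
    (-T) (-U - T * T ^ (3 * 3 ^ m)) Ui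
  refine ⟨U + ((c ^ S.tauExp 10 : Kˣ) : K) * u - T * (((c ^ S.tauExp 6 : Kˣ) : K) * t) ^ (3 * 3 ^ m) +
    (-U - T * T ^ (3 * 3 ^ m)) - (T + ((c ^ S.tauExp 6 : Kˣ) : K) * t) * (-T) ^ (3 * 3 ^ m), v2, ?_⟩
  rw [hbe, hT, show S.wU T U V * S.tauG c * S.wU t u v * (S.wU T U V * S.tauG c)⁻¹ =
    S.wU T U V * (S.tauG c * S.wU t u v * (S.tauG c)⁻¹) * (S.wU T U V)⁻¹ by group, S.tau_conj_wU, h1,
    hUi, h2]
  congr 1
  ring

/-- A unipotent element has trivial cube exactly when its first coordinate vanishes. -/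
theorem wU_cube (t u v : K) : S.wU t u v ^ 3 = 1 ↔ t = 0 := by
  refine Iff.trans ?_ (S.word_cube_iff t u v)
  constructor
  · intro h
    exact congrArg Subtype.val h
  · intro h
    exact Subtype.ext h

/-- Splitting off the lower layers. -/
theorem wU_split (t u v : K) : ∃ U V, S.wU t u v = S.wU t 0 0 * S.wU 0 U V := by
  obtain ⟨T, U, V, h⟩ := S.exists_wU (mul_mem (Subgroup.inv_mem _ (S.wU_mem t 0 0)) (S.wU_mem t u v))
  obtain ⟨w, hw⟩ := S.wU_mul t 0 0 T U V
  rw [← h, mul_inv_cancel_left] at hw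
  obtain ⟨e, -, -⟩ := S.wU_inj hw
  have hT : T = 0 := by linear_combination -e
  refine ⟨U, V, ?_⟩
  rw [hT] at h
  rw [← h, mul_inv_cancel_left]

/-- An automorphism fixing the torus and the first layer up to lower terms fixes the unipotent
subgroup. -/
theorem fix_pU (hm : 1 ≤ m) {α : MulAut ↥(twistedG2 K (3 ^ m))}
    (hτ : ∀ b, α (S.tauG b) = S.tauG b) (hU : ∀ x ∈ S.pU, α x ∈ S.pU)
    (htop : ∀ t u v : K, ∃ u' v', α (S.wU t u v) = S.wU t u' v') : ∀ x ∈ S.pU, α x = x := by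
  classical
  obtain ⟨hq27, hr9, -, -, hqodd, -⟩ := S.arith hm
  have := S.char
  -- equivariance
  have heq : ∀ (b : Kˣ) (t u v t' u' v' : K), α (S.wU t u v) = S.wU t' u' v' →
      α (S.wU (((b ^ S.tauExp 6 : Kˣ) : K) * t) (((b ^ S.tauExp 10 : Kˣ) : K) * u)
        (((b ^ S.tauExp 11 : Kˣ) : K) * v)) =
      S.wU (((b ^ S.tauExp 6 : Kˣ) : K) * t') (((b ^ S.tauExp 10 : Kˣ) : K) * u')
        (((b ^ S.tauExp 11 : Kˣ) : K) * v') := by
    intro b t u v t' u' v' h
    rw [← S.tau_conj_wU, ← S.tau_conj_wU, map_mul, map_mul, map_inv, hτ, h]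
  -- the second coordinate on the second layer
  have hlow : ∀ u v, ∃ u' v', α (S.wU 0 u v) = S.wU 0 u' v' := fun u v => htop 0 u v
  choose k l hkl using hlow
  have hk0 : ∀ u v v', k u v = k u v' := by
    intro u v v'
    obtain ⟨tA, uA, hA⟩ := htop 1 0 0
    have h1 := congrArg α (S.wU_comm_mid 1 0 0 u v)
    have h2 := congrArg α (S.wU_comm_mid 1 0 0 u v')
    rw [← h2, map_mul, map_mul, map_mul, map_inv, map_inv, map_mul, map_mul, map_mul, map_inv, map_inv,
      hkl, hkl, hA, S.wU_comm_mid, S.wU_comm_mid] at h1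
    obtain ⟨-, -, h3⟩ := S.wU_inj h1
    rwa [one_mul, one_mul] at h3
  have hkadd : ∀ u u', k (u + u') 0 = k u 0 + k u' 0 := by
    intro u u'
    have h := congrArg α (S.wU_low_mul u 0 u' 0)
    rw [add_zero, map_mul, hkl, hkl, hkl, S.wU_low_mul] at h
    exact (S.wU_inj h).2.1.symm
  have hkscale : ∀ (b : Kˣ) u, k (((b ^ S.tauExp 10 : Kˣ) : K) * u) 0 =
      ((b ^ S.tauExp 10 : Kˣ) : K) * k u 0 := by
    intro b u
    have h := heq b 0 u 0 0 (k u 0) (l u 0) (hkl u 0)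
    rw [mul_zero, mul_zero, hkl] at h
    exact (S.wU_inj h).2.1
  -- a fixed non-zero value
  obtain ⟨u₁, hu₁, hk₁⟩ : ∃ u₁ : K, u₁ ≠ 0 ∧ k u₁ 0 = u₁ := by
    obtain ⟨s, hs⟩ : ∃ s : K, s ^ (3 * 3 ^ m) ≠ s := by
      by_contra hall
      push Not at hall
      have h3 : ∀ s : K, s ^ 3 = s := fun s => by
        have h1 : s ^ 3 ^ m = s := by
          have := congrArg (fun x => x ^ 3 ^ m) (hall s)
          simp only [← pow_mul, S.pow_q] at this
          exact this.symm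
        conv_rhs => rw [← hall s, mul_comm, pow_mul, h1]
      have hle : Fintype.card K ≤ ({0, 1, -1} : Finset K).card := by
        rw [← Finset.card_univ]
        refine Finset.card_le_card fun s _ => ?_
        have : s * ((s - 1) * (s + 1)) = 0 := by linear_combination h3 s
        simp only [Finset.mem_insert, Finset.mem_singleton]
        rcases mul_eq_zero.1 this with h | h
        · exact Or.inl h
        rcases mul_eq_zero.1 h with h | h
        · exact Or.inr (Or.inl (sub_eq_zero.1 h))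
        · exact Or.inr (Or.inr (eq_neg_of_add_eq_zero_left h))
      rw [S.card] at hle
      have := hle.trans Finset.card_le_three
      omega
    obtain ⟨w, hw⟩ := S.wU_comm_top 1 0 0 s 0 0
    obtain ⟨a1, b1, h1⟩ := htop 1 0 0
    obtain ⟨a2, b2, h2⟩ := htop s 0 0
    obtain ⟨w', hw'⟩ := S.wU_comm_top 1 a1 b1 s a2 b2
    refine ⟨s * 1 ^ (3 * 3 ^ m) - 1 * s ^ (3 * 3 ^ m), ?_, ?_⟩
    · rw [one_pow, mul_one, one_mul, sub_ne_zero]; exact fun h => hs h.symm
    · have h := congrArg α hw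
      rw [map_mul, map_mul, map_mul, map_inv, map_inv, h1, h2, hw', hkl] at h
      rw [hk0 _ 0 w]
      exact (S.wU_inj h).2.1.symm
  have hk : ∀ u, k u 0 = u := by
    intro u
    have h00 : k 0 0 = 0 := by
      have := hkadd 0 0
      rw [add_zero] at this
      linear_combination -this
    by_cases hu : u = 0
    · rw [hu, h00]
    obtain ⟨b, hb | hb⟩ := S.exists_ten_or_neg (u / u₁) (div_ne_zero hu hu₁)
    · have := hkscale b u₁
      rwa [hb, div_mul_cancel₀ _ hu₁, hk₁, div_mul_cancel₀ _ hu₁] at this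
    · have h1 := hkscale b u₁
      rw [hb, neg_mul, div_mul_cancel₀ _ hu₁, hk₁, neg_mul, div_mul_cancel₀ _ hu₁] at h1
      have h2 := hkadd u (-u)
      rw [add_neg_cancel, h00, h1] at h2
      linear_combination -h2
  -- the centre
  have hbot : ∀ v, α (S.wU 0 0 v) = S.wU 0 0 v := by
    intro v
    obtain ⟨a, b, ha⟩ := htop v 0 0
    have h := congrArg α (S.wU_comm_mid v 0 0 1 0)
    rw [map_mul, map_mul, map_mul, map_inv, map_inv, ha, hkl, S.wU_comm_mid, hk, mul_one] at h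
    exact h.symm
  -- the second layer
  have hlowfix : ∀ u v, α (S.wU 0 u v) = S.wU 0 u v := by
    have hb : ∀ u, α (S.wU 0 u 0) = S.wU 0 u (l u 0) := fun u => by rw [hkl, hk]
    have hladd : ∀ u u', l (u + u') 0 = l u 0 + l u' 0 := by
      intro u u'
      have h := congrArg α (S.wU_low_mul u 0 u' 0)
      rw [add_zero, map_mul, hb, hb, hb, S.wU_low_mul] at h
      exact (S.wU_inj h).2.2.symm
    have hl0 : ∀ u, l u 0 = 0 := by
      intro u
      have h := heq (-1) 0 u 0 0 u (l u 0) (hb u)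
      have e10 : (((-1 : Kˣ) ^ S.tauExp 10 : Kˣ) : K) = 1 := by
        have he : Even (S.tauExp 10) := by
          simp only [tauExp]
          norm_num
          exact Odd.mul (by decide : Odd (3 : ℤ)) (by decide : Odd (3 : ℤ)).pow
        rw [he.neg_one_zpow, Units.val_one]
      have e11 : (((-1 : Kˣ) ^ S.tauExp 11 : Kˣ) : K) = -1 := by simp [tauExp]
      rw [e10, e11, mul_zero, mul_zero, one_mul, hb, neg_one_mul] at h
      obtain ⟨-, -, h'⟩ := S.wU_inj h
      linear_combination (-1 : K) * h' + (l u 0) * S.three_zero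
    intro u v
    have h := congrArg α (S.wU_low_mul u 0 0 v)
    rw [add_zero, zero_add, map_mul, hb, hl0, hbot, S.wU_low_mul, add_zero, zero_add] at h
    exact h.symm
  -- the first layer, second coordinate
  choose du dv hd using fun t => htop t 0 0
  have hdadd : ∀ t t', du (t + t') = du t + du t' := by
    intro t t'
    obtain ⟨w, hw⟩ := S.wU_mul t 0 0 t' 0 0
    obtain ⟨U, V, hUV⟩ := S.wU_split (t + t') (0 + 0 - t * t' ^ (3 * 3 ^ m)) w
    obtain ⟨w', hw'⟩ := S.wU_mul (t + t') 0 0 0 U V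
    have hU : U = 0 + 0 - t * t' ^ (3 * 3 ^ m) := by
      have h := hUV
      rw [hw'] at h
      obtain ⟨-, h', -⟩ := S.wU_inj h
      rw [zero_pow (by positivity), mul_zero, sub_zero] at h'
      linear_combination -h'
    have h := congrArg α hw
    rw [hUV, map_mul, map_mul, hd, hd, hd, hlowfix] at h
    obtain ⟨w1, hw1⟩ := S.wU_mul t (du t) (dv t) t' (du t') (dv t')
    obtain ⟨w2, hw2⟩ := S.wU_mul (t + t') (du (t + t')) (dv (t + t')) 0 U V
    rw [hw1, hw2] at h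
    obtain ⟨-, h', -⟩ := S.wU_inj h
    rw [zero_pow (by positivity), mul_zero, sub_zero, hU] at h'
    linear_combination -h'
  have hdu : ∀ t, du t = 0 := by
    intro t
    have e6 : (((-1 : Kˣ) ^ S.tauExp 6 : Kˣ) : K) = -1 := by
      have ho : Odd (S.tauExp 6) := by
        simp only [tauExp, if_true]
        exact Even.sub_odd (by decide) (Odd.mul (by decide) (Odd.pow (by decide)))
      rw [ho.neg_one_zpow, Units.val_neg, Units.val_one]
    have e10 : (((-1 : Kˣ) ^ S.tauExp 10 : Kˣ) : K) = 1 := by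
      have he : Even (S.tauExp 10) := by
        simp only [tauExp]
        norm_num
        exact Odd.mul (by decide : Odd (3 : ℤ)) (by decide : Odd (3 : ℤ)).pow
      rw [he.neg_one_zpow, Units.val_one]
    have h := heq (-1) t 0 0 t (du t) (dv t) (hd t)
    rw [e6, e10, mul_zero, mul_zero, one_mul, neg_one_mul, hd] at h
    obtain ⟨-, h', -⟩ := S.wU_inj h
    have h2 := hdadd t (-t)
    have h00 : du 0 = 0 := by
      have := hdadd 0 0
      rw [add_zero] at this
      linear_combination -this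
    rw [add_neg_cancel, h00, h'] at h2
    linear_combination h2 + du t * S.three_zero
  -- the first layer, last coordinate
  have hη : ∀ x ∈ S.pU, ∃ d, α x = x * S.wU 0 0 d := by
    intro x hx
    obtain ⟨t, u, v, rfl⟩ := S.exists_wU hx
    obtain ⟨U, V, hUV⟩ := S.wU_split t u v
    obtain ⟨T', U', V', h⟩ := S.exists_wU (mul_mem (Subgroup.inv_mem _ (S.wU_mem t 0 0)) (hU _ (S.wU_mem t 0 0)))
    rw [hd, hdu] at h
    obtain ⟨w, hw⟩ := S.wU_mul t 0 0 T' U' V'
    rw [← h, mul_inv_cancel_left] at hw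
    obtain ⟨e1, e2, -⟩ := S.wU_inj hw
    have hT : T' = 0 := by linear_combination -e1
    rw [hT, zero_pow (by positivity), mul_zero, sub_zero, zero_add] at e2
    refine ⟨V', ?_⟩
    rw [hUV, map_mul, hlowfix, hd, hdu, mul_assoc, S.wU_low_mul, add_comm U, add_comm V, ← S.wU_low_mul,
      ← mul_assoc]
    congr 1
    rw [show S.wU 0 0 V' = (S.wU t 0 0)⁻¹ * S.wU t 0 (dv t) by rw [h, hT, ← e2], mul_inv_cancel_left]
  choose! η hη using hη
  have hcentral : ∀ x ∈ S.pU, ∀ d, x * S.wU 0 0 d = S.wU 0 0 d * x := by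
    intro x hx d
    obtain ⟨t, u, v, rfl⟩ := S.exists_wU hx
    have h := S.wU_comm_mid t u v 0 d
    rw [mul_zero, S.wU_zero, mul_inv_eq_one, mul_inv_eq_iff_eq_mul] at h
    exact h
  have hbinj : ∀ d d', S.wU 0 0 d = S.wU 0 0 d' → d = d' := fun d d' h => (S.wU_inj h).2.2
  have hηmul : ∀ x ∈ S.pU, ∀ y ∈ S.pU, η (x * y) = η x + η y := by
    intro x hx y hy
    refine hbinj _ _ (mul_left_cancel (a := x * y) ?_)
    have e := S.wU_low_mul 0 (η x) 0 (η y)
    rw [add_zero] at e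
    rw [← hη _ (mul_mem hx hy), map_mul, hη x hx, hη y hy, ← e]
    calc x * S.wU 0 0 (η x) * (y * S.wU 0 0 (η y)) = x * (S.wU 0 0 (η x) * y) * S.wU 0 0 (η y) := by
          group
      _ = _ := by rw [← hcentral y hy]; group
  have hηlow : ∀ u v, η (S.wU 0 u v) = 0 := by
    intro u v
    refine hbinj _ _ (mul_left_cancel (a := S.wU 0 u v) ?_)
    rw [← hη _ (S.wU_mem _ _ _), hlowfix, S.wU_zero, mul_one]
  set E : K → K := fun t => η (S.wU t 0 0) with hE
  have hEadd : ∀ t t', E (t + t') = E t + E t' := by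
    intro t t'
    obtain ⟨w, hw⟩ := S.wU_mul t 0 0 t' 0 0
    obtain ⟨U, V, hUV⟩ := S.wU_split (t + t') (0 + 0 - t * t' ^ (3 * 3 ^ m)) w
    have h1 := hηmul _ (S.wU_mem t 0 0) _ (S.wU_mem t' 0 0)
    rw [hw, hUV, hηmul _ (S.wU_mem _ 0 0) _ (S.wU_mem 0 U V), hηlow, add_zero] at h1
    exact h1
  have hEscale : ∀ (b : Kˣ) t, E (((b ^ S.tauExp 6 : Kˣ) : K) * t) = ((b ^ S.tauExp 11 : Kˣ) : K) * E t := by
    intro b t
    refine hbinj _ _ (mul_left_cancel (a := S.wU (((b ^ S.tauExp 6 : Kˣ) : K) * t) 0 0) ?_)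
    rw [hE, ← hη _ (S.wU_mem _ _ _)]
    have h := congrArg (fun y => S.tauG b * y * (S.tauG b)⁻¹) (hη _ (S.wU_mem t 0 0))
    rw [show S.tauG b * α (S.wU t 0 0) * (S.tauG b)⁻¹ = α (S.tauG b * S.wU t 0 0 * (S.tauG b)⁻¹) by
        rw [map_mul, map_mul, map_inv, hτ],
      show S.tauG b * (S.wU t 0 0 * S.wU 0 0 (η (S.wU t 0 0))) * (S.tauG b)⁻¹ =
        (S.tauG b * S.wU t 0 0 * (S.tauG b)⁻¹) * (S.tauG b * S.wU 0 0 (η (S.wU t 0 0)) * (S.tauG b)⁻¹) by
          group,
      S.tau_conj_wU, S.tau_conj_wU, mul_zero, mul_zero, mul_zero] at h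
    exact h
  obtain ⟨e, he⟩ : ∃ e : ℕ, e = 3 ^ m := ⟨_, rfl⟩
  have he3 : 3 ≤ e := he ▸ Nat.le_self_pow (by omega) 3
  have hpow : ∀ x : K, x ≠ 0 → E x = x ^ (3 * e + 2) * E 1 := by
    intro x hx
    obtain ⟨b, hb⟩ := S.exists_exp_six (Units.mk0 x hx)
    have h := hEscale b 1
    rw [mul_one, hb, Units.val_mk0] at h
    rw [h]
    congr 1
    have hbx : x = ((b ^ S.tauExp 6 : Kˣ) : K) := by rw [hb, Units.val_mk0]
    rw [hbx, ← Units.val_pow_eq_pow_val]
    congr 1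
    rw [← zpow_natCast, ← zpow_mul]
    have hq : b ^ (3 * (3 ^ m : ℤ) * 3 ^ m - 1) = 1 := S.unit_pow_sub_one b
    have hexp : S.tauExp 6 * ((3 * e + 2 : ℕ) : ℤ) =
        S.tauExp 11 + (3 * (3 ^ m : ℤ) * 3 ^ m - 1) * (-3) := by
      rw [he]; simp [tauExp]; ring
    rw [hexp, zpow_add, zpow_mul, hq, one_zpow, mul_one]
  have hE0 : ∀ t, E t = 0 := by
    have h00 : E 0 = 0 := by
      have := hEadd 0 0
      rw [add_zero] at this
      linear_combination -this
    suffices h1 : E 1 = 0 by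
      intro t
      by_cases ht : t = 0
      · rw [ht, h00]
      · rw [hpow t ht, h1, mul_zero]
    obtain ⟨x, hx0, hx1, hx⟩ := exists_not_additive (F := K) (c := 3 * e + 2) (by omega) (by omega) (by
      rw [S.card, show 2 * m + 1 = 1 + m + m by ring, _root_.pow_add, _root_.pow_add, pow_one, ← he]
      have h1 : 3 * e * 3 ≤ 3 * e * e := Nat.mul_le_mul_left _ he3
      omega)
    have h := hEadd x 1
    rw [hpow _ hx1, hpow _ hx0] at h
    have h' : ((x + 1) ^ (3 * e + 2) - x ^ (3 * e + 2) - 1) * E 1 = 0 := by linear_combination h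
    refine (mul_eq_zero.1 h').resolve_left fun e0 => hx ?_
    linear_combination e0
  intro x hx
  obtain ⟨t, u, v, rfl⟩ := S.exists_wU hx
  obtain ⟨U, V, hUV⟩ := S.wU_split t u v
  rw [hη _ hx, hUV, hηmul _ (S.wU_mem _ _ _) _ (S.wU_mem _ _ _), hηlow, add_zero]
  show _ * S.wU 0 0 (E t) = _
  rw [hE0, S.wU_zero, mul_one]

/-- The torus element as a product of the involution and a diagonal element of `SL₂`. -/
theorem tauG_decomp (b : Kˣ) :
    ∃ t : Kˣ, S.tauG b = S.psiG (slD t) ∨ S.tauG b = S.invol * S.psiG (slD t) := by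
  have e1 : ∀ t : Kˣ, S.psiG (slD t) = S.tauG (t ^ (3 * 3 ^ m + 1)) := fun t => Subtype.ext (S.psi_slD t)
  have key : ∀ a : Kˣ, IsSquare ((a : K)) → ∃ t : Kˣ, a = t ^ (3 * 3 ^ m + 1) := by
    rintro a ⟨c, hc⟩
    have hc0 : c ≠ 0 := left_ne_zero_of_mul (hc ▸ a.ne_zero)
    refine ⟨(Units.mk0 c hc0) ^ (3 * (3 ^ m : ℤ) - 1), ?_⟩
    rw [← zpow_natCast (_ ^ (3 * (3 ^ m : ℤ) - 1)), ← zpow_mul,
      show (3 * (3 ^ m : ℤ) - 1) * ((3 * 3 ^ m + 1 : ℕ) : ℤ) = (2 : ℤ) + (3 * (3 ^ m : ℤ) * 3 ^ m - 1) * 3 by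
        push_cast; ring, zpow_add, zpow_mul, S.unit_pow_sub_one, one_zpow, mul_one, zpow_two]
    exact Units.ext hc
  by_cases hs : IsSquare (b : K)
  · obtain ⟨t, ht⟩ := key b hs
    exact ⟨t, Or.inl (by rw [e1, ← ht])⟩
  · have hchar : ringChar K ≠ 2 := by
      rw [(ringChar.eq_iff).2 S.char]; norm_num
    have hs' : IsSquare ((-b : Kˣ) : K) := by
      rw [Units.val_neg, FiniteField.isSquare_iff hchar (neg_ne_zero.2 b.ne_zero), neg_pow]
      rw [FiniteField.isSquare_iff hchar b.ne_zero] at hs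
      rcases FiniteField.pow_dichotomy hchar b.ne_zero with h | h
      · exact absurd h hs
      · rw [h]
        have hodd : Odd (Fintype.card K / 2) := by
          have := S.half_odd (m := m)
          have hq : Fintype.card K % 2 = 1 := FiniteField.odd_card_of_char_ne_two hchar
          rw [← S.card] at this
          rwa [show Fintype.card K / 2 = (Fintype.card K - 1) / 2 by omega]
        rw [hodd.neg_one_pow]
        ring
    obtain ⟨t, ht⟩ := key (-b) hs'
    refine ⟨t, Or.inr ?_⟩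
    rw [e1, ← ht, show S.invol = S.tauG (-1) from rfl, ← map_mul, neg_mul_neg, one_mul]

/-- An automorphism fixing the Borel subgroup pointwise is trivial. -/
theorem eq_one_of_fix (hm : 1 ≤ m) {α : MulAut ↥(twistedG2 K (3 ^ m))}
    (hτ : ∀ b, α (S.tauG b) = S.tauG b) (hU : ∀ x ∈ S.pU, α x = x) : α = 1 := by
  classical
  obtain ⟨hq27, -, -, -, -, -⟩ := S.arith hm
  have hB : ∀ x ∈ S.pB, α x = x := fun x hx => by
    obtain ⟨y, c, hy, he, -⟩ := S.exists_pB_scalar hx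
    rw [he, map_mul, hU y hy, hτ]
  obtain ⟨g₀, hg₀⟩ := IsCyclic.exists_generator (α := Kˣ)
  have hg2 : g₀ * g₀ ≠ 1 := by
    intro h
    have h1 : orderOf g₀ ∣ 2 := orderOf_dvd_of_pow_eq_one (by rw [sq, h])
    rw [orderOf_eq_card_of_forall_mem_zpowers hg₀, S.card_units_K] at h1
    have := Nat.le_of_dvd (by norm_num) h1
    omega
  set W := S.psiG slW with hW
  have hWB : W ∉ S.pB := fun h => S.psi_W_not_borel (S.mem_pB.1 h)
  -- `W` inverts the torus up to the torus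
  have hWN : W ∈ S.splitN := by
    refine S.conj_mem_splitN (S.sq_pow_ne hg2) ?_
    have e1 : ∀ t : Kˣ, S.psiG (slD t) = S.tauG (t ^ (3 * 3 ^ m + 1)) := fun t => Subtype.ext (S.psi_slD t)
    have e : W * S.tauG (g₀ ^ (3 * 3 ^ m + 1)) * W⁻¹ = S.tauG (g₀⁻¹ ^ (3 * 3 ^ m + 1)) := by
      rw [hW, ← e1, ← e1, ← map_inv, ← map_mul, ← map_mul]
      congr 1
      apply Subtype.ext
      simp only [Matrix.SpecialLinearGroup.coe_mul, Matrix.SpecialLinearGroup.coe_inv]
      ext i j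
      fin_cases i <;> fin_cases j <;>
        simp [slW, slD, Matrix.mul_apply, Fin.sum_univ_two, Matrix.adjugate_fin_two]
    rw [e]
    exact ⟨_, rfl⟩
  have hW' : S.omegaG⁻¹ * W ∈ S.tauG.range := hWN.resolve_left fun h => hWB (S.tauG_pB_of h)
  have hαW : S.omegaG⁻¹ * α W ∈ S.tauG.range := by
    have hN : α W ∈ S.splitN := by
      refine S.conj_mem_splitN hg2 ?_
      obtain ⟨b, hb⟩ := S.splitN_normalizes hWN (⟨g₀, rfl⟩ : S.tauG g₀ ∈ S.tauG.range)
      refine ⟨b, ?_⟩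
      rw [← hτ b, hb, map_mul, map_mul, map_inv, hτ]
    refine hN.resolve_left fun h => hWB ?_
    have h1 := S.tauG_pB_of h
    have : α (α W) = α W := hB _ h1
    exact α.injective this ▸ h1
  obtain ⟨b, hb⟩ := mul_mem (Subgroup.inv_mem _ hW') hαW
  rw [show (S.omegaG⁻¹ * W)⁻¹ * (S.omegaG⁻¹ * α W) = W⁻¹ * α W by group] at hb
  have hαW' : α W = W * S.tauG b := by rw [hb, mul_inv_cancel_left]
  -- the relation
  set U₁ := S.psiG (slU (1 : K)) with hU₁
  have hU₁U : U₁ ∈ S.pU := Subgroup.mem_subgroupOf.2 (S.psi_slU_pos 1)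
  have hrel : (U₁ * W) ^ 3 = 1 := by
    rw [hU₁, hW, ← map_mul, ← map_pow]
    refine S.psiG_eq_one.2 (Or.inl (Subtype.ext ?_))
    rw [Matrix.SpecialLinearGroup.coe_pow, Matrix.SpecialLinearGroup.coe_mul]
    ext i j
    fin_cases i <;> fin_cases j <;> simp [slU, slW, slD, pow_succ, Matrix.mul_apply, Fin.sum_univ_two]
  have hrel' : (U₁ * (W * S.tauG b)) ^ 3 = 1 := by
    rw [← hαW', ← hU U₁ hU₁U, ← map_mul, ← map_pow, hrel, map_one]
  obtain ⟨t, ht⟩ := S.tauG_decomp b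
  set M : Matrix.SpecialLinearGroup (Fin 2) K := slU 1 * (slW * slD t) with hM
  have hMP : U₁ * (W * S.psiG (slD t)) = S.psiG M := by rw [hU₁, hW, hM, map_mul, map_mul]
  have hzc : ∀ A, Commute S.invol (S.psiG A) := fun A => S.invol_commute_psiG A
  have hcase : S.tauG b = S.psiG (slD t) := by
    refine ht.resolve_right fun h => ?_
    rw [h, show U₁ * (W * (S.invol * S.psiG (slD t))) = S.invol * S.psiG M by
      rw [← hMP, hU₁, hW]
      rw [← mul_assoc (S.psiG slW), ← (hzc slW).eq, mul_assoc S.invol, ← mul_assoc (S.psiG (slU 1)),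
        ← (hzc (slU 1)).eq, mul_assoc], (hzc M).mul_pow, ← map_pow, pow_three, S.invol_sq, mul_one,
      mul_eq_one_iff_eq_inv] at hrel'
    exact S.invol_not_range (hrel' ▸ Subgroup.inv_mem _ ⟨_, rfl⟩)
  rw [hcase, hMP, ← map_pow] at hrel'
  have ht1 : (t : K) = 1 ∨ (t : K) = -1 := by
    have h01 : (M ^ 3).1 0 1 = 0 := by
      rcases S.psiG_eq_one.1 hrel' with e | e <;> rw [e] <;> simp [slD]
    rw [Matrix.SpecialLinearGroup.coe_pow, hM, Matrix.SpecialLinearGroup.coe_mul,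
      Matrix.SpecialLinearGroup.coe_mul] at h01
    simp [slU, slW, slD, pow_succ, Matrix.mul_apply, Fin.sum_univ_two] at h01
    have h2 : (t : K) ^ 2 = 1 := by
      field_simp at h01
      linear_combination h01
    exact sq_eq_one_iff.1 h2
  have hτb : S.tauG b = 1 := by
    rw [hcase]
    refine S.psiG_eq_one.2 ?_
    rcases ht1 with h | h
    · left
      apply Subtype.ext
      ext i j
      fin_cases i <;> fin_cases j <;> simp [slD, h]
    · right
      rw [show t = -1 from Units.ext (by simpa using h)]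
  rw [hτb, mul_one] at hαW'
  have hω : α S.omegaG = S.omegaG := by
    obtain ⟨c, hc⟩ := hW'
    have e : S.omegaG = W * (S.tauG c)⁻¹ := by rw [hc]; group
    rw [e, map_mul, map_inv, hαW', hτ]
  refine MulEquiv.ext fun x => ?_
  rcases S.cell x.2 with h | ⟨u, hu, y, hy, he⟩
  · exact hB x (S.mem_pB.2 h)
  · rw [show x = ⟨u, hu.2⟩ * S.omegaG * ⟨y, hy.2⟩ from Subtype.ext he, map_mul, map_mul, hω,
      hU _ (Subgroup.mem_subgroupOf.2 hu), hB _ (S.mem_pB.2 hy), MulAut.one_apply]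

/-- Every automorphism is inner times field. -/
theorem exists_conj_field (hm : 1 ≤ m) (φ : MulAut ↥(twistedG2 K (3 ^ m))) :
    ∃ g σ, φ = MulAut.conj g * fieldAut K (3 ^ m) σ := by
  classical
  obtain ⟨hq27, -, -, -, -, -⟩ := S.arith hm
  obtain ⟨g, hg⟩ := S.exists_conj_pU φ
  set α := MulAut.conj g * φ with hα
  have hαU : ∀ x, x ∈ S.pU ↔ α x ∈ S.pU := hg
  have hαB : ∀ x ∈ S.pB, α x ∈ S.pB := by
    intro x hx
    rw [← S.normalizer_pU, Subgroup.mem_normalizer_iff] at hx ⊢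
    intro y
    obtain ⟨y, rfl⟩ := α.surjective y
    rw [← hαU, hx y, hαU, map_mul, map_mul, map_inv]
  -- the first coordinate
  choose f fu fv hf using fun t => S.exists_wU ((hαU _).1 (S.wU_mem t 0 0))
  have hlow : ∀ u v, ∃ u' v', α (S.wU 0 u v) = S.wU 0 u' v' := by
    intro u v
    obtain ⟨T, U, V, h⟩ := S.exists_wU ((hαU _).1 (S.wU_mem 0 u v))
    have h3 : S.wU T U V ^ 3 = 1 := by rw [← h, ← map_pow, (S.wU_cube 0 u v).2 rfl, map_one]
    rw [(S.wU_cube T U V).1 h3] at h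
    exact ⟨U, V, h⟩
  have hfgen : ∀ t u v, ∃ u' v', α (S.wU t u v) = S.wU (f t) u' v' := by
    intro t u v
    obtain ⟨U, V, hUV⟩ := S.wU_split t u v
    obtain ⟨U', V', hl⟩ := hlow U V
    obtain ⟨w, hw⟩ := S.wU_mul (f t) (fu t) (fv t) 0 U' V'
    refine ⟨fu t + U' - f t * (0 : K) ^ (3 * 3 ^ m), w, ?_⟩
    rw [hUV, map_mul, hf, hl, hw, add_zero]
  have hfadd : ∀ t t', f (t + t') = f t + f t' := by
    intro t t'
    obtain ⟨w, hw⟩ := S.wU_mul t 0 0 t' 0 0
    obtain ⟨a, b, hab⟩ := hfgen (t + t') (0 + 0 - t * t' ^ (3 * 3 ^ m)) w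
    obtain ⟨w', hw'⟩ := S.wU_mul (f t) (fu t) (fv t) (f t') (fu t') (fv t')
    have h := congrArg α hw
    rw [map_mul, hf, hf, hw', hab] at h
    exact (S.wU_inj h).1.symm
  have hf0 : f 0 = 0 := by
    have := hfadd 0 0
    rw [add_zero] at this
    linear_combination -this
  have hfne : ∀ t, t ≠ 0 → f t ≠ 0 := by
    intro t ht h
    refine ht ((S.wU_cube t 0 0).1 (α.injective ?_))
    rw [map_pow, hf, h, (S.wU_cube 0 _ _).2 rfl, map_one]
  have hscale : ∀ a : K, ∃ c : K, ∀ t, f (a * t) = c * f t := by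
    intro a
    by_cases ha : a = 0
    · exact ⟨0, fun t => by rw [ha, zero_mul, zero_mul, hf0]⟩
    obtain ⟨b, hb⟩ := S.exists_exp_six (Units.mk0 a ha)
    obtain ⟨y, c, -, -, hc⟩ := S.exists_pB_scalar (hαB _ (S.tauG_pB b))
    refine ⟨((c ^ S.tauExp 6 : Kˣ) : K), fun t => ?_⟩
    obtain ⟨a1, b1, h1⟩ := hc (f t) (fu t) (fv t)
    obtain ⟨a2, b2, h2⟩ := hfgen (((b ^ S.tauExp 6 : Kˣ) : K) * t) (((b ^ S.tauExp 10 : Kˣ) : K) * 0)
      (((b ^ S.tauExp 11 : Kˣ) : K) * 0)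
    rw [← S.tau_conj_wU, map_mul, map_mul, map_inv, hf, h1] at h2
    have := (S.wU_inj h2).1
    rw [hb, Units.val_mk0] at this
    exact this.symm
  set f1 := f 1 with hf1
  have hf1ne : f1 ≠ 0 := hfne 1 one_ne_zero
  set s : K → K := fun t => f t / f1 with hs
  have hsmul : ∀ a t, s (a * t) = s a * s t := by
    intro a t
    obtain ⟨c, hc⟩ := hscale a
    have h1 := hc 1
    rw [mul_one, ← hf1] at h1
    simp only [hs]
    rw [hc t, h1]
    field_simp
  have hsinj : Function.Injective s := by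
    intro a a' h
    simp only [hs] at h
    rw [div_left_inj' hf1ne] at h
    by_contra hne
    refine hfne (a - a') (sub_ne_zero.2 hne) ?_
    have := hfadd (a - a') a'
    rw [sub_add_cancel, h] at this
    linear_combination -this
  let σ : K ≃+* K := RingEquiv.ofBijective
    ({ toFun := s
       map_one' := by simp [hs, ← hf1, hf1ne]
       map_mul' := hsmul
       map_zero' := by simp [hs, hf0]
       map_add' := fun a a' => by simp only [hs]; rw [hfadd, add_div] } : K →+* K)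
    (Finite.injective_iff_bijective.1 hsinj)
  have hσ : ∀ t, σ t = f t / f1 := fun t => rfl
  obtain ⟨c, hc⟩ := S.exists_exp_six (Units.mk0 f1 hf1ne)⁻¹
  set β := (fieldAut K (3 ^ m) σ)⁻¹ * (MulAut.conj (S.tauG c) * α) with hβ
  have hβ1 : ∀ t u v, ∃ u' v', β (S.wU t u v) = S.wU t u' v' := by
    intro t u v
    obtain ⟨a, b, h⟩ := hfgen t u v
    refine ⟨σ.symm (((c ^ S.tauExp 10 : Kˣ) : K) * a), σ.symm (((c ^ S.tauExp 11 : Kˣ) : K) * b), ?_⟩
    rw [hβ, MulAut.mul_apply, MulAut.mul_apply, MulAut.conj_apply, h, S.tau_conj_wU,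
      MulAut.inv_apply, MulEquiv.symm_apply_eq, S.fieldAut_wU, σ.apply_symm_apply, σ.apply_symm_apply]
    congr 1
    rw [hσ, hc, Units.val_inv_eq_inv_val, Units.val_mk0, inv_mul_eq_div]
  have hβU : ∀ x ∈ S.pU, β x ∈ S.pU := by
    intro x hx
    obtain ⟨t, u, v, rfl⟩ := S.exists_wU hx
    obtain ⟨a, b, h⟩ := hβ1 t u v
    rw [h]; exact S.wU_mem _ _ _
  have hβUiff : ∀ x, β x ∈ S.pU → x ∈ S.pU := by
    intro x hx
    let F : ↥S.pU → ↥S.pU := fun y => ⟨β y, hβU y y.2⟩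
    have hF : Function.Injective F := fun a b h => Subtype.ext (β.injective (congrArg Subtype.val h))
    obtain ⟨y, hy⟩ := Finite.surjective_of_injective hF ⟨β x, hx⟩
    have : (y : ↥(twistedG2 K (3 ^ m))) = x := β.injective (congrArg Subtype.val hy)
    exact this ▸ y.2
  have hβB : ∀ x ∈ S.pB, β x ∈ S.pB := by
    intro x hx
    rw [← S.normalizer_pU, Subgroup.mem_normalizer_iff] at hx ⊢
    intro y
    obtain ⟨y, rfl⟩ := β.surjective y
    rw [← map_inv, ← map_mul, ← map_mul]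
    exact ⟨fun h => hβU _ ((hx y).1 (hβUiff _ h)), fun h => hβU _ ((hx y).2 (hβUiff _ h))⟩
  obtain ⟨g₀, hg₀⟩ := IsCyclic.exists_generator (α := Kˣ)
  have hg2 : g₀ * g₀ ≠ 1 := by
    intro h
    have h1 : orderOf g₀ ∣ 2 := orderOf_dvd_of_pow_eq_one (by rw [sq, h])
    rw [orderOf_eq_card_of_forall_mem_zpowers hg₀, S.card_units_K] at h1
    have := Nat.le_of_dvd (by norm_num) h1
    omega
  obtain ⟨y, b, hy, hyb, hsc⟩ := S.exists_pB_scalar (hβB _ (S.tauG_pB g₀))
  have hbg : b = g₀ := by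
    obtain ⟨a1, b1, h1⟩ := hsc 1 0 0
    obtain ⟨a0, b0, h0⟩ := hβ1 1 0 0
    obtain ⟨a2, b2, h2⟩ := hβ1 (((g₀ ^ S.tauExp 6 : Kˣ) : K) * 1) (((g₀ ^ S.tauExp 10 : Kˣ) : K) * 0)
      (((g₀ ^ S.tauExp 11 : Kˣ) : K) * 0)
    obtain ⟨a3, b3, h3⟩ := hsc 1 a0 b0
    rw [← S.tau_conj_wU, map_mul, map_mul, map_inv, h0, h3] at h2
    have h4 := (S.wU_inj h2).1
    rw [mul_one, mul_one] at h4
    have h5 : b ^ S.tauExp 6 = g₀ ^ S.tauExp 6 := Units.ext h4
    obtain ⟨-, hinj⟩ : True ∧ Function.Injective (fun x : Kˣ => x ^ S.tauExp 6) :=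
      ⟨trivial, Finite.injective_iff_surjective.2 S.exists_exp_six⟩
    exact hinj h5
  subst hbg
  obtain ⟨u, hu, hue⟩ : ∃ u ∈ S.pU, u * S.tauG b * u⁻¹ * (S.tauG b)⁻¹ = y := by
    let F : ↥S.pU → ↥S.pU := fun u => ⟨u * S.tauG b * (u : ↥(twistedG2 K (3 ^ m)))⁻¹ * (S.tauG b)⁻¹, by
      rw [mul_assoc (u : ↥(twistedG2 K (3 ^ m))), mul_assoc (u : ↥(twistedG2 K (3 ^ m)))]
      exact mul_mem u.2 (S.pB_normalizes (S.tauG_pB b) (Subgroup.inv_mem _ u.2))⟩
    have hF : Function.Injective F := by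
      intro p q h
      have h' : (p : ↥(twistedG2 K (3 ^ m))) * S.tauG b * (p : ↥(twistedG2 K (3 ^ m)))⁻¹ =
          q * S.tauG b * (q : ↥(twistedG2 K (3 ^ m)))⁻¹ := mul_right_cancel (congrArg Subtype.val h)
      have hc' : (q : ↥(twistedG2 K (3 ^ m)))⁻¹ * p ∈ Subgroup.centralizer {S.tauG b} := by
        rw [Subgroup.mem_centralizer_singleton_iff]
        calc (q : ↥(twistedG2 K (3 ^ m)))⁻¹ * p * S.tauG b
            = (q : ↥(twistedG2 K (3 ^ m)))⁻¹ * (p * S.tauG b * (p : ↥(twistedG2 K (3 ^ m)))⁻¹) * p := by group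
          _ = S.tauG b * ((q : ↥(twistedG2 K (3 ^ m)))⁻¹ * p) := by rw [h']; group
      rw [S.centralizer_tauG hg2] at hc'
      have hUm := mul_mem (Subgroup.inv_mem _ q.2) p.2
      obtain ⟨d, hd⟩ := hc'
      have h1 : ((q : ↥(twistedG2 K (3 ^ m)))⁻¹ * p : ↥(twistedG2 K (3 ^ m))) = 1 := by
        refine Subtype.ext ?_
        have hmem : (((q : ↥(twistedG2 K (3 ^ m)))⁻¹ * p : ↥(twistedG2 K (3 ^ m))) : GL chevG2.Idx K) ∈
            chevG2.posUnipotent K ⊓ chevG2.diagonalSubgroup K :=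
          ⟨(Subgroup.mem_subgroupOf.1 hUm).1, by rw [← hd, coe_tauG]; exact (S.tauHom_mem d).1⟩
        rwa [goodG2.pos_inf_diagonal, Subgroup.mem_bot] at hmem
      exact Subtype.ext (inv_mul_eq_one.1 h1).symm
    obtain ⟨u, hu⟩ := Finite.surjective_of_injective hF ⟨y, hy⟩
    exact ⟨u, u.2, congrArg Subtype.val hu⟩
  set γ := (MulAut.conj u)⁻¹ * β with hγ
  have hγτ : ∀ d, γ (S.tauG d) = S.tauG d := by
    have h0 : γ (S.tauG b) = S.tauG b := by
      rw [hγ, MulAut.mul_apply, hyb, MulAut.inv_apply, MulAut.conj_symm_apply, ← hue]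
      group
    intro d
    obtain ⟨i, rfl⟩ := hg₀ d
    rw [map_zpow, map_zpow, h0]
  have hγtop : ∀ t u' v', ∃ a a', γ (S.wU t u' v') = S.wU t a a' := by
    intro t u' v'
    obtain ⟨a, a', h⟩ := hβ1 t u' v'
    obtain ⟨T, U, V, hu'⟩ := S.exists_wU hu
    obtain ⟨Ui, hUi⟩ := S.wU_inv T U V
    obtain ⟨w1, h1⟩ := S.wU_mul (-T) (-U - T * T ^ (3 * 3 ^ m)) Ui t a a'
    obtain ⟨w2, h2⟩ := S.wU_mul (-T + t) (-U - T * T ^ (3 * 3 ^ m) + a - -T * t ^ (3 * 3 ^ m)) w1 T U V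
    refine ⟨-U - T * T ^ (3 * 3 ^ m) + a - -T * t ^ (3 * 3 ^ m) + U - (-T + t) * T ^ (3 * 3 ^ m), w2, ?_⟩
    rw [hγ, MulAut.mul_apply, h, MulAut.inv_apply, MulAut.conj_symm_apply, hu', hUi, h1, h2]
    congr 1
    ring
  have hγU : ∀ x ∈ S.pU, γ x ∈ S.pU := by
    intro x hx
    obtain ⟨t, a, a', rfl⟩ := S.exists_wU hx
    obtain ⟨p, p', h⟩ := hγtop t a a'
    rw [h]; exact S.wU_mem _ _ _
  have hγ1 : γ = 1 := S.eq_one_of_fix hm hγτ (S.fix_pU hm hγτ hγU hγtop)
  have hβu : β = MulAut.conj u := by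
    rw [hγ, inv_mul_eq_one] at hγ1
    exact hγ1.symm
  refine ⟨g⁻¹ * (S.tauG c)⁻¹ * fieldAut K (3 ^ m) σ u, σ, ?_⟩
  have e : φ = (MulAut.conj g)⁻¹ * (MulAut.conj (S.tauG c))⁻¹ * (fieldAut K (3 ^ m) σ * β) := by
    rw [hβ, mul_inv_cancel_left, hα]; group
  rw [e, hβu]
  refine MulEquiv.ext fun x => ?_
  simp only [MulAut.mul_apply, MulAut.inv_apply, MulAut.conj_symm_apply, MulAut.conj_apply, map_mul, map_inv]

/-- Field automorphisms are not inner. -/
theorem field_eq_one {σ : K ≃+* K} {g : ↥(twistedG2 K (3 ^ m))}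
    (h : MulAut.conj g = fieldAut K (3 ^ m) σ) : σ = 1 := by
  have key : ∀ t u v, g * S.wU t u v * g⁻¹ = S.wU (σ t) (σ u) (σ v) := fun t u v => by
    rw [← MulAut.conj_apply, h, S.fieldAut_wU]
  have hg : g ∈ S.pB := by
    rw [← S.normalizer_pU, Subgroup.mem_normalizer_iff]
    intro x
    constructor
    · intro hx
      obtain ⟨t, u, v, rfl⟩ := S.exists_wU hx
      rw [key]; exact S.wU_mem _ _ _
    · intro hx
      obtain ⟨t, u, v, he⟩ := S.exists_wU hx
      have h' := key (σ.symm t) (σ.symm u) (σ.symm v)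
      rw [σ.apply_symm_apply, σ.apply_symm_apply, σ.apply_symm_apply, ← he] at h'
      rw [← mul_left_cancel (mul_right_cancel h')]
      exact S.wU_mem _ _ _
  obtain ⟨y, c, -, -, hc⟩ := S.exists_pB_scalar hg
  refine RingEquiv.ext fun t => ?_
  obtain ⟨a, b, hab⟩ := hc t 0 0
  obtain ⟨a', b', hab'⟩ := hc 1 0 0
  rw [key] at hab hab'
  obtain ⟨e1, -, -⟩ := S.wU_inj hab
  obtain ⟨e2, -, -⟩ := S.wU_inj hab'
  rw [mul_one, map_one] at e2
  rw [e1, ← e2, one_mul, RingAut.one_apply]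

/-- The outer automorphism group has the order of the Galois group. -/
theorem card_out (hm : 1 ≤ m) :
    Nat.card (Cfsg.Out ↥(twistedG2 K (3 ^ m))) = Nat.card (K ≃+* K) := by
  refine (Nat.card_eq_of_bijective
    ((QuotientGroup.mk' (Cfsg.Inn ↥(twistedG2 K (3 ^ m)))).comp (fieldAut K (3 ^ m))) ⟨?_, ?_⟩).symm
  · rw [injective_iff_map_eq_one]
    intro σ hσ
    obtain ⟨g, hg⟩ := (QuotientGroup.eq_one_iff _).1 hσ
    exact S.field_eq_one hg
  · intro x
    obtain ⟨φ, rfl⟩ := QuotientGroup.mk_surjective x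
    obtain ⟨g, σ, rfl⟩ := S.exists_conj_field hm φ
    refine ⟨σ, ?_⟩
    show QuotientGroup.mk (fieldAut K (3 ^ m) σ) = _
    rw [QuotientGroup.eq, ← mul_assoc]
    refine ⟨(fieldAut K (3 ^ m) σ)⁻¹ g, MulEquiv.ext fun z => ?_⟩
    simp only [MulAut.mul_apply, MulAut.inv_apply, MulAut.conj_apply, map_mul, map_inv,
      MulEquiv.symm_apply_apply]

end SetupG2

end CfsgLib.Chev
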