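import Mathlib
import Cfsg.Agent.Lib.Chev.ReeTori
import Cfsg.Agent.Lib.Chev.EightSeven
import Cfsg.Agent.Lib.OddLocal.QuadPair

/-!
Solvable subgroups of ²G₂(q) lie in local normalisers.
-/

set_option autoImplicit false
set_option maxHeartbeats 800000
set_option maxRecDepth 100000
set_option linter.unusedSectionVars false

namespace CfsgLib.Chev

open Cfsg.Lie

/-- A non-trivial solvable subgroup normalises a non-trivial `l`-subgroup of itself. -/
theorem exists_pgroup_normalised {G : Type*} [Group G] [Finite G] {Y : Subgroup G}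
    [Group.IsSolvable Y] (hY : Y ≠ ⊥) :
    ∃ l : ℕ, l.Prime ∧ ∃ E : Subgroup G, E ≠ ⊥ ∧ E ≤ Y ∧ IsPGroup l ↥E ∧
      Y ≤ Subgroup.normalizer (E : Set G) := by
  have : Nontrivial Y := (Subgroup.nontrivial_iff_ne_bot Y).2 hY
  obtain ⟨D, hDn, hD1, hDc⟩ := CfsgLib.OddLocal.exists_abelian_normal Y
  obtain ⟨l, hl, hld⟩ := Nat.exists_prime_and_dvd (fun h => hD1 (Subgroup.card_eq_one.mp h) : Nat.card ↥D ≠ 1)
  have := Fact.mk hl
  obtain ⟨P⟩ : Nonempty (Sylow l ↥D) := inferInstance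
  let : CommGroup ↥D := { (inferInstance : Group ↥D) with mul_comm := hDc.is_comm.comm }
  have hPn : (P : Subgroup ↥D).Normal := inferInstance
  have hPc : (P : Subgroup ↥D).Characteristic := P.characteristic_of_normal hPn
  refine ⟨l, hl, ((P : Subgroup ↥D).map D.subtype).map Y.subtype, ?_, Subgroup.map_subtype_le _,
    (P.2.map _).map _, ?_⟩
  · rw [Ne, Subgroup.map_eq_bot_iff_of_injective _ Y.subtype_injective,
      Subgroup.map_eq_bot_iff_of_injective _ D.subtype_injective]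
    exact P.ne_bot_of_dvd_card hld
  · refine (Subgroup.normal_subgroupOf_iff_le_normalizer (Subgroup.map_subtype_le _)).1 ?_
    rw [Subgroup.subgroupOf, Subgroup.comap_map_eq_self_of_injective Y.subtype_injective]
    infer_instance

/-- The normaliser of a conjugate. -/
theorem le_normalizer_map {G : Type*} [Group G] (g : G) {E A : Subgroup G} {H : Subgroup G}
    (h : Subgroup.normalizer ((E.map (MulAut.conj g).toMonoidHom : Subgroup G) : Set G) =
      Subgroup.normalizer (A : Set G)) (hH : H ≤ Subgroup.normalizer (E : Set G)) :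
    H ≤ Subgroup.normalizer ((A.map (MulAut.conj g⁻¹).toMonoidHom : Subgroup G) : Set G) := by
  intro x hx
  have hxE := hH hx
  rw [← Subgroup.map_equiv_normalizer_eq, ← h, ← Subgroup.map_equiv_normalizer_eq]
  refine ⟨g * x * g⁻¹, ⟨x, hxE, by simp⟩, by simp [mul_assoc]⟩

namespace SetupG2

variable {K : Type*} [Field K] [Fintype K] {m : ℕ} (S : SetupG2 K m)
include S

/-- The four-group has four elements. -/
theorem card_fourV : Nat.card ↥S.fourV = 4 := by
  have e : (S.fourV : Set ↥(twistedG2 K (3 ^ m))) = {1, S.invol, S.psiG slW, S.invol * S.psiG slW} := by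
    ext g; simp [SetLike.mem_coe, mem_fourV]
  show Nat.card (S.fourV : Set ↥(twistedG2 K (3 ^ m))) = 4
  rw [e, Nat.card_coe_set_eq, Set.ncard_eq_four]
  exact ⟨_, _, _, _, S.invol_ne.symm, S.w_ne_one.symm,
    fun h => S.w_ne_invol ((eq_inv_of_mul_eq_one_right h.symm).trans
      (inv_eq_of_mul_eq_one_right S.invol_sq)), S.w_ne_invol.symm,
    fun h => S.w_ne_one (mul_eq_left.1 h.symm), fun h => S.invol_ne (mul_eq_right.1 h.symm), rfl⟩

/-- The subgroups of order four are conjugate. -/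
theorem four_conj (hm : 1 ≤ m) {E : Subgroup ↥(twistedG2 K (3 ^ m))} (hE : Nat.card ↥E = 4) :
    ∃ g, E.map (MulAut.conj g).toMonoidHom = S.fourV := by
  classical
  have := Fact.mk Nat.prime_two
  have := Fact.mk (by norm_num : Nat.Prime 7)
  obtain ⟨P, hP⟩ := S.fourV_pgroup.exists_le_sylow
  obtain ⟨Q, hQ⟩ := (IsPGroup.of_card (p := 2) (n := 2) (by rw [hE]; norm_num) :
    IsPGroup 2 ↥E).exists_le_sylow
  obtain ⟨a, ha⟩ := MulAction.exists_smul_eq ↥(twistedG2 K (3 ^ m)) Q P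
  obtain ⟨hC, hN⟩ := S.sylow_two_normalizer hm P
  obtain ⟨s', hs'⟩ := exists_prime_orderOf_dvd_card' 7 (show 7 ∣ _ by rw [hN]; norm_num :
    7 ∣ Nat.card ↥(Subgroup.normalizer ((P : Subgroup ↥(twistedG2 K (3 ^ m))) : Set ↥(twistedG2 K (3 ^ m)))))
  rw [← Subgroup.orderOf_coe] at hs'
  have hsC : (s' : ↥(twistedG2 K (3 ^ m))) ∉ Subgroup.centralizer
      ((P : Subgroup ↥(twistedG2 K (3 ^ m))) : Set ↥(twistedG2 K (3 ^ m))) := by
    rw [hC]
    intro h
    have := orderOf_dvd_of_pow_eq_one (show (s' : ↥(twistedG2 K (3 ^ m))) ^ 2 = 1 by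
      rw [sq]; exact (S.sylow_two P).2 _ h)
    rw [hs'] at this
    norm_num at this
  have hE' : E.map (MulAut.conj a).toMonoidHom ≤ P := by
    rw [← ha, Sylow.coe_subgroup_smul]
    rintro _ ⟨x, hx, rfl⟩
    exact ⟨x, hQ hx, rfl⟩
  obtain ⟨g, hg⟩ := four_conj_of_seven (S.sylow_two P).1 hs' s'.2 hsC hE' hP
    (by rw [Subgroup.card_map_of_injective (MulEquiv.injective _), hE]) S.card_fourV
  refine ⟨g * a, ?_⟩
  rw [hg, Subgroup.map_map]
  congr 1
  ext x
  simp [mul_assoc]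

/-- The conclusion for a subgroup normalising a non-trivial `l`-subgroup which is not of order two. -/
theorem solvable_local_step (hm : 1 ≤ m) {H E : Subgroup ↥(twistedG2 K (3 ^ m))} {l : ℕ} (hl : l.Prime)
    (hE : IsPGroup l ↥E) (hE1 : E ≠ ⊥) (hE2 : Nat.card ↥E ≠ 2)
    (hH : H ≤ Subgroup.normalizer (E : Set ↥(twistedG2 K (3 ^ m)))) :
    ∃ A : Subgroup ↥(twistedG2 K (3 ^ m)), H ≤ Subgroup.normalizer (A : Set ↥(twistedG2 K (3 ^ m))) ∧
      ((∃ P : Sylow 2 ↥(twistedG2 K (3 ^ m)), A = P) ∨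
       (∃ P : Sylow 3 ↥(twistedG2 K (3 ^ m)), A = P) ∨
       (IsCyclic A ∧ (Nat.card A = (3 ^ (2 * m + 1) - 1) / 2 ∨ Nat.card A = (3 ^ (2 * m + 1) + 1) / 4 ∨
          Nat.card A = 3 ^ (2 * m + 1) - 3 ^ (m + 1) + 1 ∨ Nat.card A = 3 ^ (2 * m + 1) + 3 ^ (m + 1) + 1))) := by
  classical
  have := Fact.mk hl
  have := Fact.mk Nat.prime_two
  have := Fact.mk Nat.prime_three
  obtain ⟨n, hn⟩ := IsPGroup.iff_card.1 hE
  have hn0 : n ≠ 0 := fun h => hE1 (Subgroup.card_eq_one.1 (by rw [hn, h, pow_zero]))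
  obtain ⟨P, hP⟩ := hE.exists_le_sylow
  -- a torus capturing `E`
  have htorus : ∀ T : TorusData ↥(twistedG2 K (3 ^ m)), l ∣ T.k →
      (Nat.card ↥T.A = (3 ^ (2 * m + 1) - 1) / 2 ∨ Nat.card ↥T.A = (3 ^ (2 * m + 1) + 1) / 4 ∨
          Nat.card ↥T.A = 3 ^ (2 * m + 1) - 3 ^ (m + 1) + 1 ∨
          Nat.card ↥T.A = 3 ^ (2 * m + 1) + 3 ^ (m + 1) + 1) →
      ∃ A : Subgroup ↥(twistedG2 K (3 ^ m)), H ≤ Subgroup.normalizer (A : Set ↥(twistedG2 K (3 ^ m))) ∧
      (IsCyclic A ∧ (Nat.card A = (3 ^ (2 * m + 1) - 1) / 2 ∨ Nat.card A = (3 ^ (2 * m + 1) + 1) / 4 ∨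
          Nat.card A = 3 ^ (2 * m + 1) - 3 ^ (m + 1) + 1 ∨ Nat.card A = 3 ^ (2 * m + 1) + 3 ^ (m + 1) + 1)) := by
    intro T hT hc
    obtain ⟨g, hg⟩ := exists_conj_le_of_cyclic T.cyclic (T.cardA.symm ▸ T.full l hl hT) hE
    have hle : E.map (MulAut.conj g).toMonoidHom ≤ T.A := by
      rintro _ ⟨x, hx, rfl⟩
      exact hg x hx
    have hne : E.map (MulAut.conj g).toMonoidHom ≠ ⊥ := by
      rwa [Ne, Subgroup.map_eq_bot_iff_of_injective _ (MulEquiv.injective _)]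
    refine ⟨T.A.map (MulAut.conj g⁻¹).toMonoidHom, le_normalizer_map g (T.normEq _ hle hne) hH, ?_, ?_⟩
    · have := T.cyclic
      exact isCyclic_of_surjective (T.A.equivMapOfInjective _ (MulEquiv.injective _))
        (T.A.equivMapOfInjective _ (MulEquiv.injective _)).surjective
    · rwa [Subgroup.card_map_of_injective (MulEquiv.injective _)]
  obtain ⟨hq27, -, -, h3q, hqodd, -⟩ := S.arith hm
  by_cases hl2 : l = 2
  · subst hl2
    obtain ⟨hP8, -⟩ := S.sylow_two P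
    have hdvd : Nat.card ↥E ∣ 2 ^ 3 := by
      rw [show (2 : ℕ) ^ 3 = Nat.card ↥(P : Subgroup ↥(twistedG2 K (3 ^ m))) by rw [hP8]; norm_num]
      exact Subgroup.card_dvd_of_le hP
    rw [hn, Nat.pow_dvd_pow_iff_le_right (by norm_num)] at hdvd
    have hn1 : n ≠ 1 := fun h => hE2 (by rw [hn, h, pow_one])
    rcases (show n = 2 ∨ n = 3 by omega) with rfl | rfl
    · -- the four-groups
      obtain ⟨g, hg⟩ := S.four_conj hm (E := E) (by rw [hn]; norm_num)
      obtain ⟨T, hk, -, -, -, hNA⟩ := S.torusData_klein hm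
      refine ⟨T.A.map (MulAut.conj g⁻¹).toMonoidHom, le_normalizer_map g ?_ hH, Or.inr (Or.inr ⟨?_, ?_⟩)⟩
      · rw [hg, hNA]
      · have := T.cyclic
        exact isCyclic_of_surjective (T.A.equivMapOfInjective _ (MulEquiv.injective _))
          (T.A.equivMapOfInjective _ (MulEquiv.injective _)).surjective
      · rw [Subgroup.card_map_of_injective (MulEquiv.injective _), T.cardA, hk]
        exact Or.inr (Or.inl rfl)
    · -- a Sylow subgroup
      refine ⟨E, hH, Or.inl ⟨P, Subgroup.eq_of_le_of_card_ge hP ?_⟩⟩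
      rw [hn, hP8]
      norm_num
  by_cases hl3 : l = 3
  · subst hl3
    refine ⟨P, fun h hh => ?_, Or.inr (Or.inl ⟨P, rfl⟩)⟩
    apply Sylow.smul_eq_iff_mem_normalizer.1
    by_contra hne
    apply hE1
    rw [eq_bot_iff, ← S.sylow_inf (h • P) P hne]
    refine le_inf (fun x hx => ?_) hP
    rw [Sylow.coe_subgroup_smul]
    refine ⟨h⁻¹ * x * h, hP ?_, by simp [mul_assoc]⟩
    have := (Subgroup.mem_normalizer_iff.1 (Subgroup.inv_mem _ (hH hh)) x).1 hx
    rwa [inv_inv] at this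
  -- primes above three
  have hlG : l ∣ Nat.card ↥(twistedG2 K (3 ^ m)) :=
    ((dvd_pow_self l hn0).trans (dvd_of_eq hn.symm)).trans (Subgroup.card_subgroup_dvd_card E)
  rw [S.card_factor] at hlG
  obtain ⟨A, hA, hA'⟩ : ∃ A : Subgroup ↥(twistedG2 K (3 ^ m)),
      H ≤ Subgroup.normalizer (A : Set ↥(twistedG2 K (3 ^ m))) ∧
      (IsCyclic A ∧ (Nat.card A = (3 ^ (2 * m + 1) - 1) / 2 ∨ Nat.card A = (3 ^ (2 * m + 1) + 1) / 4 ∨
          Nat.card A = 3 ^ (2 * m + 1) - 3 ^ (m + 1) + 1 ∨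
          Nat.card A = 3 ^ (2 * m + 1) + 3 ^ (m + 1) + 1)) := by
    have hprime2 : ¬ l ∣ 2 := fun h => hl2 ((Nat.prime_dvd_prime_iff_eq hl Nat.prime_two).1 h)
    rcases hl.dvd_mul.1 hlG with h | h
    · rcases hl.dvd_mul.1 h with h | h
      · rcases hl.dvd_mul.1 h with h | h
        · exact absurd ((Nat.prime_dvd_prime_iff_eq hl Nat.prime_three).1
            (hl.dvd_of_dvd_pow (hl.dvd_of_dvd_pow h))) hl3
        · obtain ⟨T, hk, -, -, -⟩ := S.torusData_split hm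
          refine htorus T ?_ (Or.inl (T.cardA.trans hk))
          rw [hk]
          rw [← Nat.mul_div_cancel' (show 2 ∣ 3 ^ (2 * m + 1) - 1 by omega)] at h
          exact (hl.dvd_mul.1 h).resolve_left hprime2
      · obtain ⟨T, hk, -, -, -⟩ := S.torusData_klein hm
        refine htorus T ?_ (Or.inr (Or.inl (T.cardA.trans hk)))
        rw [hk]
        have h8 := S.q_mod
        rw [← Nat.mul_div_cancel' (show 4 ∣ 3 ^ (2 * m + 1) + 1 by omega)] at h
        exact (hl.dvd_mul.1 h).resolve_left fun h => hprime2 (hl.dvd_of_dvd_pow (show l ∣ 2 ^ 2 from h))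
    · obtain ⟨hprod, -, -⟩ := S.singer_orders hm
        (Or.inl ⟨rfl, rfl⟩ : (3 ^ (2 * m + 1) - 3 ^ (m + 1) + 1 = 3 ^ (2 * m + 1) - 3 ^ (m + 1) + 1 ∧
          3 ^ (2 * m + 1) + 3 ^ (m + 1) + 1 = 3 ^ (2 * m + 1) + 3 ^ (m + 1) + 1) ∨ _)
      rw [← hprod] at h
      rcases hl.dvd_mul.1 h with h | h
      · obtain ⟨T, hk, -, -⟩ := S.torusData_singer hm (Or.inl rfl)
        exact htorus T (hk ▸ h) (Or.inr (Or.inr (Or.inl (T.cardA.trans hk))))
      · obtain ⟨T, hk, -, -⟩ := S.torusData_singer hm (Or.inr rfl)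
        exact htorus T (hk ▸ h) (Or.inr (Or.inr (Or.inr (T.cardA.trans hk))))
  exact ⟨A, hA, Or.inr (Or.inr hA')⟩

/-- Solvable subgroups lie in local normalisers. -/
theorem solvable_local (hm : 1 ≤ m) (H : Subgroup ↥(twistedG2 K (3 ^ m))) (hH : Group.IsSolvable ↥H) :
    ∃ A : Subgroup ↥(twistedG2 K (3 ^ m)), H ≤ Subgroup.normalizer (A : Set ↥(twistedG2 K (3 ^ m))) ∧
      ((∃ P : Sylow 2 ↥(twistedG2 K (3 ^ m)), A = P) ∨
       (∃ P : Sylow 3 ↥(twistedG2 K (3 ^ m)), A = P) ∨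
       (IsCyclic A ∧ (Nat.card A = (3 ^ (2 * m + 1) - 1) / 2 ∨ Nat.card A = (3 ^ (2 * m + 1) + 1) / 4 ∨
          Nat.card A = 3 ^ (2 * m + 1) - 3 ^ (m + 1) + 1 ∨ Nat.card A = 3 ^ (2 * m + 1) + 3 ^ (m + 1) + 1))) := by
  classical
  have := Fact.mk Nat.prime_two
  by_cases hbot : H = ⊥
  · obtain ⟨P⟩ : Nonempty (Sylow 2 ↥(twistedG2 K (3 ^ m))) := inferInstance
    exact ⟨P, hbot ▸ bot_le, Or.inl ⟨P, rfl⟩⟩
  obtain ⟨l, hl, E, hE1, hEH, hE, hN⟩ := exists_pgroup_normalised hbot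
  by_cases hE2 : Nat.card ↥E ≠ 2
  · exact S.solvable_local_step hm hl hE hE1 hE2 hN
  push Not at hE2
  -- `E` is central of order two
  have hsub := (Subgroup.normal_subgroupOf_iff_le_normalizer hEH).2 hN
  by_cases hHE : H = E
  · obtain ⟨P, hP⟩ := (IsPGroup.of_card (p := 2) (n := 1) (by rw [hHE, hE2]; rfl) :
      IsPGroup 2 ↥H).exists_le_sylow
    exact ⟨P, hP.trans Subgroup.le_normalizer, Or.inl ⟨P, rfl⟩⟩
  let E' := E.subgroupOf H
  have : Group.IsSolvable ↥H := hH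
  have : Nontrivial (↥H ⧸ E') := by
    rw [QuotientGroup.nontrivial_iff]
    intro h
    apply hHE
    exact le_antisymm (Subgroup.subgroupOf_eq_top.1 h) hEH
  obtain ⟨l', hl', D, hD1, -, hD, hDN⟩ :=
    exists_pgroup_normalised (G := ↥H ⧸ E') (Y := ⊤) top_ne_bot
  have := Fact.mk hl'
  have hDn : D.Normal := Subgroup.normalizer_eq_top_iff.1 (top_le_iff.1 hDN)
  set B := D.comap (QuotientGroup.mk' E') with hB
  have hBn : B.Normal := inferInstance
  have hBc : Nat.card ↥B = 2 * Nat.card ↥D := by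
    have h1 := B.card_mul_index
    rw [hB, Subgroup.index_comap_of_surjective _ (QuotientGroup.mk'_surjective E'), ← hB,
      Subgroup.card_eq_card_quotient_mul_card_subgroup E', ← D.card_mul_index,
      show Nat.card ↥E' = 2 by rw [Nat.card_congr (Subgroup.subgroupOfEquivOfLe hEH).toEquiv, hE2]] at h1
    refine Nat.eq_of_mul_eq_mul_right (m := D.index) (Nat.pos_of_ne_zero Subgroup.index_ne_zero_of_finite) ?_
    rw [h1]; ring
  obtain ⟨a, ha⟩ := IsPGroup.iff_card.1 hD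
  have ha0 : a ≠ 0 := fun h => hD1 (Subgroup.card_eq_one.1 (by rw [ha, h, pow_zero]))
  -- pull back to the group
  have hpull : ∀ N : Subgroup ↥H, N.Normal → IsPGroup l' ↥N → N ≠ ⊥ → Nat.card ↥N ≠ 2 →
      ∃ A : Subgroup ↥(twistedG2 K (3 ^ m)), H ≤ Subgroup.normalizer (A : Set ↥(twistedG2 K (3 ^ m))) ∧
      ((∃ P : Sylow 2 ↥(twistedG2 K (3 ^ m)), A = P) ∨
       (∃ P : Sylow 3 ↥(twistedG2 K (3 ^ m)), A = P) ∨
       (IsCyclic A ∧ (Nat.card A = (3 ^ (2 * m + 1) - 1) / 2 ∨ Nat.card A = (3 ^ (2 * m + 1) + 1) / 4 ∨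
          Nat.card A = 3 ^ (2 * m + 1) - 3 ^ (m + 1) + 1 ∨ Nat.card A = 3 ^ (2 * m + 1) + 3 ^ (m + 1) + 1))) := by
    intro N hNn hNp hN1 hN2
    refine S.solvable_local_step hm hl' (hNp.map H.subtype)
      (by rwa [Ne, Subgroup.map_eq_bot_iff_of_injective _ H.subtype_injective])
      (by rwa [Subgroup.card_map_of_injective H.subtype_injective]) ?_
    refine (Subgroup.normal_subgroupOf_iff_le_normalizer (Subgroup.map_subtype_le _)).1 ?_
    rwa [Subgroup.subgroupOf, Subgroup.comap_map_eq_self_of_injective H.subtype_injective]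
  by_cases hl'2 : l' = 2
  · subst hl'2
    refine hpull B hBn (IsPGroup.of_card (n := a + 1) (by rw [hBc, ha, pow_succ']))
      (fun h => ?_) ?_
    · rw [h, Subgroup.card_bot] at hBc
      omega
    · rw [hBc, ha]
      have := Nat.one_lt_pow ha0 (show 1 < 2 by norm_num)
      omega
  obtain ⟨P⟩ : Nonempty (Sylow l' ↥B) := inferInstance
  have hco : Nat.Coprime l' 2 := (Nat.coprime_primes hl' Nat.prime_two).2 hl'2
  have hPc : Nat.card ↥(P : Subgroup ↥B) = l' ^ a := by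
    rw [P.card_eq_multiplicity, hBc, ha, Nat.factorization_mul two_ne_zero (pow_ne_zero _ hl'.ne_zero)]
    simp [Nat.factorization_pow, hl'.factorization, Nat.prime_two.factorization,
      Ne.symm hl'2]
  have hPn : (P : Subgroup ↥B).Normal := by
    refine Subgroup.normal_of_index_eq_two ?_
    have h := (P : Subgroup ↥B).card_mul_index
    rw [hPc, hBc, ha, mul_comm 2] at h
    exact Nat.eq_of_mul_eq_mul_left (pow_pos hl'.pos a) h
  have := P.characteristic_of_normal hPn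
  refine hpull ((P : Subgroup ↥B).map B.subtype) inferInstance (P.2.map _) ?_ ?_
  · rw [Ne, Subgroup.map_eq_bot_iff_of_injective _ B.subtype_injective]
    intro h
    rw [h, Subgroup.card_bot] at hPc
    exact (Nat.one_lt_pow ha0 hl'.one_lt).ne hPc
  · rw [Subgroup.card_map_of_injective B.subtype_injective, hPc]
    intro h
    exact hl'2 ((Nat.prime_dvd_prime_iff_eq hl' Nat.prime_two).1 (h ▸ dvd_pow_self l' ha0))

end SetupG2

end CfsgLib.Chev
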