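import Mathlib
import Cfsg.Agent.Lib.Chev.SLInvolUni

/-!
The step through a Heisenberg radical (type E8): reduction modulo the highest root subgroup, one pivot,
and the removal of the central coordinate.
-/

set_option autoImplicit false

namespace CfsgLib.Chev.SLInvol

open Cfsg.Lie

variable {D : ChevalleyDatum} {dat : LieData} {sd : StructData}

/-- The group in which the central root subgroup is central. -/
noncomputable def centGrp (g : Good D) (F : Type*) [Field F] (th : ℕ) : Subgroup (GL D.Idx F) :=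
  Subgroup.centralizer (X (xf g F) {th} : Set (GL D.Idx F))

/-- The central root subgroup inside its centraliser. -/
noncomputable def centSub (g : Good D) (F : Type*) [Field F] (th : ℕ) : Subgroup ↥(centGrp g F th) :=
  (X (xf g F) {th}).subgroupOf (centGrp g F th)

instance centSub_normal (g : Good D) (F : Type*) [Field F] (th : ℕ) : (centSub g F th).Normal := by
  refine ⟨fun n hn a => ?_⟩
  have h := Subgroup.mem_centralizer_iff.1 a.2 n hn
  have : a * n * a⁻¹ = n := Subtype.ext (by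
    rw [Subgroup.coe_mul, Subgroup.coe_mul, Subgroup.coe_inv, ← h, mul_inv_cancel_right])
  rw [this]; exact hn

theorem xG_singleton (g : Good D) {F : Type*} [Field F] {r : ℕ} {y : GL D.Idx F}
    (hy : y ∈ X (xf g F) {r}) : ∃ c : F, y = g.xG r c := by
  induction hy using Subgroup.closure_induction with
  | mem y hy => obtain ⟨s, hs, t, rfl⟩ := hy; exact ⟨t, by rw [Set.mem_singleton_iff.1 hs]; rfl⟩
  | one => exact ⟨0, (g.xG_zero r).symm⟩
  | mul a b _ _ ha hb => obtain ⟨c, rfl⟩ := ha; obtain ⟨d, rfl⟩ := hb; exact ⟨c + d, g.xG_add r c d⟩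
  | inv a _ ha => obtain ⟨c, rfl⟩ := ha; exact ⟨-c, g.xG_inv r c⟩

/-- The square of a product of commuting factors, one of which squares to the partner term. -/
theorem top_partner {G : Type*} [Group G] {P : Prop} {y X0 W T : G}
    (h : y * (X0 * W) * T * (y * (X0 * W) * T) = 1) (hy : y * y = 1) (hW : W * W = 1) (hT : T * T = 1)
    (hya : Commute y X0) (hyW : Commute y W) (haW : Commute X0 W) (hyT : Commute y T) (haT : Commute X0 T)
    (hWT : Commute W T) (hX : X0 * X0 = 1 → P) : P := by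
  refine hX ?_
  have h1 : Commute T (y * (X0 * W)) := (hyT.symm.mul_right (haT.symm.mul_right hWT.symm))
  have h2 : Commute (X0 * W) y := (hya.symm.mul_left hyW.symm)
  calc X0 * X0 = (y * y) * ((X0 * X0) * (W * W)) * (T * T) := by rw [hy, hW, hT, one_mul, mul_one, mul_one]
    _ = (y * y) * (X0 * (X0 * W) * W) * (T * T) := by group
    _ = (y * y) * (X0 * (W * X0) * W) * (T * T) := by rw [haW.eq]
    _ = (y * y) * ((X0 * W) * (X0 * W)) * (T * T) := by group
    _ = y * ((X0 * W) * y) * (X0 * W) * (T * T) := by rw [h2.eq]; group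
    _ = y * (X0 * W) * (y * (X0 * W) * T) * T := by group
    _ = y * (X0 * W) * (T * (y * (X0 * W))) * T := by rw [h1.eq]
    _ = y * (X0 * W) * T * (y * (X0 * W) * T) := by group
    _ = 1 := h

namespace SLFacts

variable (h : SLFacts D dat sd) {F : Type*} [Field F] [CharP F 2] {ord : List ℕ}
include h

/-- A subgroup generated by commuting root elements has exponent two. -/
theorem X_sq_of_comm {S : Set ℕ}
    (hS : ∀ r ∈ S, ∀ r' ∈ S, ∀ t u : F, Commute (h.good.xG r t) (h.good.xG r' u)) {w : GL D.Idx F}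
    (hw : w ∈ X (xf h.good F) S) : w * w = 1 := by
  have hc : X (xf h.good F) S ≤ Subgroup.centralizer (X (xf h.good F) S : Set (GL D.Idx F)) := by
    refine X_le fun r hr t => Subgroup.mem_centralizer_iff.2 fun y hy => ?_
    have : X (xf h.good F) S ≤ Subgroup.centralizer {h.good.xG r t} := X_le fun r' hr' u => by
      rw [Subgroup.mem_centralizer_singleton_iff]; exact (hS r' hr' r hr u t).eq
    exact Subgroup.mem_centralizer_singleton_iff.1 (this hy)
  induction hw using Subgroup.closure_induction with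
  | mem y hy =>
    obtain ⟨r, -, t, rfl⟩ := hy
    show h.good.xG r t * h.good.xG r t = 1
    rw [h.good.xG_add, CharTwo.add_self_eq_zero, h.good.xG_zero]
  | one => exact one_mul 1
  | mul a b ha hb iha ihb =>
    have e := Subgroup.mem_centralizer_iff.1 (hc ha) b hb
    calc a * b * (a * b) = a * (b * a) * b := by group
      _ = (a * a) * (b * b) := by rw [e]; group
      _ = 1 := by rw [iha, ihb, one_mul]
  | inv a _ iha => rw [← mul_inv_rev, iha, inv_one]

theorem commute_of_pair {s r : ℕ} (hs : s < D.nroots) (hr : r < D.nroots) (hp : pair D s r = 0 ∨ pair D s r = 1)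
    (t u : F) : Commute (h.good.xG s u) (h.good.xG r t) := by
  refine h.commute hs hr (by omega) (fun e => ?_) t u
  subst e
  rw [h.pair_symm hs hr, h.pair_neg_left hs hs, h.pair_self hs] at hp
  omega

set_option maxHeartbeats 2000000 in
/-- The step at a Heisenberg level. -/
theorem top_step (hord : ∀ j ∈ ord, j < D.rank) (hne : 0 < ord.length)
    (hth : rootCo dat (D.nroots - 1) (ord.getD 0 0) = 2)
    (hle : ∀ r, half D ≤ r → r < D.nroots → r ≠ D.nroots - 1 → rootCo dat r (ord.getD 0 0) ≤ 1)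
    (hpth : ∀ r, half D ≤ r → r < D.nroots → rootCo dat r (ord.getD 0 0) = 1 → pair D r (D.nroots - 1) = 1)
    (ih : ∀ v ∈ X (xf h.good F) (MK D dat ord 1), v * v = 1 →
      ∃ z ∈ X (xf h.good F) (LK D dat ord 1), OrthProd h.good (MK D dat ord 1) (z * v * z⁻¹))
    {u : GL D.Idx F} (hu : u ∈ X (xf h.good F) (MK D dat ord 0)) (hu2 : u * u = 1) :
    ∃ z ∈ D.group F, OrthProd h.good (MK D dat ord 0) (z * u * z⁻¹) := by
  classical
  have hn := h.good.nroots_eq
  obtain ⟨th, hthd⟩ : ∃ th, th = D.nroots - 1 := ⟨_, rfl⟩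
  rw [← hthd] at hth hle hpth
  obtain ⟨j, hjd⟩ : ∃ j, j = ord.getD 0 0 := ⟨_, rfl⟩
  rw [← hjd] at hth hle hpth
  have hjr : j < D.rank := hjd ▸ h.ord_lt hord hne
  have hthn : th < D.nroots := by omega
  have hthp : half D ≤ th := by omega
  obtain ⟨Q, hQ⟩ : ∃ Q : List ℕ, Q = (List.range' (half D) (D.nroots - half D)).filter fun r =>
      Int.beq' (rootCo dat r j) 1 := ⟨_, rfl⟩
  obtain ⟨L, hL⟩ : ∃ L : List ℕ, L = (List.range D.nroots).filter fun r => Int.beq' (rootCo dat r j) 0 := ⟨_, rfl⟩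
  have hQm : ∀ r, r ∈ Q ↔ r < D.nroots ∧ half D ≤ r ∧ rootCo dat r j = 1 := fun r => by
    simp only [hQ, List.mem_filter, List.mem_range'_1, Int.beq'_eq]
    constructor
    · rintro ⟨⟨a, b⟩, c⟩; exact ⟨by omega, a, c⟩
    · rintro ⟨a, b, c⟩; exact ⟨⟨b, by omega⟩, c⟩
  have hLm : ∀ r, r ∈ L ↔ r < D.nroots ∧ rootCo dat r j = 0 := fun r => by simp [hL, Int.beq'_eq]
  have hz1 : ∀ r, ZeroK dat ord 1 r ↔ rootCo dat r j = 0 := fun r => by
    rw [show (1 : ℕ) = 0 + 1 from rfl, zeroK_succ hne, ← hjd]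
    exact ⟨fun h => h.2, fun h => ⟨by simp [ZeroK], h⟩⟩
  have hz0 : ∀ r, ZeroK dat ord 0 r := fun r => by simp [ZeroK]
  have hlt : ∀ r, r ∈ Q ++ L → r < D.nroots := fun r hr =>
    (List.mem_append.1 hr).elim (fun h' => ((hQm r).1 h').1) (fun h' => ((hLm r).1 h').1)
  have hQ1 : ∀ r ∈ Q, rootCo dat r j = 1 := fun r hr => ((hQm r).1 hr).2.2
  have hL0 : ∀ r ∈ L, rootCo dat r j = 0 := fun r hr => ((hLm r).1 hr).2
  have hcoef : ∀ r < D.nroots, 2 ≤ rootCo dat r j → r = th := fun r hr hc => by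
    by_contra hne'
    have := hle r (h.pos_of_coord hr hjr (by omega)) hr hne'
    omega
  have hnegQ : ∀ r ∈ Q ++ L, ∀ s ∈ Q, s ≠ D.neg r := by
    intro r hr s hs e
    have h1 := hQ1 s hs
    rw [e, h.rootCo_neg (hlt r hr) hjr] at h1
    rcases List.mem_append.1 hr with h' | h'
    · rw [hQ1 r h'] at h1; omega
    · rw [hL0 r h'] at h1; omega
  have hLth : ∀ s ∈ L, pair D s th = 0 := by
    intro s hs
    have key : ∀ s' : ℕ, s' < D.nroots → rootCo dat s' j = 0 → pair D s' th ≠ -1 := by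
      intro s' hs' hc hp
      obtain ⟨e1, e2, -⟩ := h.sum_facts hs' hthn hp
      have e := hcoef _ e1 (by rw [e2 j hjr, hc, hth]; norm_num)
      have h0 : ∀ i < D.rank, rootCo dat s' i = 0 := fun i hi => by have := e2 i hi; rw [e] at this; omega
      exact h.good.neg_ne hs' (h.root_inj (h.good.neg_lt hs') hs' fun i hi => by
        rw [h.rootCo_neg hs' hi, h0 i hi, neg_zero])
    obtain ⟨hsn, hs0⟩ := (hLm s).1 hs
    have hne1 : s ≠ th := fun e => by subst e; omega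
    have hne2 : th ≠ D.neg s := fun e => by rw [e, h.rootCo_neg hsn hjr, hs0] at hth; omega
    have k2 := key (D.neg s) (h.good.neg_lt hsn) (by rw [h.rootCo_neg hsn hjr, hs0, neg_zero])
    rw [h.pair_neg_left hsn hthn] at k2
    rcases h.vals hsn hthn hne1 hne2 with e | e | e
    · exact absurd e (key s hsn hs0)
    · exact e
    · exact absurd (by rw [e]) k2
  have hQth : ∀ r ∈ Q, pair D r th = 1 := fun r hr => hpth r ((hQm r).1 hr).2.1 ((hQm r).1 hr).1 ((hQm r).1 hr).2.2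
  have hthall : ∀ r, r ∈ Q ++ L → pair D r th = 0 ∨ pair D r th = 1 := fun r hr =>
    (List.mem_append.1 hr).elim (fun h' => Or.inr (hQth r h')) (fun h' => Or.inl (hLth r h'))
  have hcen : ∀ r, (r ∈ Q ++ L ∨ r = th) → ∀ t : F, h.good.xG r t ∈ centGrp h.good F th := by
    intro r hr t
    refine Subgroup.mem_centralizer_iff.2 fun y hy => ?_
    obtain ⟨c, rfl⟩ := xG_singleton h.good hy
    rcases hr with hr | rfl
    · exact ((h.commute_of_pair (hlt r hr) hthn (hthall r hr) c t).eq).symm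
    · rw [h.good.xG_add, h.good.xG_add, add_comm]
  obtain ⟨xr, hxr⟩ : ∃ xr : ℕ → F → (↥(centGrp h.good F th) ⧸ centSub h.good F th),
      xr = fun r t => if hr : r ∈ Q ++ L then QuotientGroup.mk ⟨h.good.xG r t, hcen r (Or.inl hr) t⟩ else 1 :=
    ⟨_, rfl⟩
  have hxr' : ∀ r (hr : r ∈ Q ++ L) (t : F),
      xr r t = QuotientGroup.mk ⟨h.good.xG r t, hcen r (Or.inl hr) t⟩ := fun r hr t => by
    rw [hxr]; exact dif_pos hr
  have hsm : ∀ s r, s ∈ L → r ∈ Q → pair D s r = -1 → smR D s r ∈ Q := by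
    intro s r hs hr hp
    obtain ⟨e1, e2, -⟩ := h.sum_facts ((hLm s).1 hs).1 ((hQm r).1 hr).1 hp
    have hc : rootCo dat (smR D s r) j = 1 := by rw [e2 j hjr, hL0 s hs, hQ1 r hr, zero_add]
    exact (hQm _).2 ⟨e1, h.pos_of_coord e1 hjr (by omega), hc⟩
  have R : RootAct xr Q L (fun r s => pair D r s) (smR D) := by
    refine
      { nodup := hQ ▸ List.Nodup.filter _ List.nodup_range'
        add := fun r s t => ?_
        self := fun r hr => h.pair_self (hlt r hr)
        disjQL := fun r hr hr' => by have := hQ1 r hr'; rw [hL0 r hr] at this; omega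
        symm := fun r hr s hs => h.pair_symm (hlt r hr) (hlt s hs)
        vals := fun r hr s hs hne => h.vals (hlt r hr) ((hQm s).1 hs).1 hne (hnegQ r hr s hs)
        commQ := fun r hr s hs t u => ?_
        act0 := fun s hs r hr hp t u => ?_
        commL := fun s hs s' hs' hp t u => ?_
        sm_mem := fun s hs r hr hp => hsm s r hs hr hp
        conj := fun s hs r hr hp t u => ?_
        lin := fun s hs r hr hp a ha => (h.sum_facts ((hLm s).1 hs).1 ((hQm r).1 hr).1 hp).2.2 a (hlt a ha)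
        inj := fun s hs r hr r' hr' hp hp' e => ?_
        diffQ := fun b hb c hc hp => ?_
        diffL := fun a ha c hc hp => ?_
        indep := fun f hf r hr => ?_ }
    · by_cases hr : r ∈ Q ++ L
      · rw [hxr' r hr, hxr' r hr, hxr' r hr, ← QuotientGroup.mk_mul]
        exact congrArg _ (Subtype.ext (h.good.xG_add r s t))
      · rw [hxr]; simp only [dif_neg hr, one_mul]
    · have hr' : r ∈ Q ++ L := by simp [hr]
      have hs' : s ∈ Q ++ L := by simp [hs]
      show xr r t * xr s u = xr s u * xr r t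
      rw [hxr' r hr', hxr' s hs', ← QuotientGroup.mk_mul, ← QuotientGroup.mk_mul]
      by_cases hp : pair D r s = -1
      · obtain ⟨e1, e2, -⟩ := h.sum_facts ((hQm r).1 hr).1 ((hQm s).1 hs).1 hp
        have e3 := h.sum_conj (F := F) ((hQm r).1 hr).1 ((hQm s).1 hs).1 hp u t
        have e := hcoef _ e1 (by rw [e2 j hjr, hQ1 r hr, hQ1 s hs]; norm_num)
        rw [e] at e3
        rw [QuotientGroup.eq]
        refine Subgroup.mem_subgroupOf.2 ?_
        simp only [Subgroup.coe_mul, Subgroup.coe_inv]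
        have hh : h.good.xG s u * h.good.xG th (t * u) * h.good.xG r t = h.good.xG r t * h.good.xG s u := by
          rw [← e3]; group
        have hc := (h.commute_of_pair (F := F) ((hQm r).1 hr).1 hthn (Or.inr (hQth r hr)) (t * u) t).eq
        have key : (h.good.xG r t * h.good.xG s u)⁻¹ * (h.good.xG s u * h.good.xG r t) = (h.good.xG th (t * u))⁻¹ := by
          rw [← hh, mul_assoc (h.good.xG s u), ← hc]; group
        rw [key]
        exact inv_mem (mem_X (x := xf h.good F) (Set.mem_singleton th) _)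
      · exact congrArg _ (Subtype.ext (h.commute ((hQm r).1 hr).1 ((hQm s).1 hs).1 hp (hnegQ r hr' s hs) u t).eq)
    · show xr s u * xr r t = xr r t * xr s u
      rw [hxr' s (by simp [hs]), hxr' r (by simp [hr]), ← QuotientGroup.mk_mul, ← QuotientGroup.mk_mul]
      exact congrArg _ (Subtype.ext (h.commute ((hLm s).1 hs).1 ((hQm r).1 hr).1 hp (hnegQ s (by simp [hs]) r hr) t u).eq)
    · show xr s u * xr s' t = xr s' t * xr s u
      rw [hxr' s (by simp [hs]), hxr' s' (by simp [hs']), ← QuotientGroup.mk_mul, ← QuotientGroup.mk_mul]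
      exact congrArg _ (Subtype.ext (h.commute_of_pair ((hLm s).1 hs).1 ((hLm s').1 hs').1 (Or.inl hp) t u).eq)
    · rw [hxr' s (by simp [hs]), hxr' r (by simp [hr]), hxr' _ (List.mem_append.2 (Or.inl (hsm s r hs hr hp))),
        ← QuotientGroup.mk_mul, ← QuotientGroup.mk_inv, ← QuotientGroup.mk_mul, ← QuotientGroup.mk_mul]
      exact congrArg _ (Subtype.ext (h.sum_conj ((hLm s).1 hs).1 ((hQm r).1 hr).1 hp t u))
    · obtain ⟨-, e2, -⟩ := h.sum_facts ((hLm s).1 hs).1 ((hQm r).1 hr).1 hp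
      obtain ⟨-, e2', -⟩ := h.sum_facts ((hLm s).1 hs).1 ((hQm r').1 hr').1 hp'
      refine h.root_inj ((hQm r).1 hr).1 ((hQm r').1 hr').1 fun i hi => ?_
      have := e2 i hi; rw [e, e2' i hi] at this; omega
    · obtain ⟨ab, -, cb⟩ := (hQm b).1 hb
      obtain ⟨ac, -, cc⟩ := (hQm c).1 hc
      change pair D b c = 1 at hp
      have hnb := h.good.neg_lt ab
      have hp' : pair D (D.neg b) c = -1 := by rw [h.pair_neg_left ab ac, hp]
      obtain ⟨e1, e2, e3⟩ := h.sum_facts hnb ac hp'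
      have hsb : pair D (smR D (D.neg b) c) b = -1 := by
        rw [h.pair_symm e1 ab, e3 b ab, hp, h.pair_symm ab hnb, h.pair_neg_left ab ab, h.pair_self ab]; norm_num
      obtain ⟨d1, d2, -⟩ := h.sum_facts e1 ab hsb
      refine ⟨_, (hLm _).2 ⟨e1, by rw [e2 j hjr, h.rootCo_neg ab hjr, cb, cc]; norm_num⟩, hsb,
        h.root_inj d1 ac fun i hi => ?_⟩
      rw [d2 i hi, e2 i hi, h.rootCo_neg ab hi]; ring
    · obtain ⟨haa, ca⟩ := (hLm a).1 ha
      obtain ⟨ac, -, cc⟩ := (hQm c).1 hc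
      change pair D a c = 1 at hp
      have hna := h.good.neg_lt haa
      have hp' : pair D (D.neg a) c = -1 := by rw [h.pair_neg_left haa ac, hp]
      obtain ⟨e1, e2, e3⟩ := h.sum_facts hna ac hp'
      have hco : rootCo dat (smR D (D.neg a) c) j = 1 := by
        rw [e2 j hjr, h.rootCo_neg haa hjr, ca, cc]; norm_num
      have had : pair D a (smR D (D.neg a) c) = -1 := by
        rw [e3 a haa, hp, h.pair_symm haa hna, h.pair_neg_left haa haa, h.pair_self haa]; norm_num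
      obtain ⟨d1, d2, -⟩ := h.sum_facts haa e1 had
      refine ⟨_, (hQm _).2 ⟨e1, h.pos_of_coord e1 hjr (by omega), hco⟩, had, h.root_inj d1 ac fun i hi => ?_⟩
      rw [d2 i hi, e2 i hi, h.rootCo_neg haa hi]; ring
    · have key : ∀ l : List ℕ, (∀ s ∈ l, s ∈ Q) →
          ∃ hm : (l.map fun s => h.good.xG s (f s)).prod ∈ centGrp h.good F th,
            (l.map fun s => xr s (f s)).prod = QuotientGroup.mk ⟨_, hm⟩ := by
        intro l
        induction l with
        | nil => intro _; exact ⟨one_mem _, by simp; rfl⟩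
        | cons a l ihl =>
          intro hl
          obtain ⟨hm, e⟩ := ihl fun s hs => hl s (by simp [hs])
          have ha : a ∈ Q ++ L := by simp [hl a (by simp)]
          refine ⟨mul_mem (hcen a (Or.inl ha) _) hm, ?_⟩
          rw [List.map_cons, List.prod_cons, e, hxr' a ha, ← QuotientGroup.mk_mul]
          rfl
      obtain ⟨hm, e⟩ := key Q fun _ hs => hs
      rw [ev, e, QuotientGroup.eq_one_iff] at hf
      obtain ⟨c, hc⟩ := xG_singleton h.good hf
      change (Q.map fun s => h.good.xG s (f s)).prod = h.good.xG th c at hc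
      rw [hQ, h.prod_filter] at hc
      obtain ⟨fa, hfa⟩ : ∃ fa : ℕ → F, fa = fun s => if Int.beq' (rootCo dat s j) 1 then f s else 0 := ⟨_, rfl⟩
      have hthQ : Int.beq' (rootCo dat th j) 1 = false := by
        cases e' : Int.beq' (rootCo dat th j) 1 with
        | false => rfl
        | true => rw [Int.beq'_eq, hth] at e'; omega
      have hsplit : List.range' (half D) (D.nroots - half D) = List.range' (half D) (th - half D) ++ [th] := by
        rw [show D.nroots - half D = (th - half D) + 1 by omega, List.range'_concat]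
        congr 2
        omega
      have h0 : h.good.xProd (Function.update (fun _ => (0 : F)) th c) (half D) = h.good.xG th c := by
        rw [Good.xProd, hsplit, List.map_append, List.prod_append, List.prod_eq_one, one_mul]
        · simp
        · intro y hy
          obtain ⟨s, hs, rfl⟩ := List.mem_map.1 hy
          rw [List.mem_range'_1] at hs
          rw [Function.update_of_ne (by omega), h.good.xG_zero]
      obtain ⟨rn, rp, rc⟩ := (hQm r).1 hr
      have := h.good.xProd_inj le_rfl (hc.trans h0.symm) rp rn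
      rw [Function.update_of_ne (fun e => by subst e; omega)] at this
      simpa [rc, Int.beq'_eq] using this
  -- transfer between the group and the quotient
  have down : ∀ {S : Set ℕ}, (∀ r ∈ S, r ∈ Q ++ L ∨ r = th) → ∀ {w : GL D.Idx F}, w ∈ X (xf h.good F) S →
      ∃ hw : w ∈ centGrp h.good F th,
        (QuotientGroup.mk ⟨w, hw⟩ : _ ⧸ centSub h.good F th) ∈ X xr {r | r ∈ S ∧ r ∈ Q ++ L} := by
    intro S hS w hw
    induction hw using Subgroup.closure_induction with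
    | mem y hy =>
      obtain ⟨r, hr, t, rfl⟩ := hy
      refine ⟨hcen r (hS r hr) t, ?_⟩
      rcases hS r hr with h' | h'
      · show QuotientGroup.mk (⟨h.good.xG r t, _⟩ : ↥(centGrp h.good F th)) ∈ _
        rw [← hxr' r h' t]
        exact mem_X (show r ∈ {r | r ∈ S ∧ r ∈ Q ++ L} from ⟨hr, h'⟩) t
      · subst h'
        rw [show (QuotientGroup.mk ⟨xf h.good F r t, hcen r (hS r hr) t⟩ : _ ⧸ centSub h.good F r) = 1 from
          (QuotientGroup.eq_one_iff _).2 (mem_X (x := xf h.good F) (Set.mem_singleton r) t)]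
        exact one_mem _
    | one => exact ⟨one_mem _, one_mem _⟩
    | mul a b _ _ ha hb =>
      obtain ⟨ha, ha'⟩ := ha; obtain ⟨hb, hb'⟩ := hb
      exact ⟨mul_mem ha hb, mul_mem ha' hb'⟩
    | inv a _ ha => obtain ⟨ha, ha'⟩ := ha; exact ⟨inv_mem ha, inv_mem ha'⟩
  have up : ∀ {S : Set ℕ}, (∀ r ∈ S, r ∈ Q ++ L) → ∀ {q}, q ∈ X xr S →
      ∃ a : ↥(centGrp h.good F th), (a : GL D.Idx F) ∈ X (xf h.good F) S ∧ QuotientGroup.mk a = q := by
    intro S hS q hq
    induction hq using Subgroup.closure_induction with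
    | mem y hy =>
      obtain ⟨r, hr, t, rfl⟩ := hy
      exact ⟨⟨_, hcen r (Or.inl (hS r hr)) t⟩, mem_X (x := xf h.good F) hr t, (hxr' r (hS r hr) t).symm⟩
    | one => exact ⟨1, one_mem _, rfl⟩
    | mul a b _ _ ha hb =>
      obtain ⟨a', ha, rfl⟩ := ha; obtain ⟨b', hb, rfl⟩ := hb
      exact ⟨a' * b', mul_mem ha hb, rfl⟩
    | inv a _ ha => obtain ⟨a', ha, rfl⟩ := ha; exact ⟨a'⁻¹, inv_mem ha, rfl⟩
  have eqz : ∀ {a b : ↥(centGrp h.good F th)}, (QuotientGroup.mk a : _ ⧸ centSub h.good F th) = QuotientGroup.mk b →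
      ∃ c : F, (a : GL D.Idx F) = (b : GL D.Idx F) * h.good.xG th c := by
    intro a b e
    rw [QuotientGroup.eq] at e
    obtain ⟨c, hc⟩ := xG_singleton h.good (inv_mem e)
    refine ⟨c, ?_⟩
    rw [← hc]
    simp
  have vmap : ∀ A : List (ℕ × F), (∀ p ∈ A, p.1 ∈ Q ++ L) →
      ∃ hm : vA (xf h.good F) A ∈ centGrp h.good F th, vA xr A = QuotientGroup.mk ⟨_, hm⟩ := by
    intro A
    induction A with
    | nil => intro _; exact ⟨one_mem _, rfl⟩
    | cons a A ihA =>
      intro hA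
      obtain ⟨hm, e⟩ := ihA fun p hp => hA p (by simp [hp])
      refine ⟨mul_mem (hcen a.1 (Or.inl (hA a (by simp))) _) hm, ?_⟩
      rw [vA_cons, e, hxr' a.1 (hA a (by simp))]
      rfl
  have grp : ∀ {S : Set ℕ}, (∀ r ∈ S, r < D.nroots) → X (xf h.good F) S ≤ D.group F := fun hS =>
    X_le fun r hr t => h.good.xG_mem_group (hS r hr) t
  have vcomm : ∀ {A : List (ℕ × F)} {y : GL D.Idx F}, (∀ p ∈ A, Commute (h.good.xG p.1 p.2) y) →
      Commute (vA (xf h.good F) A) y := by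
    intro A y hA
    refine Commute.list_prod_left _ _ fun z hz => ?_
    obtain ⟨p, hp, rfl⟩ := List.mem_map.1 hz
    exact hA p hp
  have xcomm : ∀ {S : Set ℕ} {y : GL D.Idx F}, (∀ r ∈ S, ∀ t : F, Commute (h.good.xG r t) y) →
      ∀ {w : GL D.Idx F}, w ∈ X (xf h.good F) S → Commute w y := by
    intro S y hS w hw
    have : X (xf h.good F) S ≤ Subgroup.centralizer {y} := X_le fun r hr t => by
      rw [Subgroup.mem_centralizer_singleton_iff]; exact (hS r hr t).eq
    exact Subgroup.mem_centralizer_singleton_iff.1 (this hw)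
  -- the argument
  obtain ⟨v, hv, hv2, w, hw, rfl⟩ := h.level_split hord hne hu hu2
  obtain ⟨z, hz, A, hA, hAp, hzA⟩ := ih v hv hv2
  have hA' : ∀ p ∈ A, p.1 ∈ L ∧ p.2 ≠ 0 := fun p hp =>
    ⟨(hLm p.1).2 ⟨(hA p hp).1.1, (hz1 _).1 (hA p hp).1.2.2⟩, (hA p hp).2⟩
  obtain ⟨P, hPd⟩ : ∃ P, P = A.map Prod.fst := ⟨_, rfl⟩
  have hPm : ∀ p ∈ P, p ∈ Q ++ L := fun p hp => by
    rw [hPd] at hp
    obtain ⟨q, hq, rfl⟩ := List.mem_map.1 hp
    exact List.mem_append.2 (Or.inr (hA' q hq).1)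
  obtain ⟨w1, hw1d⟩ : ∃ w1, w1 = z * w * z⁻¹ := ⟨_, rfl⟩
  have hw1 : w1 ∈ X (xf h.good F) (QK D dat ord 0) :=
    hw1d ▸ (Subgroup.mem_normalizer_iff.1 (h.LK_normalizes hord hne hz) w).1 hw
  have hQK : ∀ r ∈ QK D dat ord 0, r ∈ Q ++ L ∨ r = th := fun r hr => by
    obtain ⟨a, b, -, d⟩ := hr
    rw [← hjd] at d
    by_cases e : r = th
    · exact Or.inr e
    · exact Or.inl (List.mem_append.2 (Or.inl ((hQm r).2 ⟨a, b, by have := hle r b a e; omega⟩)))
  obtain ⟨hw1c, hw1q⟩ := down hQK hw1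
  have hw1sp : (QuotientGroup.mk ⟨w1, hw1c⟩ : _ ⧸ centSub h.good F th) ∈ X xr (SP (fun r s => pair D r s) Q []) := by
    refine X_sub hw1q fun r hr => ⟨?_, by simp⟩
    rcases List.mem_append.1 hr.2 with h' | h'
    · exact h'
    · exfalso
      have d := hr.1.2.2.2
      rw [← hjd, hL0 r h'] at d
      omega
  obtain ⟨hyc, hy⟩ := vmap A fun p hp => List.mem_append.2 (Or.inr (hA' p hp).1)
  obtain ⟨y, hyd⟩ : ∃ y, y = vA (xf h.good F) A := ⟨_, rfl⟩
  have e0 : z * (v * w) * z⁻¹ = y * w1 := by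
    rw [hyd, hw1d, show z * (v * w) * z⁻¹ = (z * v * z⁻¹) * (z * w * z⁻¹) by group, hzA]; rfl
  have hinv0 : y * w1 * (y * w1) = 1 := by
    rw [← e0, show z * (v * w) * z⁻¹ * (z * (v * w) * z⁻¹) = z * (v * w * (v * w)) * z⁻¹ by group, hu2]
    group
  obtain ⟨z2', hz2', w2', hw2', e2⟩ := R.clear A [] hA' (by simp) hAp (by simp) _ hw1sp (by
    rw [hy, ← QuotientGroup.mk_mul, ← QuotientGroup.mk_mul]
    refine (congrArg _ (Subtype.ext ?_)).trans (QuotientGroup.mk_one _)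
    simpa [← hyd] using hinv0)
  rw [List.append_nil, ← hPd] at hw2'
  obtain ⟨z2, hz2, rfl⟩ := up (fun r hr => List.mem_append.2 (Or.inl hr.1)) hz2'
  have hz2G : (z2 : GL D.Idx F) * z ∈ D.group F := mul_mem (grp (fun r hr => hlt r (by simp [hr.1])) hz2)
    (grp (fun r hr => hr.1) hz)
  -- a general finishing move
  obtain ⟨u', hu'⟩ : ∃ u', u' = (z2 : GL D.Idx F) * (y * w1) * (z2 : GL D.Idx F)⁻¹ := ⟨_, rfl⟩
  suffices ∃ k ∈ D.group F, OrthProd h.good (MK D dat ord 0) (k * u' * k⁻¹) by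
    obtain ⟨k, hk, ho⟩ := this
    refine ⟨k * ((z2 : GL D.Idx F) * z), mul_mem hk hz2G, ?_⟩
    rw [show k * ((z2 : GL D.Idx F) * z) * (v * w) * (k * ((z2 : GL D.Idx F) * z))⁻¹ =
      k * ((z2 : GL D.Idx F) * (z * (v * w) * z⁻¹) * (z2 : GL D.Idx F)⁻¹) * k⁻¹ by group, e0, ← hu']
    exact ho
  have hu'2 : u' * u' = 1 := by
    rw [hu', show (z2 : GL D.Idx F) * (y * w1) * (z2 : GL D.Idx F)⁻¹ * ((z2 : GL D.Idx F) * (y * w1) * (z2 : GL D.Idx F)⁻¹)
      = (z2 : GL D.Idx F) * (y * w1 * (y * w1)) * (z2 : GL D.Idx F)⁻¹ by group, hinv0]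
    group
  have hAth : ∀ p ∈ A, ∀ c : F, Commute (h.good.xG p.1 p.2) (h.good.xG th c) := fun p hp c =>
    h.commute_of_pair (hA p hp).1.1 hthn (Or.inl (hLth _ (hA' p hp).1)) c p.2
  have hAS : ∀ p ∈ A, ∀ r, r ∈ SP (fun r s => pair D r s) Q P → ∀ t : F,
      Commute (h.good.xG p.1 p.2) (h.good.xG r t) := fun p hp r hr t =>
    h.commute_of_pair (hA p hp).1.1 ((hQm r).1 hr.1).1 (Or.inl (hr.2 _ (hPd ▸ List.mem_map.2 ⟨p, hp, rfl⟩))) t p.2
  have hMA : ∀ p ∈ A, p.1 ∈ MK D dat ord 0 ∧ p.2 ≠ 0 := fun p hp =>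
    ⟨⟨(hA p hp).1.1, (hA p hp).1.2.1, hz0 _⟩, (hA p hp).2⟩
  have hPA : ∀ {r : ℕ} (s : ℕ), r = s → r ∈ MK D dat ord 0 → ∀ p ∈ A, pair D p.1 r = 0 → pair D p.1 s = 0 :=
    fun s e _ p _ h' => e ▸ h'
  obtain ⟨f, hf, hw2f⟩ := R.mem_ev (fun r hr => hr.1) hw2'
  by_cases h0 : ∀ r ∈ Q, f r = 0
  · have hw21 : w2' = 1 := by
      rw [hw2f, ← R.ev_zero]
      exact congrArg List.prod (List.map_congr_left fun r hr => by rw [h0 r hr]; rfl)
    rw [hw21, hy, mul_one] at e2
    rw [← QuotientGroup.mk_mul, ← QuotientGroup.mk_inv, ← QuotientGroup.mk_mul, ← QuotientGroup.mk_mul] at e2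
    obtain ⟨c, hc⟩ := eqz e2
    simp only [Subgroup.coe_mul, Subgroup.coe_inv, ← hyd, ← hu'] at hc
    by_cases hc0 : c = 0
    · refine ⟨1, one_mem _, A, hMA, hAp, ?_⟩
      rw [hc, hc0, h.good.xG_zero, hyd]
      simp; rfl
    · refine ⟨1, one_mem _, A ++ [(th, c)], ?_, ?_, ?_⟩
      · intro p hp
        rcases List.mem_append.1 hp with hp | hp
        · exact hMA p hp
        · rw [List.mem_singleton.1 hp]; exact ⟨⟨hthn, hthp, hz0 _⟩, hc0⟩
      · refine List.pairwise_append.2 ⟨hAp, List.pairwise_singleton _ _, fun p hp q hq => ?_⟩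
        rw [List.mem_singleton.1 hq]
        exact hLth _ (hA' p hp).1
      · rw [one_mul, inv_one, mul_one, hc, hyd]
        show _ = vA (xf h.good F) (A ++ [(th, c)])
        simp [vA, xf]
  push Not at h0
  obtain ⟨b, hb, hfb⟩ := h0
  have hbSP : b ∈ SP (fun r s => pair D r s) Q P := by by_contra h'; exact hfb (hf b h')
  obtain ⟨hbn, hbp, hbc⟩ := (hQm b).1 hb
  have hsplit : w2' = xr b (f b) * ev xr Q (Function.update f b 0) := by
    rw [hw2f, ← R.ev_single hb (f b), ← R.ev_add]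
    congr 1
    funext r
    by_cases e : r = b
    · subst e; simp
    · simp [e]
  have hrest : ev xr Q (Function.update f b 0) ∈ X xr {r | r ∈ SP (fun r s => pair D r s) Q P ∧ r ≠ b} :=
    R.ev_mem fun r _ hr => by
      by_cases e : r = b
      · subst e; simp
      · rw [Function.update_of_ne e]
        exact hf r fun h' => hr ⟨h', e⟩
  obtain ⟨k', hk', w', hw', e3⟩ := R.pivot hb hfb hPm hbSP.2 hrest
  obtain ⟨m', hm', r0', hr0', e4⟩ := R.split (fun r => pair D b r = -1) (fun r hr => hr.1.1) hw'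
  obtain ⟨S0, hS0d⟩ : ∃ S0 : Set ℕ, S0 = SP (fun r s => pair D r s) Q (b :: P) := ⟨_, rfl⟩
  have hbQL : b ∈ Q ++ L := List.mem_append.2 (Or.inl hb)
  have hr0S : r0' ∈ X xr S0 := X_sub hr0' fun r hr => by
    rw [hS0d]
    refine ⟨hr.1.1.1, fun p hp => ?_⟩
    rcases List.mem_cons.1 hp with rfl | hp
    · have h1 := hr.2
      have h2 := hr.1.2
      rcases R.vals p hbQL r hr.1.1.1 (fun e => by
        subst e; change pair D p p ≤ 0 at h2; rw [h.pair_self hbn] at h2; omega) with e | e | e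
      · exact absurd e h1
      · exact e
      · change pair D p r = 1 at e; change pair D p r ≤ 0 at h2; omega
    · exact hr.1.1.2 p hp
  obtain ⟨bb, hbb⟩ : ∃ bb, bb = smR D (D.neg b) th := ⟨_, rfl⟩
  have hpnb : pair D (D.neg b) th = -1 := by rw [h.pair_neg_left hbn hthn, hQth b hb]
  obtain ⟨hbbn, hbbco, hbblin⟩ := h.sum_facts (h.good.neg_lt hbn) hthn hpnb
  rw [← hbb] at hbbn hbbco hbblin
  have hbbc : rootCo dat bb j = 1 := by rw [hbbco j hjr, h.rootCo_neg hbn hjr, hbc, hth]; norm_num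
  have hbbQ : bb ∈ Q := (hQm bb).2 ⟨hbbn, h.pos_of_coord hbbn hjr (by omega), hbbc⟩
  have hbbpair : ∀ r < D.nroots, pair D r bb = pair D r th - pair D r b := fun r hr => by
    rw [hbblin r hr, h.pair_symm hr (h.good.neg_lt hbn), h.pair_neg_left hbn hr, h.pair_symm hbn hr]; ring
  have hpartner : ∀ r ∈ Q, pair D b r = -1 → r = bb := by
    intro r hr hp
    obtain ⟨e1, e2, -⟩ := h.sum_facts hbn ((hQm r).1 hr).1 hp
    have e := hcoef _ e1 (by rw [e2 j hjr, hbc, hQ1 r hr]; norm_num)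
    refine h.root_inj ((hQm r).1 hr).1 hbbn fun i hi => ?_
    have := e2 i hi
    rw [e] at this
    rw [hbbco i hi, h.rootCo_neg hbn hi]; omega
  have hbbb : pair D b bb = -1 := by rw [hbbpair b hbn, hQth b hb, h.pair_self hbn]; norm_num
  have hsmth : smR D b bb = th := by
    obtain ⟨e1, e2, -⟩ := h.sum_facts hbn hbbn hbbb
    exact hcoef _ e1 (by rw [e2 j hjr, hbc, hbbc]; norm_num)
  have hm'2 : m' ∈ X xr {bb} := X_sub hm' fun r hr => Set.mem_singleton_iff.2 (hpartner r hr.1.1.1 hr.2)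
  obtain ⟨kk, hkk, rfl⟩ := up (fun r hr => List.mem_append.2 (Or.inr hr.1)) hk'
  obtain ⟨mm, hmm, rfl⟩ := up (fun r hr => List.mem_append.2 (Or.inl ((Set.mem_singleton_iff.1 hr) ▸ hbbQ))) hm'2
  obtain ⟨r0, hr0, rfl⟩ := up (fun r hr => by rw [hS0d] at hr; exact List.mem_append.2 (Or.inl hr.1)) hr0S
  obtain ⟨d, hd⟩ := xG_singleton h.good hmm
  have hkkG : (kk : GL D.Idx F) ∈ D.group F := grp (fun r hr => hlt r (by simp [hr.1])) hkk
  have hkky : Commute y (kk : GL D.Idx F) := by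
    rw [hyd]
    refine vcomm fun p hp => (xcomm (fun r hr t => ?_) hkk).symm
    exact h.commute_of_pair (hlt r (by simp [hr.1])) (hA p hp).1.1
      (Or.inl (by rw [h.pair_symm (hlt r (by simp [hr.1])) (hA p hp).1.1]; exact hr.2 _ (hPd ▸ List.mem_map.2 ⟨p, hp, rfl⟩))) p.2 t
  obtain ⟨xb, hxb⟩ : ∃ xb : ↥(centGrp h.good F th), xb = ⟨h.good.xG b (f b), hcen b (Or.inl hbQL) _⟩ := ⟨_, rfl⟩
  have hxbq : xr b (f b) = QuotientGroup.mk xb := by rw [hxb]; exact hxr' b hbQL _
  have e6 : (QuotientGroup.mk (kk * (z2 * (⟨_, hyc⟩ * ⟨w1, hw1c⟩) * z2⁻¹) * kk⁻¹) : _ ⧸ centSub h.good F th) =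
      QuotientGroup.mk ((⟨_, hyc⟩ : ↥(centGrp h.good F th)) * (xb * (mm * r0))) := by
    have hce : Commute (QuotientGroup.mk kk : _ ⧸ centSub h.good F th) (QuotientGroup.mk ⟨_, hyc⟩) := by
      show _ * _ = _ * _
      rw [← QuotientGroup.mk_mul, ← QuotientGroup.mk_mul]
      exact congrArg _ (Subtype.ext (by simpa [← hyd] using hkky.eq.symm))
    simp only [QuotientGroup.mk_mul, QuotientGroup.mk_inv]
    rw [hy] at e2
    rw [e2, hsplit, ← hxbq, ← mul_assoc (QuotientGroup.mk kk), hce.eq, ← e4, ← e3]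
    group
  obtain ⟨c, hc⟩ := eqz e6
  simp only [Subgroup.coe_mul, Subgroup.coe_inv, hxb, hd, ← hyd, ← hu'] at hc
  -- the partner coordinate vanishes
  have hS0 : ∀ r ∈ S0, r ∈ Q ∧ pair D b r = 0 ∧ r ∈ SP (fun r s => pair D r s) Q P := fun r hr => by
    rw [hS0d] at hr
    exact ⟨hr.1, hr.2 b (by simp), hr.1, fun p hp => hr.2 p (by simp [hp])⟩
  have hS0comm : ∀ r ∈ S0, ∀ r' ∈ S0, pair D r r' ≠ -1 := by
    intro r hr r' hr' hp
    obtain ⟨hrQ, hrb, -⟩ := hS0 r hr
    obtain ⟨hrQ', hrb', -⟩ := hS0 r' hr'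
    obtain ⟨rn, -, rc⟩ := (hQm r).1 hrQ
    obtain ⟨e1, e2, e3⟩ := h.sum_facts rn ((hQm r').1 hrQ').1 hp
    have e := hcoef _ e1 (by rw [e2 j hjr, rc, hQ1 r' hrQ']; norm_num)
    have := e3 b hbn
    rw [e, hQth b hb, hrb', hrb] at this
    omega
  have hS0sq : (r0 : GL D.Idx F) * r0 = 1 := h.X_sq_of_comm (fun r hr r' hr' t u =>
    h.commute ((hQm r).1 (hS0 r hr).1).1 ((hQm r').1 (hS0 r' hr').1).1 (hS0comm r hr r' hr')
      (hnegQ r (by simp [(hS0 r hr).1]) r' (hS0 r' hr').1) u t) hr0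
  have hbbA : ∀ p ∈ A, pair D p.1 bb = 0 := fun p hp => by
    rw [hbbpair _ (hA p hp).1.1, hLth _ (hA' p hp).1,
      show pair D p.1 b = 0 from hbSP.2 _ (hPd ▸ List.mem_map.2 ⟨p, hp, rfl⟩)]
    norm_num
  have hbbS : ∀ r ∈ S0, pair D r bb = 1 := fun r hr => by
    obtain ⟨rQ, rb, -⟩ := hS0 r hr
    rw [hbbpair r ((hQm r).1 rQ).1, hQth r rQ, h.pair_symm ((hQm r).1 rQ).1 hbn, rb]; norm_num
  have hcom : ∀ r, r ∈ Q ++ L → ∀ t : F, Commute (h.good.xG th c) (h.good.xG r t) := fun r hr t =>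
    (h.commute_of_pair (hlt r hr) hthn (hthall r hr) c t).symm
  have hyy : y * y = 1 := by
    rw [hyd]
    show vA (fun r t => h.good.xG r t) A * vA (fun r t => h.good.xG r t) A = 1
    rw [← hzA, show z * v * z⁻¹ * (z * v * z⁻¹) = z * (v * v) * z⁻¹ by group, hv2]
    group
  have hyS : ∀ r, r ∈ SP (fun r s => pair D r s) Q P → ∀ t : F, Commute y (h.good.xG r t) := fun r hr t => by
    rw [hyd]; exact vcomm fun p hp => hAS p hp r hr t
  have hyth : ∀ e : F, Commute y (h.good.xG th e) := fun e => by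
    rw [hyd]; exact vcomm fun p hp => hAth p hp e
  have hbbP : bb ∈ SP (fun r s => pair D r s) Q P := ⟨hbbQ, fun p hp => by
    rw [hPd] at hp
    obtain ⟨q, hq, rfl⟩ := List.mem_map.1 hp
    exact hbbA q hq⟩
  obtain ⟨T0, hT0⟩ : ∃ T0, T0 = h.good.xG th c := ⟨_, rfl⟩
  obtain ⟨W0, hW0⟩ : ∃ W0, W0 = (r0 : GL D.Idx F) := ⟨_, rfl⟩
  have hW0b : ∀ t : F, Commute W0 (h.good.xG b t) := fun t => by
    refine hW0 ▸ xcomm (fun r hr s => ?_) hr0
    exact h.commute_of_pair ((hQm r).1 (hS0 r hr).1).1 hbn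
      (Or.inl (by rw [h.pair_symm ((hQm r).1 (hS0 r hr).1).1 hbn]; exact (hS0 r hr).2.1)) t s
  have hW0bb : ∀ t : F, Commute W0 (h.good.xG bb t) := fun t => by
    refine hW0 ▸ xcomm (fun r hr s => ?_) hr0
    exact h.commute_of_pair ((hQm r).1 (hS0 r hr).1).1 hbbn (Or.inr (hbbS r hr)) t s
  have hW0th : ∀ t : F, Commute W0 (h.good.xG th t) := fun t => by
    refine hW0 ▸ xcomm (fun r hr s => ?_) hr0
    exact h.commute_of_pair ((hQm r).1 (hS0 r hr).1).1 hthn (Or.inr (hQth r (hS0 r hr).1)) t s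
  have hW0y : Commute W0 y := hW0 ▸ xcomm (fun r hr s => (hyS r (hS0 r hr).2.2 s).symm) hr0
  rw [← hT0, ← hW0] at hc
  have hk2 : (kk : GL D.Idx F) * u' * (kk : GL D.Idx F)⁻¹ * ((kk : GL D.Idx F) * u' * (kk : GL D.Idx F)⁻¹) = 1 := by
    rw [show (kk : GL D.Idx F) * u' * (kk : GL D.Idx F)⁻¹ * ((kk : GL D.Idx F) * u' * (kk : GL D.Idx F)⁻¹) =
      (kk : GL D.Idx F) * (u' * u') * (kk : GL D.Idx F)⁻¹ by group, hu'2]
    group
  rw [hc] at hk2
  obtain ⟨X0, hX0⟩ : ∃ X0, X0 = h.good.xG b (f b) * h.good.xG bb d := ⟨_, rfl⟩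
  rw [← mul_assoc (h.good.xG b (f b)), ← hX0] at hk2
  have hW2 : W0 * W0 = 1 := by rw [hW0]; exact hS0sq
  have hT2 : T0 * T0 = 1 := by rw [hT0, h.good.xG_add, CharTwo.add_self_eq_zero, h.good.xG_zero]
  have hyX : Commute y X0 := by rw [hX0]; exact (hyS b hbSP _).mul_right (hyS bb hbbP _)
  have hXW : Commute X0 W0 := by rw [hX0]; exact ((hW0b _).mul_right (hW0bb _)).symm
  have hyT : Commute y T0 := by rw [hT0]; exact hyth c
  have hXT : Commute X0 T0 := by
    rw [hT0, hX0]; exact ((hcom b hbQL _).mul_right (hcom bb (by simp [hbbQ]) _)).symm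
  have hWT : Commute W0 T0 := by rw [hT0]; exact hW0th c
  have hd0 : d = 0 := top_partner hk2 hyy hW2 hT2 hyX hW0y.symm hXW hyT hXT hWT (fun hsq => by
      have e := h.sum_conj (F := F) hbn hbbn hbbb d (f b)
      rw [hsmth, h.good.xG_inv, CharTwo.neg_eq] at e
      rw [hX0] at hsq
      have e' : h.good.xG bb d * h.good.xG th (f b * d) * h.good.xG bb d = 1 := by rw [← e, ← hsq]; group
      have hc2 := (h.commute_of_pair (F := F) hbbn hthn (Or.inr (hQth bb hbbQ)) (f b * d) d).eq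
      rw [hc2, mul_assoc, h.good.xG_add, CharTwo.add_self_eq_zero, h.good.xG_zero, mul_one] at e'
      exact (mul_eq_zero.1 ((h.good.x_eq_one_iff hthn _).1 (congrArg Units.val e'))).resolve_left hfb)
  -- reduce the remaining part modulo the centre
  rw [hd0, h.good.xG_zero, one_mul] at hc
  have hbP : ∀ p ∈ b :: P, p ∈ Q ++ L := fun p hp => (List.mem_cons.1 hp).elim (fun e => e ▸ hbQL) (hPm p)
  have hr0q : (QuotientGroup.mk r0 : _ ⧸ centSub h.good F th) ∈ X xr (SP (fun r s => pair D r s) Q (b :: P)) :=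
    hS0d ▸ hr0S
  obtain ⟨k2', hk2', B, hB, hBp, e5⟩ := R.reduce (b :: P) hbP
    (fun r hr r' hr' => hS0comm r (hS0d ▸ hr) r' (hS0d ▸ hr')) _ hr0q
  obtain ⟨k2, hk2m, rfl⟩ := up (fun r hr => List.mem_append.2 (Or.inr hr.1)) hk2'
  obtain ⟨hBc, hBe⟩ := vmap B fun p hp => List.mem_append.2 (Or.inl (hB p hp).1.1)
  rw [hBe, ← QuotientGroup.mk_inv, ← QuotientGroup.mk_mul, ← QuotientGroup.mk_mul] at e5
  obtain ⟨c2, hc2⟩ := eqz e5
  simp only [Subgroup.coe_mul, Subgroup.coe_inv, ← hW0] at hc2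
  have hk2n : ∀ r, r ∈ {s | s ∈ L ∧ ∀ p ∈ b :: P, pair D p s = 0} → r < D.nroots := fun r hr => hlt r (by simp [hr.1])
  have hk2y : Commute (k2 : GL D.Idx F) y := by
    refine xcomm (fun r hr s => ?_) hk2m
    rw [hyd]
    refine (vcomm fun p hp => ?_).symm
    exact h.commute_of_pair (hA p hp).1.1 (hk2n r hr)
      (Or.inl (hr.2 _ (List.mem_cons_of_mem _ (hPd ▸ List.mem_map.2 ⟨p, hp, rfl⟩)))) s p.2
  have hk2b : Commute (k2 : GL D.Idx F) (h.good.xG b (f b)) := xcomm (fun r hr s =>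
    (h.commute_of_pair hbn (hk2n r hr) (Or.inl (hr.2 b (by simp))) s (f b)).symm) hk2m
  have hk2T : Commute (k2 : GL D.Idx F) T0 := hT0 ▸ xcomm (fun r hr s => (hcom r (by simp [hr.1]) s).symm) hk2m
  obtain ⟨VB, hVB⟩ : ∃ VB, VB = vA (xf h.good F) B := ⟨_, rfl⟩
  rw [← hVB] at hc2
  have e7 : (k2 : GL D.Idx F) * ((kk : GL D.Idx F) * u' * (kk : GL D.Idx F)⁻¹) * (k2 : GL D.Idx F)⁻¹ =
      y * h.good.xG b (f b) * VB * h.good.xG th (c2 + c) := by
    rw [hc, ← h.good.xG_add, ← hT0]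
    calc (k2 : GL D.Idx F) * (y * (h.good.xG b (f b) * W0) * T0) * (k2 : GL D.Idx F)⁻¹
        = ((k2 : GL D.Idx F) * y * (k2 : GL D.Idx F)⁻¹) * ((k2 : GL D.Idx F) * h.good.xG b (f b) * (k2 : GL D.Idx F)⁻¹) *
            ((k2 : GL D.Idx F) * W0 * (k2 : GL D.Idx F)⁻¹) * ((k2 : GL D.Idx F) * T0 * (k2 : GL D.Idx F)⁻¹) := by group
      _ = _ := by
        rw [hk2y.eq, hk2b.eq, hk2T.eq, mul_inv_cancel_right, mul_inv_cancel_right, mul_inv_cancel_right, hc2]
        group
  obtain ⟨kb, hkb⟩ : ∃ kb, kb = h.good.xG bb ((c2 + c) / f b) := ⟨_, rfl⟩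
  have hkbb : kb * h.good.xG b (f b) * kb⁻¹ = h.good.xG b (f b) * h.good.xG th (c2 + c) := by
    have hp : pair D bb b = -1 := by rw [h.pair_symm hbbn hbn]; exact hbbb
    obtain ⟨e1, e2, -⟩ := h.sum_facts hbbn hbn hp
    rw [hkb, h.sum_conj hbbn hbn hp, div_mul_cancel₀ _ hfb,
      hcoef _ e1 (by rw [e2 j hjr, hbbc, hbc]; norm_num)]
  have hkby : Commute kb y := hkb ▸ (hyS bb hbbP _).symm
  have hBpair : ∀ p ∈ B, p.1 ∈ S0 := fun p hp => hS0d ▸ (hB p hp).1
  have hkbB : Commute kb VB := by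
    rw [hVB, hkb]
    refine (vcomm fun p hp => ?_).symm
    exact h.commute_of_pair ((hQm _).1 (hB p hp).1.1).1 hbbn (Or.inr (hbbS _ (hBpair p hp))) _ _
  have hBth : Commute VB (h.good.xG th (c2 + c)) := by
    rw [hVB]
    refine vcomm fun p hp => ?_
    exact h.commute_of_pair ((hQm _).1 (hB p hp).1.1).1 hthn (Or.inr (hQth _ (hB p hp).1.1)) _ _
  have hkbT : Commute kb (h.good.xG th (c2 + c)) :=
    hkb ▸ h.commute_of_pair hbbn hthn (Or.inr (hQth bb hbbQ)) _ _
  refine ⟨kb * ((k2 : GL D.Idx F) * (kk : GL D.Idx F)), mul_mem (hkb ▸ h.good.xG_mem_group hbbn _)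
    (mul_mem (grp hk2n hk2m) hkkG), A ++ (b, f b) :: B, ?_, ?_, ?_⟩
  · intro p hp
    rcases List.mem_append.1 hp with hp | hp
    · exact hMA p hp
    rcases List.mem_cons.1 hp with rfl | hp
    · exact ⟨⟨hbn, hbp, hz0 _⟩, hfb⟩
    · obtain ⟨pn, pp, -⟩ := (hQm p.1).1 (hB p hp).1.1
      exact ⟨⟨pn, pp, hz0 _⟩, (hB p hp).2⟩
  · refine List.pairwise_append.2 ⟨hAp, List.pairwise_cons.2 ⟨fun q hq => (hB q hq).1.2 b (by simp), hBp⟩,
      fun p hp q hq => ?_⟩
    have hpP : p.1 ∈ P := hPd ▸ List.mem_map.2 ⟨p, hp, rfl⟩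
    rcases List.mem_cons.1 hq with rfl | hq
    · exact hbSP.2 _ hpP
    · exact (hB q hq).1.2 _ (List.mem_cons_of_mem _ hpP)
  · show _ = vA (xf h.good F) (A ++ (b, f b) :: B)
    rw [vA_append, vA_cons, ← hyd, ← hVB]
    show _ = y * (h.good.xG b (f b) * VB)
    calc kb * ((k2 : GL D.Idx F) * (kk : GL D.Idx F)) * u' * (kb * ((k2 : GL D.Idx F) * (kk : GL D.Idx F)))⁻¹
        = kb * ((k2 : GL D.Idx F) * ((kk : GL D.Idx F) * u' * (kk : GL D.Idx F)⁻¹) * (k2 : GL D.Idx F)⁻¹) * kb⁻¹ := by group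
      _ = (kb * y * kb⁻¹) * (kb * h.good.xG b (f b) * kb⁻¹) * (kb * VB * kb⁻¹) * (kb * h.good.xG th (c2 + c) * kb⁻¹) := by
        rw [e7]; group
      _ = y * (h.good.xG b (f b) * h.good.xG th (c2 + c)) * VB * h.good.xG th (c2 + c) := by
        rw [hkby.eq, hkbb, hkbB.eq, hkbT.eq, mul_inv_cancel_right, mul_inv_cancel_right, mul_inv_cancel_right]
      _ = y * h.good.xG b (f b) * (h.good.xG th (c2 + c) * VB) * h.good.xG th (c2 + c) := by group
      _ = y * h.good.xG b (f b) * VB * (h.good.xG th (c2 + c) * h.good.xG th (c2 + c)) := by rw [← hBth.eq]; group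
      _ = _ := by rw [h.good.xG_add, CharTwo.add_self_eq_zero, h.good.xG_zero, mul_one, mul_assoc]

end SLFacts

end CfsgLib.Chev.SLInvol
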