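import Mathlib
import Cfsg.Agent.Lib.Chev.SLInvolHeis
import Cfsg.Agent.Lib.Chev.SLInvolRank

/-!
The classification of involutions in a simply laced Chevalley group in characteristic two, from checks.
-/

set_option autoImplicit false

namespace CfsgLib.Chev.SLInvol

open Cfsg.Lie CfsgLib.Chev.InvolMono

/-- The coordinates of the order are abelian from level `k0` on, and the levels exhaust the positive roots. -/
noncomputable def ordLevels (D : ChevalleyDatum) (dat : LieData) (ord : List ℕ) (k0 : ℕ) : Bool :=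
  allR (fun j => Nat.blt j D.rank) ord &&
  allR (fun r => Nat.blt r (half D) ||
    ((ord.any fun j => !Int.beq' (rootCo dat r j) 0) &&
      allR (fun k => Nat.blt k k0 || !((ord.take k).all fun j => Int.beq' (rootCo dat r j) 0) ||
        decide (rootCo dat r (ord.getD k 0) ≤ 1)) (upto ord.length))) (upto D.nroots)

/-- The first coordinate of the order gives a Heisenberg radical. -/
noncomputable def heisTop (D : ChevalleyDatum) (dat : LieData) (ord : List ℕ) : Bool :=
  Int.beq' (rootCo dat (D.nroots - 1) (ord.getD 0 0)) 2 && Nat.blt 0 ord.length &&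
  allR (fun r => Nat.blt r (half D) || Nat.beq r (D.nroots - 1) ||
    (decide (rootCo dat r (ord.getD 0 0) ≤ 1) &&
      (!Int.beq' (rootCo dat r (ord.getD 0 0)) 1 || Int.beq' (fpair D r (D.nroots - 1)) 1))) (upto D.nroots)

namespace SLFacts

variable {D : ChevalleyDatum} {dat : LieData} {sd : StructData} (h : SLFacts D dat sd)
variable {F : Type*} [Field F] [CharP F 2] [Fintype F]
include h

omit [Field F] [CharP F 2] [Fintype F] in
theorem ordLevels_facts {ord : List ℕ} {k0 : ℕ} (ho : ordLevels D dat ord k0 = true) :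
    (∀ j ∈ ord, j < D.rank) ∧ (∀ r ∈ MK D dat ord ord.length, False) ∧
      ∀ k, k0 ≤ k → k < ord.length → ∀ r ∈ MK D dat ord k, rootCo dat r (ord.getD k 0) ≤ 1 := by
  simp only [ordLevels, Bool.and_eq_true] at ho
  refine ⟨fun j hj => ?_, fun r hr => ?_, fun k hk0 hk r hr => ?_⟩
  · have := allR_true ho.1 hj; simp only [Nat.blt, Nat.ble_eq] at this; omega
  all_goals
    have h1 := allR_upto ho.2 hr.1
    simp only [Bool.or_eq_true, Bool.and_eq_true, Nat.blt, Nat.ble_eq, List.any_eq_true, Bool.not_eq_true',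
      ← Bool.not_eq_true, Int.beq'_eq] at h1
    rcases h1 with h1 | h1
    · have := hr.2.1; omega
  · obtain ⟨⟨j, hj, hne⟩, -⟩ := h1
    exact hne (hr.2.2 j (by rw [List.take_length]; exact hj))
  · have h2 := allR_upto h1.2 hk
    simp only [Bool.or_eq_true, Nat.blt, Nat.ble_eq, decide_eq_true_eq, Bool.not_eq_true', ← Bool.not_eq_true,
      List.all_eq_true, Int.beq'_eq] at h2
    rcases h2 with (h2 | h2) | h2
    · omega
    · exact absurd (fun j hj => hr.2.2 j hj) h2
    · exact h2

/-- Involutions of the unipotent radical: abelian levels only. -/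
theorem hU_abelian {ord : List ℕ} (ho : ordLevels D dat ord 0 = true) (u : GL D.Idx F)
    (hu : u ∈ X (xf h.good F) (MK D dat ord 0)) (hu2 : u * u = 1) :
    ∃ z ∈ D.group F, OrthProd h.good (MK D dat ord 0) (z * u * z⁻¹) := by
  obtain ⟨h1, h2, h3⟩ := h.ordLevels_facts ho
  obtain ⟨z, hz, hy⟩ := h.levels h1 h2 h3 ord.length 0 le_rfl (by omega) u hu hu2
  exact ⟨z, X_le (fun r hr t => h.good.xG_mem_group hr.1 t) hz, hy⟩

/-- Involutions of the unipotent radical: a Heisenberg level on top. -/
theorem hU_heis {ord : List ℕ} (ho : ordLevels D dat ord 1 = true) (ht : heisTop D dat ord = true) (u : GL D.Idx F)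
    (hu : u ∈ X (xf h.good F) (MK D dat ord 0)) (hu2 : u * u = 1) :
    ∃ z ∈ D.group F, OrthProd h.good (MK D dat ord 0) (z * u * z⁻¹) := by
  obtain ⟨h1, h2, h3⟩ := h.ordLevels_facts ho
  simp only [heisTop, Bool.and_eq_true, Int.beq'_eq, Nat.blt, Nat.ble_eq] at ht
  obtain ⟨⟨hth, hne⟩, hall⟩ := ht
  have hrow : ∀ r, half D ≤ r → r < D.nroots → r ≠ D.nroots - 1 → rootCo dat r (ord.getD 0 0) ≤ 1 ∧
      (rootCo dat r (ord.getD 0 0) = 1 → pair D r (D.nroots - 1) = 1) := by
    intro r hr hrn hne
    have := allR_upto hall hrn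
    simp only [Bool.or_eq_true, Bool.and_eq_true, Nat.ble_eq, Nat.beq_eq, decide_eq_true_eq,
      Bool.not_eq_true', ← Bool.not_eq_true, Int.beq'_eq, h.good.fpair_eq r (show D.nroots - 1 < D.nroots by omega)] at this
    rcases this with (h' | h') | ⟨h', h''⟩
    · omega
    · exact absurd h' hne
    · exact ⟨h', fun e => h''.resolve_left fun hn => hn e⟩
  refine h.top_step h1 hne hth (fun r a b c => (hrow r a b c).1) (fun r a b c => ?_) ?_ hu hu2
  · by_cases e : r = D.nroots - 1
    · subst e; omega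
    · exact (hrow r a b e).2 c
  · exact fun v hv hv2 => h.levels h1 h2 h3 (ord.length - 1) 1 le_rfl (by omega) v hv hv2

/-- Every involution is conjugate to a representative. -/
theorem classes {ord : List ℕ}
    (hU : ∀ u ∈ X (xf h.good F) (MK D dat ord 0), u * u = 1 →
      ∃ z ∈ D.group F, OrthProd h.good (MK D dat ord 0) (z * u * z⁻¹))
    {N : List (List ℕ)} {T : List (List (ℕ × List ℕ × ℕ))} {reps : List (List ℕ)}
    {M : List (List (List ℕ × List ℕ) × ℕ)} (hN : N.getD 0 [] = []) (hN0 : 0 < N.length)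
    (hT : ∀ i < N.length, transOK D sd N T i = true) (hM : ∀ i < N.length, termOK D sd N reps M i = true)
    {x : GL D.Idx F} (hx : x ∈ D.group F) (ho : orderOf x = 2) :
    ∃ R ∈ reps, GConj x (prodOne h.good F R) := by
  obtain ⟨B, hB, hp, hc⟩ := h.exists_orth hU hx ho
  rcases h.orth_rep (F := F) N T reps M hN hN0 hT hM hB hp with e | ⟨R, hR, e⟩
  · exfalso
    obtain ⟨z, -, hz⟩ := hc
    rw [e] at hz
    rw [conj_eq_one_iff.1 hz, orderOf_one] at ho
    omega
  · exact ⟨R, hR, hc.trans e⟩

end SLFacts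

end CfsgLib.Chev.SLInvol
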