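import Mathlib

/-!
The alternating group of degree eight has no abelian two-generated 2-subgroup of order sixteen.
-/

set_option autoImplicit false
set_option maxRecDepth 100000

namespace CfsgLib.Chev.Section

open Equiv Equiv.Perm

/-- The product of two four-cycles. -/
def fourFour : Fin 8 → Fin 8 := ![1, 2, 3, 0, 5, 6, 7, 4]

/-- A four-cycle and a transposition. -/
def fourTwo : Fin 8 → Fin 8 := ![1, 2, 3, 0, 5, 4, 6, 7]

/-- A map commuting with `fourFour`, from its values at the orbit representatives. -/
def extFourFour (a b : Fin 8) : Fin 8 → Fin 8 :=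
  ![a, fourFour a, fourFour (fourFour a), fourFour (fourFour (fourFour a)),
    b, fourFour b, fourFour (fourFour b), fourFour (fourFour (fourFour b))]

/-- A map commuting with `fourTwo`, from its values at the orbit representatives. -/
def extFourTwo (a b c d : Fin 8) : Fin 8 → Fin 8 :=
  ![a, fourTwo a, fourTwo (fourTwo a), fourTwo (fourTwo (fourTwo a)), b, fourTwo b, c, d]

theorem fourFour_cent : ∀ a b : Fin 8, let f := extFourFour a b
    (∀ i, f (f (f (f i))) = i) → (∀ i, f (f i) ≠ i) → ∀ i, f (f i) = fourFour (fourFour i) := by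
  decide +kernel

set_option maxHeartbeats 4000000 in
theorem fourTwo_cent : ∀ a b c d : Fin 8, let f := extFourTwo a b c d
    fourTwo (fourTwo (fourTwo (fourTwo a))) = a → fourTwo (fourTwo b) = b → fourTwo c = c → fourTwo d = d →
    (∀ i, f (f (f (f i))) = i) →
    (∀ i, f (f i) = i) ∨ ∀ i, f (f i) = fourTwo (fourTwo i) := by
  decide +kernel

/-- The first representative as a permutation. -/
def permFourFour : Perm (Fin 8) := ⟨fourFour, ![3, 0, 1, 2, 7, 4, 5, 6], by decide, by decide⟩

/-- The second representative as a permutation. -/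
def permFourTwo : Perm (Fin 8) := ⟨fourTwo, ![3, 0, 1, 2, 5, 4, 6, 7], by decide, by decide⟩

theorem cycleType_fourFour : permFourFour.cycleType = {4, 4} := by decide +kernel

theorem cycleType_fourTwo : permFourTwo.cycleType = {4, 2} := by decide +kernel

/-- An even permutation of eight points of order dividing four is an involution or of type `(4,4)` or `(4,2)`. -/
theorem isConj_four {x : Perm (Fin 8)} (hs : Perm.sign x = 1) (h4 : x ^ 4 = 1) (h2 : x ^ 2 ≠ 1) :
    IsConj permFourFour x ∨ IsConj permFourTwo x := by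
  set M := x.cycleType with hM
  have hsum : M.sum ≤ 8 := (Equiv.Perm.sum_cycleType x).trans_le
    ((Finset.card_le_univ _).trans_eq (Fintype.card_fin 8))
  have hmem : ∀ n ∈ M, n = 2 ∨ n = 4 := by
    intro n hn
    have h1 : n ∣ 4 := (Equiv.Perm.dvd_of_mem_cycleType hn).trans (orderOf_dvd_of_pow_eq_one h4)
    have h1' := Equiv.Perm.two_le_of_mem_cycleType hn
    have := Nat.le_of_dvd (by norm_num) h1
    rcases (show n = 2 ∨ n = 3 ∨ n = 4 by omega) with h | h | h
    · exact Or.inl h
    · subst h; norm_num at h1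
    · exact Or.inr h
  have hex : 4 ∈ M := by
    by_contra h
    refine h2 (orderOf_dvd_iff_pow_eq_one.1 ?_)
    rw [← Equiv.Perm.lcm_cycleType]
    exact Multiset.lcm_dvd.2 fun n hn => ((hmem n hn).resolve_right fun e => h (e ▸ hn)).dvd
  have hrep : M = Multiset.replicate (M.count 4) 4 + Multiset.replicate (M.count 2) 2 := by
    refine Multiset.ext.2 fun n => ?_
    rw [Multiset.count_add, Multiset.count_replicate, Multiset.count_replicate]
    by_cases hn : n ∈ M
    · rcases hmem n hn with rfl | rfl <;> simp
    · rw [Multiset.count_eq_zero_of_notMem hn]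
      by_cases h4' : 4 = n
      · subst h4'; exact absurd hex hn
      · rw [if_neg h4']
        by_cases h2' : 2 = n
        · subst h2'; simp [Multiset.count_eq_zero_of_notMem hn]
        · rw [if_neg h2']
  set a := M.count 4
  set b := M.count 2
  have ha : 1 ≤ a := Multiset.count_pos.2 hex
  rw [hrep] at hsum
  simp only [Multiset.sum_add, Multiset.sum_replicate, smul_eq_mul] at hsum
  have hsign := Equiv.Perm.sign_of_cycleType x
  rw [← hM, hrep, hs, Multiset.sum_add, Multiset.sum_replicate, Multiset.sum_replicate, Multiset.card_add,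
    Multiset.card_replicate, Multiset.card_replicate, smul_eq_mul, smul_eq_mul] at hsign
  have hb : b ≤ 2 := by omega
  have ha2 : a ≤ 2 := by omega
  interval_cases a <;> interval_cases b <;> first
    | omega
    | exact absurd hsign (by decide)
    | (left; rw [Equiv.Perm.isConj_iff_cycleType_eq, ← hM, hrep, cycleType_fourFour]; rfl)
    | (right; rw [Equiv.Perm.isConj_iff_cycleType_eq, ← hM, hrep, cycleType_fourTwo]; rfl)

/-- A permutation commuting with another is determined by its values at representatives. -/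
theorem commute_apply {x y : Perm (Fin 8)} (h : Commute y x) (i : Fin 8) : y (x i) = x (y i) := by
  rw [← Perm.mul_apply, h.eq, Perm.mul_apply]

theorem sq_eq_fourTwo {y : Perm (Fin 8)} (h : Commute y permFourTwo) (h4 : y ^ 4 = 1) :
    y ^ 2 = 1 ∨ y ^ 2 = permFourTwo ^ 2 := by
  have e : ∀ i, y i = extFourTwo (y 0) (y 4) (y 6) (y 7) i := by
    have c := fun i => commute_apply h i
    intro i
    fin_cases i
    · rfl
    · exact c 0
    · exact (c 1).trans (congrArg fourTwo (c 0))
    · exact (c 2).trans (congrArg fourTwo ((c 1).trans (congrArg fourTwo (c 0))))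
    · rfl
    · exact c 4
    · rfl
    · rfl
  have c := fun i => commute_apply h i
  have hcl := fourTwo_cent (y 0) (y 4) (y 6) (y 7)
    (((congrArg fourTwo ((c 2).trans (congrArg fourTwo ((c 1).trans (congrArg fourTwo (c 0)))))).symm.trans
      (c 3).symm)) (((congrArg fourTwo (c 4)).symm.trans (c 5).symm)) (c 6).symm (c 7).symm
    (fun i => by simp only [← e]; exact congrFun (congrArg (⇑) h4) i)
  simp only [← e] at hcl
  rcases hcl with h' | h'
  · exact Or.inl (Equiv.ext fun i => h' i)
  · exact Or.inr (Equiv.ext fun i => h' i)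

theorem sq_eq_fourFour {y : Perm (Fin 8)} (h : Commute y permFourFour) (h4 : y ^ 4 = 1)
    (hfp : ∀ i, y (y i) ≠ i) : y ^ 2 = permFourFour ^ 2 := by
  have e : ∀ i, y i = extFourFour (y 0) (y 4) i := by
    have c := fun i => commute_apply h i
    intro i
    fin_cases i
    · rfl
    · exact c 0
    · exact (c 1).trans (congrArg fourFour (c 0))
    · exact (c 2).trans (congrArg fourFour ((c 1).trans (congrArg fourFour (c 0))))
    · rfl
    · exact c 4
    · exact (c 5).trans (congrArg fourFour (c 4))
    · exact (c 6).trans (congrArg fourFour ((c 5).trans (congrArg fourFour (c 4))))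
  have hcl := fourFour_cent (y 0) (y 4)
    (fun i => by simp only [← e]; exact congrFun (congrArg (⇑) h4) i)
    (fun i => by simp only [← e]; exact hfp i)
  simp only [← e] at hcl
  exact Equiv.ext fun i => hcl i

/-- Commuting even permutations of eight points of order four have the same square. -/
theorem sq_eq_sq {x y : Perm (Fin 8)} (hsx : Perm.sign x = 1) (hsy : Perm.sign y = 1) (hx : x ^ 4 = 1)
    (hy : y ^ 4 = 1) (hxy : Commute x y) (hx2 : x ^ 2 ≠ 1) (hy2 : y ^ 2 ≠ 1) : x ^ 2 = y ^ 2 := by
  have move : ∀ {r u v : Perm (Fin 8)}, IsConj r u → Commute u v → v ^ 4 = 1 → v ^ 2 ≠ 1 →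
      ∃ φ : Perm (Fin 8) ≃* Perm (Fin 8), φ r = u ∧ (∀ z, IsConj z (φ z)) ∧ Commute (φ.symm v) r ∧ φ.symm v ^ 4 = 1 ∧ φ.symm v ^ 2 ≠ 1 := by
    intro r u v hru huv hv hv2
    obtain ⟨c, hc⟩ := isConj_iff.1 hru
    refine ⟨MulAut.conj c, hc, fun z => isConj_iff.2 ⟨c, rfl⟩, ?_, by rw [← map_pow, hv, map_one], fun e => hv2 ?_⟩
    · have h1 : Commute ((MulAut.conj c).symm v) ((MulAut.conj c).symm u) := by
        have h0 := congrArg (MulAut.conj c).symm huv.symm.eq
        rw [map_mul, map_mul] at h0
        exact h0
      rwa [show (MulAut.conj c).symm u = r from (MulEquiv.symm_apply_eq _).2 hc.symm] at h1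
    · rwa [← map_pow, EmbeddingLike.map_eq_one_iff] at e
  rcases isConj_four hsx hx hx2 with hrx | hrx
  · rcases isConj_four hsy hy hy2 with hry | hry
    · obtain ⟨φ, hφ, hφc, hc, hc4, -⟩ := move hrx hxy hy hy2
      have hfp : ∀ i, φ.symm y (φ.symm y i) ≠ i := by
        have h1 := hφc (φ.symm y)
        rw [MulEquiv.apply_symm_apply] at h1
        have hconj : IsConj permFourFour (φ.symm y) := hry.trans h1.symm
        obtain ⟨c', hc'⟩ := isConj_iff.1 hconj
        intro i hi
        rw [← hc'] at hi
        have : ∀ j, fourFour (fourFour j) ≠ j := by decide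
        refine this (c'⁻¹ i) (c'.injective ?_)
        simpa [Perm.mul_apply, permFourFour] using hi
      have h1 := sq_eq_fourFour hc hc4 hfp
      rw [← map_pow] at h1
      rw [← hφ, ← map_pow, ← h1, MulEquiv.apply_symm_apply]
    · obtain ⟨φ, hφ, -, hc, hc4, hc2⟩ := move hry hxy.symm hx hx2
      have h1 := (sq_eq_fourTwo hc hc4).resolve_left hc2
      rw [← map_pow] at h1
      rw [← hφ, ← map_pow, ← h1, MulEquiv.apply_symm_apply]
  · obtain ⟨φ, hφ, -, hc, hc4, hc2⟩ := move hrx hxy hy hy2
    have h1 := (sq_eq_fourTwo hc hc4).resolve_left hc2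
    rw [← map_pow] at h1
    rw [← hφ, ← map_pow, ← h1, MulEquiv.apply_symm_apply]

end CfsgLib.Chev.Section
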