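import Mathlib

/-!
Lifting the normaliser of a subgroup of prime order of a quotient: the Frattini argument for sections.
-/

set_option autoImplicit false

namespace CfsgLib.Chev.Section

open scoped Pointwise

/-- Powers of a conjugating element. -/
theorem pow_conj_eq {A : Type*} [Group A] {a b : A} {k : ℕ} (h : b * a * b⁻¹ = a ^ k) (n : ℕ) :
    b ^ n * a * (b ^ n)⁻¹ = a ^ (k ^ n) := by
  induction n with
  | zero => simp
  | succ n ih =>
    calc b ^ (n + 1) * a * (b ^ (n + 1))⁻¹ = b * (b ^ n * a * (b ^ n)⁻¹) * b⁻¹ := by rw [pow_succ']; group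
      _ = b * a ^ (k ^ n) * b⁻¹ := by rw [ih]
      _ = (b * a * b⁻¹) ^ (k ^ n) := conj_pow.symm
      _ = a ^ (k ^ (n + 1)) := by rw [h, ← pow_mul, pow_succ']

/-- An element of prime order in a quotient lifts to a `r`-subgroup whose normaliser covers the normaliser. -/
theorem exists_lift {G A : Type*} [Group G] [Group A] [Finite G] (χ : G →* A) {r : ℕ} [Fact r.Prime]
    {a : A} (ha : a ^ r = 1) (har : a ∈ χ.range) :
    ∃ P : Subgroup G, IsPGroup r P ∧ P.map χ = Subgroup.zpowers a ∧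
      ∀ b ∈ χ.range, b * a * b⁻¹ ∈ Subgroup.zpowers a →
        ∃ h : G, (∀ y ∈ P, h * y * h⁻¹ ∈ P) ∧ χ h = b := by
  classical
  set Z := Subgroup.zpowers a with hZ
  set M : Subgroup G := Z.comap χ with hM
  have hZr : IsPGroup r Z := by
    rintro ⟨z, hz⟩
    obtain ⟨i, rfl⟩ := Subgroup.mem_zpowers_iff.1 hz
    refine ⟨1, Subtype.ext ?_⟩
    show (a ^ i) ^ (r ^ 1) = 1
    rw [pow_one, ← zpow_natCast, ← _root_.zpow_mul, mul_comm, _root_.zpow_mul, zpow_natCast, ha, _root_.one_zpow]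
  let f : M →* Z := χ.subgroupComap Z
  have hf : Function.Surjective f := by
    rintro ⟨z, hz⟩
    obtain ⟨i, rfl⟩ := Subgroup.mem_zpowers_iff.1 hz
    obtain ⟨m, rfl⟩ := har
    exact ⟨⟨m ^ i, show χ (m ^ i) ∈ Z by rw [map_zpow]; exact zpow_mem (Subgroup.mem_zpowers _) i⟩,
      Subtype.ext (map_zpow χ m i)⟩
  let P0 : Sylow r M := default
  have htop : P0.map f = ⊤ := by
    have := (P0.mapSurjective hf).is_maximal' (hZr.to_subgroup ⊤) le_top
    rw [Sylow.coe_mapSurjective] at this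
    exact this.symm
  set P : Subgroup G := (P0 : Subgroup M).map M.subtype with hP
  have hmap : P.map χ = Z := by
    refine le_antisymm ?_ ?_
    · rintro z ⟨y, ⟨m, -, rfl⟩, rfl⟩
      exact m.2
    · intro z hz
      obtain ⟨m, hm, hmz⟩ : (⟨z, hz⟩ : Z) ∈ P0.map f := htop ▸ Subgroup.mem_top _
      exact ⟨m, ⟨m, hm, rfl⟩, congrArg Subtype.val hmz⟩
  refine ⟨P, P0.2.map M.subtype, hmap, ?_⟩
  rintro b ⟨y, rfl⟩ hb
  have hyM : y ∈ Subgroup.normalizer (M : Set G) := by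
    refine Subgroup.mem_normalizer_fintype fun n hn => ?_
    obtain ⟨i, hi⟩ := Subgroup.mem_zpowers_iff.1 (show χ n ∈ Z from hn)
    show χ (y * n * y⁻¹) ∈ Z
    rw [map_mul, map_mul, map_inv, ← hi, ← conj_zpow]
    exact zpow_mem hb i
  obtain ⟨m, hm⟩ := MulAction.exists_smul_eq M P0 (M.normalizerMonoidHom ⟨y, hyM⟩ • P0)
  have hsub : ∀ x : M, x ∈ (P0 : Subgroup M) → (m⁻¹ * M.normalizerMonoidHom ⟨y, hyM⟩ x * m) ∈ (P0 : Subgroup M) := by
    intro x hx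
    have h1 : M.normalizerMonoidHom ⟨y, hyM⟩ x ∈ ((m • P0 : Sylow r M) : Subgroup M) := by
      rw [hm]
      exact Subgroup.smul_mem_pointwise_smul x _ _ hx
    rw [Sylow.coe_subgroup_smul, Subgroup.mem_pointwise_smul_iff_inv_smul_mem] at h1
    simpa [MulAut.smul_def, MulAut.conj_inv_apply] using h1
  have hn0 : ∀ z ∈ P, ((m : G)⁻¹ * y) * z * ((m : G)⁻¹ * y)⁻¹ ∈ P := by
    rintro z ⟨x, hx, rfl⟩
    refine ⟨_, hsub x hx, ?_⟩
    show (m : G)⁻¹ * (y * (x : G) * y⁻¹) * (m : G) = _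
    show _ = (m : G)⁻¹ * y * (x : G) * ((m : G)⁻¹ * y)⁻¹
    group
  obtain ⟨i, hi⟩ := Subgroup.mem_zpowers_iff.1 (show χ (m : G) ∈ Z from m.2)
  obtain ⟨u, hu, hχu⟩ : a ^ i ∈ P.map χ := hmap ▸ zpow_mem (Subgroup.mem_zpowers _) i
  refine ⟨u * ((m : G)⁻¹ * y), fun z hz => ?_, ?_⟩
  · rw [show u * ((m : G)⁻¹ * y) * z * (u * ((m : G)⁻¹ * y))⁻¹ =
      u * (((m : G)⁻¹ * y) * z * ((m : G)⁻¹ * y)⁻¹) * u⁻¹ by group]
    exact mul_mem (mul_mem hu (hn0 z hz)) (inv_mem hu)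
  · rw [map_mul, map_mul, map_inv, hχu, ← hi, mul_inv_cancel_left]

end CfsgLib.Chev.Section
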