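import Mathlib
import Cfsg.Agent.Lib.Chev.SylowHomocyclic
import Cfsg.Agent.Lib.Chev.WeylEigen

/-!
Subgroups of torus type: groups of order prime to the Weyl group are conjugate into the torus, and their
normalisers act through the Weyl group.
-/

set_option autoImplicit false
set_option maxHeartbeats 1000000

namespace CfsgLib.Chev

open Cfsg.Lie Matrix Polynomial

/-- A `r`-subgroup has a conjugate in a subgroup of index prime to `r`. -/
theorem exists_conj_le {G : Type*} [Group G] [Finite G] (T : Subgroup G) {r : ℕ} [Fact r.Prime]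
    {P : Subgroup G} (hP : IsPGroup r P) (hT : ¬ r ∣ T.index) : ∃ a : G, ∀ y ∈ P, a⁻¹ * y * a ∈ T := by
  obtain ⟨c, hc⟩ := hP.nonempty_fixed_point_of_prime_not_dvd_card (G ⧸ T) hT
  obtain ⟨a, rfl⟩ := QuotientGroup.mk_surjective c
  refine ⟨a, fun y hy => ?_⟩
  have h : (QuotientGroup.mk (y * a) : G ⧸ T) = QuotientGroup.mk a := hc ⟨y, hy⟩
  rw [eq_comm, QuotientGroup.eq] at h
  rwa [← mul_assoc] at h

/-- Two commuting subgroups of prime power orders have a common conjugate in an abelian subgroup. -/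
theorem exists_conj_le_pair {G : Type*} [Group G] [Finite G] (T : Subgroup G) (hT : IsMulCommutative T)
    {r s : ℕ} [Fact r.Prime] [Fact s.Prime] {P Q : Subgroup G} (hP : IsPGroup r P) (hQ : IsPGroup s Q)
    (hr : ¬ r ∣ T.index) (hs : ¬ s ∣ T.index) (hPQ : ∀ y ∈ P, ∀ z ∈ Q, z * y = y * z) :
    ∃ a : G, ∀ y ∈ P ⊔ Q, a⁻¹ * y * a ∈ T := by
  obtain ⟨a, ha⟩ := exists_conj_le T hP hr
  set C := Subgroup.centralizer ((P.map (MulAut.conj a⁻¹).toMonoidHom : Subgroup G) : Set G)
  have hval : ∀ y : G, (MulAut.conj a⁻¹).toMonoidHom y = a⁻¹ * y * a := fun y => by simp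
  have hTC : T ≤ C := fun t ht => Subgroup.mem_centralizer_iff.2 (by
    rintro _ ⟨y, hy, rfl⟩
    rw [hval]
    exact Subtype.ext_iff.1 (hT.is_comm.comm ⟨_, ha y hy⟩ ⟨t, ht⟩))
  have hQC : Q.map (MulAut.conj a⁻¹).toMonoidHom ≤ C := by
    rintro _ ⟨z, hz, rfl⟩
    refine Subgroup.mem_centralizer_iff.2 ?_
    rintro _ ⟨y, hy, rfl⟩
    rw [← map_mul, ← map_mul, hPQ y hy z hz]
  obtain ⟨⟨b, hb⟩, hbT⟩ := exists_conj_le (T.subgroupOf C)
    (P := (Q.map (MulAut.conj a⁻¹).toMonoidHom).subgroupOf C)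
    ((hQ.map _).of_equiv (Subgroup.subgroupOfEquivOfLe hQC).symm)
    (fun h => hs (h.trans (Subgroup.relIndex_dvd_index_of_le hTC)))
  refine ⟨a * b, fun y hy => ?_⟩
  suffices hle : P ⊔ Q ≤ T.comap (MulAut.conj (a * b)⁻¹).toMonoidHom by
    simpa [mul_assoc] using hle hy
  refine sup_le ?_ ?_
  · intro y hy
    show (MulAut.conj (a * b)⁻¹).toMonoidHom y ∈ T
    have e : (a⁻¹ * y * a) * b = b * (a⁻¹ * y * a) :=
      Subgroup.mem_centralizer_iff.1 hb _ ⟨y, hy, hval y⟩
    have : (MulAut.conj (a * b)⁻¹).toMonoidHom y = a⁻¹ * y * a := by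
      simp only [MulEquiv.coe_toMonoidHom, MulAut.conj_apply]
      calc (a * b)⁻¹ * y * (a * b)⁻¹⁻¹ = b⁻¹ * ((a⁻¹ * y * a) * b) := by group
        _ = _ := by rw [e, inv_mul_cancel_left]
    rw [this]
    exact ha y hy
  · intro z hz
    show (MulAut.conj (a * b)⁻¹).toMonoidHom z ∈ T
    have h := hbT ⟨a⁻¹ * z * a, hQC ⟨z, hz, hval z⟩⟩ ⟨z, hz, hval z⟩
    have h' : b⁻¹ * (a⁻¹ * z * a) * b ∈ T := Subgroup.mem_subgroupOf.1 h
    simpa [mul_assoc] using h'

variable {D : ChevalleyDatum}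

namespace Good

variable (g : Good D)
include g

variable {L : Type*} [Field L] [Fintype L]

omit [Fintype L] in
/-- The torus as a subgroup of the group. -/
theorem torus_comm : IsMulCommutative ((D.diagonalSubgroup L).subgroupOf (D.group L)) :=
  ⟨⟨fun a b => Subtype.ext (Subtype.ext
    (g.diagonal_comm (Subgroup.mem_subgroupOf.1 a.2) (Subgroup.mem_subgroupOf.1 b.2)))⟩⟩

/-- The index of the torus is the order of the Weyl group modulo a prime dividing `|L| - 1`. -/
theorem index_torus_not_dvd (hc : HasComm D) {r : ℕ} [Fact r.Prime] (hL : ((Fintype.card L : ℕ) : ZMod r) = 1)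
    (hrW : ¬ r ∣ Nat.card g.weyl) :
    ¬ r ∣ ((D.diagonalSubgroup L).subgroupOf (D.group L)).index := by
  classical
  intro hdvd
  set T' := (D.diagonalSubgroup L).subgroupOf (D.group L)
  have h1 := T'.card_mul_index
  rw [Nat.card_congr (Subgroup.subgroupOfEquivOfLe g.diagonal_le_group).toEquiv,
    g.card_group hc, g.card_borel hc] at h1
  have h2 : T'.index = Fintype.card L ^ (D.nroots / 2) * g.weylSum {i | i < D.rank} (Fintype.card L) :=
    Nat.eq_of_mul_eq_mul_left (Nat.card_pos (α := ↥(D.diagonalSubgroup L))) (h1.trans (by ring))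
  rw [h2, ← CharP.cast_eq_zero_iff (ZMod r) r, Nat.cast_mul, Nat.cast_pow, hL, one_pow, one_mul,
    Good.weylSum, ← g.weyl_eq_wJ, Nat.cast_sum] at hdvd
  simp only [Nat.cast_pow, hL, one_pow, Finset.sum_const, nsmul_eq_mul, mul_one] at hdvd
  rw [CharP.cast_eq_zero_iff (ZMod r) r] at hdvd
  refine hrW ?_
  rwa [Nat.card_eq_fintype_card, Fintype.card_subtype]

omit g in
lemma powMap_add {G : Type*} [CommGroup G] {ι : Type*} [Fintype ι] (A B : Matrix ι ι ℤ) (c : ι → G) :
    powMap (A + B) c = powMap A c * powMap B c := by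
  funext j
  simp [powMap_apply, _root_.zpow_add, Finset.prod_mul_distrib]

omit g in
lemma powMap_zsmul {G : Type*} [CommGroup G] {ι : Type*} [Fintype ι] (m : ℤ) (A : Matrix ι ι ℤ) (c : ι → G) :
    powMap (m • A) c = powMap A c ^ m := by
  funext j
  rw [powMap_apply, Pi.pow_apply, powMap_apply, ← Finset.prod_zpow]
  refine Finset.prod_congr rfl fun i _ => ?_
  rw [← _root_.zpow_mul, Matrix.smul_apply, smul_eq_mul, mul_comm]

/-- The normaliser of a subgroup of torus type acts through a Weyl element: a power which is trivial in the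
Weyl group centralises, and every character sees a root of the characteristic polynomial. -/
theorem exists_weyl_of_normalizer (hc : HasComm D) {P : Subgroup ↥(D.group L)} {a h : ↥(D.group L)}
    (ha : ∀ y ∈ P, a⁻¹ * y * a ∈ (D.diagonalSubgroup L).subgroupOf (D.group L))
    (hn : ∀ y ∈ P, h * y * h⁻¹ ∈ P) (A : Type*) [Group A] :
    ∃ π ∈ g.weyl, (∀ e : ℕ, π ^ e = 1 → ∀ y ∈ P, h ^ e * y * (h ^ e)⁻¹ = y) ∧
      ∀ (χ : P →* A) (y : P) (k : ℤ),
        (∀ (n : ℕ) (hy : h ^ n * y * (h ^ n)⁻¹ ∈ P), χ ⟨_, hy⟩ = χ y ^ (k ^ n)) →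
        χ y ^ (g.coMat π).charpoly.eval k = 1 := by
  classical
  set T := (D.diagonalSubgroup L).subgroupOf (D.group L) with hT
  have hdiag : ∀ y : P, ∃ c : Fin D.rank → Lˣ, torHom D L c = ((a⁻¹ * y.1 * a : ↥(D.group L)) : GL D.Idx L) := by
    intro y
    have h1 := Subgroup.mem_subgroupOf.1 (ha y y.2)
    rw [g.diagonal_eq_range] at h1
    exact h1
  choose c hc' using hdiag
  have hprod : ∀ y z : P, torHom D L (c y * c z) = torHom D L (c (y * z)) := fun y z => by
    rw [map_mul, hc', hc', hc', ← Subgroup.coe_mul]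
    congr 1
    rw [Subgroup.coe_mul]
    group
  let Φ : P →* (Fin D.rank → Lˣ) := MonoidHom.mk' (fun y j => rootVal (c y) (D.simple j)) fun y z => by
    funext j
    rw [Pi.mul_apply, ← rootVal_mul, g.rootVal_eq_of_torHom (hprod y z) (g.simple_lt j.2)]
  have hinj : Function.Injective Φ := by
    intro y z he
    have h1 := g.torHom_eq_of_simple (c := c y) (c' := c z) fun j => congrFun he j
    rw [hc', hc'] at h1
    exact Subtype.ext (mul_left_cancel (mul_right_cancel (Subtype.ext h1)))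
  set h' := a⁻¹ * h * a with hh'
  obtain ⟨n, hnm, hnf⟩ := Springer.diagonal_fusion_all g hc h'.2
  obtain ⟨π, hπw, hπ⟩ := g.exists_acts hnm
  set R := (g.coMat π⁻¹)ᵀ with hR
  have hstep : ∀ y : P, Φ ⟨h * y * h⁻¹, hn y y.2⟩ = powMap R (Φ y) := by
    intro y
    set y' : P := ⟨h * y * h⁻¹, hn y y.2⟩
    have he : n * torHom D L (c y) * n⁻¹ = torHom D L (c y') := by
      refine hnf _ _ (g.torHom_mem _) (g.torHom_mem _) ?_
      rw [hc', hc']
      show ((h' * (a⁻¹ * y.1 * a) * h'⁻¹ : ↥(D.group L)) : GL D.Idx L) = _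
      congr 1
      show _ = a⁻¹ * (h * y.1 * h⁻¹) * a
      rw [hh']; group
    funext j
    have h2 := g.rootVal_conj hπ he (π⁻¹ (g.sroot j))
    rw [show π (π⁻¹ (g.sroot j)) = g.sroot j from π.apply_symm_apply _] at h2
    show rootVal (c y') (D.simple j) = _
    rw [show D.simple j = ((g.sroot j : Fin D.nroots) : ℕ) from rfl, h2, g.rootVal_eq_prod _ (π⁻¹ (g.sroot j)).2]
    rfl
  have hmem : ∀ (e : ℕ) (y : P), h ^ e * y.1 * (h ^ e)⁻¹ ∈ P := by
    intro e
    induction e with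
    | zero => intro y; simp
    | succ e ih =>
      intro y
      rw [show h ^ (e + 1) * y.1 * (h ^ (e + 1))⁻¹ = h * (h ^ e * y.1 * (h ^ e)⁻¹) * h⁻¹ by rw [pow_succ']; group]
      exact hn _ (ih y)
  have hiter : ∀ (e : ℕ) (y : P), Φ ⟨_, hmem e y⟩ = powMap (R ^ e) (Φ y) := by
    intro e
    induction e with
    | zero =>
      intro y
      rw [show (⟨_, hmem 0 y⟩ : P) = y from Subtype.ext (by simp), pow_zero, powMap_one]
    | succ e ih =>
      intro y
      rw [pow_succ R, powMap_mul, MonoidHom.comp_apply, ← ih y, ← hstep]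
      congr 1
      exact Subtype.ext (by
        show h ^ (e + 1) * y.1 * (h ^ (e + 1))⁻¹ = h * (h ^ e * y.1 * (h ^ e)⁻¹) * h⁻¹
        rw [pow_succ']; group)
  refine ⟨π⁻¹, inv_mem hπw, fun e he y hy => ?_, fun χ y k hk => ?_⟩
  · have hRe : R ^ e = 1 := by
      rw [hR, ← Matrix.transpose_pow, ← g.coMat_pow (inv_mem hπw), he, g.coMat_one, Matrix.transpose_one]
    have := hiter e ⟨y, hy⟩
    rw [hRe, powMap_one] at this
    exact congrArg Subtype.val (hinj this)
  · have key : ∀ p : ℤ[X], ∃ z : P, Φ z = powMap (aeval R p) (Φ y) ∧ χ z = χ y ^ p.eval k := by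
      intro p
      induction p using Polynomial.induction_on' with
      | add p q hp hq =>
        obtain ⟨z, hz1, hz2⟩ := hp
        obtain ⟨w, hw1, hw2⟩ := hq
        exact ⟨z * w, by rw [map_mul, hz1, hw1, map_add, powMap_add],
          by rw [map_mul, hz2, hw2, eval_add, _root_.zpow_add]⟩
      | monomial i m =>
        refine ⟨⟨_, hmem i y⟩ ^ m, ?_, ?_⟩
        · rw [map_zpow, hiter, aeval_monomial, ← Algebra.smul_def, powMap_zsmul]
        · rw [map_zpow, hk i (hmem i y), eval_monomial, mul_comm, _root_.zpow_mul]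
    obtain ⟨z, hz1, hz2⟩ := key (g.coMat π⁻¹).charpoly
    rw [← Matrix.charpoly_transpose, Matrix.aeval_self_charpoly] at hz1
    have hz0 : Φ z = 1 := by rw [hz1]; funext j; simp [powMap_apply]
    rw [← hz2, hinj (hz0.trans (map_one Φ).symm), map_one]

end Good

end CfsgLib.Chev
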