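import Mathlib
import Cfsg.Agent.Lib.Chev.SectionFrattini
import Cfsg.Agent.Lib.Chev.TorusFuseGroup

/-!
Metacyclic sections of Chevalley groups of order prime to the characteristic and the Weyl group act through
the Weyl group.
-/

set_option autoImplicit false
set_option maxHeartbeats 1000000

namespace CfsgLib.Chev

open Cfsg.Lie Matrix Polynomial

variable {D : ChevalleyDatum}

/-- An element of prime order with powers equal has congruent exponents. -/
theorem zmod_eq_of_pow_eq {A : Type*} [Group A] {a : A} {r : ℕ} (ha : orderOf a = r) {i j : ℕ}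
    (h : a ^ i = a ^ j) : (i : ZMod r) = (j : ZMod r) := by
  rw [ZMod.natCast_eq_natCast_iff, ← ha]
  exact pow_eq_pow_iff_modEq.1 h

namespace Good

variable (g : Good D)
include g

/-- A field extension in which two primes divide the order of the multiplicative group. -/
theorem exists_ext_hom (F : Type*) [Field F] [Fintype F] {r s : ℕ} [Fact r.Prime] [Fact s.Prime]
    (hr : ¬ r ∣ Fintype.card F) (hs : ¬ s ∣ Fintype.card F) :
    ∃ (L : Type) (_ : Field L) (_ : Fintype L) (f : ↥(D.group F) →* ↥(D.group L)), Function.Injective f ∧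
      ((Fintype.card L : ℕ) : ZMod r) = 1 ∧ ((Fintype.card L : ℕ) : ZMod s) = 1 := by
  set p := ringChar F
  haveI : Fact p.Prime := ⟨CharP.char_is_prime F p⟩
  set K := (r - 1) * (s - 1) with hK
  have hK0 : K ≠ 0 := Nat.mul_ne_zero (Nat.sub_pos_of_lt (Fact.out : r.Prime).one_lt).ne'
    (Nat.sub_pos_of_lt (Fact.out : s.Prime).one_lt).ne'
  haveI : NeZero K := ⟨hK0⟩
  let L := FiniteField.Extension F p K
  letI : Fintype L := Fintype.ofFinite L
  have hL : Fintype.card L = Fintype.card F ^ K := by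
    rw [← Nat.card_eq_fintype_card, FiniteField.natCard_extension, Nat.card_eq_fintype_card]
  let ι : F →+* L := algebraMap F L
  let f : ↥(D.group F) →* ↥(D.group L) :=
    ((scalarGL D ι).comp (D.group F).subtype).codRestrict (D.group L) fun w => g.scalarGL_mem ι w.2
  refine ⟨L, inferInstance, inferInstance, f, fun a b h => Subtype.ext (scalarGL_injective ι
    (congrArg Subtype.val h)), ?_, ?_⟩
  · rw [hL, Nat.cast_pow, hK, pow_mul, ZMod.pow_card_sub_one_eq_one, one_pow]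
    rwa [ne_eq, CharP.cast_eq_zero_iff (ZMod r) r]
  · rw [hL, Nat.cast_pow, hK, mul_comm, pow_mul, ZMod.pow_card_sub_one_eq_one, one_pow]
    rwa [ne_eq, CharP.cast_eq_zero_iff (ZMod s) s]

omit g in
lemma conj_map {G G' : Type*} [Group G] [Group G'] (f : G →* G') {P : Subgroup G} {h : G}
    (hh : ∀ y ∈ P, h * y * h⁻¹ ∈ P) : ∀ y ∈ P.map f, f h * y * (f h)⁻¹ ∈ P.map f := by
  rintro _ ⟨y, hy, rfl⟩
  exact ⟨_, hh y hy, by simp⟩

/-- A metacyclic section of order prime to the characteristic and to the Weyl group: the action has order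
dividing that of the Weyl group. -/
theorem pow_card_weyl_of_section (hc : HasComm D) (F : Type*) [Field F] [Fintype F] {H A : Type*}
    [Group H] [Group A] (j : H →* ↥(D.group F)) (hj : Function.Injective j) (χ : H →* A)
    {r : ℕ} [Fact r.Prime] (hrF : ¬ r ∣ Fintype.card F) (hrW : ¬ r ∣ Nat.card g.weyl)
    {a b : A} (ha : orderOf a = r) (har : a ∈ χ.range) (hbr : b ∈ χ.range) {k : ℕ}
    (hab : b * a * b⁻¹ = a ^ k) : (k : ZMod r) ^ Nat.card g.weyl = 1 := by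
  classical
  haveI : Finite H := Finite.of_injective j hj
  obtain ⟨L, iL, iL', f, hf, hL, -⟩ := g.exists_ext_hom F (r := r) (s := r) hrF hrF
  set j' := f.comp j
  have hj' : Function.Injective j' := hf.comp hj
  obtain ⟨P, hP, hPa, hlift⟩ := Section.exists_lift χ (ha ▸ pow_orderOf_eq_one a) har
  obtain ⟨h, hh, hχ⟩ := hlift b hbr (hab ▸ Subgroup.pow_mem _ (Subgroup.mem_zpowers a) k)
  obtain ⟨c, hc'⟩ := exists_conj_le _ (hP.map j') (g.index_torus_not_dvd hc hL hrW)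
  obtain ⟨π, hπ, hcent, -⟩ := g.exists_weyl_of_normalizer hc hc' (conj_map j' hh) A
  obtain ⟨y, hy, hya⟩ : a ∈ P.map χ := hPa ▸ Subgroup.mem_zpowers a
  have hπN : π ^ Nat.card g.weyl = 1 :=
    congrArg Subtype.val (pow_card_eq_one' (x := (⟨π, hπ⟩ : ↥g.weyl)))
  have h1 := hcent _ hπN (j' y) ⟨y, hy, rfl⟩
  rw [← map_pow, ← map_inv, ← map_mul, ← map_mul] at h1
  have h2 := congrArg χ (hj' h1)
  rw [map_mul, map_mul, map_inv, map_pow, hya, hχ, Section.pow_conj_eq hab] at h2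
  nth_rw 2 [← pow_one a] at h2
  have h3 := zmod_eq_of_pow_eq ha h2
  rwa [Nat.cast_pow, Nat.cast_one] at h3

/-- Two commuting metacyclic sections share one Weyl element. -/
theorem exists_weyl_of_section_pair (hc : HasComm D) (F : Type*) [Field F] [Fintype F] {H A : Type*}
    [Group H] [Group A] (j : H →* ↥(D.group F)) (hj : Function.Injective j) (χ : H →* A)
    {r s : ℕ} [Fact r.Prime] [Fact s.Prime] (hrF : ¬ r ∣ Fintype.card F) (hsF : ¬ s ∣ Fintype.card F)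
    (hrW : ¬ r ∣ Nat.card g.weyl) (hsW : ¬ s ∣ Nat.card g.weyl)
    {a c b : A} (ha : orderOf a = r) (hc' : orderOf c = s) (har : a ∈ χ.range) (hcr : c ∈ χ.range)
    (hbr : b ∈ χ.range) (hac : c * a = a * c) {k l : ℕ} (hab : b * a * b⁻¹ = a ^ k)
    (hcb : b * c * b⁻¹ = c ^ l) :
    ∃ π ∈ g.weyl, (((g.coMat π).charpoly.eval (k : ℤ) : ℤ) : ZMod r) = 0 ∧
      (((g.coMat π).charpoly.eval (l : ℤ) : ℤ) : ZMod s) = 0 := by
  classical
  haveI : Finite H := Finite.of_injective j hj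
  obtain ⟨L, iL, iL', f, hf, hLr, hLs⟩ := g.exists_ext_hom F (r := r) (s := s) hrF hsF
  set j' := f.comp j
  have hj' : Function.Injective j' := hf.comp hj
  obtain ⟨P, hP, hPa, hlift⟩ := Section.exists_lift χ (ha ▸ pow_orderOf_eq_one a) har
  set N := Subgroup.normalizer (P : Set H) with hN
  have hmemN : ∀ h : H, (∀ y ∈ P, h * y * h⁻¹ ∈ P) → h ∈ N := fun h hh =>
    Subgroup.mem_normalizer_fintype fun n hn => hh n hn
  obtain ⟨hc0, hhc0, hχc⟩ := hlift c hcr (by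
    rw [hac, mul_inv_cancel_right]; exact Subgroup.mem_zpowers a)
  obtain ⟨hb0, hhb0, hχb⟩ := hlift b hbr (hab ▸ Subgroup.pow_mem _ (Subgroup.mem_zpowers a) k)
  obtain ⟨Q, hQ, hQc, hlift'⟩ := Section.exists_lift (χ.comp N.subtype) (hc' ▸ pow_orderOf_eq_one c)
    ⟨⟨hc0, hmemN _ hhc0⟩, hχc⟩
  obtain ⟨⟨h, hhN⟩, hhQ, hχh⟩ := hlift' b ⟨⟨hb0, hmemN _ hhb0⟩, hχb⟩
    (hcb ▸ Subgroup.pow_mem _ (Subgroup.mem_zpowers c) l)
  change χ h = b at hχh
  set W := Nat.card g.weyl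
  set Q' := Q.map N.subtype with hQ'
  have hhP : ∀ y ∈ P, h * y * h⁻¹ ∈ P := fun y hy => (Subgroup.mem_normalizer_iff.1 hhN y).1 hy
  have hhQ' : ∀ y ∈ Q', h * y * h⁻¹ ∈ Q' := conj_map (h := (⟨h, hhN⟩ : N)) N.subtype hhQ
  have hQp : IsPGroup s Q' := hQ.map _
  obtain ⟨a0, ha0⟩ := exists_conj_le _ (hP.map j') (g.index_torus_not_dvd hc hLr hrW)
  have hcomm : ∀ y ∈ P.map j', ∀ z ∈ Q'.map j', z * y = y * z := by
    rintro _ ⟨y, hy, rfl⟩ _ ⟨_, ⟨z, hz, rfl⟩, rfl⟩
    have hzP : ∀ w ∈ P, (z : H) * w * (z : H)⁻¹ ∈ P := fun w hw =>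
      (Subgroup.mem_normalizer_iff.1 z.2 w).1 hw
    obtain ⟨π, hπ, hcent, -⟩ := g.exists_weyl_of_normalizer hc ha0 (conj_map j' hzP) A
    have hπW : π ^ W = 1 := congrArg Subtype.val (pow_card_eq_one' (x := (⟨π, hπ⟩ : ↥g.weyl)))
    have h1 : Commute (j' (z : H) ^ W) (j' y) := mul_inv_eq_iff_eq_mul.1 (hcent W hπW _ ⟨y, hy, rfl⟩)
    obtain ⟨i, hi⟩ := hQp ⟨z, z, hz, rfl⟩
    have hi' : (z : H) ^ s ^ i = 1 := congrArg Subtype.val hi
    have hcop : (orderOf (j' (z : H))).Coprime W := Nat.Coprime.coprime_dvd_left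
      (orderOf_dvd_of_pow_eq_one (show j' (z : H) ^ s ^ i = 1 by rw [← map_pow, hi', map_one]))
      (Nat.Coprime.pow_left _ ((Fact.out : s.Prime).coprime_iff_not_dvd.2 hsW))
    obtain ⟨m, hm⟩ := exists_pow_eq_self_of_coprime hcop.symm
    have h2 := h1.pow_left m
    rw [hm] at h2
    exact h2.eq
  obtain ⟨a1, ha1⟩ := exists_conj_le_pair _ g.torus_comm (hP.map j') (hQp.map j')
    (g.index_torus_not_dvd hc hLr hrW) (g.index_torus_not_dvd hc hLs hsW) hcomm
  rw [← Subgroup.map_sup] at ha1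
  have hPQ : ∀ y ∈ P ⊔ Q', h * y * h⁻¹ ∈ P ⊔ Q' := by
    have : P ⊔ Q' ≤ (P ⊔ Q').comap (MulAut.conj h).toMonoidHom :=
      sup_le (fun y hy => Subgroup.mem_sup_left (hhP y hy)) (fun y hy => Subgroup.mem_sup_right (hhQ' y hy))
    exact fun y hy => this hy
  obtain ⟨π, hπ, -, hchar⟩ := g.exists_weyl_of_normalizer hc ha1 (conj_map j' hPQ) A
  let e := (P ⊔ Q').equivMapOfInjective j' hj'
  have hsee : ∀ {t : ℕ} [Fact t.Prime] (x : A) (y : H) (hy : y ∈ P ⊔ Q') (m : ℕ), orderOf x = t →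
      χ y = x → b * x * b⁻¹ = x ^ m → (((g.coMat π).charpoly.eval (m : ℤ) : ℤ) : ZMod t) = 0 := by
    intro t _ x y hy m hxt hyx hbx
    have h1 := hchar ((χ.comp (P ⊔ Q').subtype).comp e.symm.toMonoidHom) (e ⟨y, hy⟩) (m : ℤ) (by
      intro n hn
      have hmem : h ^ n * y * (h ^ n)⁻¹ ∈ P ⊔ Q' := by
        obtain ⟨w, hw, hwe⟩ := hn
        have : w = h ^ n * y * (h ^ n)⁻¹ := hj' (by rw [hwe]; simp [e])
        exact this ▸ hw
      have he : (⟨_, hn⟩ : ↥((P ⊔ Q').map j')) = e ⟨_, hmem⟩ := Subtype.ext (by simp [e])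
      rw [he]
      simp only [MonoidHom.comp_apply, MulEquiv.coe_toMonoidHom, MulEquiv.symm_apply_apply, Subgroup.coe_subtype,
        map_mul, map_inv, map_pow, hyx, hχh]
      rw [Section.pow_conj_eq hbx, ← Nat.cast_pow, zpow_natCast])
    simp only [MonoidHom.comp_apply, MulEquiv.coe_toMonoidHom, MulEquiv.symm_apply_apply, Subgroup.coe_subtype,
      hyx] at h1
    rw [← orderOf_dvd_iff_zpow_eq_one, hxt] at h1
    exact (ZMod.intCast_zmod_eq_zero_iff_dvd _ _).2 h1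
  obtain ⟨y, hy, hya⟩ : a ∈ P.map χ := hPa ▸ Subgroup.mem_zpowers a
  obtain ⟨z, hz, hzc⟩ : c ∈ Q.map (χ.comp N.subtype) := hQc ▸ Subgroup.mem_zpowers c
  exact ⟨π, hπ, hsee a y (Subgroup.mem_sup_left hy) k ha hya hab,
    hsee c _ (Subgroup.mem_sup_right ⟨z, hz, rfl⟩) l hc' hzc hcb⟩

end Good

/-- A root of order `d` modulo `r` of the characteristic polynomial gives a cyclotomic factor. -/
theorem cyclotomic_dvd_of_root (g : Good D) {r : ℕ} [Fact r.Prime] (hrW : ¬ r ∣ Nat.card g.weyl)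
    {π : Equiv.Perm (Fin D.nroots)} (hπ : π ∈ g.weyl) {d : ℕ} (hd : d ≠ 0) {ζ : ℤ}
    (hζ : IsPrimitiveRoot (ζ : ZMod r) d) (hroot : (((g.coMat π).charpoly.eval ζ : ℤ) : ZMod r) = 0) :
    cyclotomic d ℤ ∣ (g.coMat π).charpoly := by
  rw [show (((g.coMat π).charpoly.eval ζ : ℤ) : ZMod r) =
    ((g.coMat π).map (Int.castRingHom (ZMod r))).charpoly.eval (ζ : ZMod r) by
      rw [Matrix.charpoly_map, Polynomial.eval_intCast_map]; rfl, Matrix.eval_charpoly] at hroot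
  obtain ⟨v, hv, hve⟩ := Matrix.exists_mulVec_eq_zero_iff.2 hroot
  refine Springer.weyl_cyclotomic_dvd g hrW hπ hζ hd hv ?_
  rw [Matrix.sub_mulVec, sub_eq_zero] at hve
  refine Eq.trans hve.symm ?_
  funext i
  simp [Matrix.scalar_apply, Matrix.mulVec_diagonal]

end CfsgLib.Chev
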