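import Mathlib
import Cfsg.Agent.Lib.Chev.SectionFrattini
import Cfsg.Agent.Lib.Chev.SectionAltEight
import Cfsg.Agent.Lib.Chev.SectionTorus

/-!
Sections of a group with an abelian subgroup whose normalisers act through a small group.
-/

set_option autoImplicit false
set_option maxHeartbeats 1000000

namespace CfsgLib.Chev.Section

/-- Elements normalising a subgroup of `T` act with order dividing `e`. -/
def ActsExp {G : Type*} [Group G] (T : Subgroup G) (e : ℕ) : Prop :=
  ∀ (P : Subgroup G) (h : G), P ≤ T → (∀ y ∈ P, h * y * h⁻¹ ∈ P) → ∀ y ∈ P, h ^ e * y * (h ^ e)⁻¹ = y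

theorem pow_eq_one_of_actsExp {G : Type*} [Group G] [Finite G] (T : Subgroup G) {e : ℕ} (hT : ActsExp T e)
    {H A : Type*} [Group H] [Group A] (j : H →* G) (hj : Function.Injective j) (χ : H →* A)
    {r : ℕ} [Fact r.Prime] (hidx : ¬ r ∣ T.index) {a b : A} (ha : orderOf a = r) (har : a ∈ χ.range)
    (hbr : b ∈ χ.range) {k : ℕ} (hab : b * a * b⁻¹ = a ^ k) : (k : ZMod r) ^ e = 1 := by
  haveI : Finite H := Finite.of_injective j hj
  obtain ⟨P, hP, hPa, hlift⟩ := exists_lift χ (ha ▸ pow_orderOf_eq_one a) har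
  obtain ⟨h, hh, hχ⟩ := hlift b hbr (hab ▸ Subgroup.pow_mem _ (Subgroup.mem_zpowers a) k)
  obtain ⟨c, hc⟩ := exists_conj_le T (hP.map j) hidx
  let ψ : H →* G := (MulAut.conj c⁻¹).toMonoidHom.comp j
  have hψ : ∀ y, ψ y = c⁻¹ * j y * c := fun y => by simp [ψ]
  have hψinj : Function.Injective ψ := (MulAut.conj c⁻¹).injective.comp hj
  obtain ⟨y, hy, hya⟩ : a ∈ P.map χ := hPa ▸ Subgroup.mem_zpowers a
  have h1 := hT (P.map ψ) (ψ h) (by
      rintro _ ⟨z, hz, rfl⟩
      rw [hψ]
      exact hc _ ⟨z, hz, rfl⟩)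
    (Good.conj_map ψ hh) (ψ y) ⟨y, hy, rfl⟩
  rw [← map_pow, ← map_inv, ← map_mul, ← map_mul] at h1
  have h2 := congrArg χ (hψinj h1)
  rw [map_mul, map_mul, map_inv, map_pow, hya, hχ, pow_conj_eq hab] at h2
  nth_rw 2 [← pow_one a] at h2
  have h3 := zmod_eq_of_pow_eq ha h2
  rwa [Nat.cast_pow, Nat.cast_one] at h3

/-- A subgroup of a product of two cyclic groups is generated by two elements. -/
theorem exists_pair_generators {X : Type*} [CommGroup X] [IsCyclic X] (U : Subgroup (X × X)) :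
    ∃ x y, x ∈ U ∧ y ∈ U ∧ U = Subgroup.closure {x, y} := by
  obtain ⟨⟨a, ha⟩, hgen⟩ := IsCyclic.exists_generator (α := U.map (MonoidHom.fst X X))
  obtain ⟨x, hx, hxa⟩ := ha
  obtain ⟨⟨b, hb⟩, hgen'⟩ := IsCyclic.exists_generator (α := U.comap (MonoidHom.inr X X))
  refine ⟨x, (1, b), hx, hb, le_antisymm ?_ ((Subgroup.closure_le _).2 ?_)⟩
  · intro z hz
    obtain ⟨i, hi⟩ := Subgroup.mem_zpowers_iff.1 (hgen ⟨z.1, z, hz, rfl⟩)
    have hi' : a ^ i = z.1 := congrArg Subtype.val hi
    have hw : z * (x ^ i)⁻¹ ∈ U := mul_mem hz (inv_mem (zpow_mem hx i))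
    have hw1 : (z * (x ^ i)⁻¹).1 = 1 := by
      show z.1 * (x.1 ^ i)⁻¹ = 1
      rw [show x.1 = a from hxa, hi', mul_inv_cancel]
    obtain ⟨l, hl⟩ := Subgroup.mem_zpowers_iff.1 (hgen' ⟨(z * (x ^ i)⁻¹).2, by
      show ((1 : X), (z * (x ^ i)⁻¹).2) ∈ U
      rwa [← hw1]⟩)
    have hl' : b ^ l = (z * (x ^ i)⁻¹).2 := congrArg Subtype.val hl
    have e : z = (1, b) ^ l * x ^ i := by
      refine mul_inv_eq_iff_eq_mul.1 (Prod.ext ?_ ?_)
      · rw [hw1]
        exact (_root_.one_zpow l).symm
      · exact hl'.symm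
    rw [e]
    exact mul_mem (zpow_mem (Subgroup.subset_closure (by simp)) l) (zpow_mem (Subgroup.subset_closure (by simp)) i)
  · rintro z (rfl | rfl)
    exacts [hx, hb]

/-- A group generated by two commuting elements is their set of products of powers. -/
theorem card_closure_pair_le {A : Type*} [Group A] [Finite A] {x y : A} (h : Commute x y) {m n : ℕ}
    (hm : 0 < m) (hn : 0 < n) (hx : x ^ m = 1) (hy : y ^ n = 1) :
    Nat.card (Subgroup.closure ({x, y} : Set A)) ≤ m * n := by
  let C := Subgroup.closure ({x, y} : Set A)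
  have hxC : x ∈ C := Subgroup.subset_closure (by simp)
  have hyC : y ∈ C := Subgroup.subset_closure (by simp)
  have key : ∀ z ∈ C, ∃ i j : ℤ, z = x ^ i * y ^ j := by
    intro z hz
    induction hz using Subgroup.closure_induction with
    | mem z hz =>
      rcases hz with rfl | rfl
      · exact ⟨1, 0, by simp⟩
      · exact ⟨0, 1, by simp⟩
    | one => exact ⟨0, 0, by simp⟩
    | mul a b _ _ iha ihb =>
      obtain ⟨i, j, rfl⟩ := iha
      obtain ⟨i', j', rfl⟩ := ihb
      refine ⟨i + i', j + j', ?_⟩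
      rw [_root_.zpow_add, _root_.zpow_add, mul_assoc, ← mul_assoc (y ^ j), ((h.symm.zpow_zpow j i').eq)]
      group
    | inv a _ iha =>
      obtain ⟨i, j, rfl⟩ := iha
      refine ⟨-i, -j, ?_⟩
      rw [mul_inv_rev, ← _root_.zpow_neg, ← _root_.zpow_neg, (h.symm.zpow_zpow (-j) (-i)).eq]
  have hred : ∀ {w : A} {k : ℕ}, 0 < k → w ^ k = 1 → ∀ i : ℤ, ∃ i' : Fin k, w ^ i = w ^ (i' : ℕ) := by
    intro w k hk hw i
    refine ⟨⟨(i % k).toNat, ?_⟩, ?_⟩
    · have h1 := Int.emod_lt_of_pos i (by exact_mod_cast hk : (0 : ℤ) < k)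
      have h2 := Int.emod_nonneg i (show (k : ℤ) ≠ 0 by omega)
      omega
    · show w ^ i = w ^ (i % k).toNat
      have h2 := Int.emod_nonneg i (show (k : ℤ) ≠ 0 by omega)
      rw [← zpow_natCast w, Int.toNat_of_nonneg h2]
      conv_lhs => rw [← Int.emod_add_ediv_mul i k, mul_comm, _root_.zpow_add, _root_.zpow_mul, zpow_natCast, hw,
        _root_.one_zpow, mul_one]
  refine (Nat.card_le_card_of_surjective (fun p : Fin m × Fin n =>
    (⟨x ^ (p.1 : ℕ) * y ^ (p.2 : ℕ), mul_mem (pow_mem hxC _) (pow_mem hyC _)⟩ : C)) ?_).trans_eq (by simp)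
  rintro ⟨z, hz⟩
  obtain ⟨i, j, rfl⟩ := key z hz
  obtain ⟨i', hi⟩ := hred hm hx i
  obtain ⟨j', hj⟩ := hred hn hy j
  exact ⟨(i', j'), Subtype.ext (show x ^ (i' : ℕ) * y ^ (j' : ℕ) = x ^ i * y ^ j by rw [hi, hj])⟩

/-- An element of two-power order in the alternating group of degree eight has order dividing four. -/
theorem pow_four_eq_one {x : Equiv.Perm (Fin 8)} (hs : Equiv.Perm.sign x = 1) {i : ℕ} (hx : x ^ 2 ^ i = 1) :
    x ^ 4 = 1 := by
  refine orderOf_dvd_iff_pow_eq_one.1 ?_
  rw [← Equiv.Perm.lcm_cycleType]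
  refine Multiset.lcm_dvd.2 fun n hn => ?_
  obtain ⟨k, -, hk⟩ := (Nat.dvd_prime_pow Nat.prime_two).1
    ((Equiv.Perm.dvd_of_mem_cycleType hn).trans (orderOf_dvd_of_pow_eq_one hx))
  have hsum : x.cycleType.sum ≤ 8 := (Equiv.Perm.sum_cycleType x).trans_le
    ((Finset.card_le_univ _).trans_eq (Fintype.card_fin 8))
  have hle : n ≤ 8 := (Multiset.le_sum_of_mem hn).trans hsum
  have hk3 : k ≤ 3 := by
    by_contra h
    have : 2 ^ 4 ≤ 2 ^ k := Nat.pow_le_pow_right (by norm_num) (by omega)
    omega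
  interval_cases k <;> subst hk
  · exact one_dvd 4
  · norm_num
  · exact dvd_refl 4
  · exfalso
    obtain ⟨t, ht⟩ := Multiset.exists_cons_of_mem hn
    have h0 : t = 0 := by
      refine Multiset.eq_zero_of_forall_notMem fun a ha => ?_
      have h1 := Equiv.Perm.two_le_of_mem_cycleType (show a ∈ x.cycleType by
        rw [ht]; exact Multiset.mem_cons_of_mem ha)
      have h2 := Multiset.le_sum_of_mem ha
      rw [ht, Multiset.sum_cons] at hsum
      norm_num at hsum
      omega
    have hsg := Equiv.Perm.sign_of_cycleType x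
    rw [ht, h0, hs] at hsg
    exact absurd hsg (by decide)

/-- The alternating group of degree eight is no section of a group with an abelian subgroup of rank two,
of index not divisible by eight. -/
theorem no_alt_eight {G : Type*} [Group G] [Finite G] (T : Subgroup G) (hidx : ¬ 8 ∣ T.index)
    {X : Type*} [CommGroup X] [IsCyclic X] (f : T →* X × X) (hf : Function.Injective f)
    {H : Type*} [Group H] (j : H →* G) (hj : Function.Injective j) (χ : H →* ↥(alternatingGroup (Fin 8)))
    (hχ : Function.Surjective χ) : False := by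
  classical
  haveI : Finite H := Finite.of_injective j hj
  haveI : Fact (Nat.Prime 2) := ⟨Nat.prime_two⟩
  let S : Sylow 2 H := default
  have hA : Nat.card ((S : Subgroup H).map χ) = 64 := by
    have h := (S.mapSurjective hχ).card_eq_multiplicity
    rw [Sylow.coe_mapSurjective, nat_card_alternatingGroup, Nat.card_fin] at h
    rw [h, show Nat.factorial 8 / 2 = 2 ^ 6 * 315 by decide, Nat.factorization_mul (by norm_num) (by norm_num),
      Finsupp.add_apply, Nat.Prime.factorization_pow Nat.prime_two, Finsupp.single_eq_same,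
      Nat.factorization_eq_zero_of_not_dvd (show ¬ 2 ∣ 315 by norm_num)]
    norm_num
  obtain ⟨c, P0, hP0, hP0T, hsmall⟩ : ∃ (c : G) (P0 : Subgroup H), P0 ≤ S ∧ (∀ y ∈ P0, c⁻¹ * j y * c ∈ T) ∧
      P0.relIndex S ≤ 4 := by
    letI : MulAction S (G ⧸ T) := MulAction.compHom _ (j.comp (S : Subgroup H).subtype)
    obtain ⟨x, hx⟩ : ∃ x : G ⧸ T, ¬ 8 ∣ Nat.card (MulAction.orbit S x) := by
      by_contra hall
      push Not at hall
      haveI : Fintype (G ⧸ T) := Fintype.ofFinite _
      refine hidx ?_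
      rw [Subgroup.index, Nat.card_congr (MulAction.selfEquivSigmaOrbits S (G ⧸ T)), Nat.card_sigma]
      exact Finset.dvd_sum fun o _ => hall _
    obtain ⟨c, rfl⟩ := QuotientGroup.mk_surjective x
    set St := MulAction.stabilizer S (QuotientGroup.mk c : G ⧸ T)
    refine ⟨c, St.map (S : Subgroup H).subtype, Subgroup.map_subtype_le _, ?_, ?_⟩
    · rintro _ ⟨y, hy, rfl⟩
      have h : (QuotientGroup.mk (j y * c) : G ⧸ T) = QuotientGroup.mk c := hy
      rw [eq_comm, QuotientGroup.eq] at h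
      rw [mul_assoc]
      exact h
    · rw [Subgroup.relIndex, Subgroup.subgroupOf, Subgroup.comap_map_eq_self_of_injective
        (S : Subgroup H).subtype_injective, MulAction.index_stabilizer]
      rw [Nat.card_coe_set_eq] at hx
      have horb : Nat.card (MulAction.orbit S (QuotientGroup.mk c : G ⧸ T)) ∣ Nat.card S := by
        rw [Nat.card_coe_set_eq, ← MulAction.index_stabilizer]
        exact Subgroup.index_dvd_card _
      rw [Nat.card_coe_set_eq] at horb
      obtain ⟨i, hi⟩ := IsPGroup.iff_card.1 S.2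
      rw [hi] at horb
      obtain ⟨k, -, hk⟩ := (Nat.dvd_prime_pow Nat.prime_two).1 horb
      rw [hk] at hx ⊢
      have : k ≤ 2 := by
        by_contra h
        exact hx ((show (8 : ℕ) = 2 ^ 3 by norm_num) ▸ pow_dvd_pow 2 (by omega : 3 ≤ k))
      exact (Nat.pow_le_pow_right (by norm_num) this).trans_eq (by norm_num)
  let τ : P0 →* T := ((MulAut.conj c⁻¹).toMonoidHom.comp (j.comp P0.subtype)).codRestrict T fun y => by
    simpa using hP0T y y.2
  have hτ : Function.Injective (f.comp τ) := hf.comp fun a b h =>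
    Subtype.ext (hj ((MulAut.conj c⁻¹).injective (congrArg Subtype.val h)))
  obtain ⟨u, v, hu, hv, huv⟩ := exists_pair_generators (f.comp τ).range
  obtain ⟨x, rfl⟩ := hu
  obtain ⟨y, rfl⟩ := hv
  have hgen : P0 = Subgroup.closure {(x : H), (y : H)} := by
    have h1 : Subgroup.closure ({x, y} : Set P0) = ⊤ := by
      refine Subgroup.map_injective hτ ?_
      rw [MonoidHom.map_closure, Set.image_pair, ← huv, MonoidHom.range_eq_map]
    have h2 := congrArg (Subgroup.map P0.subtype) h1
    rwa [MonoidHom.map_closure, Set.image_pair, ← MonoidHom.range_eq_map, Subgroup.range_subtype, eq_comm] at h2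
  have hxy : Commute x y := hτ (by rw [map_mul, map_mul, mul_comm])
  set X' := χ (x : H)
  set Y' := χ (y : H)
  have himg : P0.map χ = Subgroup.closure {X', Y'} := by
    rw [hgen, MonoidHom.map_closure, Set.image_pair]
  have h16 : 16 ≤ Nat.card (P0.map χ) := by
    have h1 := Subgroup.card_mul_index ((P0.map χ).subgroupOf ((S : Subgroup H).map χ))
    rw [hA, Nat.card_congr (Subgroup.subgroupOfEquivOfLe (Subgroup.map_mono hP0)).toEquiv] at h1
    have h2 : ((P0.map χ).subgroupOf ((S : Subgroup H).map χ)).index ≤ 4 := by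
      refine le_trans (Nat.le_of_dvd ?_ ?_) hsmall
      · exact Nat.pos_of_ne_zero Subgroup.index_ne_zero_of_finite
      · have h3 := (P0.subgroupOf (S : Subgroup H)).index_map_dvd (χ.subgroupMap_surjective (S : Subgroup H))
        rwa [show (P0.subgroupOf (S : Subgroup H)).map (χ.subgroupMap (S : Subgroup H)) =
          (P0.map χ).subgroupOf ((S : Subgroup H).map χ) from by
            ext ⟨z, hz⟩
            constructor
            · rintro ⟨w, hw, hwz⟩
              exact ⟨w, hw, congrArg Subtype.val hwz⟩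
            · rintro ⟨w, hw, hwz⟩
              exact ⟨⟨w, hP0 hw⟩, hw, Subtype.ext hwz⟩] at h3
    have := Nat.mul_le_mul_left (Nat.card (P0.map χ)) h2
    omega
  have hpow : ∀ w : H, w ∈ P0 → (χ w : Equiv.Perm (Fin 8)) ^ 4 = 1 := by
    intro w hw
    obtain ⟨i, hi⟩ := S.2 ⟨w, hP0 hw⟩
    refine pow_four_eq_one (Equiv.Perm.mem_alternatingGroup.1 (χ w).2) (i := i) ?_
    rw [← SubmonoidClass.coe_pow, ← map_pow, show w ^ 2 ^ i = 1 from congrArg Subtype.val hi, map_one,
      OneMemClass.coe_one]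
  have hX : X' ^ 4 = 1 := Subtype.ext (hpow x x.2)
  have hY : Y' ^ 4 = 1 := Subtype.ext (hpow y y.2)
  have hc : Commute X' Y' := (hxy.map P0.subtype).map χ
  rw [himg] at h16
  have hX2 : X' ^ 2 ≠ 1 := fun h => by
    have := card_closure_pair_le hc (by norm_num : 0 < 2) (by norm_num : 0 < 4) h hY
    omega
  have hY2 : Y' ^ 2 ≠ 1 := fun h => by
    have := card_closure_pair_le hc (by norm_num : 0 < 4) (by norm_num : 0 < 2) hX h
    omega
  have hsq := sq_eq_sq (Equiv.Perm.mem_alternatingGroup.1 X'.2) (Equiv.Perm.mem_alternatingGroup.1 Y'.2)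
    (congrArg Subtype.val hX) (congrArg Subtype.val hY) (hc.map (alternatingGroup (Fin 8)).subtype)
    (fun h => hX2 (Subtype.ext h)) (fun h => hY2 (Subtype.ext h))
  have hZ : (X'⁻¹ * Y') ^ 2 = 1 := by
    rw [(hc.inv_left).mul_pow, inv_pow, inv_mul_eq_one]
    exact Subtype.ext hsq
  have hle : Subgroup.closure ({X', Y'} : Set _) ≤ Subgroup.closure {X', X'⁻¹ * Y'} := by
    refine (Subgroup.closure_le _).2 ?_
    rintro w (rfl | rfl)
    · exact Subgroup.subset_closure (by simp)
    · have h1 : Y' = X' * (X'⁻¹ * Y') := by rw [mul_inv_cancel_left]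
      rw [SetLike.mem_coe, h1]
      exact mul_mem (Subgroup.subset_closure (by simp)) (Subgroup.subset_closure (by simp))
  have h1 := card_closure_pair_le ((Commute.refl X').inv_right.mul_right hc) (by norm_num : 0 < 4)
    (by norm_num : 0 < 2) hX hZ
  have h2 := Subgroup.card_le_of_le hle
  omega

end CfsgLib.Chev.Section
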