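import Mathlib
import Cfsg.Agent.Lib.Chev.SectionFusion
import Cfsg.Agent.Lib.Chev.TwistBN

/-!
In a group with Bruhat decomposition, elements normalising subgroups of the torus act through the Weyl group.
-/

set_option autoImplicit false
set_option maxHeartbeats 1000000

namespace CfsgLib.Chev

open Cfsg.Lie Matrix

/-- A group generated by two involutions with product of order dividing `m` has exponent dividing `lcm (2, m)`. -/
theorem dihedral_pow_eq_one {G : Type*} [Group G] {a b : G} (ha : a * a = 1) (hb : b * b = 1) {m N : ℕ}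
    (hab : (a * b) ^ m = 1) (hm : m ∣ N) (h2 : 2 ∣ N) {x : G} (hx : x ∈ Subgroup.closure ({a, b} : Set G)) :
    x ^ N = 1 := by
  have ha' : a⁻¹ = a := inv_eq_of_mul_eq_one_right ha
  have hb' : b⁻¹ = b := inv_eq_of_mul_eq_one_right hb
  set c := a * b
  have hac : a * c * a⁻¹ = c⁻¹ := by rw [_root_.mul_inv_rev, ha', hb']; simp [c, ← mul_assoc, ha]
  have hswap : ∀ i : ℤ, a * c ^ i = c ^ (-i) * a := fun i => by
    have h := map_zpow (MulAut.conj a) c i
    simp only [MulAut.conj_apply, hac, _root_.inv_zpow'] at h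
    exact mul_inv_eq_iff_eq_mul.1 h
  have key : ∀ z ∈ Subgroup.closure ({a, b} : Set G), ∃ i : ℤ, z = c ^ i ∨ z = c ^ i * a := by
    intro z hz
    induction hz using Subgroup.closure_induction with
    | mem z hz =>
      rcases hz with rfl | rfl
      · exact ⟨0, Or.inr (by simp)⟩
      · exact ⟨-1, Or.inr (by rw [_root_.zpow_neg_one, _root_.mul_inv_rev, ha', hb', mul_assoc, ha, mul_one])⟩
    | one => exact ⟨0, Or.inl (by simp)⟩
    | mul u v _ _ ihu ihv =>
      obtain ⟨i, rfl | rfl⟩ := ihu <;> obtain ⟨l, rfl | rfl⟩ := ihv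
      · exact ⟨i + l, Or.inl (_root_.zpow_add c i l).symm⟩
      · exact ⟨i + l, Or.inr (by rw [_root_.zpow_add, mul_assoc])⟩
      · exact ⟨i + -l, Or.inr (by rw [mul_assoc, hswap, ← mul_assoc, _root_.zpow_add])⟩
      · exact ⟨i + -l, Or.inl (by rw [mul_assoc, ← mul_assoc a, hswap, mul_assoc _ a, ha, mul_one, _root_.zpow_add])⟩
    | inv u _ ihu =>
      obtain ⟨i, rfl | rfl⟩ := ihu
      · exact ⟨-i, Or.inl (_root_.zpow_neg c i).symm⟩
      · refine ⟨i, Or.inr ?_⟩
        rw [_root_.mul_inv_rev, ha', ← _root_.zpow_neg, hswap, neg_neg]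
  obtain ⟨i, rfl | rfl⟩ := key x hx
  · obtain ⟨t, rfl⟩ := hm
    rw [← zpow_natCast, ← _root_.zpow_mul, mul_comm, _root_.zpow_mul, zpow_natCast, pow_mul, hab, one_pow,
      _root_.one_zpow]
  · obtain ⟨t, rfl⟩ := h2
    rw [pow_mul, sq, mul_assoc, ← mul_assoc a, hswap, mul_assoc _ a, ha, mul_one, ← _root_.zpow_add,
      add_neg_cancel, _root_.zpow_zero, one_pow]

variable {D : ChevalleyDatum}

namespace Good

variable (g : Good D)
include g

/-- Fusion in the diagonal subgroup through the monomial part of a canonical form. -/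
theorem fusion_of_canonical {F : Type*} [Field F] {b n u h₁ h₂ : GL D.Idx F} {π : Equiv.Perm (Fin D.nroots)}
    (hb : b ∈ D.borelSubgroup F) (hn : n ∈ D.monomialSubgroup F) (hπ : g.Acts n π)
    (hu : u ∈ rootGen D F (minusSet π)) (h1 : h₁ ∈ D.diagonalSubgroup F) (h2 : h₂ ∈ D.diagonalSubgroup F)
    (he : b * n * u * h₁ * (b * n * u)⁻¹ = h₂) : n * h₁ * n⁻¹ = h₂ := by
  obtain ⟨v, hv, h, hh, rfl⟩ := g.mem_borel.1 hb
  have hu1 : h₁⁻¹ * u * h₁ ∈ rootGen D F (minusSet π) := by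
    have := (Subgroup.mem_normalizer_iff.1
      (g.diagonal_le_normalizer_rootGen (minusSet π) (inv_mem h1)) u).1 hu
    rwa [inv_inv] at this
  have hk : n * h₁ * n⁻¹ ∈ D.diagonalSubgroup F := g.diag_conj hn h1
  have hv2 : h₂ * v * h₂⁻¹ ∈ D.posUnipotent F :=
    (Subgroup.mem_normalizer_iff.1 (g.diagonal_le_normalizer_pos h2) v).1 hv
  have e : (v * (h * (n * h₁ * n⁻¹))) * n * (h₁⁻¹ * u * h₁) =
      (h₂ * v * h₂⁻¹ * (h₂ * h)) * n * u := by
    have e2 : v * h * n * u * h₁ = h₂ * (v * h * n * u) := mul_inv_eq_iff_eq_mul.1 he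
    calc (v * (h * (n * h₁ * n⁻¹))) * n * (h₁⁻¹ * u * h₁) = v * h * n * u * h₁ := by group
      _ = h₂ * (v * h * n * u) := e2
      _ = _ := by group
  obtain ⟨e3, -⟩ := g.canonical_unique
    (g.mem_borel.2 ⟨v, hv, _, mul_mem hh hk, rfl⟩) (g.mem_borel.2 ⟨_, hv2, _, mul_mem h2 hh, rfl⟩)
    hπ hu1 hu e
  have h3 : v⁻¹ * (h₂ * v * h₂⁻¹) ∈ D.posUnipotent F ⊓ D.diagonalSubgroup F := by
    refine Subgroup.mem_inf.2 ⟨mul_mem (inv_mem hv) hv2, ?_⟩
    have : v⁻¹ * (h₂ * v * h₂⁻¹) = h * (n * h₁ * n⁻¹) * (h₂ * h)⁻¹ := by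
      rw [eq_mul_inv_iff_mul_eq, mul_assoc v⁻¹, inv_mul_eq_iff_eq_mul]
      exact e3.symm
    rw [this]
    exact mul_mem (mul_mem hh hk) (inv_mem (mul_mem h2 hh))
  rw [g.pos_inf_diagonal, Subgroup.mem_bot, inv_mul_eq_one] at h3
  rw [← h3] at e3
  have e4 : h * (n * h₁ * n⁻¹) = h₂ * h := mul_left_cancel e3
  rw [g.diagonal_comm h2 hh] at e4
  exact mul_left_cancel e4

/-- Normalisers of subgroups of the torus act with order dividing the exponent of the Weyl elements of the cells. -/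
theorem actsExp_of_canonical {F : Type*} [Field F] (G1 : Subgroup (GL D.Idx F)) (e : ℕ)
    (hcan : ∀ x ∈ G1, ∃ b n u π, b ∈ D.borelSubgroup F ∧ n ∈ D.monomialSubgroup F ∧ g.Acts n π ∧
      u ∈ rootGen D F (minusSet π) ∧ π ^ e = 1 ∧ x = b * n * u) :
    Section.ActsExp ((D.diagonalSubgroup F).subgroupOf G1) e := by
  intro P h hP hh y hy
  obtain ⟨b, n, u, π, hb, hn, hπ, hu, hπe, hx⟩ := hcan h h.2
  have hdiag : ∀ z ∈ P, (z : GL D.Idx F) ∈ D.diagonalSubgroup F := fun z hz => Subgroup.mem_subgroupOf.1 (hP hz)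
  have hiter : ∀ i : ℕ, h ^ i * y * (h ^ i)⁻¹ ∈ P ∧
      n ^ i * (y : GL D.Idx F) * (n ^ i)⁻¹ = ((h ^ i * y * (h ^ i)⁻¹ : ↥G1) : GL D.Idx F) := by
    intro i
    induction i with
    | zero => exact ⟨by simpa using hy, by simp⟩
    | succ i ih =>
      have h1 : h ^ (i + 1) * y * (h ^ (i + 1))⁻¹ = h * (h ^ i * y * (h ^ i)⁻¹) * h⁻¹ := by rw [pow_succ']; group
      refine ⟨h1 ▸ hh _ ih.1, ?_⟩
      rw [show n ^ (i + 1) * (y : GL D.Idx F) * (n ^ (i + 1))⁻¹ = n * (n ^ i * (y : GL D.Idx F) * (n ^ i)⁻¹) * n⁻¹ by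
        rw [pow_succ']; group, ih.2, h1]
      refine g.fusion_of_canonical hb hn hπ hu (hdiag _ ih.1) (hdiag _ (hh _ ih.1)) ?_
      rw [← hx]
      rfl
  have hpow : ∀ i : ℕ, g.Acts (n ^ i) (π ^ i) := by
    intro i
    induction i with
    | zero => rw [pow_zero, pow_zero]; exact g.acts_one
    | succ i ih => rw [pow_succ, pow_succ]; exact g.acts_mul ih hπ
  have hne : n ^ e ∈ D.diagonalSubgroup F := by
    have h1 := g.monomial_same_acts (pow_mem hn e) (one_mem _) (hpow e) (by rw [hπe]; exact g.acts_one)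
    rwa [inv_one, mul_one] at h1
  refine Subtype.ext ?_
  rw [← (hiter e).2, g.diagonal_comm hne (hdiag y hy), mul_inv_cancel_right]

/-- The torus as a subgroup of a product of units. -/
theorem exists_torus_hom {F : Type*} [Field F] (G1 : Subgroup (GL D.Idx F)) :
    ∃ f : ↥((D.diagonalSubgroup F).subgroupOf G1) →* (Fin D.rank → Fˣ), Function.Injective f ∧
      ∀ y : ↥((D.diagonalSubgroup F).subgroupOf G1), ∃ c, torHom D F c = ((y : ↥G1) : GL D.Idx F) ∧ ∀ j, f y j = rootVal c (D.simple j) := by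
  have hdiag : ∀ y : ↥((D.diagonalSubgroup F).subgroupOf G1), ∃ c : Fin D.rank → Fˣ,
      torHom D F c = ((y : ↥G1) : GL D.Idx F) := fun y => by
    exact MonoidHom.mem_range.1 ((g.diagonal_eq_range (F := F)).le (Subgroup.mem_subgroupOf.1 y.2))
  choose c hc' using hdiag
  refine ⟨MonoidHom.mk' (fun y j => rootVal (c y) (D.simple j)) fun y z => ?_, fun y z he => ?_,
    fun y => ⟨c y, hc' y, fun j => rfl⟩⟩
  · funext j
    rw [Pi.mul_apply, ← rootVal_mul, g.rootVal_eq_of_torHom (show torHom D F (c (y * z)) = torHom D F (c y * c z) by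
      rw [map_mul, hc', hc', hc']; rfl) (g.simple_lt j.2)]
  · have h1 := g.torHom_eq_of_simple (c := c y) (c' := c z) fun j => congrFun he j
    rw [hc', hc'] at h1
    exact Subtype.ext (Subtype.ext h1)

end Good

end CfsgLib.Chev
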