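import Mathlib
import Cfsg.Agent.Lib.Chev.SectionTorus
import Cfsg.Agent.Lib.Chev.F4PrimePair

/-!
Alternating sections of F₄(q).
-/

set_option autoImplicit false
set_option maxHeartbeats 1000000
set_option maxRecDepth 100000

namespace CfsgLib.Chev.Section

open Cfsg.Lie Matrix Polynomial

/-- Multiplication by three on eleven points. -/
def mulThree : Equiv.Perm (Fin 11) := ⟨fun i => 3 * i, fun i => 4 * i, by decide, by decide⟩

/-- The seven-cycle on twelve points. -/
def cycSeven : Equiv.Perm (Fin 12) :=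
  ⟨![1, 2, 3, 4, 5, 6, 0, 7, 8, 9, 10, 11], ![6, 0, 1, 2, 3, 4, 5, 7, 8, 9, 10, 11], by decide, by decide⟩

/-- The five-cycle on twelve points. -/
def cycFive : Equiv.Perm (Fin 12) :=
  ⟨![0, 1, 2, 3, 4, 5, 6, 8, 9, 10, 11, 7], ![0, 1, 2, 3, 4, 5, 6, 11, 7, 8, 9, 10], by decide, by decide⟩

/-- An element inducing automorphisms of orders six and four on the two cycles. -/
def normBoth : Equiv.Perm (Fin 12) :=
  ⟨![0, 3, 6, 2, 5, 1, 4, 7, 9, 11, 8, 10], ![0, 5, 3, 1, 6, 4, 2, 7, 10, 8, 11, 9], by decide, by decide⟩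

theorem mem_alt {n : ℕ} {σ : Equiv.Perm (Fin n)} (h : Equiv.Perm.sign σ = 1) : σ ∈ alternatingGroup (Fin n) :=
  Equiv.Perm.mem_alternatingGroup.2 h

theorem alt_eleven : ∃ a b : ↥(alternatingGroup (Fin 11)), orderOf a = 11 ∧ b * a * b⁻¹ = a ^ 3 := by
  haveI : Fact (Nat.Prime 11) := ⟨by norm_num⟩
  refine ⟨⟨finRotate 11, mem_alt (by decide +kernel)⟩, ⟨mulThree, mem_alt (by decide +kernel)⟩,
    orderOf_eq_prime (Subtype.ext (by decide +kernel)) (fun h => absurd (congrArg Subtype.val h) (by decide +kernel)),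
    Subtype.ext (by decide +kernel)⟩

theorem alt_twelve : ∃ a c b : ↥(alternatingGroup (Fin 12)), orderOf a = 7 ∧ orderOf c = 5 ∧ c * a = a * c ∧
    b * a * b⁻¹ = a ^ 3 ∧ b * c * b⁻¹ = c ^ 2 := by
  haveI : Fact (Nat.Prime 7) := ⟨by norm_num⟩
  haveI : Fact (Nat.Prime 5) := ⟨by norm_num⟩
  refine ⟨⟨cycSeven, mem_alt (by decide +kernel)⟩, ⟨cycFive, mem_alt (by decide +kernel)⟩,
    ⟨normBoth, mem_alt (by decide +kernel)⟩,
    orderOf_eq_prime (Subtype.ext (by decide +kernel)) (fun h => absurd (congrArg Subtype.val h) (by decide +kernel)),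
    orderOf_eq_prime (Subtype.ext (by decide +kernel)) (fun h => absurd (congrArg Subtype.val h) (by decide +kernel)),
    Subtype.ext (by decide +kernel), Subtype.ext (by decide +kernel), Subtype.ext (by decide +kernel)⟩

/-- Alternating groups of smaller degree embed. -/
theorem exists_alt_embedding {m n : ℕ} (h : m ≤ n) :
    ∃ f : ↥(alternatingGroup (Fin m)) →* ↥(alternatingGroup (Fin n)), Function.Injective f := by
  classical
  let e : Fin m ≃ {x : Fin n // x ∈ Set.range (Fin.castLE h)} := Equiv.ofInjective _ (Fin.castLE_injective h)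
  refine ⟨((Equiv.Perm.extendDomainHom e).comp (alternatingGroup (Fin m)).subtype).codRestrict _ fun x => ?_,
    fun x y hxy => Subtype.ext (Equiv.Perm.extendDomainHom_injective e (congrArg Subtype.val hxy))⟩
  show Equiv.Perm.extendDomain x.1 e ∈ alternatingGroup (Fin n)
  rw [Equiv.Perm.mem_alternatingGroup, Equiv.Perm.sign_extendDomain]
  exact Equiv.Perm.mem_alternatingGroup.1 x.2

/-- No element of the Weyl group of type F₄ has characteristic polynomial `Φ₄Φ₆`. -/
theorem no_phi_four_six {π : Equiv.Perm (Fin chevF4.nroots)} (hπ : π ∈ goodF4.weyl)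
    (h4 : cyclotomic 4 ℤ ∣ (goodF4.coMat π).charpoly) (h6 : cyclotomic 6 ℤ ∣ (goodF4.coMat π).charpoly) : False := by
  haveI : Fact (Nat.Prime 2) := ⟨Nat.prime_two⟩
  have c4 : cyclotomic 4 ℤ = X ^ 2 + 1 := by
    rw [show (4 : ℕ) = 2 ^ (1 + 1) by norm_num, cyclotomic_prime_pow_eq_geom_sum Nat.prime_two]
    simp [Finset.sum_range_succ, add_comm]
  obtain ⟨w, hw⟩ := h4
  have hp : Prime (cyclotomic 6 ℤ) := (cyclotomic.irreducible (by norm_num)).prime
  have h6w : cyclotomic 6 ℤ ∣ w := by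
    rw [hw] at h6
    refine (hp.dvd_or_dvd h6).resolve_left fun hd => ?_
    have he := eq_of_monic_of_associated (cyclotomic.monic 6 ℤ) (cyclotomic.monic 4 ℤ)
      (hp.irreducible.associated_of_dvd (cyclotomic.irreducible (by norm_num)) hd)
    exact absurd (cyclotomic_injective (R := ℤ) he) (by norm_num)
  have hdvd : cyclotomic 4 ℤ * cyclotomic 6 ℤ ∣ (goodF4.coMat π).charpoly := hw ▸ mul_dvd_mul_left _ h6w
  have h4d : (4 : ℕ).totient = 2 := by decide
  have h6d : (6 : ℕ).totient = 2 := by decide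
  have hchar : (goodF4.coMat π).charpoly = cyclotomic 4 ℤ * cyclotomic 6 ℤ := by
    refine eq_of_monic_of_dvd_of_natDegree_le ((cyclotomic.monic 4 ℤ).mul (cyclotomic.monic 6 ℤ))
      (Matrix.charpoly_monic _) hdvd ?_
    rw [(cyclotomic.monic 4 ℤ).natDegree_mul (cyclotomic.monic 6 ℤ), natDegree_cyclotomic, natDegree_cyclotomic,
      Matrix.charpoly_natDegree_eq_dim, Fintype.card_fin, show chevF4.rank = 4 by decide +kernel, h4d, h6d]
  haveI : Nonempty (Fin chevF4.rank) := ⟨⟨0, by decide +kernel⟩⟩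
  have hq4 := F4Graph.trace_sq_quartic (goodF4.coMat π)
  have htr : (goodF4.coMat π).trace = -(cyclotomic 4 ℤ * cyclotomic 6 ℤ).coeff 3 := by
    rw [Matrix.trace_eq_neg_charpoly_coeff, hchar, Fintype.card_fin,
      show chevF4.rank - 1 = 3 by decide +kernel]
  replace hq4 : (goodF4.coMat π).charpoly.eval 1 + (goodF4.coMat π).charpoly.eval (-1) -
      2 * (goodF4.coMat π).charpoly.eval 0 - 2 = (goodF4.coMat π).trace ^ 2 - (goodF4.coMat π ^ 2).trace := hq4
  rw [hchar] at hq4
  simp only [c4, Polynomial.cyclotomic_six, mul_add, add_mul, mul_sub, mul_one, one_mul, ← pow_add, ← pow_succ,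
    ← pow_succ', coeff_add, coeff_sub, coeff_X_pow, coeff_X, coeff_one, eval_add, eval_sub, eval_pow, eval_X,
    eval_one] at hq4 htr
  norm_num [coeff_X, coeff_one, coeff_X_pow] at hq4 htr
  rw [htr] at hq4
  norm_num at hq4
  exact (F4Graph.trace_pair hπ).2.2 ⟨htr, by linarith⟩

theorem prim_two_five : IsPrimitiveRoot (((2 : ℕ) : ℤ) : ZMod 5) 4 :=
  IsPrimitiveRoot.mk_of_lt _ (by norm_num) (by decide) fun l h0 hl => by interval_cases l <;> decide

theorem prim_three_seven : IsPrimitiveRoot (((3 : ℕ) : ℤ) : ZMod 7) 6 :=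
  IsPrimitiveRoot.mk_of_lt _ (by norm_num) (by decide) fun l h0 hl => by interval_cases l <;> decide

theorem pow_three_eleven : ((3 : ℕ) : ZMod 11) ^ 1152 ≠ 1 := by decide +kernel

/-- The degree of an alternating section of F₄(q). -/
theorem f4_alternating_section {F : Type*} [Field F] [Fintype F] (p : ℕ) [Fact p.Prime] [CharP F p]
    {H : Type*} [Group H] (j : H →* ↥(chevF4.group F)) (hj : Function.Injective j) {n : ℕ}
    (χ : H →* ↥(alternatingGroup (Fin n))) (hχ : Function.Surjective χ) :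
    n ≤ 10 + (if p = 11 then 1 else 0) := by
  have hc : HasComm chevF4 := hasComm_of_mem (by simp)
  obtain ⟨k, -, hk⟩ := FiniteField.card F p
  have hF : ∀ r : ℕ, r.Prime → r ≠ p → ¬ r ∣ Fintype.card F := fun r hr hne h =>
    hne ((Nat.prime_dvd_prime_iff_eq hr Fact.out).1 (hr.dvd_of_dvd_pow (hk ▸ h)))
  by_contra hlt
  haveI : Fact (Nat.Prime 11) := ⟨by norm_num⟩
  haveI : Fact (Nat.Prime 7) := ⟨by norm_num⟩
  haveI : Fact (Nat.Prime 5) := ⟨by norm_num⟩
  by_cases hp : p = 11
  · rw [if_pos hp] at hlt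
    obtain ⟨f, hf⟩ := exists_alt_embedding (show 12 ≤ n by omega)
    obtain ⟨a, c, b, ha, hc', hac, hab, hcb⟩ := alt_twelve
    obtain ⟨π, hπ, h7, h5⟩ := goodF4.exists_weyl_of_section_pair hc F j hj χ (r := 7) (s := 5)
      (hF 7 (by norm_num) (by omega)) (hF 5 (by norm_num) (by omega))
      (by rw [card_weylF4]; norm_num) (by rw [card_weylF4]; norm_num)
      (a := f a) (c := f c) (b := f b) (by rw [orderOf_injective f hf, ha]) (by rw [orderOf_injective f hf, hc'])
      (hχ _) (hχ _) (hχ _) (by rw [← map_mul, hac, map_mul])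
      (k := 3) (l := 2) (by rw [← map_inv, ← map_mul, ← map_mul, hab, map_pow])
      (by rw [← map_inv, ← map_mul, ← map_mul, hcb, map_pow])
    refine no_phi_four_six hπ ?_ ?_
    · exact cyclotomic_dvd_of_root goodF4 (r := 5) (by rw [card_weylF4]; norm_num) hπ (by norm_num)
        prim_two_five h5
    · exact cyclotomic_dvd_of_root goodF4 (r := 7) (by rw [card_weylF4]; norm_num) hπ (by norm_num)
        prim_three_seven h7
  · rw [if_neg hp] at hlt
    obtain ⟨f, hf⟩ := exists_alt_embedding (show 11 ≤ n by omega)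
    obtain ⟨a, b, ha, hab⟩ := alt_eleven
    have h := goodF4.pow_card_weyl_of_section hc F j hj χ (r := 11)
      (hF 11 (by norm_num) (fun h => hp h.symm)) (by rw [card_weylF4]; norm_num)
      (a := f a) (b := f b) (by rw [orderOf_injective f hf, ha]) (hχ _) (hχ _) (k := 3)
      (by rw [← map_inv, ← map_mul, ← map_mul, hab, map_pow])
    rw [card_weylF4] at h
    exact pow_three_eleven h

end CfsgLib.Chev.Section
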