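import Mathlib
import Cfsg.Agent.Lib.Chev.SectionActs
import Cfsg.Agent.Lib.Chev.TwistWeyl
import Cfsg.Agent.Lib.Chev.WeylTables
import Cfsg.Agent.Lib.Chev.SectionF4

/-!
Alternating sections of the groups of type G₂.
-/

set_option autoImplicit false
set_option maxHeartbeats 1000000
set_option maxRecDepth 100000

namespace CfsgLib.Chev

open Cfsg.Lie Matrix

variable {D : ChevalleyDatum}

namespace Good

variable (g : Good D)
include g

/-- An extension of given degree. -/
theorem exists_ext_degree (F : Type*) [Field F] [Fintype F] (K : ℕ) (hK : K ≠ 0) :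
    ∃ (L : Type) (_ : Field L) (_ : Fintype L) (f : ↥(D.group F) →* ↥(D.group L)), Function.Injective f ∧
      Fintype.card L = Fintype.card F ^ K := by
  set p := ringChar F
  haveI : Fact p.Prime := ⟨CharP.char_is_prime F p⟩
  haveI : NeZero K := ⟨hK⟩
  let L := FiniteField.Extension F p K
  letI : Fintype L := Fintype.ofFinite L
  let ι : F →+* L := algebraMap F L
  let f : ↥(D.group F) →* ↥(D.group L) :=
    ((scalarGL D ι).comp (D.group F).subtype).codRestrict (D.group L) fun w => g.scalarGL_mem ι w.2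
  refine ⟨L, inferInstance, inferInstance, f, fun a b h => Subtype.ext (scalarGL_injective ι
    (congrArg Subtype.val h)), ?_⟩
  rw [← Nat.card_eq_fintype_card, FiniteField.natCard_extension, Nat.card_eq_fintype_card]

/-- The index of the torus modulo a divisor of `|L| - 1`. -/
theorem index_torus_cast {L : Type*} [Field L] [Fintype L] (hc : HasComm D) {m : ℕ}
    (hL : ((Fintype.card L : ℕ) : ZMod m) = 1) :
    ((((D.diagonalSubgroup L).subgroupOf (D.group L)).index : ℕ) : ZMod m) = (Nat.card g.weyl : ZMod m) := by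
  classical
  set T' := (D.diagonalSubgroup L).subgroupOf (D.group L)
  have h1 := T'.card_mul_index
  rw [Nat.card_congr (Subgroup.subgroupOfEquivOfLe g.diagonal_le_group).toEquiv,
    g.card_group hc, g.card_borel hc] at h1
  have h2 : T'.index = Fintype.card L ^ (D.nroots / 2) * g.weylSum {i | i < D.rank} (Fintype.card L) :=
    Nat.eq_of_mul_eq_mul_left (Nat.card_pos (α := ↥(D.diagonalSubgroup L))) (h1.trans (by ring))
  rw [h2, Nat.cast_mul, Nat.cast_pow, hL, one_pow, one_mul, Good.weylSum, ← g.weyl_eq_wJ, Nat.cast_sum]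
  simp only [Nat.cast_pow, hL, one_pow, Finset.sum_const, nsmul_eq_mul, mul_one]
  rw [Nat.card_eq_fintype_card, Fintype.card_subtype]

end Good

namespace Section

/-- The five-cycle on seven points. -/
def cycFiveSeven : Equiv.Perm (Fin 7) :=
  ⟨![1, 2, 3, 4, 0, 5, 6], ![4, 0, 1, 2, 3, 5, 6], by decide, by decide⟩

/-- An element of order four normalising it. -/
def normFiveSeven : Equiv.Perm (Fin 7) :=
  ⟨![0, 2, 4, 1, 3, 6, 5], ![0, 3, 1, 4, 2, 6, 5], by decide, by decide⟩

theorem alt_seven_five : ∃ a b : ↥(alternatingGroup (Fin 7)), orderOf a = 5 ∧ b * a * b⁻¹ = a ^ 2 := by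
  haveI : Fact (Nat.Prime 5) := ⟨by norm_num⟩
  exact ⟨⟨cycFiveSeven, mem_alt (by decide +kernel)⟩, ⟨normFiveSeven, mem_alt (by decide +kernel)⟩,
    orderOf_eq_prime (Subtype.ext (by decide +kernel)) (fun h => absurd (congrArg Subtype.val h) (by decide +kernel)),
    Subtype.ext (by decide +kernel)⟩

theorem pow_two_five : ((2 : ℕ) : ZMod 5) ^ 6 ≠ 1 := by decide

/-- A section containing a smaller alternating group gives that group as a section. -/
theorem exists_sub_section {G : Type*} [Group G] {H : Type*} [Group H] (j : H →* G) (hj : Function.Injective j)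
    {n m : ℕ} (hmn : m ≤ n) (χ : H →* ↥(alternatingGroup (Fin n))) (hχ : Function.Surjective χ) :
    ∃ (H' : Subgroup H) (χ' : ↥H' →* ↥(alternatingGroup (Fin m))), Function.Injective (j.comp H'.subtype) ∧
      Function.Surjective χ' := by
  obtain ⟨f, hf⟩ := exists_alt_embedding hmn
  refine ⟨f.range.comap χ, (MonoidHom.ofInjective hf).symm.toMonoidHom.comp (χ.subgroupComap f.range),
    hj.comp Subtype.val_injective, (MonoidHom.ofInjective hf).symm.surjective.comp ?_⟩
  rintro ⟨z, hz⟩
  obtain ⟨w, rfl⟩ := hχ z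
  exact ⟨⟨w, hz⟩, rfl⟩

/-- The degree bound from fusion through a group of exponent six, and rank two. -/
theorem rank_two_bound {G : Type*} [Group G] [Finite G] {p : ℕ} {H : Type*} [Group H] (j : H →* G)
    (hj : Function.Injective j) {n : ℕ} (χ : H →* ↥(alternatingGroup (Fin n))) (hχ : Function.Surjective χ)
    (h5 : p ≠ 5 → ∃ (G' : Type) (_ : Group G') (_ : Finite G') (T : Subgroup G') (f : G →* G'),
      Function.Injective f ∧ ActsExp T 6 ∧ ¬ 5 ∣ T.index)
    (h2 : p = 5 → ∃ (G' : Type) (_ : Group G') (_ : Finite G') (T : Subgroup G') (f : G →* G') (X : Type)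
      (_ : CommGroup X) (_ : IsCyclic X) (t : T →* X × X),
      Function.Injective f ∧ Function.Injective t ∧ ¬ 8 ∣ T.index) :
    n ≤ 6 + (if p = 5 then 1 else 0) := by
  by_contra hlt
  haveI : Fact (Nat.Prime 5) := ⟨by norm_num⟩
  by_cases hp : p = 5
  · rw [if_pos hp] at hlt
    obtain ⟨H', χ', hj', hχ'⟩ := exists_sub_section j hj (show 8 ≤ n by omega) χ hχ
    obtain ⟨G', _, _, T, f, X, _, _, t, hf, ht, hidx⟩ := h2 hp
    exact no_alt_eight T hidx t ht (f.comp (j.comp H'.subtype)) (hf.comp hj') χ' hχ'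
  · rw [if_neg hp] at hlt
    obtain ⟨e, he⟩ := exists_alt_embedding (show 7 ≤ n by omega)
    obtain ⟨a, b, ha, hab⟩ := alt_seven_five
    obtain ⟨G', _, _, T, f, hf, hT, hidx⟩ := h5 hp
    exact pow_two_five (pow_eq_one_of_actsExp T hT (f.comp j) (hf.comp hj) χ hidx
      (a := e a) (b := e b) (by rw [orderOf_injective e he, ha]) (hχ _) (hχ _)
      (by rw [← map_inv, ← map_mul, ← map_mul, hab, map_pow]))

theorem weylG2_pow_six {π : Equiv.Perm (Fin chevG2.nroots)} (hπ : π ∈ goodG2.weyl) : π ^ 6 = 1 := by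
  refine dihedral_pow_eq_one (a := goodG2.rperm ⟨0, by decide⟩) (b := goodG2.rperm ⟨1, by decide⟩)
    (m := 6) ?_ ?_ ?_ (dvd_refl 6) (by norm_num) ?_
  · rw [mul_eq_one_iff_eq_inv, goodG2.rperm_inv]
  · rw [mul_eq_one_iff_eq_inv, goodG2.rperm_inv]
  · have h := goodG2.orderOf_wperm checksG2 structChecksG2 [⟨0, by decide⟩, ⟨1, by decide⟩] 6 (by decide +kernel)
    have e : goodG2.wperm [⟨0, by decide⟩, ⟨1, by decide⟩] =
        goodG2.rperm ⟨0, by decide⟩ * goodG2.rperm ⟨1, by decide⟩ := by simp [Good.wperm]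
    rw [e] at h
    exact h ▸ pow_orderOf_eq_one _
  · refine (Subgroup.closure_mono ?_ : _ ≤ Subgroup.closure _) hπ
    rintro _ ⟨i, rfl⟩
    have hi : i.val < 2 := i.2.trans_eq (by decide +kernel)
    rcases (show i.val = 0 ∨ i.val = 1 by omega) with h | h
    · exact Or.inl (congrArg _ (Fin.ext h))
    · exact Or.inr (congrArg _ (Fin.ext h))

/-- The degree of an alternating section of G₂(q). -/
theorem g2_alternating_section {F : Type*} [Field F] [Fintype F] (p : ℕ) [Fact p.Prime] [CharP F p]
    {H : Type*} [Group H] (j : H →* ↥(chevG2.group F)) (hj : Function.Injective j) {n : ℕ}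
    (χ : H →* ↥(alternatingGroup (Fin n))) (hχ : Function.Surjective χ) :
    n ≤ 6 + (if p = 5 then 1 else 0) := by
  have hc : HasComm chevG2 := hasComm_of_mem (by simp)
  obtain ⟨k, -, hk⟩ := FiniteField.card F p
  refine rank_two_bound j hj χ hχ (fun hp => ?_) (fun hp => ?_)
  · haveI : Fact (Nat.Prime 5) := ⟨by norm_num⟩
    have h5 : ¬ 5 ∣ Fintype.card F := fun h =>
      hp ((Nat.prime_dvd_prime_iff_eq (by norm_num) Fact.out).1 ((by norm_num : Nat.Prime 5).dvd_of_dvd_pow (hk ▸ h))).symm
    obtain ⟨L, _, _, f, hf, hL, -⟩ := goodG2.exists_ext_hom F (r := 5) (s := 5) h5 h5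
    refine ⟨↥(chevG2.group L), inferInstance, inferInstance, _, f, hf, ?_,
      goodG2.index_torus_not_dvd hc hL (by rw [card_weylG2]; norm_num)⟩
    refine goodG2.actsExp_of_canonical _ 6 fun x hx => ?_
    obtain ⟨b, hb, m, hm, π, hπw, hπ, u, hu, he⟩ := goodG2.exists_canonical hc hx
    exact ⟨b, m, u, π, hb, hm, hπ, hu, weylG2_pow_six hπw, he⟩
  · obtain ⟨L, _, _, f, hf, hL⟩ := goodG2.exists_ext_degree F 2 two_ne_zero
    obtain ⟨t, ht, -⟩ := goodG2.exists_torus_hom (chevG2.group L)
    refine ⟨↥(chevG2.group L), inferInstance, inferInstance, _, f, Lˣ, inferInstance, inferInstance,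
      ((Pi.evalMonoidHom (fun _ : Fin chevG2.rank => Lˣ) ⟨0, by decide⟩).prod
        (Pi.evalMonoidHom (fun _ : Fin chevG2.rank => Lˣ) ⟨1, by decide⟩)).comp t, hf, ?_, ?_⟩
    · intro v w h
      apply ht
      funext i
      have hi : i.val < 2 := i.2.trans_eq (by decide +kernel)
      rcases (show i.val = 0 ∨ i.val = 1 by omega) with h' | h'
      · have := congrArg Prod.fst h
        rw [show i = ⟨0, by decide⟩ from Fin.ext h']
        exact this
      · have := congrArg Prod.snd h
        rw [show i = ⟨1, by decide⟩ from Fin.ext h']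
        exact this
    · intro h8
      have hq : ((Fintype.card L : ℕ) : ZMod 8) = 1 := by
        have h5 : ∀ a : ZMod 8, a = 1 ∨ a = 5 → a ^ 2 = 1 := by decide
        have hpk : ∀ i : ℕ, ((5 ^ i : ℕ) : ZMod 8) = 1 ∨ ((5 ^ i : ℕ) : ZMod 8) = 5 := by
          intro i
          induction i with
          | zero => exact Or.inl rfl
          | succ i ih =>
            rw [pow_succ, Nat.cast_mul]
            rcases ih with h | h <;> rw [h]
            · exact Or.inr rfl
            · exact Or.inl rfl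
        rw [hL, hk, hp, Nat.cast_pow]
        exact h5 _ (hpk _)
      have h := goodG2.index_torus_cast hc hq
      rw [card_weylG2, (CharP.cast_eq_zero_iff (ZMod 8) 8 _).2 h8] at h
      exact absurd h (by decide)

end Section

end CfsgLib.Chev
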