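import Mathlib
import Cfsg.Agent.Lib.Chev.SectionRankTwo
import Cfsg.Agent.Lib.Chev.TwistFGTorus
import Cfsg.Agent.Lib.Chev.TwistHOrders

/-!
Alternating sections of ²F₄(q) and ³D₄(q).
-/

set_option autoImplicit false
set_option maxHeartbeats 1000000
set_option maxRecDepth 100000

namespace CfsgLib.Chev

open Cfsg.Lie Matrix

variable {D : ChevalleyDatum} {F : Type*} [Field F] {g : Good D} {T : Twist g F}

/-- Fusion in a twisted group through its fixed Weyl elements. -/
theorem TwistSys.actsExp (S : TwistSys T) (hc : HasComm D) (e : ℕ) (he : ∀ v ∈ T.weylFix, v ^ e = 1) :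
    Section.ActsExp ((D.diagonalSubgroup F).subgroupOf S.G1) e :=
  g.actsExp_of_canonical S.G1 e fun x hx => by
    obtain ⟨v, hv, n, -, hnm, hna, b, hb, u, hu, hx⟩ := S.exists_canonical hc hx
    exact ⟨b, n, u, v, hb.1, hnm, hna, hu.2, he v hv, hx⟩

/-- A twisted group over an extension. -/
theorem exists_genSubgroup_ext (g : Good D) {K : Type*} [Field K] {L : Type*} [Field L] (ι : K →+* L)
    (W : Set (List (ℕ × K))) (W' : Set (List (ℕ × L)))
    (h : ∀ w ∈ W, (w.map fun p => (p.1, ι p.2)) ∈ W') :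
    ∃ f : ↥(D.genSubgroup K W) →* ↥(D.genSubgroup L W'), Function.Injective f := by
  have hle : D.genSubgroup K W ≤ (D.genSubgroup L W').comap (scalarGL D ι) := by
    refine (Subgroup.closure_le _).2 ?_
    rintro x ⟨w, hw, hx⟩
    refine Subgroup.subset_closure ⟨_, h w hw, ?_⟩
    show ((x : Matrix D.Idx D.Idx K).map ι) = _
    rw [hx]
    clear hx hw
    induction w with
    | nil => exact Matrix.map_one _ (map_zero ι) (map_one ι)
    | cons p w ih =>
      have e1 : D.wordMat K (p :: w) = D.x K p.1 p.2 * D.wordMat K w := rfl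
      have e2 : D.wordMat L ((p :: w).map fun p => (p.1, ι p.2)) =
          D.x L p.1 (ι p.2) * D.wordMat L (w.map fun p => (p.1, ι p.2)) := rfl
      rw [e1, e2, Matrix.map_mul, ih]
      congr 1
      by_cases hr : p.1 < D.nroots
      · rw [g.x_eq_xr hr, g.x_eq_xr hr, xr_map]
      · rw [show D.x K p.1 p.2 = 1 from dif_neg hr, show D.x L p.1 (ι p.2) = 1 from dif_neg hr,
          Matrix.map_one _ (map_zero ι) (map_one ι)]
  exact ⟨((scalarGL D ι).comp (D.genSubgroup K W).subtype).codRestrict _ fun x => hle x.2,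
    fun a b hab => Subtype.ext (scalarGL_injective ι (congrArg Subtype.val hab))⟩

namespace Section

/-- Doubling on seven points. -/
def mulTwoSeven : Equiv.Perm (Fin 7) := ⟨fun i => 2 * i, fun i => 4 * i, by decide, by decide⟩

theorem alt_seven_seven : ∃ a b : ↥(alternatingGroup (Fin 7)), orderOf a = 7 ∧ b * a * b⁻¹ = a ^ 2 := by
  haveI : Fact (Nat.Prime 7) := ⟨by norm_num⟩
  exact ⟨⟨finRotate 7, mem_alt (by decide +kernel)⟩, ⟨mulTwoSeven, mem_alt (by decide +kernel)⟩,
    orderOf_eq_prime (Subtype.ext (by decide +kernel)) (fun h => absurd (congrArg Subtype.val h) (by decide +kernel)),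
    Subtype.ext (by decide +kernel)⟩

theorem pow_two_seven : ((2 : ℕ) : ZMod 7) ^ 16 ≠ 1 := by decide

theorem residue_two : (2 : ZMod 7) ^ 12 * (2 - 1) * (2 ^ 3 + 1) * (2 ^ 4 - 1) * (2 ^ 6 + 1) ≠ 0 := by decide

theorem residue_four : (4 : ZMod 7) ^ 12 * (4 - 1) * (4 ^ 3 + 1) * (4 ^ 4 - 1) * (4 ^ 6 + 1) ≠ 0 := by decide

theorem residue_one : ((1 : ZMod 7) + 1) * ((1 + 1) * (1 + 1)) * (1 + 1) ≠ 0 := by decide

theorem residue_twelve : (12 : ZMod 5) ≠ 0 := by decide

theorem largeRee_residue : ∀ m : ℕ, ((2 : ZMod 7) ^ (2 * m + 1) = 1 ∨ (2 : ZMod 7) ^ (2 * m + 1) = 2 ∨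
    (2 : ZMod 7) ^ (2 * m + 1) = 4) := by
  intro m
  induction m with
  | zero => exact Or.inr (Or.inl rfl)
  | succ m ih =>
    rw [show 2 * (m + 1) + 1 = (2 * m + 1) + 2 by ring, _root_.pow_add]
    rcases ih with h | h | h <;> rw [h]
    · exact Or.inr (Or.inr rfl)
    · exact Or.inl rfl
    · exact Or.inr (Or.inl rfl)

/-- The degree of an alternating section of ²F₄(q). -/
theorem largeRee_alternating_section {K : Type*} [Field K] [Fintype K] {m : ℕ}
    (hK : Fintype.card K = 2 ^ (2 * m + 1)) {H : Type*} [Group H] (j : H →* ↥(twistedF4 K (2 ^ m)))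
    (hj : Function.Injective j) {n : ℕ} (χ : H →* ↥(alternatingGroup (Fin n))) (hχ : Function.Surjective χ) :
    n ≤ 6 := by
  classical
  obtain ⟨S⟩ := exists_setupF4 K hK
  by_contra hlt
  haveI : Fact (Nat.Prime 7) := ⟨by norm_num⟩
  haveI : Finite H := Finite.of_injective j hj
  obtain ⟨f, hf⟩ := exists_alt_embedding (show 7 ≤ n by omega)
  obtain ⟨a, b, ha, hab⟩ := alt_seven_seven
  set q := 2 ^ (2 * m + 1) with hq
  have hq2 : 2 ≤ q := by rw [hq, pow_succ]; exact Nat.le_mul_of_pos_left _ (by positivity)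
  have h7 : 7 ∣ Nat.card ↥(twistedF4 K (2 ^ m)) := by
    have h1 : 7 ∣ Nat.card ↥(alternatingGroup (Fin n)) := by
      rw [← ha, ← orderOf_injective f hf a]
      exact orderOf_dvd_natCard _
    exact (h1.trans (Subgroup.card_dvd_of_surjective χ hχ)).trans (Subgroup.card_dvd_of_injective j hj)
  have hq1 : (q : ZMod 7) = 1 := by
    have hc0 : ((Nat.card ↥(twistedF4 K (2 ^ m)) : ℕ) : ZMod 7) = 0 := (CharP.cast_eq_zero_iff (ZMod 7) 7 _).2 h7
    rw [S.card_eq, ← hq] at hc0
    have h14 : 1 ≤ q ^ 4 := Nat.one_le_pow _ _ (by omega)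
    simp only [Nat.cast_mul, Nat.cast_add, Nat.cast_pow, Nat.cast_one, Nat.cast_sub h14,
      Nat.cast_sub (show 1 ≤ q by omega)] at hc0
    have hQ : (q : ZMod 7) = (2 : ZMod 7) ^ (2 * m + 1) := by rw [hq, Nat.cast_pow, Nat.cast_ofNat]
    rcases largeRee_residue m with h | h | h
    · exact hQ.trans h
    · rw [hQ, h] at hc0; exact (residue_two hc0).elim
    · rw [hQ, h] at hc0; exact (residue_four hc0).elim
  set T1 := (chevF4.diagonalSubgroup K).subgroupOf (twistedF4 K (2 ^ m))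
  have hidx : ¬ 7 ∣ T1.index := by
    intro hd
    have h1 := T1.card_mul_index
    rw [show Nat.card T1 = (q - 1) ^ 2 by
      rw [← S.card_diag, ← Nat.card_congr (Subgroup.subgroupOfEquivOfLe
        (inf_le_right : chevF4.diagonalSubgroup K ⊓ twistedF4 K (2 ^ m) ≤ twistedF4 K (2 ^ m))).toEquiv,
        Subgroup.inf_subgroupOf_right], S.card_eq, ← hq] at h1
    have h2 : T1.index = q ^ 12 * (q ^ 3 + 1) * ((q + 1) * (q ^ 2 + 1)) * (q ^ 6 + 1) := by
      refine Nat.eq_of_mul_eq_mul_left (show 0 < (q - 1) ^ 2 from pow_pos (by omega) 2) (h1.trans ?_)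
      obtain ⟨r, hr⟩ := Nat.exists_eq_add_of_le (show 1 ≤ q by omega)
      rw [show q - 1 = r by omega, show q ^ 4 - 1 = r * ((q + 1) * (q ^ 2 + 1)) from
        Nat.sub_eq_of_eq_add (by rw [hr]; ring)]
      ring
    have hd' := (CharP.cast_eq_zero_iff (ZMod 7) 7 _).2 hd
    rw [h2] at hd'
    simp only [Nat.cast_mul, Nat.cast_add, Nat.cast_pow, Nat.cast_one, hq1, one_pow, one_mul] at hd'
    exact residue_one hd'
  have hcard : (Finset.univ.filter (· ∈ S.T.weylFix)).card = 16 := by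
    have h := S.sum_weylFix (fun _ => 1)
    rw [Finset.card_eq_sum_ones]
    exact h
  have hexp : ∀ v ∈ S.T.weylFix, v ^ 16 = 1 := by
    intro v hv
    have h16 : Nat.card ↥S.T.weylFix = 16 := by
      rw [Nat.card_eq_fintype_card, Fintype.card_subtype, hcard]
    have h := pow_card_eq_one' (x := (⟨v, hv⟩ : ↥S.T.weylFix))
    rw [h16] at h
    exact congrArg Subtype.val h
  exact pow_two_seven (pow_eq_one_of_actsExp T1 (S.sys.actsExp hasCommF4 16 hexp) j hj χ hidx
    (a := f a) (b := f b) (by rw [orderOf_injective f hf, ha]) (hχ _) (hχ _)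
    (by rw [← map_inv, ← map_mul, ← map_mul, hab, map_pow]))

/-- The fixed Weyl group of ³D₄ has exponent six. -/
theorem triality_weyl_pow_six {K : Type*} [Field K] {A : A1Setup goodD4 K} (hc : HasComm chevD4) (hr : A.r = 2)
    (ho : ∀ o, A.orb o = orbD4 (Fin.cast hr o)) {v : Equiv.Perm (Fin chevD4.nroots)} (hv : v ∈ A.T.weylFix) :
    v ^ 6 = 1 := by
  have hw : ∀ o, (A.sys hc).w o = goodD4.wperm (orbD4 (Fin.cast hr o)) := fun o => congrArg goodD4.wperm (ho o)
  have hinv : ∀ o : Fin 2, goodD4.wperm (orbD4 o) * goodD4.wperm (orbD4 o) = 1 := fun o => by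
    have h := (A.sys hc).w_sq (Fin.cast hr.symm o)
    rwa [hw] at h
  refine dihedral_pow_eq_one (a := goodD4.wperm (orbD4 0)) (b := goodD4.wperm (orbD4 1)) (hinv 0) (hinv 1)
    (m := 6) ?_ (dvd_refl 6) (by norm_num) ?_
  · have h := goodD4.orderOf_wperm checksD4 structChecksD4 (orbD4 0 ++ orbD4 1) 6 (by decide +kernel)
    rw [goodD4.wperm_append] at h
    exact h ▸ pow_orderOf_eq_one _
  · refine (A.sys hc).weylFix_induction (P := fun v => v ∈ Subgroup.closure
      ({goodD4.wperm (orbD4 0), goodD4.wperm (orbD4 1)} : Set _)) (one_mem _) (fun o v' _ h _ => ?_) hv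
    refine mul_mem (Subgroup.subset_closure ?_) h
    rw [hw o]
    rcases (show (Fin.cast hr o) = 0 ∨ (Fin.cast hr o) = 1 by omega) with h' | h' <;> rw [h'] <;> simp

/-- The degree of an alternating section of ³D₄(q). -/
theorem triality_alternating_section {K : Type*} [Field K] [Fintype K] (p a : ℕ) [Fact p.Prime] [CharP K p]
    (ha : 1 ≤ a) {q : ℕ} (hq : q = p ^ a) (hK : Fintype.card K = q ^ 3) {H : Type*} [Group H]
    (j : H →* ↥(twistedD4 K q))
    (hj : Function.Injective j) {n : ℕ} (χ : H →* ↥(alternatingGroup (Fin n))) (hχ : Function.Surjective χ) :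
    n ≤ 6 + (if p = 5 then 1 else 0) := by
  classical
  obtain ⟨Q, hQ⟩ : ∃ Q, Q = q ^ 4 := ⟨_, rfl⟩
  haveI : NeZero (4 : ℕ) := ⟨by norm_num⟩
  let L := FiniteField.Extension K p 4
  letI : Fintype L := Fintype.ofFinite L
  have hqp : IsPrimePow Q :=
    ⟨p, a * 4, (Fact.out : p.Prime).prime, by omega, by rw [hQ, hq, ← pow_mul]⟩
  have hL : Fintype.card L = Q ^ 3 := by
    rw [← Nat.card_eq_fintype_card, FiniteField.natCard_extension, Nat.card_eq_fintype_card, hK, hQ]
    ring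
  let ι : K →+* L := algebraMap K L
  have hq3 : ∀ t : K, t ^ q ^ 3 = t := fun t => by rw [← hK, FiniteField.pow_card]
  have hq4 : ∀ t : K, t ^ Q = t ^ q := fun t => by rw [hQ, pow_succ q 3, pow_mul, hq3]
  obtain ⟨f, hf⟩ := exists_genSubgroup_ext goodD4 ι (d4Words K q) (d4Words L Q) (by
    rintro w (⟨t, ht, r, hr, rfl⟩ | ⟨t, rs, hrs, rfl⟩)
    · exact Or.inl ⟨ι t, by rw [← map_pow, hq4, ht], r, hr, rfl⟩
    · refine Or.inr ⟨ι t, rs, hrs, ?_⟩
      have h1 : t ^ Q ^ 2 = t ^ q ^ 2 := by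
        rw [sq, pow_mul, hq4, ← pow_mul, mul_comm, pow_mul, hq4, ← pow_mul, sq]
      simp only [List.map_cons, List.map_nil, ← map_pow, hq4, h1])
  obtain ⟨A, hG, hφ, hS, hr, ho⟩ := exists_setupD4 L hqp hL
  have hc : HasComm chevD4 := hasComm_of_mem (by simp)
  let T1 := (chevD4.diagonalSubgroup L).subgroupOf (twistedD4 L Q)
  have hQ1 : 1 < Q := hqp.one_lt
  have hidx : ∀ M : ℕ, (Q : ZMod M) = 1 → (T1.index : ZMod M) = 12 := by
    intro M hM
    have h1 := T1.card_mul_index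
    rw [show Nat.card T1 = (Q - 1) ^ 2 * (Q ^ 2 + Q + 1) by
      rw [← card_diagonal_twistedD4 L hqp hL, ← Nat.card_congr (Subgroup.subgroupOfEquivOfLe
        (inf_le_right : chevD4.diagonalSubgroup L ⊓ twistedD4 L Q ≤ twistedD4 L Q)).toEquiv,
        Subgroup.inf_subgroupOf_right], card_twistedD4 L hqp hL] at h1
    have h2 : T1.index = Q ^ 12 * (Q + 1) * (Q ^ 3 + 1) * (Q ^ 8 + Q ^ 4 + 1) := by
      refine Nat.eq_of_mul_eq_mul_left (show 0 < (Q - 1) ^ 2 * (Q ^ 2 + Q + 1) from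
        Nat.mul_pos (pow_pos (by omega) 2) (by positivity)) (h1.trans ?_)
      obtain ⟨r, hr'⟩ := Nat.exists_eq_add_of_le hQ1.le
      rw [show Q - 1 = r by omega, show Q ^ 2 - 1 = r * (Q + 1) from Nat.sub_eq_of_eq_add (by rw [hr']; ring),
        show Q ^ 6 - 1 = r * (Q ^ 2 + Q + 1) * (Q ^ 3 + 1) from Nat.sub_eq_of_eq_add (by rw [hr']; ring)]
      ring
    rw [h2]
    push_cast
    rw [hM]
    ring
  refine rank_two_bound j hj χ hχ (fun hp => ?_) (fun hp => ?_)
  · refine ⟨↥(twistedD4 L Q), inferInstance, inferInstance, T1, f, hf, ?_, ?_⟩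
    · have h := (A.sys hc).actsExp hc 6 (fun v hv => triality_weyl_pow_six hc hr ho hv)
      change Section.ActsExp ((chevD4.diagonalSubgroup L).subgroupOf A.G1) 6 at h
      rwa [hG] at h
    · haveI : Fact (Nat.Prime 5) := ⟨by norm_num⟩
      intro h5
      have hM : (Q : ZMod 5) = 1 := by
        rw [hQ, Nat.cast_pow]
        refine ZMod.pow_card_sub_one_eq_one (fun h => ?_)
        rw [CharP.cast_eq_zero_iff (ZMod 5) 5] at h
        rw [hq] at h
        exact hp ((Nat.prime_dvd_prime_iff_eq (by norm_num) Fact.out).1 ((by norm_num : Nat.Prime 5).dvd_of_dvd_pow h)).symm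
      have h := hidx 5 hM
      rw [(CharP.cast_eq_zero_iff (ZMod 5) 5 _).2 h5] at h
      exact residue_twelve h.symm
  · have hpi : (rootSymOf goodD4 checksD4 structChecksD4 rhoD4_ok).pi ⟨0, by decide⟩ = ⟨2, by decide⟩ ∧
        (rootSymOf goodD4 checksD4 structChecksD4 rhoD4_ok).pi ⟨2, by decide⟩ = ⟨3, by decide⟩ ∧
        (rootSymOf goodD4 checksD4 structChecksD4 rhoD4_ok).pi ⟨1, by decide⟩ = ⟨1, by decide⟩ := by
      decide +kernel
    have hfree : ∀ c, torHom chevD4 L c = 1 → A.σT c = c → c = 1 := fun c h1 h2 =>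
      freeD4 A hS hφ h1 (A.σT_eq_iff.1 h2)
    have hdiag : chevD4.diagonalSubgroup L ⊓ twistedD4 L Q = A.H0 := hG ▸ A.diag_inf_eq_of_free hc hfree
    have hmem : ∀ c : A.T0, torHom chevD4 L c.1 ∈ chevD4.diagonalSubgroup L ⊓ twistedD4 L Q :=
      fun c => hdiag ▸ ⟨c.1, c.2, rfl⟩
    let e : A.T0 →* T1 := MonoidHom.mk' (fun c => ⟨⟨torHom chevD4 L c.1, (hmem c).2⟩, (hmem c).1⟩) fun c d => Subtype.ext (Subtype.ext (map_mul _ _ _))
    have he : Function.Bijective e := by
      refine ⟨(injective_iff_map_eq_one _).2 fun c hc1 => Subtype.ext ?_, fun y => ?_⟩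
      · exact freeD4 A hS hφ (congrArg Subtype.val (congrArg Subtype.val hc1)) c.2
      · obtain ⟨c, hc0, hcy⟩ := hdiag.le (Subgroup.mem_inf.2 ⟨y.2, y.1.2⟩)
        exact ⟨⟨c, hc0⟩, Subtype.ext (Subtype.ext hcy)⟩
    refine ⟨↥(twistedD4 L Q), inferInstance, inferInstance, T1, f, Lˣ, inferInstance, inferInstance,
      (((Pi.evalMonoidHom (fun _ : Fin chevD4.rank => Lˣ) ⟨0, by decide⟩).prod
        (Pi.evalMonoidHom (fun _ : Fin chevD4.rank => Lˣ) ⟨1, by decide⟩)).comp A.T0.subtype).comp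
          (MulEquiv.ofBijective e he).symm.toMonoidHom, hf, ?_, ?_⟩
    · refine (injective_iff_map_eq_one _).2 fun y hy => (MulEquiv.ofBijective e he).symm.map_eq_one_iff.1 ?_
      suffices hP : ∀ c : A.T0, c.1 ⟨0, by decide⟩ = 1 → c.1 ⟨1, by decide⟩ = 1 → c = 1 from
        hP _ (congrArg Prod.fst hy) (congrArg Prod.snd hy)
      intro c h0 h1
      have hfix := A.mem_T0.1 c.2
      rw [hS] at hfix
      have h2 : c.1 ⟨2, by decide⟩ = 1 := Units.ext (by
        rw [← hpi.1, hfix, h0, Units.val_one, map_one])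
      have h3 : c.1 ⟨3, by decide⟩ = 1 := Units.ext (by
        rw [← hpi.2.1, hfix, h2, Units.val_one, map_one])
      refine Subtype.ext (funext fun i => ?_)
      have hi : i.val < 4 := i.2.trans_eq (by decide +kernel)
      rcases (show i.val = 0 ∨ i.val = 1 ∨ i.val = 2 ∨ i.val = 3 by omega) with h' | h' | h' | h'
      · rw [show i = ⟨0, by decide⟩ from Fin.ext h']; exact h0
      · rw [show i = ⟨1, by decide⟩ from Fin.ext h']; exact h1
      · rw [show i = ⟨2, by decide⟩ from Fin.ext h']; exact h2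
      · rw [show i = ⟨3, by decide⟩ from Fin.ext h']; exact h3
    · intro h8
      have hM : (Q : ZMod 8) = 1 := by
        rw [hQ, hq, hp, Nat.cast_pow, Nat.cast_pow, ← pow_mul, mul_comm, pow_mul,
          show ((5 : ℕ) : ZMod 8) ^ 4 = 1 by decide, one_pow]
      have h := hidx 8 hM
      rw [(CharP.cast_eq_zero_iff (ZMod 8) 8 _).2 h8] at h
      exact absurd h (by decide)

end Section

end CfsgLib.Chev
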