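import Mathlib
import Cfsg.Prelude.Def_ChevAutomorphisms
import Cfsg.Prelude.Def_ChevStructure
import Cfsg.Agent.Lib.Chev.ChevGenTwo
import Cfsg.Agent.Lib.Chev.SL2Hom
import Cfsg.Agent.Lib.Chev.Good
import Cfsg.Agent.Lib.Chev.CommGood

/-!
A Chevalley group from its monomial subgroup and fundamental root subgroups of given lengths.
-/

set_option autoImplicit false
set_option maxRecDepth 100000
set_option maxHeartbeats 800000

namespace CfsgLib.Chev

open Cfsg.Lie

/-- The nodes reached in `k` simple bonds. -/
noncomputable def nodeReach (D : ChevalleyDatum) (sd : StructData) : ℕ → ℕ → List ℕ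
  | 0, i => [i]
  | k + 1, i => (List.range D.rank).filter fun j => (nodeReach D sd k i).contains j ||
      (nodeReach D sd k i).any fun m => wordApp sd [m, j] (D.simple m) == D.simple j

/-- A fundamental root subgroup reaches all those of the same length. -/
noncomputable def lengthReachOK (D : ChevalleyDatum) (sd : StructData) : Bool :=
  (List.range D.rank).all fun i => (List.range D.rank).all fun j =>
    (D.isLong (D.simple i) != D.isLong (D.simple j)) || (nodeReach D sd D.rank i).contains j

/-- Two short roots with commutator the single long root going to the node `b`. -/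
noncomputable def longCertOK (D : ChevalleyDatum) (sd : StructData) (a b : ℕ) (w : List ℕ) (C : ℕ) :
    Bool :=
  match fterms D (D.simple a) (wordApp sd w (D.simple a)) with
  | [(p, c, e₁, e₂)] => (c.natAbs == C) && (e₁ == 1) && (e₂ == 1) &&
      (wordApp sd [a] p == D.simple b) && decide (wordApp sd w (D.simple a) ≠ D.simple a) &&
      decide (wordApp sd w (D.simple a) ≠ fneg D (D.simple a))
  | _ => false

namespace Good

variable {D : ChevalleyDatum} (g : Good D) {F : Type*} [Field F]
include g

lemma fullRoot_word {dat : LieData} {sd : StructData} (hl : LieChecks D dat)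
    (hs : StructChecks D dat sd) {M : Subgroup (GL D.Idx F)} (hN : D.monomialSubgroup F ≤ M)
    (l : List (Fin D.rank)) (w : List ℕ) (hw : l.map Fin.val = w) {r : ℕ}
    (hr : g.FullRoot M r) : g.FullRoot M (wordApp sd w r) := by
  obtain ⟨hlt, hfull⟩ := hr
  set a : Fin D.nroots := ⟨r, hlt⟩
  have hval : (g.wperm l a).val = wordApp sd w r := by rw [g.wperm_tab hl hs l a, hw]
  refine ⟨hval ▸ (g.wperm l a).2, fun t => ?_⟩
  obtain ⟨c, hcc⟩ := g.acts_wordN (F := F) l a
  have h3 := hcc (((c⁻¹ : Fˣ) : F) * t)
  rw [← mul_assoc, ← Units.val_mul, mul_inv_cancel, Units.val_one, one_mul, hval] at h3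
  rw [← h3]
  exact mul_mem (mul_mem (hN (g.wordN_mem l)) (hfull _)) (inv_mem (hN (g.wordN_mem l)))

lemma fullRoot_reach {dat : LieData} {sd : StructData} (hl : LieChecks D dat)
    (hs : StructChecks D dat sd) {M : Subgroup (GL D.Idx F)} (hN : D.monomialSubgroup F ≤ M)
    {i : ℕ} (hi : i < D.rank) (hf : g.FullRoot M (D.simple i)) :
    ∀ k, ∀ j ∈ nodeReach D sd k i, j < D.rank ∧ g.FullRoot M (D.simple j) := by
  intro k
  induction k with
  | zero => intro j hj; rw [List.mem_singleton.1 hj]; exact ⟨hi, hf⟩
  | succ k ih =>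
    intro j hj
    simp only [nodeReach, List.mem_filter, List.mem_range, Bool.or_eq_true, List.contains_eq_mem,
      decide_eq_true_eq, List.any_eq_true, beq_iff_eq] at hj
    obtain ⟨hj, h | ⟨m, hm, he⟩⟩ := hj
    · exact ih j h
    · obtain ⟨hmr, hmf⟩ := ih m hm
      exact ⟨hj, he ▸ g.fullRoot_word hl hs hN [⟨m, hmr⟩, ⟨j, hj⟩] _ rfl hmf⟩

lemma fullRoot_same_length {dat : LieData} {sd : StructData} (hl : LieChecks D dat)
    (hs : StructChecks D dat sd) (hok : lengthReachOK D sd = true)
    {M : Subgroup (GL D.Idx F)} (hN : D.monomialSubgroup F ≤ M) {i j : ℕ} (hi : i < D.rank)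
    (hj : j < D.rank) (hlen : D.isLong (D.simple i) = D.isLong (D.simple j))
    (hf : g.FullRoot M (D.simple i)) : g.FullRoot M (D.simple j) := by
  simp only [lengthReachOK, List.all_eq_true, List.mem_range, Bool.or_eq_true, bne_iff_ne, ne_eq,
    List.contains_eq_mem, decide_eq_true_eq] at hok
  rcases hok i hi j hj with h | h
  · exact absurd hlen h
  · exact (g.fullRoot_reach hl hs hN hi hf _ j h).2

/-- Full fundamental root subgroups give the group. -/
lemma group_le_of_simple {M : Subgroup (GL D.Idx F)} (hN : D.monomialSubgroup F ≤ M)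
    (h : ∀ j, j < D.rank → g.FullRoot M (D.simple j)) : D.group F ≤ M := by
  refine g.group_le_of_fullRoot fun r hr => ⟨hr, fun t => ?_⟩
  obtain ⟨l, i, hli, -⟩ := g.exists_word_simple hr
  obtain ⟨c, hc⟩ := g.acts_wordN (F := F) l ⟨D.simple i, g.simple_lt i.2⟩
  have e := hc (((c⁻¹ : Fˣ) : F) * t)
  rw [← mul_assoc, ← Units.val_mul, mul_inv_cancel, Units.val_one, one_mul, hli] at e
  rw [← e]
  exact mul_mem (mul_mem (hN (g.wordN_mem l)) ((h i i.2).2 _)) (inv_mem (hN (g.wordN_mem l)))

lemma fullRoot_rootSubgroup {M : Subgroup (GL D.Idx F)} {r : ℕ} (hr : r < D.nroots)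
    (h : D.rootSubgroup F r ≤ M) : g.FullRoot M r :=
  ⟨hr, fun t => h (Subgroup.subset_closure ⟨t, by rw [g.coe_xG]⟩)⟩

lemma fullRoot_long {dat : LieData} {sd : StructData} (hl : LieChecks D dat)
    (hs : StructChecks D dat sd) (hc : HasComm D) {M : Subgroup (GL D.Idx F)}
    (hN : D.monomialSubgroup F ≤ M) (a b : ℕ) (ha : a < D.rank) (l : List (Fin D.rank)) (C : ℕ)
    (hok : longCertOK D sd a b (l.map Fin.val) C = true) (hC : (C : F) ≠ 0)
    (hf : g.FullRoot M (D.simple a)) : g.FullRoot M (D.simple b) := by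
  set s := wordApp sd (l.map Fin.val) (D.simple a) with hsdef
  have hsf : g.FullRoot M s := g.fullRoot_word hl hs hN l _ rfl hf
  rw [longCertOK, ← hsdef] at hok
  split at hok
  swap
  · exact absurd hok (by simp)
  rename_i p c e₁ e₂ hterm
  simp only [Bool.and_eq_true, beq_iff_eq, decide_eq_true_eq] at hok
  obtain ⟨⟨⟨⟨⟨hc', rfl⟩, rfl⟩, hp⟩, hne⟩, hneg⟩ := hok
  have hlt : p < D.nroots := g.fterms_lt hf.1 hsf.1 _ (by rw [hterm]; exact List.mem_singleton.2 rfl)
  have hcne : (c : F) ≠ 0 := by
    rcases Int.natAbs_eq_iff.1 hc' with rfl | rfl <;> simpa using hC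
  have hpf : g.FullRoot M p := by
    refine ⟨hlt, fun t => ?_⟩
    have h3 := g.xG_conj hc (r := s) (s := D.simple a) hsf.1 hf.1 hne
      (CfsgLib.Chev.neg_eq g.lie.pack hf.1 ▸ hneg) (t / (c : F)) (1 : F)
    rw [← g.fterms_eq hf.1 hsf.1, hterm] at h3
    simp only [List.map_cons, List.map_nil, List.prod_cons, List.prod_nil, mul_one, pow_one,
      mul_div_cancel₀ _ hcne] at h3
    rw [← inv_mul_cancel_left (g.xG s (t / (c : F))) (g.xG p t), ← h3]
    exact mul_mem (inv_mem (hsf.2 _)) (mul_mem (mul_mem (hf.2 1) (hsf.2 _)) (inv_mem (hf.2 1)))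
  exact hp ▸ g.fullRoot_word hl hs hN [⟨a, ha⟩] _ rfl hpf

end Good

/-- One length of roots only. -/
lemma shortGen_of_one_length {D : ChevalleyDatum} (g : Good D) {F : Type*} [Field F]
    {dat : LieData} {sd : StructData} (hl : LieChecks D dat) (hs : StructChecks D dat sd)
    (hok : lengthReachOK D sd = true) (hone : ∀ j : Fin D.rank, D.isLong (D.simple j) = false)
    {i : ℕ} (hi : i < D.rank) :
    D.group F ≤ D.monomialSubgroup F ⊔ D.rootSubgroup F (D.simple i) :=
  g.group_le_of_simple le_sup_left fun j hj =>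
    g.fullRoot_same_length hl hs hok le_sup_left hi hj
      ((hone ⟨i, hi⟩).trans (hone ⟨j, hj⟩).symm)
      (g.fullRoot_rootSubgroup (g.simple_lt hi) le_sup_right)

/-- Two lengths: the long roots come from a commutator. -/
lemma shortGen_of_cert {D : ChevalleyDatum} (g : Good D) (hc : HasComm D) {F : Type*} [Field F]
    {dat : LieData} {sd : StructData} (hl : LieChecks D dat) (hs : StructChecks D dat sd)
    (hok : lengthReachOK D sd = true) (a b : Fin D.rank) (l : List (Fin D.rank)) (C : ℕ)
    (ha : D.isLong (D.simple a) = false) (hb : D.isLong (D.simple b) = true)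
    (hcert : longCertOK D sd a b (l.map Fin.val) C = true) (hC : (C : F) ≠ 0)
    {i : ℕ} (hi : i < D.rank) (hshort : D.isLong (D.simple i) = false) :
    D.group F ≤ D.monomialSubgroup F ⊔ D.rootSubgroup F (D.simple i) := by
  have hfi := g.fullRoot_rootSubgroup (F := F) (M := D.monomialSubgroup F ⊔ D.rootSubgroup F (D.simple i))
    (g.simple_lt hi) le_sup_right
  have hfa := g.fullRoot_same_length hl hs hok le_sup_left hi a.2 (hshort.trans ha.symm) hfi
  have hfb := g.fullRoot_long hl hs hc le_sup_left a b a.2 l C hcert hC hfa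
  refine g.group_le_of_simple le_sup_left fun j hj => ?_
  by_cases h : D.isLong (D.simple j) = true
  · exact g.fullRoot_same_length hl hs hok le_sup_left b.2 hj (hb.trans h.symm) hfb
  · exact g.fullRoot_same_length hl hs hok le_sup_left hi hj
      (hshort.trans (Bool.eq_false_iff.2 h).symm) hfi

/-- Both lengths given. -/
lemma bothGen {D : ChevalleyDatum} (g : Good D) {F : Type*} [Field F]
    {dat : LieData} {sd : StructData} (hl : LieChecks D dat) (hs : StructChecks D dat sd)
    (hok : lengthReachOK D sd = true) {i j : ℕ} (hi : i < D.rank) (hj : j < D.rank)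
    (hshort : D.isLong (D.simple i) = false) (hlong : D.isLong (D.simple j) = true) :
    D.group F ≤ D.monomialSubgroup F ⊔ D.rootSubgroup F (D.simple i) ⊔
      D.rootSubgroup F (D.simple j) := by
  refine g.group_le_of_simple (le_sup_left.trans le_sup_left) fun k hk => ?_
  by_cases h : D.isLong (D.simple k) = true
  · exact g.fullRoot_same_length hl hs hok (le_sup_left.trans le_sup_left) hj hk
      (hlong.trans h.symm) (g.fullRoot_rootSubgroup (g.simple_lt hj) le_sup_right)
  · exact g.fullRoot_same_length hl hs hok (le_sup_left.trans le_sup_left) hi hk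
      (hshort.trans (Bool.eq_false_iff.2 h).symm)
      (g.fullRoot_rootSubgroup (g.simple_lt hi) (le_sup_right.trans le_sup_left))

lemma lengthReach_all : lengthReachOK chevB2 sdataB2 = true ∧ lengthReachOK chevG2 sdataG2 = true ∧
    lengthReachOK chevD4 sdataD4 = true ∧ lengthReachOK chevF4 sdataF4 = true ∧
    lengthReachOK chevE6 sdataE6 = true ∧ lengthReachOK chevE7 sdataE7 = true ∧
    lengthReachOK chevE8 sdataE8 = true :=
  ⟨by decide +kernel, by decide +kernel, by decide +kernel, by decide +kernel, by decide +kernel,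
    by decide +kernel, by decide +kernel⟩

theorem group_le_monomial_short {F : Type*} [Field F] (D : ChevalleyDatum)
    (hD : D ∈ [chevG2, chevB2, chevD4, chevF4, chevE6, chevE7, chevE8])
    (h2 : D ∈ [chevB2, chevF4] → (2 : F) ≠ 0) (h3 : D = chevG2 → (3 : F) ≠ 0)
    (i : ℕ) (hi : i < D.rank) (hshort : D.isLong (D.simple i) = false) :
    D.group F ≤ D.monomialSubgroup F ⊔ D.rootSubgroup F (D.simple i) := by
  obtain ⟨eB, eG, eD, eF, e6, e7, e8⟩ := lengthReach_all
  simp only [List.mem_cons, List.not_mem_nil, or_false] at hD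
  rcases hD with rfl | rfl | rfl | rfl | rfl | rfl | rfl
  · exact shortGen_of_cert goodG2 (hasComm_of_mem (by simp)) checksG2 structChecksG2 eG
      ⟨0, by decide⟩ ⟨1, by decide⟩ [⟨0, by decide⟩, ⟨1, by decide⟩] 3 (by decide +kernel)
      (by decide +kernel) (by decide +kernel) (by exact_mod_cast h3 rfl) hi hshort
  · exact shortGen_of_cert goodB2 (hasComm_of_mem (by simp)) checksB2 structChecksB2 eB
      ⟨0, by decide⟩ ⟨1, by decide⟩ [⟨1, by decide⟩] 2 (by decide +kernel)
      (by decide +kernel) (by decide +kernel) (by exact_mod_cast h2 (by simp)) hi hshort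
  · exact shortGen_of_one_length goodD4 checksD4 structChecksD4 eD (by decide +kernel) hi
  · exact shortGen_of_cert goodF4 (hasComm_of_mem (by simp)) checksF4 structChecksF4 eF
      ⟨1, by decide⟩ ⟨2, by decide⟩ [⟨2, by decide⟩] 2 (by decide +kernel)
      (by decide +kernel) (by decide +kernel) (by exact_mod_cast h2 (by simp)) hi hshort
  · exact shortGen_of_one_length goodE6 checksE6 structChecksE6 e6 (by decide +kernel) hi
  · exact shortGen_of_one_length goodE7 checksE7 structChecksE7 e7 (by decide +kernel) hi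
  · exact shortGen_of_one_length goodE8 checksE8 structChecksE8 e8 (by decide +kernel) hi

theorem group_le_monomial_pair {F : Type*} [Field F] (D : ChevalleyDatum)
    (hD : D ∈ [chevG2, chevB2, chevF4]) (i j : ℕ) (hi : i < D.rank) (hj : j < D.rank)
    (hshort : D.isLong (D.simple i) = false) (hlong : D.isLong (D.simple j) = true) :
    D.group F ≤ D.monomialSubgroup F ⊔ D.rootSubgroup F (D.simple i) ⊔
      D.rootSubgroup F (D.simple j) := by
  obtain ⟨eB, eG, -, eF, -, -, -⟩ := lengthReach_all
  simp only [List.mem_cons, List.not_mem_nil, or_false] at hD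
  rcases hD with rfl | rfl | rfl
  · exact bothGen goodG2 checksG2 structChecksG2 eG hi hj hshort hlong
  · exact bothGen goodB2 checksB2 structChecksB2 eB hi hj hshort hlong
  · exact bothGen goodF4 checksF4 structChecksF4 eF hi hj hshort hlong

end CfsgLib.Chev
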