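import Mathlib
import Cfsg.Agent.Lib.Chev.RhoPerm
import Cfsg.Agent.Lib.Chev.Simple
import Cfsg.Agent.Lib.Chev.WeylCheck

/-!
Exceptional isogenies: the action on an invariant subspace and on the quotient by it.
-/

set_option autoImplicit false
set_option maxHeartbeats 800000

namespace CfsgLib.Chev

open Cfsg.Lie Matrix

/-- The tables of an exceptional isogeny in characteristic `p`. -/
structure IsoData where
  /-- the characteristic -/
  p : ℕ
  /-- the exponent attached to a root -/
  lam : List ℕ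
  /-- the basis indices of the invariant subspace -/
  sub : List ℕ
  /-- a basis index spanning a line fixed by the Borel subgroup -/
  top : ℕ
  /-- a root and a basis index moving that line -/
  mover : ℕ × ℕ

/-- Image of a basis index. -/
noncomputable def isoKey (D : ChevalleyDatum) (R : RhoData) (a : ℕ) : ℕ :=
  bif Nat.blt a D.rank then nth 0 R.pi a else D.rank + nth 0 R.ρ (a - D.rank)

/-- Divisibility of an integer. -/
noncomputable def dvdB (p : ℕ) (z : ℤ) : Bool := Int.beq' (z % (p : ℤ)) 0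

/-- The entry of the coefficient matrix. -/
noncomputable def entB (D : ChevalleyDatum) (u k i j : ℕ) : ℤ := coef (fcol D u k j) i

/-- All checks on the tables of an exceptional isogeny. -/
noncomputable def isoOK (D : ChevalleyDatum) (R : RhoData) (E : IsoData) : Bool :=
  inL E.sub E.top && Nat.blt E.top (D.rank + D.nroots) &&
  (Nat.blt E.mover.1 D.nroots && Nat.blt E.mover.2 (D.rank + D.nroots) && inL E.sub E.mover.2 &&
    !(Nat.beq E.mover.2 E.top) &&
    !(dvdB E.p (entB D E.mover.1 1 E.mover.2 E.top + entB D E.mover.1 2 E.mover.2 E.top +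
      entB D E.mover.1 3 E.mover.2 E.top))) &&
  allR (fun a => inL E.sub a || inL E.sub (isoKey D R a)) (upto (D.rank + D.nroots)) &&
  allR (fun b => !(inL E.sub b) || anyR (fun a => !(inL E.sub a) && Nat.beq (isoKey D R a) b)
    (upto (D.rank + D.nroots))) (upto (D.rank + D.nroots)) &&
  allR (fun u =>
    (Nat.beq (nth 0 E.lam u) 1 || Nat.beq (nth 0 E.lam u) E.p) &&
    allR (fun k => allR (fun j =>
      bif inL E.sub j then
        allR (fun q : ℕ × ℤ => inL E.sub q.1 || dvdB E.p (entB D u k q.1 j)) (fcol D u k j) &&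
        (Nat.blt (nth 0 E.lam u * k) 4 ||
          allR (fun i => !(inL E.sub i) || dvdB E.p (entB D (nth 0 R.ρ u) k i j))
            (upto (D.rank + D.nroots))) &&
        (Nat.blt u (half D) || !(Nat.beq j E.top) ||
          allR (fun q : ℕ × ℤ => Nat.beq q.1 j || dvdB E.p (entB D u k q.1 j)) (fcol D u k j))
      else
        allR (fun i => inL E.sub i || dvdB E.p (entB D u k i j -
          (bif Nat.beq (k % nth 0 E.lam u) 0
            then entB D (nth 0 R.ρ u) (k / nth 0 E.lam u) (isoKey D R i) (isoKey D R j) else 0)))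
          (upto (D.rank + D.nroots)))
      (upto (D.rank + D.nroots))) [1, 2, 3]) (upto D.nroots)

variable {D : ChevalleyDatum}

lemma isoKey_ix (g : Good D) {dat : LieData} {sd : StructData} {R : RhoData}
    (hl : LieChecks D dat) (hs : StructChecks D dat sd) (hR : rhoOK D dat sd R = true) (c : D.Idx) :
    ix D (Sum.map (rootSymOf g hl hs hR).pi (rootSymOf g hl hs hR).ρ c) = isoKey D R (ix D c) := by
  rcases c with c | c
  · show nth 0 R.pi c = _
    rw [isoKey, ix_inl, show Nat.blt (c : ℕ) D.rank = true by rw [Nat.blt_eq]; exact c.2]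
    rfl
  · show D.rank + nth 0 R.ρ c = _
    rw [isoKey, ix_inr, show Nat.blt (D.rank + c.val) D.rank = false by
      rw [← Bool.not_eq_true, Nat.blt_eq]; omega, Nat.add_sub_cancel_left]
    rfl

/-- Membership in the subspace. -/
def InSub (D : ChevalleyDatum) (E : IsoData) (a : D.Idx) : Prop := ix D a ∈ E.sub

instance (D : ChevalleyDatum) (E : IsoData) : DecidablePred (InSub D E) :=
  fun _ => inferInstanceAs (Decidable (_ ∈ _))

/-- The facts extracted from the checks, over a field. -/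
structure IsoFacts (D : ChevalleyDatum) (F : Type*) [Field F] (E : IsoData)
    (e : {a : D.Idx // ¬ InSub D E a} ≃ {a : D.Idx // InSub D E a}) (rho : ℕ → ℕ) where
  /-- the exponents -/
  lam : ℕ → ℕ
  lam_one : ∀ u < D.nroots, lam u = 1 ∨ lam u = E.p
  inv : ∀ u < D.nroots, ∀ (t : F) (i j : D.Idx), ¬ InSub D E i → InSub D E j → D.x F u t i j = 0
  quot : ∀ u < D.nroots, ∀ (t : F) (i j : {a : D.Idx // ¬ InSub D E a}),
    D.x F u t i.1 j.1 = D.x F (rho u) (t ^ lam u) (e i).1 (e j).1
  /-- the fixed line -/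
  top : {a : D.Idx // InSub D E a}
  fixLine : ∀ u < D.nroots, half D ≤ u → ∀ (t : F) (i : D.Idx), i ≠ top.1 →
    D.x F u t i top.1 = 0
  moves : ∃ u < D.nroots, ∃ i : {a : D.Idx // InSub D E a}, i ≠ top ∧
    D.x F u (1 : F) i.1 top.1 ≠ 0

theorem exists_isoFacts (g : Good D) {dat : LieData} {sd : StructData} {R : RhoData} {E : IsoData}
    (hl : LieChecks D dat) (hs : StructChecks D dat sd) (hR : rhoOK D dat sd R = true)
    (h : isoOK D R E = true) (F : Type*) [Field F] [CharP F E.p] (hp : 1 < E.p) :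
    ∃ e, ∃ Φ : IsoFacts D F E e (fun u => nth 0 R.ρ u),
      ∀ u, Φ.lam u = nth 0 E.lam u := by
  classical
  simp only [isoOK, Bool.and_eq_true] at h
  obtain ⟨⟨⟨⟨⟨htop, htop'⟩, hmv⟩, hmaps⟩, hsurj⟩, hu⟩ := h
  simp only [inL_iff, Nat.blt_eq] at htop htop'
  simp only [Bool.not_eq_true', ← Bool.not_eq_true, inL_iff, Nat.beq_eq, Nat.blt_eq,
    Bool.and_eq_true] at hmv
  have hd : ∀ z : ℤ, dvdB E.p z = true ↔ (z : F) = 0 := fun z => by
    rw [dvdB, Int.beq'_eq, CharP.intCast_eq_zero_iff F E.p]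
    exact (Int.dvd_iff_emod_eq_zero).symm
  set σ : D.Idx → D.Idx := Sum.map (rootSymOf g hl hs hR).pi (rootSymOf g hl hs hR).ρ with hσdef
  have hσinj : Function.Injective σ :=
    Sum.map_injective.2 ⟨Equiv.injective _, Equiv.injective _⟩
  have hix : ∀ a : D.Idx, ix D a < D.rank + D.nroots := by
    rintro (a | a)
    · rw [ix_inl]; omega
    · rw [ix_inr]; omega
  have hσsub : ∀ a, ¬ InSub D E a → InSub D E (σ a) := fun a ha => by
    have := allR_upto hmaps (hix a)
    rw [Bool.or_eq_true, inL_iff, inL_iff, ← isoKey_ix g hl hs hR] at this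
    exact this.resolve_left ha
  let e0 : {a : D.Idx // ¬ InSub D E a} → {a : D.Idx // InSub D E a} := fun a => ⟨σ a.1, hσsub a.1 a.2⟩
  have he0 : Function.Bijective e0 := by
    refine ⟨fun a b hab => Subtype.ext (hσinj (congrArg Subtype.val hab)), fun b => ?_⟩
    have := allR_upto hsurj (hix b.1)
    rw [Bool.or_eq_true, Bool.not_eq_true', ← Bool.not_eq_true, inL_iff] at this
    obtain ⟨a, ha, ha'⟩ : ∃ a ∈ upto (D.rank + D.nroots), (!(inL E.sub a) &&
        Nat.beq (isoKey D R a) (ix D b.1)) = true := by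
      have h2 := this.resolve_left (not_not.2 b.2)
      rw [anyR_eq, List.any_eq_true] at h2
      exact h2
    rw [Bool.and_eq_true, Bool.not_eq_true', ← Bool.not_eq_true, inL_iff, Nat.beq_eq] at ha'
    obtain ⟨c, rfl⟩ := mem_range_ix D (lt_of_mem_upto ha)
    exact ⟨⟨c, ha'.1⟩, Subtype.ext (ix_injective D ((isoKey_ix g hl hs hR c).trans ha'.2))⟩
  -- entries of a root element
  have hent : ∀ u < D.nroots, ∀ (t : F) (i j : D.Idx), D.x F u t i j =
      (1 : Matrix D.Idx D.Idx F) i j + t * (entB D u 1 (ix D i) (ix D j) : F) +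
        t ^ 2 * (entB D u 2 (ix D i) (ix D j) : F) + t ^ 3 * (entB D u 3 (ix D i) (ix D j) : F) := by
    intro u hu' t i j
    rw [g.x_eq_xr hu', xr]
    simp only [Matrix.add_apply, Matrix.smul_apply, amat, Matrix.map_apply, smul_eq_mul, entB,
      hl.rmat_apply hu' (k := 1) (by simp), hl.rmat_apply hu' (k := 2) (by simp),
      hl.rmat_apply hu' (k := 3) (by simp)]
  -- the data of the checks at a root
  have hchk : ∀ u < D.nroots, (nth 0 E.lam u = 1 ∨ nth 0 E.lam u = E.p) ∧
      ∀ k ∈ [1, 2, 3], ∀ j : D.Idx,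
      (InSub D E j → (∀ i : D.Idx, ¬ InSub D E i → (entB D u k (ix D i) (ix D j) : F) = 0) ∧
        (4 ≤ nth 0 E.lam u * k → ∀ i : D.Idx, InSub D E i →
          (entB D (nth 0 R.ρ u) k (ix D i) (ix D j) : F) = 0) ∧
        (half D ≤ u → ix D j = E.top → ∀ i : D.Idx, i ≠ j →
          (entB D u k (ix D i) (ix D j) : F) = 0)) ∧
      (¬ InSub D E j → ∀ i : D.Idx, ¬ InSub D E i → (entB D u k (ix D i) (ix D j) : F) =
        if k % nth 0 E.lam u = 0 then
          (entB D (nth 0 R.ρ u) (k / nth 0 E.lam u) (ix D (σ i)) (ix D (σ j)) : F) else 0) := by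
    intro u hu'
    have hu2 := allR_upto hu hu'
    rw [Bool.and_eq_true, Bool.or_eq_true, Nat.beq_eq, Nat.beq_eq] at hu2
    refine ⟨hu2.1, fun k hk j => ?_⟩
    have hj := allR_upto (allR_true hu2.2 hk) (hix j)
    refine ⟨fun hjs => ?_, fun hjs i his => ?_⟩
    · rw [show inL E.sub (ix D j) = true from (inL_iff _ _).2 hjs, cond_true] at hj
      simp only [Bool.and_eq_true] at hj
      obtain ⟨⟨h1, h2⟩, h3⟩ := hj
      refine ⟨fun i his => ?_, fun h4 i his => ?_, fun hup htopj i hij => ?_⟩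
      · by_cases hmem : ∃ q ∈ fcol D u k (ix D j), q.1 = ix D i
        · obtain ⟨q, hq, hqi⟩ := hmem
          have := allR_true h1 hq
          rw [Bool.or_eq_true, inL_iff, hqi, hd] at this
          exact this.resolve_left his
        · simp only [entB]
          rw [coef_eq_zero_of_not_mem _ _ fun q hq hqi => hmem ⟨q, hq, hqi⟩, Int.cast_zero]
      · rw [Bool.or_eq_true, Nat.blt_eq] at h2
        have := allR_upto (h2.resolve_left (by omega)) (hix i)
        rw [Bool.or_eq_true, Bool.not_eq_true', ← Bool.not_eq_true, inL_iff, hd] at this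
        exact this.resolve_left (not_not.2 his)
      · simp only [Bool.or_eq_true, Nat.blt_eq, Bool.not_eq_true', ← Bool.not_eq_true,
          Nat.beq_eq] at h3
        have h3' := h3.resolve_left (by push_neg; exact ⟨hup, htopj⟩)
        by_cases hmem : ∃ q ∈ fcol D u k (ix D j), q.1 = ix D i
        · obtain ⟨q, hq, hqi⟩ := hmem
          have := allR_true h3' hq
          rw [Bool.or_eq_true, Nat.beq_eq, hqi, hd] at this
          exact this.resolve_left fun e => hij (ix_injective D e)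
        · simp only [entB]
          rw [coef_eq_zero_of_not_mem _ _ fun q hq hqi => hmem ⟨q, hq, hqi⟩, Int.cast_zero]
    · rw [show inL E.sub (ix D j) = false by rw [← Bool.not_eq_true, inL_iff]; exact hjs,
        cond_false] at hj
      have := allR_upto hj (hix i)
      rw [Bool.or_eq_true, inL_iff, hd, ← isoKey_ix g hl hs hR, ← isoKey_ix g hl hs hR] at this
      have h5 := this.resolve_left his
      rw [Int.cast_sub, sub_eq_zero] at h5
      rw [h5]
      by_cases hk0 : k % nth 0 E.lam u = 0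
      · rw [if_pos hk0, show Nat.beq (k % nth 0 E.lam u) 0 = true by rw [Nat.beq_eq]; exact hk0,
          cond_true]
      · rw [if_neg hk0, show Nat.beq (k % nth 0 E.lam u) 0 = false by
          rw [← Bool.not_eq_true, Nat.beq_eq]; exact hk0, cond_false, Int.cast_zero]
  obtain ⟨ctop, hctop⟩ := mem_range_ix D htop'
  have htopS : InSub D E ctop := by show ix D ctop ∈ E.sub; rw [hctop]; exact htop
  refine ⟨Equiv.ofBijective e0 he0,
    ⟨fun u => nth 0 E.lam u, fun u hu' => (hchk u hu').1, ?_, ?_, ⟨ctop, htopS⟩, ?_, ?_⟩,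
    fun _ => rfl⟩
  · intro u hu' t i j hi hj
    have hne : i ≠ j := fun e => hi (e ▸ hj)
    rw [hent u hu', Matrix.one_apply_ne hne]
    obtain ⟨-, hk⟩ := hchk u hu'
    rw [((hk 1 (by simp) j).1 hj).1 i hi, ((hk 2 (by simp) j).1 hj).1 i hi,
      ((hk 3 (by simp) j).1 hj).1 i hi]
    ring
  · intro u hu' t i j
    have hρ : nth 0 R.ρ u < D.nroots := (rho_facts hR hu').1
    show D.x F u t i.1 j.1 = D.x F (nth 0 R.ρ u) (t ^ nth 0 E.lam u) (σ i.1) (σ j.1)
    rw [hent u hu', hent _ hρ]
    obtain ⟨hlam, hk⟩ := hchk u hu'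
    rw [(hk 1 (by simp) j.1).2 j.2 i.1 i.2, (hk 2 (by simp) j.1).2 j.2 i.1 i.2,
      (hk 3 (by simp) j.1).2 j.2 i.1 i.2]
    have hone : (1 : Matrix D.Idx D.Idx F) i.1 j.1 = (1 : Matrix D.Idx D.Idx F) (σ i.1) (σ j.1) := by
      by_cases hij : i.1 = j.1
      · rw [hij, Matrix.one_apply_eq, Matrix.one_apply_eq]
      · rw [Matrix.one_apply_ne hij, Matrix.one_apply_ne (hσinj.ne hij)]
    have hbig : ∀ k ∈ [1, 2, 3], 4 ≤ nth 0 E.lam u * k →
        (entB D (nth 0 R.ρ u) k (ix D (σ i.1)) (ix D (σ j.1)) : F) = 0 := fun k hk' h4 =>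
      ((hk k hk' (σ j.1)).1 (hσsub _ j.2)).2.1 h4 (σ i.1) (hσsub _ i.2)
    rw [hone]
    rcases hlam with hl1 | hlp
    · simp [hl1]
    · have hp1 : ¬ (1 % nth 0 E.lam u = 0) := by
        rw [hlp, Nat.mod_eq_of_lt hp]; omega
      rw [if_neg hp1, hlp]
      rcases Nat.lt_trichotomy E.p 2 with h2 | h2 | h2
      · omega
      · rw [hbig 2 (by simp) (by rw [hlp, h2]), hbig 3 (by simp) (by rw [hlp, h2]; norm_num), h2]
        norm_num
      · rcases Nat.lt_trichotomy E.p 3 with h3 | h3 | h3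
        · omega
        · rw [hbig 2 (by simp) (by rw [hlp, h3]; norm_num), hbig 3 (by simp) (by rw [hlp, h3]; norm_num),
            h3]
          norm_num
        · rw [hbig 1 (by simp) (by rw [hlp]; omega), hbig 2 (by simp) (by rw [hlp]; omega),
            hbig 3 (by simp) (by rw [hlp]; omega), if_neg, if_neg]
          · ring
          · rw [Nat.mod_eq_of_lt (by omega)]; omega
          · rw [Nat.mod_eq_of_lt (by omega)]; omega
  · intro u hu' hup t i hi
    rw [hent u hu', Matrix.one_apply_ne hi]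
    obtain ⟨-, hk⟩ := hchk u hu'
    have hs : InSub D E ctop := by show ix D ctop ∈ E.sub; rw [hctop]; exact htop
    rw [((hk 1 (by simp) ctop).1 hs).2.2 hup hctop i hi, ((hk 2 (by simp) ctop).1 hs).2.2 hup hctop i hi,
      ((hk 3 (by simp) ctop).1 hs).2.2 hup hctop i hi]
    ring
  · obtain ⟨⟨⟨⟨hm1, hm2⟩, hm3⟩, hm4⟩, hm5⟩ := hmv
    obtain ⟨c, hc⟩ := mem_range_ix D hm2
    have hcs : InSub D E c := by show ix D c ∈ E.sub; rw [hc]; exact hm3
    have hne : c ≠ ctop := fun e => hm4 (by rw [← hc, ← hctop, e])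
    refine ⟨E.mover.1, hm1, ⟨c, hcs⟩, fun e => hne (congrArg Subtype.val e), ?_⟩
    show D.x F E.mover.1 (1 : F) c ctop ≠ 0
    rw [hent _ hm1, Matrix.one_apply_ne hne, hc, hctop]
    simp only [one_pow, one_mul, zero_add]
    rw [hd] at hm5
    push_cast at hm5
    exact hm5

theorem exists_isogeny_aux (g : Good D) (hc : HasComm D) (hconn : DynkinConn D) {F : Type*} [Field F]
    {E : IsoData} {e : {a : D.Idx // ¬ InSub D E a} ≃ {a : D.Idx // InSub D E a}}
    (R : Fin D.nroots → Fin D.nroots) (rho : ℕ → ℕ) (hR : ∀ u : Fin D.nroots, rho (u : ℕ) = (R u : ℕ))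
    (hRpos : ∀ u : Fin D.nroots, half D ≤ u.val → half D ≤ (R u).val)
    (hRsurj : Function.Surjective R)
    (Φ : IsoFacts D F E e rho) :
    ∃ σ : ↥(D.group F) →* ↥(D.group F), Function.Injective σ ∧
      ∀ (s : Fin D.nroots) (t : F), (σ ⟨g.xG s t, g.xG_mem_group s.2 t⟩ : GL D.Idx F) =
        g.xG (R s) (t ^ Φ.lam s) := by
  classical
  -- invariance
  let Inv : Submonoid (Matrix D.Idx D.Idx F) :=
    { carrier := {M | ∀ i j, ¬ InSub D E i → InSub D E j → M i j = 0}
      one_mem' := fun i j hi hj => Matrix.one_apply_ne fun h => hi (h ▸ hj)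
      mul_mem' := fun {M N} hM hN i j hi hj => by
        rw [Matrix.mul_apply]
        refine Finset.sum_eq_zero fun k _ => ?_
        by_cases hk : InSub D E k
        · rw [hM i k hi hk, zero_mul]
        · rw [hN k j hk hj, mul_zero] }
  have hgen : ∀ x ∈ D.group F, (x : Matrix D.Idx D.Idx F) ∈ Inv := by
    let K : Subgroup (GL D.Idx F) :=
      { carrier := {x | (x : Matrix D.Idx D.Idx F) ∈ Inv ∧
          ((x⁻¹ : GL D.Idx F) : Matrix D.Idx D.Idx F) ∈ Inv}
        one_mem' := ⟨by simpa using Inv.one_mem, by simpa using Inv.one_mem⟩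
        mul_mem' := fun {a b} ha hb => ⟨by simpa using Inv.mul_mem ha.1 hb.1,
          by simpa [_root_.mul_inv_rev] using Inv.mul_mem hb.2 ha.2⟩
        inv_mem' := fun {a} ha => ⟨ha.2, by simpa using ha.1⟩ }
    have hle : D.group F ≤ K := g.group_le fun r hr t => ⟨by
      rw [g.coe_xG]; exact fun i j => Φ.inv r hr t i j, by
      rw [g.xG_inv, g.coe_xG]; exact fun i j => Φ.inv r hr _ i j⟩
    exact fun x hx => (hle hx).1
  -- the two blocks
  have hsum : ∀ (P : D.Idx → Prop) [DecidablePred P] (f : D.Idx → F), (∀ k, ¬ P k → f k = 0) →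
      ∑ k, f k = ∑ k : {a // P a}, f k.1 := by
    intro P _ f hf
    rw [← Finset.sum_subtype (Finset.univ.filter P) (fun x => by simp) f, Finset.sum_filter]
    refine Finset.sum_congr rfl fun k _ => ?_
    split_ifs with h
    · rfl
    · exact hf k h
  let πI : ↥(D.group F) →* Matrix {a : D.Idx // InSub D E a} {a : D.Idx // InSub D E a} F :=
    { toFun := fun x => (((x : GL D.Idx F)) : Matrix D.Idx D.Idx F).submatrix (·.1) (·.1)
      map_one' := by ext i j; simp [Matrix.one_apply, Subtype.val_inj]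
      map_mul' := fun x y => by
        ext i j
        simp only [Matrix.submatrix_apply, Subgroup.coe_mul, Units.val_mul, Matrix.mul_apply]
        exact hsum (InSub D E) _ fun k hk => by rw [hgen _ y.2 k j.1 hk j.2, mul_zero] }
  let ψ : ↥(D.group F) →* Matrix {a : D.Idx // InSub D E a} {a : D.Idx // InSub D E a} F :=
    { toFun := fun x => (((x : GL D.Idx F)) : Matrix D.Idx D.Idx F).submatrix
        (fun i => (e.symm i).1) (fun i => (e.symm i).1)
      map_one' := by
        ext i j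
        simp [Matrix.one_apply, Subtype.val_inj]
      map_mul' := fun x y => by
        ext i j
        simp only [Matrix.submatrix_apply, Subgroup.coe_mul, Units.val_mul, Matrix.mul_apply]
        rw [hsum (fun a => ¬ InSub D E a) _ fun k hk => by
          rw [hgen _ x.2 _ k (e.symm i).2 (not_not.1 hk), zero_mul]]
        exact (Equiv.sum_comp e.symm _).symm }
  let xs : Fin D.nroots → F → ↥(D.group F) := fun s t => ⟨g.xG s t, g.xG_mem_group s.2 t⟩
  have hψ : ∀ s t, ψ (xs s t) = πI (xs (R s) (t ^ Φ.lam s)) := by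
    intro s t
    ext i j
    show ((g.xG s t : GL D.Idx F) : Matrix D.Idx D.Idx F) (e.symm i).1 (e.symm j).1 =
      ((g.xG (R s : ℕ) (t ^ Φ.lam s) : GL D.Idx F) : Matrix D.Idx D.Idx F) i.1 j.1
    rw [g.coe_xG, g.coe_xG, Φ.quot s s.2, Equiv.apply_symm_apply, Equiv.apply_symm_apply, hR]
  -- kernels
  let StabI : Submonoid (Matrix {a : D.Idx // InSub D E a} {a : D.Idx // InSub D E a} F) :=
    { carrier := {M | ∀ i, i ≠ Φ.top → M i Φ.top = 0}
      one_mem' := fun i hi => Matrix.one_apply_ne hi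
      mul_mem' := fun {M N} hM hN i hi => by
        rw [Matrix.mul_apply, Finset.sum_eq_single Φ.top (fun k _ hk => by rw [hN k hk, mul_zero])
          (by simp), hM i hi, zero_mul] }
  have key : ∀ f : ↥(D.group F) →* Matrix {a : D.Idx // InSub D E a} {a : D.Idx // InSub D E a} F,
      (∀ (s : Fin D.nroots) t, half D ≤ s.val → f (xs s t) ∈ StabI) →
      (∀ h : ↥(D.group F), (h : GL D.Idx F) ∈ D.diagonalSubgroup F → f h ∈ StabI) →
      (∃ x, f x ∉ StabI) → Function.Injective f := by
    intro f hpos hdiag ⟨x, hx⟩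
    set P := g.bnPair (F := F) hc
    have hB : ∀ b : ↥(D.group F), (b : GL D.Idx F) ∈ D.borelSubgroup F → f b ∈ StabI := by
      let K : Subgroup (GL D.Idx F) :=
        { carrier := {y | ∀ hy : y ∈ D.group F, f ⟨y, hy⟩ ∈ StabI ∧ f ⟨y, hy⟩⁻¹ ∈ StabI} ∩ D.group F
          one_mem' := ⟨fun hy => by
            rw [show (⟨1, hy⟩ : ↥(D.group F)) = 1 from rfl, inv_one, map_one]
            exact ⟨StabI.one_mem, StabI.one_mem⟩, one_mem _⟩
          mul_mem' := fun {a b} ha hb => ⟨fun hy => by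
            rw [show (⟨a * b, hy⟩ : ↥(D.group F)) = ⟨a, ha.2⟩ * ⟨b, hb.2⟩ from rfl,
              _root_.mul_inv_rev, map_mul, map_mul]
            exact ⟨StabI.mul_mem (ha.1 ha.2).1 (hb.1 hb.2).1,
              StabI.mul_mem (hb.1 hb.2).2 (ha.1 ha.2).2⟩, mul_mem ha.2 hb.2⟩
          inv_mem' := fun {a} ha => ⟨fun hy => by
            rw [show (⟨a⁻¹, hy⟩ : ↥(D.group F)) = (⟨a, ha.2⟩ : ↥(D.group F))⁻¹ from rfl, inv_inv]
            exact (ha.1 ha.2).symm, inv_mem ha.2⟩ }
      have hU : D.posUnipotent F ≤ K := by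
        rw [g.posUnipotent_eq]
        refine g.rootGen_le fun r hr hr' t => ⟨fun hy => ⟨hpos ⟨r, hr'⟩ t hr, ?_⟩,
          g.xG_mem_group hr' t⟩
        rw [show (⟨g.xG r t, hy⟩ : ↥(D.group F))⁻¹ = xs ⟨r, hr'⟩ (-t) from
          Subtype.ext (g.xG_inv r t)]
        exact hpos ⟨r, hr'⟩ (-t) hr
      have hH : D.diagonalSubgroup F ≤ K := fun y hy =>
        ⟨fun hy' => ⟨hdiag _ hy, hdiag _ (inv_mem hy)⟩, g.diagonal_le_group hy⟩
      intro b hb
      exact (((sup_le hU hH : D.borelSubgroup F ≤ K) hb).1 b.2).1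
    have hker : ∀ a, f a = 1 → a = 1 := by
      let N : Subgroup ↥(D.group F) :=
        { carrier := {a | f a = 1}
          one_mem' := map_one f
          mul_mem' := fun {a b} ha hb => by
            show f (a * b) = 1
            rw [map_mul, ha, hb, one_mul]
          inv_mem' := fun {a} ha => by
            show f a⁻¹ = 1
            have := congrArg f (inv_mul_cancel a)
            rwa [map_mul, map_one, ha, mul_one] at this }
      have hN : N.Normal := ⟨fun a ha b => by
        show f (b * a * b⁻¹) = 1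
        rw [map_mul, map_mul, ha, mul_one, ← map_mul, mul_inv_cancel, map_one]⟩
      have hNB : N ≤ P.B := by
        by_contra hN'
        have htop := BN.normal_sup_eq_top P (g.irreducible hc hconn) N hN'
        obtain ⟨a, ha, b, hb, rfl⟩ := Subgroup.mem_sup_of_normal_left.1 (htop ▸ Subgroup.mem_top x)
        apply hx
        rw [map_mul, show f a = 1 from ha, one_mul]
        exact hB b hb
      have hbot : N = ⊥ := le_bot_iff.1 (g.core_trivial (F := F) ▸ Subgroup.normal_le_normalCore.2 hNB)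
      exact fun a ha => Subgroup.mem_bot.1 (hbot ▸ ha)
    intro a b hab
    refine mul_inv_eq_one.1 (hker _ ?_)
    rw [map_mul, hab, ← map_mul, mul_inv_cancel, map_one]
  have hdiagI : ∀ h : ↥(D.group F), (h : GL D.Idx F) ∈ D.diagonalSubgroup F →
      πI h ∈ StabI ∧ ψ h ∈ StabI := fun h hh =>
    ⟨fun i hi => g.diagonal_offdiag hh fun e' => hi (Subtype.ext e'),
      fun i hi => g.diagonal_offdiag hh fun e' => hi (e.symm.injective (Subtype.ext e'))⟩
  have hposI : ∀ (s : Fin D.nroots) t, half D ≤ s.val → πI (xs s t) ∈ StabI := fun s t hp i hi => by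
    show ((g.xG s t : GL D.Idx F) : Matrix D.Idx D.Idx F) i.1 Φ.top.1 = 0
    rw [g.coe_xG]
    exact Φ.fixLine s s.2 hp t i.1 fun e' => hi (Subtype.ext e')
  obtain ⟨u, hu, i0, hi0, hne⟩ := Φ.moves
  have hnot : πI (xs ⟨u, hu⟩ 1) ∉ StabI := fun h' => hne (by
    have := h' i0 hi0
    rwa [show πI (xs ⟨u, hu⟩ 1) i0 Φ.top = ((g.xG u (1 : F) : GL D.Idx F) : Matrix D.Idx D.Idx F)
      i0.1 Φ.top.1 from rfl, g.coe_xG] at this)
  have hπinj : Function.Injective πI := key πI hposI (fun h hh => (hdiagI h hh).1) ⟨_, hnot⟩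
  have hψinj : Function.Injective ψ := by
    refine key ψ (fun s t hp => ?_) (fun h hh => (hdiagI h hh).2) ?_
    · rw [hψ]; exact hposI _ _ (hRpos s hp)
    · obtain ⟨s, hs⟩ := hRsurj ⟨u, hu⟩
      refine ⟨xs s 1, ?_⟩
      rw [hψ, hs, one_pow]
      exact hnot
  have hex : ∀ x : ↥(D.group F), ∃ y, πI y = ψ x := by
    intro x
    let K : Subgroup (GL D.Idx F) :=
      ((πI.comp (MonoidHom.id _)).toHomUnits.range.comap ψ.toHomUnits).map (D.group F).subtype
    have hle : D.group F ≤ K := g.group_le fun r hr t =>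
      ⟨xs ⟨r, hr⟩ t, ⟨xs (R ⟨r, hr⟩) (t ^ Φ.lam r), Units.ext (hψ ⟨r, hr⟩ t).symm⟩, rfl⟩
    obtain ⟨x', hx', hxe⟩ := hle x.2
    obtain rfl : x' = x := Subtype.ext hxe
    obtain ⟨y, hy⟩ := hx'
    exact ⟨y, congrArg Units.val hy⟩
  choose σ hσ using hex
  let σh : ↥(D.group F) →* ↥(D.group F) :=
    { toFun := σ
      map_one' := hπinj (by rw [hσ, map_one, map_one])
      map_mul' := fun a b => hπinj (by rw [hσ, map_mul, map_mul, hσ, hσ]) }
  refine ⟨σh, fun a b hab => hψinj ?_, fun s t => ?_⟩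
  · rw [← hσ a, ← hσ b]; exact congrArg πI hab
  · exact congrArg Subtype.val (hπinj ((hσ (xs s t)).trans (hψ s t)))

/-- The exceptional isogeny. -/
theorem exists_isogeny (g : Good D) (hc : HasComm D) (hconn : DynkinConn D) {dat : LieData}
    {sd : StructData} {R : RhoData} {E : IsoData} (hl : LieChecks D dat)
    (hs : StructChecks D dat sd) (hR : rhoOK D dat sd R = true) (h : isoOK D R E = true)
    (F : Type*) [Field F] [CharP F E.p] (hp : 1 < E.p) :
    ∃ σ : ↥(D.group F) →* ↥(D.group F), Function.Injective σ ∧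
      ∀ (s : Fin D.nroots) (t : F), (σ ⟨g.xG s t, g.xG_mem_group s.2 t⟩ : GL D.Idx F) =
        g.xG ((rootSymOf g hl hs hR).ρ s) (t ^ nth 0 E.lam s) := by
  obtain ⟨e, Φ, hΦ⟩ := exists_isoFacts g hl hs hR h F hp
  obtain ⟨σ, hσi, hσ⟩ := exists_isogeny_aux g hc hconn (rootSymOf g hl hs hR).ρ _
    (fun u => rfl) (rootSymOf g hl hs hR).ρ_pos (Equiv.surjective _) Φ
  exact ⟨σ, hσi, fun s t => by rw [hσ, hΦ]⟩

end CfsgLib.Chev
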