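import Mathlib
import Cfsg.Prelude.Def_LieTwisted
import Cfsg.Agent.Lib.Chev.SigmaIsoTables

/-!
The exceptional isogenies are automorphisms over a perfect field.
-/

set_option autoImplicit false
set_option maxRecDepth 100000

namespace CfsgLib.Chev

open Cfsg.Lie

/-- An isogeny over a perfect field is an automorphism, and its values at the fundamental roots. -/
theorem exists_isogeny_aut {D : ChevalleyDatum} (g : Good D) {F : Type*} [Field F]
    (R : Fin D.nroots → Fin D.nroots) (hR : Function.Surjective R) (lam : ℕ → ℕ) {p : ℕ}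
    (hlam : ∀ s < D.nroots, lam s = 1 ∨ lam s = p) (hperf : ∀ x : F, ∃ y : F, y ^ p = x)
    {σ : ↥(D.group F) →* ↥(D.group F)} (hinj : Function.Injective σ)
    (hσ : ∀ (s : Fin D.nroots) (t : F), (σ ⟨g.xG s t, g.xG_mem_group s.2 t⟩ : GL D.Idx F) =
      g.xG (R s) (t ^ lam s)) :
    ∃ α : ↥(D.group F) ≃* ↥(D.group F), ∀ (x : ↥(D.group F)) (s s' : ℕ) (hs : s < D.nroots) (e : ℕ),
      (R ⟨s, hs⟩ : ℕ) = s' → lam s = e → ∀ t : F,
      ((x : GL D.Idx F) : Matrix D.Idx D.Idx F) = D.x F s t →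
      ((α x : GL D.Idx F) : Matrix D.Idx D.Idx F) = D.x F s' (t ^ e) := by
  have hsurj : Function.Surjective σ := by
    intro x
    have hle : D.group F ≤ (σ.range.map (D.group F).subtype) := g.group_le fun r hr t => by
      obtain ⟨s, hs⟩ := hR ⟨r, hr⟩
      obtain ⟨u, hu⟩ : ∃ u : F, u ^ lam s = t := by
        rcases hlam s s.2 with h | h <;> rw [h]
        · exact ⟨t, pow_one t⟩
        · exact hperf t
      exact ⟨σ ⟨g.xG s u, g.xG_mem_group s.2 u⟩, ⟨_, rfl⟩,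
        (hσ s u).trans (by rw [hs, hu])⟩
    obtain ⟨y, hy, he⟩ := hle x.2
    obtain rfl : y = x := Subtype.ext he
    exact hy
  refine ⟨MulEquiv.ofBijective σ ⟨hinj, hsurj⟩, fun x s s' hs e h1 h2 t hx => ?_⟩
  obtain rfl : x = ⟨g.xG s t, g.xG_mem_group hs t⟩ :=
    Subtype.ext (Units.ext (hx.trans (g.coe_xG _ _).symm))
  show ((σ _ : GL D.Idx F) : Matrix D.Idx D.Idx F) = _
  rw [show (⟨g.xG s t, g.xG_mem_group hs t⟩ : ↥(D.group F)) =
    ⟨g.xG (⟨s, hs⟩ : Fin D.nroots) t, g.xG_mem_group hs t⟩ from rfl, hσ, g.coe_xG, h1, h2]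

/-- The graph automorphisms in characteristic 2, at the fundamental roots and their negatives. -/
theorem graphAut2 {K : Type*} [Field K] [CharP K 2] (hperf : ∀ x : K, ∃ y : K, y ^ 2 = x)
    (p : ChevalleyDatum × List (ℕ × ℕ))
    (hp : p ∈ [(chevB2, [(1, 2), (0, 1)]), (chevF4, [(3, 2), (2, 2), (1, 1), (0, 1)])]) :
    ∃ α : ↥(p.1.group K) ≃* ↥(p.1.group K), ∀ (g : ↥(p.1.group K)) (i : ℕ) (t : K), i < p.1.rank →
      (((g : GL p.1.Idx K) : Matrix p.1.Idx p.1.Idx K) = p.1.x K (p.1.simple i) t →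
        ((α g : GL p.1.Idx K) : Matrix p.1.Idx p.1.Idx K) =
          p.1.x K (p.1.simple (p.2.getD i (0, 1)).1) (t ^ (p.2.getD i (0, 1)).2)) ∧
      (((g : GL p.1.Idx K) : Matrix p.1.Idx p.1.Idx K) = p.1.x K (p.1.neg (p.1.simple i)) t →
        ((α g : GL p.1.Idx K) : Matrix p.1.Idx p.1.Idx K) =
          p.1.x K (p.1.neg (p.1.simple (p.2.getD i (0, 1)).1)) (t ^ (p.2.getD i (0, 1)).2)) := by
  simp only [List.mem_cons, List.not_mem_nil, or_false] at hp
  rcases hp with rfl | rfl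
  · obtain ⟨σ, hσi, hσ⟩ := exists_isogenyB2 K
    obtain ⟨α, hα⟩ := exists_isogeny_aut goodB2 _ (Equiv.surjective _) (fun s => nth 0 isoB2.lam s)
      (p := 2) (by
        have : ∀ s : Fin chevB2.nroots, nth 0 isoB2.lam s = 1 ∨ nth 0 isoB2.lam s = 2 := by
          decide +kernel
        exact fun s hs => this ⟨s, hs⟩) hperf hσi hσ
    have hd : ∀ i : Fin 2,
        nth 0 rhoIsoB2.ρ (chevB2.simple i) =
          chevB2.simple (([(1, 2), (0, 1)] : List (ℕ × ℕ)).getD i (0, 1)).1 ∧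
        nth 0 isoB2.lam (chevB2.simple i) = (([(1, 2), (0, 1)] : List (ℕ × ℕ)).getD i (0, 1)).2 ∧
        nth 0 rhoIsoB2.ρ (chevB2.neg (chevB2.simple i)) =
          chevB2.neg (chevB2.simple (([(1, 2), (0, 1)] : List (ℕ × ℕ)).getD i (0, 1)).1) ∧
        nth 0 isoB2.lam (chevB2.neg (chevB2.simple i)) =
          (([(1, 2), (0, 1)] : List (ℕ × ℕ)).getD i (0, 1)).2 := by decide +kernel
    refine ⟨α, fun g i t hi => ?_⟩
    obtain ⟨a, b, c, d⟩ := hd ⟨i, hi⟩
    exact ⟨hα g _ _ (goodB2.simple_lt hi) _ a b t,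
      hα g _ _ (goodB2.neg_lt (goodB2.simple_lt hi)) _ c d t⟩
  · obtain ⟨σ, hσi, hσ⟩ := exists_isogenyF4 K
    obtain ⟨α, hα⟩ := exists_isogeny_aut goodF4 _ (Equiv.surjective _) (fun s => nth 0 isoF4.lam s)
      (p := 2) (by
        have : ∀ s : Fin chevF4.nroots, nth 0 isoF4.lam s = 1 ∨ nth 0 isoF4.lam s = 2 := by
          decide +kernel
        exact fun s hs => this ⟨s, hs⟩) hperf hσi hσ
    have hd : ∀ i : Fin 4,
        nth 0 rhoIsoF4.ρ (chevF4.simple i) =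
          chevF4.simple (([(3, 2), (2, 2), (1, 1), (0, 1)] : List (ℕ × ℕ)).getD i (0, 1)).1 ∧
        nth 0 isoF4.lam (chevF4.simple i) =
          (([(3, 2), (2, 2), (1, 1), (0, 1)] : List (ℕ × ℕ)).getD i (0, 1)).2 ∧
        nth 0 rhoIsoF4.ρ (chevF4.neg (chevF4.simple i)) =
          chevF4.neg (chevF4.simple
            (([(3, 2), (2, 2), (1, 1), (0, 1)] : List (ℕ × ℕ)).getD i (0, 1)).1) ∧
        nth 0 isoF4.lam (chevF4.neg (chevF4.simple i)) =
          (([(3, 2), (2, 2), (1, 1), (0, 1)] : List (ℕ × ℕ)).getD i (0, 1)).2 := by decide +kernel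
    refine ⟨α, fun g i t hi => ?_⟩
    obtain ⟨a, b, c, d⟩ := hd ⟨i, hi⟩
    exact ⟨hα g _ _ (goodF4.simple_lt hi) _ a b t,
      hα g _ _ (goodF4.neg_lt (goodF4.simple_lt hi)) _ c d t⟩

/-- The graph automorphism of G2 in characteristic 3. -/
theorem graphAut3 {K : Type*} [Field K] [CharP K 3] (hperf : ∀ x : K, ∃ y : K, y ^ 3 = x) :
    ∃ α : ↥(chevG2.group K) ≃* ↥(chevG2.group K), ∀ (g : ↥(chevG2.group K)) (t : K),
      (((g : GL chevG2.Idx K) : Matrix _ _ K) = chevG2.x K g2a t →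
        ((α g : GL chevG2.Idx K) : Matrix _ _ K) = chevG2.x K g2b (t ^ 3)) ∧
      (((g : GL chevG2.Idx K) : Matrix _ _ K) = chevG2.x K g2b t →
        ((α g : GL chevG2.Idx K) : Matrix _ _ K) = chevG2.x K g2a t) ∧
      (((g : GL chevG2.Idx K) : Matrix _ _ K) = chevG2.x K g2ma t →
        ((α g : GL chevG2.Idx K) : Matrix _ _ K) = chevG2.x K g2mb (t ^ 3)) ∧
      (((g : GL chevG2.Idx K) : Matrix _ _ K) = chevG2.x K g2mb t →
        ((α g : GL chevG2.Idx K) : Matrix _ _ K) = chevG2.x K g2ma t) := by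
  obtain ⟨σ, hσi, hσ⟩ := exists_isogenyG2 K
  obtain ⟨α, hα⟩ := exists_isogeny_aut goodG2 _ (Equiv.surjective _) (fun s => nth 0 isoG2.lam s)
    (p := 3) (by
      have : ∀ s : Fin chevG2.nroots, nth 0 isoG2.lam s = 1 ∨ nth 0 isoG2.lam s = 3 := by
        decide +kernel
      exact fun s hs => this ⟨s, hs⟩) hperf hσi hσ
  refine ⟨α, fun g t => ⟨hα g g2a g2b (by decide +kernel) 3 (by show nth 0 rhoIsoG2.ρ g2a = _; decide +kernel)
      (by decide +kernel) t, fun h => ?_,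
    hα g g2ma g2mb (by decide +kernel) 3 (by show nth 0 rhoIsoG2.ρ g2ma = _; decide +kernel) (by decide +kernel) t,
    fun h => ?_⟩⟩
  · have := hα g g2b g2a (by decide +kernel) 1 (by show nth 0 rhoIsoG2.ρ g2b = _; decide +kernel)
      (by decide +kernel) t h
    rwa [pow_one] at this
  · have := hα g g2mb g2ma (by decide +kernel) 1 (by show nth 0 rhoIsoG2.ρ g2mb = _; decide +kernel)
      (by decide +kernel) t h
    rwa [pow_one] at this

end CfsgLib.Chev
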