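import Mathlib
import Cfsg.Agent.Lib.Chev.RhoPerm

/-!
Graph-field endomorphisms of simply laced Chevalley groups.
-/

set_option autoImplicit false
set_option maxHeartbeats 400000

namespace CfsgLib.Chev

open Cfsg.Lie Matrix

/-- The image of a basis index. -/
noncomputable def rhoKey (D : ChevalleyDatum) (R : RhoData) (a : ℕ) : ℕ :=
  bif Nat.blt a D.rank then nth 0 R.pi a else D.rank + nth 0 R.ρ (a - D.rank)

/-- The sign of a basis index. -/
noncomputable def sgnKey (D : ChevalleyDatum) (ε : List ℤ) (a : ℕ) : ℤ :=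
  bif Nat.blt a D.rank then 1 else nth 1 ε (a - D.rank)

/-- An integer power by primitive recursion. -/
noncomputable def ipow (c : ℤ) (k : ℕ) : ℤ := Nat.rec 1 (fun _ ih => c * ih) k

/-- The signed symmetry is an automorphism of the tables. -/
noncomputable def signedOK (D : ChevalleyDatum) (R : RhoData) (ε : List ℤ) : Bool :=
  allR (fun r => (Int.beq' (nth 1 ε r) 1 || Int.beq' (nth 1 ε r) (-1)) &&
    Int.beq' (nth 1 ε (fneg D r)) (nth 1 ε r)) (upto D.nroots) &&
  allR (fun u => allR (fun k => allR (fun j =>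
    vEq (mapR (fun p => (rhoKey D R p.1,
        ipow (nth 1 ε u) k * sgnKey D ε j * sgnKey D ε p.1 * p.2)) (fcol D u k j))
      (fcol D (nth 0 R.ρ u) k (rhoKey D R j)))
    (upto (D.rank + D.nroots))) [1, 2, 3]) (upto D.nroots)

lemma coef_mapR_key {f : ℕ → ℕ} {c : ℕ → ℤ} {N : ℕ} (hf : ∀ a < N, ∀ b < N, f a = f b → a = b)
    (v : SVec) (hv : ∀ p ∈ v, p.1 < N) {m : ℕ} (hm : m < N) :
    coef (mapR (fun p => (f p.1, c p.1 * p.2)) v) (f m) = c m * coef v m := by
  rw [mapR_eq]
  induction v with
  | nil => simp [coef_nil]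
  | cons p v ih =>
    rw [List.map_cons, coef_cons, coef_cons, ih fun q hq => hv q (List.mem_cons_of_mem _ hq)]
    by_cases hp : p.1 = m
    · subst hp; simp; ring
    · rw [if_neg fun e => hp (hf _ (hv p (by simp)) _ hm e), if_neg hp]
      ring

variable {D : ChevalleyDatum}

lemma rmat_signed (g : Good D) {dat : LieData} {sd : StructData} {R : RhoData} {ε : List ℤ}
    (hl : LieChecks D dat) (hs : StructChecks D dat sd) (hR : rhoOK D dat sd R = true)
    (hε : signedOK D R ε = true) {u : ℕ} (hu : u < D.nroots) {k : ℕ} (hk : k ∈ [1, 2, 3])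
    (a b : D.Idx) :
    rmat D (nth 0 R.ρ u) k
        (Sum.map (rootSymOf g hl hs hR).pi (rootSymOf g hl hs hR).ρ a)
        (Sum.map (rootSymOf g hl hs hR).pi (rootSymOf g hl hs hR).ρ b) =
      nth 1 ε u ^ k * sgnKey D ε (ix D b) * sgnKey D ε (ix D a) * rmat D u k a b := by
  have hix : ∀ c : D.Idx, ix D c < D.rank + D.nroots ∧
      ix D (Sum.map (rootSymOf g hl hs hR).pi (rootSymOf g hl hs hR).ρ c) = rhoKey D R (ix D c) := by
    rintro (c | c)
    · refine ⟨by simp only [ix_inl]; omega, ?_⟩
      show nth 0 R.pi c = _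
      rw [rhoKey, ix_inl, show Nat.blt (c : ℕ) D.rank = true by rw [Nat.blt_eq]; exact c.2]
      rfl
    · refine ⟨by simp only [ix_inr]; omega, ?_⟩
      show D.rank + nth 0 R.ρ c = _
      rw [rhoKey, ix_inr, show Nat.blt (D.rank + c.val) D.rank = false by
        rw [← Bool.not_eq_true, Nat.blt_eq]; omega, Nat.add_sub_cancel_left]
      rfl
  have hinj : ∀ x < D.rank + D.nroots, ∀ y < D.rank + D.nroots,
      rhoKey D R x = rhoKey D R y → x = y := by
    intro x hx y hy he
    have hsur : ∀ z < D.rank + D.nroots, ∃ c : D.Idx, ix D c = z := fun z hz => mem_range_ix D hz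
    obtain ⟨cx, rfl⟩ := hsur x hx
    obtain ⟨cy, rfl⟩ := hsur y hy
    rw [← (hix cx).2, ← (hix cy).2] at he
    have he' := ix_injective D he
    rcases cx with cx | cx <;> rcases cy with cy | cy <;> simp at he' <;>
      first | (subst he'; rfl) | exact congrArg _ he'
  rw [hl.rmat_apply hu hk, hl.rmat_apply (rho_facts hR hu).1 hk, (hix a).2, (hix b).2]
  have h1 := allR_true (allR_upto (by rw [signedOK, Bool.and_eq_true] at hε; exact hε.2) hu) hk
  have h2 := vEq_sound (allR_upto h1 (hix b).1) (rhoKey D R (ix D a))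
  rw [← h2, coef_mapR_key (f := rhoKey D R)
    (c := fun q => ipow (nth 1 ε u) k * sgnKey D ε (ix D b) * sgnKey D ε q) hinj _ ?_ (hix a).1]
  · congr 1
    congr 1
    congr 1
    clear h1 h2 hk
    induction k with
    | zero => simp [ipow]
    | succ k ih => rw [pow_succ', ← ih]; rfl
  · intro p hp
    obtain ⟨c, hc⟩ := hl.fcol_range hu hk _ p hp
    exact hc ▸ (hix c).1

lemma eps_sq {F : Type*} [Field F] {R : RhoData} {ε : List ℤ} (hε : signedOK D R ε = true)
    {r : ℕ} (hr : r < D.nroots) : (nth 1 ε r : F) * (nth 1 ε r : F) = 1 := by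
  rw [signedOK, Bool.and_eq_true] at hε
  have h := allR_upto hε.1 hr
  simp only [Bool.and_eq_true, Bool.or_eq_true, Int.beq'_eq] at h
  rcases h.1 with e | e <;> simp [e]

lemma eps_neg {R : RhoData} {ε : List ℤ} (hε : signedOK D R ε = true) {r : ℕ}
    (hr : r < D.nroots) : nth 1 ε (fneg D r) = nth 1 ε r := by
  rw [signedOK, Bool.and_eq_true] at hε
  have h := allR_upto hε.1 hr
  simp only [Bool.and_eq_true, Int.beq'_eq] at h
  exact h.2

/-- The homomorphism underlying a graph-field endomorphism, over any field. -/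
theorem exists_signed_hom (g : Good D) {F : Type*} [Field F] {dat : LieData}
    {sd : StructData} {R : RhoData} {ε : List ℤ} (hl : LieChecks D dat)
    (hs : StructChecks D dat sd) (hR : rhoOK D dat sd R = true)
    (hε : signedOK D R ε = true) (φ : F →+* F) :
    ∃ σ : ↥(D.group F) →* ↥(D.group F), Function.Injective σ ∧
      ∀ (s : Fin D.nroots) (t : F), (σ ⟨g.xG s t, g.xG_mem_group s.2 t⟩ : GL D.Idx F) =
        g.xG ((rootSymOf g hl hs hR).ρ s) ((nth 1 ε s : F) * φ t) := by
  classical
  set e : D.Idx ≃ D.Idx := Equiv.sumCongr (rootSymOf g hl hs hR).pi (rootSymOf g hl hs hR).ρ with he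
  let s : D.Idx → F := fun a => (sgnKey D ε (ix D a) : F)
  have hs2 : ∀ a, s a * s a = 1 := by
    rintro (a | a)
    · have : Nat.blt (a : ℕ) D.rank = true := by rw [Nat.blt_eq]; exact a.2
      simp [s, sgnKey, ix_inl, this]
    · have : Nat.blt (D.rank + (a : ℕ)) D.rank = false := by
        rw [← Bool.not_eq_true, Nat.blt_eq]; omega
      simp only [s, sgnKey, ix_inr, this, cond_false, Nat.add_sub_cancel_left]
      exact eps_sq hε a.2
  let S : Matrix D.Idx D.Idx F := Matrix.diagonal s
  have hS : S * S = 1 := by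
    rw [Matrix.diagonal_mul_diagonal, ← Matrix.diagonal_one]
    exact congrArg _ (funext hs2)
  let Φ : Matrix D.Idx D.Idx F →* Matrix D.Idx D.Idx F :=
    { toFun := fun M => (S * M.map φ * S).submatrix e.symm e.symm
      map_one' := by rw [Matrix.map_one _ (map_zero φ) (map_one φ), mul_one, hS, submatrix_one_equiv]
      map_mul' := fun M N => by
        rw [submatrix_mul_equiv, Matrix.map_mul, show S * (M.map φ * N.map φ) * S =
          S * M.map φ * S * (S * N.map φ * S) by
            simp only [mul_assoc]; rw [← mul_assoc S S, hS, one_mul]] }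
  have hΦinj : Function.Injective Φ := by
    intro M N h
    have h1 : S * M.map φ * S = S * N.map φ * S := by
      have := congrArg (fun X : Matrix D.Idx D.Idx F => X.submatrix e e) h
      simpa [Φ, submatrix_submatrix] using this
    have h2 := congrArg (fun X => S * X * S) h1
    simp only [mul_assoc] at h2
    rw [hS, mul_one, mul_one, ← mul_assoc S S, hS, one_mul, ← mul_assoc S S, hS, one_mul] at h2
    exact Matrix.map_injective φ.injective h2
  have hx : ∀ (u : Fin D.nroots) (t : F), Φ (D.x F u t) =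
      D.x F ((rootSymOf g hl hs hR).ρ u) ((nth 1 ε u : F) * φ t) := by
    intro u t
    have hu := u.2
    rw [g.x_eq_xr hu, g.x_eq_xr (Fin.isLt _)]
    refine Matrix.ext fun a' b' => ?_
    obtain ⟨a, rfl⟩ := e.surjective a'
    obtain ⟨b, rfl⟩ := e.surjective b'
    have hk : ∀ k ∈ [1, 2, 3],
        ((rmat D ((rootSymOf g hl hs hR).ρ u : ℕ) k (e a) (e b) : ℤ) : F) =
          (nth 1 ε u : F) ^ k * s b * s a * (rmat D u k a b : F) := by
      intro k hk
      rw [show rmat D ((rootSymOf g hl hs hR).ρ u : ℕ) k (e a) (e b) =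
        nth 1 ε u ^ k * sgnKey D ε (ix D b) * sgnKey D ε (ix D a) * rmat D u k a b from
          rmat_signed g hl hs hR hε hu hk a b]
      push_cast
      rfl
    show (S * (xr D F u t).map φ * S).submatrix e.symm e.symm (e a) (e b) = _
    rw [Matrix.submatrix_apply, Equiv.symm_apply_apply, Equiv.symm_apply_apply, Matrix.mul_diagonal,
      Matrix.diagonal_mul, Matrix.map_apply]
    simp only [xr, Matrix.add_apply, Matrix.smul_apply, amat, Matrix.map_apply, smul_eq_mul,
      map_add, map_mul, map_pow, map_intCast, hk 1 (by simp), hk 2 (by simp), hk 3 (by simp)]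
    have hsq := eps_sq (F := F) hε hu
    by_cases hab : a = b
    · subst hab
      simp only [Matrix.one_apply_eq, map_one, mul_add, add_mul, mul_one, hs2]
      linear_combination
        (-(φ t * (rmat D u 1 a a : F) * s a * s a)) * hsq +
        (-(φ t ^ 2 * (rmat D u 2 a a : F) * s a * s a * ((nth 1 ε u : F) * (nth 1 ε u : F) + 1))) * hsq +
        (-(φ t ^ 3 * (rmat D u 3 a a : F) * s a * s a *
          ((nth 1 ε u : F) ^ 4 + (nth 1 ε u : F) ^ 2 + 1))) * hsq
    · simp only [Matrix.one_apply_ne hab, Matrix.one_apply_ne (e.injective.ne hab), map_zero]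
      linear_combination
        (-(φ t * (rmat D u 1 a b : F) * s a * s b)) * hsq +
        (-(φ t ^ 2 * (rmat D u 2 a b : F) * s a * s b * ((nth 1 ε u : F) * (nth 1 ε u : F) + 1))) * hsq +
        (-(φ t ^ 3 * (rmat D u 3 a b : F) * s a * s b *
          ((nth 1 ε u : F) ^ 4 + (nth 1 ε u : F) ^ 2 + 1))) * hsq
  let Φu : GL D.Idx F →* GL D.Idx F := Units.map Φ
  have himg : ∀ x ∈ D.group F, Φu x ∈ D.group F := by
    intro x hxg
    have : D.group F ≤ (D.group F).comap Φu := g.group_le fun r hr t => by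
      rw [Subgroup.mem_comap, show Φu (g.xG r t) = g.xG ((rootSymOf g hl hs hR).ρ ⟨r, hr⟩)
        ((nth 1 ε r : F) * φ t) from Units.ext (by
          show Φ ((g.xG r t : GL D.Idx F) : Matrix D.Idx D.Idx F) = _
          rw [g.coe_xG, g.coe_xG]; exact hx ⟨r, hr⟩ t)]
      exact g.xG_mem_group (Fin.isLt _) _
    exact this hxg
  refine ⟨((Φu.comp (D.group F).subtype).codRestrict (D.group F) fun x => himg x x.2), ?_, ?_⟩
  · intro x y h
    have h' : Φu (x : GL D.Idx F) = Φu (y : GL D.Idx F) := congrArg Subtype.val h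
    exact Subtype.ext (Units.ext (hΦinj (congrArg Units.val h')))
  · intro u t
    refine Units.ext ?_
    show Φ ((g.xG u t : GL D.Idx F) : Matrix D.Idx D.Idx F) = _
    rw [g.coe_xG, g.coe_xG]; exact hx u t

/-- The graph-field endomorphism of the matrices. -/
theorem exists_signed_twist (g : Good D) {F : Type*} [Field F] [Finite F] {dat : LieData}
    {sd : StructData} {R : RhoData} {ε : List ℤ} (hl : LieChecks D dat)
    (hs : StructChecks D dat sd) (hR : rhoOK D dat sd R = true)
    (hε : signedOK D R ε = true) (φ : F →+* F) :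
    ∃ T : Twist g F, T.ρ = (rootSymOf g hl hs hR).ρ ∧ T.pi = (rootSymOf g hl hs hR).pi ∧
      ∀ s t, T.f s t = (nth 1 ε s : F) * φ t := by
  obtain ⟨σ, hσi, hσ⟩ := exists_signed_hom g hl hs hR hε φ
  refine ⟨{ ρ := (rootSymOf g hl hs hR).ρ, pi := (rootSymOf g hl hs hR).pi,
            f := fun s t => (nth 1 ε s : F) * φ t, σ := σ,
            ρ_nroot := (rootSymOf g hl hs hR).ρ_nroot, ρ_pos := (rootSymOf g hl hs hR).ρ_pos,
            ρ_sroot := (rootSymOf g hl hs hR).ρ_sroot, ρ_rperm := (rootSymOf g hl hs hR).ρ_rperm,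
            f_surj := ?_, f_zero := ?_, f_neg_inv := ?_, inj := hσi,
            σ_x := fun s t => hσ s t }, rfl, rfl, fun _ _ => rfl⟩
  · intro s
    have hsq := eps_sq (F := F) hε s.2
    obtain hb := (Finite.injective_iff_bijective.1 φ.injective).2
    intro y
    obtain ⟨t, ht⟩ := hb ((nth 1 ε s : F) * y)
    exact ⟨t, by simp only; rw [ht, ← mul_assoc, hsq, one_mul]⟩
  · intro s; simp
  · intro s t _
    have hsq := eps_sq (F := F) hε s.2
    show (nth 1 ε (D.neg s) : F) * φ (-t⁻¹) = -((nth 1 ε s : F) * φ t)⁻¹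
    rw [neg_eq g.lie.pack s.2, eps_neg hε s.2, map_neg, map_inv₀, mul_inv,
      inv_eq_of_mul_eq_one_right hsq]
    ring

end CfsgLib.Chev
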