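import Mathlib
import Cfsg.Agent.Lib.Chev.Good

/-!
A descent moving a pair of roots into a subsystem of rank two.
-/

set_option autoImplicit false

namespace CfsgLib.Chev

open Cfsg.Lie

variable (D : ChevalleyDatum) (dat : LieData) (sd : StructData)

/-- The image under a word. -/
noncomputable def applyW (l : List ℕ) (x : ℕ) : ℕ := List.rec x (fun c _ ih => refl sd c ih) l

/-- The positive representative. -/
noncomputable def posRep (x : ℕ) : ℕ := bif Nat.blt x (half D) then fneg D x else x

/-- One of `[b]`, `[a,b]`, `[b,a,b]` keeps `p_a` fundamental and lowers `s`. -/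
noncomputable def lowersOK (a b s : ℕ) : Bool :=
  anyR (fun l => anyR (fun q => Nat.beq (posRep D (applyW sd l (fsimple dat a))) (fsimple dat q))
      (upto D.rank) && Nat.blt (posRep D (applyW sd l s)) s) [[b], [a, b], [b, a, b]]

/-- Every positive root lies with `p_a` in a subsystem of rank two or can be lowered. -/
noncomputable def descOK : Bool :=
  allR (fun a => allR (fun s => Nat.blt s (half D) ||
    anyR (fun b => allR (fun q => Nat.beq q a || Nat.beq q b || Int.beq' (rootCo dat s q) 0)
      (upto D.rank) || lowersOK D dat sd a b s) (upto D.rank)) (upto D.nroots)) (upto D.rank)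

theorem descD4 : descOK chevD4 dataD4 sdataD4 = true := by decide +kernel

theorem descF4 : descOK chevF4 dataF4 sdataF4 = true := by decide +kernel

theorem descE6 : descOK chevE6 dataE6 sdataE6 = true := by decide +kernel

theorem descE7 : descOK chevE7 dataE7 sdataE7 = true := by decide +kernel

theorem descE8 : descOK chevE8 dataE8 sdataE8 = true := by decide +kernel

end CfsgLib.Chev
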