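import Mathlib
import Cfsg.Agent.Lib.Chev.StBruhat

/-!
Steinberg's relations inside the subsystems of rank two only: conjugation by `n_i` on such a subsystem.
-/

set_option autoImplicit false

namespace CfsgLib.Chev

open Cfsg.Lie

variable {D : ChevalleyDatum} {F : Type*} [Field F]

namespace Good

variable (g : Good D)

/-- The root lies in the subsystem of two fundamental roots. -/
def In2 (J : Fin D.rank × Fin D.rank) (r : ℕ) : Prop :=
  r < D.nroots ∧ ∀ q < D.rank, q ≠ J.1 → q ≠ J.2 → g.co r q = 0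

/-- The root lies in some subsystem of rank two. -/
def Loc (r : ℕ) : Prop := ∃ J, g.In2 J r

lemma in2_neg {J : Fin D.rank × Fin D.rank} {r : ℕ} (h : g.In2 J r) : g.In2 J (D.neg r) :=
  ⟨g.neg_lt h.1, fun q hq h1 h2 => by rw [g.co_neg h.1 hq, h.2 q hq h1 h2, neg_zero]⟩

lemma in2_lin {J : Fin D.rank × Fin D.rank} {r s k : ℕ} {i j : ℤ} (hr : g.In2 J r)
    (hs : g.In2 J s) (hk : k < D.nroots)
    (h : ∀ q < D.rank, g.co k q = i * g.co r q + j * g.co s q) : g.In2 J k :=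
  ⟨hk, fun q hq h1 h2 => by
    rw [h q hq, hr.2 q hq h1 h2, hs.2 q hq h1 h2, mul_zero, mul_zero, add_zero]⟩

lemma in2_simple {J : Fin D.rank × Fin D.rank} {i : Fin D.rank} (hi : i = J.1 ∨ i = J.2) :
    g.In2 J (D.simple i) :=
  ⟨g.simple_lt i.2, fun q hq h1 h2 => by
    rw [g.co_simple i.2 hq, if_neg]
    intro h
    rcases hi with rfl | rfl
    · exact h1 h.symm
    · exact h2 h.symm⟩

lemma in2_rperm {J : Fin D.rank × Fin D.rank} {i : Fin D.rank} (hi : i = J.1 ∨ i = J.2)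
    {s : Fin D.nroots} (hs : g.In2 J s) : g.In2 J (g.rperm i s) :=
  ⟨(g.rperm i s).2, fun q hq h1 h2 => by
    rw [g.rperm_val, g.co_refl i.2 s.2 hq, hs.2 q hq h1 h2, if_neg, sub_zero]
    intro h
    rcases hi with rfl | rfl
    · exact h1 h.symm
    · exact h2 h.symm⟩

end Good

/-- A group with generators `y_r(t)` for the roots in subsystems of rank two satisfying the relations there. -/
structure CTData (g : Good D) (F : Type*) [Field F] (Γ : Type*) [Group Γ] where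
  hc : HasComm D
  y : ℕ → F → Γ
  add : ∀ r, g.Loc r → ∀ s t : F, y r s * y r t = y r (s + t)
  comm : ∀ (J : Fin D.rank × Fin D.rank) (r s : ℕ), g.In2 J r → g.In2 J s → s ≠ r → s ≠ D.neg r →
    ∀ t u : F,
      (y s u)⁻¹ * (y r t)⁻¹ * y s u * y r t = ((D.commWord F r s t u).map fun p => y p.1 p.2).prod
  gen : Subgroup.closure {z | ∃ r, g.Loc r ∧ ∃ t, z = y r t} = ⊤
  θ : Γ →* GL D.Idx F
  θy : ∀ r, g.Loc r → ∀ t, θ (y r t) = g.xG r t

namespace CTData

variable {g : Good D} {Γ : Type*} [Group Γ] (S : CTData g F Γ) {J : Fin D.rank × Fin D.rank}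

/-- The subgroup generated by a set of roots. -/
def yGen (J : Fin D.rank × Fin D.rank) (A : Set ℕ) : Subgroup Γ :=
  Subgroup.closure {z | ∃ r ∈ A, g.In2 J r ∧ ∃ t, z = S.y r t}

lemma y_mem {A : Set ℕ} {r : ℕ} (hA : r ∈ A) (hr : g.In2 J r) (t : F) : S.y r t ∈ S.yGen J A :=
  Subgroup.subset_closure ⟨r, hA, hr, t, rfl⟩

lemma yGen_le {A : Set ℕ} {K : Subgroup Γ} (h : ∀ r ∈ A, g.In2 J r → ∀ t, S.y r t ∈ K) :
    S.yGen J A ≤ K := by
  refine (Subgroup.closure_le _).2 ?_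
  rintro z ⟨r, hA, hr, t, rfl⟩
  exact h r hA hr t

lemma yGen_mono {A B : Set ℕ} (h : ∀ r ∈ A, g.In2 J r → r ∈ B) : S.yGen J A ≤ S.yGen J B :=
  S.yGen_le fun r hA hr t => S.y_mem (h r hA hr) hr t

lemma θ_yGen {A : Set ℕ} {z : Γ} (hz : z ∈ S.yGen J A) : S.θ z ∈ rootGen D F A := by
  refine (S.yGen_le (K := (rootGen D F A).comap S.θ) fun r hA hr t => ?_) hz
  show S.θ (S.y r t) ∈ rootGen D F A
  rw [S.θy r ⟨J, hr⟩]
  exact g.mem_rootGen hr.1 hA t

lemma y_zero {r : ℕ} (hr : g.In2 J r) : S.y r 0 = 1 := by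
  have := S.add r ⟨J, hr⟩ 0 0
  rw [add_zero] at this
  exact mul_eq_left.1 this

lemma y_inv {r : ℕ} (hr : g.In2 J r) (t : F) : (S.y r t)⁻¹ = S.y r (-t) :=
  inv_eq_of_mul_eq_one_right (by rw [S.add r ⟨J, hr⟩, add_neg_cancel, S.y_zero hr])

lemma conj_mem {A : Set ℕ} {r s : ℕ} (hr : g.In2 J r) (hs : g.In2 J s) (hA : r ∈ A)
    (hrs : r ≠ s) (hneg : r ≠ D.neg s)
    (hS : ∀ (k : ℕ) (i j : ℕ), g.In2 J k → 1 ≤ i → 1 ≤ j →
      (∀ m < D.rank, g.co k m = (i : ℤ) * g.co s m + (j : ℤ) * g.co r m) → k ∈ A) (t u : F) :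
    S.y s u * S.y r t * (S.y s u)⁻¹ ∈ S.yGen J A := by
  have hsr : s ≠ D.neg r := fun h => hneg (by rw [h, g.neg_neg hr.1])
  have h := S.comm J r s hr hs (Ne.symm hrs) hsr t (-u)
  have e : S.y s u * S.y r t * (S.y s u)⁻¹ =
      S.y r t * (((D.commWord F r s t (-u)).map fun p => S.y p.1 p.2).prod)⁻¹ := by
    rw [← h, ← S.y_inv hs]; group
  rw [e]
  refine mul_mem (S.y_mem hA hr t) (inv_mem (Subgroup.list_prod_mem _ fun z hz => ?_))
  obtain ⟨p, hp, rfl⟩ := List.mem_map.1 hz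
  obtain ⟨c, hc', rfl⟩ := List.mem_map.1 hp
  obtain ⟨h1, h2, h3, h4⟩ := g.commTerms_co S.hc hr.1 hs.1 c hc'
  have hk : g.In2 J c.1 := g.in2_lin hr hs h1 h4
  exact S.y_mem (hS c.1 _ _ hk h3 h2 fun m hm => by rw [h4 m hm]; ring) hk _

lemma conj_gen {A : Set ℕ} {v : Γ}
    (h : ∀ r ∈ A, g.In2 J r → ∀ t, v * S.y r t * v⁻¹ ∈ S.yGen J A) {z : Γ} (hz : z ∈ S.yGen J A) :
    v * z * v⁻¹ ∈ S.yGen J A := by
  refine (S.yGen_le (K := (S.yGen J A).comap (MulAut.conj v).toMonoidHom) fun r hA hr t => ?_) hz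
  exact h r hA hr t

lemma le_normalizer {A : Set ℕ} {s : ℕ} (hs : g.In2 J s)
    (h : ∀ r ∈ A, g.In2 J r → ∀ t u, S.y s u * S.y r t * (S.y s u)⁻¹ ∈ S.yGen J A) (u : F) :
    S.y s u ∈ Subgroup.normalizer (S.yGen J A : Set Γ) := by
  rw [Subgroup.mem_normalizer_iff]
  refine fun z => ⟨fun hz => S.conj_gen (fun r hA hr t => h r hA hr t u) hz, fun hz => ?_⟩
  have h1 := S.conj_gen (fun r hA hr t => h r hA hr t (-u)) hz
  rw [← S.y_inv hs] at h1
  simpa [mul_assoc] using h1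

lemma yGen_split {A B : Set ℕ} {m : ℕ} (hm : g.In2 J m)
    (hA : ∀ r ∈ A, g.In2 J r → r = m ∨ r ∈ B)
    (hn : ∀ r ∈ B, g.In2 J r → ∀ t u, S.y m u * S.y r t * (S.y m u)⁻¹ ∈ S.yGen J B)
    {z : Γ} (hz : z ∈ S.yGen J A) : ∃ a : F, ∃ w ∈ S.yGen J B, z = S.y m a * w := by
  let X : Subgroup Γ :=
    { carrier := {z | ∃ t, z = S.y m t}
      one_mem' := ⟨0, (S.y_zero hm).symm⟩
      mul_mem' := by rintro _ _ ⟨a, rfl⟩ ⟨b, rfl⟩; exact ⟨a + b, S.add m ⟨J, hm⟩ a b⟩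
      inv_mem' := by rintro _ ⟨a, rfl⟩; exact ⟨-a, S.y_inv hm a⟩ }
  have hle : X ≤ Subgroup.normalizer (S.yGen J B : Set Γ) := by
    rintro _ ⟨u, rfl⟩; exact S.le_normalizer hm hn u
  have hsub : S.yGen J A ≤ X ⊔ S.yGen J B := S.yGen_le fun r hr hr' t => by
    rcases hA r hr hr' with rfl | h
    · exact Subgroup.mem_sup_left ⟨t, rfl⟩
    · exact Subgroup.mem_sup_right (S.y_mem h hr' t)
  have hz' := SetLike.mem_coe.2 (hsub hz)
  rw [Subgroup.coe_mul_of_left_le_normalizer_right _ _ hle] at hz'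
  obtain ⟨x, ⟨a, rfl⟩, w, hw, rfl⟩ := Set.mem_mul.1 hz'
  exact ⟨a, w, hw, rfl⟩

lemma inj_step {A B : Set ℕ} {m : ℕ} (hm : g.In2 J m)
    (hA : ∀ r ∈ A, g.In2 J r → r = m ∨ r ∈ B)
    (hn : ∀ r ∈ B, g.In2 J r → ∀ t u, S.y m u * S.y r t * (S.y m u)⁻¹ ∈ S.yGen J B)
    (hzero : ∀ a : F, g.xG m a ∈ rootGen D F B → a = 0)
    (hB : ∀ z ∈ S.yGen J B, S.θ z = 1 → z = 1) {z : Γ} (hz : z ∈ S.yGen J A) (h1 : S.θ z = 1) :
    z = 1 := by
  obtain ⟨a, w, hw, rfl⟩ := S.yGen_split hm hA hn hz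
  rw [map_mul, S.θy m ⟨J, hm⟩, mul_eq_one_iff_eq_inv] at h1
  have ha := hzero a (h1 ▸ inv_mem (S.θ_yGen hw))
  subst ha
  rw [S.y_zero hm, one_mul]
  refine hB w hw ?_
  rw [g.xG_zero] at h1
  exact inv_eq_one.1 h1.symm

lemma Ici_conj {m r s : ℕ} (hm : half D ≤ m) (hr : g.In2 J r) (hs : g.In2 J s) (hrm : m ≤ r)
    (hsp : half D ≤ s) (t u : F) : S.y s u * S.y r t * (S.y s u)⁻¹ ∈ S.yGen J (Set.Ici m) := by
  by_cases hrs : r = s
  · subst hrs
    rw [show S.y r u * S.y r t * (S.y r u)⁻¹ = S.y r t by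
      rw [S.y_inv hs, S.add r ⟨J, hs⟩, S.add r ⟨J, hs⟩, show u + t + -u = t by ring]]
    exact S.y_mem hrm hr t
  have hneg : r ≠ D.neg s := by
    have := (g.neg_neg_iff hs.1).2 hsp; omega
  refine S.conj_mem hr hs hrm hrs hneg (fun k i j hk hi hj hco => ?_) t u
  have h1 := g.wt_lin hco
  have hws := g.wt_pos hsp hs.1
  have hwr := g.wt_pos (hm.trans hrm) hr.1
  have : g.wt r < g.wt k := by
    rw [h1]
    nlinarith [show (1 : ℤ) ≤ i from by exact_mod_cast hi, show (1 : ℤ) ≤ j from by exact_mod_cast hj]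
  exact le_trans hrm (g.lt_of_wt_lt hr.1 this).le

lemma Iio_conj {m r s : ℕ} (hm : m ≤ half D) (hr : g.In2 J r) (hs : g.In2 J s) (hrm : r < m)
    (hsn : s < half D) (t u : F) :
    S.y s u * S.y r t * (S.y s u)⁻¹ ∈ S.yGen J (Set.Iio m) := by
  have hn := g.nroots_eq
  by_cases hrs : r = s
  · subst hrs
    rw [show S.y r u * S.y r t * (S.y r u)⁻¹ = S.y r t by
      rw [S.y_inv hs, S.add r ⟨J, hs⟩, S.add r ⟨J, hs⟩, show u + t + -u = t by ring]]
    exact S.y_mem (show r ∈ Set.Iio m from hrm) hr t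
  have hneg : r ≠ D.neg s := by
    intro h
    have := (g.neg_neg_iff hs.1).1 (h ▸ (by omega : r < half D))
    omega
  refine S.conj_mem hr hs hrm hrs hneg (fun k i j hk hi hj hco => ?_) t u
  have h1 := g.wt_lin hco
  have hws := g.wt_neg_of_lt hsn
  have hwr := g.wt_neg_of_lt (show r < half D by omega)
  have : g.wt k < g.wt r := by
    rw [h1]
    nlinarith [show (1 : ℤ) ≤ i from by exact_mod_cast hi, show (1 : ℤ) ≤ j from by exact_mod_cast hj]
  exact lt_trans (g.lt_of_wt_lt hk.1 this) hrm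

theorem inj_pos {z : Γ} (hz : z ∈ S.yGen J (Set.Ici (half D))) (h1 : S.θ z = 1) : z = 1 := by
  suffices ∀ k m, D.nroots - m = k → half D ≤ m → ∀ z ∈ S.yGen J (Set.Ici m), S.θ z = 1 → z = 1 from
    this _ _ rfl le_rfl z hz h1
  intro k
  induction k with
  | zero =>
    intro m hk _ z hz _
    exact (Subgroup.mem_bot (G := Γ)).1
      ((S.yGen_le (K := ⊥) fun r hr hr' t => absurd (show m ≤ r from hr) (by
        have := hr'.1; omega)) hz)
  | succ k ih =>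
    intro m hk hm z hz h
    by_cases hm' : g.In2 J m
    · exact S.inj_step (B := Set.Ici (m + 1)) hm'
        (fun r hr _ => (eq_or_lt_of_le (show m ≤ r from hr)).imp Eq.symm fun h => h)
        (fun r hr hr' t u => S.Ici_conj (by omega) hr' hm' hr hm t u)
        (fun a ha => g.xG_eq_zero_of_mem_Ici hm hm'.1 ha) (ih (m + 1) (by omega) (by omega)) hz h
    · refine ih (m + 1) (by omega) (by omega) z ?_ h
      exact S.yGen_mono (fun r hr hr' => lt_of_le_of_ne (show m ≤ r from hr)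
        (fun e => hm' (by subst e; exact hr'))) hz

theorem inj_neg {z : Γ} (hz : z ∈ S.yGen J (Set.Iio (half D))) (h1 : S.θ z = 1) : z = 1 := by
  suffices ∀ m, m ≤ half D → ∀ z ∈ S.yGen J (Set.Iio m), S.θ z = 1 → z = 1 from
    this _ le_rfl z hz h1
  intro m
  induction m with
  | zero =>
    intro _ z hz _
    exact (Subgroup.mem_bot (G := Γ)).1
      ((S.yGen_le (K := ⊥) fun r hr hr' t => absurd (show r < 0 from hr) (by omega)) hz)
  | succ m ih =>
    intro hm z hz h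
    by_cases hm' : g.In2 J m
    · exact S.inj_step (B := Set.Iio m) hm'
        (fun r hr _ => (eq_or_lt_of_le (Nat.lt_succ_iff.1 hr)))
        (fun r hr hr' t u => S.Iio_conj (by omega) hr' hm' hr (by omega) t u)
        (fun a ha => g.xG_eq_zero_of_mem_Iio (by omega) ha) (ih (by omega)) hz h
    · refine ih (by omega) z ?_ h
      exact S.yGen_mono (fun r hr hr' => lt_of_le_of_ne (Nat.lt_succ_iff.1 hr)
        (fun e => hm' (by subst e; exact hr'))) hz

lemma eq_of_θ {A : Set ℕ} (hinj : ∀ z ∈ S.yGen J A, S.θ z = 1 → z = 1) {a b : Γ}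
    (ha : a ∈ S.yGen J A) (hb : b ∈ S.yGen J A) (h : S.θ a = S.θ b) : a = b := by
  have := hinj _ (mul_mem (inv_mem hb) ha) (by rw [map_mul, map_inv, h, inv_mul_cancel])
  exact (inv_mul_eq_one.1 this).symm

/-! ### The elements `n` and `h` -/

/-- `n_r(t)`. -/
def nY (r : ℕ) (t : Fˣ) : Γ :=
  S.y r (t : F) * S.y (D.neg r) (-((t⁻¹ : Fˣ) : F)) * S.y r (t : F)

/-- `h_r(t)`. -/
def hY (r : ℕ) (t : Fˣ) : Γ := S.nY r t * S.nY r (-1)

lemma θ_nY {r : ℕ} (hr : g.In2 J r) (t : Fˣ) : S.θ (S.nY r t) = g.nG r t := by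
  rw [nY, map_mul, map_mul, S.θy r ⟨J, hr⟩, S.θy _ ⟨J, g.in2_neg hr⟩]
  rfl

lemma nY_inv {r : ℕ} (hr : g.In2 J r) (t : Fˣ) : (S.nY r t)⁻¹ = S.nY r (-t) := by
  simp only [nY, _root_.mul_inv_rev, S.y_inv hr, S.y_inv (g.in2_neg hr), _root_.neg_neg, inv_neg,
    Units.val_neg, mul_assoc]

lemma nY_eq {r : ℕ} (hr : g.In2 J r) (t : Fˣ) : S.nY r t = S.hY r t * S.nY r 1 := by
  rw [hY, ← S.nY_inv hr, inv_mul_cancel_right]

lemma θ_hY {r : ℕ} (hr : g.In2 J r) (t : Fˣ) : S.θ (S.hY r t) = g.hG r t := by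
  rw [hY, map_mul, S.θ_nY hr, S.θ_nY hr, g.hG_eq hr.1]

lemma nY_conj_lift (i : Fin D.rank) (hiJ : i = J.1 ∨ i = J.2) (t : Fˣ) (s : Fin D.nroots)
    (hs : g.In2 J s) {A : Set ℕ}
    (hA : ∀ u, S.nY (D.simple i) t * S.y s u * (S.nY (D.simple i) t)⁻¹ ∈ S.yGen J A)
    (hi : (g.rperm i s : ℕ) ∈ A) (hinj : ∀ z ∈ S.yGen J A, S.θ z = 1 → z = 1) :
    ∃ c : Fˣ, ∀ u, S.nY (D.simple i) t * S.y s u * (S.nY (D.simple i) t)⁻¹ =
      S.y (g.rperm i s) ((c : F) * u) := by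
  obtain ⟨c, hc⟩ := StData.acts_nG (g := g) (F := F) i t s
  have hs' := g.in2_rperm hiJ hs
  refine ⟨c, fun u => S.eq_of_θ hinj (hA u) (S.y_mem hi hs' _) ?_⟩
  rw [map_mul, map_mul, map_inv, S.θ_nY (g.in2_simple hiJ), S.θy _ ⟨J, hs⟩, S.θy _ ⟨J, hs'⟩]
  exact hc u

lemma pm_mem (i : Fin D.rank) (hiJ : i = J.1 ∨ i = J.2) {s : ℕ}
    (hs : s = D.simple i ∨ s = D.neg (D.simple i)) : g.In2 J s := by
  rcases hs with rfl | rfl
  exacts [g.in2_simple hiJ, g.in2_neg (g.in2_simple hiJ)]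

lemma pm_conj_posExcept (i : Fin D.rank) (hiJ : i = J.1 ∨ i = J.2) {r s : ℕ} (hr : g.In2 J r)
    (hA : r ∈ g.posExcept i)
    (hs : s = D.simple i ∨ s = D.neg (D.simple i)) (t u : F) :
    S.y s u * S.y r t * (S.y s u)⁻¹ ∈ S.yGen J (g.posExcept i) := by
  obtain ⟨hrp, hrne⟩ := hA
  have hp := g.simple_lt i.2
  have hs' := pm_mem (g := g) i hiJ hs
  have hrn : r ≠ D.neg (D.simple i) := by
    have := (g.neg_neg_iff hp).2 (g.simple_pos i.2); omega
  obtain ⟨q, hq, hqi, hqp⟩ := g.exists_other i.2 hr.1 hrp hrne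
  have hcs : g.co s q = 0 := by
    rcases hs with rfl | rfl
    · rw [g.co_simple i.2 hq, if_neg (Ne.symm hqi)]
    · rw [g.co_neg hp hq, g.co_simple i.2 hq, if_neg (Ne.symm hqi), neg_zero]
  refine S.conj_mem hr hs' (show r ∈ g.posExcept i from ⟨hrp, hrne⟩) ?_ ?_
    (fun k a b hk _ hb hco => ?_) t u
  · rcases hs with rfl | rfl
    exacts [hrne, hrn]
  · rcases hs with rfl | rfl
    · exact hrn
    · rw [g.neg_neg hp]; exact hrne
  · have hkq : 0 < g.co k q := by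
      rw [hco q hq, hcs, mul_zero, zero_add]
      exact mul_pos (by exact_mod_cast hb) hqp
    refine ⟨g.pos_of_co_pos hk.1 hq hkq, ?_⟩
    rintro rfl
    rw [g.co_simple i.2 hq, if_neg (Ne.symm hqi)] at hkq
    exact lt_irrefl _ hkq

lemma pm_conj_negExcept (i : Fin D.rank) (hiJ : i = J.1 ∨ i = J.2) {r s : ℕ} (hr : g.In2 J r)
    (hA : r ∈ StData.negExcept i g)
    (hs : s = D.simple i ∨ s = D.neg (D.simple i)) (t u : F) :
    S.y s u * S.y r t * (S.y s u)⁻¹ ∈ S.yGen J (StData.negExcept i g) := by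
  obtain ⟨hrn, hrp, hrne⟩ := hA
  have hp := g.simple_lt i.2
  have hs' := pm_mem (g := g) i hiJ hs
  have hnr := g.neg_lt hr.1
  obtain ⟨q, hq, hqi, hqp⟩ := g.exists_other i.2 hnr hrp hrne
  rw [g.co_neg hr.1 hq] at hqp
  have hcs : g.co s q = 0 := by
    rcases hs with rfl | rfl
    · rw [g.co_simple i.2 hq, if_neg (Ne.symm hqi)]
    · rw [g.co_neg hp hq, g.co_simple i.2 hq, if_neg (Ne.symm hqi), neg_zero]
  have h1 : r ≠ D.simple i := by have := g.simple_pos i.2; omega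
  have h2 : r ≠ D.neg (D.simple i) := fun e => hrne (by rw [e, g.neg_neg hp])
  refine S.conj_mem hr hs' (show r ∈ StData.negExcept i g from ⟨hrn, hrp, hrne⟩) ?_ ?_
    (fun k a b hk _ hb hco => ?_) t u
  · rcases hs with rfl | rfl
    exacts [h1, h2]
  · rcases hs with rfl | rfl
    · exact h2
    · rw [g.neg_neg hp]; exact h1
  · have hkq : 0 < g.co (D.neg k) q := by
      rw [g.co_neg hk.1 hq, hco q hq, hcs, mul_zero, zero_add, ← mul_neg]
      exact mul_pos (by exact_mod_cast hb) hqp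
    have hp' := g.pos_of_co_pos (g.neg_lt hk.1) hq hkq
    refine ⟨?_, hp', ?_⟩
    · have := (g.neg_neg_iff (g.neg_lt hk.1)).2 hp'
      rwa [g.neg_neg hk.1] at this
    · intro e
      rw [e, g.co_simple i.2 hq, if_neg (Ne.symm hqi)] at hkq
      exact lt_irrefl _ hkq

lemma nY_conj_of {A : Set ℕ} (i : Fin D.rank)
    (hA : ∀ r ∈ A, g.In2 J r → ∀ s, (s = D.simple i ∨ s = D.neg (D.simple i)) → ∀ t u,
      S.y s u * S.y r t * (S.y s u)⁻¹ ∈ S.yGen J A) (t : Fˣ) {z : Γ} (hz : z ∈ S.yGen J A) :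
    S.nY (D.simple i) t * z * (S.nY (D.simple i) t)⁻¹ ∈ S.yGen J A := by
  have h1 : ∀ (u : F) (z : Γ), z ∈ S.yGen J A →
      S.y (D.simple i) u * z * (S.y (D.simple i) u)⁻¹ ∈ S.yGen J A :=
    fun u z hz => S.conj_gen (fun r hr hr' t => hA r hr hr' _ (Or.inl rfl) t u) hz
  have h2 : ∀ (u : F) (z : Γ), z ∈ S.yGen J A →
      S.y (D.neg (D.simple i)) u * z * (S.y (D.neg (D.simple i)) u)⁻¹ ∈ S.yGen J A :=
    fun u z hz => S.conj_gen (fun r hr hr' t => hA r hr hr' _ (Or.inr rfl) t u) hz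
  have := h1 (t : F) _ (h2 (-((t⁻¹ : Fˣ) : F)) _ (h1 (t : F) z hz))
  simpa [nY, mul_assoc] using this

lemma conj_off (i : Fin D.rank) (hiJ : i = J.1 ∨ i = J.2) (t : Fˣ) (s : Fin D.nroots)
    (hsJ : g.In2 J s) (h1 : s ≠ g.sroot i) (h2 : s ≠ g.nroot (g.sroot i)) :
    ∃ c : Fˣ, ∀ u, S.nY (D.simple i) t * S.y s u * (S.nY (D.simple i) t)⁻¹ =
      S.y (g.rperm i s) ((c : F) * u) := by
  by_cases hp : half D ≤ (s : ℕ)
  · have hs : (s : ℕ) ∈ g.posExcept i := ⟨hp, fun h => h1 (Fin.ext h)⟩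
    exact S.nY_conj_lift i hiJ t s hsJ
      (fun u => S.nY_conj_of i (fun r hr hr' s' hs' t u => S.pm_conj_posExcept i hiJ hr' hr hs' t u) t
        (S.y_mem hs hsJ u))
      (StData.rperm_posExcept i hs) fun z hz h => S.inj_pos (S.yGen_mono (fun r hr _ => hr.1) hz) h
  · have hs : (s : ℕ) ∈ StData.negExcept i g := by
      refine ⟨by omega, (g.nroot_pos_iff s).2 (by omega), fun h => h2 ?_⟩
      rw [← g.nroot_nroot s]
      exact congrArg g.nroot (Fin.ext h)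
    have hs' : (g.rperm i s : ℕ) ∈ StData.negExcept i g := by
      have h := StData.rperm_posExcept i (s := g.nroot s) hs.2
      rw [g.rperm_nroot] at h
      exact ⟨(g.nroot_pos_iff (g.rperm i s)).1 h.1, h⟩
    exact S.nY_conj_lift i hiJ t s hsJ
      (fun u => S.nY_conj_of i (fun r hr hr' s' hs' t u => S.pm_conj_negExcept i hiJ hr' hr hs' t u) t
        (S.y_mem hs hsJ u))
      hs' fun z hz h => S.inj_neg (S.yGen_mono (fun r hr _ => hr.1) hz) h

lemma conj_simple (hlink : g.Linked) (i : Fin D.rank) (t : Fˣ) :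
    ∃ c : Fˣ, ∀ u, S.nY (D.simple i) t * S.y (D.simple i) u * (S.nY (D.simple i) t)⁻¹ =
      S.y (D.neg (D.simple i)) ((c : F) * u) := by
  obtain ⟨j, hij, hA⟩ := hlink i
  have hp := g.simple_lt i.2
  have hi0 : i ≠ j := hij
  have hiJ : i = (i, j).1 ∨ i = (i, j).2 := Or.inl rfl
  have hjJ : j = (i, j).1 ∨ j = (i, j).2 := Or.inr rfl
  have hpJ : g.In2 (i, j) (g.sroot i) := g.in2_simple hiJ
  have hjpJ : g.In2 (i, j) (g.sroot j) := g.in2_simple hjJ
  have hij' : g.sroot i ≠ g.sroot j := fun h => hij (g.sroot_injective h)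
  set p' := g.rperm j (g.sroot i) with hp'
  have hp'pos : half D ≤ (p' : ℕ) := g.rperm_pos j (g.sroot_pos i) hij'
  have hp'i : p' ≠ g.sroot i := by
    intro h
    have hco := g.co_refl j.2 hp (j := (j : ℕ)) j.2
    have h' : D.reflectRoot j (D.simple i) = D.simple i := congrArg Fin.val h
    rw [h', if_pos rfl] at hco
    omega
  have hp'j : p' ≠ g.sroot j := by
    intro h
    have h' := congrArg (g.rperm j) h
    rw [hp', g.rperm_rperm, g.rperm_sroot] at h'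
    have := g.sroot_pos i
    have := g.nroot_sroot_neg j
    rw [h'] at *
    omega
  have hp'nj : p' ≠ g.nroot (g.sroot j) := by
    intro h; have := g.nroot_sroot_neg j; rw [← h] at this; omega
  have hp'ni : p' ≠ g.nroot (g.sroot i) := by
    intro h; have := g.nroot_sroot_neg i; rw [← h] at this; omega
  have hp'J : g.In2 (i, j) p' := g.in2_rperm hjJ hpJ
  obtain ⟨c1, hc1⟩ := S.conj_off j hjJ 1 p' hp'J hp'j hp'nj
  rw [show g.rperm j p' = g.sroot i from g.rperm_rperm j _] at hc1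
  set q := g.rperm i (g.sroot j) with hq
  have hqJ : g.In2 (i, j) q := g.in2_rperm hiJ hjpJ
  set s' := g.rperm i p' with hs'
  have hs'J : g.In2 (i, j) s' := g.in2_rperm hiJ hp'J
  have hji : g.sroot j ≠ g.sroot i := hij'.symm
  have hjni : g.sroot j ≠ g.nroot (g.sroot i) := by
    intro h; have := g.nroot_sroot_neg i; have := g.sroot_pos j; rw [h] at this; omega
  obtain ⟨cj, hcj⟩ := S.conj_off i hiJ t (g.sroot j) hjpJ hji hjni
  obtain ⟨cn, hcn⟩ := S.conj_off i hiJ t (g.nroot (g.sroot j)) (g.in2_neg hjpJ)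
    (fun h => by have := g.nroot_sroot_neg j; have := g.sroot_pos i; rw [← h] at this; omega)
    (fun h => hji (by rw [← g.nroot_nroot (g.sroot j), h, g.nroot_nroot]))
  rw [g.rperm_nroot] at hcn
  obtain ⟨cp, hcp⟩ := S.conj_off i hiJ t p' hp'J hp'i hp'ni
  -- the roots `a q + b s'` with `b` positive
  set T : Set ℕ := {r | ∃ a b : ℤ, 1 ≤ b ∧
    ∀ m < D.rank, g.co r m = a * g.co q m + b * g.co s' m} with hT
  set S' : Set ℕ := {r | r = D.neg (D.simple i) ∨ r ∈ g.posExcept i} with hS'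
  have hrefl : ∀ (r : Fin D.nroots) (a b : ℤ),
      (∀ m < D.rank, g.co r m = a * g.co q m + b * g.co s' m) →
      ∀ m < D.rank, g.co (g.rperm i r) m = a * g.co (g.sroot j) m + b * g.co p' m := by
    intro r a b hr m hm
    have e : ∀ (x : Fin D.nroots), g.co (g.rperm i x) m =
        g.co x m - if (i : ℕ) = m then D.cartan i x else 0 := fun x => g.co_refl i.2 x.2 hm
    have ec : D.cartan i r = a * D.cartan i q + b * D.cartan i s' := by
      rw [g.cartan_eq_sum r.2 i.2, g.cartan_eq_sum q.2 i.2, g.cartan_eq_sum s'.2 i.2,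
        Finset.mul_sum, Finset.mul_sum, ← Finset.sum_add_distrib]
      exact Finset.sum_congr rfl fun k hk => by rw [hr k (Finset.mem_range.1 hk)]; ring
    have e1 : g.rperm i q = g.sroot j := g.rperm_rperm i _
    have e2 : g.rperm i s' = p' := g.rperm_rperm i _
    rw [← e1, ← e2, e r, e q, e s', hr m hm, ec]
    split_ifs <;> ring
  have hTS : ∀ r ∈ T, g.In2 (i, j) r → r ∈ S' := by
    rintro r ⟨a, b, hb, hr⟩ ⟨hr', -⟩
    have hpos : 0 < g.co (g.rperm i ⟨r, hr'⟩ : ℕ) i := by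
      rw [hrefl ⟨r, hr'⟩ a b hr i i.2]
      have h1 : g.co (g.sroot j : ℕ) i = 0 := by
        show g.co (D.simple j) i = 0
        rw [g.co_simple j.2 i.2, if_neg (fun h => hij (Fin.ext h.symm))]
      have h2 : g.co (p' : ℕ) i = 1 := by
        show g.co (D.reflectRoot j (D.simple i)) i = 1
        rw [g.co_refl j.2 hp i.2, g.co_simple i.2 i.2, if_pos rfl,
          if_neg (fun h => hij (Fin.ext h.symm)), sub_zero]
      rw [h1, h2]; omega
    have hP := g.pos_of_co_pos (g.rperm i ⟨r, hr'⟩).2 i.2 hpos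
    by_cases he : g.rperm i ⟨r, hr'⟩ = g.sroot i
    · left
      have h3 := congrArg (g.rperm i) he
      rw [g.rperm_rperm, g.rperm_sroot] at h3
      exact congrArg Fin.val h3
    · right
      have h3 := StData.rperm_posExcept (g := g) i (s := g.rperm i ⟨r, hr'⟩) ⟨hP, fun h => he (Fin.ext h)⟩
      rwa [g.rperm_rperm] at h3
  have hTconj : ∀ r ∈ T, g.In2 (i, j) r → ∀ x : Fin D.nroots, (x = q ∨ x = g.nroot q) → ∀ v u,
      S.y x u * S.y r v * (S.y x u)⁻¹ ∈ S.yGen (i, j) T := by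
    rintro r ⟨a, b, hb, hr⟩ hrJ x hx v u
    have hr' := hrJ.1
    have hxJ : g.In2 (i, j) x := by
      rcases hx with rfl | rfl
      exacts [hqJ, g.in2_neg hqJ]
    have hxr : ∀ m < D.rank, g.co x m = g.co q m ∨ g.co x m = - g.co q m := fun m hm => by
      rcases hx with rfl | rfl
      · exact Or.inl rfl
      · exact Or.inr (g.co_neg q.2 hm)
    obtain ⟨δ, hδ, hδco⟩ : ∃ δ : ℤ, (δ = 1 ∨ δ = -1) ∧ ∀ m < D.rank, g.co x m = δ * g.co q m := by
      rcases hx with rfl | rfl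
      · exact ⟨1, Or.inl rfl, fun m _ => (one_mul _).symm⟩
      · exact ⟨-1, Or.inr rfl, fun m hm => by rw [neg_one_mul]; exact g.co_neg q.2 hm⟩
    have hne : ∀ ε : ℤ, ¬ (∀ m < D.rank, g.co r m = ε * g.co q m) := by
      intro ε h
      have h1 := hrefl ⟨r, hr'⟩ a b hr i i.2
      have h2 := hrefl ⟨r, hr'⟩ ε 0 (fun m hm => by rw [h m hm]; ring) i i.2
      have h3 : g.co (g.sroot j : ℕ) i = 0 := by
        show g.co (D.simple j) i = 0
        rw [g.co_simple j.2 i.2, if_neg (fun h => hij (Fin.ext h.symm))]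
      have h4 : g.co (p' : ℕ) i = 1 := by
        show g.co (D.reflectRoot j (D.simple i)) i = 1
        rw [g.co_refl j.2 hp i.2, g.co_simple i.2 i.2, if_pos rfl,
          if_neg (fun h => hij (Fin.ext h.symm)), sub_zero]
      rw [h2, h3, h4] at h1
      omega
    refine S.conj_mem (A := T) hrJ hxJ ⟨a, b, hb, hr⟩ ?_ ?_ (fun k a' b' hk _ hb' hco => ?_) v u
    · intro h
      exact hne δ fun m hm => by rw [h, hδco m hm]
    · intro h
      exact hne (-δ) fun m hm => by rw [h, g.co_neg x.2 hm, hδco m hm]; ring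
    · refine ⟨(a' : ℤ) * δ + (b' : ℤ) * a, (b' : ℤ) * b,
        one_le_mul_of_one_le_of_one_le (by exact_mod_cast hb') hb, fun m hm => ?_⟩
      rw [hco m hm, hδco m hm, hr m hm]; ring
  have hinj : ∀ z ∈ S.yGen (i, j) S', S.θ z = 1 → z = 1 := fun z hz h =>
    S.inj_step (B := g.posExcept i) (g.in2_neg (g.in2_simple hiJ)) (fun r hr _ => hr)
      (fun r hr hr' v u => S.pm_conj_posExcept i hiJ hr' hr (Or.inr rfl) v u)
      (fun a ha => by
        have h1 : g.xG (D.neg (D.simple i)) a ∈ D.borelSubgroup F ⊓ D.negUnipotent F :=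
          Subgroup.mem_inf.2 ⟨Subgroup.mem_sup_left (g.posExcept_le_pos i ha),
            g.xG_mem_negUnipotent ((g.isNegRoot_iff _).2 ((g.neg_neg_iff hp).2 (g.simple_pos i.2))) a⟩
        rw [g.borel_inf_neg, Subgroup.mem_bot] at h1
        exact (g.x_eq_one_iff (g.neg_lt hp) a).1 (congrArg Units.val h1))
      (fun z hz h => S.inj_pos (S.yGen_mono (fun r hr _ => hr.1) hz) h) hz h
  obtain ⟨c, hc⟩ := StData.acts_nG (g := g) (F := F) i t (g.sroot i)
  rw [g.rperm_sroot] at hc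
  refine ⟨c, fun u => S.eq_of_θ hinj ?_ (S.y_mem (Or.inl rfl) (g.in2_neg (g.in2_simple hiJ)) _) ?_⟩
  · set N := S.nY (D.simple i) t with hN
    have e : S.y (D.simple i) u = S.nY (D.simple j) 1 * S.y p' (((c1⁻¹ : Fˣ) : F) * u) *
        (S.nY (D.simple j) 1)⁻¹ := by
      rw [hc1, ← mul_assoc, Units.mul_inv, one_mul]; rfl
    have eM : N * S.nY (D.simple j) 1 * N⁻¹ =
        S.y q ((cj : F) * 1) * S.y (g.nroot q) ((cn : F) * -1) * S.y q ((cj : F) * 1) := by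
      rw [hN, show S.nY (D.simple j) (1 : Fˣ) = S.y (g.sroot j : ℕ) 1 *
        S.y (g.nroot (g.sroot j) : ℕ) (-1) * S.y (g.sroot j : ℕ) 1 by
          simp only [nY, inv_one, Units.val_one]; rfl]
      rw [← hcj, ← hcn, ← hN]
      group
    rw [e, show N * (S.nY (D.simple j) 1 * S.y p' (((c1⁻¹ : Fˣ) : F) * u) *
      (S.nY (D.simple j) 1)⁻¹) * N⁻¹ = (N * S.nY (D.simple j) 1 * N⁻¹) *
        (N * S.y p' (((c1⁻¹ : Fˣ) : F) * u) * N⁻¹) * (N * S.nY (D.simple j) 1 * N⁻¹)⁻¹ by group,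
      eM, hN, hcp]
    refine S.yGen_mono hTS ?_
    have hA1 : ∀ (v : F) (z : Γ), z ∈ S.yGen (i, j) T → S.y q v * z * (S.y q v)⁻¹ ∈ S.yGen (i, j) T :=
      fun v z hz => S.conj_gen (fun r hr hr' w => hTconj r hr hr' q (Or.inl rfl) w v) hz
    have hA2 : ∀ (v : F) (z : Γ), z ∈ S.yGen (i, j) T →
        S.y (g.nroot q) v * z * (S.y (g.nroot q) v)⁻¹ ∈ S.yGen (i, j) T :=
      fun v z hz => S.conj_gen (fun r hr hr' w => hTconj r hr hr' _ (Or.inr rfl) w v) hz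
    have h0 : S.y (g.rperm i p') ((cp : F) * (((c1⁻¹ : Fˣ) : F) * u)) ∈ S.yGen (i, j) T :=
      S.y_mem (show (s' : ℕ) ∈ T from ⟨0, 1, le_rfl, fun m _ => by rw [zero_mul, zero_add, one_mul]⟩) hs'J _
    have := hA1 ((cj : F) * 1) _ (hA2 ((cn : F) * -1) _ (hA1 ((cj : F) * 1) _ h0))
    simpa [mul_assoc] using this
  · rw [map_mul, map_mul, map_inv, S.θ_nY (g.in2_simple hiJ), S.θy _ ⟨_, g.in2_simple hiJ⟩,
      S.θy _ ⟨_, g.in2_neg (g.in2_simple hiJ)⟩]
    exact hc u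

/-- Conjugation of the root elements by `n_i(t)`, inside a subsystem of rank two. -/
theorem conj_nY (hlink : g.Linked) (i b : Fin D.rank) (t : Fˣ) (s : Fin D.nroots)
    (hs : g.In2 (i, b) s) :
    ∃ c : Fˣ, ∀ u, S.nY (D.simple i) t * S.y s u * (S.nY (D.simple i) t)⁻¹ =
      S.y (g.rperm i s) ((c : F) * u) := by
  by_cases h1 : s = g.sroot i
  · subst h1
    rw [g.rperm_sroot]
    exact S.conj_simple hlink i t
  by_cases h2 : s = g.nroot (g.sroot i)
  · subst h2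
    rw [g.rperm_nroot, g.rperm_sroot, g.nroot_nroot]
    obtain ⟨c, hc⟩ := S.conj_simple hlink i (-t)
    refine ⟨c⁻¹, fun u => ?_⟩
    have h := hc (((c⁻¹ : Fˣ) : F) * u)
    rw [← mul_assoc, Units.mul_inv, one_mul,
      ← S.nY_inv (g.in2_simple (J := (i, b)) (Or.inl rfl)), inv_inv] at h
    show S.nY (D.simple i) t * S.y (D.neg (D.simple i)) u * (S.nY (D.simple i) t)⁻¹ = _
    rw [← h]
    group
    rfl
  exact S.conj_off i (Or.inl rfl) t s hs h1 h2

end CTData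

end CfsgLib.Chev
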