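import Mathlib
import Cfsg.Agent.Lib.Chev.StLocal
import Cfsg.Agent.Lib.Chev.StDescent
import Cfsg.Agent.Lib.Chev.WeylJ

/-!
Weyl words for the Curtis-Tits presentation.
-/

set_option autoImplicit false

namespace CfsgLib.Chev

open Cfsg.Lie

variable {D : ChevalleyDatum} {F : Type*} [Field F]

namespace Good

variable (g : Good D)
include g

lemma in2_iff_suppIn (J : Fin D.rank × Fin D.rank) (a : Fin D.nroots) :
    g.In2 J a ↔ g.SuppIn {(J.1 : ℕ), (J.2 : ℕ)} a := by
  constructor
  · intro h q hq hqJ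
    simp only [Set.mem_insert_iff, Set.mem_singleton_iff, not_or] at hqJ
    exact h.2 q hq hqJ.1 hqJ.2
  · intro h
    exact ⟨a.2, fun q hq h1 h2 => h q hq (by simp [h1, h2])⟩

lemma in2_nroot_iff (J : Fin D.rank × Fin D.rank) (a : Fin D.nroots) :
    g.In2 J (g.nroot a) ↔ g.In2 J a := by
  refine ⟨fun h => ?_, fun h => g.in2_neg h⟩
  have := g.in2_neg h
  rwa [show D.neg (g.nroot a : ℕ) = (a : ℕ) from g.neg_neg a.2] at this

lemma exists_word (r : Fin D.nroots) :
    ∃ (l : List (Fin D.rank)) (q : Fin D.rank), g.wperm l (g.sroot q) = r := by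
  have key : ∃ h : (r : ℕ) < D.nroots, ∃ (l : List (Fin D.rank)) (q : Fin D.rank),
      g.wperm l (g.sroot q) = ⟨r, h⟩ := by
    refine g.root_induction (P := fun r => ∃ h : r < D.nroots, ∃ (l : List (Fin D.rank))
      (q : Fin D.rank), g.wperm l (g.sroot q) = ⟨r, h⟩) ?_ ?_ r.2
    · exact fun i hi => ⟨g.simple_lt hi, [], ⟨i, hi⟩, rfl⟩
    · rintro i hi s hs ⟨_, l, q, he⟩
      exact ⟨g.refl_lt hi hs, ⟨i, hi⟩ :: l, q, by rw [g.wperm_cons, Equiv.Perm.mul_apply, he]; rfl⟩
  obtain ⟨h, l, q, he⟩ := key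
  exact ⟨l, q, he⟩

/-- The positive representative of `± a`. -/
def pRep (a : Fin D.nroots) : Fin D.nroots := if (a : ℕ) < half D then g.nroot a else a

lemma pRep_pos (a : Fin D.nroots) : half D ≤ (g.pRep a : ℕ) := by
  unfold pRep
  split
  · exact (g.nroot_pos_iff a).2 (by assumption)
  · omega

lemma in2_pRep (J : Fin D.rank × Fin D.rank) (a : Fin D.nroots) :
    g.In2 J (g.pRep a) ↔ g.In2 J a := by
  unfold pRep
  split
  · exact g.in2_nroot_iff J a
  · rfl

lemma in2_wperm_pRep (J : Fin D.rank × Fin D.rank) (l : List (Fin D.rank)) (a : Fin D.nroots) :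
    g.In2 J (g.wperm l (g.pRep a)) ↔ g.In2 J (g.wperm l a) := by
  unfold pRep
  split
  · rw [g.wperm_nroot, g.in2_nroot_iff]
  · rfl

lemma applyW_eq {dat : LieData} {sd : StructData} (hl : LieChecks D dat)
    (hs : StructChecks D dat sd) (l : List (Fin D.rank)) (x : Fin D.nroots) :
    applyW sd (l.map Fin.val) x = (g.wperm l x : ℕ) := by
  induction l with
  | nil => rfl
  | cons c l ih =>
    show refl sd c (applyW sd (l.map Fin.val) x) = _
    rw [ih, ← (StructChecks.refl_facts hl hs c.2 (g.wperm l x).2).1, g.wperm_cons]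
    rfl

lemma posRep_eq {dat : LieData} (hl : LieChecks D dat) (a : Fin D.nroots) :
    posRep D a = (g.pRep a : ℕ) := by
  unfold posRep pRep
  by_cases h : (a : ℕ) < half D
  · rw [if_pos h, show Nat.blt (a : ℕ) (half D) = true by simpa using h, cond_true,
      ← neg_eq hl.pack a.2]
    rfl
  · rw [if_neg h, show Nat.blt (a : ℕ) (half D) = false by rw [Bool.eq_false_iff, ne_eq, Nat.blt_eq]; exact h, cond_false]

/-- Two roots can be moved into one subsystem of rank two. -/
theorem exists_pair_local {dat : LieData} {sd : StructData} (hl : LieChecks D dat)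
    (hs : StructChecks D dat sd) (hd : descOK D dat sd = true) (r s : Fin D.nroots) :
    ∃ (l : List (Fin D.rank)) (J : Fin D.rank × Fin D.rank),
      g.In2 J (g.wperm l r) ∧ g.In2 J (g.wperm l s) := by
  have key : ∀ (n : ℕ) (a : Fin D.rank) (x : Fin D.nroots), (x : ℕ) = n → half D ≤ n →
      ∃ (l : List (Fin D.rank)) (J : Fin D.rank × Fin D.rank),
        g.In2 J (g.wperm l (g.sroot a)) ∧ g.In2 J (g.wperm l x) := by
    intro n
    induction n using Nat.strong_induction_on with
    | _ n ih =>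
      intro a x hx hpos
      have h1 := allR_upto (allR_upto hd a.2) x.2
      simp only [Bool.or_eq_true, anyR_eq, List.any_eq_true, Nat.blt_eq] at h1
      rcases h1 with h1 | ⟨b, hb, h2 | h2⟩
      · omega
      · have hb' := lt_of_mem_upto hb
        refine ⟨[], (a, ⟨b, hb'⟩), g.in2_simple (Or.inl rfl), ⟨x.2, fun q hq hqa hqb => ?_⟩⟩
        have h3 := allR_upto h2 hq
        simp only [Bool.or_eq_true, Nat.beq_eq, Int.beq'_eq] at h3
        rcases h3 with (h3 | h3) | h3
        · exact absurd h3 hqa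
        · exact absurd h3 hqb
        · rw [g.wperm_nil, Equiv.Perm.one_apply, ← g.co_eq hl hs x.2 hq]
          exact h3
      · have hb' := lt_of_mem_upto hb
        set bb : Fin D.rank := ⟨b, hb'⟩
        obtain ⟨L, -, hL⟩ : ∃ L : List (Fin D.rank), L.map Fin.val ∈ [[b], [(a : ℕ), b], [b, (a : ℕ), b]] ∧
            ((∃ q ∈ upto D.rank, posRep D (applyW sd (L.map Fin.val) (fsimple dat a)) = fsimple dat q) ∧
              posRep D (applyW sd (L.map Fin.val) x) < x) := by
          simp only [lowersOK, anyR_eq, List.any_eq_true, Bool.and_eq_true, Nat.beq_eq,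
            Nat.blt_eq] at h2
          obtain ⟨l, hlmem, h3⟩ := h2
          simp only [List.mem_cons, List.not_mem_nil, or_false] at hlmem
          rcases hlmem with rfl | rfl | rfl
          exacts [⟨[bb], by simp [bb], h3⟩, ⟨[a, bb], by simp [bb], h3⟩,
            ⟨[bb, a, bb], by simp [bb], h3⟩]
        obtain ⟨⟨q, hq, hqe⟩, hlt⟩ := hL
        have hq' := lt_of_mem_upto hq
        rw [← (hl.simple_facts a.2).1, ← (hl.simple_facts hq').1,
          show applyW sd (L.map Fin.val) (D.simple a) = _ from g.applyW_eq hl hs L (g.sroot a),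
          g.posRep_eq hl] at hqe
        rw [g.applyW_eq hl hs L x, g.posRep_eq hl] at hlt
        obtain ⟨l, J, e1, e2⟩ := ih _ (hx ▸ hlt) ⟨q, hq'⟩ (g.pRep (g.wperm L x)) rfl
          (g.pRep_pos _)
        refine ⟨l ++ L, J, ?_, ?_⟩
        · rw [g.wperm_append, Equiv.Perm.mul_apply, ← g.in2_wperm_pRep,
            show g.pRep (g.wperm L (g.sroot a)) = g.sroot ⟨q, hq'⟩ from Fin.ext hqe]
          exact e1
        · rw [g.wperm_append, Equiv.Perm.mul_apply, ← g.in2_wperm_pRep]
          exact e2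
  obtain ⟨m, q, hm⟩ := g.exists_word r
  obtain ⟨l, J, e1, e2⟩ := key _ q (g.pRep (g.wperm m.reverse s)) rfl (g.pRep_pos _)
  refine ⟨l ++ m.reverse, J, ?_, ?_⟩
  · rw [g.wperm_append, Equiv.Perm.mul_apply, ← hm, g.wperm_reverse, Equiv.Perm.inv_def,
      Equiv.symm_apply_apply]
    exact e1
  · rw [g.wperm_append, Equiv.Perm.mul_apply, ← g.in2_wperm_pRep]
    exact e2

/-- The sign by which a word acts on a pair of opposite roots. -/
lemma wordN_conj_xG (l : List (Fin D.rank)) (s : Fin D.nroots) :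
    ∃ c : Fˣ, c * c = 1 ∧
      (∀ u, g.wordN l * g.xG s u * (g.wordN l)⁻¹ = g.xG (g.wperm l s) ((c : F) * u)) ∧
      ∀ u, g.wordN l * g.xG (g.nroot s) u * (g.wordN l)⁻¹ =
        g.xG (g.nroot (g.wperm l s)) ((c : F) * u) := by
  induction l with
  | nil => exact ⟨1, mul_one 1, fun u => by simp [wordN_nil, g.wperm_nil],
      fun u => by simp [wordN_nil, g.wperm_nil]⟩
  | cons i l ih =>
    obtain ⟨c, hc, h1, h2⟩ := ih
    obtain ⟨e, he, hee⟩ : ∃ e : Fˣ, e * e = 1 ∧ (e : F) = (g.eta i (g.wperm l s) : F) := by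
      rcases g.eta_sign i.2 (g.wperm l s).2 with h | h
      · exact ⟨1, mul_one 1, by rw [h]; simp⟩
      · exact ⟨-1, by simp, by rw [h]; simp⟩
    refine ⟨e * c, by rw [mul_mul_mul_comm, he, hc, one_mul], fun u => ?_, fun u => ?_⟩
    · rw [wordN_cons, show g.nI i * g.wordN l * g.xG s u * (g.nI i * g.wordN l)⁻¹ =
        g.nI i * (g.wordN l * g.xG s u * (g.wordN l)⁻¹) * (g.nI i)⁻¹ by group, h1, nI,
        g.nG_conj_xG i.2 (g.wperm l s).2, ← hee, g.wperm_cons, Equiv.Perm.mul_apply, Units.val_mul,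
        mul_assoc]
      rfl
    · rw [wordN_cons, show g.nI i * g.wordN l * g.xG (g.nroot s) u * (g.nI i * g.wordN l)⁻¹ =
        g.nI i * (g.wordN l * g.xG (g.nroot s) u * (g.wordN l)⁻¹) * (g.nI i)⁻¹ by group, h2, nI,
        g.nG_conj_xG i.2 (g.nroot (g.wperm l s)).2,
        show g.eta i (g.nroot (g.wperm l s) : ℕ) = g.eta i (g.wperm l s) from
          g.eta_neg i.2 (g.wperm l s).2,
        ← hee, g.wperm_cons, Equiv.Perm.mul_apply, Units.val_mul, mul_assoc,
        show D.reflectRoot i (g.nroot (g.wperm l s) : ℕ) = (g.nroot (g.rperm i (g.wperm l s)) : ℕ)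
          from congrArg Fin.val (g.rperm_nroot i (g.wperm l s))]

/-- A word is the product of a word over `J` and a word with positive values on `J`. -/
theorem exists_split (J : Fin D.rank × Fin D.rank) (l : List (Fin D.rank)) :
    ∃ lu m : List (Fin D.rank), (∀ c ∈ lu, c = J.1 ∨ c = J.2) ∧
      g.wperm (lu ++ m) = g.wperm l ∧ lu.length + m.length ≤ l.length ∧
      ∀ c, c = J.1 ∨ c = J.2 → half D ≤ ((g.wperm m).symm (g.sroot c)).val := by
  induction' hn : l.length using Nat.strong_induction_on with n ih generalizing l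
  by_cases h : ∀ c, c = J.1 ∨ c = J.2 → half D ≤ ((g.wperm l).symm (g.sroot c)).val
  · exact ⟨[], l, by simp, rfl, by simp [hn], h⟩
  push Not at h
  obtain ⟨c, hc, hneg⟩ := h
  obtain ⟨j, hj, hroot, he⟩ := g.exists_exchange hneg
  have hlen : (l.take j ++ l.drop (j + 1)).length < n := by
    simp only [List.length_append, List.length_take, List.length_drop]; omega
  obtain ⟨lu, m, h1, h2, h3, h4⟩ := ih _ hlen _ rfl
  refine ⟨c :: lu, m, ?_, ?_, ?_, h4⟩
  · intro d hd
    rcases List.mem_cons.1 hd with rfl | hd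
    exacts [hc, h1 d hd]
  · rw [List.cons_append, g.wperm_cons, h2, ← g.wperm_eraseIdx hj he, ← mul_assoc,
      g.rperm_mul_self, one_mul]
  · rw [List.length_cons]; omega

/-- A root of the subsystem that comes from a fundamental root by a minimal word is fundamental. -/
theorem simple_of_min {J : Fin D.rank × Fin D.rank} {m : List (Fin D.rank)} {q : Fin D.rank}
    (hin : g.In2 J (g.wperm m (g.sroot q)))
    (hmin : ∀ c, c = J.1 ∨ c = J.2 → half D ≤ ((g.wperm m).symm (g.sroot c)).val) :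
    g.wperm m (g.sroot q) = g.sroot J.1 ∨ g.wperm m (g.sroot q) = g.sroot J.2 := by
  set v := g.wperm m (g.sroot q) with hv
  have hminr : ∀ c : Fin D.rank, (c : ℕ) ∈ ({(J.1 : ℕ), (J.2 : ℕ)} : Set ℕ) →
      half D ≤ (g.wperm m.reverse (g.sroot c)).val := fun c hc => by
    rw [g.wperm_reverse, Equiv.Perm.inv_def]
    simp only [Set.mem_insert_iff, Set.mem_singleton_iff] at hc
    exact hmin c (hc.imp Fin.ext Fin.ext)
  have hback : g.wperm m.reverse v = g.sroot q := by
    rw [hv, g.wperm_reverse, Equiv.Perm.inv_def, Equiv.symm_apply_apply]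
  have hpos : half D ≤ (v : ℕ) := by
    by_contra hneg
    have h1 := g.pos_of_simples (a := g.nroot v) m.reverse hminr
      ((g.nroot_pos_iff v).2 (by omega))
      ((g.in2_iff_suppIn J _).1 (g.in2_neg hin))
    rw [g.wperm_nroot, hback] at h1
    have := g.nroot_sroot_neg q
    omega
  by_contra hne
  push Not at hne
  obtain ⟨hne1, hne2⟩ := hne
  obtain ⟨k, hk, hka, hkp⟩ := g.exists_other J.1.2 v.2 hpos (fun h => hne1 (Fin.ext h))
  obtain ⟨k', hk', hkb, hkp'⟩ := g.exists_other J.2.2 v.2 hpos (fun h => hne2 (Fin.ext h))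
  have hkJ : k = J.2 := by
    by_contra h; exact hkp.ne' (hin.2 k hk hka h)
  have hkJ' : k' = J.1 := by
    by_contra h; exact hkp'.ne' (hin.2 k' hk' h hkb)
  subst hkJ hkJ'
  have hJne : J.1 ≠ J.2 := fun h => hka (congrArg Fin.val h.symm)
  have e : ∀ j < D.rank, g.co (g.sroot q) j =
      g.co v J.1 * g.co (g.wperm m.reverse (g.sroot J.1)) j +
        g.co v J.2 * g.co (g.wperm m.reverse (g.sroot J.2)) j := by
    intro j hj
    rw [← hback, g.co_wperm m.reverse v hj,
      Fintype.sum_eq_add J.1 J.2 hJne fun x hx => ?_]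
    rw [hin.2 x x.2 (fun h => hx.1 (Fin.ext h)) (fun h => hx.2 (Fin.ext h)), zero_mul]
  have hgt : ∀ c, c = J.1 ∨ c = J.2 → 1 ≤ g.co (g.wperm m.reverse (g.sroot c)) q := by
    intro c hc
    set x := g.wperm m.reverse (g.sroot c) with hx
    have hxp : half D ≤ (x : ℕ) := hminr c (hc.elim (fun h => by simp [h]) fun h => by simp [h])
    by_contra hlt
    have h5 := g.wt_pos hxp x.2
    rw [g.wt_eq, Finset.sum_eq_zero fun j hj => ?_] at h5
    · exact lt_irrefl _ h5
    have hj' := Finset.mem_range.1 hj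
    suffices g.co x j = 0 by rw [this, zero_mul]
    refine le_antisymm ?_ (g.co_nonneg x.2 hxp hj')
    by_cases hjq : (q : ℕ) = j
    · subst hjq; omega
    · have h6 := e j hj'
      rw [show g.co (g.sroot q : ℕ) j = g.co (D.simple q) j from rfl, g.co_simple q.2 hj',
        if_neg hjq] at h6
      have n1 := g.co_nonneg (g.wperm m.reverse (g.sroot J.1)).2 (hminr J.1 (by simp)) hj'
      have n2 := g.co_nonneg (g.wperm m.reverse (g.sroot J.2)).2 (hminr J.2 (by simp)) hj'
      rcases hc with rfl | rfl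
      · nlinarith [mul_nonneg hkp.le n2]
      · nlinarith [mul_nonneg hkp'.le n1]
  have h7 := e q q.2
  rw [show g.co (g.sroot q : ℕ) q = g.co (D.simple q) q from rfl, g.co_simple q.2 q.2,
    if_pos rfl] at h7
  have := hgt J.1 (Or.inl rfl)
  have := hgt J.2 (Or.inr rfl)
  nlinarith

end Good

end CfsgLib.Chev
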