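import Mathlib
import Cfsg.Agent.Lib.Chev.StInst

/-!
Groups with Steinberg's relations (R1), (R2) are perfect.
-/

set_option autoImplicit false
set_option maxRecDepth 100000

namespace CfsgLib.Chev

open Cfsg.Lie

variable {D : ChevalleyDatum} {F : Type*} [Field F]

namespace StData

variable {g : Good D} {Γ : Type*} [Group Γ] (S : StData g F Γ)

/-- Perfectness reduces to the simple root subgroups. -/
theorem perfect_of_simple (hlink : g.Linked)
    (h : ∀ i < D.rank, ∀ t : F, S.y (D.simple i) t ∈ commutator Γ) : commutator Γ = ⊤ := by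
  rw [eq_top_iff, ← S.gen, Subgroup.closure_le]
  rintro _ ⟨r, hr, t, rfl⟩
  have key : r < D.nroots ∧ ∀ t, S.y r t ∈ commutator Γ := by
    refine g.root_induction (P := fun r => r < D.nroots ∧ ∀ t, S.y r t ∈ commutator Γ)
      (fun i hi => ⟨g.simple_lt hi, h i hi⟩) (fun i hi s hs hP => ⟨g.refl_lt hi hs, fun t => ?_⟩) hr
    obtain ⟨c, hc⟩ := S.conj_nY hlink ⟨i, hi⟩ 1 ⟨s, hs⟩
    have h1 := hc (((c⁻¹ : Fˣ) : F) * t)
    rw [← mul_assoc, Units.mul_inv, one_mul] at h1
    show S.y (g.rperm ⟨i, hi⟩ ⟨s, hs⟩ : Fin D.nroots) t ∈ commutator Γ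
    rw [← h1]
    exact (inferInstance : (commutator Γ).Normal).conj_mem _ (hP.2 _) _
  exact key.2 t

/-- One commutator term. -/
theorem mem_commutator_of_comm {p r s b : ℕ} {C : ℤ} (hr : r < D.nroots)
    (hs : s < D.nroots) (hrs : s ≠ r) (hneg : s ≠ D.neg r) (he : fterms D r s = [(p, C, 1, b)])
    (hC : (C : F) ≠ 0) (t : F) : S.y p t ∈ commutator Γ := by
  have h1 := S.comm r s hr hs hrs hneg (-(t / (C : F))) (1 : F)
  simp only [ChevalleyDatum.commWord, ← g.fterms_eq hr hs, he, List.map_cons,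
    List.map_nil, List.prod_cons, List.prod_nil, mul_one, one_pow, pow_one, _root_.neg_neg] at h1
  rw [show (C : F) * (t / (C : F)) = t by field_simp] at h1
  rw [← h1, commutator_def]
  have := Subgroup.commutator_mem_commutator (H₁ := (⊤ : Subgroup Γ)) (H₂ := ⊤)
    (Subgroup.mem_top (S.y s 1)⁻¹) (Subgroup.mem_top (S.y r (-(t / (C : F))))⁻¹)
  simpa [commutatorElement_def, mul_assoc] using this

/-- From a witness of the table. -/
theorem mem_commutator_of_wit {p : ℕ} {w : ℕ × ℕ} (h : perfWit D p w = true) (t : F) :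
    S.y p t ∈ commutator Γ := by
  simp only [perfWit, Bool.and_eq_true, Nat.blt_eq, Bool.not_eq_true', ← Bool.not_eq_true,
    Nat.beq_eq] at h
  obtain ⟨⟨⟨⟨hr, hs⟩, hrs⟩, hneg⟩, hl⟩ := h
  rw [← neg_eq g.lie.pack hr] at hneg
  match hm : fterms D w.1 w.2, hl with
  | [(p', C, a, b)], hl =>
    simp only [List.length_nil, Bool.and_eq_true, Bool.or_eq_true, Nat.beq_eq, Int.beq'_eq] at hl
    obtain ⟨⟨⟨-, rfl⟩, rfl⟩, hC⟩ := hl
    refine S.mem_commutator_of_comm hr hs hrs hneg hm ?_ t
    rcases hC with rfl | rfl <;> simp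

/-- A torus element moving the root. -/
theorem mem_commutator_of_torus (hlink : g.Linked) {p : ℕ} (hp : p < D.nroots) (k : Fin D.rank)
    (a : Fˣ) (ha : ((a ^ pair D (D.simple k) p : Fˣ) : F) ≠ 1) (t : F) :
    S.y p t ∈ commutator Γ := by
  obtain ⟨c, hc⟩ := S.HY_scale hlink (S.hY_mem k a) ⟨p, hp⟩
  have hθ := congrArg S.θ (hc 1)
  rw [map_mul, map_mul, map_inv, S.θ_hY (g.simple_lt k.2), S.θy _ hp, S.θy _ hp, g.hG_conj_xG hp,
    mul_one, mul_one] at hθ
  rw [g.x_inj hp hθ] at ha
  have hz : (c : F) - 1 ≠ 0 := sub_ne_zero.2 ha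
  have h1 := hc (t / ((c : F) - 1))
  have e : S.y p t = S.hY (D.simple k) a * S.y p (t / ((c : F) - 1)) * (S.hY (D.simple k) a)⁻¹ *
      (S.y p (t / ((c : F) - 1)))⁻¹ := by
    rw [h1, S.y_inv hp, S.add p hp]
    congr 1
    field_simp
    ring
  rw [e, commutator_def, ← commutatorElement_def]
  exact Subgroup.commutator_mem_commutator (Subgroup.mem_top _) (Subgroup.mem_top _)

include S in
theorem perfect_of_wits {dat : LieData} (hlink : g.Linked) (hl : LieChecks D dat)
    (ws : List (ℕ × ℕ))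
    (h : allR (fun i => perfWit D (fsimple dat i) (nth (0, 0) ws i)) (upto D.rank) = true) :
    commutator Γ = ⊤ :=
  S.perfect_of_simple hlink fun _ hi =>
    S.mem_commutator_of_wit ((hl.simple_facts hi).1 ▸ allR_upto h hi)

end StData

theorem stPerfectG2 {g : Good chevG2} {Γ : Type*} [Group Γ] (S : StData g F Γ) (hlink : g.Linked)
    (hF : ∃ a : F, a ≠ 0 ∧ a ≠ 1) : commutator Γ = ⊤ := by
  obtain ⟨a, h0, h1⟩ := hF
  refine S.perfect_of_simple hlink fun i hi t => ?_
  have hr : chevG2.rank = 2 := rfl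
  obtain rfl | rfl : i = 0 ∨ i = 1 := by omega
  · refine S.mem_commutator_of_torus hlink (g.simple_lt hi) ⟨1, by omega⟩ (Units.mk0 a h0) ?_ t
    rw [pair_cartan g checksG2 hi (show 1 < chevG2.rank by omega) (v := -1) (by decide +kernel)]
    exact inv_ne_one h0 h1
  · exact S.mem_commutator_of_wit (w := (1, 11))
      ((checksG2.simple_facts hi).1 ▸ by decide +kernel) t

theorem stPerfectB2 {g : Good chevB2} {Γ : Type*} [Group Γ] (S : StData g F Γ) (hlink : g.Linked)
    (hF : ∃ a : F, a ≠ 0 ∧ a ≠ 1) : commutator Γ = ⊤ := by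
  obtain ⟨a, h0, h1⟩ := hF
  refine S.perfect_of_simple hlink fun i hi t => ?_
  have hr : chevB2.rank = 2 := rfl
  obtain rfl | rfl : i = 0 ∨ i = 1 := by omega
  · refine S.mem_commutator_of_torus hlink (g.simple_lt hi) ⟨1, by omega⟩ (Units.mk0 a h0) ?_ t
    rw [pair_cartan g checksB2 hi (show 1 < chevB2.rank by omega) (v := -1) (by decide +kernel)]
    exact inv_ne_one h0 h1
  · by_cases h2 : (2 : F) = 0
    · refine S.mem_commutator_of_torus hlink (g.simple_lt hi) ⟨0, by omega⟩ (Units.mk0 a h0) ?_ t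
      rw [pair_cartan g checksB2 hi (show 0 < chevB2.rank by omega) (v := -2) (by decide +kernel)]
      simp only [_root_.zpow_neg, Units.val_inv_eq_inv_val, ne_eq, inv_eq_one]
      intro hsq
      have hsq' : a ^ 2 = 1 := by simpa [zpow_ofNat] using hsq
      have : (a - 1) ^ 2 = 0 := by linear_combination hsq' + (1 - a) * h2
      exact h1 (sub_eq_zero.1 (pow_eq_zero_iff (two_ne_zero) |>.1 this))
    · refine S.mem_commutator_of_comm (r := 2) (s := 6) (b := 1)
        (C := -2) (by decide +kernel) (by decide +kernel) (by decide) ?_ ?_ (by simpa using h2) t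
      · rw [neg_eq g.lie.pack (by decide +kernel)]; decide +kernel
      · rw [(checksB2.simple_facts hi).1]; decide +kernel

theorem stPerfect_of_mem {Γ : Type*} [Group Γ] {g : Good D} (S : StData g F Γ)
    (hD : D ∈ [chevG2, chevB2, chevD4, chevF4, chevE6, chevE7, chevE8])
    (h2 : D = chevG2 ∨ D = chevB2 → ∃ a : F, a ≠ 0 ∧ a ≠ 1) : commutator Γ = ⊤ := by
  have hlink := linked_of_mem hD g
  simp only [List.mem_cons, List.not_mem_nil, or_false] at hD
  rcases hD with rfl | rfl | rfl | rfl | rfl | rfl | rfl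
  · exact stPerfectG2 S hlink (h2 (Or.inl rfl))
  · exact stPerfectB2 S hlink (h2 (Or.inr rfl))
  · exact S.perfect_of_wits hlink checksD4 [(9, 19), (5, 19), (9, 16), (9, 15)] (by decide +kernel)
  · exact S.perfect_of_wits hlink checksF4 [(20, 34), (14, 34), (23, 26), (22, 26)]
      (by decide +kernel)
  · exact S.perfect_of_wits hlink checksE6
      [(29, 57), (32, 47), (15, 57), (25, 47), (32, 40), (34, 38)] (by decide +kernel)
  · exact S.perfect_of_wits hlink checksE7
      [(52, 94), (56, 79), (32, 94), (47, 79), (56, 70), (59, 67), (61, 65)] (by decide +kernel)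
  · exact S.perfect_of_wits hlink checksE8
      [(104, 163), (109, 142), (77, 163), (98, 142), (109, 131), (113, 127), (116, 124), (118, 122)]
      (by decide +kernel)

end CfsgLib.Chev
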