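import Mathlib
import Cfsg.Agent.Lib.Chev.FrobMap

/-!
A finite field extension of prime degree: the fixed field of `t ↦ t ^ q`, generation, and the additive form of
Hilbert's theorem 90.
-/

set_option autoImplicit false

namespace CfsgLib.Chev.SubMax

variable {K : Type*} [Field K] [Fintype K]

/-- The data of an extension of prime degree. -/
structure FieldExt (K : Type*) [Field K] [Fintype K] where
  /-- the order of the small field -/
  q : ℕ
  /-- the degree -/
  r : ℕ
  /-- the map `t ↦ t ^ q` -/
  σ : K →+* K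
  hq : 1 < q
  hr : r.Prime
  hK : Fintype.card K = q ^ r
  hσ : ∀ t, σ t = t ^ q

namespace FieldExt

variable (E : FieldExt K)

/-- The fixed field. -/
def F0 : Subfield K := RingHom.eqLocusField E.σ (RingHom.id K)

lemma mem_F0 {t : K} : t ∈ E.F0 ↔ E.σ t = t := Iff.rfl

lemma card_F0 : Nat.card E.F0 = E.q := by
  rw [← card_pow_eq_self E.hq E.hK]
  exact Nat.card_congr (Equiv.subtypeEquivRight fun t => by rw [mem_F0, E.hσ])

lemma finrank_eq : Module.finrank E.F0 K = E.r := by
  have h := Module.natCard_eq_pow_finrank (K := E.F0) (V := K)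
  rw [Nat.card_eq_fintype_card, E.hK, E.card_F0] at h
  exact (Nat.pow_right_injective E.hq h).symm

lemma exists_not_fixed : ∃ t, E.σ t ≠ t := by
  by_contra h
  push Not at h
  have h1 : E.F0 = ⊤ := eq_top_iff.2 fun t _ => h t
  have h2 := E.card_F0
  rw [h1, show Nat.card (⊤ : Subfield K) = Nat.card K from Nat.card_congr Subfield.topEquiv.toEquiv,
    Nat.card_eq_fintype_card, E.hK] at h2
  have h3 : E.q ^ E.r = E.q ^ 1 := by rw [h2, pow_one]
  have := Nat.pow_right_injective E.hq h3
  exact E.hr.one_lt.ne' this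

/-- A set closed under subtraction and multiplication that is larger than the fixed field is everything. -/
theorem eq_univ_of_closed (A : AddSubgroup K) (hF : ∀ t, E.σ t = t → t ∈ A)
    (hmul : ∀ a ∈ A, ∀ b ∈ A, a * b ∈ A) {t : K} (ht : t ∈ A) (ht' : E.σ t ≠ t) (x : K) : x ∈ A := by
  have hdeg : (Module.finrank E.F0 K).Prime := E.finrank_eq ▸ E.hr
  let S : Subalgebra E.F0 K :=
    { carrier := A
      mul_mem' := fun {a b} ha hb => hmul a ha b hb
      one_mem' := hF 1 (map_one _)
      add_mem' := fun {a b} ha hb => A.add_mem ha hb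
      zero_mem' := A.zero_mem
      algebraMap_mem' := fun a => hF _ a.2 }
  rcases (Subalgebra.isSimpleOrder_of_finrank_prime E.F0 K hdeg).eq_bot_or_eq_top S with h | h
  · have h1 : t ∈ S := ht
    rw [h, Algebra.mem_bot] at h1
    obtain ⟨a, ha⟩ := h1
    exact absurd (ha ▸ a.2 : E.σ t = t) ht'
  · show x ∈ S
    rw [h]
    exact Algebra.mem_top

lemma iterate_apply (i : ℕ) (t : K) : (E.σ)^[i] t = t ^ E.q ^ i := by
  induction i with
  | zero => simp
  | succ i ih => rw [Function.iterate_succ_apply', ih, E.hσ, ← pow_mul, pow_succ]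

lemma iterate_r (t : K) : (E.σ)^[E.r] t = t := by
  rw [E.iterate_apply, ← E.hK, FiniteField.pow_card]

/-- Additive Hilbert 90. -/
theorem exists_sub {e : K} (he : ∑ i ∈ Finset.range E.r, (E.σ)^[i] e = 0) :
    ∃ f : K, E.σ f - f = e := by
  classical
  let L : K →+ K := E.σ.toAddMonoidHom - AddMonoidHom.id K
  let S : Finset K := Finset.univ.filter fun t => ∑ i ∈ Finset.range E.r, (E.σ)^[i] t = 0
  have hker : Nat.card L.ker = E.q := by
    rw [← E.card_F0]
    refine Nat.card_congr (Equiv.subtypeEquivRight fun t => ?_)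
    rw [AddMonoidHom.mem_ker, mem_F0]
    simp [L, sub_eq_zero]
  have hrange : Nat.card L.range = E.q ^ (E.r - 1) := by
    have h1 := AddSubgroup.card_eq_card_quotient_mul_card_addSubgroup L.ker
    rw [Nat.card_congr (QuotientAddGroup.quotientKerEquivRange L).toEquiv, hker, Nat.card_eq_fintype_card,
      E.hK] at h1
    have h2 : E.q ^ E.r = E.q ^ (E.r - 1) * E.q := by
      rw [← pow_succ, Nat.sub_add_cancel E.hr.pos]
    rw [h2] at h1
    exact (Nat.eq_of_mul_eq_mul_right (by have := E.hq; omega) h1).symm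
  have hsub : ∀ y ∈ L.range, y ∈ S := by
    rintro _ ⟨f, rfl⟩
    simp only [S, Finset.mem_filter, Finset.mem_univ, true_and]
    have : ∀ i, (E.σ)^[i] (L f) = (E.σ)^[i + 1] f - (E.σ)^[i] f := fun i => by
      simp [L, iterate_map_sub, Function.iterate_succ_apply]
    rw [Finset.sum_congr rfl fun i _ => this i, Finset.sum_range_sub (fun i => (E.σ)^[i] f), E.iterate_r]
    simp
  let P : Polynomial K := ∑ i ∈ Finset.range E.r, Polynomial.X ^ (E.q ^ i)
  have hPdeg : P.natDegree ≤ E.q ^ (E.r - 1) := by
    refine Polynomial.natDegree_sum_le_of_forall_le _ _ fun i hi => ?_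
    rw [Polynomial.natDegree_X_pow]
    exact Nat.pow_le_pow_right (by have := E.hq; omega) (by have := Finset.mem_range.1 hi; omega)
  have hP0 : P ≠ 0 := by
    intro h
    have h1 : P.coeff 1 = 1 := by
      simp only [P, Polynomial.finsetSum_coeff, Polynomial.coeff_X_pow]
      rw [Finset.sum_eq_single 0]
      · simp
      · intro i _ hi0
        rw [if_neg]
        exact (Nat.one_lt_pow hi0 E.hq).ne
      · intro h0
        exact absurd (Finset.mem_range.2 E.hr.pos) h0
    rw [h] at h1
    simp at h1
  have hS : S.card ≤ E.q ^ (E.r - 1) := by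
    refine le_trans (Polynomial.card_le_degree_of_subset_roots (p := P) ?_) hPdeg
    intro t ht
    rw [Finset.mem_val, Finset.mem_filter] at ht
    rw [Polynomial.mem_roots hP0, Polynomial.IsRoot]
    simp only [P, Polynomial.eval_finsetSum, Polynomial.eval_pow, Polynomial.eval_X]
    rw [← ht.2]
    exact Finset.sum_congr rfl fun i _ => (E.iterate_apply i t).symm
  let R : Finset K := Finset.univ.filter fun t => t ∈ L.range
  have hR : R.card = E.q ^ (E.r - 1) := by
    rw [← hrange, Nat.card_eq_fintype_card, ← Fintype.card_subtype]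
  have hRS : R = S := Finset.eq_of_subset_of_card_le (fun t ht => hsub t (by simpa [R] using ht))
    (hS.trans_eq hR.symm)
  have : e ∈ R := hRS ▸ Finset.mem_filter.2 ⟨Finset.mem_univ _, he⟩
  obtain ⟨f, hf⟩ := (Finset.mem_filter.1 this).2
  exact ⟨f, by simpa [L] using hf⟩

end FieldExt

end CfsgLib.Chev.SubMax
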