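import Cfsg.Agent.Lib.Geom.TwoTransvections
import Cfsg.Agent.Lib.Geom.SL2Anti
import Cfsg.Agent.Lib.Chev.SL2Hom
import Cfsg.Agent.Lib.Chev.SubMaxField

/-!
A subgroup of SL₂ with two opposite root groups over a subfield: their product of parameters is in the subfield,
apart from the icosahedral case.
-/

set_option autoImplicit false

namespace CfsgLib.Chev.SubMax

open CfsgLib.Geom

variable {K : Type*} [Field K]

/-- Scaling the off-diagonal entries. -/
def slScale (s : Kˣ) : Matrix.SpecialLinearGroup (Fin 2) K →* Matrix.SpecialLinearGroup (Fin 2) K where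
  toFun A := ⟨!![A.1 0 0, (s : K) * A.1 0 1; ((s⁻¹ : Kˣ) : K) * A.1 1 0, A.1 1 1], by
    have h := A.2
    rw [Matrix.det_fin_two] at h
    rw [Matrix.det_fin_two_of]
    linear_combination h - A.1 0 1 * A.1 1 0 * Units.mul_inv s⟩
  map_one' := Subtype.ext (by simp [Matrix.one_fin_two])
  map_mul' A B := Subtype.ext (by
    show (!![(A.1 * B.1) 0 0, (s : K) * (A.1 * B.1) 0 1; ((s⁻¹ : Kˣ) : K) * (A.1 * B.1) 1 0, (A.1 * B.1) 1 1] :
        Matrix (Fin 2) (Fin 2) K) =
      !![A.1 0 0, (s : K) * A.1 0 1; ((s⁻¹ : Kˣ) : K) * A.1 1 0, A.1 1 1] *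
        !![B.1 0 0, (s : K) * B.1 0 1; ((s⁻¹ : Kˣ) : K) * B.1 1 0, B.1 1 1]
    ext a b
    fin_cases a <;> fin_cases b <;> simp [Matrix.mul_apply, Fin.sum_univ_two] <;> field_simp
    all_goals ring)

lemma slScale_U (s : Kˣ) (t : K) : slScale s (slU t) = slU ((s : K) * t) :=
  Subtype.ext (by
    show (!![_, _; _, _] : Matrix (Fin 2) (Fin 2) K) = _
    simp [slU])

lemma slScale_L (s : Kˣ) (t : K) : slScale s (slL t) = slL (((s⁻¹ : Kˣ) : K) * t) :=
  Subtype.ext (by
    show (!![_, _; _, _] : Matrix (Fin 2) (Fin 2) K) = _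
    simp [slL])

variable [Fintype K]

/-- Two opposite root groups over the subfield, the upper one being all of its root group in the subgroup. -/
theorem sl2_param (E : FieldExt K) (h2 : (2 : K) ≠ 0) (Γ : Subgroup (Matrix.SpecialLinearGroup (Fin 2) K))
    {mu : K} (hmu : mu ≠ 0) (hL : ∀ t, E.σ t = t → slL t ∈ Γ) (hU : ∀ t, E.σ t = t → slU (mu * t) ∈ Γ)
    (hA : ∀ x, slU x ∈ Γ → E.σ (x / mu) = x / mu) : E.σ mu = mu ∨ (E.q = 3 ∧ mu ^ 2 = -1) := by
  classical
  by_contra hcon
  push Not at hcon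
  obtain ⟨hmuσ, hex⟩ := hcon
  obtain ⟨p, hp⟩ := CharP.exists K
  obtain ⟨n, hprime, hq⟩ := FiniteField.card K p
  have := Fact.mk hprime
  have hp2 : p ≠ 2 := fun e => h2 (by
    subst e
    exact_mod_cast CharP.cast_eq_zero K 2)
  set Ex := FiniteField.Extension K p 2
  set f := algebraMap K Ex
  have : CharP Ex p := charP_of_injective_ringHom f.injective p
  let _ : Fintype (Moebius.Line Ex) := Fintype.ofFinite _
  let pr : Matrix.SpecialLinearGroup (Fin 2) K →* Matrix.ProjectiveSpecialLinearGroup (Fin 2) K :=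
    QuotientGroup.mk' (Subgroup.center _)
  set H := Γ.map pr
  set G := H.map (Moebius.pslExt f)
  have : Finite G := Finite.of_equiv _ (H.equivMapOfInjective _ (Moebius.pslExt_injective f)).toEquiv
  have hfix : ∀ g ∈ G, ∃ P : Moebius.Line Ex, g • P = P := by
    rintro _ ⟨x, -, rfl⟩
    exact Moebius.exists_fixed f (Moebius.quadClosed_extension p) _
  have eu : ∀ c : K, slU c = Matrix.SpecialLinearGroup.transvection (show (0 : Fin 2) ≠ 1 by decide) c :=
    fun c => Subtype.ext (by
      ext i j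
      fin_cases i <;> fin_cases j <;> simp [slU, Matrix.SpecialLinearGroup.transvection, Matrix.transvection])
  have el : ∀ c : K, slL c = Matrix.SpecialLinearGroup.transvection (show (1 : Fin 2) ≠ 0 by decide) c :=
    fun c => Subtype.ext (by
      ext i j
      fin_cases i <;> fin_cases j <;> simp [slL, Matrix.SpecialLinearGroup.transvection, Matrix.transvection])
  have eup : ∀ c, Moebius.pslExt f (pr (slU c)) = Moebius.aff 1 (f c) := fun c => by
    show Moebius.extHom f (Matrix.ProjGenLinGroup.mk (Matrix.SpecialLinearGroup.toGL (slU c))) = _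
    rw [eu, Moebius.mk_transvection_zero_one, Moebius.extHom_aff, map_one]
  have elo : ∀ c, Moebius.pslExt f (pr (slL c)) = Moebius.low (f c) := fun c => by
    show Moebius.extHom f (Matrix.ProjGenLinGroup.mk (Matrix.SpecialLinearGroup.toGL (slL c))) = _
    rw [el, Moebius.mk_transvection_one_zero, Moebius.extHom_low]
  have hUp : slU mu ∈ Γ := by simpa using hU 1 (map_one _)
  have hLo : slL (1 : K) ∈ Γ := hL 1 (map_one _)
  have hcenter : ∀ z ∈ Subgroup.center (Matrix.SpecialLinearGroup (Fin 2) K), z = 1 ∨ z = -1 :=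
    fun z hz => (SL2Anti.mem_center_iff_sign h2).1 hz
  have hgt : Moebius.aff 1 (f mu) ∈ G := ⟨_, ⟨_, hUp, rfl⟩, eup mu⟩
  have hg1 : Moebius.low (1 : Ex) ∈ G := ⟨_, ⟨_, hLo, rfl⟩, by rw [elo, map_one]⟩
  rcases Moebius.two_para_cases G p hp2 hfix ((map_ne_zero f).2 hmu) hgt hg1 with
    ⟨u, k, d, h0, h1⟩ | ⟨h60, rfl, ⟨i5⟩⟩
  · -- the orbit is a subline, so the parameters contain one
    obtain ⟨F, hF, -, -, -⟩ := Moebius.exists_subfield (G := G) p d h0 h1
    obtain ⟨x, ⟨z, hz, rfl⟩, hx⟩ : Moebius.aff 1 (1 : Ex) ∈ G := (hF 1).1 F.one_mem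
    rw [← map_one f, ← eup 1] at hx
    have hU1 : slU (1 : K) ∈ Γ := by
      rcases hcenter _ (QuotientGroup.eq.1 (Moebius.pslExt_injective f hx)) with e' | e'
      · rw [show slU (1 : K) = z * (z⁻¹ * slU 1) by group, e', mul_one]
        exact hz
      · have ey : slU (1 : K) = -z := by
          rw [show slU (1 : K) = z * (z⁻¹ * slU 1) by group, e', mul_neg, mul_one]
        have hpow : ∀ m : ℕ, (slU (1 : K)) ^ m = slU (m : K) := by
          intro m
          induction m with
          | zero => rw [pow_zero, Nat.cast_zero]; exact Subtype.ext (by simp [slU, Matrix.one_fin_two])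
          | succ m ih =>
            rw [pow_succ, ih]
            refine Subtype.ext ?_
            rw [Matrix.SpecialLinearGroup.coe_mul]
            simp [slU, Matrix.mul_fin_two, add_comm]
        have hm : (-1 : Matrix.SpecialLinearGroup (Fin 2) K) ∈ Γ := by
          have ezp : z ^ p = -1 := by
            rw [show z = -slU (1 : K) by rw [ey, neg_neg], (hprime.odd_of_ne_two hp2).neg_pow, hpow,
              CharP.cast_eq_zero]
            exact congrArg Neg.neg (Subtype.ext (by simp [slU, Matrix.one_fin_two]))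
          exact ezp ▸ pow_mem hz p
        rw [ey, show -z = -1 * z by rw [neg_one_mul]]
        exact mul_mem hm hz
    have h := hA 1 hU1
    rw [one_div, map_inv₀, inv_inj] at h
    exact hmuσ h
  · -- the icosahedral case
    have h3 : (3 : K) = 0 := by exact_mod_cast CharP.cast_eq_zero K 3
    have ne_prime : mu ^ 3 ≠ mu := by
      intro e
      have h : mu * ((mu - 1) * (mu + 1)) = 0 := by linear_combination e
      rcases mul_eq_zero.1 h with h | h
      · exact hmu h
      rcases mul_eq_zero.1 h with h | h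
      · exact hmuσ (by rw [sub_eq_zero.1 h, map_one])
      · exact hmuσ (by rw [eq_neg_of_add_eq_zero_left h, map_neg, map_one])
    have hord : ∀ y ∈ Γ, ∃ j, (j = 2 ∨ j = 3 ∨ j = 5) ∧ y ^ j ∈ Subgroup.center _ := by
      intro y hy
      have key : ∀ σ : Equiv.Perm (Fin 5), Equiv.Perm.sign σ = 1 → σ ^ 2 = 1 ∨ σ ^ 3 = 1 ∨ σ ^ 5 = 1 := by
        decide +kernel
      set g : G := ⟨_, ⟨_, ⟨y, hy, rfl⟩, rfl⟩⟩ with hg
      have hj : ∀ j, (i5 g).1 ^ j = 1 → y ^ j ∈ Subgroup.center _ := by
        intro j e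
        have e' : g ^ j = 1 := i5.injective (by rw [map_pow, map_one]; exact Subtype.ext e)
        refine (QuotientGroup.eq_one_iff _).1 (Moebius.pslExt_injective f ?_)
        rw [map_one]
        show Moebius.pslExt f (pr (y ^ j)) = 1
        rw [map_pow, map_pow]
        exact congrArg Subtype.val e'
      rcases key _ (Equiv.Perm.mem_alternatingGroup.1 (i5 g).2) with e | e | e
      · exact ⟨2, Or.inl rfl, hj 2 e⟩
      · exact ⟨3, Or.inr (Or.inl rfl), hj 3 e⟩
      · exact ⟨5, Or.inr (Or.inr rfl), hj 5 e⟩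
    have hval : ∀ x : K, slU x ∈ Γ → x ^ 3 ≠ x → (x - 1) ^ 4 = -1 := by
      intro x hx hx3
      obtain ⟨j, hj, hc⟩ := hord _ (mul_mem hx hLo)
      have h10 : (((slU x * slL 1) ^ j : Matrix.SpecialLinearGroup (Fin 2) K) : Matrix (Fin 2) (Fin 2) K) 1 0 = 0 := by
        rcases hcenter _ hc with e | e <;> simp [e]
      rw [Matrix.SpecialLinearGroup.coe_pow, Matrix.SpecialLinearGroup.coe_mul] at h10
      rcases hj with rfl | rfl | rfl <;>
        simp [slU, slL, pow_succ, Matrix.mul_fin_two] at h10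
      · exact absurd (show x ^ 3 = x by linear_combination (x ^ 2 - 2 * x + 3) * h10 - 2 * h3) hx3
      · refine absurd (show x ^ 3 = x by linear_combination (x - 4) * h10 + (4 * x + 4) * h3) hx3
      · linear_combination h10 + (-4 * x ^ 3 - 5 * x ^ 2 - 8 * x - 1) * h3
    have e1 := hval mu hUp ne_prime
    have e2 := hval (-mu) (by simpa using hU (-1) (by rw [map_neg, map_one]))
      (fun e => ne_prime (by linear_combination -e))
    have hl2 : mu ^ 2 = -1 := by
      refine eq_neg_of_add_eq_zero_left ((mul_eq_zero.1 (?_ : mu * (mu ^ 2 + 1) = 0)).resolve_left hmu)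
      linear_combination e1 - e2 + (3 * mu ^ 3 + 3 * mu) * h3
    -- the root group has order three
    refine hex ?_ hl2
    have hd3 : 3 ∣ E.q ^ E.r := by
      rw [← E.hK, hq]
      exact dvd_pow_self 3 n.ne_zero
    obtain ⟨m, hm, hqm⟩ : ∃ m, m ≤ (n : ℕ) ∧ E.q = 3 ^ m :=
      (Nat.dvd_prime_pow hprime).1 (hq ▸ E.hK ▸ dvd_pow_self E.q E.hr.ne_zero)
    let φ : Multiplicative E.F0 →* G :=
      { toFun := fun t => ⟨Moebius.aff 1 (f (mu * (Multiplicative.toAdd t : E.F0))),
          _, ⟨_, hU _ (Multiplicative.toAdd t : E.F0).2, rfl⟩, eup _⟩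
        map_one' := Subtype.ext (by simp [Moebius.aff_one])
        map_mul' := fun s t => Subtype.ext (by
          show Moebius.aff 1 _ = Moebius.aff 1 _ * Moebius.aff 1 _
          rw [Moebius.aff_mul, mul_one, Units.val_one, one_mul, ← map_add, ← mul_add]
          rw [toAdd_mul, Subfield.coe_add, add_comm]) }
    have hφ : Function.Injective φ := by
      intro s t hst
      have := (Moebius.aff_inj (congrArg Subtype.val hst)).2
      exact Multiplicative.toAdd.injective (Subtype.ext (mul_left_cancel₀ hmu (f.injective this)))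
    have hdvd : E.q ∣ 60 := by
      rw [← h60, ← E.card_F0, show Nat.card E.F0 = Nat.card (Multiplicative E.F0) from
        Nat.card_congr Multiplicative.ofAdd]
      exact Subgroup.card_dvd_of_injective φ hφ
    have h1q := E.hq
    rw [hqm] at h1q hdvd ⊢
    rcases m with _ | _ | m
    · simp at h1q
    · norm_num
    · exact absurd ((Nat.pow_dvd_pow 3 (show 2 ≤ m + 1 + 1 by omega)).trans hdvd) (by norm_num)

end CfsgLib.Chev.SubMax
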