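import Cfsg.Agent.Lib.Chev.SubMaxPosition
import Cfsg.Agent.Lib.Chev.SubMaxSpecial
import Cfsg.Agent.Lib.Chev.SubMaxSL2

/-!
In odd characteristic an opposite long root element of the overgroup is rational.
-/

set_option autoImplicit false
set_option linter.unusedSectionVars false
set_option maxRecDepth 100000

namespace CfsgLib.Chev.SubMax

open Cfsg.Lie Matrix CfsgLib.Chev

variable {D : ChevalleyDatum} {K : Type*} [Field K] [Fintype K]

namespace Ctx

variable (C : Ctx D K)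

/-- A long root element of the overgroup opposite to the top one, outside the subfield group. -/
structure Opp (u : GL D.Idx K) (c : K) : Prop where
  hu : u ∈ topQ D K
  hc : c ≠ 0
  mem : ∀ t, C.E.σ t = t → u * C.g.xG (D.neg (top D)) (c * t) * u⁻¹ ∈ C.H
  notMem : u * C.g.xG (D.neg (top D)) c * u⁻¹ ∉ C.M

/-- Rational elements of the radical shift an opposite element. -/
lemma Opp.shift {u : GL D.Idx K} {c : K} (h : C.Opp u c) {m : GL D.Idx K} (hm : m ∈ C.M)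
    (hmQ : m ∈ topQ D K) : C.Opp (m * u) c := by
  have hconj : ∀ t, m * u * C.g.xG (D.neg (top D)) t * (m * u)⁻¹ =
      m * (u * C.g.xG (D.neg (top D)) t * u⁻¹) * m⁻¹ := fun t => by group
  refine ⟨mul_mem hmQ h.hu, h.hc, fun t ht => ?_, fun hM => h.notMem ?_⟩
  · rw [hconj]
    exact mul_mem (mul_mem (C.M_le_H hm) (h.mem t ht)) (inv_mem (C.M_le_H hm))
  · rw [hconj] at hM
    have := mul_mem (mul_mem (inv_mem hm) hM) hm
    rwa [show m⁻¹ * (m * (u * C.g.xG (D.neg (top D)) c * u⁻¹) * m⁻¹) * m =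
      u * C.g.xG (D.neg (top D)) c * u⁻¹ by group] at this

lemma Opp.y_mem {u : GL D.Idx K} {c : K} (h : C.Opp u c) : u * C.g.xG (D.neg (top D)) c * u⁻¹ ∈ C.H := by
  have := h.mem 1 (map_one _)
  rwa [mul_one] at this

/-- An element outside gives an opposite element. -/
theorem exists_opp (hQ : C.RadRat) {h : GL D.Idx K} (hh : h ∈ C.H) (hM : h ∉ C.M) :
    ∃ u c, C.Opp u c := by
  obtain ⟨u, hu, c, hc, he⟩ := C.exists_opposite hQ hh hM
  refine ⟨u, c, hu, hc, fun t ht => ?_, fun hy => hM (C.mem_M_of_conj_mem hQ hh one_ne_zero ?_)⟩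
  · rw [← he]
    exact mul_mem (mul_mem hh (C.M_le_H (C.xG_mem_M (top_lt C.g) ht))) (inv_mem hh)
  · rwa [he, mul_one]

/-- The parameters of two opposite rational root groups. -/
theorem mu_cases (h2 : (2 : K) ≠ 0) {x : GL D.Idx K} {c d : K} (hc : c ≠ 0) (hd : d ≠ 0)
    (hL : ∀ t, C.E.σ t = t → x * C.g.xG (D.neg (top D)) (c * t) * x⁻¹ ∈ C.H)
    (hU : ∀ t, C.E.σ t = t → x * C.g.xG (top D) (d * t) * x⁻¹ ∈ C.H)
    (hA : ∀ a, x * C.g.xG (top D) a * x⁻¹ ∈ C.H → C.E.σ (a / d) = a / d) :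
    C.E.σ (c * d) = c * d ∨ (C.E.q = 3 ∧ (c * d) ^ 2 = -1) := by
  obtain ⟨φ, hφU, hφL, -⟩ := C.g.exists_rootHom (F := K) (top_lt C.g)
  obtain ⟨s, hs⟩ : ∃ s : Kˣ, s = (Units.mk0 c hc)⁻¹ := ⟨_, rfl⟩
  have hsval : (s : K) = c⁻¹ := by rw [hs]; simp
  have hsinv : ((s⁻¹ : Kˣ) : K) = c := by rw [hs, inv_inv]; rfl
  refine sl2_param C.E h2 (C.H.comap ((MulAut.conj x).toMonoidHom.comp (φ.comp (slScale s))))
    (mul_ne_zero hc hd) (fun t ht => ?_) (fun t ht => ?_) (fun a ha => ?_)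
  · show x * φ (slScale s (slL t)) * x⁻¹ ∈ C.H
    rw [slScale_L, hφL, hsinv]
    exact hL t ht
  · show x * φ (slScale s (slU (c * d * t))) * x⁻¹ ∈ C.H
    rw [slScale_U, hφU, hsval, show c⁻¹ * (c * d * t) = d * t by field_simp]
    exact hU t ht
  · have ha' : x * φ (slScale s (slU a)) * x⁻¹ ∈ C.H := ha
    rw [slScale_U, hφU, hsval] at ha'
    have h := hA _ ha'
    rwa [show c⁻¹ * a / d = a / (c * d) by field_simp] at h

end Ctx

/-- The check of a pencil of long roots through the highest one. -/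
noncomputable def pencilOK (D : ChevalleyDatum) (long : ℕ → Bool) (γ α : ℕ) : Bool :=
  let T := top D
  let B := fneg D T
  let δ := fneg D γ
  radB D γ && radB D α && decide (γ ≠ α) && decide (α ≠ fneg D γ) && long δ &&
  decide (T ≠ δ) && decide (T ≠ fneg D δ) && decide (α ≠ δ) && decide (α ≠ fneg D δ) &&
  decide (B ≠ δ) && decide (B ≠ fneg D δ) && decide (B ≠ α) && decide (B ≠ fneg D α) &&
  decide (fterms D δ T = [(α, 1, 1, 1)]) && decide (fterms D α B = [(δ, 1, 1, 1)]) &&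
  (fterms D δ α).isEmpty && (fterms D δ B).isEmpty && decide (fterms D γ α = [(T, 1, 1, 1)])

/-- In odd characteristic, with a pencil, nothing lies outside. -/
theorem Ctx.le_M_of_pencil (C : Ctx D K) (h2 : (2 : K) ≠ 0) (hT : C.TopRat) (hQ : C.RadRat) {γ α : ℕ}
    (hγ : γ < D.nroots) (hα : α < D.nroots) (hok : pencilOK D C.long γ α = true) : C.H ≤ C.M := by
  classical
  intro h0 hh0
  by_contra hM0
  obtain ⟨u0, c, hopp0⟩ := C.exists_opp hQ hh0 hM0
  simp only [pencilOK, Bool.and_eq_true, decide_eq_true_eq, List.isEmpty_iff] at hok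
  obtain ⟨⟨⟨⟨⟨⟨⟨⟨⟨⟨⟨⟨⟨⟨⟨⟨⟨k1, k2⟩, k3⟩, k4⟩, k5⟩, k6⟩, k7⟩, k8⟩, k9⟩, k10⟩, k11⟩, k12⟩, k13⟩,
    k14⟩, k15⟩, k16⟩, k17⟩, k18⟩ := hok
  have hγQ := (radB_iff C.g hγ).1 k1
  have hαQ := (radB_iff C.g hα).1 k2
  have hT' := top_lt C.g
  have eB : fneg D (top D) = D.neg (top D) := (neg_eq C.g.lie.pack hT').symm
  have eδ : fneg D γ = D.neg γ := (neg_eq C.g.lie.pack hγ).symm
  rw [eB] at k10 k11 k12 k13 k15 k17
  rw [eδ] at k4 k5 k6 k7 k8 k9 k10 k11 k14 k15 k16 k17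
  obtain ⟨δ, hδ⟩ : ∃ δ, δ = D.neg γ := ⟨_, rfl⟩
  rw [← hδ] at k4 k5 k6 k7 k8 k9 k10 k11 k14 k15 k16 k17
  have hδ' : δ < D.nroots := hδ ▸ C.g.neg_lt hγ
  have hB' := C.g.neg_lt hT'
  have hdT : ∀ e t : K, C.g.xG δ e * C.g.xG (top D) t * (C.g.xG δ e)⁻¹ =
      C.g.xG (top D) t * C.g.xG α (e * t) := fun e t => by
    rw [C.conj_terms hδ' hT' k6 k7 k14]
    simp
  have hdB : ∀ e t : K, Commute (C.g.xG δ e) (C.g.xG (D.neg (top D)) t) := fun e t => by
    have h1 := C.conj_terms hδ' hB' k10 k11 k17 e t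
    rw [List.map_nil, List.prod_nil, mul_one, mul_inv_eq_iff_eq_mul] at h1
    exact h1
  have hdα : ∀ e t : K, Commute (C.g.xG δ e) (C.g.xG α t) := fun e t => by
    have h1 := C.conj_terms hδ' hα k8 k9 k16 e t
    rw [List.map_nil, List.prod_nil, mul_one, mul_inv_eq_iff_eq_mul] at h1
    exact h1
  have hαB : ∀ b t : K, C.g.xG α b * C.g.xG (D.neg (top D)) t * (C.g.xG α b)⁻¹ =
      C.g.xG (D.neg (top D)) t * C.g.xG δ (b * t) := fun b t => by
    rw [C.conj_terms hα hB' k12 k13 k15]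
    simp
  have hγα : ∀ f b : K, C.g.xG γ f * C.g.xG α b * (C.g.xG γ f)⁻¹ =
      C.g.xG α b * C.g.xG (top D) (f * b) := fun f b => by
    rw [C.conj_terms hγ hα (Ne.symm k3) (by rw [eδ, ← hδ]; exact k4) k18]
    simp
  -- the main case
  have core : ∀ (u : GL D.Idx K) (S : K), C.Opp u c →
      (∀ b, u * C.g.xG α b * u⁻¹ = C.g.xG α b * C.g.xG (top D) (S * b)) → (C.E.σ S = S → S ≠ 0) → False := by
    intro u S hopp hS hS0
    have huT : ∀ t, u * C.g.xG (top D) t * u⁻¹ = C.g.xG (top D) t := fun t => by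
      rw [(pos_commute_top C.g C.hc C.T (topQ_le_pos C.g hopp.hu) t).eq, mul_inv_cancel_right]
    have hug : u ∈ D.group K :=
      C.g.borel_le_group (Subgroup.mem_sup_left (topQ_le_pos C.g hopp.hu))
    by_cases hzero : ∃ ω, C.E.σ ω = ω ∧ S * ω = 1
    · obtain ⟨ω, hω, hSω⟩ := hzero
      have hω0 : ω ≠ 0 := fun h => one_ne_zero (α := K) (by rw [← hSω, h, mul_zero])
      obtain ⟨w, hw⟩ : ∃ w, w = C.g.xG δ ω * C.g.xG (top D) 1 * (C.g.xG δ ω)⁻¹ := ⟨_, rfl⟩
      have hwM : w ∈ C.M := hw ▸ mul_mem (mul_mem (C.xG_mem_M hδ' hω) C.top_mem_M) (inv_mem (C.xG_mem_M hδ' hω))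
      have hwc : C.IsTopConj w :=
        hw ▸ C.isTopConj_conj (C.g.xG_mem_group hδ' ω) (C.isTopConj_top one_ne_zero)
      have hw' : w = u * C.g.xG α ω * u⁻¹ := by
        rw [hw, hdT, hS, hSω, mul_one]
        exact (pos_commute_top C.g C.hc C.T
          (C.g.xG_mem_posUnipotent ((C.g.isPosRoot_iff α).2 ⟨hαQ.2.1, hα⟩) ω) 1).eq.symm
      obtain ⟨z, hz⟩ : ∃ z, z = u * C.g.xG δ (ω * c) * u⁻¹ := ⟨_, rfl⟩
      have hzH : z ∈ C.H := by
        have h1 := mul_mem (inv_mem hopp.y_mem) (mul_mem (mul_mem (C.M_le_H hwM) hopp.y_mem)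
          (inv_mem (C.M_le_H hwM)))
        rw [hw', show (u * C.g.xG (D.neg (top D)) c * u⁻¹)⁻¹ * (u * C.g.xG α ω * u⁻¹ *
          (u * C.g.xG (D.neg (top D)) c * u⁻¹) * (u * C.g.xG α ω * u⁻¹)⁻¹) =
          u * ((C.g.xG (D.neg (top D)) c)⁻¹ * (C.g.xG α ω * C.g.xG (D.neg (top D)) c * (C.g.xG α ω)⁻¹)) * u⁻¹
          by group, hαB, inv_mul_cancel_left] at h1
        exact hz ▸ h1
      have hzc : C.IsTopConj z :=
        hz ▸ C.isTopConj_conj hug (C.isTopConj_long (a := ⟨δ, hδ'⟩) k5 (mul_ne_zero hω0 hopp.hc))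
      refine hopp.notMem (C.mem_M_of_special hQ hwM hwc hopp.y_mem hzc hzH ?_ ?_)
      · rw [hz, hw']
        exact (Commute.conj_iff u).2 (hdα _ _)
      · rw [hz]
        exact (Commute.conj_iff u).2 (hdB _ _).symm
    push Not at hzero
    have hmu : ∀ ω, C.E.σ ω = ω →
        C.E.σ (c * (1 - S * ω)) = c * (1 - S * ω) ∨ (C.E.q = 3 ∧ (c * (1 - S * ω)) ^ 2 = -1) := by
      intro ω hω
      have hl : 1 - S * ω ≠ 0 := fun h => hzero ω hω (sub_eq_zero.1 h).symm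
      obtain ⟨e, he⟩ : ∃ e, e = ω / (1 - S * ω) := ⟨_, rfl⟩
      have hid : ∀ x : K, u * C.g.xG δ e * C.g.xG (top D) x * (u * C.g.xG δ e)⁻¹ =
          C.g.xG δ ω * C.g.xG (top D) (x / (1 - S * ω)) * (C.g.xG δ ω)⁻¹ := fun x => by
        rw [show u * C.g.xG δ e * C.g.xG (top D) x * (u * C.g.xG δ e)⁻¹ =
          u * (C.g.xG δ e * C.g.xG (top D) x * (C.g.xG δ e)⁻¹) * u⁻¹ by group, hdT, hdT,
          show u * (C.g.xG (top D) x * C.g.xG α (e * x)) * u⁻¹ =
            (u * C.g.xG (top D) x * u⁻¹) * (u * C.g.xG α (e * x) * u⁻¹) by group, huT, hS,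
          (pos_commute_top C.g C.hc C.T
            (C.g.xG_mem_posUnipotent ((C.g.isPosRoot_iff α).2 ⟨hαQ.2.1, hα⟩) (e * x)) (S * (e * x))).eq,
          ← mul_assoc, C.g.xG_add]
        congr 2
        · rw [he]
          field_simp
          ring
        · rw [he]
          ring
      refine C.mu_cases h2 (x := u * C.g.xG δ e) hopp.hc hl (fun t ht => ?_) (fun t ht => ?_) (fun a ha => ?_)
      · rw [show u * C.g.xG δ e * C.g.xG (D.neg (top D)) (c * t) * (u * C.g.xG δ e)⁻¹ =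
          u * (C.g.xG δ e * C.g.xG (D.neg (top D)) (c * t) * (C.g.xG δ e)⁻¹) * u⁻¹ by group,
          (hdB e (c * t)).eq, mul_inv_cancel_right]
        exact hopp.mem t ht
      · rw [hid, mul_div_cancel_left₀ _ hl]
        have hm := C.M_le_H (C.xG_mem_M hδ' hω)
        exact mul_mem (mul_mem hm (C.M_le_H (C.xG_mem_M hT' ht))) (inv_mem hm)
      · rw [hid] at ha
        have hm := C.M_le_H (C.xG_mem_M hδ' hω)
        refine hT _ ?_
        have := mul_mem (mul_mem (inv_mem hm) ha) hm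
        rwa [show (C.g.xG δ ω)⁻¹ * (C.g.xG δ ω * C.g.xG (top D) (a / (1 - S * ω)) * (C.g.xG δ ω)⁻¹) *
          C.g.xG δ ω = C.g.xG (top D) (a / (1 - S * ω)) by group] at this
    have hSn : C.E.σ S ≠ S := fun hS' => by
      have h0 := hS0 hS'
      exact hzero S⁻¹ (by rw [map_inv₀, hS']) (mul_inv_cancel₀ h0)
    by_cases hq : C.E.q = 3
    · -- the small field
      have h3 : (3 : K) = 0 := by
        have h := FiniteField.cast_card_eq_zero K
        rw [C.E.hK, hq, Nat.cast_pow] at h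
        exact_mod_cast (pow_eq_zero_iff C.E.hr.ne_zero).1 h
      have h4 : ∀ ω, C.E.σ ω = ω → (c * (1 - S * ω)) ^ 2 = 1 ∨ (c * (1 - S * ω)) ^ 2 = -1 := by
        intro ω hω
        rcases hmu ω hω with h | ⟨-, h⟩
        · left
          rw [C.E.hσ, hq] at h
          have hne : c * (1 - S * ω) ≠ 0 :=
            mul_ne_zero hopp.hc fun h => hzero ω hω (sub_eq_zero.1 h).symm
          refine mul_left_cancel₀ hne ?_
          rw [mul_one, ← pow_succ', h]
        · exact Or.inr h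
      have m0 := h4 0 (map_zero _)
      have m1 := h4 1 (map_one _)
      have m2 := h4 (-1) (by rw [map_neg, map_one])
      obtain ⟨d, hd⟩ : ∃ d, d = c * S := ⟨_, rfl⟩
      rw [show c * (1 - S * 0) = c by ring] at m0
      rw [show c * (1 - S * 1) = c - d by rw [hd]; ring] at m1
      rw [show c * (1 - S * -1) = c + d by rw [hd]; ring] at m2
      have hd0 : d ≠ 0 := hd ▸ mul_ne_zero hopp.hc fun h => hSn (by rw [h, map_zero])
      -- the two squares are opposite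
      have hsum : (c + d) ^ 2 + (c - d) ^ 2 = 0 := by
        rcases m1 with a | a <;> rcases m2 with b | b
        · exact absurd (show c * d = 0 by linear_combination b - a - c * d * h3) (mul_ne_zero hopp.hc hd0)
        · linear_combination a + b
        · linear_combination a + b
        · exact absurd (show c * d = 0 by linear_combination b - a - c * d * h3) (mul_ne_zero hopp.hc hd0)
      have hdd : d ^ 2 = -c ^ 2 := by linear_combination -hsum + (c ^ 2 + d ^ 2) * h3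
      have hcd : (c * d) ^ 2 = 1 := by
        rcases m1 with a | a <;> rcases m2 with b | b
        · exact absurd (show c * d = 0 by linear_combination b - a - c * d * h3) (mul_ne_zero hopp.hc hd0)
        · rw [show c * d = -2 by linear_combination b - a - c * d * h3]
          linear_combination h3
        · rw [show c * d = 2 by linear_combination b - a - c * d * h3]
          linear_combination h3
        · exact absurd (show c * d = 0 by linear_combination b - a - c * d * h3) (mul_ne_zero hopp.hc hd0)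
      refine one_ne_zero (α := K) ?_
      have h5 : (c ^ 2) ^ 2 = 1 := by rcases m0 with a | a <;> rw [a] <;> ring
      linear_combination (-1 : K) * (c ^ 2 * hdd) + hcd + h5 + h3
    · have key : ∀ ω, C.E.σ ω = ω → C.E.σ (c * (1 - S * ω)) = c * (1 - S * ω) := fun ω hω =>
        (hmu ω hω).resolve_right fun h => hq h.1
      have e0 := key 0 (map_zero _)
      have e1 := key 1 (map_one _)
      rw [show c * (1 - S * 0) = c by ring] at e0
      rw [map_mul, e0, map_sub, map_one, map_mul, map_one, mul_one] at e1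
      exact hSn (by simpa using mul_left_cancel₀ hopp.hc e1)
  obtain ⟨f, hf, rfl⟩ := exists_coords C.g C.hc C.T hopp0.hu
  obtain ⟨S, hS⟩ : ∃ S, S = ((List.range' (half D) (D.nroots - half D)).map fun r =>
      (nRad C.g r α : K) * f r).sum := ⟨_, rfl⟩
  by_cases hS0 : C.E.σ S = S ∧ S = 0
  · refine core (C.g.xG γ 1 * C.g.xProd f (half D)) 1
      (hopp0.shift (C := C) (C.xG_mem_M hγ (map_one _)) (C.g.mem_rootGen hγ hγQ 1)) (fun b => ?_)
      fun _ => one_ne_zero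
    rw [show C.g.xG γ 1 * C.g.xProd f (half D) * C.g.xG α b * (C.g.xG γ 1 * C.g.xProd f (half D))⁻¹ =
      C.g.xG γ 1 * (C.g.xProd f (half D) * C.g.xG α b * (C.g.xProd f (half D))⁻¹) * (C.g.xG γ 1)⁻¹ by group,
      coords_conj C.g C.hc C.T hαQ hf, ← hS, hS0.2, zero_mul, C.g.xG_zero, mul_one, hγα]
  · refine core _ S hopp0 (fun b => ?_) fun h h' => hS0 ⟨h, h'⟩
    rw [coords_conj C.g C.hc C.T hαQ hf, hS]

/-! ### B2 -/

theorem le_M_B2_odd (C : Ctx chevB2 K) (hlong : C.long = longOf shortB2) (h2 : (2 : K) ≠ 0) (hT : C.TopRat)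
    (hQ : C.RadRat) : C.H ≤ C.M := by
  classical
  intro h0 hh0
  by_contra hM0
  obtain ⟨u0, c, hopp0⟩ := C.exists_opp hQ hh0 hM0
  have e0 : chevB2.neg (top chevB2) = 0 := neg_top C.g
  have e7 : top chevB2 = 7 := by decide +kernel
  have hrad : ∀ r, r ∈ radSet chevB2 → r ∈ [5, 6, 7] := by
    intro r hr
    have h := (radB_iff C.g hr.1).2 hr
    have hlt : r < 8 := hr.1
    revert h
    interval_cases r <;> decide +kernel
  have hlist : (List.range' (half chevB2) (chevB2.nroots - half chevB2)).filter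
      (fun r => decide (r ∈ [5, 6, 7])) = [5, 6, 7] := by decide +kernel
  have hQmem : ∀ r, r ∈ [5, 6, 7] → ∀ t : K, C.g.xG r t ∈ topQ chevB2 K := fun r hr t =>
    C.g.mem_rootGen (show r < 8 by simp at hr; omega) ((radB_iff C.g (show r < 8 by simp at hr; omega)).1
      (by simp at hr; rcases hr with rfl | rfl | rfl <;> decide +kernel)) t
  have hnil : ∀ r s, r < 8 → s < 8 → r ≠ s → r ≠ fneg chevB2 s → fterms chevB2 s r = [] →
      ∀ t u : K, Commute (C.g.xG s u) (C.g.xG r t) := fun r s hr hs hrs hrn hnil t u =>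
    commute_of_nil C.g C.hc hr hs hrs (by rw [neg_eq C.g.lie.pack hs]; exact hrn)
      (by rw [terms_b2 s r hs hr]; exact hnil) t u
  have k54 : ∀ a t : K, C.g.xG 5 a * C.g.xG 4 t * (C.g.xG 5 a)⁻¹ =
      C.g.xG 4 t * (C.g.xG 6 (-(a * t)) * C.g.xG 7 (-(a ^ 2 * t))) := fun a t => by
    rw [C.conj_terms (by decide) (by decide) (by decide) (by decide)
      (L := [(6, -1, 1, 1), (7, -1, 2, 1)]) (by decide +kernel)]
    simp
  have k56 : ∀ a t : K, C.g.xG 5 a * C.g.xG 6 t * (C.g.xG 5 a)⁻¹ =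
      C.g.xG 6 t * C.g.xG 7 (2 * a * t) := fun a t => by
    rw [C.conj_terms (by decide) (by decide) (by decide) (by decide)
      (L := [(7, 2, 1, 1)]) (by decide +kernel)]
    simp
  have k27 : ∀ e t : K, C.g.xG 2 e * C.g.xG 7 t * (C.g.xG 2 e)⁻¹ =
      C.g.xG 7 t * (C.g.xG 6 (e * t) * C.g.xG 4 (-(e ^ 2 * t))) := fun e t => by
    rw [C.conj_terms (by decide) (by decide) (by decide) (by decide)
      (L := [(6, 1, 1, 1), (4, -1, 2, 1)]) (by decide +kernel)]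
    simp
  have k45 : ∀ e t : K, C.g.xG 4 e * C.g.xG 5 t * (C.g.xG 4 e)⁻¹ =
      C.g.xG 5 t * (C.g.xG 6 (e * t) * C.g.xG 7 (-(e * t ^ 2))) := fun e t => by
    rw [C.conj_terms (by decide) (by decide) (by decide) (by decide)
      (L := [(6, 1, 1, 1), (7, -1, 1, 2)]) (by decide +kernel)]
    simp
  have k67 := fun t u : K => hnil 7 6 (by decide) (by decide) (by decide) (by decide) (by decide +kernel) t u
  have k46 := fun t u : K => hnil 6 4 (by decide) (by decide) (by decide) (by decide) (by decide +kernel) t u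
  have k47 := fun t u : K => hnil 7 4 (by decide) (by decide) (by decide) (by decide) (by decide +kernel) t u
  have k57 := fun t u : K => hnil 7 5 (by decide) (by decide) (by decide) (by decide) (by decide +kernel) t u
  have k40 := fun t u : K => hnil 0 4 (by decide) (by decide) (by decide) (by decide) (by decide +kernel) t u
  have k30 := fun t u : K => hnil 0 3 (by decide) (by decide) (by decide) (by decide) (by decide +kernel) t u
  have k35 := fun t u : K => hnil 5 3 (by decide) (by decide) (by decide) (by decide) (by decide +kernel) t u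
  have k37 := fun t u : K => hnil 7 3 (by decide) (by decide) (by decide) (by decide) (by decide +kernel) t u
  have k20 := fun t u : K => hnil 0 2 (by decide) (by decide) (by decide) (by decide) (by decide +kernel) t u
  -- a commuting rational long root element
  have special : ∀ (u : GL chevB2.Idx K) (r : ℕ), r < 8 → C.long r = true → C.Opp u c →
      (∀ t, Commute (C.g.xG r (1 : K)) (C.g.xG 0 t)) → Commute (C.g.xG r (1 : K)) u → False := by
    intro u r hr hrl hopp h1 h2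
    refine hopp.notMem (C.mem_M_of_commute hQ (C.xG_mem_M (r := r) hr (map_one _))
      (C.isTopConj_long (a := ⟨r, hr⟩) hrl one_ne_zero) hopp.y_mem ?_)
    rw [e0]
    exact (((h2.mul_right (h1 c)).mul_right h2.inv_right)).symm
  obtain ⟨f, hf, rfl⟩ := exists_coords C.g C.hc C.T hopp0.hu
  have hu : C.g.xProd f (half chevB2) = C.g.xG 5 (f 5) * (C.g.xG 6 (f 6) * C.g.xG 7 (f 7)) := by
    rw [xProd_eq_list C.g hlist fun r hr => hf r fun h => hr (hrad r h)]
    simp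
  rw [hu] at hopp0
  obtain ⟨a, ha⟩ : ∃ a, a = f 5 := ⟨_, rfl⟩
  obtain ⟨b, hb⟩ : ∃ b, b = f 6 := ⟨_, rfl⟩
  obtain ⟨v, hv⟩ : ∃ v, v = f 7 := ⟨_, rfl⟩
  rw [← ha, ← hb, ← hv] at hopp0
  -- a rational first coordinate
  by_cases haσ : C.E.σ a = a
  · have h := hopp0.shift (C := C) (C.xG_mem_M (r := 5) (by decide) (show C.E.σ (-a) = -a by rw [map_neg, haσ]))
      (hQmem 5 (by simp) _)
    rw [← mul_assoc, C.g.xG_add, neg_add_cancel, C.g.xG_zero, one_mul] at h
    exact special _ 4 (by decide) (hlong ▸ (by decide +kernel)) h (fun t => k40 t 1)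
      ((k46 b 1).mul_right (k47 v 1))
  -- the parameters
  have hl : ∀ ω, C.E.σ ω = ω → 1 - a * ω ≠ 0 := by
    intro ω hω h
    have h1 : a * ω = 1 := (sub_eq_zero.1 h).symm
    have hω0 : ω ≠ 0 := fun h => one_ne_zero (α := K) (by rw [← h1, h, mul_zero])
    exact haσ (by rw [show a = ω⁻¹ from eq_inv_of_mul_eq_one_left h1, map_inv₀, hω])
  have hmu : ∀ ω, C.E.σ ω = ω → C.E.σ (c * (1 - a * ω) ^ 2) = c * (1 - a * ω) ^ 2 ∨
      (C.E.q = 3 ∧ (c * (1 - a * ω) ^ 2) ^ 2 = -1) := by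
    intro ω hω
    have hl' := hl ω hω
    obtain ⟨e, he⟩ : ∃ e, e = ω / (1 - a * ω) := ⟨_, rfl⟩
    obtain ⟨u, hu'⟩ : ∃ u, u = C.g.xG 5 a * (C.g.xG 6 b * C.g.xG 7 v) := ⟨_, rfl⟩
    rw [← hu'] at hopp0
    have hid : ∀ x : K, u * C.g.xG 2 e * C.g.xG 7 x * (u * C.g.xG 2 e)⁻¹ =
        C.g.xG 2 ω * C.g.xG 7 (x / (1 - a * ω) ^ 2) * (C.g.xG 2 ω)⁻¹ := by
      intro x
      obtain ⟨s, hs⟩ : ∃ s : K, s = e * x := ⟨_, rfl⟩
      obtain ⟨t, ht⟩ : ∃ t : K, t = -(e ^ 2 * x) := ⟨_, rfl⟩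
      have c4 : Commute (C.g.xG 6 b * C.g.xG 7 v) (C.g.xG 4 t) := ((k46 b t).mul_right (k47 v t)).symm
      have c6 : Commute (C.g.xG 6 b * C.g.xG 7 v) (C.g.xG 6 s) :=
        (xG_commute_self C.g 6 b s).mul_left (k67 v s).symm
      have c7 : Commute (C.g.xG 6 b * C.g.xG 7 v) (C.g.xG 7 x) :=
        (k67 x b).mul_left (xG_commute_self C.g 7 v x)
      rw [show u * C.g.xG 2 e * C.g.xG 7 x * (u * C.g.xG 2 e)⁻¹ =
        u * (C.g.xG 2 e * C.g.xG 7 x * (C.g.xG 2 e)⁻¹) * u⁻¹ by group, k27, k27, ← hs, ← ht, hu',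
        show C.g.xG 5 a * (C.g.xG 6 b * C.g.xG 7 v) * (C.g.xG 7 x * (C.g.xG 6 s * C.g.xG 4 t)) *
          (C.g.xG 5 a * (C.g.xG 6 b * C.g.xG 7 v))⁻¹ =
          C.g.xG 5 a * ((C.g.xG 6 b * C.g.xG 7 v) * (C.g.xG 7 x * (C.g.xG 6 s * C.g.xG 4 t))) *
            (C.g.xG 6 b * C.g.xG 7 v)⁻¹ * (C.g.xG 5 a)⁻¹ by group,
        (c7.mul_right (c6.mul_right c4)).eq, ← mul_assoc (C.g.xG 5 a), mul_inv_cancel_right,
        show C.g.xG 5 a * (C.g.xG 7 x * (C.g.xG 6 s * C.g.xG 4 t)) * (C.g.xG 5 a)⁻¹ =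
          (C.g.xG 5 a * C.g.xG 7 x * (C.g.xG 5 a)⁻¹) * ((C.g.xG 5 a * C.g.xG 6 s * (C.g.xG 5 a)⁻¹) *
            (C.g.xG 5 a * C.g.xG 4 t * (C.g.xG 5 a)⁻¹)) by group,
        (k57 x a).eq, mul_inv_cancel_right, k56, k54]
      -- reorder the commuting factors
      rw [show C.g.xG 7 x * (C.g.xG 6 s * C.g.xG 7 (2 * a * s) *
          (C.g.xG 4 t * (C.g.xG 6 (-(a * t)) * C.g.xG 7 (-(a ^ 2 * t))))) =
          C.g.xG 7 x * (C.g.xG 6 s * (C.g.xG 7 (2 * a * s) *
          (C.g.xG 4 t * C.g.xG 6 (-(a * t)))) * C.g.xG 7 (-(a ^ 2 * t))) by group,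
        ((k47 (2 * a * s) t).symm.mul_right (k67 (2 * a * s) (-(a * t))).symm).eq,
        ← mul_assoc (C.g.xG 6 s), ← mul_assoc (C.g.xG 6 s), (k46 s t).symm.eq, mul_assoc (C.g.xG 4 t),
        C.g.xG_add, mul_assoc _ (C.g.xG 7 (2 * a * s)), C.g.xG_add,
        show C.g.xG 7 x * (C.g.xG 4 t * C.g.xG 6 (s + -(a * t)) * C.g.xG 7 (2 * a * s + -(a ^ 2 * t))) =
          C.g.xG 7 x * (C.g.xG 4 t * C.g.xG 6 (s + -(a * t))) * C.g.xG 7 (2 * a * s + -(a ^ 2 * t)) by group,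
        ((k47 x t).symm.mul_right (k67 x _).symm).eq, mul_assoc, C.g.xG_add,
        show C.g.xG 7 (x / (1 - a * ω) ^ 2) * (C.g.xG 6 (ω * (x / (1 - a * ω) ^ 2)) *
          C.g.xG 4 (-(ω ^ 2 * (x / (1 - a * ω) ^ 2)))) = C.g.xG 4 (-(ω ^ 2 * (x / (1 - a * ω) ^ 2))) *
            C.g.xG 6 (ω * (x / (1 - a * ω) ^ 2)) * C.g.xG 7 (x / (1 - a * ω) ^ 2) by
          rw [← mul_assoc, ← (k67 _ _).eq, mul_assoc, ← (k47 _ _).eq, ← mul_assoc, ← (k46 _ _).eq]]
      congr 2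
      · congr 2
        rw [ht, he]; field_simp
      · rw [hs, ht, he]; field_simp; ring
      · rw [hs, ht, he]; field_simp; ring
    have hm := C.M_le_H (C.xG_mem_M (r := 2) (by decide) hω)
    refine C.mu_cases h2 (x := u * C.g.xG 2 e) hopp0.hc (pow_ne_zero 2 hl') (fun t ht => ?_)
      (fun t ht => ?_) (fun y hy => ?_)
    · have := hopp0.mem t ht
      rw [e0] at this ⊢
      rwa [show u * C.g.xG 2 e * C.g.xG 0 (c * t) * (u * C.g.xG 2 e)⁻¹ =
        u * (C.g.xG 2 e * C.g.xG 0 (c * t) * (C.g.xG 2 e)⁻¹) * u⁻¹ by group, (k20 (c * t) e).eq,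
        mul_inv_cancel_right]
    · rw [e7, hid, mul_div_cancel_left₀ _ (pow_ne_zero 2 hl')]
      exact mul_mem (mul_mem hm (C.M_le_H (C.xG_mem_M (r := 7) (by decide) ht))) (inv_mem hm)
    · rw [e7, hid] at hy
      refine hT _ ?_
      have := mul_mem (mul_mem (inv_mem hm) hy) hm
      rwa [e7, show C.g.xG 7 (y / (1 - a * ω) ^ 2) = (C.g.xG 2 ω)⁻¹ *
        (C.g.xG 2 ω * C.g.xG 7 (y / (1 - a * ω) ^ 2) * (C.g.xG 2 ω)⁻¹) * C.g.xG 2 ω by group]
  by_cases hex : ∃ μ : K, C.E.σ μ ≠ μ ∧ μ ^ 2 = -1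
  · obtain ⟨μ, hμ, hμ2⟩ := hex
    let A : AddSubgroup K :=
      { carrier := {t | ∃ x y, C.E.σ x = x ∧ C.E.σ y = y ∧ t = x + y * μ}
        zero_mem' := ⟨0, 0, map_zero _, map_zero _, by ring⟩
        add_mem' := by
          rintro _ _ ⟨x, y, hx, hy, rfl⟩ ⟨x', y', hx', hy', rfl⟩
          exact ⟨x + x', y + y', by rw [map_add, hx, hx'], by rw [map_add, hy, hy'], by ring⟩
        neg_mem' := by
          rintro _ ⟨x, y, hx, hy, rfl⟩
          exact ⟨-x, -y, by rw [map_neg, hx], by rw [map_neg, hy], by ring⟩ }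
    have hA : ∀ t, t ∈ A := C.E.eq_univ_of_closed A (fun t ht => ⟨t, 0, ht, map_zero _, by ring⟩) (by
      rintro _ ⟨x, y, hx, hy, rfl⟩ _ ⟨x', y', hx', hy', rfl⟩
      refine ⟨x * x' - y * y', x * y' + y * x', ?_, ?_, ?_⟩
      · rw [map_sub, map_mul, map_mul, hx, hx', hy, hy']
      · rw [map_add, map_mul, map_mul, hx, hx', hy, hy']
      · linear_combination y * y' * hμ2) (t := μ) ⟨0, 1, map_zero _, map_one _, by ring⟩ hμ
    obtain ⟨xa, ya, hxa, hya, hae⟩ := hA a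
    obtain ⟨xb, yb, hxb, hyb, hbe⟩ := hA b
    have hya0 : ya ≠ 0 := fun h => haσ (by rw [hae, h, zero_mul, add_zero, hxa])
    obtain ⟨y, hy⟩ : ∃ y, y = yb / ya := ⟨_, rfl⟩
    obtain ⟨x, hx⟩ : ∃ x, x = xb - y * xa := ⟨_, rfl⟩
    have hyσ : C.E.σ y = y := by rw [hy, map_div₀, hyb, hya]
    have hxσ : C.E.σ x = x := by rw [hx, map_sub, map_mul, hxb, hyσ, hxa]
    have hbxy : b = x + y * a := by
      rw [hx, hy, hbe, hae]
      field_simp
      ring
    -- shift and rotate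
    have h := hopp0.shift (C := C) (C.xG_mem_M (r := 6) (by decide) (show C.E.σ (-x) = -x by rw [map_neg, hxσ]))
      (hQmem 6 (by simp) _)
    obtain ⟨u, hu'⟩ : ∃ u, u = C.g.xG 6 (-x) * (C.g.xG 5 a * (C.g.xG 6 b * C.g.xG 7 v)) := ⟨_, rfl⟩
    rw [← hu'] at h
    obtain ⟨r, hr⟩ : ∃ r, r = C.g.xG 4 (-y) := ⟨_, rfl⟩
    have hrM : r ∈ C.M := hr ▸ C.xG_mem_M (r := 4) (by decide) (by rw [map_neg, hyσ])
    have h65 : C.g.xG 6 (-x) * C.g.xG 5 a = C.g.xG 5 a * C.g.xG 6 (-x) * C.g.xG 7 (2 * a * x) := by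
      have e := k56 a (-x)
      rw [mul_inv_eq_iff_eq_mul, mul_assoc, (k57 _ a).symm.eq, ← mul_assoc] at e
      rw [e, mul_assoc, C.g.xG_add, show 2 * a * -x + 2 * a * x = 0 by ring, C.g.xG_zero, mul_one]
    obtain ⟨w, hw⟩ : ∃ w, w = -(-y * a ^ 2) + 2 * a * x + v := ⟨_, rfl⟩
    have hnew : r * u * r⁻¹ = C.g.xG 5 a * C.g.xG 7 w := by
      have hu6 : u = C.g.xG 5 a * (C.g.xG 6 (y * a) * C.g.xG 7 (2 * a * x + v)) := by
        rw [hu', ← mul_assoc, h65, show C.g.xG 5 a * C.g.xG 6 (-x) * C.g.xG 7 (2 * a * x) *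
            (C.g.xG 6 b * C.g.xG 7 v) = C.g.xG 5 a * (C.g.xG 6 (-x) * (C.g.xG 7 (2 * a * x) *
            C.g.xG 6 b) * C.g.xG 7 v) by group, (k67 _ b).symm.eq, ← mul_assoc (C.g.xG 6 (-x)), C.g.xG_add,
          mul_assoc (C.g.xG 6 _), C.g.xG_add]
        rw [show -x + b = y * a by rw [hbxy]; ring]
      rw [hu6, hr, show C.g.xG 4 (-y) * (C.g.xG 5 a * (C.g.xG 6 (y * a) * C.g.xG 7 (2 * a * x + v))) *
          (C.g.xG 4 (-y))⁻¹ = (C.g.xG 4 (-y) * C.g.xG 5 a * (C.g.xG 4 (-y))⁻¹) *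
          (C.g.xG 4 (-y) * (C.g.xG 6 (y * a) * C.g.xG 7 (2 * a * x + v)) * (C.g.xG 4 (-y))⁻¹) by group,
        ((k46 _ _).mul_right (k47 _ _)).eq, mul_inv_cancel_right, k45,
        show C.g.xG 5 a * (C.g.xG 6 (-y * a) * C.g.xG 7 (-(-y * a ^ 2))) *
          (C.g.xG 6 (y * a) * C.g.xG 7 (2 * a * x + v)) = C.g.xG 5 a * (C.g.xG 6 (-y * a) *
          (C.g.xG 7 (-(-y * a ^ 2)) * C.g.xG 6 (y * a)) * C.g.xG 7 (2 * a * x + v)) by group,
        (k67 _ (y * a)).symm.eq, ← mul_assoc (C.g.xG 6 (-y * a)), C.g.xG_add, mul_assoc (C.g.xG 6 _),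
        C.g.xG_add, show -y * a + y * a = (0 : K) by ring, C.g.xG_zero, one_mul, hw, add_assoc]
    have hr0 : ∀ t, r * u * C.g.xG 0 t * u⁻¹ * r⁻¹ = r * u * r⁻¹ * C.g.xG 0 t * (r * u * r⁻¹)⁻¹ := fun t => by
      calc r * u * C.g.xG 0 t * u⁻¹ * r⁻¹ = r * u * (r⁻¹ * (r * C.g.xG 0 t)) * u⁻¹ * r⁻¹ := by group
        _ = _ := by rw [hr, (k40 t (-y)).eq]; group
    have h' : C.Opp (C.g.xG 5 a * C.g.xG 7 w) c := by
      refine ⟨mul_mem (hQmem 5 (by simp) _) (hQmem 7 (by simp) _), h.hc, fun t ht => ?_, fun hM => h.notMem ?_⟩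
      · rw [e0, ← hnew, ← hr0, show r * u * C.g.xG 0 (c * t) * u⁻¹ * r⁻¹ = r * (u * C.g.xG 0 (c * t) * u⁻¹) * r⁻¹
          by group]
        have := h.mem t ht
        rw [e0] at this
        exact mul_mem (mul_mem (C.M_le_H hrM) this) (inv_mem (C.M_le_H hrM))
      · rw [e0, ← hnew, ← hr0] at hM
        rw [e0, show u * C.g.xG 0 c * u⁻¹ = r⁻¹ * (r * u * C.g.xG 0 c * u⁻¹ * r⁻¹) * r by group]
        exact mul_mem (mul_mem (inv_mem hrM) hM) hrM
    exact special _ 3 (by decide) (hlong ▸ (by decide +kernel)) h' (fun t => k30 t 1)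
      ((k35 a 1).mul_right (k37 w 1))
  · push Not at hex
    have key : ∀ ω, C.E.σ ω = ω → C.E.σ (c * (1 - a * ω) ^ 2) = c * (1 - a * ω) ^ 2 := fun ω hω => by
      rcases hmu ω hω with h | ⟨-, h⟩
      · exact h
      · by_contra hne
        exact hex _ hne h
    have e1 := key 0 (map_zero _)
    have e2 := key 1 (map_one _)
    have e3 := key (-1) (by rw [map_neg, map_one])
    rw [show c * (1 - a * 0) ^ 2 = c by ring] at e1
    simp only [map_mul, map_pow, map_sub, map_one, map_neg, e1] at e2 e3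
    have h4 : (4 * c) * C.E.σ a = (4 * c) * a := by linear_combination e3 - e2
    have h4c : 4 * c ≠ 0 := mul_ne_zero (by
      rw [show (4 : K) = 2 * 2 by norm_num]
      exact mul_ne_zero h2 h2) hopp0.hc
    exact haσ (mul_left_cancel₀ h4c h4)

end CfsgLib.Chev.SubMax
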