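import Cfsg.Agent.Lib.Chev.SubMaxGen
import Cfsg.Agent.Lib.Chev.SubMaxTwo
import Cfsg.Agent.Lib.Chev.SubMaxOdd

/-!
The subgroup over a subfield of prime degree is maximal: G2, B2, D4, F4, E6, E7, E8.
-/

set_option autoImplicit false
set_option linter.unusedSectionVars false
set_option maxRecDepth 100000

namespace CfsgLib.Chev.SubMax

open Cfsg.Lie Matrix CfsgLib.Chev

variable {D : ChevalleyDatum} {K : Type*} [Field K] [Fintype K]

/-- The check of the short fundamental roots. -/
noncomputable def shortCovOK (D : ChevalleyDatum) (long : ℕ → Bool) : Bool :=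
  allR (fun i => long (D.simple i) || anyR (fun β => long β && long (fneg D β) &&
    (decide (fpair D β (D.simple i) = 1) || decide (fpair D β (D.simple i) = -1))) (upto D.nroots)) (upto D.rank)

lemma shortCov_of_check {long : ℕ → Bool} (hok : shortCovOK D long = true) :
    ∀ i < D.rank, long (D.simple i) = true ∨ ∃ β, β < D.nroots ∧ long β = true ∧
      long (fneg D β) = true ∧ (fpair D β (D.simple i) = 1 ∨ fpair D β (D.simple i) = -1) := by
  intro i hi
  have h := allR_upto hok hi
  simp only [Bool.or_eq_true] at h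
  rcases h with h | h
  · exact Or.inl h
  · rw [anyR_eq, List.any_eq_true] at h
    obtain ⟨β, hβ, h1⟩ := h
    rw [upto_eq] at hβ
    simp only [Bool.and_eq_true, Bool.or_eq_true, decide_eq_true_eq] at h1
    exact Or.inr ⟨β, List.mem_range.1 hβ, h1.1.1, h1.1.2, h1.2⟩

/-- The check of a root orthogonal to the highest one. -/
noncomputable def pairOK (D : ChevalleyDatum) (α : ℕ) : Bool :=
  allR (fun m => !(decide (half D ≤ m)) || decide (m = α) || (fterms D m α).isEmpty ||
    (match fterms D m α with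
     | [(k, c, 1, 1)] => (decide (c = 1) || decide (c = -1)) && !(decide (k = top D))
     | _ => false)) (upto D.nroots)

lemma pairTerms_of_check (g : Good D) {α : ℕ} (hα : α < D.nroots) (hok : pairOK D α = true) :
    ∀ m, half D ≤ m → m < D.nroots → m ≠ α → D.commTerms m α = [] ∨
      ∃ (k : ℕ) (c : ℤ), D.commTerms m α = [(k, c, 1, 1)] ∧ (c = 1 ∨ c = -1) ∧ k ≠ top D := by
  intro m hm hm' hne
  have h := allR_upto hok hm'
  simp only [Bool.or_eq_true, decide_eq_true_eq, List.isEmpty_iff] at h
  rw [← g.fterms_eq hm' hα]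
  rcases h with ((h | h) | h) | h
  · simp [hm] at h
  · exact absurd h hne
  · exact Or.inl h
  · split at h
    · rename_i k c heq
      simp only [Bool.and_eq_true, Bool.or_eq_true, decide_eq_true_eq, Bool.not_eq_true',
        decide_eq_false_iff_not] at h
      exact Or.inr ⟨k, c, heq, h.1, h.2⟩
    · simp at h

/-- The check of the highest root having all coefficients positive. -/
noncomputable def topCoOK (D : ChevalleyDatum) (dat : LieData) : Bool :=
  allR (fun j => decide (0 < rootCo dat (top D) j)) (upto D.rank)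

lemma topCo_of_check (g : Good D) {dat : LieData} {sd : StructData} (hl : LieChecks D dat)
    (hs : StructChecks D dat sd) (hok : topCoOK D dat = true) : ∀ j < D.rank, 0 < g.co (top D) j := by
  intro j hj
  rw [← g.co_eq hl hs (top_lt g) hj]
  simpa using allR_upto hok hj

namespace Ctx

variable (C : Ctx D K)

lemma short_witness [CharP K 2] (hQ : C.RadRat) (hrank : 0 < D.rank) (hco : ∀ j < D.rank, 0 < C.g.co (top D) j)
    {s : ℕ} (hs : half D ≤ s) (hs' : s < D.nroots) (hsl : C.long s ≠ true) : C.H = C.M :=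
  C.le_M_of_two hQ hrank hco (C.xG_mem_M hs' (map_one _))
    (fun h => one_ne_zero (eq_zero_of_xG_eq_one C.g hs' h))
    (by rw [C.g.xG_add, CharTwo.add_self_eq_zero, C.g.xG_zero]) (C.not_topConj_short hs hs' hsl)

lemma pair_witness [CharP K 2] (hQ : C.RadRat) (hrank : 0 < D.rank) (hco : ∀ j < D.rank, 0 < C.g.co (top D) j)
    {α : ℕ} (hα : half D ≤ α) (hα' : α < D.nroots) (hαt : α < top D) (hok : pairOK D α = true) : C.H = C.M := by
  have hc := pos_commute_top C.g C.hc C.T
    (C.g.xG_mem_posUnipotent (F := K) ((C.g.isPosRoot_iff α).2 ⟨hα, hα'⟩) 1) (1 : K)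
  refine C.le_M_of_two hQ hrank hco (mul_mem (C.xG_mem_M hα' (map_one _)) C.top_mem_M) (fun h => ?_) ?_
    (C.not_topConj_pair hα hα' hαt (pairTerms_of_check C.g hα' hok))
  · have h1 : C.g.xG (⟨α, hα'⟩ : Fin D.nroots) (1 : K) = C.g.xG (⟨top D, top_lt C.g⟩ : Fin D.nroots) (-1) := by
      rw [← C.g.xG_inv]
      exact eq_inv_of_mul_eq_one_left h
    have := congrArg Fin.val (root_eq_of_xG_eq C.g one_ne_zero h1)
    simp only at this
    omega
  · rw [show C.g.xG α (1 : K) * C.g.xG (top D) 1 * (C.g.xG α (1 : K) * C.g.xG (top D) 1) =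
      C.g.xG α (1 : K) * (C.g.xG (top D) 1 * C.g.xG α (1 : K)) * C.g.xG (top D) 1 by group, ← hc.eq,
      show C.g.xG α (1 : K) * (C.g.xG α (1 : K) * C.g.xG (top D) 1) * C.g.xG (top D) 1 =
      (C.g.xG α (1 : K) * C.g.xG α 1) * (C.g.xG (top D) 1 * C.g.xG (top D) 1) by group,
      C.g.xG_add, C.g.xG_add, CharTwo.add_self_eq_zero, C.g.xG_zero, C.g.xG_zero, one_mul]

/-- The dichotomy for one datum with a pencil. -/
theorem eq_of_pencil {γ α : ℕ} (hγ : γ < D.nroots) (hα : α < D.nroots)
    (hok : pencilOK D C.long γ α = true) (hγl : C.long γ = true) (hαl : C.long α = true)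
    (hshort : shortCovOK D C.long = true) (hrad : C.TopRat → C.RadRat)
    (htwo : CharP K 2 → C.RadRat → C.H = C.M) : C.H = C.M ∨ C.H = D.group K := by
  by_cases hT : C.TopRat
  · left
    by_cases h2 : (2 : K) = 0
    · exact htwo (CharTwo.of_one_ne_zero_of_two_eq_zero one_ne_zero h2) (hrad hT)
    · exact le_antisymm (C.le_M_of_pencil h2 hT (hrad hT) hγ hα hok) C.M_le_H
  · right
    simp only [pencilOK, Bool.and_eq_true, decide_eq_true_eq] at hok
    obtain ⟨⟨⟨⟨⟨⟨⟨⟨⟨⟨⟨⟨⟨⟨⟨⟨⟨-, -⟩, k3⟩, k4⟩, -⟩, -⟩, -⟩, -⟩, -⟩, -⟩, -⟩, -⟩, -⟩, -⟩, -⟩, -⟩, -⟩, k18⟩ := hok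
    exact C.eq_group_of_topSet
      (C.topSet_eq_top (C.topSet_mul_of_pencil hγ hα hγl hαl (Ne.symm k3) k4 (Or.inl rfl) k18) hT)
      (shortCov_of_check hshort)

end Ctx

lemma charTwo_or (K : Type*) [Field K] : CharP K 2 ∨ (2 : K) ≠ 0 := by
  by_cases h : (2 : K) = 0
  · exact Or.inl (CharTwo.of_one_ne_zero_of_two_eq_zero one_ne_zero h)
  · exact Or.inr h

theorem eq_G2 (C : Ctx chevG2 K) (hlong : C.long = longOf shortG2) : C.H = C.M ∨ C.H = chevG2.group K := by
  refine C.eq_of_pencil (γ := 6) (α := 10) (by decide) (by decide) (hlong ▸ (by decide +kernel))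
    (hlong ▸ (by decide +kernel)) (hlong ▸ (by decide +kernel)) (hlong ▸ (by decide +kernel)) (fun hT => ?_)
    fun _ hQ => C.short_witness hQ (by decide) (topCo_of_check C.g checksG2 structChecksG2 (by decide +kernel))
      (s := 7) (by decide +kernel) (by decide) (hlong ▸ (by decide +kernel))
  by_cases h3 : (3 : K) = 0
  · haveI : CharP K 3 := by
      obtain ⟨c, hc⟩ := CharP.exists K
      have hd : c ∣ 3 := (CharP.cast_eq_zero_iff K c 3).1 (by exact_mod_cast h3)
      rcases (Nat.dvd_prime Nat.prime_three).1 hd with rfl | rfl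
      · exact absurd rfl (CharP.char_ne_one K 1)
      · exact hc
    exact radRat_G2 C hT
  · exact C.radRat_of_good hT (good_of_check C.g (e := 3) (by decide +kernel) (by exact_mod_cast h3))

theorem eq_F4 (C : Ctx chevF4 K) (hlong : C.long = longOf shortF4) : C.H = C.M ∨ C.H = chevF4.group K := by
  refine C.eq_of_pencil (γ := 24) (α := 46) (by decide) (by decide) (hlong ▸ (by decide +kernel))
    (hlong ▸ (by decide +kernel)) (hlong ▸ (by decide +kernel)) (hlong ▸ (by decide +kernel)) (fun hT => ?_)
    fun _ hQ => C.short_witness hQ (by decide) (topCo_of_check C.g checksF4 structChecksF4 (by decide +kernel))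
      (s := 33) (by decide +kernel) (by decide) (hlong ▸ (by decide +kernel))
  rcases charTwo_or K with h | h
  · exact radRat_F4 C hT
  · exact C.radRat_of_good hT (good_of_check C.g (e := 2) (by decide +kernel) (by exact_mod_cast h))

theorem eq_B2 (C : Ctx chevB2 K) (hlong : C.long = longOf shortB2) : C.H = C.M ∨ C.H = chevB2.group K := by
  by_cases hT : C.TopRat
  · left
    rcases charTwo_or K with h | h
    · exact C.short_witness (radRat_B2 C hT) (by decide)
        (topCo_of_check C.g checksB2 structChecksB2 (by decide +kernel)) (s := 5) (by decide +kernel) (by decide)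
        (hlong ▸ (by decide +kernel))
    · exact le_antisymm (le_M_B2_odd C hlong h hT
        (C.radRat_of_good hT (good_of_check C.g (e := 2) (by decide +kernel) (by exact_mod_cast h)))) C.M_le_H
  · right
    refine C.eq_group_of_topSet (fun x => ?_) (shortCov_of_check (hlong ▸ (by decide +kernel)))
    rcases charTwo_or K with h | h
    · exact b2_two C hlong hT x
    · exact C.topSet_eq_top (b2_mul_odd C hlong h) hT x

theorem eq_D4 (C : Ctx chevD4 K) (hlong : C.long = longOf []) : C.H = C.M ∨ C.H = chevD4.group K :=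
  C.eq_of_pencil (γ := 14) (α := 22) (by decide) (by decide) (hlong ▸ (by decide +kernel))
    (hlong ▸ (by decide +kernel)) (hlong ▸ (by decide +kernel)) (hlong ▸ (by decide +kernel))
    (fun hT => C.radRat_of_good hT (good_of_check C.g (e := 1) (by decide +kernel) (by simp)))
    fun _ hQ => C.pair_witness hQ (by decide) (topCo_of_check C.g checksD4 structChecksD4 (by decide +kernel))
      (α := 12) (by decide +kernel) (by decide) (by decide +kernel) (by decide +kernel)

theorem eq_E6 (C : Ctx chevE6 K) (hlong : C.long = longOf []) : C.H = C.M ∨ C.H = chevE6.group K :=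
  C.eq_of_pencil (γ := 46) (α := 70) (by decide) (by decide) (hlong ▸ (by decide +kernel))
    (hlong ▸ (by decide +kernel)) (hlong ▸ (by decide +kernel)) (hlong ▸ (by decide +kernel))
    (fun hT => C.radRat_of_good hT (good_of_check C.g (e := 1) (by decide +kernel) (by simp)))
    fun _ hQ => C.pair_witness hQ (by decide) (topCo_of_check C.g checksE6 structChecksE6 (by decide +kernel))
      (α := 36) (by decide +kernel) (by decide) (by decide +kernel) (by decide +kernel)

theorem eq_E7 (C : Ctx chevE7 K) (hlong : C.long = longOf []) : C.H = C.M ∨ C.H = chevE7.group K :=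
  C.eq_of_pencil (γ := 93) (α := 124) (by decide) (by decide) (hlong ▸ (by decide +kernel))
    (hlong ▸ (by decide +kernel)) (hlong ▸ (by decide +kernel)) (hlong ▸ (by decide +kernel))
    (fun hT => C.radRat_of_good hT (good_of_check C.g (e := 1) (by decide +kernel) (by simp)))
    fun _ hQ => C.pair_witness hQ (by decide) (topCo_of_check C.g checksE7 structChecksE7 (by decide +kernel))
      (α := 63) (by decide +kernel) (by decide) (by decide +kernel) (by decide +kernel)

theorem eq_E8 (C : Ctx chevE8 K) (hlong : C.long = longOf []) : C.H = C.M ∨ C.H = chevE8.group K :=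
  C.eq_of_pencil (γ := 120) (α := 238) (by decide) (by decide) (hlong ▸ (by decide +kernel))
    (hlong ▸ (by decide +kernel)) (hlong ▸ (by decide +kernel)) (hlong ▸ (by decide +kernel))
    (fun hT => C.radRat_of_good hT (good_of_check C.g (e := 1) (by decide +kernel) (by simp)))
    fun _ hQ => C.pair_witness hQ (by decide) (topCo_of_check C.g checksE8 structChecksE8 (by decide +kernel))
      (α := 121) (by decide +kernel) (by decide) (by decide +kernel) (by decide +kernel)

/-- Maximality. -/
theorem maximal {D : ChevalleyDatum} (hD : D ∈ [chevG2, chevB2, chevD4, chevF4, chevE6, chevE7, chevE8])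
    (E : FieldExt K) (H : Subgroup (GL D.Idx K)) (lo : ∀ x ∈ D.group K, scalarGL D E.σ x = x → x ∈ H)
    (hi : H ≤ D.group K) :
    H = D.group K ⊓ MonoidHom.eqLocus (scalarGL D E.σ) (MonoidHom.id _) ∨ H = D.group K := by
  have hc := hasComm_of_mem hD
  have hse := suppEq_of_mem hD
  simp only [List.mem_cons, List.not_mem_nil, or_false] at hD
  rcases hD with rfl | rfl | rfl | rfl | rfl | rfl | rfl
  · exact eq_G2 ⟨goodG2, hc, hse, _, topG2, E, H, lo, hi⟩ rfl
  · exact eq_B2 ⟨goodB2, hc, hse, _, topB2, E, H, lo, hi⟩ rfl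
  · exact eq_D4 ⟨goodD4, hc, hse, _, topD4, E, H, lo, hi⟩ rfl
  · exact eq_F4 ⟨goodF4, hc, hse, _, topF4, E, H, lo, hi⟩ rfl
  · exact eq_E6 ⟨goodE6, hc, hse, _, topE6, E, H, lo, hi⟩ rfl
  · exact eq_E7 ⟨goodE7, hc, hse, _, topE7, E, H, lo, hi⟩ rfl
  · exact eq_E8 ⟨goodE8, hc, hse, _, topE8, E, H, lo, hi⟩ rfl

end CfsgLib.Chev.SubMax
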