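import Cfsg.Agent.Lib.Chev.SubMaxCent

/-!
When the highest root group of the overgroup is rational, so is the radical part, apart from short roots in
special characteristic.
-/

set_option autoImplicit false
set_option linter.unusedSectionVars false

namespace CfsgLib.Chev.SubMax

open Cfsg.Lie Matrix CfsgLib.Chev

/-- Membership in the radical, as a check. -/
noncomputable def radB (D : ChevalleyDatum) (r : ℕ) : Bool :=
  decide (half D ≤ r) && decide (0 < topW D r)

/-- The coefficient of the highest root, as a check. -/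
noncomputable def nF (D : ChevalleyDatum) (r a : ℕ) : ℤ :=
  bif decide (a = r) then 0 else ((fterms D r a).map fun c => c.2.1).sum

/-- Every root of the radical has a partner with coefficient `±1` or `±e`. -/
noncomputable def goodOK (D : ChevalleyDatum) (e : ℤ) : Bool :=
  allR (fun r => !(radB D r && !(decide (r = top D))) || anyR (fun a => radB D a &&
    (decide (nF D r a = 1) || decide (nF D r a = -1) || decide (nF D r a = e) || decide (nF D r a = -e)))
      (upto D.nroots)) (upto D.nroots)

/-- The roots of the radical whose coefficients all vanish mod `p`. -/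
noncomputable def badOK (D : ChevalleyDatum) (p : ℤ) (l : List ℕ) : Bool :=
  decide ((List.range' (half D) (D.nroots - half D)).filter (fun r => decide (r ∈ l)) = l) &&
  allR (fun r => !(radB D r) ||
    (bif decide (r ∈ l) then allR (fun a => !(radB D a) || decide (nF D r a % p = 0)) (upto D.nroots)
      else anyR (fun a => radB D a && !(decide (nF D r a % p = 0))) (upto D.nroots))) (upto D.nroots) &&
  l.all (radB D)

variable {D : ChevalleyDatum} (g : Good D)
include g

lemma radB_iff {r : ℕ} (hr : r < D.nroots) : radB D r = true ↔ r ∈ radSet D := by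
  simp [radB, radSet, hr]

lemma nF_eq {r a : ℕ} (hr : r < D.nroots) (ha : a < D.nroots) : nF D r a = nRad g r a := by
  rw [nF, nRad, g.fterms_eq hr ha]
  by_cases h : a = r <;> simp [h]

lemma good_of_check {e : ℤ} (hok : goodOK D e = true) {K : Type*} [Field K] (he : (e : K) ≠ 0) :
    ∀ r ∈ radSet D, r ≠ top D → ∃ a ∈ radSet D, (nRad g r a : K) ≠ 0 := by
  intro r hr hne
  have h := allR_upto hok hr.1
  simp only [Bool.or_eq_true, (radB_iff g hr.1).2 hr, hne, decide_false, Bool.not_false, Bool.and_true,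
    Bool.not_true, Bool.false_eq_true, false_or] at h
  rw [anyR_eq, List.any_eq_true] at h
  obtain ⟨a, ha, h1⟩ := h
  have ha' : a < D.nroots := by rw [upto_eq] at ha; exact List.mem_range.1 ha
  simp only [Bool.and_eq_true, Bool.or_eq_true, decide_eq_true_eq] at h1
  refine ⟨a, (radB_iff g ha').1 h1.1, ?_⟩
  rw [← nF_eq g hr.1 ha']
  rcases h1.2 with ((h2 | h2) | h2) | h2 <;> simp [h2, he]

lemma bad_of_check {l : List ℕ} {p : ℕ} (hok : badOK D p l = true) {K : Type*} [Field K] [CharP K p] :
    (∀ r ∈ l, r ∈ radSet D ∧ ∀ a ∈ radSet D, (nRad g r a : K) = 0) ∧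
      (∀ r ∈ radSet D, r ∉ l → ∃ a ∈ radSet D, (nRad g r a : K) ≠ 0) ∧
      (List.range' (half D) (D.nroots - half D)).filter (fun r => decide (r ∈ l)) = l := by
  simp only [badOK, Bool.and_eq_true, decide_eq_true_eq, List.all_eq_true] at hok
  obtain ⟨⟨h0, h1⟩, h2⟩ := hok
  have hlt : ∀ r ∈ l, r < D.nroots := fun r hr => by
    rw [← h0, List.mem_filter, List.mem_range'_1] at hr
    omega
  refine ⟨fun r hr => ⟨(radB_iff g (hlt r hr)).1 (h2 r hr), fun a ha => ?_⟩, fun r hr hrl => ?_, h0⟩
  · have h := allR_upto h1 (hlt r hr)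
    simp only [h2 r hr, Bool.not_true, Bool.false_or, hr, decide_true, cond_true] at h
    have h' := allR_upto h ha.1
    simp only [(radB_iff g ha.1).2 ha, Bool.not_true, Bool.false_or, decide_eq_true_eq] at h'
    rw [← nF_eq g (hlt r hr) ha.1, CharP.intCast_eq_zero_iff K p]
    exact Int.dvd_of_emod_eq_zero h'
  · have h := allR_upto h1 hr.1
    simp only [(radB_iff g hr.1).2 hr, Bool.not_true, Bool.false_or, hrl, decide_false, cond_false] at h
    rw [anyR_eq, List.any_eq_true] at h
    obtain ⟨a, ha, h3⟩ := h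
    have ha' : a < D.nroots := by rw [upto_eq] at ha; exact List.mem_range.1 ha
    simp only [Bool.and_eq_true, Bool.not_eq_true', decide_eq_false_iff_not] at h3
    refine ⟨a, (radB_iff g ha').1 h3.1, ?_⟩
    rw [← nF_eq g hr.1 ha', Ne, CharP.intCast_eq_zero_iff K p]
    exact fun h => h3.2 (Int.emod_eq_zero_of_dvd h)

/-- A product over a supporting sublist. -/
lemma xProd_eq_list {K : Type*} [Field K] {f : ℕ → K} {l : List ℕ}
    (hl : (List.range' (half D) (D.nroots - half D)).filter (fun r => decide (r ∈ l)) = l)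
    (hf : ∀ r, r ∉ l → f r = 0) : g.xProd f (half D) = (l.map fun r => g.xG r (f r)).prod := by
  have key : ∀ L : List ℕ, (L.map fun r => g.xG r (f r)).prod =
      ((L.filter fun r => decide (r ∈ l)).map fun r => g.xG r (f r)).prod := by
    intro L
    induction L with
    | nil => rfl
    | cons a L ih =>
      by_cases h : a ∈ l
      · rw [List.filter_cons_of_pos (by simpa using h), List.map_cons, List.prod_cons, List.map_cons,
          List.prod_cons, ih]
      · rw [List.filter_cons_of_neg (by simpa using h), List.map_cons, List.prod_cons, hf a h, g.xG_zero,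
          one_mul, ih]
  rw [Good.xProd, key, hl]

namespace Ctx

omit g

variable {D : ChevalleyDatum} {K : Type*} [Field K] [Fintype K] (C : Ctx D K)

/-- The highest root group of the overgroup is rational. -/
def TopRat : Prop := ∀ t : K, C.g.xG (top D) t ∈ C.H → C.E.σ t = t

/-- Conjugating a root element by a Weyl representative. -/
lemma exists_move (l : List (Fin D.rank)) (a : Fin D.nroots) :
    ∃ e : K, e ≠ 0 ∧ C.E.σ e = e ∧ ∀ t : K,
      C.g.wordN l * C.g.xG a t * (C.g.wordN l)⁻¹ = C.g.xG (C.g.wperm l a) (e * t) := by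
  obtain ⟨e, he⟩ := C.g.acts_wordN (F := K) l a
  refine ⟨e, e.ne_zero, ?_, he⟩
  have h := congrArg C.sG (he 1)
  rw [map_mul, map_mul, map_inv, C.sG_wordN, C.sG_xG a.2, C.sG_xG (C.g.wperm l a).2, map_one, he] at h
  simpa using (xG_inj C.g (C.g.wperm l a).2 h).symm

lemma move_mem (l : List (Fin D.rank)) (a : Fin D.nroots) {t : K} (ht : C.g.xG a t ∈ C.H) :
    ∃ e : K, e ≠ 0 ∧ C.E.σ e = e ∧ C.g.xG (C.g.wperm l a) (e * t) ∈ C.H := by
  obtain ⟨e, he0, he1, he⟩ := C.exists_move l a
  refine ⟨e, he0, he1, ?_⟩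
  rw [← he]
  exact mul_mem (mul_mem (C.M_le_H (C.wordN_mem_M l)) ht) (inv_mem (C.M_le_H (C.wordN_mem_M l)))

lemma fixed_of_mul {e t : K} (he0 : e ≠ 0) (he : C.E.σ e = e) (h : C.E.σ (e * t) = e * t) :
    C.E.σ t = t := by
  rw [map_mul, he] at h
  exact mul_left_cancel₀ he0 h

variable (hT : C.TopRat)
include hT

lemma long_rat {a : Fin D.nroots} (ha : C.long a = true) {t : K} (ht : C.g.xG a t ∈ C.H) :
    C.E.σ t = t := by
  obtain ⟨l, hl⟩ := exists_word_top C.g C.T ha
  obtain ⟨e, he0, he1, he⟩ := C.move_mem l a ht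
  rw [hl] at he
  exact C.fixed_of_mul he0 he1 (hT _ he)

/-- An element of the radical part differs by a rational element from one supported on vanishing coefficients. -/
theorem rad_reduce {x : GL D.Idx K} (hx : x ∈ C.H) (hxQ : x ∈ topQ D K) :
    ∃ f : ℕ → K, (∀ r, f r ≠ 0 → r ∈ radSet D ∧ ∀ a ∈ radSet D, (nRad C.g r a : K) = 0) ∧
      C.g.xProd f (half D) ∈ C.H ∧ (C.g.xProd f (half D) ∈ C.M → x ∈ C.M) := by
  classical
  obtain ⟨f, hf, rfl⟩ := exists_coords C.g C.hc C.T hxQ
  have hfix : ∀ r ∈ radSet D, ∀ a ∈ radSet D, (nRad C.g r a : K) ≠ 0 → C.E.σ (f r) = f r := by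
    intro r hr a ha hne
    obtain ⟨S, hS⟩ : ∃ S : K, S = ((List.range' (half D) (D.nroots - half D)).map fun r =>
      (nRad C.g r a : K) * f r).sum := ⟨_, rfl⟩
    have h1 := coords_conj C.g C.hc C.T ha hf 1
    rw [← hS, mul_one] at h1
    have haM := C.M_le_H (C.xG_mem_M ha.1 (t := 1) (map_one _))
    have h2 : C.g.xG (top D) S ∈ C.H := by
      rw [show C.g.xG (top D) S = (C.g.xG a 1)⁻¹ * (C.g.xG a 1 * C.g.xG (top D) S) by group, ← h1]
      exact mul_mem (inv_mem haM) (mul_mem (mul_mem hx haM) (inv_mem hx))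
    have h3 := hT _ h2
    have hSr : S = (nRad C.g r a : K) * f r := by
      rw [hS, List.sum_map_eq_nsmul_single r _ fun s hsr hs => ?_, List.count_eq_one_of_mem
        (List.nodup_range' _) (by rw [List.mem_range'_1]; have := hr.1; have := hr.2.1; omega), one_nsmul]
      by_cases hsrad : s ∈ radSet D
      · by_contra h0
        exact hsr (partner_unique C.g C.hc C.T hsrad hr ha
          (fun h => h0 (by rw [h, Int.cast_zero, zero_mul]))
          (fun h => hne (by rw [h, Int.cast_zero])))
      · rw [hf s hsrad, mul_zero]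
    rw [hSr, map_mul, map_intCast] at h3
    exact mul_left_cancel₀ hne h3
  let f1 : ℕ → K := fun r => if ∀ a ∈ radSet D, (nRad C.g r a : K) = 0 then 0 else f r
  let f2 : ℕ → K := fun r => if ∀ a ∈ radSet D, (nRad C.g r a : K) = 0 then f r else 0
  have hf1 : ∀ r, r ∉ radSet D → f1 r = 0 := fun r hr => by simp [f1, hf r hr]
  have hf2 : ∀ r, r ∉ radSet D → f2 r = 0 := fun r hr => by simp [f2, hf r hr]
  have hadd : C.g.xProd f (half D) = C.g.xProd f1 (half D) * C.g.xProd f2 (half D) := by
    rw [xProd_add C.g C.hc C.T hf1 hf2 fun r _ a ha => by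
      by_cases h : ∀ a ∈ radSet D, (nRad C.g r a : K) = 0
      · rw [h a ha, zero_mul]
      · simp only [f2, if_neg h, mul_zero]]
    refine congrArg (fun f => C.g.xProd f (half D)) (funext fun r => ?_)
    by_cases h : ∀ a ∈ radSet D, (nRad C.g r a : K) = 0
    · simp only [f1, f2, Pi.add_apply, if_pos h, zero_add]
    · simp only [f1, f2, Pi.add_apply, if_neg h, add_zero]
  have hm : C.g.xProd f1 (half D) ∈ C.M := by
    rw [Good.xProd]
    refine Subgroup.list_prod_mem _ fun y hy => ?_
    obtain ⟨r, hr, rfl⟩ := List.mem_map.1 hy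
    rw [List.mem_range'_1] at hr
    refine C.xG_mem_M (by omega) ?_
    by_cases h : ∀ a ∈ radSet D, (nRad C.g r a : K) = 0
    · simp only [f1, if_pos h, map_zero]
    · by_cases hrad : r ∈ radSet D
      · simp only [f1, if_neg h]
        push Not at h
        obtain ⟨a, ha, hne⟩ := h
        exact hfix r hrad a ha hne
      · simp [hf1 r hrad]
  refine ⟨f2, fun r hr => ?_, ?_, fun h => hadd ▸ mul_mem hm h⟩
  · by_cases h : ∀ a ∈ radSet D, (nRad C.g r a : K) = 0
    · exact ⟨by_contra fun h' => hr (hf2 r h'), h⟩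
    · exact absurd (if_neg h) hr
  · rw [show C.g.xProd f2 (half D) = (C.g.xProd f1 (half D))⁻¹ * C.g.xProd f (half D) by rw [hadd]; group]
    exact mul_mem (inv_mem (C.M_le_H hm)) hx

/-- Without vanishing coefficients the radical part is rational. -/
theorem radRat_of_good (hgood : ∀ r ∈ radSet D, r ≠ top D → ∃ a ∈ radSet D, (nRad C.g r a : K) ≠ 0) :
    C.RadRat := by
  intro x hx hxQ
  obtain ⟨f, hf, hfH, hfM⟩ := C.rad_reduce hT hx hxQ
  refine hfM ?_
  have hl : (List.range' (half D) (D.nroots - half D)).filter (fun r => decide (r ∈ [top D])) = [top D] := by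
    have hn := C.g.nroots_eq
    rw [show D.nroots - half D = (D.nroots - half D - 1) + 1 by omega, List.range'_1_concat, List.filter_append,
      List.filter_eq_nil_iff.2 fun r hr => by
        rw [List.mem_range'_1] at hr
        simp only [List.mem_singleton, decide_eq_true_eq, top]
        omega]
    have : half D + (D.nroots - half D - 1) = top D := by unfold top; omega
    simp [this]
  have hsupp : ∀ r, r ∉ [top D] → f r = 0 := fun r hr => by
    by_contra h0
    obtain ⟨h1, h2⟩ := hf r h0
    obtain ⟨a, ha, hne⟩ := hgood r h1 (by simpa using hr)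
    exact hne (h2 a ha)
  rw [xProd_eq_list C.g hl hsupp] at hfH ⊢
  simp only [List.map_cons, List.map_nil, List.prod_cons, List.prod_nil, mul_one] at hfH ⊢
  exact C.xG_mem_M (top_lt C.g) (hT _ hfH)

end Ctx

end CfsgLib.Chev.SubMax
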