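import Cfsg.Agent.Lib.Chev.SubMaxCtx
import Cfsg.Agent.Lib.Chev.Simple

/-!
The centraliser of the radical over the subfield, and the stabiliser of the highest root group in an overgroup
whose radical part lies over the subfield.
-/

set_option autoImplicit false
set_option linter.unusedSectionVars false

namespace CfsgLib.Chev

open Cfsg.Lie Matrix

namespace SubMax

variable {D : ChevalleyDatum} (g : Good D) {F : Type*} [Field F] [Fintype F]
variable (hc : HasComm D) {long : ℕ → Bool} (T : TopData g long)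
include g

lemma topW_lin {k r s : ℕ} (hk : k < D.nroots) (hr : r < D.nroots) (hs : s < D.nroots) {a b : ℤ}
    (h : ∀ j < D.rank, g.co k j = a * g.co r j + b * g.co s j) :
    topW D k = a * topW D r + b * topW D s := by
  have e : g.lam (topC D) ⟨k, hk⟩ = (a : ℝ) * g.lam (topC D) ⟨r, hr⟩ + (b : ℝ) * g.lam (topC D) ⟨s, hs⟩ := by
    simp only [Good.lam, Finset.mul_sum, ← Finset.sum_add_distrib]
    refine Finset.sum_congr rfl fun q _ => ?_
    rw [h q q.2]
    push_cast
    ring
  rw [lam_topC g, lam_topC g, lam_topC g] at e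
  exact_mod_cast e

include hc T

/-- The positive unipotent group normalises the upper parts of the radical. -/
lemma pos_le_normalizer_rad {m : ℕ} (hm : half D ≤ m) :
    D.posUnipotent F ≤ Subgroup.normalizer (rootGen D F (radSet D ∩ Set.Ici m) : Set (GL D.Idx F)) := by
  rw [g.posUnipotent_eq]
  refine g.rootGen_le fun s hS hs u => g.le_normalizer_of_conj (fun r hr hrn t v => ?_) (g.xG_mem_rootSubgroup s u)
  rcases eq_or_ne r s with rfl | hrs
  · rw [(xG_commute_self g r v t).eq, mul_inv_cancel_right]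
    exact g.mem_rootGen hrn hr t
  refine g.conj_mem hc hrn hs hr hrs (ne_neg_of_pos g hr.1.2.1 hS hs) (fun k i j hk hi hj hco => ?_) t v
  have h1 := g.wt_lin hco
  have h2 := topW_lin g hk hs hrn hco
  have hws := g.wt_pos (show half D ≤ s from hS) hs
  have hwr := g.wt_pos hr.1.2.1 hrn
  have hwk : g.wt r < g.wt k := by
    rw [h1]
    nlinarith [show (1 : ℤ) ≤ i from by exact_mod_cast hi, show (1 : ℤ) ≤ j from by exact_mod_cast hj]
  have hk2 := g.lt_of_wt_lt hrn hwk
  refine ⟨⟨hk, by have := hr.1.2.1; omega, ?_⟩, le_trans (show m ≤ r from hr.2) hk2.le⟩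
  have h3 := T.w_nonneg s hS hs
  have h4 := hr.1.2.2
  rw [h2]
  nlinarith [show (0 : ℤ) ≤ i from by exact_mod_cast Nat.zero_le i, show (1 : ℤ) ≤ j from by exact_mod_cast hj]

/-- Conjugates of a root element of the radical by positive elements. -/
lemma pos_conj_rad {u : GL D.Idx F} (hu : u ∈ D.posUnipotent F) {a : ℕ} (ha : a ∈ radSet D) (t : F) :
    ∃ z ∈ rootGen D F (radSet D ∩ Set.Ici (a + 1)), u * g.xG a t * u⁻¹ = g.xG a t * z := by
  obtain ⟨N, hN⟩ : ∃ N, N = rootGen D F (radSet D ∩ Set.Ici (a + 1)) := ⟨_, rfl⟩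
  have hnorm : D.posUnipotent F ≤ Subgroup.normalizer (N : Set (GL D.Idx F)) :=
    hN ▸ pos_le_normalizer_rad g hc T (by have := ha.2.1; omega)
  let K : Subgroup (GL D.Idx F) :=
    { carrier := {u | u ∈ D.posUnipotent F ∧ (g.xG a t)⁻¹ * (u * g.xG a t * u⁻¹) ∈ N}
      one_mem' := ⟨one_mem _, by simp⟩
      mul_mem' := fun {x y} hx hy => ⟨mul_mem hx.1 hy.1, by
        have h1 := (Subgroup.mem_normalizer_iff.1 (hnorm hx.1) _).1 hy.2
        rw [show (g.xG a t)⁻¹ * (x * y * g.xG a t * (x * y)⁻¹) = (g.xG a t)⁻¹ * (x * g.xG a t * x⁻¹) *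
          (x * ((g.xG a t)⁻¹ * (y * g.xG a t * y⁻¹)) * x⁻¹) by group]
        exact mul_mem hx.2 h1⟩
      inv_mem' := fun {x} hx => ⟨inv_mem hx.1, by
        have h1 := (Subgroup.mem_normalizer_iff.1 (hnorm (inv_mem hx.1)) _).1 (inv_mem hx.2)
        convert h1 using 1
        group⟩ }
  have hle : D.posUnipotent F ≤ K := by
    rw [g.posUnipotent_eq]
    refine g.rootGen_le fun r hS hr v =>
      ⟨g.xG_mem_posUnipotent ((g.isPosRoot_iff r).2 ⟨hS, hr⟩) v, ?_⟩
    rcases eq_or_ne a r with rfl | hne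
    · rw [(xG_commute_self g a v t).eq, mul_inv_cancel_right, inv_mul_cancel]
      exact one_mem _
    rw [g.xG_conj hc ha.1 hr hne (ne_neg_of_pos g ha.2.1 hS hr), inv_mul_cancel_left]
    refine Subgroup.list_prod_mem _ fun z hz => ?_
    obtain ⟨c, hc', rfl⟩ := List.mem_map.1 hz
    obtain ⟨h1, h2, h3, h4⟩ := g.commTerms_co hc hr ha.1 c hc'
    have h5 := g.wt_lin h4
    have h6 := topW_lin g h1 hr ha.1 h4
    have hwr := g.wt_pos (show half D ≤ r from hS) hr
    have hwa := g.wt_pos ha.2.1 ha.1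
    have hlt : g.wt a < g.wt c.1 := by
      rw [h5]
      nlinarith [show (1 : ℤ) ≤ (c.2.2.1 : ℤ) by exact_mod_cast h2,
        show (1 : ℤ) ≤ (c.2.2.2 : ℤ) by exact_mod_cast h3]
    have hk := g.lt_of_wt_lt ha.1 hlt
    rw [hN]
    refine g.mem_rootGen h1 (show c.1 ∈ radSet D ∩ Set.Ici (a + 1) from
      ⟨⟨h1, by have := ha.2.1; omega, ?_⟩, hk⟩) _
    have := T.w_nonneg r hS hr
    have := ha.2.2
    rw [h6]
    nlinarith [show (0 : ℤ) ≤ (c.2.2.1 : ℤ) from by positivity,
      show (1 : ℤ) ≤ (c.2.2.2 : ℤ) by exact_mod_cast h3]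
  exact ⟨_, hN ▸ (hle hu).2, by group⟩

/-- A root element that is an element of a higher part is trivial. -/
lemma coeff_eq {a : ℕ} (ha : a ∈ radSet D) {s t : F} {y z : GL D.Idx F}
    (hy : y ∈ rootGen D F (radSet D ∩ Set.Ici (a + 1))) (hz : z ∈ rootGen D F (radSet D ∩ Set.Ici (a + 1)))
    (h : g.xG a s * y = g.xG a t * z) : s = t :=
  (g.Ici_unique ha.2.1 ha.1 (g.rootGen_mono (fun _ hr _ => hr.2) hy) (g.rootGen_mono (fun _ hr _ => hr.2) hz) h).1

omit hc in
/-- A Weyl element fixing the radical roots is trivial. -/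
lemma wperm_eq_one_of_fix {l : List (Fin D.rank)}
    (h : ∀ a : Fin D.nroots, (a : ℕ) ∈ radSet D → g.wperm l a = a) : g.wperm l = 1 := by
  have hs : ∀ i : Fin D.rank, g.wperm l (g.sroot i) = g.sroot i := by
    intro i
    by_cases hi : topW D (D.simple i) = 0
    · obtain ⟨a, ha, b, hb, hab⟩ := T.span i hi
      refine g.co_ext fun j hj => ?_
      have e1 : ∀ q : Fin D.rank, g.co b q = g.co a q + g.co (D.simple i) q := fun q => hab q q.2
      have h1 := g.co_wperm l ⟨a, ha.1⟩ hj
      have h2 := g.co_wperm l ⟨b, hb.1⟩ hj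
      have h3 := g.co_wperm l (g.sroot i) hj
      rw [h ⟨a, ha.1⟩ ha] at h1
      rw [h ⟨b, hb.1⟩ hb] at h2
      have h4 := hab j hj
      simp only [e1, add_mul, Finset.sum_add_distrib] at h2
      rw [show ((g.sroot i) : ℕ) = D.simple i from rfl] at h3 ⊢
      linarith
    · exact h (g.sroot i) ⟨g.simple_lt i.2, g.simple_pos i.2, by
        show 0 < topW D (D.simple i)
        have := T.w_nonneg _ (g.simple_pos i.2) (g.simple_lt i.2); omega⟩
  refine Equiv.ext fun u => g.co_ext fun j hj => ?_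
  have h1 := g.co_wperm l u hj
  simp only [hs] at h1
  rw [h1, Equiv.Perm.one_apply]
  rw [Finset.sum_eq_single ⟨j, hj⟩]
  · rw [show ((g.sroot ⟨j, hj⟩ : Fin D.nroots) : ℕ) = D.simple j from rfl, g.co_simple hj hj, if_pos rfl,
      mul_one]
  · intro q _ hq
    rw [show ((g.sroot q : Fin D.nroots) : ℕ) = D.simple q from rfl, g.co_simple q.2 hj,
      if_neg (fun e => hq (Fin.ext e)), mul_zero]
  · exact fun h => absurd (Finset.mem_univ _) h

omit hc in
/-- A torus element fixing the radical root groups is trivial. -/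
lemma torus_eq_one_of_fix {h : GL D.Idx F} (hh : h ∈ D.diagonalSubgroup F)
    (hfix : ∀ a ∈ radSet D, h * g.xG a 1 * h⁻¹ = g.xG a 1) : h = 1 := by
  rw [g.diagonal_eq_range] at hh
  obtain ⟨c, rfl⟩ := hh
  have hχ : ∀ a ∈ radSet D, ∏ i : Fin D.rank, c i ^ D.cartan i a = 1 := fun a ha => by
    have h1 := hfix a ha
    rw [g.torHom_conj_xG c ha.1] at h1
    exact Units.ext (by simpa using xG_inj g ha.1 h1)
  have hsimple : ∀ j : Fin D.rank, ∏ i : Fin D.rank, c i ^ D.cartan i (D.simple j) = 1 := fun j => by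
    by_cases hj : topW D (D.simple j) = 0
    · obtain ⟨a, ha, b, hb, hab⟩ := T.span j hj
      have e : ∀ i : Fin D.rank, D.cartan i b = D.cartan i a + D.cartan i (D.simple j) := fun i => by
        rw [g.cartan_eq_sum hb.1 i.2, g.cartan_eq_sum ha.1 i.2, g.cartan_eq_sum (g.simple_lt j.2) i.2,
          ← Finset.sum_add_distrib]
        exact Finset.sum_congr rfl fun q hq => by rw [hab q (Finset.mem_range.1 hq)]; ring
      have h1 := hχ b hb
      simp only [e, _root_.zpow_add, Finset.prod_mul_distrib, hχ a ha, one_mul] at h1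
      exact h1
    · exact hχ _ ⟨g.simple_lt j.2, g.simple_pos j.2, by
        have := T.w_nonneg _ (g.simple_pos j.2) (g.simple_lt j.2); omega⟩
  refine g.diagonal_eq_one_of_central (g.torHom_mem c) fun r hr t => ?_
  rw [g.torHom_conj_xG c hr]
  suffices h1 : ∏ i : Fin D.rank, c i ^ D.cartan i r = 1 by rw [h1, Units.val_one, one_mul]
  calc ∏ i : Fin D.rank, c i ^ D.cartan i r
      = ∏ i : Fin D.rank, ∏ j : Fin D.rank, (c i ^ D.cartan i (D.simple j)) ^ g.co r j := by
        refine Finset.prod_congr rfl fun i _ => ?_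
        rw [g.cartan_eq_sum hr i.2, ← Fin.sum_univ_eq_sum_range (fun j => g.co r j * D.cartan i (D.simple j))
          D.rank]
        have key : ∀ (s : Finset (Fin D.rank)) (f : Fin D.rank → ℤ),
            (c i) ^ (∑ j ∈ s, f j) = ∏ j ∈ s, (c i) ^ f j := fun s f => by
          induction s using Finset.induction_on with
          | empty => simp
          | insert a s ha ih => rw [Finset.sum_insert ha, Finset.prod_insert ha, _root_.zpow_add, ih]
        rw [key]
        exact Finset.prod_congr rfl fun j _ => by rw [← _root_.zpow_mul, mul_comm]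
    _ = ∏ j : Fin D.rank, (∏ i : Fin D.rank, c i ^ D.cartan i (D.simple j)) ^ g.co r j := by
        rw [Finset.prod_comm]
        exact Finset.prod_congr rfl fun j _ => (Finset.prod_zpow _ _ _)
    _ = 1 := Finset.prod_eq_one fun j _ => by rw [hsimple j, _root_.one_zpow]

/-- An element centralising the rational radical root elements lies in the radical. -/
theorem mem_topQ_of_commute {d : GL D.Idx F} (hd : d ∈ D.group F)
    (hcomm : ∀ a ∈ radSet D, d * g.xG a 1 * d⁻¹ = g.xG a 1) : d ∈ topQ D F := by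
  have htop := top_mem_radSet g hc T
  have hdP : d ∈ topP g F := mem_topP_of_conj g hc T hd one_ne_zero (hcomm _ htop)
  obtain ⟨b, hb, n, hn, π, hπw, hπ, u, hu, rfl⟩ := g.exists_canonical hc hd
  obtain ⟨v, hv, h, hh, rfl⟩ := g.mem_borel.1 hb
  have hu' := g.minus_le_pos π hu
  have hnP : n ∈ topP g F := by
    rw [show n = (v * h)⁻¹ * (v * h * n * u) * u⁻¹ by group]
    exact mul_mem (mul_mem (inv_mem (borel_le_topP g hc T hb)) hdP) (inv_mem (pos_le_topP g hc T hu'))
  obtain ⟨l, rfl⟩ := g.exists_wperm hπw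
  obtain ⟨e0, he0⟩ := hπ ⟨top D, top_lt g⟩
  have hπtop : g.wperm l ⟨top D, top_lt g⟩ = ⟨top D, top_lt g⟩ := by
    obtain ⟨s, hs⟩ := exists_scalar g hc T hnP
    exact root_eq_of_xG_eq g (mul_ne_zero e0.ne_zero one_ne_zero) ((he0 1).symm.trans (hs 1))
  have hπW : ∀ r : Fin D.nroots, topW D (g.wperm l r) = topW D r := fun r => by
    rw [topW_eq_pair g (g.wperm l r).2, topW_eq_pair g r.2]
    have := g.pair_wperm l ⟨top D, top_lt g⟩ r
    rwa [hπtop] at this
  have hfix : ∀ k : ℕ, ∀ a : Fin D.nroots, (a : ℕ) ∈ radSet D → D.nroots - a.val ≤ k →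
      g.wperm l a = a := by
    intro k
    induction k with
    | zero => intro a _ hk; have := a.2; omega
    | succ k ih =>
      intro a ha hk
      obtain ⟨z, hz, hz'⟩ := pos_conj_rad g hc T hu' ha 1
      obtain ⟨z', hz2, hz2'⟩ := pos_conj_rad g hc T (inv_mem hv) ha 1
      rw [inv_inv] at hz2'
      obtain ⟨χ, hχ⟩ := g.acts_diagonal (inv_mem hh) a
      simp only [Equiv.Perm.one_apply] at hχ
      obtain ⟨e, he⟩ := hπ a
      obtain ⟨A, hA⟩ : ∃ A, A = rootGen D F (radSet D ∩ Set.Ici (a.val + 1)) := ⟨_, rfl⟩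
      have hfixA : ∀ r : Fin D.nroots, (r : ℕ) ∈ radSet D ∩ Set.Ici (a.val + 1) → g.wperm l r = r :=
        fun r hr => ih r hr.1 (by have : a.val + 1 ≤ r.val := hr.2; omega)
      have hnA : n * z * n⁻¹ ∈ A := by
        rw [hA]
        exact g.conj_rootGen hπ (S := radSet D ∩ Set.Ici (a.val + 1))
          (fun r hr => by rw [hfixA r hr]; exact hr) (Subgroup.mem_map_of_mem _ hz)
      have hhA : h⁻¹ * z' * h ∈ A := by
        rw [hA]
        have := (Subgroup.mem_normalizer_iff.1 (g.diagonal_le_normalizer_rootGen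
          (radSet D ∩ Set.Ici (a.val + 1)) (inv_mem hh)) z').1 hz2
        rwa [inv_inv] at this
      have key : g.xG (g.wperm l a) ((e : F) * 1) * (n * z * n⁻¹) =
          g.xG a ((χ : F) * 1) * (h⁻¹ * z' * h) := by
        have h1 := hcomm a ha
        calc g.xG (g.wperm l a) ((e : F) * 1) * (n * z * n⁻¹)
            = n * (u * g.xG a 1 * u⁻¹) * n⁻¹ := by rw [hz', ← he 1]; group
          _ = h⁻¹ * (v⁻¹ * (v * h * n * u * g.xG a 1 * (v * h * n * u)⁻¹) * v) * h := by group
          _ = h⁻¹ * (g.xG a 1 * z') * h := by rw [h1, hz2']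
          _ = _ := by rw [← hχ 1, inv_inv]; group
      have hπrad : ((g.wperm l a : Fin D.nroots) : ℕ) ∈ radSet D := by
        refine ⟨(g.wperm l a).2, ?_, by rw [hπW a]; exact ha.2.2⟩
        by_contra hneg
        have h1 := T.w_nonneg (D.neg (g.wperm l a)) (Nat.not_lt.1 fun h => hneg
          ((g.neg_neg_iff (g.wperm l a).2).1 h)) (g.neg_lt (g.wperm l a).2)
        have h2 : topW D (D.neg (g.wperm l a)) = - topW D (g.wperm l a) := by
          have := topW_lin g (g.neg_lt (g.wperm l a).2) (g.wperm l a).2 (g.wperm l a).2 (a := -1) (b := 0)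
            (fun j hj => by rw [g.co_neg (g.wperm l a).2 hj]; ring)
          simpa using this
        rw [h2, hπW a] at h1
        have := ha.2.2
        omega
      rcases lt_trichotomy (g.wperm l a).val a.val with hlt | heq | hgt
      · exfalso
        have hmono : ∀ y ∈ A, y ∈ rootGen D F (Set.Ici ((g.wperm l a).val + 1)) := fun y hy =>
          g.rootGen_mono (fun r hr _ => by
            have : a.val + 1 ≤ r := hr.2
            simp only [Set.mem_Ici]; omega) (hA ▸ hy)
        have := (g.Ici_unique hπrad.2.1 hπrad.1 (hmono _ hnA)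
          (mul_mem (g.mem_rootGen a.2 (show a.val ∈ Set.Ici ((g.wperm l a).val + 1) from hlt) _) (hmono _ hhA))
          (show g.xG _ ((e : F) * 1) * (n * z * n⁻¹) = g.xG _ 0 * (g.xG a ((χ : F) * 1) * (h⁻¹ * z' * h)) by
            rw [g.xG_zero, one_mul]; exact key)).1
        exact (mul_ne_zero e.ne_zero one_ne_zero) this
      · exact Fin.ext heq
      · exfalso
        have h1 := hfixA _ (show ((g.wperm l a : Fin D.nroots) : ℕ) ∈ radSet D ∩ Set.Ici (a.val + 1) from
          ⟨hπrad, hgt⟩)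
        have := (g.wperm l).injective h1
        rw [this] at hgt
        exact lt_irrefl _ hgt
  have hπ1 : g.wperm l = 1 := wperm_eq_one_of_fix g T fun a ha => hfix _ a ha le_rfl
  rw [hπ1] at hπ hu
  have hu1 : u = 1 := by
    have : rootGen D F (minusSet (1 : Equiv.Perm (Fin D.nroots))) = ⊥ := le_bot_iff.1
      (g.rootGen_le fun r hr _ t => by
        obtain ⟨h, h1, h2⟩ := hr
        simp only [Equiv.Perm.one_apply] at h2
        omega)
    rw [this, Subgroup.mem_bot] at hu
    exact hu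
  have hnd : n ∈ D.diagonalSubgroup F := by
    simpa using g.monomial_same_acts hn (one_mem _) hπ g.acts_one
  subst hu1
  rw [mul_one] at hcomm ⊢
  rw [mul_assoc v h n] at hcomm ⊢
  obtain ⟨t0, ht0⟩ : ∃ t0, t0 = h * n := ⟨_, rfl⟩
  rw [← ht0] at hcomm ⊢
  have ht : t0 = 1 := by
    have htd : t0 ∈ D.diagonalSubgroup F := ht0 ▸ mul_mem hh hnd
    refine torus_eq_one_of_fix g T htd fun a ha => ?_
    obtain ⟨χ, hχ⟩ := g.acts_diagonal htd ⟨a, ha.1⟩
    simp only [Equiv.Perm.one_apply] at hχ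
    obtain ⟨z', hz2, hz2'⟩ := pos_conj_rad g hc T (inv_mem hv) ha 1
    rw [inv_inv] at hz2'
    have h1 : g.xG a ((χ : F) * 1) = g.xG a 1 * z' := by
      rw [← hz2']
      have h2 := hcomm a ha
      calc g.xG a ((χ : F) * 1) = t0 * g.xG a 1 * t0⁻¹ := (hχ 1).symm
        _ = v⁻¹ * (v * t0 * g.xG a 1 * (v * t0)⁻¹) * v := by group
        _ = _ := by rw [h2]
    have h3 := coeff_eq g hc T ha (one_mem _) hz2 ((mul_one _).trans h1)
    rw [show t0 * g.xG a 1 * t0⁻¹ = g.xG a ((χ : F) * 1) from hχ 1, h3]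
  subst ht
  rw [mul_one] at hcomm ⊢
  have key : ∀ k m : ℕ, half D ≤ m → D.nroots - m = k → ∀ y ∈ rootGen D F (Set.Ici m),
      (∀ a ∈ radSet D, ∃ s, y * g.xG a 1 * y⁻¹ * (g.xG a 1)⁻¹ = g.xG (top D) s) → y ∈ topQ D F := by
    intro k
    induction k with
    | zero =>
      intro m _ hk y hy _
      rw [g.Ici_empty (by omega), Subgroup.mem_bot] at hy
      rw [hy]; exact one_mem _
    | succ k ih =>
      intro m hm hk y hy hP
      have hm' : m < D.nroots := by omega
      obtain ⟨c, z, hz, rfl⟩ := g.Ici_step hc hm hm' hy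
      have hzU : z ∈ D.posUnipotent F := by
        rw [g.posUnipotent_eq]
        exact g.rootGen_mono (fun r hr _ => le_trans (by omega) (show m + 1 ≤ r from hr)) hz
      by_cases hmr : m ∈ radSet D
      · refine mul_mem (g.mem_rootGen hm' hmr c) (ih (m + 1) (by omega) (by omega) z hz fun a ha => ?_)
        obtain ⟨s, hs⟩ := hP a ha
        refine ⟨s - (nRad g m a : F) * c, ?_⟩
        have h1 := rad_conj g hc T ha hmr 1 c
        rw [mul_one] at h1
        have hc1 := pos_commute_top g hc T (g.xG_mem_posUnipotent ((g.isPosRoot_iff m).2 ⟨hm, hm'⟩) c)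
          (s - (nRad g m a : F) * c)
        have hc2 := pos_commute_top g hc T (g.xG_mem_posUnipotent ((g.isPosRoot_iff a).2 ⟨ha.2.1, ha.1⟩) 1)
          ((nRad g m a : F) * c)
        have e1 : g.xG m c * (g.xG (top D) (s - (nRad g m a : F) * c) * g.xG a 1) * (g.xG m c)⁻¹ =
            g.xG m c * z * g.xG a 1 * (g.xG m c * z)⁻¹ := by
          rw [← mul_assoc, hc1.eq, mul_assoc (g.xG (top D) _), mul_assoc (g.xG (top D) _), h1, hc2.eq,
            ← mul_assoc, g.xG_add, sub_add_cancel, ← hs]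
          group
        have e2 : g.xG (top D) (s - (nRad g m a : F) * c) * g.xG a 1 = z * g.xG a 1 * z⁻¹ := by
          have h4 : g.xG m c * z * g.xG a 1 * (g.xG m c * z)⁻¹ =
              g.xG m c * (z * g.xG a 1 * z⁻¹) * (g.xG m c)⁻¹ := by group
          rw [h4] at e1
          exact mul_left_cancel (mul_right_cancel e1)
        rw [← e2, mul_inv_cancel_right]
      · have hw : topW D m = 0 := by
          have := T.w_nonneg m hm hm'
          by_contra hne
          exact hmr ⟨hm', hm, by omega⟩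
        obtain ⟨a, ha, kk, cc, rest, hterms, hcc, hktop, hrest⟩ := T.move m hm hm' hw
        have hma : m ≠ a := fun h => hmr (h ▸ ha)
        obtain ⟨hkn, hkp, -, z', hz', hlead⟩ :=
          lead_conj g hc hm hm' ha.2.1 ha.1 hma hterms hrest hz c 1
        obtain ⟨s, hs⟩ := hP a ha
        have hc0 : c = 0 := by
          rw [hlead] at hs
          have hkt : kk < top D := by unfold top at hktop ⊢; omega
          have := (g.Ici_unique hkp hkn hz' (g.mem_rootGen (top_lt g) (show top D ∈ Set.Ici (kk + 1) from hkt) s)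
            (show g.xG kk ((cc : F) * c * 1) * z' = g.xG kk 0 * g.xG (top D) s by
              rw [g.xG_zero, one_mul, hs])).1
          rcases hcc with rfl | rfl <;> simpa using this
        subst hc0
        rw [g.xG_zero, one_mul] at hP ⊢
        exact ih (m + 1) (by omega) (by omega) z hz hP
  refine key _ (half D) le_rfl rfl v (by rwa [← g.posUnipotent_eq]) fun a ha => ⟨0, ?_⟩
  rw [hcomm a ha, mul_inv_cancel, g.xG_zero]

/-- A root of the radical pairs to the highest root with at most one partner. -/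
lemma partner_unique {r s a : ℕ} (hr : r ∈ radSet D) (hs : s ∈ radSet D) (ha : a ∈ radSet D)
    (hNr : nRad g r a ≠ 0) (hNs : nRad g s a ≠ 0) : r = s := by
  have hco : ∀ s ∈ radSet D, nRad g s a ≠ 0 → ∀ j < D.rank, g.co (top D) j = g.co s j + g.co a j := by
    intro s hs hNs j hj
    rw [nRad] at hNs
    split_ifs at hNs with has
    · exact absurd rfl hNs
    · rcases hl : D.commTerms s a with _ | ⟨c, rest⟩
      · rw [hl] at hNs; simp at hNs
      · have hm : c ∈ D.commTerms s a := by rw [hl]; exact List.mem_cons_self ..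
        obtain ⟨e1, e2, e3⟩ := T.rad_terms s hs a ha c hm
        have h5 := (g.commTerms_co hc hs.1 ha.1 c hm).2.2.2 j hj
        rw [e1, e2, e3] at h5
        simpa using h5
  refine Fin.val_eq_of_eq (g.co_ext (a := ⟨r, hr.1⟩) (b := ⟨s, hs.1⟩) fun j hj => ?_)
  have := hco r hr hNr j hj
  have := hco s hs hNs j hj
  show g.co r j = g.co s j
  linarith

/-- The coordinates of a central element of the radical. -/
lemma nRad_mul_eq_zero {f : ℕ → F} (hf : ∀ r, r ∉ radSet D → f r = 0)
    (hcomm : ∀ a ∈ radSet D, g.xProd f (half D) * g.xG a 1 * (g.xProd f (half D))⁻¹ = g.xG a 1)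
    {r a : ℕ} (hr : r ∈ radSet D) (ha : a ∈ radSet D) : (nRad g r a : F) * f r = 0 := by
  have h1 := hcomm a ha
  rw [coords_conj g hc T ha hf 1, mul_one, mul_eq_left] at h1
  have h2 := eq_zero_of_xG_eq_one g (top_lt g) h1
  by_contra hne
  have hN : nRad g r a ≠ 0 := fun h0 => hne (by rw [h0, Int.cast_zero, zero_mul])
  have huniq : ∀ s ∈ List.range' (half D) (D.nroots - half D), s ≠ r → (nRad g s a : F) * f s = 0 := by
    intro s _ hsr
    by_cases hs : s ∈ radSet D
    · by_contra hne'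
      have hNs : nRad g s a ≠ 0 := fun h0 => hne' (by rw [h0, Int.cast_zero, zero_mul])
      exact hsr (partner_unique g hc T hs hr ha hNs hN)
    · rw [hf s hs, mul_zero]
  rw [List.sum_map_eq_nsmul_single r _ fun s hsr hs => huniq s hs hsr, List.count_eq_one_of_mem
    (List.nodup_range' _) (by rw [List.mem_range'_1]; have := hr.1; have := hr.2.1; omega), one_nsmul] at h2
  exact hne h2

/-- Products of central elements of the radical add the coordinates. -/
lemma xProd_add {f f' : ℕ → F} (hf : ∀ r, r ∉ radSet D → f r = 0) (hf' : ∀ r, r ∉ radSet D → f' r = 0)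
    (hz : ∀ r ∈ radSet D, ∀ a ∈ radSet D, (nRad g r a : F) * f' r = 0) :
    g.xProd f (half D) * g.xProd f' (half D) = g.xProd (f + f') (half D) := by
  have hcomm : ∀ r s : ℕ, Commute (g.xG r (f' r)) (g.xG s (f s)) := by
    intro r s
    by_cases hr : r ∈ radSet D
    · by_cases hs : s ∈ radSet D
      · have h1 := rad_conj g hc T hs hr (f s) (f' r)
        rw [hz r hr s hs, zero_mul, g.xG_zero, mul_one, mul_inv_eq_iff_eq_mul] at h1
        exact h1
      · rw [hf s hs, g.xG_zero]; exact Commute.one_right _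
    · rw [hf' r hr, g.xG_zero]; exact Commute.one_left _
  have key : ∀ l : List ℕ, (l.map fun r => g.xG r (f r)).prod * (l.map fun r => g.xG r (f' r)).prod =
      (l.map fun r => g.xG r ((f + f') r)).prod := by
    intro l
    induction l with
    | nil => simp
    | cons r l ih =>
      simp only [List.map_cons, List.prod_cons]
      have hc1 : Commute (g.xG r (f' r)) (l.map fun r => g.xG r (f r)).prod :=
        Commute.list_prod_right _ _ fun x hx => by
          obtain ⟨s, -, rfl⟩ := List.mem_map.1 hx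
          exact hcomm r s
      rw [← ih, ← mul_assoc, mul_assoc (g.xG r (f r)), ← hc1.eq, ← mul_assoc, g.xG_add, Pi.add_apply]
      group
  exact key _

end SubMax

namespace SubMax.Ctx

variable {D : ChevalleyDatum} {K : Type*} [Field K] [Fintype K] (C : Ctx D K)

/-- The radical part of the overgroup lies over the subfield. -/
def RadRat : Prop := ∀ x ∈ C.H, x ∈ topQ D K → x ∈ C.M

/-- The stabiliser part of the overgroup lies over the subfield. -/
theorem mem_M_of_topP (hQ : C.RadRat) {h : GL D.Idx K} (hh : h ∈ C.H) (hP : h ∈ topP C.g K) : h ∈ C.M := by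
  have hfix : ∀ a ∈ radSet D, h⁻¹ * C.sG h * C.g.xG a 1 * (h⁻¹ * C.sG h)⁻¹ = C.g.xG a 1 := by
    intro a ha
    have haM := C.xG_mem_M ha.1 (t := 1) (map_one _)
    have h1 : h * C.g.xG a 1 * h⁻¹ ∈ topQ D K := (Subgroup.mem_normalizer_iff.1
      (topP_le_normalizer C.g C.hc C.T C.hse hP) _).1 (C.g.mem_rootGen ha.1 ha 1)
    have h2 := (hQ _ (mul_mem (mul_mem hh (C.M_le_H haM)) (inv_mem hh)) h1).2
    have h3 : C.sG h * C.g.xG a 1 * (C.sG h)⁻¹ = h * C.g.xG a 1 * h⁻¹ := by
      have h4 : C.sG (C.g.xG a 1) = C.g.xG a 1 := haM.2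
      rw [← map_inv, ← h4, ← map_mul, ← map_mul, h4]
      exact h2
    rw [show h⁻¹ * C.sG h * C.g.xG a 1 * (h⁻¹ * C.sG h)⁻¹ =
      h⁻¹ * (C.sG h * C.g.xG a 1 * (C.sG h)⁻¹) * h by group, h3]
    group
  have hdQ := mem_topQ_of_commute C.g C.hc C.T (mul_mem (inv_mem (C.hi hh)) (C.sG_mem_group (C.hi hh))) hfix
  obtain ⟨f, hf, hd⟩ := exists_coords C.g C.hc C.T hdQ
  have hz : ∀ r ∈ radSet D, ∀ a ∈ radSet D, (nRad C.g r a : K) * f r = 0 := fun r hr a ha =>
    nRad_mul_eq_zero C.g C.hc C.T hf (fun b hb => hd ▸ hfix b hb) hr ha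
  have hσ : ∀ f : ℕ → K, C.sG (C.g.xProd f (half D)) = C.g.xProd (fun r => C.E.σ (f r)) (half D) :=
    fun f => C.g.scalarGL_xProd C.E.σ f _
  have hiter : ∀ k : ℕ, h⁻¹ * (C.sG^[k]) h =
      C.g.xProd (fun r => ∑ i ∈ Finset.range k, (C.E.σ)^[i] (f r)) (half D) := by
    intro k
    induction k with
    | zero => simp [Good.xProd, C.g.xG_zero]
    | succ k ih =>
      have h1 : h⁻¹ * (C.sG^[k + 1]) h = (h⁻¹ * C.sG h) * C.sG (h⁻¹ * (C.sG^[k]) h) := by
        rw [map_mul, map_inv, Function.iterate_succ_apply']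
        group
      rw [h1, ih, hd, hσ, xProd_add C.g C.hc C.T hf (fun r hr => by simp [hf r hr]) fun r hr a ha => by
        have := hz r hr a ha
        rcases mul_eq_zero.1 this with h0 | h0
        · rw [h0, zero_mul]
        · simp [h0]]
      congr 1
      funext r
      rw [Pi.add_apply, map_sum, Finset.sum_range_succ', add_comm]
      simp [Function.iterate_succ_apply']
  have hr0 : ∀ r ∈ radSet D, ∑ i ∈ Finset.range C.E.r, (C.E.σ)^[i] (f r) = 0 := by
    intro r hr
    have h1 := hiter C.E.r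
    have h2 : (C.sG^[C.E.r]) h = h := by
      refine Units.ext (Matrix.ext fun a b => ?_)
      have h3 : ∀ k, (((C.sG^[k]) h : GL D.Idx K) : Matrix D.Idx D.Idx K) a b =
          (C.E.σ)^[k] ((h : Matrix D.Idx D.Idx K) a b) := fun k => by
        induction k with
        | zero => rfl
        | succ k ih => rw [Function.iterate_succ_apply', Function.iterate_succ_apply', ← ih]; rfl
      rw [h3, C.E.iterate_r]
    rw [h2, inv_mul_cancel] at h1
    have h4 : C.g.xProd (fun _ => (0 : K)) (half D) =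
        C.g.xProd (fun r => ∑ i ∈ Finset.range C.E.r, (C.E.σ)^[i] (f r)) (half D) := by
      rw [← h1]; simp [Good.xProd, C.g.xG_zero]
    exact (C.g.xProd_inj le_rfl h4 hr.2.1 hr.1).symm
  classical
  obtain ⟨f0, hf0⟩ : ∃ f0 : ℕ → K, ∀ r, if f r = 0 then f0 r = 0 else C.E.σ (f0 r) - f0 r = f r := by
    have h1 : ∀ r, ∃ e : K, if f r = 0 then e = 0 else C.E.σ e - e = f r := fun r => by
      by_cases h0 : f r = 0
      · exact ⟨0, by rw [if_pos h0]⟩
      · obtain ⟨e, he⟩ := C.E.exists_sub (hr0 r (by_contra fun h => h0 (hf r h)))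
        exact ⟨e, by rw [if_neg h0]; exact he⟩
    choose f0 hf0 using h1
    exact ⟨f0, hf0⟩
  have hσf0 : ∀ r, C.E.σ (f0 r) = f r + f0 r := fun r => by
    have := hf0 r
    by_cases h0 : f r = 0
    · rw [if_pos h0] at this; simp [this, h0]
    · rw [if_neg h0] at this; rw [← this, sub_add_cancel]
  have hf0s : ∀ r, r ∉ radSet D → f0 r = 0 := fun r hr => by
    have := hf0 r; rwa [if_pos (hf r hr)] at this
  have hz0 : ∀ r ∈ radSet D, ∀ a ∈ radSet D, (nRad C.g r a : K) * f0 r = 0 := fun r hr a ha => by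
    by_cases h0 : f r = 0
    · have := hf0 r; rw [if_pos h0] at this; rw [this, mul_zero]
    · rw [(mul_eq_zero.1 (hz r hr a ha)).resolve_right h0, zero_mul]
  obtain ⟨F0, hF0⟩ : ∃ F0, F0 = C.g.xProd f0 (half D) := ⟨_, rfl⟩
  have hsF0 : C.sG F0 = h⁻¹ * C.sG h * F0 := by
    rw [hd, hF0, hσ, xProd_add C.g C.hc C.T hf hf0s hz0]
    exact congrArg (fun f => C.g.xProd f (half D)) (funext hσf0)
  have hF0Q : F0 ∈ topQ D K := by
    rw [hF0, Good.xProd]
    refine Subgroup.list_prod_mem _ fun x hx => ?_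
    obtain ⟨r, hr, rfl⟩ := List.mem_map.1 hx
    by_cases hrad : r ∈ radSet D
    · exact C.g.mem_rootGen hrad.1 hrad _
    · rw [hf0s r hrad, C.g.xG_zero]; exact one_mem _
  have hcF : Commute (h⁻¹ * C.sG h) F0 := by
    show _ * _ = _ * _
    rw [hd, hF0, xProd_add C.g C.hc C.T hf hf0s hz0, xProd_add C.g C.hc C.T hf0s hf hz, add_comm]
  have hm : h * F0⁻¹ ∈ C.M := by
    refine C.mem_M.2 ⟨mul_mem (C.hi hh) (inv_mem (Subgroup.mem_inf.1 (topQ_le_topP C.g C.hc C.T hF0Q)).2), ?_⟩
    show C.sG (h * F0⁻¹) = h * F0⁻¹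
    rw [map_mul, map_inv, hsF0, hcF.eq]
    group
  have hF0H : F0 ∈ C.H := by
    rw [show F0 = (h * F0⁻¹)⁻¹ * h by group]
    exact mul_mem (inv_mem (C.M_le_H hm)) hh
  rw [show h = h * F0⁻¹ * F0 by group]
  exact mul_mem hm (hQ F0 hF0H hF0Q)

end SubMax.Ctx

end CfsgLib.Chev
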