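import Cfsg.Agent.Lib.Chev.SubMaxTop

/-!
The parabolic subgroup of the highest root group and its radical.
-/

set_option autoImplicit false
set_option linter.unusedSectionVars false

namespace CfsgLib.Chev

open Cfsg.Lie Matrix

namespace SubMax

variable {D : ChevalleyDatum} (g : Good D) {F : Type*} [Field F]
include g

lemma commute_of_nil (hc : HasComm D) {r s : ℕ} (hr : r < D.nroots) (hs : s < D.nroots)
    (hrs : r ≠ s) (hneg : r ≠ D.neg s) (h : D.commTerms s r = []) (t u : F) :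
    Commute (g.xG s u) (g.xG r t) := by
  have h1 := g.xG_conj hc hr hs hrs hneg t u
  rw [h, List.map_nil, List.prod_nil, mul_one, mul_inv_eq_iff_eq_mul] at h1
  exact h1

lemma xG_commute_self (r : ℕ) (t u : F) : Commute (g.xG r t) (g.xG r u) := by
  show _ * _ = _ * _
  rw [g.xG_add, g.xG_add, add_comm]

lemma eq_zero_of_xG_eq_one {r : ℕ} (hr : r < D.nroots) {t : F} (h : g.xG r t = 1) : t = 0 :=
  (g.x_eq_one_iff hr t).1 (congrArg Units.val h)

lemma xG_inj {r : ℕ} (hr : r < D.nroots) {s t : F} (h : g.xG r s = g.xG r t) : s = t := by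
  have h1 : g.xG r (s + -t) = 1 := by rw [← g.xG_add, h, g.xG_add, add_neg_cancel, g.xG_zero]
  exact eq_neg_of_add_eq_zero_left (eq_zero_of_xG_eq_one g hr h1) |>.trans (_root_.neg_neg t)

lemma ne_neg_of_pos {r s : ℕ} (hr : half D ≤ r) (hs : half D ≤ s) (hs' : s < D.nroots) :
    r ≠ D.neg s := by
  have := (g.neg_neg_iff hs').2 hs
  omega

/-- Two root elements of the same value at different roots are different. -/
lemma root_eq_of_xG_eq {r s : Fin D.nroots} {t u : F} (ht : t ≠ 0)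
    (h : g.xG r t = g.xG s u) : r = s := by
  by_contra hne
  have hu : u ≠ 0 := fun h0 => ht (eq_zero_of_xG_eq_one g r.2 (by rw [h, h0, g.xG_zero]))
  rcases Nat.lt_or_ge r.val (half D) with hr | hr <;> rcases Nat.lt_or_ge s.val (half D) with hs | hs
  · -- both negative: move to positive roots by the longest element
    obtain ⟨l, hw⟩ := g.exists_longest
    obtain ⟨c, hc⟩ := g.acts_wordN (F := F) l r
    obtain ⟨d, hd⟩ := g.acts_wordN (F := F) l s
    have h1 : g.xG (g.wperm l r) ((c : F) * t) = g.xG (g.wperm l s) ((d : F) * u) := by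
      rw [← hc, ← hd, h]
    have hpos : ∀ a : Fin D.nroots, a.val < half D → half D ≤ (g.wperm l a).val := fun a ha => by
      have h2 := hw (g.nroot a) ((g.nroot_pos_iff a).2 ha)
      rw [g.wperm_nroot] at h2
      have h3 := (not_congr (g.nroot_pos_iff (g.wperm l a))).1 (Nat.not_le.2 h2)
      omega
    rcases lt_trichotomy (g.wperm l r).val (g.wperm l s).val with hlt | heq | hlt
    · exact mul_ne_zero c.ne_zero ht (g.Ici_unique (hpos r hr) (g.wperm l r).2 (one_mem _)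
        (g.mem_rootGen (g.wperm l s).2 hlt ((d : F) * u))
        (show g.xG _ ((c : F) * t) * 1 = g.xG _ 0 * g.xG _ ((d : F) * u) by
          rw [mul_one, g.xG_zero, one_mul, h1])).1
    · exact hne ((g.wperm l).injective (Fin.ext heq))
    · exact mul_ne_zero d.ne_zero hu (g.Ici_unique (hpos s hs) (g.wperm l s).2 (one_mem _)
        (g.mem_rootGen (g.wperm l r).2 hlt ((c : F) * t))
        (show g.xG _ ((d : F) * u) * 1 = g.xG _ 0 * g.xG _ ((c : F) * t) by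
          rw [mul_one, g.xG_zero, one_mul, h1])).1
  · have h1 : g.xG r t ∈ D.borelSubgroup F ⊓ D.negUnipotent F := Subgroup.mem_inf.2
      ⟨h ▸ Subgroup.mem_sup_left (g.xG_mem_posUnipotent ((g.isPosRoot_iff _).2 ⟨hs, s.2⟩) u),
        g.xG_mem_negUnipotent ((g.isNegRoot_iff _).2 hr) t⟩
    rw [g.borel_inf_neg, Subgroup.mem_bot] at h1
    exact ht (eq_zero_of_xG_eq_one g r.2 h1)
  · have h1 : g.xG s u ∈ D.borelSubgroup F ⊓ D.negUnipotent F := Subgroup.mem_inf.2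
      ⟨h ▸ Subgroup.mem_sup_left (g.xG_mem_posUnipotent ((g.isPosRoot_iff _).2 ⟨hr, r.2⟩) t),
        g.xG_mem_negUnipotent ((g.isNegRoot_iff _).2 hs) u⟩
    rw [g.borel_inf_neg, Subgroup.mem_bot] at h1
    exact hu (eq_zero_of_xG_eq_one g s.2 h1)
  · rcases lt_trichotomy r.val s.val with hlt | heq | hlt
    · exact ht (g.Ici_unique hr r.2 (one_mem _) (g.mem_rootGen s.2 hlt u)
        (show g.xG r t * 1 = g.xG r 0 * g.xG s u by rw [mul_one, g.xG_zero, one_mul, h])).1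
    · exact hne (Fin.ext heq)
    · exact hu (g.Ici_unique hs s.2 (one_mem _) (g.mem_rootGen r.2 hlt t)
        (show g.xG s u * 1 = g.xG s 0 * g.xG r t by rw [mul_one, g.xG_zero, one_mul, h])).1

/-! ### Leading coefficients -/

/-- Commutators with higher root elements have higher coordinates. -/
lemma conj_above (hc : HasComm D) {m a k : ℕ} (hm : half D ≤ m) (ha : half D ≤ a)
    (ha' : a < D.nroots) (hk : k < D.nroots) (hkp : half D ≤ k)
    (hwt : g.wt k ≤ g.wt m + g.wt a) {y : GL D.Idx F} (hy : y ∈ rootGen D F (Set.Ici (m + 1))) (t : F) :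
    y * g.xG a t * y⁻¹ * (g.xG a t)⁻¹ ∈ rootGen D F (Set.Ici (k + 1)) := by
  obtain ⟨N, hN⟩ : ∃ N, N = rootGen D F (Set.Ici (k + 1)) := ⟨_, rfl⟩
  rw [← hN]
  have hnorm : D.posUnipotent F ≤ Subgroup.normalizer (N : Set (GL D.Idx F)) :=
    hN ▸ g.pos_le_normalizer hc (by omega)
  have haU : g.xG a t ∈ D.posUnipotent F := g.xG_mem_posUnipotent ((g.isPosRoot_iff a).2 ⟨ha, ha'⟩) t
  have key : ∀ r, m + 1 ≤ r → r < D.nroots → ∀ u : F,
      g.xG r u * g.xG a t * (g.xG r u)⁻¹ * (g.xG a t)⁻¹ ∈ N := by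
    intro r hmr hr u
    rcases eq_or_ne a r with rfl | hne
    · rw [(xG_commute_self g a u t).eq, mul_inv_cancel_right, mul_inv_cancel]
      exact one_mem _
    rw [g.xG_conj hc ha' hr hne (ne_neg_of_pos g ha (by omega) hr)]
    refine (Subgroup.mem_normalizer_iff.1 (hnorm haU) _).1 (Subgroup.list_prod_mem _ fun z hz => ?_)
    obtain ⟨c, hc', rfl⟩ := List.mem_map.1 hz
    obtain ⟨h1, h2, h3, h4⟩ := g.commTerms_co hc hr ha' c hc'
    have h5 := g.wt_lin h4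
    have h6 : g.wt m < g.wt r := g.wt_lt (by omega) hr
    have h7 := g.wt_pos (show half D ≤ r by omega) hr
    have h8 := g.wt_pos ha ha'
    have : g.wt k < g.wt c.1 := by
      rw [h5]
      nlinarith [show (1 : ℤ) ≤ (c.2.2.1 : ℤ) by exact_mod_cast h2,
        show (1 : ℤ) ≤ (c.2.2.2 : ℤ) by exact_mod_cast h3]
    rw [hN]
    exact g.mem_rootGen h1 (Nat.succ_le_of_lt (g.lt_of_wt_lt hk this)) _
  let K : Subgroup (GL D.Idx F) :=
    { carrier := {z | z ∈ D.posUnipotent F ∧ z * g.xG a t * z⁻¹ * (g.xG a t)⁻¹ ∈ N}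
      one_mem' := ⟨one_mem _, by simp⟩
      mul_mem' := fun {z w} hz hw => ⟨mul_mem hz.1 hw.1, by
        have h1 := (Subgroup.mem_normalizer_iff.1 (hnorm hz.1) _).1 hw.2
        rw [show z * w * g.xG a t * (z * w)⁻¹ * (g.xG a t)⁻¹ =
          z * (w * g.xG a t * w⁻¹ * (g.xG a t)⁻¹) * z⁻¹ * (z * g.xG a t * z⁻¹ * (g.xG a t)⁻¹) by group]
        exact mul_mem h1 hz.2⟩
      inv_mem' := fun {z} hz => ⟨inv_mem hz.1, by
        have h1 := (Subgroup.mem_normalizer_iff.1 (hnorm (inv_mem hz.1)) _).1 (inv_mem hz.2)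
        convert h1 using 1
        group⟩ }
  have hle : rootGen D F (Set.Ici (m + 1)) ≤ K := g.rootGen_le fun r hS hr u =>
    ⟨g.xG_mem_posUnipotent ((g.isPosRoot_iff r).2 ⟨by simp only [Set.mem_Ici] at hS; omega, hr⟩) u,
      key r hS hr u⟩
  exact (hle hy).2

/-- The leading coordinate of a commutator. -/
lemma lead_conj (hc : HasComm D) {m a k : ℕ} {c : ℤ} {rest : List (ℕ × ℤ × ℕ × ℕ)}
    (hm : half D ≤ m) (hm' : m < D.nroots) (ha : half D ≤ a) (ha' : a < D.nroots) (hne : m ≠ a)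
    (hterms : D.commTerms m a = (k, c, 1, 1) :: rest) (hrest : ∀ x ∈ rest, k < x.1)
    {y : GL D.Idx F} (hy : y ∈ rootGen D F (Set.Ici (m + 1))) (u t : F) :
    k < D.nroots ∧ half D ≤ k ∧ a < k ∧
    ∃ z ∈ rootGen D F (Set.Ici (k + 1)),
      (g.xG m u * y) * g.xG a t * (g.xG m u * y)⁻¹ * (g.xG a t)⁻¹ = g.xG k ((c : F) * u * t) * z := by
  obtain ⟨h1, -, -, h4⟩ := g.commTerms_co hc hm' ha' (k, c, 1, 1) (by rw [hterms]; exact List.mem_cons_self ..)
  replace h1 : k < D.nroots := h1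
  have h5 : g.wt k = g.wt m + g.wt a := by simpa using g.wt_lin h4
  have hwm := g.wt_pos hm hm'
  have hwa := g.wt_pos ha ha'
  have hkp : half D ≤ k := (g.wt_pos_iff h1).1 (by omega)
  have hak : a < k := g.lt_of_wt_lt ha' (by omega)
  refine ⟨h1, hkp, hak, ?_⟩
  obtain ⟨N, hN⟩ : ∃ N, N = rootGen D F (Set.Ici (k + 1)) := ⟨_, rfl⟩
  have hnorm : D.posUnipotent F ≤ Subgroup.normalizer (N : Set (GL D.Idx F)) :=
    hN ▸ g.pos_le_normalizer hc (by omega)
  have hmU := g.xG_mem_posUnipotent ((g.isPosRoot_iff m).2 ⟨hm, hm'⟩) u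
  have haU := g.xG_mem_posUnipotent ((g.isPosRoot_iff a).2 ⟨ha, ha'⟩) t
  have hkU := g.xG_mem_posUnipotent ((g.isPosRoot_iff k).2 ⟨hkp, h1⟩) ((c : F) * u * t)
  obtain ⟨P, hP⟩ : ∃ P, P = (rest.map fun x =>
      g.xG x.1 ((x.2.1 : F) * u ^ x.2.2.1 * t ^ x.2.2.2)).prod := ⟨_, rfl⟩
  have hPN : P ∈ N := by
    rw [hP]
    refine Subgroup.list_prod_mem _ fun z hz => ?_
    obtain ⟨x, hx, rfl⟩ := List.mem_map.1 hz
    obtain ⟨x1, -, -, -⟩ := g.commTerms_co hc hm' ha' x (by rw [hterms]; exact List.mem_cons_of_mem _ hx)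
    rw [hN]
    exact g.mem_rootGen x1 (hrest x hx) _
  have hconj : g.xG m u * g.xG a t * (g.xG m u)⁻¹ = g.xG a t * (g.xG k ((c : F) * u * t) * P) := by
    rw [g.xG_conj hc ha' hm' hne.symm (ne_neg_of_pos g ha hm hm'), hterms, List.map_cons, List.prod_cons,
      hP]
    simp
  obtain ⟨w, hw, hw'⟩ : ∃ w ∈ N, y * g.xG a t * y⁻¹ * (g.xG a t)⁻¹ = w :=
    ⟨_, hN ▸ conj_above g hc hm ha ha' h1 hkp (by omega) hy t, rfl⟩
  have e : g.xG m u * y * g.xG a t * (g.xG m u * y)⁻¹ * (g.xG a t)⁻¹ =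
      (g.xG m u * w * (g.xG m u)⁻¹) * (g.xG a t * (g.xG k ((c : F) * u * t) * P) * (g.xG a t)⁻¹) := by
    rw [← hconj, ← hw']; group
  have hw2 := (Subgroup.mem_normalizer_iff.1 (hnorm hmU) _).1 hw
  have hP2 := (Subgroup.mem_normalizer_iff.1 (hnorm haU) _).1 hPN
  have hcomm : g.xG a t * g.xG k ((c : F) * u * t) * (g.xG a t)⁻¹ * (g.xG k ((c : F) * u * t))⁻¹ ∈ N := by
    rw [g.xG_conj hc h1 ha' hak.ne' (ne_neg_of_pos g hkp ha ha'), mul_assoc, ← mul_assoc]
    refine (Subgroup.mem_normalizer_iff.1 (hnorm hkU) _).1 (Subgroup.list_prod_mem _ fun z hz => ?_)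
    obtain ⟨x, hx, rfl⟩ := List.mem_map.1 hz
    obtain ⟨x1, x2, x3, x4⟩ := g.commTerms_co hc ha' h1 x hx
    have x5 := g.wt_lin x4
    have hwk := g.wt_pos hkp h1
    have : g.wt k < g.wt x.1 := by
      rw [x5]
      nlinarith [show (1 : ℤ) ≤ (x.2.2.1 : ℤ) by exact_mod_cast x2,
        show (1 : ℤ) ≤ (x.2.2.2 : ℤ) by exact_mod_cast x3]
    rw [hN]
    exact g.mem_rootGen x1 (g.lt_of_wt_lt h1 this) _
  obtain ⟨W, hW, hW'⟩ : ∃ W ∈ N, g.xG m u * w * (g.xG m u)⁻¹ = W := ⟨_, hw2, rfl⟩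
  have h6 : g.xG a t * (g.xG k ((c : F) * u * t) * P) * (g.xG a t)⁻¹ =
      (g.xG a t * g.xG k ((c : F) * u * t) * (g.xG a t)⁻¹ * (g.xG k ((c : F) * u * t))⁻¹) *
        g.xG k ((c : F) * u * t) * (g.xG a t * P * (g.xG a t)⁻¹) := by group
  rw [e, hW', h6]
  refine ⟨(g.xG k ((c : F) * u * t))⁻¹ * (W * (g.xG a t * g.xG k ((c : F) * u * t) * (g.xG a t)⁻¹ *
    (g.xG k ((c : F) * u * t))⁻¹)) * g.xG k ((c : F) * u * t) * (g.xG a t * P * (g.xG a t)⁻¹), ?_, by group⟩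
  rw [← hN]
  refine mul_mem ?_ hP2
  have := (Subgroup.mem_normalizer_iff.1 (hnorm (inv_mem hkU)) _).1 (mul_mem hW hcomm)
  rwa [inv_inv] at this

end SubMax

end CfsgLib.Chev
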