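import Cfsg.Agent.Lib.Chev.SubMaxCent

/-!
Long root elements of an overgroup outside the subfield group are opposite to the rational ones.
-/

set_option autoImplicit false
set_option linter.unusedSectionVars false

namespace CfsgLib.Chev.SubMax.Ctx

open Cfsg.Lie Matrix CfsgLib.Chev

variable {D : ChevalleyDatum} {K : Type*} [Field K] [Fintype K] (C : Ctx D K)

lemma one_fixed : C.E.σ 1 = 1 := map_one _

lemma top_mem_M : C.g.xG (top D) (1 : K) ∈ C.M := C.xG_mem_M (top_lt C.g) C.one_fixed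

lemma top_mem_H : C.g.xG (top D) (1 : K) ∈ C.H := C.M_le_H C.top_mem_M

lemma isTopConj_top {t : K} (ht : t ≠ 0) : C.IsTopConj (C.g.xG (top D) t) :=
  ⟨1, one_mem _, t, ht, by simp⟩

variable (hQ : C.RadRat)
include hQ

/-- An element of the overgroup commuting with a rational long root element is rational. -/
theorem mem_M_of_commute {w z : GL D.Idx K} (hw : w ∈ C.M) (hwc : C.IsTopConj w) (hz : z ∈ C.H)
    (hcomm : Commute z w) : z ∈ C.M := by
  obtain ⟨m, hm, s, hs, -, rfl⟩ := C.exists_conj_of_fixed hwc hw.2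
  have hzg : m⁻¹ * z * m ∈ C.H := mul_mem (mul_mem (inv_mem (C.M_le_H hm)) hz) (C.M_le_H hm)
  have h1 : m⁻¹ * z * m * C.g.xG (top D) s * (m⁻¹ * z * m)⁻¹ = C.g.xG (top D) s := by
    calc m⁻¹ * z * m * C.g.xG (top D) s * (m⁻¹ * z * m)⁻¹
        = m⁻¹ * (z * (m * C.g.xG (top D) s * m⁻¹)) * z⁻¹ * m := by group
      _ = _ := by rw [hcomm.eq]; group
  have h2 := C.mem_M_of_topP hQ hzg (mem_topP_of_conj C.g C.hc C.T (C.hi hzg) hs h1)
  rw [show z = m * (m⁻¹ * z * m) * m⁻¹ by group]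
  exact mul_mem (mul_mem hm h2) (inv_mem hm)

/-- An element whose conjugate of the top element is rational is rational. -/
theorem mem_M_of_conj_mem {h : GL D.Idx K} (hh : h ∈ C.H) {t : K} (ht : t ≠ 0)
    (hy : h * C.g.xG (top D) t * h⁻¹ ∈ C.M) : h ∈ C.M := by
  obtain ⟨m, hm, s, hs, -, he⟩ := C.exists_conj_of_fixed ⟨h, C.hi hh, t, ht, rfl⟩ hy.2
  have h1 : m⁻¹ * h * C.g.xG (top D) t * (m⁻¹ * h)⁻¹ = C.g.xG (top D) s := by
    calc m⁻¹ * h * C.g.xG (top D) t * (m⁻¹ * h)⁻¹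
        = m⁻¹ * (h * C.g.xG (top D) t * h⁻¹) * m := by group
      _ = _ := by rw [he]; group
  have hmh : m⁻¹ * h ∈ C.H := mul_mem (inv_mem (C.M_le_H hm)) hh
  rw [show h = m * (m⁻¹ * h) by group]
  exact mul_mem hm (C.mem_M_of_topP hQ hmh (mem_topP_of_conj C.g C.hc C.T (C.hi hmh) ht h1))

/-- A long root element of the overgroup in special position to a rational one is rational. -/
theorem mem_M_of_special {w y z : GL D.Idx K} (hw : w ∈ C.M) (hwc : C.IsTopConj w) (hy : y ∈ C.H)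
    (hzc : C.IsTopConj z) (hz : z ∈ C.H) (hzw : Commute z w) (hyz : Commute y z) : y ∈ C.M :=
  C.mem_M_of_commute hQ (C.mem_M_of_commute hQ hw hwc hz hzw) hzc hy hyz

/-- The images of the highest root group are opposite to it. -/
theorem exists_opposite {h : GL D.Idx K} (hh : h ∈ C.H) (hM : h ∉ C.M) :
    ∃ u ∈ topQ D K, ∃ c : K, c ≠ 0 ∧ ∀ t : K,
      h * C.g.xG (top D) t * h⁻¹ = u * C.g.xG (D.neg (top D)) (c * t) * u⁻¹ := by
  obtain ⟨b, hb, n, hn, π, hπw, hπ, u0, hu0, hxe⟩ := C.g.exists_canonical C.hc (C.hi hh)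
  obtain ⟨v, hv, d, hd, rfl⟩ := C.g.mem_borel.1 hb
  obtain ⟨β, hβ⟩ : ∃ β, β = π ⟨top D, top_lt C.g⟩ := ⟨_, rfl⟩
  obtain ⟨e, he⟩ := hπ ⟨top D, top_lt C.g⟩
  obtain ⟨e', he'⟩ := C.g.acts_diagonal hd β
  simp only [Equiv.Perm.one_apply] at he'
  have hu0' := C.g.minus_le_pos π hu0
  have hy : ∀ t : K, h * C.g.xG (top D) t * h⁻¹ =
      v * C.g.xG β (((e' : K) * (e : K)) * t) * v⁻¹ := fun t => by
    have h1 : u0 * C.g.xG (top D) t * u0⁻¹ = C.g.xG (top D) t := by
      rw [(pos_commute_top C.g C.hc C.T hu0' t).eq, mul_inv_cancel_right]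
    rw [hxe, show v * d * n * u0 * C.g.xG (top D) t * (v * d * n * u0)⁻¹ =
      v * (d * (n * (u0 * C.g.xG (top D) t * u0⁻¹) * n⁻¹) * d⁻¹) * v⁻¹ by group, h1,
      show n * C.g.xG (top D) t * n⁻¹ = C.g.xG β ((e : K) * t) from hβ ▸ he t, he', ← mul_assoc (e' : K)]
  have hβl : C.long β = true := by
    obtain ⟨l, hl⟩ := C.g.exists_wperm hπw
    rw [hβ, ← hl]
    exact long_wperm C.g C.T l (a := ⟨top D, top_lt C.g⟩) C.T.long_top
  have hy1H : h * C.g.xG (top D) 1 * h⁻¹ ∈ C.H := mul_mem (mul_mem hh C.top_mem_H) (inv_mem hh)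
  obtain ⟨w, hw⟩ : ∃ w : K, w = ((e' : K) * (e : K)) * 1 := ⟨_, rfl⟩
  have hw0 : w ≠ 0 := by rw [hw]; simp
  have hy1 : h * C.g.xG (top D) 1 * h⁻¹ = v * C.g.xG β w * v⁻¹ := by rw [hy 1, hw]
  have hvx := pos_commute_top C.g C.hc C.T hv (1 : K)
  have hcomm_top : ∀ z, Commute z (C.g.xG (top D) (1 : K)) → Commute (v * z * v⁻¹) (C.g.xG (top D) (1 : K)) :=
    fun z hz => (hvx.mul_left hz).mul_left hvx.inv_left
  by_cases hneg : topW D β < 0
  · rcases C.T.long_neg β β.2 hβl hneg with hbot | ⟨k, c, hk, hkl, hc1, hterm, hkt, hknt, hkT, hkr, hknr, hkR⟩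
    · obtain ⟨u, hu, hu'⟩ := exists_rad_bot C.g C.hc C.T hv
      refine ⟨u, hu, (e' : K) * (e : K), by simp, fun t => ?_⟩
      rw [hy, show C.g.xG (β : ℕ) (((e' : K) * (e : K)) * t) =
        C.g.xG (D.neg (top D)) (((e' : K) * (e : K)) * t) by rw [hbot], hu']
    · exfalso
      refine hM (C.mem_M_of_conj_mem hQ hh one_ne_zero ?_)
      have hβt : top D ≠ β.val := fun h0 => by
        rw [← h0, C.T.w_top] at hneg; norm_num at hneg
      have hβnt : top D ≠ D.neg β.val := fun h0 => by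
        have h1 := congrArg D.neg h0
        rw [C.g.neg_neg β.2] at h1
        have h2 : D.chainEntry β.val (top D) = [] := by
          rw [show top D = fneg D β.val by rw [← neg_eq C.g.lie.pack β.2, ← h1, C.g.neg_neg (top_lt C.g)]]
          exact C.g.chainEntry_neg β.2
        have h3 : D.chainEntry (top D) β.val = [] := by
          rw [show β.val = fneg D (top D) by rw [← neg_eq C.g.lie.pack (top_lt C.g), h1]]
          exact C.g.chainEntry_neg (top_lt C.g)
        have hnil : D.commTerms β.val (top D) = [] := by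
          simp [ChevalleyDatum.commTerms, ChevalleyDatum.chainRoot, h2, h3]
        rw [hterm] at hnil
        exact List.cons_ne_nil _ _ hnil
      obtain ⟨z, hz⟩ : ∃ z, z = v * C.g.xG k ((c : K) * w) * v⁻¹ := ⟨_, rfl⟩
      have hconj : C.g.xG β w * C.g.xG (top D) 1 * (C.g.xG β w)⁻¹ =
          C.g.xG (top D) 1 * C.g.xG k ((c : K) * w) := by
        rw [C.g.xG_conj C.hc (top_lt C.g) β.2 hβt hβnt, hterm]
        simp
      have hyx : v * C.g.xG β w * v⁻¹ * C.g.xG (top D) 1 * (v * C.g.xG β w * v⁻¹)⁻¹ =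
          C.g.xG (top D) 1 * z := by
        calc v * C.g.xG β w * v⁻¹ * C.g.xG (top D) 1 * (v * C.g.xG β w * v⁻¹)⁻¹
            = v * C.g.xG β w * (v⁻¹ * C.g.xG (top D) 1 * v) * (C.g.xG β w)⁻¹ * v⁻¹ := by group
          _ = v * (C.g.xG β w * C.g.xG (top D) 1 * (C.g.xG β w)⁻¹) * v⁻¹ := by
            rw [hvx.inv_left.eq]; group
          _ = _ := by rw [hconj, hz, ← mul_assoc v, hvx.eq]; group
      have hzH : z ∈ C.H := by
        rw [show z = (C.g.xG (top D) 1)⁻¹ * (C.g.xG (top D) 1 * z) by group, ← hyx, ← hy1]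
        exact mul_mem (inv_mem C.top_mem_H) (mul_mem (mul_mem hy1H C.top_mem_H) (inv_mem hy1H))
      have hcc : (c : K) ≠ 0 := by rcases hc1 with rfl | rfl <;> simp
      refine C.mem_M_of_special hQ C.top_mem_M (C.isTopConj_top one_ne_zero) hy1H ?_ hzH ?_ ?_
      · rw [hz]
        exact C.isTopConj_conj (C.g.borel_le_group (Subgroup.mem_sup_left hv))
          (C.isTopConj_long (a := ⟨k, hk⟩) hkl (mul_ne_zero hcc hw0))
      · rw [hz]
        refine hcomm_top _ (commute_of_nil C.g C.hc (top_lt C.g) hk (Ne.symm hkt) ?_ hkT _ _)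
        intro h0
        exact hknt (by rw [h0, C.g.neg_neg hk])
      · rw [hy1, hz]
        refine (Commute.conj_iff v).2 (commute_of_nil C.g C.hc β.2 hk (Ne.symm hkr) ?_ hkR _ _).symm
        intro h0
        exact hknr (by rw [h0, C.g.neg_neg hk])
  · exfalso
    refine hM (C.mem_M_of_conj_mem hQ hh one_ne_zero
      (C.mem_M_of_commute hQ C.top_mem_M (C.isTopConj_top one_ne_zero) hy1H ?_))
    rw [hy1]
    refine hcomm_top _ ?_
    by_cases hβt : β.val = top D
    · rw [hβt]; exact xG_commute_self C.g _ _ _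
    · obtain ⟨h1, -⟩ := C.T.long_ge β β.2 hβl (not_lt.1 hneg) hβt
      refine commute_of_nil C.g C.hc (top_lt C.g) β.2 (Ne.symm hβt) (fun h0 => ?_) h1 _ _
      have h2 := congrArg D.neg h0
      rw [C.g.neg_neg β.2] at h2
      have := topW_lin C.g β.2 (top_lt C.g) (top_lt C.g) (a := -1) (b := 0) fun j hj => by
        rw [← h2, C.g.co_neg (top_lt C.g) hj]; ring
      rw [C.T.w_top] at this
      omega

end CfsgLib.Chev.SubMax.Ctx
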