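import Cfsg.Agent.Lib.Chev.SubMaxPos

/-!
The stabiliser of the highest root group, its unipotent radical, and coordinates in the radical.
-/

set_option autoImplicit false
set_option linter.unusedSectionVars false

namespace CfsgLib.Chev

open Cfsg.Lie Matrix

namespace SubMax

variable {D : ChevalleyDatum} (g : Good D) {F : Type*} [Field F] [Fintype F]
include g

/-- The stabiliser of the highest root group. -/
noncomputable def topP (F : Type*) [Field F] [Fintype F] : Subgroup (GL D.Idx F) :=
  g.geSub (topC D) ⊓ D.group F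

/-- The radical of the stabiliser of the highest root group. -/
noncomputable def topQ (D : ChevalleyDatum) (F : Type*) [Field F] : Subgroup (GL D.Idx F) :=
  rootGen D F (radSet D)

/-- The coefficient of the highest root in a commutator in the radical. -/
noncomputable def nRad (_g : Good D) (b a : ℕ) : ℤ :=
  if a = b then 0 else ((D.commTerms b a).map fun c => c.2.1).sum

lemma topQ_le_pos : topQ D F ≤ D.posUnipotent F := by
  rw [g.posUnipotent_eq]
  exact g.rootGen_mono fun r hr _ => hr.2.1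

variable (hc : HasComm D) {long : ℕ → Bool} (T : TopData g long)
include hc T

lemma topP_eq : topP g F = D.parabolicSubgroup F {q | ∀ h : q < D.rank, topC D ⟨q, h⟩ = 0} :=
  g.geSub_inf_group hc (topC_nonneg g T)

lemma borel_le_topP : D.borelSubgroup F ≤ topP g F :=
  le_inf (g.borel_le_geSub (topC_nonneg g T)) g.borel_le_group

lemma pos_le_topP : D.posUnipotent F ≤ topP g F :=
  le_sup_left.trans (borel_le_topP g hc T)

lemma topQ_le_topP : topQ D F ≤ topP g F :=
  (topQ_le_pos g).trans (pos_le_topP g hc T)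

lemma topQ_eq_radical (hse : SuppEq D) :
    topQ D F = D.unipotentRadical F {q | ∀ h : q < D.rank, topC D ⟨q, h⟩ = 0} := by
  rw [g.unipotentRadical_eq hse, topQ]
  congr 1
  ext r
  have key : ∀ (h : r < D.nroots), half D ≤ r →
      (g.SuppIn {q | ∀ h : q < D.rank, topC D ⟨q, h⟩ = 0} ⟨r, h⟩ ↔ topW D r = 0) := by
    intro h hp
    have hlam := lam_topC g ⟨r, h⟩
    rw [Good.lam] at hlam
    have hnn : ∀ q : Fin D.rank, 0 ≤ topC D q * (g.co r q : ℝ) := fun q =>
      mul_nonneg (topC_nonneg g T q) (by exact_mod_cast g.co_nonneg h hp q.2)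
    constructor
    · intro hs
      have : ∑ q : Fin D.rank, topC D q * (g.co r q : ℝ) = 0 := Finset.sum_eq_zero fun q _ => by
        by_cases hq : topC D q = 0
        · rw [hq, zero_mul]
        · rw [hs q q.2 (fun h' => hq (h' q.2)), Int.cast_zero, mul_zero]
      rw [this] at hlam
      exact_mod_cast hlam.symm
    · intro hw q hq hqJ
      rw [show ((⟨r, h⟩ : Fin D.nroots) : ℕ) = r from rfl, hw, Int.cast_zero] at hlam
      have h0 := (Finset.sum_eq_zero_iff_of_nonneg fun q _ => hnn q).1 hlam ⟨q, hq⟩ (Finset.mem_univ _)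
      rcases mul_eq_zero.1 h0 with h1 | h1
      · exact absurd (fun _ => h1) hqJ
      · exact_mod_cast h1
  constructor
  · rintro ⟨h, hp, hw⟩
    exact ⟨h, hp, fun hs => by have := (key h hp).1 hs; omega⟩
  · rintro ⟨h, hp, hs⟩
    have h1 := T.w_nonneg r hp h
    have h2 : topW D r ≠ 0 := fun h0 => hs ((key h hp).2 h0)
    exact ⟨h, hp, by omega⟩

lemma topP_le_normalizer (hse : SuppEq D) :
    topP g F ≤ Subgroup.normalizer (topQ D F : Set (GL D.Idx F)) := by
  rw [topQ_eq_radical g hc T hse, topP_eq g hc T]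
  exact g.parabolic_le_normalizer_radical hc hse _

lemma pos_commute_top {u : GL D.Idx F} (hu : u ∈ D.posUnipotent F) (t : F) :
    Commute u (g.xG (top D) t) := by
  rw [g.posUnipotent_eq] at hu
  have hle : rootGen D F (Set.Ici (half D)) ≤ Subgroup.centralizer {g.xG (top D) t} :=
    g.rootGen_le fun r hS hr s => by
      rw [Subgroup.mem_centralizer_singleton_iff]
      by_cases hrt : r = top D
      · rw [hrt]; exact (xG_commute_self g _ _ _).eq
      · exact (commute_of_nil g hc (top_lt g) hr (Ne.symm hrt)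
          (ne_neg_of_pos g (half_le_top g) hS hr) ((T.pos_top r hS hr hrt).1) t s).eq
  exact Subgroup.mem_centralizer_singleton_iff.1 (hle hu)

/-- An element moving an element of the top group into the top group fixes the top group. -/
theorem mem_topP_of_conj {x : GL D.Idx F} (hx : x ∈ D.group F) {t s : F} (ht : t ≠ 0)
    (h : x * g.xG (top D) t * x⁻¹ = g.xG (top D) s) : x ∈ topP g F := by
  obtain ⟨b, hb, n, hn, π, hπw, hπ, u, hu, rfl⟩ := g.exists_canonical hc hx
  have huT := pos_commute_top g hc T (g.minus_le_pos π hu) t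
  obtain ⟨v, hv, d, hd, rfl⟩ := g.mem_borel.1 hb
  obtain ⟨a, ha⟩ : ∃ a : Fin D.nroots, a = ⟨top D, top_lt g⟩ := ⟨_, rfl⟩
  obtain ⟨c, hc'⟩ := hπ a
  obtain ⟨e, he⟩ := g.acts_diagonal hd (π a)
  have hvT := pos_commute_top g hc T (inv_mem hv) s
  have h1 : g.xG (π a) ((e : F) * ((c : F) * t)) = g.xG (top D) s := by
    have h2 : d * (n * g.xG (top D) t * n⁻¹) * d⁻¹ = g.xG (π a) ((e : F) * ((c : F) * t)) := by
      have h3 := hc' t
      rw [ha] at h3
      rw [show n * g.xG (top D) t * n⁻¹ = g.xG (π ⟨top D, top_lt g⟩) ((c : F) * t) from h3, ← ha]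
      exact he _
    rw [← h2]
    calc d * (n * g.xG (top D) t * n⁻¹) * d⁻¹
        = v⁻¹ * (v * d * n * u * g.xG (top D) t * (v * d * n * u)⁻¹) * v := by
          rw [_root_.mul_inv_rev, show v * d * n * u * g.xG (top D) t = v * d * n * (u * g.xG (top D) t) by
            group, huT.eq]
          group
      _ = _ := by rw [h, hvT.eq, mul_assoc, inv_mul_cancel, mul_one]
  have h4 : π a = a := by
    rw [ha] at h1 ⊢
    exact root_eq_of_xG_eq g (mul_ne_zero e.ne_zero (mul_ne_zero c.ne_zero ht)) h1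
  obtain ⟨l, hl⟩ := g.exists_wordN hn
  have hnl : g.Acts (g.wordN l : GL D.Idx F) π := by
    have h5 := g.acts_mul hπ (g.acts_inv (g.acts_diagonal hl))
    rwa [inv_one, mul_one, _root_.mul_inv_rev, inv_inv, ← mul_assoc, mul_inv_cancel, one_mul] at h5
  have hπl : π = g.wperm l := g.acts_unique hnl (g.acts_wordN l)
  have hlam : ∀ r : Fin D.nroots, g.lam (topC D) (g.wperm l r) = g.lam (topC D) r := by
    intro r
    rw [lam_topC g, lam_topC g, topW_eq_pair g (g.wperm l r).2, topW_eq_pair g r.2]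
    have := g.pair_wperm l a r
    rw [← hπl, h4, ha] at this
    rw [← hπl]
    exact_mod_cast this
  have hnP : n ∈ topP g F := by
    refine Subgroup.mem_inf.2 ⟨?_, g.monomial_le_group hn⟩
    have h6 := g.shape_geSub (g.shape_wordN (F := F) l).1 hlam
    rw [show n = g.wordN l * ((g.wordN l)⁻¹ * n) by group]
    exact mul_mem h6 (g.diagonal_le_geSub _ hl)
  exact mul_mem (mul_mem (borel_le_topP g hc T hb) hnP) (pos_le_topP g hc T (g.minus_le_pos π hu))

/-- The stabiliser acts on the top group by scalars. -/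
theorem exists_scalar {x : GL D.Idx F} (hx : x ∈ topP g F) :
    ∃ s : Fˣ, ∀ t : F, x * g.xG (top D) t * x⁻¹ = g.xG (top D) ((s : F) * t) := by
  rw [topP_eq g hc T] at hx
  let S : Subgroup (GL D.Idx F) :=
    { carrier := {x | ∃ s : Fˣ, ∀ t : F, x * g.xG (top D) t * x⁻¹ = g.xG (top D) ((s : F) * t)}
      one_mem' := ⟨1, fun t => by simp⟩
      mul_mem' := fun {x y} ⟨s, hs⟩ ⟨r, hr⟩ => ⟨s * r, fun t => by
        rw [show x * y * g.xG (top D) t * (x * y)⁻¹ = x * (y * g.xG (top D) t * y⁻¹) * x⁻¹ by group,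
          hr, hs, Units.val_mul, mul_assoc]⟩
      inv_mem' := fun {x} ⟨s, hs⟩ => ⟨s⁻¹, fun t => by
        have := hs (((s⁻¹ : Fˣ) : F) * t)
        rw [← mul_assoc, Units.mul_inv, one_mul] at this
        rw [← this, inv_inv]
        group⟩ }
  refine (show D.parabolicSubgroup F _ ≤ S from sup_le (fun b hb => ?_) ((Subgroup.closure_le _).2 ?_)) hx
  · obtain ⟨v, hv, d, hd, rfl⟩ := g.mem_borel.1 hb
    refine mul_mem (show v ∈ S from ⟨1, fun t => ?_⟩) (show d ∈ S from ?_)
    · rw [(pos_commute_top g hc T hv t).eq, mul_inv_cancel_right, Units.val_one, one_mul]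
    · obtain ⟨e, he⟩ := g.acts_diagonal hd ⟨top D, top_lt g⟩
      exact ⟨e, fun t => he t⟩
  · rintro z ⟨j, hj, hjr, hz⟩
    rw [show z = g.nI ⟨j, hjr⟩ from Units.ext (by rw [hz, Good.nI, g.coe_nG]; simp)]
    obtain ⟨e, he⟩ := g.acts_nI (F := F) ⟨j, hjr⟩ ⟨top D, top_lt g⟩
    refine ⟨e, fun t => ?_⟩
    rw [show g.xG (top D) ((e : F) * t) = g.xG (g.rperm ⟨j, hjr⟩ ⟨top D, top_lt g⟩ : ℕ) ((e : F) * t) by
      rw [T.w_refl ⟨j, hjr⟩ (Int.cast_eq_zero.1 (show ((topW D (D.simple j) : ℤ) : ℝ) = 0 from hj hjr)) _ rfl]]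
    exact he t

lemma top_mem_radSet : top D ∈ radSet D :=
  ⟨top_lt g, half_le_top g, by rw [T.w_top]; norm_num⟩

lemma xG_top_mem_topQ (t : F) : g.xG (top D) t ∈ topQ D F :=
  g.mem_rootGen (top_lt g) (top_mem_radSet g hc T) t

/-- Conjugation inside the radical. -/
lemma rad_conj {a b : ℕ} (ha : a ∈ radSet D) (hb : b ∈ radSet D) (t u : F) :
    g.xG b u * g.xG a t * (g.xG b u)⁻¹ = g.xG a t * g.xG (top D) ((nRad g b a : F) * u * t) := by
  by_cases hab : a = b
  · subst hab
    rw [(xG_commute_self g a u t).eq, mul_inv_cancel_right, nRad, if_pos rfl, Int.cast_zero,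
      zero_mul, zero_mul, g.xG_zero, mul_one]
  · rw [g.xG_conj hc ha.1 hb.1 hab (ne_neg_of_pos g ha.2.1 hb.2.1 hb.1), nRad, if_neg hab]
    congr 1
    have key : ∀ l : List (ℕ × ℤ × ℕ × ℕ), (∀ c ∈ l, c.1 = top D ∧ c.2.2.1 = 1 ∧ c.2.2.2 = 1) →
        (l.map fun c => g.xG c.1 ((c.2.1 : F) * u ^ c.2.2.1 * t ^ c.2.2.2)).prod =
          g.xG (top D) (((l.map fun c => c.2.1).sum : ℤ) * u * t) := by
      intro l
      induction l with
      | nil => intro; simp [g.xG_zero]
      | cons c l ih =>
        intro hl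
        obtain ⟨e1, e2, e3⟩ := hl c List.mem_cons_self
        rw [List.map_cons, List.prod_cons, ih fun x hx => hl x (List.mem_cons_of_mem _ hx), List.map_cons,
          List.sum_cons, e1, e2, e3, pow_one, pow_one, g.xG_add]
        push_cast
        ring_nf
    exact key _ (T.rad_terms b hb a ha)

lemma rad_step {m : ℕ} (hm : half D ≤ m) (hm' : m < D.nroots) {x : GL D.Idx F}
    (hx : x ∈ rootGen D F (radSet D ∩ Set.Ici m)) :
    ∃ (a : F) (y : GL D.Idx F), y ∈ rootGen D F (radSet D ∩ Set.Ici (m + 1)) ∧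
      x = g.xG m a * y ∧ (m ∉ radSet D → a = 0) := by
  by_cases hmr : m ∈ radSet D
  · obtain ⟨S, hS⟩ : ∃ S, S = rootGen D F (radSet D ∩ Set.Ici (m + 1)) := ⟨_, rfl⟩
    have hnorm : D.rootSubgroup F m ≤ Subgroup.normalizer (S : Set (GL D.Idx F)) := by
      rw [hS]
      refine g.le_normalizer_of_conj fun r hr hrn t u => ?_
      rw [rad_conj g hc T hr.1 hmr]
      refine mul_mem (g.mem_rootGen hrn hr t) ?_
      by_cases hmt : top D ≤ m
      · simp only [Set.mem_inter_iff, Set.mem_Ici] at hr
        have : r = top D := by unfold top at *; omega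
        unfold top at this hmt; omega
      · exact g.mem_rootGen (top_lt g) (show top D ∈ radSet D ∩ Set.Ici (m + 1) from
          ⟨top_mem_radSet g hc T, by simp only [Set.mem_Ici]; omega⟩) _
    have : rootGen D F (radSet D ∩ Set.Ici m) ≤ D.rootSubgroup F m ⊔ S :=
      g.rootGen_le fun r hr hrn t => by
        rcases eq_or_lt_of_le (show m ≤ r from hr.2) with rfl | hlt
        · exact Subgroup.mem_sup_left (g.xG_mem_rootSubgroup _ t)
        · exact Subgroup.mem_sup_right (hS ▸ g.mem_rootGen hrn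
            (show r ∈ radSet D ∩ Set.Ici (m + 1) from ⟨hr.1, hlt⟩) t)
    have hx' := SetLike.mem_coe.2 (this hx)
    rw [Subgroup.coe_mul_of_left_le_normalizer_right _ _ hnorm] at hx'
    obtain ⟨z, hz, y, hy, rfl⟩ := Set.mem_mul.1 hx'
    obtain ⟨a, rfl⟩ := g.mem_rootSubgroup.1 hz
    exact ⟨a, y, hS ▸ hy, rfl, fun h => absurd hmr h⟩
  · refine ⟨0, x, ?_, by rw [g.xG_zero, one_mul], fun _ => rfl⟩
    refine g.rootGen_mono (fun r hr _ => show r ∈ radSet D ∩ Set.Ici (m + 1) from ?_) hx
    refine ⟨hr.1, ?_⟩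
    have : r ≠ m := fun h => hmr (h ▸ hr.1)
    have h2 : m ≤ r := hr.2
    simp only [Set.mem_Ici]
    omega

/-- Coordinates of an element of the radical. -/
theorem exists_coords {x : GL D.Idx F} (hx : x ∈ topQ D F) :
    ∃ f : ℕ → F, (∀ r, r ∉ radSet D → f r = 0) ∧ x = g.xProd f (half D) := by
  classical
  have key : ∀ (k m : ℕ), half D ≤ m → D.nroots - m = k → ∀ y ∈ rootGen D F (radSet D ∩ Set.Ici m),
      ∃ f : ℕ → F, (∀ r, r ∉ radSet D → f r = 0) ∧ y = g.xProd f m := by
    intro k
    induction k with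
    | zero =>
      intro m hm hk y hy
      have : y ∈ rootGen D F (Set.Ici m) := g.rootGen_mono (fun r hr _ => hr.2) hy
      rw [g.Ici_empty (by omega), Subgroup.mem_bot] at this
      exact ⟨fun _ => 0, fun _ _ => rfl, by simp [this, Good.xProd, hk]⟩
    | succ k ih =>
      intro m hm hk y hy
      obtain ⟨a, z, hz, rfl, ha⟩ := rad_step g hc T hm (by omega) hy
      obtain ⟨f, hf, rfl⟩ := ih (m + 1) (by omega) (by omega) z hz
      refine ⟨Function.update f m a, fun r hr => ?_, ?_⟩
      · by_cases hrm : r = m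
        · subst hrm; rw [Function.update_self]; exact ha hr
        · rw [Function.update_of_ne hrm]; exact hf r hr
      · rw [g.xProd_succ _ (show m < D.nroots by omega), Function.update_self]
        congr 1
        simp only [Good.xProd]
        refine congrArg List.prod (List.map_congr_left fun r hr => ?_)
        rw [List.mem_range'_1] at hr
        rw [Function.update_of_ne (by omega)]
  exact key _ (half D) le_rfl rfl x (g.rootGen_mono (fun r hr _ => show r ∈ radSet D ∩ Set.Ici (half D) from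
    ⟨hr, hr.2.1⟩) hx)

/-- Conjugating a root element of the radical by an element given in coordinates. -/
theorem coords_conj {a : ℕ} (ha : a ∈ radSet D) {f : ℕ → F} (hf : ∀ r, r ∉ radSet D → f r = 0) (t : F) :
    g.xProd f (half D) * g.xG a t * (g.xProd f (half D))⁻¹ =
      g.xG a t * g.xG (top D)
        (((List.range' (half D) (D.nroots - half D)).map fun r => (nRad g r a : F) * f r).sum * t) := by
  have key : ∀ l : List ℕ, (l.map fun r => g.xG r (f r)).prod * g.xG a t *
      ((l.map fun r => g.xG r (f r)).prod)⁻¹ =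
        g.xG a t * g.xG (top D) ((l.map fun r => (nRad g r a : F) * f r).sum * t) := by
    intro l
    induction l with
    | nil => simp [g.xG_zero]
    | cons r l ih =>
      obtain ⟨w, hw⟩ : ∃ w : F, w = (l.map fun r => (nRad g r a : F) * f r).sum * t := ⟨_, rfl⟩
      rw [← hw] at ih
      have h1 : g.xG r (f r) * g.xG a t * (g.xG r (f r))⁻¹ =
          g.xG a t * g.xG (top D) ((nRad g r a : F) * f r * t) := by
        by_cases hr : r ∈ radSet D
        · exact rad_conj g hc T ha hr t (f r)
        · rw [hf r hr]; simp [g.xG_zero]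
      have h2 : g.xG r (f r) * g.xG (top D) w = g.xG (top D) w * g.xG r (f r) := by
        by_cases hr : r ∈ radSet D
        · exact (pos_commute_top g hc T
            (g.xG_mem_posUnipotent ((g.isPosRoot_iff r).2 ⟨hr.2.1, hr.1⟩) _) w).eq
        · rw [hf r hr]; simp [g.xG_zero]
      rw [List.map_cons, List.prod_cons, List.map_cons, List.sum_cons, add_mul, ← hw,
        show g.xG r (f r) * (l.map fun r => g.xG r (f r)).prod * g.xG a t *
          (g.xG r (f r) * (l.map fun r => g.xG r (f r)).prod)⁻¹ = g.xG r (f r) *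
          ((l.map fun r => g.xG r (f r)).prod * g.xG a t *
            ((l.map fun r => g.xG r (f r)).prod)⁻¹) * (g.xG r (f r))⁻¹ by group, ih,
        ← mul_assoc, mul_assoc (g.xG r (f r) * g.xG a t), show g.xG (top D) w * (g.xG r (f r))⁻¹ =
          (g.xG r (f r))⁻¹ * g.xG (top D) w by
            rw [eq_inv_mul_iff_mul_eq, ← mul_assoc, h2, mul_inv_cancel_right],
        ← mul_assoc, h1, mul_assoc, g.xG_add]
  exact key _

/-- The Levi part fixes the lowest root group. -/
theorem exists_rad_bot {v : GL D.Idx F} (hv : v ∈ D.posUnipotent F) :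
    ∃ u ∈ topQ D F, ∀ c : F, v * g.xG (D.neg (top D)) c * v⁻¹ = u * g.xG (D.neg (top D)) c * u⁻¹ := by
  rw [g.posUnipotent_eq] at hv
  obtain ⟨a, ha, b, hb, rfl⟩ := g.Ici_split hc (radSet D) (half D) le_rfl v hv
  refine ⟨a, g.rootGen_mono (fun r hr _ => hr.2) ha, fun c => ?_⟩
  have hle : rootGen D F (Set.Ici (half D) \ radSet D) ≤
      Subgroup.centralizer {g.xG (D.neg (top D)) c} := g.rootGen_le fun r hS hr s => by
    rw [Subgroup.mem_centralizer_singleton_iff]
    have hrp : half D ≤ r := hS.1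
    have hw : topW D r = 0 := by
      have := T.w_nonneg r hrp hr
      by_contra hne
      exact hS.2 ⟨hr, hrp, by omega⟩
    have hne : D.neg (top D) ≠ r := by
      have := (g.neg_neg_iff (top_lt g)).2 (half_le_top g); omega
    exact (commute_of_nil g hc (g.neg_lt (top_lt g)) hr hne (fun h => by
      have h1 := congrArg D.neg h
      rw [g.neg_neg (top_lt g), g.neg_neg hr] at h1
      subst h1
      rw [T.w_top] at hw
      norm_num at hw) ((T.levi_bot r hrp hr hw).1) c s).eq
  have := Subgroup.mem_centralizer_singleton_iff.1 (hle hb)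
  rw [show a * b * g.xG (D.neg (top D)) c * (a * b)⁻¹ =
    a * (b * g.xG (D.neg (top D)) c) * b⁻¹ * a⁻¹ by group, this]
  group

end SubMax

end CfsgLib.Chev
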