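import Cfsg.Agent.Lib.Chev.BorelTits
import Cfsg.Agent.Lib.Chev.SuppTables

/-!
Combinatorics of the highest root: weights, long roots, and the parabolic subgroup of the highest root group.
-/

set_option autoImplicit false
set_option linter.unusedSectionVars false

namespace CfsgLib.Chev

open Cfsg.Lie Matrix

namespace SubMax

/-- The highest root. -/
def top (D : ChevalleyDatum) : ℕ := D.nroots - 1

/-- The pairing with the coroot of the highest root. -/
noncomputable def topW (D : ChevalleyDatum) (u : ℕ) : ℤ := fpair D (top D) u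

/-- The roots of the radical of the parabolic subgroup of the highest root. -/
def radSet (D : ChevalleyDatum) : Set ℕ := {r | r < D.nroots ∧ half D ≤ r ∧ 0 < topW D r}

/-- Properties of the highest root and of a set of long roots. -/
structure TopData {D : ChevalleyDatum} (g : Good D) (long : ℕ → Bool) : Prop where
  long_top : long (top D) = true
  long_refl : ∀ (a : Fin D.nroots) (i : Fin D.rank), long a = true → long (g.rperm i a) = true
  climb : ∀ a : Fin D.nroots, long a = true → a.val ≠ top D → ∃ i, a.val < (g.rperm i a).val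
  w_top : topW D (top D) = 2
  w_nonneg : ∀ r, half D ≤ r → r < D.nroots → 0 ≤ topW D r
  w_refl : ∀ i : Fin D.rank, topW D (D.simple i) = 0 → ∀ a : Fin D.nroots, a.val = top D →
    (g.rperm i a).val = top D
  pos_top : ∀ r, half D ≤ r → r < D.nroots → r ≠ top D →
    D.commTerms r (top D) = [] ∧ D.commTerms (top D) r = []
  long_ge : ∀ r, r < D.nroots → long r = true → 0 ≤ topW D r → r ≠ top D →
    D.commTerms r (top D) = [] ∧ D.commTerms (top D) r = []
  long_neg : ∀ r, r < D.nroots → long r = true → topW D r < 0 → r = D.neg (top D) ∨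
    ∃ (k : ℕ) (c : ℤ), k < D.nroots ∧ long k = true ∧ (c = 1 ∨ c = -1) ∧
      D.commTerms r (top D) = [(k, c, 1, 1)] ∧ k ≠ top D ∧ k ≠ D.neg (top D) ∧
      D.commTerms k (top D) = [] ∧ k ≠ r ∧ k ≠ D.neg r ∧ D.commTerms k r = []
  rad_terms : ∀ a ∈ radSet D, ∀ b ∈ radSet D, ∀ c ∈ D.commTerms a b,
    c.1 = top D ∧ c.2.2.1 = 1 ∧ c.2.2.2 = 1
  levi_bot : ∀ r, half D ≤ r → r < D.nroots → topW D r = 0 →
    D.commTerms r (D.neg (top D)) = [] ∧ D.commTerms (D.neg (top D)) r = []
  span : ∀ i : Fin D.rank, topW D (D.simple i) = 0 → ∃ a ∈ radSet D, ∃ b ∈ radSet D,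
    ∀ j < D.rank, g.co b j = g.co a j + g.co (D.simple i) j
  move : ∀ r, half D ≤ r → r < D.nroots → topW D r = 0 → ∃ a ∈ radSet D,
    ∃ (k : ℕ) (c : ℤ) (rest : List (ℕ × ℤ × ℕ × ℕ)), D.commTerms r a = (k, c, 1, 1) :: rest ∧
      (c = 1 ∨ c = -1) ∧ k ≠ top D ∧ ∀ x ∈ rest, k < x.1

/-- The check for one root. -/
noncomputable def rootTopOK (D : ChevalleyDatum) (sd : StructData) (long : ℕ → Bool)
    (r : ℕ) : Bool :=
  let T := top D
  let w := topW D r
  let pos := decide ((half D) ≤ r)
  (!(long r) || (allR (fun i => long (refl sd i r)) (upto D.rank) &&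
    (decide (r = T) || anyR (fun i => decide (r < (refl sd i r))) (upto D.rank)))) &&
  (!pos || decide (0 ≤ w)) &&
  (!(pos && !(decide (r = T))) || ((fterms D r T).isEmpty && (fterms D T r).isEmpty)) &&
  (!(long r && decide (0 ≤ w) && !(decide (r = T))) || ((fterms D r T).isEmpty && (fterms D T r).isEmpty)) &&
  (!(long r && decide (w < 0)) || decide (r = (fneg D T)) ||
    (match fterms D r T with
     | [(k, c, 1, 1)] => decide (k < D.nroots) && long k && (decide (c = 1) || decide (c = -1)) &&
        !(decide (k = T)) && !(decide (k = (fneg D T))) && (fterms D k T).isEmpty && !(decide (k = r)) &&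
        !(decide (k = (fneg D r))) && (fterms D k r).isEmpty
     | _ => false)) &&
  (!(pos && decide (0 < w)) || allR (fun b => !(decide ((half D) ≤ b) && decide (0 < topW D b)) ||
    (fterms D r b).all (fun c => decide (c.1 = T) && decide (c.2.2.1 = 1) && decide (c.2.2.2 = 1)))
      (upto D.nroots)) &&
  (!(pos && decide (w = 0)) || ((fterms D r (fneg D T)).isEmpty && (fterms D (fneg D T) r).isEmpty &&
    anyR (fun a => decide ((half D) ≤ a) && decide (0 < topW D a) &&
      (match fterms D r a with
       | (k, c, 1, 1) :: rest => (decide (c = 1) || decide (c = -1)) && !(decide (k = T)) &&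
          rest.all (fun x => decide (k < x.1))
       | _ => false)) (upto D.nroots)))

/-- The check for one fundamental root. -/
noncomputable def simpleTopOK (D : ChevalleyDatum) (dat : LieData) (sd : StructData) (i : ℕ) : Bool :=
  let p := fsimple dat i
  !(decide (topW D p = 0)) || (decide ((refl sd i (top D)) = (top D)) &&
    anyR (fun a => decide ((half D) ≤ a) && decide (0 < topW D a) &&
      anyR (fun b => decide ((half D) ≤ b) && decide (0 < topW D b) &&
        allR (fun j => decide (rootCo dat b j = rootCo dat a j + rootCo dat p j)) (upto D.rank))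
        (upto D.nroots)) (upto D.nroots))

/-- The check of the highest root. -/
noncomputable def topOK (D : ChevalleyDatum) (dat : LieData) (sd : StructData) (long : ℕ → Bool) : Bool :=
  long (top D) && decide (topW D (top D) = 2) && allR (rootTopOK D sd long) (upto D.nroots) &&
    allR (simpleTopOK D dat sd) (upto D.rank)

theorem topData_of_check {D : ChevalleyDatum} (g : Good D) {dat : LieData} {sd : StructData}
    (hl : LieChecks D dat) (hs : StructChecks D dat sd) {long : ℕ → Bool}
    (hok : topOK D dat sd long = true) : TopData g long := by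
  simp only [topOK, Bool.and_eq_true, decide_eq_true_eq] at hok
  obtain ⟨⟨⟨h0, h1⟩, hR⟩, hS⟩ := hok
  have hn := g.nroots_eq
  have hT : top D < D.nroots := by unfold top; omega
  have hR' : ∀ r < D.nroots, rootTopOK D sd long r = true := fun r hr => allR_upto hR hr
  have hS' : ∀ i < D.rank, simpleTopOK D dat sd i = true := fun i hi => allR_upto hS hi
  have hneg : ∀ r < D.nroots, fneg D r = D.neg r := fun r hr => (neg_eq g.lie.pack hr).symm
  have hterms : ∀ r s, r < D.nroots → s < D.nroots → fterms D r s = D.commTerms r s := fun r s hr hs' =>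
    g.fterms_eq hr hs'
  have hrefl : ∀ (a : Fin D.nroots) (i : Fin D.rank), refl sd i a = (g.rperm i a).val := fun a i => by
    rw [g.rperm_val, (StructChecks.refl_facts hl hs i.2 a.2).1]
  have hupto : ∀ (n k : ℕ), k ∈ upto n → k < n := fun n k hk => by
    rw [upto_eq] at hk; exact List.mem_range.1 hk
  refine ⟨h0, fun a i ha => ?_, fun a ha hat => ?_, h1, fun r hp hr => ?_, fun i hi a ha => ?_,
    fun r hp hr hne => ?_, fun r hr hlong hw hne => ?_, fun r hr hlong hw => ?_, fun a ha b hb c hc => ?_,
    fun r hp hr hw => ?_, fun i hi => ?_, fun r hp hr hw => ?_⟩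
  · have h := hR' a a.2
    simp only [rootTopOK, Bool.and_eq_true, Bool.or_eq_true, ha, Bool.not_true, Bool.false_eq_true,
      false_or] at h
    have h2 := allR_upto h.1.1.1.1.1.1.1 i.2
    rwa [hrefl] at h2
  · have h := hR' a a.2
    simp only [rootTopOK, Bool.and_eq_true, Bool.or_eq_true, ha, Bool.not_true, Bool.false_eq_true,
      false_or, decide_eq_true_eq] at h
    rcases h.1.1.1.1.1.1.2 with h2 | h2
    · exact absurd h2 hat
    · rw [anyR_eq, List.any_eq_true] at h2
      obtain ⟨i, hi, h3⟩ := h2
      rw [decide_eq_true_eq] at h3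
      refine ⟨⟨i, hupto _ _ hi⟩, ?_⟩
      rwa [← hrefl a ⟨i, hupto _ _ hi⟩]
  · have h := hR' r hr
    simp only [rootTopOK, Bool.and_eq_true, Bool.or_eq_true] at h
    rcases h.1.1.1.1.1.2 with h2 | h2
    · simp [hp] at h2
    · simpa using h2
  · have h := hS' i i.2
    simp only [simpleTopOK, Bool.or_eq_true, Bool.and_eq_true, Bool.not_eq_true', decide_eq_false_iff_not] at h
    rw [show fsimple dat i = D.simple i from ((hl.simple_facts i.2).1).symm] at h
    rcases h with h | ⟨h2, -⟩
    · exact absurd hi h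
    · rw [decide_eq_true_eq, ← ha, hrefl] at h2
      omega
  · have h := hR' r hr
    simp only [rootTopOK, Bool.and_eq_true, Bool.or_eq_true, List.isEmpty_iff] at h
    rcases h.1.1.1.1.2 with h2 | h2
    · simp [hp, hne] at h2
    · rw [← hterms r _ hr hT, ← hterms _ r hT hr]; exact h2
  · have h := hR' r hr
    simp only [rootTopOK, Bool.and_eq_true, Bool.or_eq_true, List.isEmpty_iff] at h
    rcases h.1.1.1.2 with h2 | h2
    · simp [hlong, hw, hne] at h2
    · rw [← hterms r _ hr hT, ← hterms _ r hT hr]; exact h2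
  · have h := hR' r hr
    simp only [rootTopOK, Bool.and_eq_true, Bool.or_eq_true] at h
    rcases h.1.1.2 with (h2 | h2) | h2
    · simp [hlong, hw] at h2
    · left; rw [← hneg _ hT]; simpa using h2
    · right
      split at h2
      · rename_i k c heq
        simp only [Bool.and_eq_true, Bool.or_eq_true, decide_eq_true_eq, Bool.not_eq_true',
          List.isEmpty_iff] at h2
        obtain ⟨⟨⟨⟨⟨⟨⟨⟨k1, k2⟩, k3⟩, k4⟩, k5⟩, k6⟩, k7⟩, k8⟩, k9⟩ := h2
        refine ⟨k, c, k1, k2, k3, by rw [← hterms r _ hr hT, heq], ?_, ?_, ?_, ?_, ?_, ?_⟩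
        · simpa using k4
        · rw [← hneg _ hT]; simpa using k5
        · rw [← hterms k _ k1 hT]; exact k6
        · simpa using k7
        · rw [← hneg _ hr]; simpa using k8
        · rw [← hterms k _ k1 hr]; exact k9
      · simp at h2
  · obtain ⟨ha1, ha2, ha3⟩ := ha
    obtain ⟨hb1, hb2, hb3⟩ := hb
    have h := hR' a ha1
    simp only [rootTopOK, Bool.and_eq_true, Bool.or_eq_true] at h
    rcases h.1.2 with h2 | h2
    · simp [ha2, ha3] at h2
    · have h3 := allR_upto h2 hb1
      simp only [Bool.or_eq_true, List.all_eq_true, Bool.and_eq_true] at h3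
      rcases h3 with h3 | h3
      · simp [hb2, hb3] at h3
      · rw [← hterms a b ha1 hb1] at hc
        obtain ⟨⟨e1, e2⟩, e3⟩ := h3 c hc
        exact ⟨by simpa using e1, by simpa using e2, by simpa using e3⟩
  · have h := hR' r hr
    simp only [rootTopOK, Bool.and_eq_true, Bool.or_eq_true, List.isEmpty_iff] at h
    rcases h.2 with h2 | h2
    · simp [hp, hw] at h2
    · rw [← hneg _ hT, ← hterms r _ hr (by rw [hneg _ hT]; exact g.neg_lt hT),
        ← hterms _ r (by rw [hneg _ hT]; exact g.neg_lt hT) hr]
      exact h2.1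
  · have h := hS' i i.2
    simp only [simpleTopOK, Bool.or_eq_true, Bool.and_eq_true, Bool.not_eq_true', decide_eq_false_iff_not] at h
    rw [show fsimple dat i = D.simple i from ((hl.simple_facts i.2).1).symm] at h
    rcases h with h | ⟨-, h2⟩
    · exact absurd hi h
    · simp only [anyR_eq, List.any_eq_true, Bool.and_eq_true, decide_eq_true_eq] at h2
      obtain ⟨a, ha, ⟨ha2, ha3⟩, b, hb, ⟨hb2, hb3⟩, h4⟩ := h2
      refine ⟨a, ⟨hupto _ _ ha, ha2, ha3⟩, b, ⟨hupto _ _ hb, hb2, hb3⟩, fun j hj => ?_⟩
      have h5 := allR_upto h4 hj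
      rw [decide_eq_true_eq] at h5
      rw [← g.co_eq hl hs (hupto _ _ hb) hj, ← g.co_eq hl hs (hupto _ _ ha) hj,
        ← g.co_eq hl hs (g.simple_lt i.2) hj]
      exact h5
  · have h := hR' r hr
    simp only [rootTopOK, Bool.and_eq_true, Bool.or_eq_true, List.isEmpty_iff] at h
    rcases h.2 with h2 | h2
    · simp [hp, hw] at h2
    · obtain ⟨-, h3⟩ := h2
      rw [anyR_eq, List.any_eq_true] at h3
      obtain ⟨a, ha, h4⟩ := h3
      simp only [Bool.and_eq_true, decide_eq_true_eq] at h4
      obtain ⟨⟨ha2, ha3⟩, h5⟩ := h4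
      refine ⟨a, ⟨hupto _ _ ha, ha2, ha3⟩, ?_⟩
      split at h5
      · rename_i k c rest heq
        simp only [Bool.and_eq_true, Bool.or_eq_true, decide_eq_true_eq, Bool.not_eq_true',
          List.all_eq_true] at h5
        refine ⟨k, c, rest, by rw [← hterms r a hr (hupto _ _ ha), heq], h5.1.1, ?_, h5.2⟩
        simpa using h5.1.2
      · simp at h5

/-- The weights of the highest coroot. -/
noncomputable def topC (D : ChevalleyDatum) (q : Fin D.rank) : ℝ := (topW D (D.simple q) : ℝ)

section
variable {D : ChevalleyDatum} (g : Good D)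
include g

lemma top_lt : top D < D.nroots := by
  have := g.nroots_eq
  unfold top
  omega

lemma half_le_top : half D ≤ top D := by
  have := g.nroots_eq
  unfold top
  omega

lemma neg_top : D.neg (top D) = 0 := by
  rw [g.neg_rev (top_lt g)]
  unfold top
  omega

lemma topW_eq_pair {u : ℕ} (hu : u < D.nroots) : topW D u = pair D (top D) u := g.fpair_eq _ hu

lemma lam_topC (u : Fin D.nroots) : g.lam (topC D) u = (topW D u : ℝ) := by
  rw [topW_eq_pair g u.2]
  have hsum : ∀ i ∈ Finset.range D.rank, (D.coroot.getD (top D) #[]).getD i 0 * D.cartan i u =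
      ∑ j ∈ Finset.range D.rank, g.co u j * ((D.coroot.getD (top D) #[]).getD i 0 * D.cartan i (D.simple j)) :=
    fun i hi => by
      rw [g.cartan_eq_sum u.2 (Finset.mem_range.1 hi), Finset.mul_sum]
      exact Finset.sum_congr rfl fun j _ => by ring
  rw [pair, Finset.sum_congr rfl hsum, Finset.sum_comm, Good.lam, ← Fin.sum_univ_eq_sum_range
    (fun j => ∑ i ∈ Finset.range D.rank, g.co u j * ((D.coroot.getD (top D) #[]).getD i 0 * D.cartan i (D.simple j)))
    D.rank, Int.cast_sum]
  refine Finset.sum_congr rfl fun q _ => ?_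
  rw [topC, topW_eq_pair g (g.simple_lt q.2), ← Finset.mul_sum, pair]
  push_cast
  ring

variable {long : ℕ → Bool} (T : TopData g long)
include T

lemma topC_nonneg (q : Fin D.rank) : 0 ≤ topC D q := by
  rw [topC]
  exact_mod_cast T.w_nonneg _ (g.simple_pos q.2) (g.simple_lt q.2)

lemma long_wperm (l : List (Fin D.rank)) {a : Fin D.nroots} (ha : long a = true) :
    long (g.wperm l a) = true := by
  induction l with
  | nil => simpa [g.wperm_nil] using ha
  | cons i l ih => rw [g.wperm_cons]; exact T.long_refl _ i ih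

lemma exists_word_top {a : Fin D.nroots} (ha : long a = true) :
    ∃ l, (g.wperm l a).val = top D := by
  induction hk : D.nroots - a.val using Nat.strong_induction_on generalizing a with
  | _ k ih =>
    by_cases hat : a.val = top D
    · exact ⟨[], by simpa [g.wperm_nil] using hat⟩
    · obtain ⟨i, hi⟩ := T.climb a ha hat
      have := (g.rperm i a).2
      obtain ⟨l, hl⟩ := ih (D.nroots - (g.rperm i a).val) (by omega) (T.long_refl a i ha) rfl
      exact ⟨l ++ [i], by rw [g.wperm_append]; simpa [g.wperm_cons, g.wperm_nil] using hl⟩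

lemma exists_word_of_long {a : Fin D.nroots} (ha : long a = true) :
    ∃ l, g.wperm l ⟨top D, top_lt g⟩ = a := by
  obtain ⟨l, hl⟩ := exists_word_top g T ha
  exact ⟨l.reverse, by rw [g.wperm_reverse, Equiv.Perm.inv_eq_iff_eq]; exact Fin.ext hl.symm⟩

end

end SubMax

end CfsgLib.Chev
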