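import Cfsg.Agent.Lib.Chev.SubTwCtx

/-!
Coordinates of the radical of the twisted group modulo the highest root group, and fused fixed root elements.
-/

set_option autoImplicit false
set_option linter.unusedSectionVars false
set_option maxHeartbeats 800000

namespace CfsgLib.Chev.SubTw

open Cfsg.Lie Matrix CfsgLib.Chev CfsgLib.Chev.SubMax

namespace TCtx

variable {D : ChevalleyDatum} {K : Type*} [Field K] [Fintype K] (C : TCtx D K)

lemma f_ne (r : Fin D.nroots) : (nth 1 C.d.sgn r : K) ≠ 0 := fun h => by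
  obtain ⟨t, ht⟩ := C.A.T.f_surj r 1
  rw [C.hf, h, zero_mul] at ht
  exact zero_ne_one ht

/-! ### Words of orbits -/

lemma orbWord_val (L : List (Fin C.A.r)) : (C.A.orbWord L).map Fin.val = C.d.word (L.map Fin.val) := by
  induction L with
  | nil => rfl
  | cons o L ih =>
    rw [A1Setup.orbWord, List.flatMap_cons, List.map_append, C.horb, List.map_cons, TwData.word,
      List.flatMap_cons]
    exact congrArg _ ih

/-- The moved base root. -/
def bb : Fin D.nroots := ⟨C.d.b0, by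
  have h := C.hd
  simp only [TwData.ok, Bool.and_eq_true, decide_eq_true_eq] at h
  exact h.1.1.1.1.1.1.1.1.1.1.1.2⟩

/-- Every root is reached from the top root or from the base root. -/
theorem exists_rep (r : Fin D.nroots) : ∃ (L : List (Fin C.A.r)) (k : ℕ), k < C.E.r ∧
    (C.A.T.ρ r = r → C.g.wperm (C.A.orbWord L) C.tp = r) ∧
    (C.A.T.ρ r ≠ r → C.g.wperm (C.A.orbWord L) ((C.A.T.ρ)^[k] C.bb) = r) := by
  have h := C.root_ok r.2
  simp only [TwData.rootOK, Bool.and_eq_true, decide_eq_true_eq, List.all_eq_true] at h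
  obtain ⟨⟨⟨⟨⟨⟨-, hlt⟩, hw⟩, hk⟩, -⟩, -⟩, -⟩ := h
  obtain ⟨e, he⟩ : ∃ e, e = nth ([], 0) C.d.rep r.val := ⟨_, rfl⟩
  rw [← he] at hlt hw hk
  obtain ⟨L, hL⟩ : ∃ L : List (Fin C.A.r), L.map Fin.val = e.1 :=
    ⟨e.1.pmap (fun o h => ⟨o, h⟩) (fun o ho => C.hr.symm ▸ hlt o ho), by simp [List.map_pmap]⟩
  refine ⟨L, e.2, C.hdeg ▸ hk, fun hr => ?_, fun hr => ?_⟩
  · refine Fin.ext ?_
    rw [C.g.wperm_tab C.hl C.hs, C.orbWord_val, hL]
    rw [C.ρ_fix.1 hr, cond_true] at hw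
    have e2 : iterR C.d.ρ e.2 (top D) = top D := by
      rw [← show ((C.tp : Fin D.nroots) : ℕ) = top D from rfl, ← C.ρ_iter, Function.iterate_fixed C.ρ_top]
    rw [e2] at hw
    exact hw
  · refine Fin.ext ?_
    rw [C.g.wperm_tab C.hl C.hs, C.orbWord_val, hL]
    rw [show C.d.fix r = false by
      rw [← Bool.not_eq_true]; exact fun h => hr (C.ρ_fix.2 h), cond_false] at hw
    rw [C.ρ_iter]
    exact hw

/-- Conjugation by a word is a sign. -/
lemma exists_move (l : List (Fin D.rank)) (r : Fin D.nroots) : ∃ e : K, (e = 1 ∨ e = -1) ∧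
    ∀ t : K, C.g.wordN l * C.g.xG r t * (C.g.wordN l)⁻¹ = C.g.xG (C.g.wperm l r) (e * t) := by
  obtain ⟨e, he, h, -⟩ := C.g.wordN_conj_xG_pair (F := K) l r
  exact ⟨e, mul_self_eq_one_iff.1 he, h⟩

lemma sign_fixed {e : K} (he : e = 1 ∨ e = -1) : C.E.σ e = e := by
  rcases he with rfl | rfl <;> simp

/-- A conjugate of a rational element of the highest root group in the twisted group. -/
def IsTop (z : GL D.Idx K) : Prop :=
  ∃ h ∈ C.A.G1, ∃ s : K, s ≠ 0 ∧ C.E.σ s = s ∧ z = h * C.g.xG (top D) s * h⁻¹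

lemma isTop_fix {r : Fin D.nroots} (hr : C.A.T.ρ r = r) {t : K} (ht : t ≠ 0) (htσ : C.E.σ t = t) :
    C.IsTop (C.g.xG r t) := by
  obtain ⟨L, k, -, hL, -⟩ := C.exists_rep r
  obtain ⟨e, he, hee⟩ := C.exists_move (C.A.orbWord L) C.tp
  rw [hL hr] at hee
  have he0 : e ≠ 0 := by rcases he with rfl | rfl <;> simp
  refine ⟨C.g.wordN (C.A.orbWord L), (C.wordN_mem_M L).1, e⁻¹ * t, mul_ne_zero (inv_ne_zero he0) ht,
    by rw [map_mul, map_inv₀, C.sign_fixed he, htσ], ?_⟩
  rw [show C.g.wordN (C.A.orbWord L) * C.g.xG (top D) (e⁻¹ * t) * (C.g.wordN (C.A.orbWord L))⁻¹ =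
    C.g.xG r (e * (e⁻¹ * t)) from hee _, ← mul_assoc, mul_inv_cancel₀ he0, one_mul]

lemma isTop_conj {z h : GL D.Idx K} (hh : h ∈ C.A.G1) (hz : C.IsTop z) : C.IsTop (h * z * h⁻¹) := by
  obtain ⟨k, hk, s, hs, hs', rfl⟩ := hz
  exact ⟨h * k, mul_mem hh hk, s, hs, hs', by group⟩

/-! ### Coordinates -/

/-- A root of the radical other than the highest one. -/
def Mid (a : ℕ) : Prop := a ∈ radSet D ∧ a ≠ top D

open scoped _root_.Classical in
/-- The coordinate of an element of the radical at a root. -/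
noncomputable def crd (x : GL D.Idx K) (a : ℕ) : K :=
  if h : ∃ v : K, ∀ t, x * C.g.xG a t * x⁻¹ = C.g.xG a t * C.g.xG (top D) (v * t) then h.choose else 0

lemma crd_spec {x : GL D.Idx K} (hx : x ∈ topQ D K) {a : ℕ} (ha : a ∈ radSet D) (t : K) :
    x * C.g.xG a t * x⁻¹ = C.g.xG a t * C.g.xG (top D) (C.crd x a * t) := by
  obtain ⟨f, hf, rfl⟩ := exists_coords C.g C.hc C.T hx
  have h : ∃ v : K, ∀ t, C.g.xProd f (half D) * C.g.xG a t * (C.g.xProd f (half D))⁻¹ =
      C.g.xG a t * C.g.xG (top D) (v * t) := ⟨_, fun t => coords_conj C.g C.hc C.T ha hf t⟩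
  rw [crd, dif_pos h]
  exact h.choose_spec t

lemma crd_eq {x : GL D.Idx K} (hx : x ∈ topQ D K) {a : ℕ} (ha : a ∈ radSet D) {v : K}
    (h : x * C.g.xG a 1 * x⁻¹ = C.g.xG a 1 * C.g.xG (top D) v) : C.crd x a = v := by
  rw [C.crd_spec hx ha, mul_one] at h
  exact SubMax.xG_inj C.g (top_lt C.g) (mul_left_cancel h)

lemma topQ_commute_top {x : GL D.Idx K} (hx : x ∈ topQ D K) (t : K) : Commute x (C.g.xG (top D) t) :=
  pos_commute_top C.g C.hc C.T (topQ_le_pos C.g hx) t

lemma crd_mul {x y : GL D.Idx K} (hx : x ∈ topQ D K) (hy : y ∈ topQ D K) {a : ℕ} (ha : a ∈ radSet D) :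
    C.crd (x * y) a = C.crd x a + C.crd y a := by
  refine C.crd_eq (mul_mem hx hy) ha ?_
  rw [show x * y * C.g.xG a 1 * (x * y)⁻¹ = x * (y * C.g.xG a 1 * y⁻¹) * x⁻¹ by group,
    C.crd_spec hy ha, mul_one, show x * (C.g.xG a 1 * C.g.xG (top D) (C.crd y a)) * x⁻¹ =
      x * C.g.xG a 1 * x⁻¹ * (x * C.g.xG (top D) (C.crd y a) * x⁻¹) by group,
    (C.topQ_commute_top hx _).eq, mul_inv_cancel_right, C.crd_spec hx ha, mul_one, mul_assoc, C.g.xG_add]

lemma crd_one {a : ℕ} (ha : a ∈ radSet D) : C.crd (1 : GL D.Idx K) a = 0 :=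
  C.crd_eq (one_mem _) ha (by simp [C.g.xG_zero])

lemma crd_inv {x : GL D.Idx K} (hx : x ∈ topQ D K) {a : ℕ} (ha : a ∈ radSet D) :
    C.crd x⁻¹ a = -C.crd x a := by
  have h := C.crd_mul (inv_mem hx) hx ha
  rw [inv_mul_cancel, C.crd_one ha] at h
  exact eq_neg_of_add_eq_zero_left h.symm

lemma crd_prod {a : ℕ} (ha : a ∈ radSet D) (l : List (GL D.Idx K)) (hl : ∀ x ∈ l, x ∈ topQ D K) :
    C.crd l.prod a = (l.map fun x => C.crd x a).sum := by
  induction l with
  | nil => simp [C.crd_one ha]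
  | cons x l ih =>
    have hl' := fun y hy => hl y (List.mem_cons_of_mem _ hy)
    rw [List.prod_cons, C.crd_mul (hl x List.mem_cons_self) (Subgroup.list_prod_mem _ hl') ha, ih hl',
      List.map_cons, List.sum_cons]

lemma crd_xG {r a : ℕ} (hr : r ∈ radSet D) (ha : a ∈ radSet D) (u : K) :
    C.crd (C.g.xG r u) a = (nRad C.g r a : K) * u :=
  C.crd_eq (C.g.mem_rootGen hr.1 hr u) ha (by rw [rad_conj C.g C.hc C.T ha hr 1 u, mul_one])

lemma crd_top (u : K) {a : ℕ} (ha : a ∈ radSet D) : C.crd (C.g.xG (top D) u) a = 0 := by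
  refine C.crd_eq (xG_top_mem_topQ C.g C.hc C.T u) ha ?_
  rw [C.g.xG_zero, mul_one, mul_inv_eq_iff_eq_mul]
  exact (pos_commute_top C.g C.hc C.T (C.g.xG_mem_posUnipotent ((C.g.isPosRoot_iff a).2 ⟨ha.2.1, ha.1⟩) 1) u).eq.symm

lemma crd_conj {x y : GL D.Idx K} (hx : x ∈ topQ D K) (hy : y ∈ topQ D K) {a : ℕ} (ha : a ∈ radSet D) :
    C.crd (y⁻¹ * x * y) a = C.crd x a := by
  rw [C.crd_mul (mul_mem (inv_mem hy) hx) hy ha, C.crd_mul (inv_mem hy) hx ha, C.crd_inv hy ha]
  ring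

lemma sG_topQ {x : GL D.Idx K} (hx : x ∈ topQ D K) : C.sG x ∈ topQ D K :=
  C.g.scalarGL_rootGen C.E.σ _ (Subgroup.mem_map_of_mem _ hx)

lemma crd_sG {x : GL D.Idx K} (hx : x ∈ topQ D K) {a : ℕ} (ha : a ∈ radSet D) :
    C.crd (C.sG x) a = C.E.σ (C.crd x a) := by
  refine C.crd_eq (C.sG_topQ hx) ha ?_
  have h := congrArg C.sG (C.crd_spec hx ha 1)
  rwa [map_mul, map_mul, map_mul, map_inv, C.sG_xG ha.1, C.sG_xG (top_lt C.g), map_one, mul_one] at h

lemma ρ_rad {r : Fin D.nroots} (hr : r.val ∈ radSet D) : (C.A.T.ρ r).val ∈ radSet D :=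
  ⟨Fin.isLt _, C.A.T.ρ_pos r hr.2.1, by rw [C.topW_ρ]; exact hr.2.2⟩

lemma ρ_iter_rad {r : Fin D.nroots} (hr : r.val ∈ radSet D) (k : ℕ) :
    ((C.A.T.ρ)^[k] r : Fin D.nroots).val ∈ radSet D := by
  induction k with
  | zero => exact hr
  | succ k ih => rw [Function.iterate_succ_apply']; exact C.ρ_rad ih

/-- The coordinates of a fixed element are symmetric. -/
lemma crd_fixed {x : GL D.Idx K} (hx : x ∈ topQ D K) (hx1 : x ∈ C.A.G1) {a : Fin D.nroots}
    (ha : a.val ∈ radSet D) (t : K) :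
    C.crd x (C.A.T.ρ a : Fin D.nroots) * C.A.T.f a t = C.E.σ (C.crd x a * t) := by
  have hxg := C.G1_le_group hx1
  have e : (⟨x, hxg⟩ : ↥(D.group K)) * C.xs a t * (⟨x, hxg⟩ : ↥(D.group K))⁻¹ =
      C.xs a t * C.xs C.tp (C.crd x a * t) := Subtype.ext (C.crd_spec hx ha t)
  have h := congrArg C.A.T.σ e
  rw [map_mul C.A.T.σ, map_mul C.A.T.σ, map_mul C.A.T.σ, map_inv C.A.T.σ,
    C.fixed_eq (x := ⟨x, hxg⟩) hx1, C.σ_xs, C.σ_xs, C.ρ_top, C.f_fixed C.ρ_top] at h
  have h1 : x * C.g.xG (C.A.T.ρ a : Fin D.nroots) (C.A.T.f a t) * x⁻¹ =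
      C.g.xG (C.A.T.ρ a : Fin D.nroots) (C.A.T.f a t) * C.g.xG (top D) (C.E.σ (C.crd x a * t)) :=
    congrArg Subtype.val h
  rw [C.crd_spec hx (C.ρ_rad ha)] at h1
  exact SubMax.xG_inj C.g (top_lt C.g) (mul_left_cancel h1)

lemma crd_fixed_rat {x : GL D.Idx K} (hx : x ∈ topQ D K) (hx1 : x ∈ C.A.G1) {a : Fin D.nroots}
    (ha : a.val ∈ radSet D) (hf : C.A.T.ρ a = a) : C.E.σ (C.crd x a) = C.crd x a := by
  have h := C.crd_fixed hx hx1 ha 1
  rw [hf, C.f_fixed hf, map_one, mul_one] at h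
  exact h.symm

lemma crd_rot_eq {x z : GL D.Idx K} (hx : x ∈ topQ D K) (hx1 : x ∈ C.A.G1) (hz : z ∈ topQ D K)
    (hz1 : z ∈ C.A.G1) {a : Fin D.nroots} (ha : a.val ∈ radSet D) (h : C.crd x a = C.crd z a) (k : ℕ) :
    C.crd x ((C.A.T.ρ)^[k] a : Fin D.nroots) = C.crd z ((C.A.T.ρ)^[k] a : Fin D.nroots) := by
  induction k with
  | zero => exact h
  | succ k ih =>
    obtain ⟨b, hb⟩ : ∃ b, b = (C.A.T.ρ)^[k] a := ⟨_, rfl⟩
    have hb' : b.val ∈ radSet D := hb ▸ C.ρ_iter_rad ha k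
    rw [Function.iterate_succ_apply', ← hb]
    rw [← hb] at ih
    have e1 := C.crd_fixed hx hx1 hb' 1
    have e2 := C.crd_fixed hz hz1 hb' 1
    rw [ih, ← e2, C.hf, map_one, mul_one] at e1
    exact mul_right_cancel₀ (C.f_ne b) e1

/-! ### Partners -/

/-- The partner of a root of the radical. -/
theorem exists_partner {a : Fin D.nroots} (ha : Mid (D := D) a) :
    ∃ r : Fin D.nroots, Mid (D := D) r ∧ r.val + a.val = C.d.P ∧
      ((nRad C.g r a : K) = 1 ∨ (nRad C.g r a : K) = -1) ∧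
      ∀ b ∈ radSet D, b ≠ a.val → nRad C.g r b = 0 := by
  have hmid : ∀ {s : ℕ}, s < D.nroots → (TwData.mid D s = true ↔ Mid (D := D) s) := fun {s} hs => by
    simp [TwData.mid, Mid, radB_iff C.g hs]
  have h := C.root_ok a.2
  simp only [TwData.rootOK, Bool.and_eq_true, Bool.or_eq_true, Bool.not_eq_true', decide_eq_true_eq] at h
  rcases h.1.1.2 with h1 | h1
  · rw [(hmid a.2).2 ha] at h1; exact absurd h1 (by simp)
  obtain ⟨⟨⟨⟨⟨hle, hlt⟩, hm⟩, -⟩, -⟩, -⟩ := h1
  have hrm := (hmid hlt).1 hm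
  have h' := C.root_ok hlt
  simp only [TwData.rootOK, Bool.and_eq_true, Bool.or_eq_true, Bool.not_eq_true', decide_eq_true_eq] at h'
  rcases h'.1.1.2 with h2 | h2
  · rw [hm] at h2; exact absurd h2 (by simp)
  obtain ⟨⟨-, hn⟩, hz⟩ := h2
  rw [show C.d.P - (C.d.P - a.val) = a.val by omega] at hn hz
  refine ⟨⟨_, hlt⟩, hrm, by show C.d.P - a.val + a.val = C.d.P; omega, ?_, fun b hb hne => ?_⟩
  · rcases hn with hn | hn <;> rw [nF_eq C.g hlt a.2] at hn <;> simp [hn]
  · have h3 := allR_upto hz hb.1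
    simp only [Bool.or_eq_true, Bool.not_eq_true', decide_eq_true_eq] at h3
    rcases h3 with (h3 | h3) | h3
    · rw [(radB_iff C.g hb.1).2 hb] at h3; exact absurd h3 (by simp)
    · exact absurd h3 hne
    · rwa [nF_eq C.g hlt hb.1] at h3

lemma nRad_top {a : ℕ} (ha : a ∈ radSet D) : nRad C.g (top D) a = 0 := by
  have h := C.root_ok (top_lt C.g)
  simp only [TwData.rootOK, Bool.and_eq_true, Bool.or_eq_true, Bool.not_eq_true', decide_eq_true_eq] at h
  rcases h.1.2 with h1 | h1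
  · simp at h1
  · have h2 := allR_upto h1 ha.1
    simp only [Bool.or_eq_true, Bool.not_eq_true', decide_eq_true_eq, (radB_iff C.g ha.1).2 ha,
      Bool.true_eq_false, false_or] at h2
    rwa [nF_eq C.g (top_lt C.g) ha.1] at h2

lemma ρ_mid {a : Fin D.nroots} (ha : Mid (D := D) a) : Mid (D := D) (C.A.T.ρ a) := by
  refine ⟨C.ρ_rad ha.1, fun h => ha.2 ?_⟩
  have h1 : C.A.T.ρ a = C.A.T.ρ C.tp := by rw [C.ρ_top]; exact Fin.ext h
  exact congrArg Fin.val (C.A.T.ρ.injective h1)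

lemma ρ_iter_mid {a : Fin D.nroots} (ha : Mid (D := D) a) (k : ℕ) :
    Mid (D := D) ((C.A.T.ρ)^[k] a : Fin D.nroots) := by
  induction k with
  | zero => exact ha
  | succ k ih => rw [Function.iterate_succ_apply']; exact C.ρ_mid ih

/-- The partners of the rotations. -/
lemma partner_iter {r a : Fin D.nroots} (hr : Mid (D := D) r) (hsum : r.val + a.val = C.d.P) (k : ℕ) :
    ((C.A.T.ρ)^[k] r).val + ((C.A.T.ρ)^[k] a).val = C.d.P := by
  induction k with
  | zero => exact hsum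
  | succ k ih =>
    obtain ⟨b, hb⟩ : ∃ b, b = (C.A.T.ρ)^[k] r := ⟨_, rfl⟩
    have hb' : Mid (D := D) b := hb ▸ C.ρ_iter_mid hr k
    have h := C.root_ok b.2
    simp only [TwData.rootOK, Bool.and_eq_true, Bool.or_eq_true, Bool.not_eq_true', decide_eq_true_eq] at h
    rcases h.1.1.2 with h1 | h1
    · have h2 : TwData.mid D b.val = true := by simp [TwData.mid, radB_iff C.g b.2, hb'.1, hb'.2]
      rw [h2] at h1; exact absurd h1 (by simp)
    · obtain ⟨⟨⟨⟨⟨hle, hlt⟩, -⟩, hs⟩, -⟩, -⟩ := h1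
      have e : C.d.P - b.val = ((C.A.T.ρ)^[k] a).val := by rw [hb]; omega
      rw [e, ← C.hρ, ← C.hρ, hb] at hs
      rw [Function.iterate_succ_apply', Function.iterate_succ_apply', add_comm]
      exact hs

lemma EO_mem_topQ {r : Fin D.nroots} (hr : r.val ∈ radSet D) (t : K) : C.EO r t ∈ topQ D K :=
  C.EO_mem_rootGen (fun k => C.ρ_iter_rad hr k) t

open scoped _root_.Classical in
/-- The element of one orbit of coordinates. -/
noncomputable def slot (r : Fin D.nroots) (v : K) : GL D.Idx K :=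
  if C.A.T.ρ r = r then C.g.xG r v else C.EO r v

lemma slot_mem {r : Fin D.nroots} (hr : r.val ∈ radSet D) {v : K} (hv : C.A.T.ρ r = r → C.E.σ v = v) :
    C.slot r v ∈ C.A.G1 ∧ C.slot r v ∈ topQ D K := by
  by_cases h : C.A.T.ρ r = r
  · rw [slot, if_pos h]; exact ⟨C.fix_mem_G1 h (hv h), C.g.mem_rootGen r.2 hr v⟩
  · rw [slot, if_neg h]; exact ⟨C.EO_mem r v, C.EO_mem_topQ hr v⟩

lemma slot_mem_M {r : Fin D.nroots} {v : K} (hv : C.E.σ v = v) : C.slot r v ∈ C.M := by
  by_cases h : C.A.T.ρ r = r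
  · rw [slot, if_pos h]; exact C.fix_mem_M h hv
  · rw [slot, if_neg h]; exact C.EO_mem_M r hv

/-- The coordinates of one orbit element. -/
theorem crd_slot {r a : Fin D.nroots} (hr : Mid (D := D) r) (ha : Mid (D := D) a)
    (hsum : r.val + a.val = C.d.P) (v : K) :
    C.crd (C.slot r v) a = (nRad C.g r a : K) * v ∧
      ∀ b : Fin D.nroots, Mid (D := D) b → (∀ k, (C.A.T.ρ)^[k] a ≠ b) → C.crd (C.slot r v) b = 0 := by
  have hfac : ∀ (k : ℕ) (b : Fin D.nroots), Mid (D := D) b → (C.A.T.ρ)^[k] a ≠ b → ∀ u : K,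
      C.crd (C.g.xG ((C.A.T.ρ)^[k] r : Fin D.nroots) u) b = 0 := by
    intro k b hb hne u
    obtain ⟨r', hr', hs', -, hzero⟩ := C.exists_partner (C.ρ_iter_mid ha k)
    have hs2 := C.partner_iter hr hsum k
    rw [show ((C.A.T.ρ)^[k] r).val = r'.val by omega, C.crd_xG hr'.1 hb.1,
      hzero b hb.1 (fun h => hne (Fin.ext h.symm)), Int.cast_zero, zero_mul]
  by_cases h : C.A.T.ρ r = r
  · rw [slot, if_pos h]
    exact ⟨C.crd_xG hr.1 ha.1 v, fun b hb hne => hfac 0 b hb (hne 0) v⟩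
  · rw [slot, if_neg h, EO, orbP, SubmonoidClass.coe_list_prod, List.map_map]
    have hmem : ∀ x ∈ ((List.range C.E.r).map
        ((fun x : ↥(D.group K) => (x : GL D.Idx K)) ∘ fun k => (⇑C.A.T.σ)^[k] (C.xs r v))), x ∈ topQ D K := by
      intro x hx
      obtain ⟨k, -, rfl⟩ := List.mem_map.1 hx
      simp only [Function.comp_apply, C.σ_iter_xs, coe_xs]
      exact C.g.mem_rootGen (Fin.isLt _) (C.ρ_iter_rad hr.1 k) _
    refine ⟨?_, fun b hb hne => ?_⟩
    · rw [C.crd_prod ha.1 _ hmem, List.map_map, List.sum_map_eq_nsmul_single 0 _ ?_,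
        List.count_eq_one_of_mem List.nodup_range (List.mem_range.2 C.E.hr.pos), one_nsmul]
      · show C.crd (C.g.xG r v) a = _
        exact C.crd_xG hr.1 ha.1 v
      · intro k hk0 hk
        rw [List.mem_range] at hk
        simp only [Function.comp_apply, C.σ_iter_xs, coe_xs]
        refine hfac k a ha (fun e => ?_) _
        by_cases hfa : C.A.T.ρ a = a
        · -- the partner of a fixed root is fixed
          have hs1 := C.partner_iter hr hsum 1
          simp only [Function.iterate_one, hfa] at hs1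
          exact h (Fin.ext (by omega))
        · exact (C.orbit_distinct hfa (Nat.pos_of_ne_zero hk0) hk).1 e
    · rw [C.crd_prod hb.1 _ hmem, List.map_map]
      refine List.sum_eq_zero fun x hx => ?_
      obtain ⟨k, -, rfl⟩ := List.mem_map.1 hx
      simp only [Function.comp_apply, C.σ_iter_xs, coe_xs]
      exact hfac k b hb (hne k) _

/-- An element of the radical whose coordinates vanish lies in the highest root group. -/
theorem eq_top_of_crd {x : GL D.Idx K} (hx : x ∈ topQ D K)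
    (h0 : ∀ a : Fin D.nroots, Mid (D := D) a → C.crd x a = 0) : ∃ s : K, x = C.g.xG (top D) s := by
  obtain ⟨f, hf, rfl⟩ := exists_coords C.g C.hc C.T hx
  refine ⟨f (top D), ?_⟩
  have hsupp : ∀ r, r ∉ [top D] → f r = 0 := by
    intro r hr
    by_cases hrad : r ∈ radSet D
    · have hrm : Mid (D := D) r := ⟨hrad, by simpa using hr⟩
      obtain ⟨a, ham, hsum, -, -⟩ := C.exists_partner (a := ⟨r, hrad.1⟩) hrm
      obtain ⟨r', -, hsum', hN, -⟩ := C.exists_partner ham
      simp only at hsum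
      obtain rfl : r' = ⟨r, hrad.1⟩ := Fin.ext (by show r'.val = r; omega)
      have h1 := h0 a ham
      rw [C.crd_eq hx ham.1 (by rw [coords_conj C.g C.hc C.T ham.1 hf 1, mul_one]),
        List.sum_map_eq_nsmul_single r _ fun s hsr hs => ?_, List.count_eq_one_of_mem (List.nodup_range' _)
          (by rw [List.mem_range'_1]; have := hrad.1; have := hrad.2.1; omega), one_nsmul] at h1
      · rcases hN with e | e <;> simp only at e <;> simpa [e] using h1
      · by_cases hsrad : s ∈ radSet D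
        · by_cases hst : s = top D
          · rw [hst, C.nRad_top ham.1, Int.cast_zero, zero_mul]
          · obtain ⟨t, htm, hsum2, -, -⟩ := C.exists_partner (a := ⟨s, hsrad.1⟩) ⟨hsrad, hst⟩
            obtain ⟨s', -, hsum3, -, hz⟩ := C.exists_partner htm
            simp only at hsum2
            rw [show s = s'.val by omega, hz a.val ham.1 (by omega), Int.cast_zero, zero_mul]
        · rw [hf s hsrad, mul_zero]
    · exact hf r hrad
  have hl : (List.range' (half D) (D.nroots - half D)).filter (fun r => decide (r ∈ [top D])) = [top D] := by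
    have hn := C.g.nroots_eq
    rw [show D.nroots - half D = (D.nroots - half D - 1) + 1 by omega, List.range'_1_concat, List.filter_append,
      List.filter_eq_nil_iff.2 fun r hr => by
        rw [List.mem_range'_1] at hr
        simp only [List.mem_singleton, decide_eq_true_eq, top]
        omega]
    have : half D + (D.nroots - half D - 1) = top D := by unfold top; omega
    simp [this]
  rw [xProd_eq_list C.g hl hsupp]
  simp

/-- Removing one orbit of coordinates. -/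
lemma exists_remove {x : GL D.Idx K} (hx : x ∈ topQ D K) (hx1 : x ∈ C.A.G1) {a : Fin D.nroots}
    (ha : Mid (D := D) a) :
    ∃ r : Fin D.nroots, Mid (D := D) r ∧ r.val + a.val = C.d.P ∧ ∃ v : K,
      (C.E.σ (C.crd x a) = C.crd x a → C.E.σ v = v) ∧ (v = C.crd x a ∨ v = -C.crd x a) ∧
      C.slot r v ∈ C.A.G1 ∧ C.slot r v ∈ topQ D K ∧
      ∀ b : Fin D.nroots, Mid (D := D) b → C.crd (x * (C.slot r v)⁻¹) b = C.crd x b - C.crd (C.slot r v) b ∧
        ((∃ k, (C.A.T.ρ)^[k] a = b) → C.crd (x * (C.slot r v)⁻¹) b = 0) ∧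
        ((∀ k, (C.A.T.ρ)^[k] a ≠ b) → C.crd (x * (C.slot r v)⁻¹) b = C.crd x b) := by
  obtain ⟨r, hr, hsum, hn, -⟩ := C.exists_partner ha
  refine ⟨r, hr, hsum, (nRad C.g r a : K) * C.crd x a, fun h => by rw [map_mul, map_intCast, h],
    by rcases hn with e | e <;> simp [e], ?_⟩
  have hfix : C.A.T.ρ r = r → C.E.σ ((nRad C.g r a : K) * C.crd x a) = (nRad C.g r a : K) * C.crd x a := by
    intro h
    have hs1 := C.partner_iter hr hsum 1
    simp only [Function.iterate_one, h] at hs1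
    rw [map_mul, map_intCast, C.crd_fixed_rat hx hx1 ha.1 (Fin.ext (by omega))]
  obtain ⟨z1, z2⟩ := C.slot_mem hr.1 hfix
  refine ⟨z1, z2, fun b hb => ?_⟩
  have e : C.crd (x * (C.slot r ((nRad C.g r a : K) * C.crd x a))⁻¹) b =
      C.crd x b - C.crd (C.slot r ((nRad C.g r a : K) * C.crd x a)) b := by
    rw [C.crd_mul hx (inv_mem z2) hb.1, C.crd_inv z2 hb.1, sub_eq_add_neg]
  refine ⟨e, fun ⟨k, hk⟩ => ?_, fun hne => ?_⟩
  · rw [e, sub_eq_zero, ← hk]
    refine C.crd_rot_eq hx hx1 z2 z1 ha.1 ?_ k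
    rw [(C.crd_slot hr ha hsum _).1, ← mul_assoc]
    rcases hn with e | e <;> simp [e]
  · rw [e, (C.crd_slot hr ha hsum _).2 b hb hne, sub_zero]

/-- An element of the radical with rational coordinates is rational. -/
theorem mem_M_of_crd {x : GL D.Idx K} (hx : x ∈ topQ D K) (hx1 : x ∈ C.A.G1)
    (hrat : ∀ a : Fin D.nroots, Mid (D := D) a → C.E.σ (C.crd x a) = C.crd x a) : x ∈ C.M := by
  classical
  induction hk : (Finset.univ.filter fun a : Fin D.nroots => Mid (D := D) a.val ∧ C.crd x a ≠ 0).card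
    using Nat.strong_induction_on generalizing x with
  | _ n ih =>
    by_cases h0 : ∀ a : Fin D.nroots, Mid (D := D) a → C.crd x a = 0
    · obtain ⟨s, rfl⟩ := C.eq_top_of_crd hx h0
      exact C.fix_mem_M C.ρ_top (C.rat_of_fixed C.ρ_top hx1)
    · push Not at h0
      obtain ⟨a, ha, hne⟩ := h0
      obtain ⟨r, -, -, v, hv, -, z1, z2, hz⟩ := C.exists_remove hx hx1 ha
      have hzM := C.slot_mem_M (r := r) (hv (hrat a ha))
      have h1 : x * (C.slot r v)⁻¹ ∈ C.M := by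
        refine ih _ ?_ (mul_mem hx (inv_mem z2)) (mul_mem hx1 (inv_mem z1)) (fun b hb => ?_) rfl
        · rw [← hk]
          refine Finset.card_lt_card ((Finset.ssubset_iff_of_subset fun b hb => ?_).2 ⟨a, by simp [ha, hne], ?_⟩)
          · simp only [Finset.mem_filter, Finset.mem_univ, true_and] at hb ⊢
            refine ⟨hb.1, fun h => hb.2 ?_⟩
            by_cases hex : ∃ k, (C.A.T.ρ)^[k] a = b
            · exact (hz b hb.1).2.1 hex
            · push Not at hex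
              rw [(hz b hb.1).2.2 hex, h]
          · simp only [Finset.mem_filter, Finset.mem_univ, true_and, not_and, not_not]
            exact fun _ => (hz a ha).2.1 ⟨0, rfl⟩
        · rw [(hz b hb).1, map_sub, hrat b hb, ← C.crd_sG z2 hb.1, hzM.2]
          rfl
      rw [show x = x * (C.slot r v)⁻¹ * C.slot r v by group]
      exact mul_mem h1 hzM

/-- An element with one orbit of irrational coordinates gives an irrational orbit element. -/
theorem exists_EO_mem {x : GL D.Idx K} (hxH : x ∈ C.H) (hx : x ∈ topQ D K) {a : Fin D.nroots}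
    (ha : Mid (D := D) a) (hne : C.E.σ (C.crd x a) ≠ C.crd x a)
    (hrat : ∀ b : Fin D.nroots, Mid (D := D) b → (∀ k, (C.A.T.ρ)^[k] a ≠ b) → C.E.σ (C.crd x b) = C.crd x b) :
    ∃ r : Fin D.nroots, Mid (D := D) r ∧ r.val + a.val = C.d.P ∧ C.A.T.ρ r ≠ r ∧
      ∃ v : K, (v = C.crd x a ∨ v = -C.crd x a) ∧ C.E.σ v ≠ v ∧ C.EO r v ∈ C.H := by
  have hx1 := C.hi hxH
  have hfa : C.A.T.ρ a ≠ a := fun h => hne (C.crd_fixed_rat hx hx1 ha.1 h)
  obtain ⟨r, hr, hsum, v, -, hv, z1, z2, hz⟩ := C.exists_remove hx hx1 ha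
  have hfr : C.A.T.ρ r ≠ r := fun h => hfa (by
    have hs1 := C.partner_iter hr hsum 1
    simp only [Function.iterate_one, h] at hs1
    exact Fin.ext (by omega))
  refine ⟨r, hr, hsum, hfr, v, hv, ?_, ?_⟩
  · rcases hv with rfl | rfl
    · exact hne
    · intro h; rw [map_neg, neg_inj] at h; exact hne h
  · have hm : x * (C.slot r v)⁻¹ ∈ C.M := by
      refine C.mem_M_of_crd (mul_mem hx (inv_mem z2)) (mul_mem hx1 (inv_mem z1)) fun b hb => ?_
      by_cases hex : ∃ k, (C.A.T.ρ)^[k] a = b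
      · rw [(hz b hb).2.1 hex, map_zero]
      · push Not at hex
        rw [(hz b hb).2.2 hex]
        exact hrat b hb hex
    have e : C.EO r v = C.slot r v := by rw [slot, if_neg hfr]
    rw [e, show C.slot r v = (x * (C.slot r v)⁻¹)⁻¹ * x by group]
    exact mul_mem (inv_mem (C.M_le_H hm)) hxH

end TCtx

end CfsgLib.Chev.SubTw
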