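import Cfsg.Agent.Lib.Chev.SubTwData
import Cfsg.Agent.Lib.Chev.SubMaxField
import Cfsg.Agent.Lib.Chev.TwistH
import Cfsg.Agent.Lib.Chev.FixedFrob

/-!
A twisted group, an overgroup of its points over the subfield, and the fixed orbit elements.
-/

set_option autoImplicit false
set_option linter.unusedSectionVars false
set_option maxHeartbeats 800000

namespace CfsgLib.Chev.SubTw

open Cfsg.Lie Matrix CfsgLib.Chev CfsgLib.Chev.SubMax

/-- The setting. -/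
structure TCtx (D : ChevalleyDatum) (K : Type*) [Field K] [Fintype K] where
  g : Good D
  hc : HasComm D
  hse : SuppEq D
  T : TopData g (longOf [])
  dat : LieData
  sd : StructData
  hl : LieChecks D dat
  hs : StructChecks D dat sd
  d : TwData
  hd : d.ok D dat sd = true
  E : FieldExt K
  hdeg : d.deg = E.r
  A : A1Setup g K
  hsym : A.CoSym
  hρ : ∀ r : Fin D.nroots, (A.T.ρ r).val = nth 0 d.ρ r
  hf : ∀ (r : Fin D.nroots) (t : K), A.T.f r t = (nth 1 d.sgn r : K) * E.σ t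
  hφ : ∀ t, A.φ t = E.σ t
  hr : A.r = d.orbs.length
  horb : ∀ o : Fin A.r, (A.orb o).map Fin.val = d.orbs.getD o []
  H : Subgroup (GL D.Idx K)
  lo : ∀ x ∈ A.G1, scalarGL D E.σ x = x → x ∈ H
  hi : H ≤ A.G1

namespace TCtx

variable {D : ChevalleyDatum} {K : Type*} [Field K] [Fintype K] (C : TCtx D K)

/-- The entrywise field map. -/
abbrev sG : GL D.Idx K →* GL D.Idx K := scalarGL D C.E.σ

/-- The points over the subfield. -/
def M : Subgroup (GL D.Idx K) := C.A.G1 ⊓ MonoidHom.eqLocus C.sG (MonoidHom.id _)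

lemma mem_M {x : GL D.Idx K} : x ∈ C.M ↔ x ∈ C.A.G1 ∧ C.sG x = x := Iff.rfl

lemma M_le_H : C.M ≤ C.H := fun x hx => C.lo x hx.1 hx.2

lemma M_le_G1 : C.M ≤ C.A.G1 := inf_le_left

lemma G1_le_group : C.A.G1 ≤ D.group K := (C.A.G1_le_fixed C.hc).trans C.A.T.fixed_le

lemma fixed_eq {x : ↥(D.group K)} (hx : (x : GL D.Idx K) ∈ C.A.G1) : C.A.T.σ x = x :=
  (C.A.T.mem_fixed x).1 (C.A.G1_le_fixed C.hc hx)

lemma mem_G1_of_pos {x : ↥(D.group K)} (hx : (x : GL D.Idx K) ∈ D.posUnipotent K) (hfix : C.A.T.σ x = x) :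
    (x : GL D.Idx K) ∈ C.A.G1 := by
  have h : (x : GL D.Idx K) ∈ D.posUnipotent K ⊓ C.A.T.fixed := ⟨hx, (C.A.T.mem_fixed x).2 hfix⟩
  rw [← (C.A.sys C.hc).pos_inf_eq C.hc] at h
  exact h.2

lemma sG_xG {r : ℕ} (hr : r < D.nroots) (t : K) : C.sG (C.g.xG r t) = C.g.xG r (C.E.σ t) :=
  C.g.scalarGL_xG C.E.σ hr t

lemma sG_wordN (l : List (Fin D.rank)) : C.sG (C.g.wordN l) = C.g.wordN l := C.g.scalarGL_wordN C.E.σ l

lemma sG_G1 {x : GL D.Idx K} (hx : x ∈ C.A.G1) : C.sG x ∈ C.A.G1 := by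
  refine (show C.A.G1 ≤ C.A.G1.comap C.sG from ?_) hx
  conv_lhs => rw [C.A.G1_def]
  rw [Subgroup.closure_le]
  rintro z ⟨o, t, ht, hz⟩
  have ht' : ∀ i ∈ C.A.orb o, C.E.σ (t (C.A.S.pi i)) = C.A.φ (C.E.σ (t i)) := fun i hi => by
    rw [ht i hi, C.hφ, C.hφ]
  have hmap : ∀ e : Fin D.rank → Fin D.nroots, C.sG (C.g.xList e (C.A.orb o) t) =
      C.g.xList e (C.A.orb o) (fun i => C.E.σ (t i)) := fun e => by
    rw [Good.xList, Good.xList, map_list_prod, List.map_map]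
    exact congrArg List.prod (List.map_congr_left fun i _ => C.sG_xG (e i).2 _)
  rw [SetLike.mem_coe, Subgroup.mem_comap]
  rcases hz with rfl | rfl
  · rw [hmap]; exact (C.A.gen_mem (t := fun i => C.E.σ (t i)) ht').1
  · rw [hmap]; exact (C.A.gen_mem (t := fun i => C.E.σ (t i)) ht').2

lemma wordN_mem_M (L : List (Fin C.A.r)) : (C.g.wordN (C.A.orbWord L) : GL D.Idx K) ∈ C.M :=
  ⟨C.A.wordN_orbWord_mem C.hc L, C.sG_wordN _⟩

/-! ### The table -/

/-- The facts about one root. -/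
lemma root_ok {r : ℕ} (hr : r < D.nroots) : C.d.rootOK D C.sd r = true := by
  have h := C.hd
  simp only [TwData.ok, Bool.and_eq_true] at h
  obtain ⟨⟨⟨⟨⟨⟨⟨⟨⟨⟨⟨⟨⟨⟨⟨⟨⟨-, h1⟩, -⟩, -⟩, -⟩, -⟩, -⟩, -⟩, -⟩, -⟩, -⟩, -⟩, -⟩, -⟩, -⟩, -⟩, -⟩, -⟩ := h
  exact allR_upto h1 hr

lemma topW_ρ (r : Fin D.nroots) : topW D (C.A.T.ρ r) = topW D r := by
  have h := C.root_ok r.2
  simp only [TwData.rootOK, Bool.and_eq_true, decide_eq_true_eq] at h
  rw [C.hρ]
  exact h.1.1.1.1.1.1.1.1.1.1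

lemma ρ_fix {r : Fin D.nroots} : C.A.T.ρ r = r ↔ C.d.fix r = true := by
  rw [TwData.fix, decide_eq_true_eq, ← C.hρ, Fin.ext_iff]

lemma sgn_fixed {r : Fin D.nroots} (hr : C.A.T.ρ r = r) : nth 1 C.d.sgn r = 1 := by
  have h := C.root_ok r.2
  simp only [TwData.rootOK, Bool.and_eq_true, Bool.or_eq_true, Bool.not_eq_true', decide_eq_true_eq] at h
  rcases h.1.1.1.1.1.1.1.1.1.2 with h1 | h1
  · rw [C.ρ_fix.1 hr] at h1; exact absurd h1 (by simp)
  · exact h1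

lemma f_fixed {r : Fin D.nroots} (hr : C.A.T.ρ r = r) (t : K) : C.A.T.f r t = C.E.σ t := by
  rw [C.hf, C.sgn_fixed hr, Int.cast_one, one_mul]

/-- The highest root. -/
abbrev tp : Fin D.nroots := ⟨top D, top_lt C.g⟩

lemma ρ_top : C.A.T.ρ C.tp = C.tp := by
  have h := C.hd
  simp only [TwData.ok, Bool.and_eq_true] at h
  exact C.ρ_fix.2 h.1.1.1.1.1.1.1.1.1.1.1.1.1.1.1.1.1

lemma ρ_iter (k : ℕ) (r : Fin D.nroots) : ((C.A.T.ρ)^[k] r).val = iterR C.d.ρ k r := by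
  induction k with
  | zero => rfl
  | succ k ih => rw [Function.iterate_succ_apply', C.hρ, ih]; rfl

lemma ρ_period (r : Fin D.nroots) : (C.A.T.ρ)^[C.E.r] r = r := by
  have h := C.root_ok r.2
  simp only [TwData.rootOK, Bool.and_eq_true, decide_eq_true_eq] at h
  refine Fin.ext ?_
  rw [C.ρ_iter, ← C.hdeg]
  exact h.1.1.1.1.1.1.1.1.2

lemma topW_iter (k : ℕ) (r : Fin D.nroots) : topW D ((C.A.T.ρ)^[k] r) = topW D r := by
  induction k with
  | zero => rfl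
  | succ k ih => rw [Function.iterate_succ_apply', C.topW_ρ, ih]

/-! ### Root elements in the group -/

/-- A root element, in the group. -/
noncomputable def xs (r : Fin D.nroots) (t : K) : ↥(D.group K) := ⟨C.g.xG r t, C.g.xG_mem_group r.2 t⟩

lemma coe_xs (r : Fin D.nroots) (t : K) : (C.xs r t : GL D.Idx K) = C.g.xG r t := rfl

lemma σ_xs (r : Fin D.nroots) (t : K) : C.A.T.σ (C.xs r t) = C.xs (C.A.T.ρ r) (C.A.T.f r t) :=
  Subtype.ext (C.A.T.σ_x r t)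

lemma σ_iter_xs (k : ℕ) (r : Fin D.nroots) (t : K) :
    (⇑C.A.T.σ)^[k] (C.xs r t) = C.xs ((C.A.T.ρ)^[k] r) ((C.d.sgk r k : K) * (C.E.σ)^[k] t) := by
  induction k with
  | zero => simp [TwData.sgk]
  | succ k ih =>
    rw [Function.iterate_succ_apply', ih, C.σ_xs, Function.iterate_succ_apply' C.A.T.ρ, C.hf,
      map_mul, map_intCast, ← mul_assoc, C.ρ_iter, Function.iterate_succ_apply' C.E.σ]
    congr 2
    rw [show C.d.sgk r (k + 1) = C.d.sgk r k * nth 1 C.d.sgn (iterR C.d.ρ k r) from rfl, Int.cast_mul,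
      mul_comm]

lemma xs_period (r : Fin D.nroots) (t : K) : (⇑C.A.T.σ)^[C.E.r] (C.xs r t) = C.xs r t := by
  have h := C.root_ok r.2
  simp only [TwData.rootOK, Bool.and_eq_true, decide_eq_true_eq] at h
  rw [C.σ_iter_xs, C.ρ_period, C.E.iterate_r, ← C.hdeg, h.1.1.1.1.1.1.1.2, Int.cast_one, one_mul]

lemma orbit_distinct {r : Fin D.nroots} (hr : C.A.T.ρ r ≠ r) {k : ℕ} (hk : 0 < k) (hk' : k < C.E.r) :
    (C.A.T.ρ)^[k] r ≠ r ∧ ∀ t u : K, Commute (C.g.xG r t) (C.g.xG ((C.A.T.ρ)^[k] r : Fin D.nroots) u) := by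
  have h := C.root_ok r.2
  simp only [TwData.rootOK, Bool.and_eq_true, Bool.or_eq_true] at h
  rcases h.1.1.1.1.1.1.2 with h1 | h1
  · exact absurd (C.ρ_fix.2 h1) hr
  · have h2 := allR_upto h1 (k := k) (by rw [C.hdeg]; exact hk')
    simp only [Bool.and_eq_true, Bool.or_eq_true, decide_eq_true_eq, Bool.not_eq_true',
      decide_eq_false_iff_not, List.isEmpty_iff] at h2
    obtain ⟨⟨e1, e2⟩, e3⟩ := h2.resolve_left hk.ne'
    rw [← C.ρ_iter] at e1 e2 e3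
    refine ⟨fun e => e1 (by rw [e]), fun t u => ?_⟩
    rw [C.g.fterms_eq r.2 (Fin.isLt _)] at e3
    exact commute_of_nil C.g C.hc (Fin.isLt _) r.2 e1 (by rw [neg_eq C.g.lie.pack r.2]; exact e2) e3 u t

lemma xs_commute (r : Fin D.nroots) {k : ℕ} (hk : 0 < k) (hk' : k < C.E.r) (t u : K) :
    Commute (C.xs r t) ((⇑C.A.T.σ)^[k] (C.xs r u)) := by
  rw [C.σ_iter_xs]
  refine Subtype.ext ?_
  by_cases hr : C.A.T.ρ r = r
  · rw [Function.iterate_fixed hr]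
    exact (SubMax.xG_commute_self C.g _ _ _).eq
  · exact ((C.orbit_distinct hr hk hk').2 _ _).eq

/-- The product over an orbit. -/
noncomputable def orbP (z : ↥(D.group K)) : ↥(D.group K) :=
  ((List.range C.E.r).map fun k => (⇑C.A.T.σ)^[k] z).prod

lemma σ_orbP {z : ↥(D.group K)} (hz : (⇑C.A.T.σ)^[C.E.r] z = z)
    (hcomm : ∀ k, 0 < k → k < C.E.r → Commute z ((⇑C.A.T.σ)^[k] z)) : C.A.T.σ (C.orbP z) = C.orbP z := by
  obtain ⟨m, hm⟩ : ∃ m, C.E.r = m + 1 := ⟨C.E.r - 1, by have := C.E.hr.pos; omega⟩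
  rw [orbP, map_list_prod, List.map_map, hm]
  conv_lhs => rw [List.range_succ, List.map_append, List.prod_append, List.map_singleton, List.prod_singleton]
  conv_rhs => rw [List.range_succ_eq_map, List.map_cons, List.prod_cons, List.map_map, Function.iterate_zero_apply]
  rw [show ((⇑C.A.T.σ) ∘ fun k => (⇑C.A.T.σ)^[k] z) m = z by
      rw [Function.comp_apply, ← Function.iterate_succ_apply' (⇑C.A.T.σ), show m.succ = C.E.r by omega, hz],
    List.map_congr_left (f := (⇑C.A.T.σ) ∘ fun k => (⇑C.A.T.σ)^[k] z) (l := List.range m)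
      (g := fun k => (⇑C.A.T.σ)^[k + 1] z) fun k _ => (Function.iterate_succ_apply' _ _ _).symm,
    List.map_congr_left (f := (fun k => (⇑C.A.T.σ)^[k] z) ∘ Nat.succ) (l := List.range m)
      (g := fun k => (⇑C.A.T.σ)^[k + 1] z) fun k _ => rfl]
  refine (Commute.list_prod_right _ _ fun x hx => ?_).eq.symm
  obtain ⟨k, hk, rfl⟩ := List.mem_map.1 hx
  rw [List.mem_range] at hk
  exact hcomm (k + 1) k.succ_pos (by omega)

lemma σ_iter_mul (k : ℕ) (a b : ↥(D.group K)) :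
    (⇑C.A.T.σ)^[k] (a * b) = (⇑C.A.T.σ)^[k] a * (⇑C.A.T.σ)^[k] b := iterate_map_mul C.A.T.σ k a b

lemma orbP_mul {a b : ↥(D.group K)} (h : ∀ k, 0 < k → k < C.E.r →
    Commute b ((⇑C.A.T.σ)^[k] a) ∧ Commute a ((⇑C.A.T.σ)^[k] b)) :
    C.orbP (a * b) = C.orbP a * C.orbP b := by
  rw [orbP, orbP, orbP, List.map_congr_left fun k _ => C.σ_iter_mul k a b]
  refine prod_map_mul_of_commute List.nodup_range _ _ fun i hi j hj hij => ?_
  rw [List.mem_range] at hi hj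
  rcases Nat.lt_or_gt_of_ne hij with hlt | hlt
  · obtain ⟨k, rfl⟩ : ∃ k, j = i + k := ⟨j - i, by omega⟩
    rw [Function.iterate_add_apply]
    show _ * _ = _ * _
    rw [← C.σ_iter_mul, ← C.σ_iter_mul, (h k (by omega) (by omega)).1.eq]
  · obtain ⟨k, rfl⟩ : ∃ k, i = j + k := ⟨i - j, by omega⟩
    rw [Function.iterate_add_apply]
    show _ * _ = _ * _
    rw [← C.σ_iter_mul, ← C.σ_iter_mul, ((h k (by omega) (by omega)).2).symm.eq]

lemma orbP_conj {n : ↥(D.group K)} (hn : C.A.T.σ n = n) (z : ↥(D.group K)) :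
    C.orbP (n * z * n⁻¹) = n * C.orbP z * n⁻¹ := by
  have e : ∀ k, (⇑C.A.T.σ)^[k] (n * z * n⁻¹) = MulAut.conj n ((⇑C.A.T.σ)^[k] z) := fun k => by
    induction k with
    | zero => rfl
    | succ k ih =>
      rw [Function.iterate_succ_apply', ih, Function.iterate_succ_apply' (⇑C.A.T.σ)]
      simp only [MulAut.conj_apply, map_mul, map_inv, hn]
  rw [orbP, List.map_congr_left fun k _ => e k, orbP, ← MulAut.conj_apply, map_list_prod, List.map_map]
  rfl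

/-- The orbit element of a root. -/
noncomputable def EO (r : Fin D.nroots) (t : K) : GL D.Idx K := C.orbP (C.xs r t)

lemma σ_EO (r : Fin D.nroots) (t : K) : C.A.T.σ (C.orbP (C.xs r t)) = C.orbP (C.xs r t) :=
  C.σ_orbP (C.xs_period r t) fun _ h h' => C.xs_commute r h h' t t

lemma EO_add (r : Fin D.nroots) (t u : K) : C.EO r (t + u) = C.EO r t * C.EO r u := by
  have e : C.xs r (t + u) = C.xs r t * C.xs r u := Subtype.ext (C.g.xG_add r t u).symm
  rw [EO, e, C.orbP_mul fun k h h' => ⟨C.xs_commute r h h' u t, C.xs_commute r h h' t u⟩, Subgroup.coe_mul]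
  rfl

lemma EO_zero (r : Fin D.nroots) : C.EO r 0 = 1 := by
  have h := C.EO_add r 0 0
  rw [add_zero] at h
  exact mul_eq_left.1 h.symm

lemma EO_neg (r : Fin D.nroots) (t : K) : C.EO r (-t) = (C.EO r t)⁻¹ := by
  have h := C.EO_add r (-t) t
  rw [neg_add_cancel, C.EO_zero] at h
  exact eq_inv_of_mul_eq_one_left h.symm

/-- Moving along the orbit. -/
lemma EO_rot (r : Fin D.nroots) (t : K) : C.EO (C.A.T.ρ r) (C.A.T.f r t) = C.EO r t := by
  have e : C.orbP (C.xs (C.A.T.ρ r) (C.A.T.f r t)) = C.A.T.σ (C.orbP (C.xs r t)) := by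
    rw [← C.σ_xs, orbP, orbP, map_list_prod, List.map_map]
    exact congrArg List.prod (List.map_congr_left fun k _ =>
      ((Function.iterate_succ_apply _ _ _).symm.trans (Function.iterate_succ_apply' _ _ _)))
  rw [EO, EO, e, C.σ_EO]

/-- Conjugation by a fixed element. -/
lemma EO_conj {n : GL D.Idx K} (hn : n ∈ C.A.G1) {r s : Fin D.nroots} {t u : K}
    (h : n * C.g.xG r t * n⁻¹ = C.g.xG s u) : n * C.EO r t * n⁻¹ = C.EO s u := by
  obtain ⟨nG, hnG⟩ : ∃ nG : ↥(D.group K), (nG : GL D.Idx K) = n := ⟨⟨n, C.G1_le_group hn⟩, rfl⟩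
  have e : C.xs s u = nG * C.xs r t * nG⁻¹ := Subtype.ext (by simp [hnG, coe_xs, h])
  rw [EO, EO, e, C.orbP_conj (C.fixed_eq (by rw [hnG]; exact hn))]
  simp [hnG]

lemma sG_EO (r : Fin D.nroots) (t : K) : C.sG (C.EO r t) = C.EO r (C.E.σ t) := by
  rw [EO, EO, orbP, orbP, SubmonoidClass.coe_list_prod, SubmonoidClass.coe_list_prod, map_list_prod,
    List.map_map, List.map_map, List.map_map]
  refine congrArg List.prod (List.map_congr_left fun k _ => ?_)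
  simp only [Function.comp_apply]
  rw [C.σ_iter_xs, C.σ_iter_xs, coe_xs, coe_xs, C.sG_xG (Fin.isLt _), map_mul, map_intCast,
    ← Function.iterate_succ_apply' C.E.σ, Function.iterate_succ_apply]

lemma EO_mem_rootGen {S : Set ℕ} {r : Fin D.nroots}
    (hS : ∀ k, ((C.A.T.ρ)^[k] r : Fin D.nroots).val ∈ S) (t : K) : C.EO r t ∈ rootGen D K S := by
  rw [EO, orbP, SubmonoidClass.coe_list_prod, List.map_map]
  refine Subgroup.list_prod_mem _ fun x hx => ?_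
  obtain ⟨k, -, rfl⟩ := List.mem_map.1 hx
  simp only [Function.comp_apply]
  rw [C.σ_iter_xs, coe_xs]
  exact C.g.mem_rootGen (Fin.isLt _) (hS k) _

/-- Orbit elements lie in the twisted group. -/
theorem EO_mem (r : Fin D.nroots) (t : K) : C.EO r t ∈ C.A.G1 := by
  have hpos : ∀ (r : Fin D.nroots), half D ≤ r.val → ∀ t, C.EO r t ∈ C.A.G1 := by
    intro r hr t
    refine C.mem_G1_of_pos ?_ (C.σ_EO r t)
    rw [C.g.posUnipotent_eq]
    refine C.EO_mem_rootGen (fun k => ?_) t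
    induction k with
    | zero => exact hr
    | succ k ih => rw [Function.iterate_succ_apply']; exact C.A.T.ρ_pos _ ih
  by_cases hr : half D ≤ r.val
  · exact hpos r hr t
  · obtain ⟨w₀, hw₀, hms, -⟩ := C.A.T.exists_longest_fixed
    obtain ⟨n, hn, -, hna⟩ := (C.A.sys C.hc).exists_rep hw₀
    replace hn : n ∈ C.A.G1 := hn
    obtain ⟨c, hc⟩ := hna r
    have hwr : half D ≤ (w₀ r).val := by
      by_contra hcon
      have hnr : half D ≤ (C.g.nroot r).val := (C.g.nroot_pos_iff r).2 (Nat.not_le.1 hr)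
      have hm : (C.g.nroot r).val ∈ minusSet w₀ := hms ▸ ⟨(C.g.nroot r).2, hnr⟩
      obtain ⟨_, -, h2⟩ := hm
      have h3 : half D ≤ (C.g.nroot (w₀ r)).val := (C.g.nroot_pos_iff _).2 (Nat.not_le.1 hcon)
      rw [← C.g.weyl_nroot (C.A.T.mem_weylFix.1 hw₀).1] at h3
      exact absurd h2 (not_lt.2 h3)
    have h1 := C.EO_conj hn (hc t)
    rw [show C.EO r t = n⁻¹ * (n * C.EO r t * n⁻¹) * n by group, h1]
    exact mul_mem (mul_mem (inv_mem hn) (hpos _ hwr _)) hn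

lemma EO_mem_M (r : Fin D.nroots) {t : K} (ht : C.E.σ t = t) : C.EO r t ∈ C.M :=
  ⟨C.EO_mem r t, by show C.sG _ = _; rw [C.sG_EO, ht]; rfl⟩

/-- Root elements of fixed roots with rational parameter. -/
theorem fix_mem_G1 {r : Fin D.nroots} (hr : C.A.T.ρ r = r) {t : K} (ht : C.E.σ t = t) :
    C.g.xG r t ∈ C.A.G1 := by
  have hσ : ∀ (r : Fin D.nroots), C.A.T.ρ r = r → ∀ t, C.E.σ t = t → half D ≤ r.val →
      C.g.xG r t ∈ C.A.G1 := by
    intro r hr t ht hp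
    refine C.mem_G1_of_pos (x := C.xs r t) (C.g.xG_mem_posUnipotent ((C.g.isPosRoot_iff _).2 ⟨hp, r.2⟩) t) ?_
    rw [C.σ_xs, hr, C.f_fixed hr, ht]
  by_cases hp : half D ≤ r.val
  · exact hσ r hr t ht hp
  · -- move to the positive roots by a fixed representative of the longest element
    obtain ⟨w₀, hw₀, hms, -⟩ := C.A.T.exists_longest_fixed
    obtain ⟨n, hn, -, hna⟩ := (C.A.sys C.hc).exists_rep hw₀
    replace hn : n ∈ C.A.G1 := hn
    obtain ⟨c, hc⟩ := hna r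
    obtain ⟨hw, hwc⟩ := C.A.T.mem_weylFix.1 hw₀
    have hwr : half D ≤ (w₀ r).val := by
      by_contra hcon
      have hnr : half D ≤ (C.g.nroot r).val := (C.g.nroot_pos_iff r).2 (Nat.not_le.1 hp)
      have hm : (C.g.nroot r).val ∈ minusSet w₀ := hms ▸ ⟨(C.g.nroot r).2, hnr⟩
      obtain ⟨_, -, h2⟩ := hm
      have h3 : half D ≤ (C.g.nroot (w₀ r)).val := (C.g.nroot_pos_iff _).2 (Nat.not_le.1 hcon)
      rw [← C.g.weyl_nroot hw] at h3
      exact absurd h2 (not_lt.2 h3)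
    have hfixw : C.A.T.ρ (w₀ r) = w₀ r := by
      rw [← Equiv.Perm.mul_apply, hwc, Equiv.Perm.mul_apply, hr]
    have hn' : C.A.T.σ ⟨n, C.G1_le_group hn⟩ = ⟨n, C.G1_le_group hn⟩ := C.fixed_eq hn
    have e : C.xs (w₀ r) ((c : K) * t) = ⟨n, C.G1_le_group hn⟩ * C.xs r t * (⟨n, C.G1_le_group hn⟩ : ↥(D.group K))⁻¹ :=
      Subtype.ext (by simp [coe_xs, hc t])
    have h1 : C.E.σ ((c : K) * t) = (c : K) * t := by
      have h2 := congrArg C.A.T.σ e
      rw [C.σ_xs, hfixw, C.f_fixed hfixw, map_mul C.A.T.σ, map_mul C.A.T.σ, map_inv C.A.T.σ, hn', C.σ_xs, hr,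
        C.f_fixed hr, ht, ← e] at h2
      exact SubMax.xG_inj C.g (w₀ r).2 (congrArg Subtype.val h2)
    rw [show C.g.xG r t = n⁻¹ * (n * C.g.xG r t * n⁻¹) * n by group, hc t]
    exact mul_mem (mul_mem (inv_mem hn) (hσ _ hfixw _ h1 hwr)) hn

lemma fix_mem_M {r : Fin D.nroots} (hr : C.A.T.ρ r = r) {t : K} (ht : C.E.σ t = t) :
    C.g.xG r t ∈ C.M :=
  ⟨C.fix_mem_G1 hr ht, by show C.sG _ = _; rw [C.sG_xG r.2, ht]; rfl⟩

/-- Root elements of fixed roots in the twisted group are rational. -/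
lemma rat_of_fixed {r : Fin D.nroots} (hr : C.A.T.ρ r = r) {t : K} (h : C.g.xG r t ∈ C.A.G1) :
    C.E.σ t = t := by
  have h1 := congrArg Subtype.val (C.fixed_eq (x := C.xs r t) h)
  rw [C.σ_xs, hr, C.f_fixed hr] at h1
  exact SubMax.xG_inj C.g r.2 h1

lemma top_mem_M : C.g.xG (top D) (1 : K) ∈ C.M := C.fix_mem_M C.ρ_top (map_one _)

/-! ### Weights -/

lemma xG_mem_geSub {c : Fin D.rank → ℝ} {r : ℕ} (hr : r < D.nroots) (h : 0 ≤ C.g.lam c ⟨r, hr⟩) (t : K) :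
    C.g.xG r t ∈ C.g.geSub c := by
  rw [C.g.mem_geSub, C.g.coe_xG]
  exact C.g.x_ge hr h t

lemma xG_mem_posSub {c : Fin D.rank → ℝ} {r : ℕ} (hr : r < D.nroots) (h : 0 < C.g.lam c ⟨r, hr⟩) (t : K) :
    C.g.xG r t ∈ C.g.posSub c := by
  rw [C.g.mem_posSub]
  refine ⟨C.xG_mem_geSub hr h.le t, fun a b hne => ?_⟩
  rw [C.g.coe_xG] at hne
  by_cases hab : a = b
  · subst hab
    have hw : C.g.wt r ≠ 0 := by
      rcases Nat.lt_or_ge r (half D) with hneg | hp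
      · have h1 := C.g.wt_pos ((C.g.neg_neg_iff (C.g.neg_lt hr)).1 (by rwa [C.g.neg_neg hr])) (C.g.neg_lt hr)
        rw [C.g.wt_neg hr] at h1
        omega
      · exact (C.g.wt_pos hp hr).ne'
    rw [Matrix.sub_apply, Matrix.one_apply_eq, (C.g.x_entry hr t a a).1 rfl hw, sub_self] at hne
    exact absurd rfl hne
  · rw [Matrix.sub_apply, Matrix.one_apply_ne hab, sub_zero] at hne
    obtain ⟨k, hk, e⟩ := C.g.x_entry_lam c hr t a b hne hab
    rw [e]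
    exact mul_pos (by exact_mod_cast hk) h

lemma rootGen_le_posSub {c : Fin D.rank → ℝ} {S : Set ℕ}
    (h : ∀ r : Fin D.nroots, r.val ∈ S → 0 < C.g.lam c r) : rootGen D K S ≤ C.g.posSub c :=
  C.g.rootGen_le fun r hS hr t => C.xG_mem_posSub hr (h ⟨r, hr⟩ hS) t

lemma rootGen_le_geSub {c : Fin D.rank → ℝ} {S : Set ℕ}
    (h : ∀ r : Fin D.nroots, r.val ∈ S → 0 ≤ C.g.lam c r) : rootGen D K S ≤ C.g.geSub c :=
  C.g.rootGen_le fun r hS hr t => C.xG_mem_geSub hr (h ⟨r, hr⟩ hS) t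

/-- The roots of negative weight. -/
def negW (c : Fin D.rank → ℝ) : Set ℕ := {r | ∃ h : r < D.nroots, C.g.lam c ⟨r, h⟩ < 0}

/-- Splitting a positive element by a symmetric weight stays in the twisted group. -/
theorem pos_split_G1 (c : Fin D.rank → ℝ)
    (hsymm : ∀ r : Fin D.nroots, C.g.lam c (C.A.T.ρ r) < 0 ↔ C.g.lam c r < 0)
    {u : GL D.Idx K} (hu : u ∈ D.posUnipotent K) (hu1 : u ∈ C.A.G1) :
    ∃ a b : GL D.Idx K, u = a * b ∧ a ∈ C.A.G1 ∧ b ∈ C.A.G1 ∧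
      a ∈ rootGen D K (Set.Ici (half D) ∩ C.negW c) ∧ b ∈ rootGen D K (Set.Ici (half D) \ C.negW c) := by
  rw [C.g.posUnipotent_eq] at hu
  obtain ⟨a, ha, b, hb, rfl⟩ := C.g.Ici_split C.hc (C.negW c) (half D) le_rfl u hu
  have haU : a ∈ D.posUnipotent K := by
    rw [C.g.posUnipotent_eq]; exact C.g.rootGen_mono (fun r hr _ => hr.1) ha
  have hbU : b ∈ D.posUnipotent K := by
    rw [C.g.posUnipotent_eq]; exact C.g.rootGen_mono (fun r hr _ => hr.1) hb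
  obtain ⟨aG, haG⟩ : ∃ aG : ↥(D.group K), (aG : GL D.Idx K) = a := ⟨⟨a, C.g.posUnipotent_le_group haU⟩, rfl⟩
  obtain ⟨bG, hbG⟩ : ∃ bG : ↥(D.group K), (bG : GL D.Idx K) = b := ⟨⟨b, C.g.posUnipotent_le_group hbU⟩, rfl⟩
  subst haG hbG
  have hfix : C.A.T.σ aG * C.A.T.σ bG = aG * bG := by
    rw [← map_mul]; exact C.fixed_eq hu1
  have h4 : ((aG⁻¹ * C.A.T.σ aG : ↥(D.group K)) : GL D.Idx K) ∈ rootGen D K (Set.Ici (half D) ∩ C.negW c) := by
    refine mul_mem (inv_mem ha) (C.A.T.σ_rootGen (fun r hr => ?_) ha)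
    obtain ⟨h1, _, h2⟩ := hr
    exact ⟨C.A.T.ρ_pos r h1, Fin.isLt _, (hsymm r).2 h2⟩
  have h5 : ((aG⁻¹ * C.A.T.σ aG : ↥(D.group K)) : GL D.Idx K) ∈ rootGen D K (Set.Ici (half D) \ C.negW c) := by
    rw [show aG⁻¹ * C.A.T.σ aG = bG * (C.A.T.σ bG)⁻¹ by
      rw [eq_mul_inv_iff_mul_eq, mul_assoc, hfix, inv_mul_cancel_left]]
    refine mul_mem hb (inv_mem (C.A.T.σ_rootGen (fun r hr => ?_) hb))
    exact ⟨C.A.T.ρ_pos r hr.1, fun ⟨_, h2⟩ => hr.2 ⟨r.2, (hsymm r).1 h2⟩⟩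
  have h6 := C.g.eq_one_of_pos_neg (c := -c) (C.rootGen_le_posSub (c := -c) (fun r hr => by
      obtain ⟨_, _, h2⟩ := hr
      rw [C.g.lam_neg]; linarith) h4)
    (by
      rw [neg_neg]
      exact C.rootGen_le_geSub (c := c) (fun r hr => not_lt.1 fun h => hr.2 ⟨r.2, h⟩) h5)
  have haσ : C.A.T.σ aG = aG := (inv_mul_eq_one.1 (Subtype.ext (p := (· ∈ D.group K)) h6)).symm
  have ha1 := C.mem_G1_of_pos haU haσ
  refine ⟨aG, bG, rfl, ha1, ?_, ha, hb⟩
  rw [show (bG : GL D.Idx K) = (aG : GL D.Idx K)⁻¹ * (aG * bG) by group]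
  exact mul_mem (inv_mem ha1) hu1

end TCtx

end CfsgLib.Chev.SubTw
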