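import Cfsg.Agent.Lib.Chev.SubTwE6
import Cfsg.Agent.Lib.Chev.TwistD4

/-!
The points of the twisted group of type D4 over the small field form a maximal subgroup.
-/

set_option autoImplicit false
set_option linter.unusedSectionVars false
set_option maxHeartbeats 800000
set_option maxRecDepth 100000

namespace CfsgLib.Chev.SubTw

open Cfsg.Lie Matrix CfsgLib.Chev CfsgLib.Chev.SubMax
open TCtx (Mid)

/-- The orbits of D4 in the radical. -/
theorem d4_cover : allR (fun a => !(TwData.mid chevD4 a) || TwData.d4.fix a ||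
    anyR (fun k => decide (iterR TwData.d4.ρ k 15 = a) || decide (iterR TwData.d4.ρ k 17 = a)) (upto 3))
    (upto chevD4.nroots) = true := by decide +kernel

theorem d4_terms : fterms chevD4 12 15 = [] ∧ fterms chevD4 12 17 = [] ∧
    fterms chevD4 18 15 = [(20, -1, 1, 1)] ∧ fterms chevD4 18 17 = [(22, -1, 1, 1)] ∧
    fterms chevD4 13 15 = [(17, 1, 1, 1)] ∧ fterms chevD4 13 17 = [] ∧
    fterms chevD4 13 20 = [(22, 1, 1, 1)] := by decide +kernel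

theorem d4_facts : topW chevD4 12 = 0 ∧ topW chevD4 18 = 0 ∧ topW chevD4 13 = 0 ∧
    TwData.mid chevD4 15 = true ∧ TwData.mid chevD4 17 = true ∧ radB chevD4 20 = true ∧
    radB chevD4 22 = true ∧ radB chevD4 14 = true ∧ nF chevD4 14 22 = 1 ∧ nF chevD4 14 15 = 0 ∧
    nF chevD4 14 17 = 0 ∧ nF chevD4 14 20 = 0 ∧
    TwData.d4.fix 14 = true ∧ TwData.d4.fix 22 = true ∧ TwData.d4.fix 15 = false ∧
    iterR TwData.d4.ρ 1 12 = 18 ∧ iterR TwData.d4.ρ 2 12 = 13 ∧ nth 0 TwData.d4.ρ 17 = 20 ∧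
    TwData.d4.sgk 12 1 = 1 ∧ TwData.d4.sgk 12 2 = 1 ∧ nth 1 TwData.d4.sgn 17 = -1 ∧
    wordApp sdataD4 (TwData.d4.word [0]) 18 = 19 ∧ wordApp sdataD4 (TwData.d4.word [1, 0]) 12 = 21 := by
  decide +kernel

variable {K : Type*} [Field K] [Fintype K]

namespace TCtx

variable (C : TCtx chevD4 K)

/-- A subgroup of parameters closed under a quadratic map is everything in a cubic extension. -/
lemma full_of_cubic (hdeg : C.E.r = 3)
    (hquad : ∀ t ∈ C.SS C.bb, C.E.σ t * C.E.σ (C.E.σ t) ∈ C.SS C.bb) {e : K} (he : e ∈ C.SS C.bb)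
    (hne : C.E.σ e ≠ e) (t : K) : t ∈ C.SS C.bb := by
  have h3 : ∀ u : K, C.E.σ (C.E.σ (C.E.σ u)) = u := fun u => by
    have := C.E.iterate_r u
    rwa [hdeg] at this
  have he0 : e ≠ 0 := fun h => hne (by rw [h, map_zero])
  obtain ⟨c2, hc2⟩ : ∃ c2, c2 = e + C.E.σ e + C.E.σ (C.E.σ e) := ⟨_, rfl⟩
  obtain ⟨c1, hc1⟩ : ∃ c1, c1 = -(e * C.E.σ e + e * C.E.σ (C.E.σ e) + C.E.σ e * C.E.σ (C.E.σ e)) := ⟨_, rfl⟩
  obtain ⟨c0, hc0⟩ : ∃ c0, c0 = e * C.E.σ e * C.E.σ (C.E.σ e) := ⟨_, rfl⟩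
  have f2 : C.E.σ c2 = c2 := by rw [hc2]; simp only [map_add, h3]; ring
  have f1 : C.E.σ c1 = c1 := by rw [hc1]; simp only [map_neg, map_add, map_mul, h3]; ring
  have f0 : C.E.σ c0 = c0 := by rw [hc0]; simp only [map_mul, h3]; ring
  have hc00 : c0 ≠ 0 := by
    rw [hc0]
    exact mul_ne_zero (mul_ne_zero he0 ((map_ne_zero C.E.σ).2 he0))
      ((map_ne_zero C.E.σ).2 ((map_ne_zero C.E.σ).2 he0))
  have hchar : e ^ 3 = c2 * e ^ 2 + c1 * e + c0 := by rw [hc2, hc1, hc0]; ring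
  obtain ⟨g, hg⟩ : ∃ g, g = e⁻¹ := ⟨_, rfl⟩
  have heg : e * g = 1 := by rw [hg]; exact mul_inv_cancel₀ he0
  have hgS : g ∈ C.SS C.bb := by
    have h1 := C.SS_smul (μ := c0⁻¹) (by rw [map_inv₀, f0]) (hquad e he)
    rwa [show c0⁻¹ * (C.E.σ e * C.E.σ (C.E.σ e)) = g by
      rw [inv_mul_eq_iff_eq_mul₀ hc00, hc0, hg]
      field_simp] at h1
  have e2 : e ^ 2 = c1 + c2 * e + c0 * g := by
    linear_combination g * hchar + (-e ^ 2 + c2 * e + c1) * heg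
  obtain ⟨d0, hd0⟩ : ∃ d0, d0 = c0⁻¹ := ⟨_, rfl⟩
  have fd0 : C.E.σ d0 = d0 := by rw [hd0, map_inv₀, f0]
  have g2 : g ^ 2 = -(c2 * d0) + d0 * e + -(c1 * d0) * g := by
    have hd : c0 * d0 = 1 := by rw [hd0]; exact mul_inv_cancel₀ hc00
    linear_combination (-(g ^ 2)) * hd + (-(d0 * g ^ 2)) * hchar +
      (d0 * e * (e * g + 1) - d0 * c2 * (e * g + 1) - d0 * c1 * g) * heg
  let A : AddSubgroup K :=
    { carrier := {u | ∃ x y z, C.E.σ x = x ∧ C.E.σ y = y ∧ C.E.σ z = z ∧ u = x + y * e + z * g}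
      zero_mem' := ⟨0, 0, 0, map_zero _, map_zero _, map_zero _, by ring⟩
      add_mem' := by
        rintro _ _ ⟨x, y, z, hx, hy, hz, rfl⟩ ⟨x', y', z', hx', hy', hz', rfl⟩
        exact ⟨x + x', y + y', z + z', by rw [map_add, hx, hx'], by rw [map_add, hy, hy'],
          by rw [map_add, hz, hz'], by ring⟩
      neg_mem' := by
        rintro _ ⟨x, y, z, hx, hy, hz, rfl⟩
        exact ⟨-x, -y, -z, by rw [map_neg, hx], by rw [map_neg, hy], by rw [map_neg, hz], by ring⟩ }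
  obtain ⟨x, y, z, hx, hy, hz, rfl⟩ : t ∈ A := by
    refine C.E.eq_univ_of_closed A (fun u hu => ⟨u, 0, 0, hu, map_zero _, map_zero _, by ring⟩) ?_
      (t := e) ⟨0, 1, 0, map_zero _, map_one _, map_zero _, by ring⟩ hne t
    rintro _ ⟨x, y, z, hx, hy, hz, rfl⟩ _ ⟨x', y', z', hx', hy', hz', rfl⟩
    refine ⟨x * x' + y * z' + z * y' + y * y' * c1 - z * z' * (c2 * d0),
      x * y' + y * x' + y * y' * c2 + z * z' * d0,
      x * z' + z * x' + y * y' * c0 - z * z' * (c1 * d0), ?_, ?_, ?_, ?_⟩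
    · simp only [map_add, map_sub, map_mul, hx, hx', hy, hy', hz, hz', f1, f2, fd0]
    · simp only [map_add, map_mul, hx, hx', hy, hy', hz, hz', f2, fd0]
    · simp only [map_add, map_sub, map_mul, hx, hx', hy, hy', hz, hz', f0, f1, fd0]
    · linear_combination (y * y') * e2 + (z * z') * g2 + (y * z' + z * y') * heg
  refine add_mem (add_mem ?_ (C.SS_smul hy he)) (C.SS_smul hz hgS)
  simpa using C.SS_smul hx C.one_mem_SS

variable (hd : C.d = TwData.d4)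
include hd

/-- The orbit element of the first simple orbit as a product. -/
lemma EO_bb (t : K) : C.EO C.bb t =
    C.g.xG 12 t * (C.g.xG 18 (C.E.σ t) * C.g.xG 13 (C.E.σ (C.E.σ t))) := by
  obtain ⟨-, -, -, -, -, -, -, -, -, -, -, -, -, -, -, q1, q2, -, s1, s2, -⟩ := d4_facts
  have hdeg : C.E.r = 3 := by rw [← C.hdeg, hd]; rfl
  rw [EO, orbP, hdeg, show List.range 3 = [0, 1, 2] from rfl]
  simp only [List.map_cons, List.map_nil, List.prod_cons, List.prod_nil, mul_one, Subgroup.coe_mul,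
    C.σ_iter_xs, coe_xs, C.ρ_iter]
  simp only [bb, hd, show TwData.d4.b0 = 12 from rfl, q1, q2, s1, s2, show TwData.d4.sgk 12 0 = 1 from rfl,
    show iterR TwData.d4.ρ 0 12 = 12 from rfl, Int.cast_one, one_mul, Function.iterate_zero_apply,
    Function.iterate_one, show (C.E.σ)^[2] t = C.E.σ (C.E.σ t) from rfl]

/-- The coordinates after conjugation by the first simple orbit. -/
lemma crd_triple {x : GL chevD4.Idx K} (hx : x ∈ topQ chevD4 K) (t : K) :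
    C.EO C.bb t * x * (C.EO C.bb t)⁻¹ * x⁻¹ ∈ topQ chevD4 K ∧
    C.crd (C.EO C.bb t * x * (C.EO C.bb t)⁻¹ * x⁻¹) 15 =
      C.E.σ t * C.crd x 20 - C.E.σ (C.E.σ t) * C.crd x 17 -
        C.E.σ t * C.E.σ (C.E.σ t) * C.crd x 22 ∧
    C.crd (C.EO C.bb t * x * (C.EO C.bb t)⁻¹ * x⁻¹) 17 = C.E.σ t * C.crd x 22 := by
  obtain ⟨w12, w18, w13, m15, m17, r20, r22, -⟩ := d4_facts
  obtain ⟨t12a, t12b, t18a, t18b, t13a, t13b, t13c⟩ := d4_terms
  have h15 : 15 ∈ radSet chevD4 := (radB_iff C.g (by decide)).1 (Bool.and_eq_true _ _ ▸ m15 : _ ∧ _).1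
  have h17 : 17 ∈ radSet chevD4 := (radB_iff C.g (by decide)).1 (Bool.and_eq_true _ _ ▸ m17 : _ ∧ _).1
  have h20 : 20 ∈ radSet chevD4 := (radB_iff C.g (by decide)).1 r20
  have h22 : 22 ∈ radSet chevD4 := (radB_iff C.g (by decide)).1 r22
  obtain ⟨u, hu⟩ : ∃ u, u = C.E.σ t := ⟨_, rfl⟩
  obtain ⟨v, hv⟩ : ∃ v, v = C.E.σ (C.E.σ t) := ⟨_, rfl⟩
  obtain ⟨hQ1, k1⟩ := C.crd_levi (b := 13) (by decide) w13 hx v
  obtain ⟨y1, hy1⟩ : ∃ y1, y1 = C.g.xG 13 v * x * (C.g.xG 13 v)⁻¹ := ⟨_, rfl⟩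
  rw [← hy1] at hQ1 k1
  obtain ⟨hQ2, k2⟩ := C.crd_levi (b := 18) (by decide) w18 hQ1 u
  obtain ⟨y2, hy2⟩ : ∃ y2, y2 = C.g.xG 18 u * y1 * (C.g.xG 18 u)⁻¹ := ⟨_, rfl⟩
  rw [← hy2] at hQ2 k2
  obtain ⟨hQ3, k3⟩ := C.crd_levi (b := 12) (by decide) w12 hQ2 t
  have e : C.EO C.bb t * x * (C.EO C.bb t)⁻¹ = C.g.xG 12 t * y2 * (C.g.xG 12 t)⁻¹ := by
    rw [C.EO_bb hd, hy2, hy1, ← hv, ← hu]; group
  have a15 : C.crd y2 15 = C.crd x 15 + -(v * C.crd x 17) + u * (C.crd x 20 + -(v * C.crd x 22)) := by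
    rw [(k2 15 h15).2 _ _ t18a h20, (k1 15 h15).2 _ _ t13a h17, (k1 20 h20).2 _ _ t13c h22]
    push_cast
    ring
  have a17 : C.crd y2 17 = C.crd x 17 + u * C.crd y1 22 := by
    rw [(k2 17 h17).2 _ _ t18b h22, (k1 17 h17).1 t13b]
    push_cast
    ring
  have a22 : C.crd y1 22 = C.crd x 22 := by
    refine (k1 22 h22).1 ?_
    decide +kernel
  rw [e, ← hv, ← hu]
  refine ⟨mul_mem hQ3 (inv_mem hx), ?_, ?_⟩
  · rw [C.crd_mul hQ3 (inv_mem hx) h15, C.crd_inv hx h15, (k3 15 h15).1 t12a, a15]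
    ring
  · rw [C.crd_mul hQ3 (inv_mem hx) h17, C.crd_inv hx h17, (k3 17 h17).1 t12b, a17, a22]
    ring

/-- The two moved orbits of the radical. -/
lemma d4_orbits {a : Fin chevD4.nroots} (ha : Mid (D := chevD4) a) :
    C.A.T.ρ a = a ∨ (∃ k, (C.A.T.ρ)^[k] ⟨15, by decide⟩ = a) ∨ (∃ k, (C.A.T.ρ)^[k] ⟨17, by decide⟩ = a) := by
  have h := allR_upto d4_cover a.2
  simp only [Bool.or_eq_true, Bool.not_eq_true', anyR_eq, List.any_eq_true, decide_eq_true_eq] at h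
  rcases h with (h | h) | ⟨k, -, h⟩
  · simp [TwData.mid, (radB_iff C.g a.2).2 ha.1, ha.2] at h
  · exact Or.inl (C.ρ_fix.2 (hd ▸ h))
  · rcases h with h | h
    · exact Or.inr (Or.inl ⟨k, Fin.ext (by rw [C.ρ_iter, hd]; exact h)⟩)
    · exact Or.inr (Or.inr ⟨k, Fin.ext (by rw [C.ρ_iter, hd]; exact h)⟩)

omit hd in
lemma mid15 (C' : TCtx chevD4 K) : Mid (D := chevD4) 15 := by
  have h := d4_facts.2.2.2.1
  simpa [TwData.mid, Mid, radB_iff C'.g (show 15 < chevD4.nroots by decide)] using h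

omit hd in
lemma mid17 (C' : TCtx chevD4 K) : Mid (D := chevD4) 17 := by
  have h := d4_facts.2.2.2.2.1
  simpa [TwData.mid, Mid, radB_iff C'.g (show 17 < chevD4.nroots by decide)] using h

/-- An element with rational coordinates at 17 whose coordinate at 15 is irrational. -/
lemma exists_pure {x : GL chevD4.Idx K} (hxH : x ∈ C.H) (hx : x ∈ topQ chevD4 K)
    (h17 : C.E.σ (C.crd x 17) = C.crd x 17) (h15 : C.E.σ (C.crd x 15) ≠ C.crd x 15) :
    ∃ r : Fin chevD4.nroots, r.val = 21 ∧ C.A.T.ρ r ≠ r ∧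
      ∃ v, (v = C.crd x 15 ∨ v = -C.crd x 15) ∧ C.E.σ v ≠ v ∧ v ∈ C.SS r := by
  obtain ⟨r, -, hsum, hrf, v, hv, hvne, hvH⟩ :=
    C.exists_EO_mem hxH hx (a := ⟨15, by decide⟩) C.mid15 h15 fun b hb hout => by
      rcases C.d4_orbits hd hb with h | ⟨k, hk⟩ | ⟨k, rfl⟩
      · exact C.crd_fixed_rat hx (C.hi hxH) hb.1 h
      · exact absurd hk (hout k)
      · exact (C.crd_rot_irr_iter hx (C.hi hxH) (a := ⟨17, by decide⟩) C.mid17.1 k).2 h17
  refine ⟨r, ?_, hrf, v, hv, hvne, hvH⟩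
  have hP : C.d.P = 36 := by rw [hd]; rfl
  simp only [hP] at hsum
  omega

lemma SS_21 {r : Fin chevD4.nroots} (hr : r.val = 21) {t : K} : t ∈ C.SS r ↔ t ∈ C.SS C.bb := by
  have hb : C.d.b0 = 12 := by rw [hd]; rfl
  have hlen : C.A.r = 2 := by rw [C.hr, hd]; rfl
  obtain ⟨L, hL⟩ : ∃ L : List (Fin C.A.r), L.map Fin.val = [1, 0] :=
    ⟨[⟨1, by omega⟩, ⟨0, by omega⟩], rfl⟩
  rw [C.SS_move (r := C.bb) L, show C.g.wperm (C.A.orbWord L) C.bb = r from Fin.ext ?_]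
  rw [C.g.wperm_tab checksD4 structChecksD4, C.orbWord_val, hL, hd]
  show wordApp sdataD4 (TwData.d4.word [1, 0]) C.d.b0 = _
  rw [hb, hr, d4_facts.2.2.2.2.2.2.2.2.2.2.2.2.2.2.2.2.2.2.2.2.2.2]

/-- The quadratic map on the parameters. -/
lemma quad {t : K} (ht : t ∈ C.SS C.bb) : C.E.σ t * C.E.σ (C.E.σ t) ∈ C.SS C.bb := by
  obtain ⟨-, -, -, -, -, r20, r22, r14, n22, n15, n17, n20, f14, f22, -, q1, -, -, -, -, -, w19, -⟩ := d4_facts
  have h14 : 14 ∈ radSet chevD4 := (radB_iff C.g (by decide)).1 r14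
  have hP : C.d.P = 36 := by rw [hd]; rfl
  have hlen : C.A.r = 2 := by rw [C.hr, hd]; rfl
  have hb : C.d.b0 = 12 := by rw [hd]; rfl
  obtain ⟨x, hxd⟩ : ∃ x, x = C.g.xG 14 (1 : K) := ⟨_, rfl⟩
  have hxM : x ∈ C.M := hxd ▸ C.fix_mem_M (r := ⟨14, by decide⟩) (C.ρ_fix.2 (hd ▸ f14)) (map_one C.E.σ)
  have hxQ : x ∈ topQ chevD4 K := hxd ▸ C.g.mem_rootGen h14.1 h14 1
  have hc : ∀ p, p ∈ radSet chevD4 → ∀ n : ℤ, nF chevD4 14 p = n → C.crd x p = (n : K) := fun p hp n hn => by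
    rw [hxd, C.crd_xG h14 hp, ← nF_eq C.g h14.1 hp.1, hn, mul_one]
  have c22 : C.crd x 22 = 1 := by rw [hc 22 ((radB_iff C.g (by decide)).1 r22) 1 n22, Int.cast_one]
  have c20 : C.crd x 20 = 0 := by rw [hc 20 ((radB_iff C.g (by decide)).1 r20) 0 n20, Int.cast_zero]
  have c17 : C.crd x 17 = 0 := by rw [hc 17 C.mid17.1 0 n17, Int.cast_zero]
  obtain ⟨hzQ, z15, z17⟩ := C.crd_triple hd hxQ t
  obtain ⟨z, hz⟩ : ∃ z, z = C.EO C.bb t * x * (C.EO C.bb t)⁻¹ * x⁻¹ := ⟨_, rfl⟩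
  rw [← hz, c22, mul_one] at z15 z17
  rw [← hz] at hzQ
  rw [c20, c17, mul_zero, mul_zero, sub_zero, zero_sub] at z15
  have hzH : z ∈ C.H := hz ▸ mul_mem (mul_mem (mul_mem ht (C.M_le_H hxM)) (inv_mem ht)) (inv_mem (C.M_le_H hxM))
  -- remove the linear part
  obtain ⟨r, hr, hrs, v, -, hv, s1, s2, hs⟩ :=
    C.exists_remove hzQ (C.hi hzH) (a := ⟨17, by decide⟩) C.mid17
  have hr19 : r.val = 19 := by simp only [hP] at hrs; omega
  have hrf : C.A.T.ρ r ≠ r := fun h => by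
    have h1 := C.ρ_fix.1 h
    rw [hr19, hd] at h1
    exact absurd h1 (by decide +kernel)
  have hs19 : C.E.σ t ∈ C.SS r := by
    have h1 := C.SS_rot ht (k := 1) (by rw [← C.hdeg, hd]; decide)
    rw [Function.iterate_one, C.SS_move [⟨0, by omega⟩]] at h1
    rw [show r = C.g.wperm (C.A.orbWord [⟨0, by omega⟩]) ((C.A.T.ρ)^[1] C.bb) from Fin.ext ?_]
    · exact h1
    · rw [C.g.wperm_tab checksD4 structChecksD4, C.orbWord_val, C.ρ_iter, hd, hr19]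
      show 19 = wordApp sdataD4 (TwData.d4.word [0]) (iterR TwData.d4.ρ 1 C.d.b0)
      rw [hb, q1, w19]
  have hslot : C.slot r v ∈ C.H := by
    rw [slot, if_neg hrf, ← C.mem_SS]
    rcases hv with rfl | rfl <;> simp only [z17]
    · exact hs19
    · exact neg_mem hs19
  obtain ⟨y, hy⟩ : ∃ y, y = z * (C.slot r v)⁻¹ := ⟨_, rfl⟩
  have hyH : y ∈ C.H := hy ▸ mul_mem hzH (inv_mem hslot)
  have hyQ : y ∈ topQ chevD4 K := hy ▸ mul_mem hzQ (inv_mem s2)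
  have y17 : C.crd y 17 = 0 := hy ▸ (hs ⟨17, by decide⟩ C.mid17).2.1 ⟨0, rfl⟩
  have y15 : C.crd y 15 = -(C.E.σ t * C.E.σ (C.E.σ t)) := by
    rw [hy, ← z15]
    refine (hs ⟨15, by decide⟩ C.mid15).2.2 fun k hk => ?_
    have h1 := congrArg Fin.val hk
    rw [C.ρ_iter, hd] at h1
    have h2 : ∀ k < 3, iterR TwData.d4.ρ k 17 ≠ 15 := by decide +kernel
    obtain ⟨j, hj, hj'⟩ : ∃ j < 3, (C.A.T.ρ)^[k] ⟨17, by decide⟩ = (C.A.T.ρ)^[j] (⟨17, by decide⟩ : Fin chevD4.nroots) := by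
      refine ⟨k % 3, Nat.mod_lt _ (by norm_num), ?_⟩
      have hp : (C.A.T.ρ)^[3] (⟨17, by decide⟩ : Fin chevD4.nroots) = ⟨17, by decide⟩ := by
        have := C.ρ_period (⟨17, by decide⟩ : Fin chevD4.nroots)
        rwa [← C.hdeg, hd] at this
      conv_lhs => rw [← Nat.mod_add_div k 3]
      rw [Function.iterate_add_apply, Function.iterate_mul, Function.iterate_fixed hp]
    rw [hj'] at hk
    have h3 := congrArg Fin.val hk
    rw [C.ρ_iter, hd] at h3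
    exact h2 j hj h3
  by_cases hrat : C.E.σ (C.crd y 15) = C.crd y 15
  · rw [y15, map_neg, neg_inj] at hrat
    simpa using C.SS_smul hrat C.one_mem_SS
  · obtain ⟨r', hr', -, v', hv', -, hv'S⟩ := C.exists_pure hd hyH hyQ (by rw [y17, map_zero]) hrat
    rw [C.SS_21 hd hr'] at hv'S
    rcases hv' with rfl | rfl <;> rw [y15] at hv'S
    · exact neg_mem_iff.1 hv'S
    · simpa using hv'S

end TCtx

/-- The overgroup is small or everything. -/
theorem dichotomyD4 (C : TCtx chevD4 K) (hd : C.d = TwData.d4) : C.H = C.M ∨ C.H = C.A.G1 := by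
  have hdeg : C.E.r = 3 := by rw [← C.hdeg, hd]; rfl
  have h3 : ∀ u : K, C.E.σ (C.E.σ (C.E.σ u)) = u := fun u => by
    have := C.E.iterate_r u
    rwa [hdeg] at this
  by_cases hQ : C.RadRat
  · exact Or.inl (le_antisymm (C.le_M hQ) C.M_le_H)
  right
  simp only [TCtx.RadRat, not_forall] at hQ
  obtain ⟨x, hxH, hxQ, hxM⟩ := hQ
  have hx1 := C.hi hxH
  have hbad : C.E.σ (C.crd x 15) ≠ C.crd x 15 ∨ C.E.σ (C.crd x 17) ≠ C.crd x 17 := by
    by_contra h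
    push Not at h
    refine hxM (C.mem_M_of_crd hxQ hx1 fun a ha => ?_)
    rcases C.d4_orbits hd ha with h1 | ⟨k, rfl⟩ | ⟨k, rfl⟩
    · exact C.crd_fixed_rat hxQ hx1 ha.1 h1
    · exact (C.crd_rot_irr_iter hxQ hx1 (a := ⟨15, by decide⟩) C.mid15.1 k).2 h.1
    · exact (C.crd_rot_irr_iter hxQ hx1 (a := ⟨17, by decide⟩) C.mid17.1 k).2 h.2
  -- an element irrational in one orbit only
  obtain ⟨y, hyH, hyQ, h17, h15⟩ : ∃ y, y ∈ C.H ∧ y ∈ topQ chevD4 K ∧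
      C.E.σ (C.crd y 17) = C.crd y 17 ∧ C.E.σ (C.crd y 15) ≠ C.crd y 15 := by
    by_cases h17 : C.E.σ (C.crd x 17) = C.crd x 17
    · exact ⟨x, hxH, hxQ, h17, hbad.resolve_right fun h => h h17⟩
    obtain ⟨-, -, -, -, -, r20, r22, -, -, -, -, -, -, f22, -, -, -, q17, -, -, sg17, -⟩ := d4_facts
    obtain ⟨hzQ, z15, z17⟩ := C.crd_triple hd hxQ 1
    simp only [map_one, one_mul] at z15 z17
    have h22 : C.E.σ (C.crd x 22) = C.crd x 22 :=
      C.crd_fixed_rat hxQ hx1 (a := ⟨22, by decide⟩) ((radB_iff C.g (by decide)).1 r22) (C.ρ_fix.2 (hd ▸ f22))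
    have h20 : C.crd x 20 = -C.E.σ (C.crd x 17) := by
      have h := C.crd_fixed hxQ hx1 (a := ⟨17, by decide⟩) C.mid17.1 1
      rw [C.hf, C.hρ, hd, map_one, mul_one, mul_one] at h
      simp only [sg17, q17, Int.cast_neg, Int.cast_one, mul_neg, mul_one] at h
      rw [← h, neg_neg]
    have hN := C.EO_mem_M C.bb (map_one C.E.σ)
    refine ⟨_, mul_mem (mul_mem (mul_mem (C.M_le_H hN) hxH) (inv_mem (C.M_le_H hN))) (inv_mem hxH), hzQ,
      by rw [z17, h22], fun h => h17 ?_⟩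
    rw [z15, h20, map_sub, map_sub, map_neg, h22] at h
    have h2 : C.E.σ (C.E.σ (C.crd x 17)) = C.crd x 17 := by linear_combination -h
    have h4 := h3 (C.crd x 17)
    rw [h2] at h4
    exact h4
  obtain ⟨r, hr, -, v, -, hv, hvS⟩ := C.exists_pure hd hyH hyQ h17 h15
  rw [C.SS_21 hd hr] at hvS
  exact C.eq_G1_of_base (C.full_of_cubic hdeg (fun t ht => C.quad hd ht) hvS hv)

/-- Maximality in type D4. -/
theorem maximalD4 {q : ℕ} (hq : IsPrimePow q) (hK : Fintype.card K = q ^ 3)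
    (M : Subgroup (GL chevD4.Idx K))
    (hM : ∀ g : GL chevD4.Idx K, g ∈ M ↔ g ∈ twistedD4 K q ∧ ∀ i j : chevD4.Idx,
      ((g : Matrix chevD4.Idx chevD4.Idx K) i j) ^ q = (g : Matrix chevD4.Idx chevD4.Idx K) i j) :
    M ≠ twistedD4 K q ∧ ∀ H : Subgroup (GL chevD4.Idx K), M ≤ H → H ≤ twistedD4 K q →
      H = M ∨ H = twistedD4 K q := by
  obtain ⟨A0, hG, hφ, hS, hr, ho⟩ := exists_setupD4 K hq hK
  obtain ⟨T, hTρ, hTpi, hTf⟩ := exists_twist_rhoD4 (F := K) A0.φ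
  have hsimple : ∀ i : Fin chevD4.rank, nth 1 rhoD4Sign (goodD4.sroot i : ℕ) = 1 ∧
      nth 1 rhoD4Sign (goodD4.nroot (goodD4.sroot i) : ℕ) = 1 := by
    intro i
    have h := allR_upto sign_simple_D4 i.2
    rw [Int.beq'_eq, ← (checksD4.simple_facts i.2).1] at h
    refine ⟨h, ?_⟩
    show nth 1 rhoD4Sign (chevD4.neg (chevD4.simple i)) = 1
    rw [neg_eq goodD4.lie.pack (goodD4.simple_lt i.2), eps_neg rhoD4_signed (goodD4.simple_lt i.2), h]
  let A : A1Setup goodD4 K :=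
    { A0 with
      T := T
      Tρ := hTρ.trans (congrArg RootSym.ρ hS.symm)
      Tpi := hTpi.trans (congrArg RootSym.pi hS.symm)
      f_simple := fun i t => ⟨by rw [hTf, (hsimple i).1, Int.cast_one, one_mul],
        by rw [hTf, (hsimple i).2, Int.cast_one, one_mul]⟩ }
  let E : FieldExt K := ⟨q, 3, A0.φ, hq.one_lt, Nat.prime_three, hK, hφ⟩
  have horb : ∀ k : Fin 2, (orbD4 k).map Fin.val = TwData.d4.orbs.getD k [] := by decide +kernel
  have mk : ∀ (H : Subgroup (GL chevD4.Idx K)), (∀ x ∈ A.G1, scalarGL chevD4 E.σ x = x → x ∈ H) → H ≤ A.G1 →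
      ∃ C : TCtx chevD4 K, C.d = TwData.d4 ∧ C.H = H ∧ C.A.G1 = A.G1 ∧
        C.M = A.G1 ⊓ MonoidHom.eqLocus (scalarGL chevD4 E.σ) (MonoidHom.id _) := fun H lo hi =>
    ⟨{ g := goodD4, hc := hasComm_of_mem (by simp), hse := suppEq_of_mem (by simp), T := topD4, dat := dataD4,
       sd := sdataD4, hl := checksD4, hs := structChecksD4, d := TwData.d4, hd := TwData.d4_ok, E := E,
       hdeg := rfl, A := A, hsym := coSym_of_check A checksD4 structChecksD4 rhoD4_ok hS coSymD4_ok,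
       hρ := fun r => by show (T.ρ r).val = _; rw [hTρ]; rfl
       hf := fun r t => hTf r t
       hφ := fun t => rfl
       hr := hr
       horb := fun o => by
         show (A0.orb o).map Fin.val = _
         rw [ho]; exact horb _
       H := H, lo := lo, hi := hi }, rfl, rfl, rfl, rfl⟩
  have hM' : M = A.G1 ⊓ MonoidHom.eqLocus (scalarGL chevD4 E.σ) (MonoidHom.id _) := by
    ext x
    rw [hM, ← hG]
    refine and_congr Iff.rfl ⟨fun h => Units.ext (Matrix.ext fun i j => ?_), fun h i j => ?_⟩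
    · show A0.φ ((x : Matrix chevD4.Idx chevD4.Idx K) i j) = _
      rw [hφ]; exact h i j
    · rw [← hφ]
      have h1 : (scalarGL chevD4 E.σ x : Matrix chevD4.Idx chevD4.Idx K) =
          (x : Matrix chevD4.Idx chevD4.Idx K) := congrArg Units.val h
      exact congrArg (fun B : Matrix chevD4.Idx chevD4.Idx K => B i j) h1
  refine ⟨fun h => ?_, fun H hMH hHG => ?_⟩
  · obtain ⟨C, hd, -, hG1, hCM⟩ := mk A.G1 (fun x hx _ => hx) le_rfl
    refine C.M_ne_G1 (r := ⟨15, by decide⟩) C.mid15 ?_ (by rw [hCM, ← hM', h, hG1]; exact hG.symm)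
    intro hf
    have := C.ρ_fix.1 hf
    rw [hd] at this
    exact absurd this (by decide +kernel)
  · obtain ⟨C, hd, hH, hG1, hCM⟩ := mk H (fun x hx hfix => hMH (hM' ▸ ⟨hx, hfix⟩)) (hHG.trans_eq hG.symm)
    rcases dichotomyD4 C hd with h | h
    · exact Or.inl (by rw [← hH, h, hCM, hM'])
    · exact Or.inr (by rw [← hH, h, hG1]; exact hG)

end CfsgLib.Chev.SubTw
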