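import Cfsg.Agent.Lib.Chev.SubMaxRadRat
import Cfsg.Agent.Lib.Chev.SubMaxTopData
import Cfsg.Agent.Lib.Chev.TwistWeyl
import Cfsg.Agent.Lib.Chev.OrbitA1
import Cfsg.Agent.Lib.Chev.SigmaTables
import Cfsg.Agent.Lib.Chev.SubMaxOdd

/-!
The combinatorial data of a diagram symmetry used for subgroups over the subfield of a twisted group.
-/

set_option autoImplicit false
set_option linter.unusedSectionVars false

namespace CfsgLib.Chev.SubTw

open Cfsg.Lie CfsgLib.Chev CfsgLib.Chev.SubMax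

/-- The data of a diagram symmetry. -/
structure TwData where
  /-- the order -/
  deg : ℕ
  /-- the permutation of the roots -/
  ρ : List ℕ
  /-- the signs -/
  sgn : List ℤ
  /-- the sum of the indices of two partners in the radical -/
  P : ℕ
  /-- a root that is moved -/
  b0 : ℕ
  /-- a fixed root with Cartan number one at the moved root -/
  tor : ℕ
  /-- the first root of the pencil -/
  γ : ℕ
  /-- the second root of the pencil -/
  α : ℕ
  /-- fixed radical roots whose sum is regular dominant -/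
  posL : List ℕ
  /-- fixed radical roots whose sum is negative on the Levi part -/
  negL : List ℕ
  /-- orbits reaching every root from a top root or the moved root -/
  rep : List (List ℕ × ℕ)
  /-- the orbits of fundamental roots -/
  orbs : List (List ℕ)

namespace TwData

variable (d : TwData)

/-- The sign of an iterate. -/
noncomputable def sgk (r k : ℕ) : ℤ := Nat.rec 1 (fun m ih => ih * nth 1 d.sgn (iterR d.ρ m r)) k

/-- The root is fixed. -/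
noncomputable def fix (r : ℕ) : Bool := decide (nth 0 d.ρ r = r)

/-- The sum of Cartan numbers. -/
noncomputable def pairSum (D : ChevalleyDatum) (L : List ℕ) (u : ℕ) : ℤ := (L.map fun a => fpair D a u).sum

/-- A root of the radical other than the highest one. -/
noncomputable def mid (D : ChevalleyDatum) (r : ℕ) : Bool := radB D r && !decide (r = top D)

/-- The word of a list of orbits. -/
def word (L : List ℕ) : List ℕ := L.flatMap fun o => d.orbs.getD o []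

/-- The check of one root. -/
noncomputable def rootOK (D : ChevalleyDatum) (sd : StructData) (r : ℕ) : Bool :=
  decide (topW D (nth 0 d.ρ r) = topW D r) &&
  (!(d.fix r) || decide (nth 1 d.sgn r = 1)) &&
  decide (iterR d.ρ d.deg r = r) && decide (d.sgk r d.deg = 1) &&
  (d.fix r || allR (fun k => decide (k = 0) ||
    (!decide (iterR d.ρ k r = r) && !decide (iterR d.ρ k r = fneg D r) && (fterms D r (iterR d.ρ k r)).isEmpty))
    (upto d.deg)) &&
  (nth ([], 0) d.rep r).1.all (fun o => decide (o < d.orbs.length)) &&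
  decide (wordApp sd (d.word (nth ([], 0) d.rep r).1)
    (iterR d.ρ (nth ([], 0) d.rep r).2 (bif d.fix r then top D else d.b0)) = r) &&
  decide ((nth ([], 0) d.rep r).2 < d.deg) &&
  (!(mid D r) || (decide (r ≤ d.P) && decide (d.P - r < D.nroots) && mid D (d.P - r) &&
    decide (nth 0 d.ρ (d.P - r) + nth 0 d.ρ r = d.P) &&
    (decide (nF D r (d.P - r) = 1) || decide (nF D r (d.P - r) = -1)) &&
    allR (fun a => !(radB D a) || decide (a = d.P - r) || decide (nF D r a = 0)) (upto D.nroots))) &&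
  (!(decide (r = top D)) || allR (fun a => !(radB D a) || decide (nF D r a = 0)) (upto D.nroots)) &&
  (!(d.fix r && decide (topW D r < 0) && !decide (r = fneg D (top D))) ||
    (fterms D r (top D)).all (fun c => d.fix c.1))

/-- The check of the symmetry. -/
noncomputable def ok (D : ChevalleyDatum) (dat : LieData) (sd : StructData) : Bool :=
  d.fix (top D) && allR (d.rootOK D sd) (upto D.nroots) &&
  d.posL.all (fun a => decide (a < D.nroots) && radB D a && d.fix a) &&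
  d.negL.all (fun a => decide (a < D.nroots) && radB D a && d.fix a) &&
  allR (fun i => decide (0 < pairSum D d.posL (fsimple dat i))) (upto D.rank) &&
  allR (fun r => !decide (half D ≤ r) ||
    bif decide (topW D r = 0) then decide (pairSum D d.negL r < 0) else decide (0 ≤ pairSum D d.negL r))
    (upto D.nroots) &&
  decide (d.b0 < D.nroots) && !(d.fix d.b0) && decide (d.tor < D.nroots) && d.fix d.tor &&
  decide (fpair D d.tor d.b0 = 1) && decide (d.γ < D.nroots) && decide (d.α < D.nroots) &&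
  d.fix d.γ && d.fix d.α && d.fix (fneg D d.γ) && pencilOK D (longOf []) d.γ d.α &&
  allR (fun o =>
    bif d.fix (fsimple dat ((d.orbs.getD o []).getLastD 0)) then decide ((d.orbs.getD o []).length = 1)
    else decide ((d.orbs.getD o []).map (fsimple dat) =
      ((List.range d.deg).map fun k => iterR d.ρ k (fsimple dat ((d.orbs.getD o []).getLastD 0))).reverse))
    (upto d.orbs.length)

/-- The symmetry of D4. -/
noncomputable def d4 : TwData where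
  deg := 3
  ρ := rhoD4.ρ
  sgn := rhoD4Sign
  P := 36
  b0 := 12
  tor := 22
  γ := 14
  α := 22
  posL := [22, 23, 23]
  negL := [14, 23, 23]
  rep := [([0, 1, 0, 1, 0], 0), ([1, 0, 1, 0], 0), ([1, 0, 1], 0), ([1, 0, 1], 2), ([0, 1], 1), ([1], 1),
    ([1, 0, 1], 1), ([0, 1], 2), ([0, 1], 0), ([0, 1, 0], 0), ([1], 2), ([1], 0), ([], 0), ([], 2), ([1, 0], 0),
    ([0], 0), ([0], 2), ([1, 0], 1), ([], 1), ([0], 1), ([1, 0], 2), ([1, 0], 0), ([0], 0), ([], 0)]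
  orbs := [[1], [3, 2, 0]]

/-- The symmetry of E6. -/
noncomputable def e6 : TwData where
  deg := 2
  ρ := rhoE6.ρ
  sgn := rhoE6Sign
  P := 116
  b0 := 68
  tor := 63
  γ := 46
  α := 70
  posL := [65, 69, 69, 70, 70, 71, 71, 71]
  negL := [46, 46, 47, 47, 51, 71, 71, 71]
  rep := [([0, 1, 3, 2, 1, 3, 0, 1, 3, 2, 0, 1, 3, 1, 0], 0), ([1, 3, 2, 1, 3, 0, 1, 3, 2, 0, 1, 3, 1, 0], 0),
    ([3, 2, 1, 3, 0, 1, 3, 2, 0, 1, 3, 1, 0], 0), ([2, 3, 1, 3, 2, 0, 1, 3, 2, 1, 3, 0, 1, 3, 2], 0),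
    ([3, 1, 3, 2, 0, 1, 3, 2, 1, 3, 0, 1, 3, 2], 0), ([2, 3, 1, 3, 2, 0, 1, 3, 2, 1, 3, 0, 1, 3, 2], 1),
    ([2, 1, 3, 0, 1, 3, 2, 0, 1, 3, 1, 0], 0), ([1, 3, 2, 0, 1, 3, 2, 1, 3, 0, 1, 3, 2], 0),
    ([2, 3, 0, 1, 3, 2, 0, 1, 3, 1, 0], 0), ([3, 2, 0, 1, 3, 2, 1, 3, 0, 1, 3, 2], 0),
    ([2, 0, 1, 3, 2, 1, 3, 0, 1, 3, 2], 0), ([2, 3, 1, 3, 2, 0, 1, 3, 1, 0], 0),
    ([3, 2, 1, 3, 2, 1, 3, 0, 1, 3, 2], 0), ([2, 1, 3, 2, 1, 3, 0, 1, 3, 2], 0),
    ([2, 3, 2, 1, 3, 0, 1, 3, 2], 0), ([2, 3, 1, 3, 0, 1, 3, 2], 0),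
    ([3, 1, 3, 2, 0, 1, 3, 2, 1, 3, 0, 1, 3, 2], 1), ([1, 3, 2, 0, 1, 3, 2, 1, 3, 0, 1, 3, 2], 1),
    ([1, 3, 0, 1, 3, 2, 0, 1, 3, 1, 0], 0), ([3, 2, 0, 1, 3, 2, 1, 3, 0, 1, 3, 2], 1),
    ([3, 0, 1, 3, 2, 0, 1, 3, 1, 0], 0), ([0, 1, 3, 2, 1, 3, 0, 1, 3, 2], 0),
    ([2, 0, 1, 3, 2, 1, 3, 0, 1, 3, 2], 1), ([0, 1, 3, 2, 1, 3, 0, 1, 3, 2], 1),
    ([0, 1, 3, 2, 0, 1, 3, 1, 0], 0), ([0, 1, 3, 2, 1, 3, 1, 0], 0), ([3, 2, 1, 3, 2, 1, 3, 0, 1, 3, 2], 1),
    ([3, 1, 3, 2, 0, 1, 3, 1, 0], 0), ([1, 3, 2, 1, 3, 0, 1, 3, 2], 0), ([3, 2, 1, 3, 0, 1, 3, 2], 0),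
    ([2, 1, 3, 2, 1, 3, 0, 1, 3, 2], 1), ([1, 3, 2, 1, 3, 0, 1, 3, 2], 1), ([1, 3, 2, 0, 1, 3, 1, 0], 0),
    ([2, 3, 2, 1, 3, 0, 1, 3, 2], 1), ([3, 2, 1, 3, 0, 1, 3, 2], 1), ([2, 3, 1, 3, 0, 1, 3, 2], 1),
    ([3, 1, 3, 0, 1, 3, 2], 1), ([2, 1, 3, 0, 1, 3, 2], 1), ([1, 3, 0, 1, 3, 2], 1),
    ([3, 2, 0, 1, 3, 1, 0], 0), ([2, 3, 0, 1, 3, 2], 1), ([3, 0, 1, 3, 2], 1), ([2, 1, 3, 0, 1, 3, 2], 0),
    ([2, 3, 0, 1, 3, 2], 0), ([2, 0, 1, 3, 1, 0], 0), ([0, 1, 3, 2], 1), ([1, 3, 2, 1, 3, 1, 0], 0),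
    ([3, 2, 1, 3, 1, 0], 0), ([2, 3, 1, 3, 2], 1), ([3, 1, 3, 2], 1), ([2, 3, 1, 3, 2], 0),
    ([2, 1, 3, 1, 0], 0), ([1, 3, 2], 1), ([2, 3, 1, 0], 0), ([3, 2], 1), ([2], 1),
    ([3, 1, 3, 0, 1, 3, 2], 0), ([1, 3, 0, 1, 3, 2], 0), ([3, 0, 1, 3, 2], 0), ([0, 1, 3, 2], 0),
    ([0, 1, 3, 1, 0], 0), ([3, 1, 3, 2], 0), ([1, 3, 2], 0), ([1, 3, 1, 0], 0), ([3, 2], 0), ([3, 1, 0], 0),
    ([], 1), ([2], 0), ([], 0), ([1, 0], 0), ([0], 0), ([], 0)]
  orbs := [[1], [3], [5, 0], [4, 2]]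

set_option maxRecDepth 100000 in
theorem d4_ok : d4.ok chevD4 dataD4 sdataD4 = true := by decide +kernel

set_option maxRecDepth 100000 in
theorem e6_ok : e6.ok chevE6 dataE6 sdataE6 = true := by decide +kernel

end TwData

end CfsgLib.Chev.SubTw
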