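import Cfsg.Agent.Lib.Chev.SubTwGen
import Cfsg.Agent.Lib.Chev.TwistE6
import Cfsg.Agent.Lib.Chev.TwistHOrders

/-!
The points of the twisted group of type E6 over the small field form a maximal subgroup.
-/

set_option autoImplicit false
set_option linter.unusedSectionVars false
set_option maxHeartbeats 800000
set_option maxRecDepth 100000

namespace CfsgLib.Chev.SubTw

open Cfsg.Lie Matrix CfsgLib.Chev CfsgLib.Chev.SubMax

namespace TCtx

variable {D : ChevalleyDatum} {K : Type*} [Field K] [Fintype K] (C : TCtx D K)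

/-- An irrational coordinate stays irrational along the orbit. -/
lemma crd_rot_irr {x : GL D.Idx K} (hx : x ∈ topQ D K) (hx1 : x ∈ C.A.G1) {a : Fin D.nroots}
    (ha : a.val ∈ radSet D) :
    C.E.σ (C.crd x (C.A.T.ρ a : Fin D.nroots)) = C.crd x (C.A.T.ρ a : Fin D.nroots) ↔
      C.E.σ (C.crd x a) = C.crd x a := by
  have h := C.crd_fixed hx hx1 ha 1
  rw [C.hf, map_one, mul_one, mul_one] at h
  have hn := C.f_ne a
  constructor
  · intro h1
    apply C.E.σ.injective
    rw [← h, map_mul, map_intCast, h1]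
  · intro h1
    refine mul_right_cancel₀ hn ?_
    calc C.E.σ (C.crd x (C.A.T.ρ a : Fin D.nroots)) * (nth 1 C.d.sgn a : K)
        = C.E.σ (C.crd x (C.A.T.ρ a : Fin D.nroots) * (nth 1 C.d.sgn a : K)) := by rw [map_mul, map_intCast]
      _ = _ := by rw [h, congrArg C.E.σ h1]

lemma crd_rot_irr_iter {x : GL D.Idx K} (hx : x ∈ topQ D K) (hx1 : x ∈ C.A.G1) {a : Fin D.nroots}
    (ha : a.val ∈ radSet D) (k : ℕ) :
    C.E.σ (C.crd x ((C.A.T.ρ)^[k] a : Fin D.nroots)) = C.crd x ((C.A.T.ρ)^[k] a : Fin D.nroots) ↔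
      C.E.σ (C.crd x a) = C.crd x a := by
  induction k with
  | zero => rfl
  | succ k ih => rw [Function.iterate_succ_apply', C.crd_rot_irr hx hx1 (C.ρ_iter_rad ha k), ih]

/-- A subgroup that is a vector space and contains an irrational parameter of a quadratic extension. -/
lemma full_of_quad (hdeg : C.E.r = 2) (h1 : (1 : K) ∈ C.SS C.bb) {e : K} (he : e ∈ C.SS C.bb)
    (hne : C.E.σ e ≠ e) (t : K) : t ∈ C.SS C.bb := by
  have hσσ : ∀ u : K, C.E.σ (C.E.σ u) = u := fun u => by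
    have := C.E.iterate_r u
    rwa [hdeg] at this
  let A : AddSubgroup K :=
    { carrier := {u | ∃ x y, C.E.σ x = x ∧ C.E.σ y = y ∧ u = x + y * e}
      zero_mem' := ⟨0, 0, map_zero _, map_zero _, by ring⟩
      add_mem' := by
        rintro _ _ ⟨x, y, hx, hy, rfl⟩ ⟨x', y', hx', hy', rfl⟩
        exact ⟨x + x', y + y', by rw [map_add, hx, hx'], by rw [map_add, hy, hy'], by ring⟩
      neg_mem' := by
        rintro _ ⟨x, y, hx, hy, rfl⟩
        exact ⟨-x, -y, by rw [map_neg, hx], by rw [map_neg, hy], by ring⟩ }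
  obtain ⟨x, y, hx, hy, rfl⟩ : t ∈ A := by
    refine C.E.eq_univ_of_closed A (fun u hu => ⟨u, 0, hu, map_zero _, by ring⟩) ?_
      (t := e) ⟨0, 1, map_zero _, map_one _, by ring⟩ hne t
    rintro _ ⟨x, y, hx, hy, rfl⟩ _ ⟨x', y', hx', hy', rfl⟩
    refine ⟨x * x' - y * y' * (e * C.E.σ e), x * y' + y * x' + y * y' * (e + C.E.σ e), ?_, ?_, by ring⟩
    · simp only [map_sub, map_mul, hx, hx', hy, hy', hσσ]; ring
    · simp only [map_add, map_mul, hx, hx', hy, hy', hσσ]; ring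
  refine add_mem ?_ (C.SS_smul hy he)
  simpa using C.SS_smul hx h1

lemma one_mem_SS : (1 : K) ∈ C.SS C.bb := C.M_le_H (C.EO_mem_M C.bb (map_one C.E.σ))

end TCtx

/-- The check of one isolating root. -/
noncomputable def isoOK (D : ChevalleyDatum) (d : TwData) (row : ℕ × ℕ × ℕ) : Bool :=
  match row with
  | (k, b, p0) =>
    decide (k < D.nroots) && decide (b < D.nroots) && decide (p0 < D.nroots) && d.fix b &&
    decide (topW D b = 0) && TwData.mid D k && TwData.mid D p0 &&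
    (decide (fterms D b p0 = [(k, 1, 1, 1)]) || decide (fterms D b p0 = [(k, -1, 1, 1)])) &&
    allR (fun r => !(TwData.mid D r) || decide (r = p0) || decide (r = nth 0 d.ρ p0) ||
      match fterms D b r with
      | [] => true
      | [(k', _, 1, 1)] => decide (k' < D.nroots) && radB D k' && d.fix k'
      | _ => false) (upto D.nroots)

/-- The isolating roots of E6. -/
def isoE6 : List (ℕ × ℕ × ℕ) :=
  [(66, 60, 48), (55, 44, 49), (54, 39, 52), (52, 32, 54), (49, 27, 55), (48, 11, 66)]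

theorem isoE6_ok : isoE6.all (isoOK chevE6 TwData.e6) = true := by decide +kernel

theorem isoE6_cover : allR (fun a => !(TwData.mid chevE6 a) || TwData.e6.fix a ||
    isoE6.any (fun row => decide (row.1 = a) || decide (row.1 = nth 0 TwData.e6.ρ a)))
    (upto chevE6.nroots) = true := by decide +kernel

open TCtx (Mid)

variable {K : Type*} [Field K] [Fintype K]

/-- The overgroup is small or everything. -/
theorem dichotomyE6 (C : TCtx chevE6 K) (hd : C.d = TwData.e6) : C.H = C.M ∨ C.H = C.A.G1 := by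
  have hdeg : C.E.r = 2 := by rw [← C.hdeg, hd]; rfl
  by_cases hQ : C.RadRat
  · exact Or.inl (le_antisymm (C.le_M hQ) C.M_le_H)
  right
  simp only [TCtx.RadRat, not_forall] at hQ
  obtain ⟨x, hxH, hxQ, hxM⟩ := hQ
  have hx1 := C.hi hxH
  obtain ⟨a, ha, hne⟩ : ∃ a : Fin chevE6.nroots, Mid (D := chevE6) a ∧ C.E.σ (C.crd x a) ≠ C.crd x a := by
    by_contra h
    push Not at h
    exact hxM (C.mem_M_of_crd hxQ hx1 h)
  have hfa : C.A.T.ρ a ≠ a := fun h => hne (C.crd_fixed_rat hxQ hx1 ha.1 h)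
  -- an isolating row for the orbit
  have hcov := allR_upto isoE6_cover a.2
  simp only [Bool.or_eq_true, Bool.not_eq_true', List.any_eq_true, decide_eq_true_eq] at hcov
  rcases hcov with (hc | hc) | ⟨⟨k, b, p0⟩, hrow, hka⟩
  · simp [TwData.mid, (radB_iff C.g a.2).2 ha.1, ha.2] at hc
  · exact absurd (C.ρ_fix.2 (hd ▸ hc)) hfa
  have hok := (List.all_eq_true.1 isoE6_ok) _ hrow
  simp only [isoOK, Bool.and_eq_true, Bool.or_eq_true, decide_eq_true_eq] at hok
  obtain ⟨⟨⟨⟨⟨⟨⟨⟨hk, hb⟩, hp⟩, hbf⟩, hbw⟩, hkm⟩, hpm⟩, hterm⟩, hall⟩ := hok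
  have hmid : ∀ {s : ℕ}, s < chevE6.nroots → (TwData.mid chevE6 s = true ↔ Mid (D := chevE6) s) := fun {s} hs => by
    simp [TwData.mid, Mid, radB_iff C.g hs]
  have hkM := (hmid hk).1 hkm
  have hpM := (hmid hp).1 hpm
  have hkne : C.E.σ (C.crd x k) ≠ C.crd x k := by
    intro h
    refine hne ?_
    rcases hka with e | e <;> simp only at e
    · rwa [e] at h
    · rw [e, ← hd, ← C.hρ] at h
      exact (C.crd_rot_irr hxQ hx1 ha.1).1 h
  -- the commutator
  have hbfix : C.A.T.ρ ⟨b, hb⟩ = ⟨b, hb⟩ := C.ρ_fix.2 (hd ▸ hbf)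
  have hbM : C.g.xG b (1 : K) ∈ C.M := C.fix_mem_M hbfix (map_one C.E.σ)
  obtain ⟨hyQ, hy⟩ := C.crd_levi hb hbw hxQ 1
  obtain ⟨z, hz⟩ : ∃ z, z = C.g.xG b 1 * x * (C.g.xG b 1)⁻¹ * x⁻¹ := ⟨_, rfl⟩
  have hzQ : z ∈ topQ chevE6 K := hz ▸ mul_mem hyQ (inv_mem hxQ)
  have hzH : z ∈ C.H :=
    hz ▸ mul_mem (mul_mem (mul_mem (C.M_le_H hbM) hxH) (inv_mem (C.M_le_H hbM))) (inv_mem hxH)
  have hzc : ∀ p ∈ radSet chevE6, C.crd z p = C.crd (C.g.xG b 1 * x * (C.g.xG b 1)⁻¹) p - C.crd x p :=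
    fun p hp => by rw [hz, C.crd_mul hyQ (inv_mem hxQ) hp, C.crd_inv hxQ hp, sub_eq_add_neg]
  have hz0 : C.E.σ (C.crd z p0) ≠ C.crd z p0 := by
    rw [hzc p0 hpM.1]
    rcases hterm with h | h <;> rw [(hy p0 hpM.1).2 _ _ h hkM.1, add_sub_cancel_left] <;>
      simpa using hkne
  obtain ⟨r, -, -, hrf, v, -, hv, hvH⟩ := C.exists_EO_mem hzH hzQ (a := ⟨p0, hp⟩) hpM hz0 fun p hpmid hout => by
    have h := allR_upto hall p.2
    simp only [Bool.or_eq_true, Bool.not_eq_true', decide_eq_true_eq] at h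
    rcases h with ((h | h) | h) | h
    · rw [(hmid p.2).2 hpmid] at h; exact absurd h (by simp)
    · exact absurd (Fin.ext h.symm) (hout 0)
    · refine absurd (Fin.ext ?_) (hout 1)
      rw [Function.iterate_one, C.hρ, hd]
      exact h.symm
    · rw [hzc p hpmid.1]
      split at h
      · rename_i heq
        rw [(hy p hpmid.1).1 heq, sub_self, map_zero]
      · rename_i k' c heq
        simp only [Bool.and_eq_true, decide_eq_true_eq] at h
        obtain ⟨⟨hk', hk'r⟩, hk'f⟩ := h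
        have hk'Q := (radB_iff C.g hk').1 hk'r
        rw [(hy p hpmid.1).2 _ _ heq hk'Q, add_sub_cancel_left, map_mul, map_neg, map_mul, map_intCast, map_one,
          C.crd_fixed_rat hxQ hx1 (a := ⟨k', hk'⟩) hk'Q (C.ρ_fix.2 (hd ▸ hk'f))]
      · simp at h
  obtain ⟨m, hm⟩ := C.SS_to_base hrf (C.mem_SS.2 hvH)
  refine C.eq_G1_of_base (C.full_of_quad hdeg C.one_mem_SS hm fun h => hv ?_)
  exact (C.E.σ.injective.iterate m) (by rw [← Function.iterate_succ_apply, Function.iterate_succ_apply', h])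

/-- Maximality in type E6. -/
theorem maximalE6 {q : ℕ} (hq : IsPrimePow q) (hK : Fintype.card K = q ^ 2)
    (M : Subgroup (GL chevE6.Idx K))
    (hM : ∀ g : GL chevE6.Idx K, g ∈ M ↔ g ∈ twistedE6 K q ∧ ∀ i j : chevE6.Idx,
      ((g : Matrix chevE6.Idx chevE6.Idx K) i j) ^ q = (g : Matrix chevE6.Idx chevE6.Idx K) i j) :
    M ≠ twistedE6 K q ∧ ∀ H : Subgroup (GL chevE6.Idx K), M ≤ H → H ≤ twistedE6 K q →
      H = M ∨ H = twistedE6 K q := by
  obtain ⟨A0, hG, hφ, hS, hr, ho⟩ := exists_setupE6 K hq hK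
  obtain ⟨T, hTρ, hTpi, hTf⟩ := exists_twist_rhoE6 (F := K) A0.φ
  have hsimple : ∀ i : Fin chevE6.rank, nth 1 rhoE6Sign (goodE6.sroot i : ℕ) = 1 ∧
      nth 1 rhoE6Sign (goodE6.nroot (goodE6.sroot i) : ℕ) = 1 := by
    intro i
    have h := allR_upto sign_simple_E6 i.2
    rw [Int.beq'_eq, ← (checksE6.simple_facts i.2).1] at h
    refine ⟨h, ?_⟩
    show nth 1 rhoE6Sign (chevE6.neg (chevE6.simple i)) = 1
    rw [neg_eq goodE6.lie.pack (goodE6.simple_lt i.2), eps_neg rhoE6_signed (goodE6.simple_lt i.2), h]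
  let A : A1Setup goodE6 K :=
    { A0 with
      T := T
      Tρ := hTρ.trans (congrArg RootSym.ρ hS.symm)
      Tpi := hTpi.trans (congrArg RootSym.pi hS.symm)
      f_simple := fun i t => ⟨by rw [hTf, (hsimple i).1, Int.cast_one, one_mul],
        by rw [hTf, (hsimple i).2, Int.cast_one, one_mul]⟩ }
  let E : FieldExt K := ⟨q, 2, A0.φ, hq.one_lt, Nat.prime_two, hK, hφ⟩
  have horb : ∀ k : Fin 4, (orbE6 k).map Fin.val = TwData.e6.orbs.getD k [] := by decide +kernel
  have mk : ∀ (H : Subgroup (GL chevE6.Idx K)), (∀ x ∈ A.G1, scalarGL chevE6 E.σ x = x → x ∈ H) → H ≤ A.G1 →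
      ∃ C : TCtx chevE6 K, C.d = TwData.e6 ∧ C.H = H ∧ C.A.G1 = A.G1 ∧
        C.M = A.G1 ⊓ MonoidHom.eqLocus (scalarGL chevE6 E.σ) (MonoidHom.id _) := fun H lo hi =>
    ⟨{ g := goodE6, hc := hasComm_of_mem (by simp), hse := suppEq_of_mem (by simp), T := topE6, dat := dataE6,
       sd := sdataE6, hl := checksE6, hs := structChecksE6, d := TwData.e6, hd := TwData.e6_ok, E := E,
       hdeg := rfl, A := A, hsym := coSym_of_check A checksE6 structChecksE6 rhoE6_ok hS coSymE6_ok,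
       hρ := fun r => by show (T.ρ r).val = _; rw [hTρ]; rfl
       hf := fun r t => hTf r t
       hφ := fun t => rfl
       hr := hr
       horb := fun o => by
         show (A0.orb o).map Fin.val = _
         rw [ho]; exact horb _
       H := H, lo := lo, hi := hi }, rfl, rfl, rfl, rfl⟩
  have hM' : M = A.G1 ⊓ MonoidHom.eqLocus (scalarGL chevE6 E.σ) (MonoidHom.id _) := by
    ext x
    rw [hM, ← hG]
    refine and_congr Iff.rfl ⟨fun h => Units.ext (Matrix.ext fun i j => ?_), fun h i j => ?_⟩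
    · show A0.φ ((x : Matrix chevE6.Idx chevE6.Idx K) i j) = _
      rw [hφ]; exact h i j
    · rw [← hφ]
      have h1 : (scalarGL chevE6 E.σ x : Matrix chevE6.Idx chevE6.Idx K) =
          (x : Matrix chevE6.Idx chevE6.Idx K) := congrArg Units.val h
      exact congrArg (fun B : Matrix chevE6.Idx chevE6.Idx K => B i j) h1
  refine ⟨fun h => ?_, fun H hMH hHG => ?_⟩
  · obtain ⟨C, hd, -, hG1, hCM⟩ := mk A.G1 (fun x hx _ => hx) le_rfl
    refine C.M_ne_G1 (r := ⟨48, by decide⟩) ?_ ?_ (by rw [hCM, ← hM', h, hG1]; exact hG.symm)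
    · have : TwData.mid chevE6 48 = true := by decide +kernel
      simpa [TwData.mid, Mid, radB_iff C.g (show 48 < chevE6.nroots by decide)] using this
    · intro hf
      have := C.ρ_fix.1 hf
      rw [hd] at this
      exact absurd this (by decide +kernel)
  · obtain ⟨C, hd, hH, hG1, hCM⟩ := mk H (fun x hx hfix => hMH (hM' ▸ ⟨hx, hfix⟩)) (hHG.trans_eq hG.symm)
    rcases dichotomyE6 C hd with h | h
    · exact Or.inl (by rw [← hH, h, hCM, hM'])
    · exact Or.inr (by rw [← hH, h, hG1]; exact hG)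

end CfsgLib.Chev.SubTw
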