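import Cfsg.Agent.Lib.Chev.SubTwPos

/-!
Generation of the twisted group by one orbit of root groups, and isolation of coordinates.
-/

set_option autoImplicit false
set_option linter.unusedSectionVars false
set_option maxHeartbeats 800000

namespace CfsgLib.Chev.SubTw.TCtx

open Cfsg.Lie Matrix CfsgLib.Chev CfsgLib.Chev.SubMax

variable {D : ChevalleyDatum} {K : Type*} [Field K] [Fintype K] (C : TCtx D K)

lemma sgk_unit (r : Fin D.nroots) {k : ℕ} (hk : k ≤ C.E.r) :
    C.d.sgk r k = 1 ∨ C.d.sgk r k = -1 := by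
  have hdvd : ∀ j, k ≤ j → C.d.sgk r k ∣ C.d.sgk r j := by
    intro j hj
    induction j, hj using Nat.le_induction with
    | base => exact dvd_rfl
    | succ j _ ih => exact dvd_mul_of_dvd_left ih _
  have h := hdvd C.d.deg (C.hdeg ▸ hk)
  have h1 := C.root_ok r.2
  simp only [TwData.rootOK, Bool.and_eq_true, decide_eq_true_eq] at h1
  rw [h1.1.1.1.1.1.1.1.2] at h
  exact Int.isUnit_iff.1 (isUnit_of_dvd_one h)

/-- The parameters of orbit elements in the overgroup. -/
def SS (r : Fin D.nroots) : AddSubgroup K where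
  carrier := {t | C.EO r t ∈ C.H}
  zero_mem' := by show C.EO r 0 ∈ C.H; rw [C.EO_zero]; exact one_mem _
  add_mem' := fun {a b} ha hb => by show C.EO r (a + b) ∈ C.H; rw [C.EO_add]; exact mul_mem ha hb
  neg_mem' := fun {a} ha => by show C.EO r (-a) ∈ C.H; rw [C.EO_neg]; exact inv_mem ha

lemma mem_SS {r : Fin D.nroots} {t : K} : t ∈ C.SS r ↔ C.EO r t ∈ C.H := Iff.rfl

lemma EO_rot_iter (r : Fin D.nroots) (t : K) (k : ℕ) :
    C.EO ((C.A.T.ρ)^[k] r) ((C.d.sgk r k : K) * (C.E.σ)^[k] t) = C.EO r t := by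
  induction k with
  | zero => simp [TwData.sgk]
  | succ k ih =>
    rw [← ih, ← C.EO_rot ((C.A.T.ρ)^[k] r), C.hf, C.ρ_iter,
      show C.d.sgk r (k + 1) = C.d.sgk r k * nth 1 C.d.sgn (iterR C.d.ρ k r) from rfl,
      Function.iterate_succ_apply', Function.iterate_succ_apply', map_mul, map_intCast, Int.cast_mul]
    congr 1
    ring

lemma SS_rot {r : Fin D.nroots} {t : K} (h : t ∈ C.SS r) {k : ℕ} (hk : k ≤ C.E.r) :
    (C.E.σ)^[k] t ∈ C.SS ((C.A.T.ρ)^[k] r) := by
  have h1 : (C.d.sgk r k : K) * (C.E.σ)^[k] t ∈ C.SS ((C.A.T.ρ)^[k] r) := by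
    rw [mem_SS, C.EO_rot_iter]; exact h
  rcases C.sgk_unit r hk with e | e <;> rw [e] at h1
  · simpa using h1
  · simpa using h1

lemma SS_move {r : Fin D.nroots} {t : K} (L : List (Fin C.A.r)) :
    t ∈ C.SS r ↔ t ∈ C.SS (C.g.wperm (C.A.orbWord L) r) := by
  obtain ⟨e, he, hee⟩ := C.exists_move (C.A.orbWord L) r
  have hn := C.wordN_mem_M L
  have key : ∀ u, (C.EO r u ∈ C.H ↔ C.EO (C.g.wperm (C.A.orbWord L) r) (e * u) ∈ C.H) := fun u => by
    rw [← C.EO_conj hn.1 (hee u)]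
    refine ⟨fun h => mul_mem (mul_mem (C.M_le_H hn) h) (inv_mem (C.M_le_H hn)), fun h => ?_⟩
    have := mul_mem (mul_mem (inv_mem (C.M_le_H hn)) h) (C.M_le_H hn)
    simpa [mul_assoc] using this
  rw [mem_SS, key, ← mem_SS]
  rcases he with rfl | rfl
  · rw [one_mul]
  · rw [neg_one_mul, neg_mem_iff]

/-- Every parameter can be moved to the base root. -/
theorem SS_to_base {r : Fin D.nroots} (hr : C.A.T.ρ r ≠ r) {t : K} (h : t ∈ C.SS r) :
    ∃ m : ℕ, (C.E.σ)^[m] t ∈ C.SS C.bb := by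
  obtain ⟨L, k, hk, -, hL⟩ := C.exists_rep r
  rw [← hL hr] at h
  have h1 := C.SS_rot ((C.SS_move L).2 h) (k := C.E.r - k) (by omega)
  rw [← Function.iterate_add_apply, Nat.sub_add_cancel hk.le, C.ρ_period] at h1
  exact ⟨_, h1⟩

theorem SS_of_base (hfull : ∀ t, t ∈ C.SS C.bb) {r : Fin D.nroots} (hr : C.A.T.ρ r ≠ r) (t : K) :
    t ∈ C.SS r := by
  obtain ⟨L, k, hk, -, hL⟩ := C.exists_rep r
  rw [← hL hr]
  refine (C.SS_move L).1 ?_
  have := C.SS_rot (hfull ((C.E.σ)^[C.E.r - k] t)) hk.le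
  rwa [← Function.iterate_add_apply, Nat.add_sub_cancel' hk.le, C.E.iterate_r] at this

/-- The base parameters are a vector space over the subfield. -/
theorem SS_smul {μ t : K} (hμ : C.E.σ μ = μ) (h : t ∈ C.SS C.bb) : μ * t ∈ C.SS C.bb := by
  by_cases hμ0 : μ = 0
  · rw [hμ0, zero_mul]; exact zero_mem _
  have hok := C.hd
  simp only [TwData.ok, Bool.and_eq_true, decide_eq_true_eq] at hok
  obtain ⟨⟨⟨⟨⟨⟨⟨⟨⟨⟨-, htl⟩, htf⟩, htp⟩, -⟩, -⟩, -⟩, -⟩, -⟩, -⟩, -⟩ := hok
  obtain ⟨β, hβ⟩ : ∃ β : Fin D.nroots, β = ⟨C.d.tor, htl⟩ := ⟨_, rfl⟩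
  have hβf : C.A.T.ρ β = β := hβ ▸ C.ρ_fix.2 htf
  have hβn : C.A.T.ρ (C.g.nroot β) = C.g.nroot β := by rw [C.A.T.ρ_nroot, hβf]
  have hnG : ∀ u : Kˣ, C.E.σ (u : K) = u → C.g.nG (β : ℕ) u ∈ C.M := fun u hu => by
    have h1 := C.fix_mem_M hβf hu
    refine mul_mem (mul_mem h1 ?_) h1
    exact C.fix_mem_M hβn (by rw [map_neg, Units.val_inv_eq_inv_val, map_inv₀, hu])
  obtain ⟨u, hu⟩ : ∃ u : Kˣ, u = Units.mk0 μ hμ0 := ⟨_, rfl⟩
  have hM : C.g.hG (β : ℕ) u ∈ C.M := by
    rw [C.g.hG_eq β.2]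
    exact mul_mem (hnG u (by rw [hu]; exact hμ)) (hnG (-1) (by simp))
  have hc : C.g.hG (β : ℕ) u * C.g.xG C.bb t * (C.g.hG (β : ℕ) u)⁻¹ = C.g.xG C.bb (μ * t) := by
    rw [C.g.hG_conj_xG C.bb.2, ← C.g.fpair_eq _ C.bb.2, hβ,
      show fpair D C.d.tor C.bb = 1 from htp, zpow_one, hu]
    rfl
  rw [mem_SS, ← C.EO_conj hM.1 hc]
  exact mul_mem (mul_mem (C.M_le_H hM) h) (inv_mem (C.M_le_H hM))

/-- One full orbit of root groups generates the twisted group with the rational points. -/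
theorem eq_G1_of_base (hfull : ∀ t, t ∈ C.SS C.bb) : C.H = C.A.G1 := by
  refine le_antisymm C.hi ?_
  rw [C.A.G1_def, Subgroup.closure_le]
  rintro x ⟨o, t, ht, hx⟩
  have hok := C.hd
  simp only [TwData.ok, Bool.and_eq_true] at hok
  have ho := allR_upto hok.2 (k := o.val) (C.hr ▸ o.2)
  rw [← C.horb o] at ho
  obtain ⟨i, hi⟩ : ∃ i, (C.A.orb o).getLast (C.A.isOrbit o).ne = i := ⟨_, rfl⟩
  have hlast : ((C.A.orb o).map Fin.val).getLastD 0 = i.val := by
    rw [List.getLastD_eq_getLast?, List.getLast?_map, List.getLast?_eq_some_getLast (C.A.isOrbit o).ne, hi]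
    rfl
  have hmem : i ∈ C.A.orb o := hi ▸ List.getLast_mem _
  rw [hlast, ← (C.hl.simple_facts i.2).1] at ho
  -- the rotations of the last root
  have hpm : ∀ k, (C.A.S.pi : Fin D.rank → Fin D.rank)^[k] i ∈ C.A.orb o := fun k => by
    induction k with
    | zero => exact hmem
    | succ k ih => rw [Function.iterate_succ_apply']; exact (C.A.isOrbit o).pi_mem _ ih
  have hsr : ∀ k, (C.A.T.ρ)^[k] (C.g.sroot i) = C.g.sroot ((C.A.S.pi : Fin D.rank → Fin D.rank)^[k] i) :=
    fun k => by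
      induction k with
      | zero => rfl
      | succ k ih => rw [Function.iterate_succ_apply', ih, C.A.ρ_sroot', Function.iterate_succ_apply' C.A.S.pi]
  suffices key : ∀ e : Fin D.rank → Fin D.nroots, (∀ j u, C.A.T.f (e j) u = C.A.φ u) →
      (∀ j, C.A.T.ρ (e j) = e (C.A.S.pi j)) → Function.Injective e → C.g.xList e (C.A.orb o) t ∈ C.H by
    rcases hx with rfl | rfl
    · exact key _ C.A.f_pos C.A.ρ_sroot' C.g.sroot_injective
    · exact key _ C.A.f_neg C.A.ρ_nsroot fun a b h =>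
        C.g.sroot_injective (by simpa [C.g.nroot_nroot] using congrArg C.g.nroot h)
  intro e he hρe hinj
  by_cases hf : C.d.fix (D.simple i) = true
  · rw [hf, cond_true, decide_eq_true_eq, List.length_map, List.length_eq_one_iff] at ho
    obtain ⟨j, hj⟩ := ho
    have hji : j = i := by
      have := hpm 0
      rw [hj, List.mem_singleton, Function.iterate_zero_apply] at this
      exact this.symm
    subst hji
    have hp : C.A.S.pi j = j := by
      have h1 : C.A.T.ρ (C.g.sroot j) = C.g.sroot j := C.ρ_fix.2 hf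
      rw [C.A.ρ_sroot'] at h1
      exact C.g.sroot_injective h1
    have ht1 := ht j hmem
    rw [hp, C.hφ] at ht1
    rw [Good.xList, hj, List.map_singleton, List.prod_singleton]
    exact C.M_le_H (C.fix_mem_M (by rw [hρe, hp]) ht1.symm)
  · rw [Bool.not_eq_true] at hf
    rw [hf, cond_false, decide_eq_true_eq] at ho
    have hnf : C.A.T.ρ (e i) ≠ e i := fun h => by
      rw [hρe] at h
      have h1 : C.A.T.ρ (C.g.sroot i) = C.g.sroot i := by rw [C.A.ρ_sroot', hinj h]
      have h2 := C.ρ_fix.1 h1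
      rw [show ((C.g.sroot i : Fin D.nroots) : ℕ) = D.simple i from rfl, hf] at h2
      exact Bool.false_ne_true h2
    have horb : C.A.orb o =
        ((List.range C.E.r).map fun k => (C.A.S.pi : Fin D.rank → Fin D.rank)^[k] i).reverse := by
      have hfi : Function.Injective fun j : Fin D.rank => ((C.g.sroot j : Fin D.nroots) : ℕ) :=
        Fin.val_injective.comp C.g.sroot_injective
      refine List.map_injective_iff.2 hfi ?_
      rw [List.map_reverse, List.map_map, ← C.hdeg]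
      refine (Eq.trans ?_ (ho.trans (congrArg List.reverse (List.map_congr_left fun k _ => ?_))))
      · rw [List.map_map]
        exact List.map_congr_left fun j _ => (C.hl.simple_facts j.2).1
      · simp only [Function.comp_apply, ← hsr, C.ρ_iter]
        rfl
    have hfac : ∀ k, (⇑C.A.T.σ)^[k] (C.xs (e i) (t i)) =
        C.xs (e ((C.A.S.pi : Fin D.rank → Fin D.rank)^[k] i)) (t ((C.A.S.pi : Fin D.rank → Fin D.rank)^[k] i)) :=
      fun k => by
        induction k with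
        | zero => rfl
        | succ k ih =>
          rw [Function.iterate_succ_apply', ih, C.σ_xs, he, hρe, ← ht _ (hpm k),
            Function.iterate_succ_apply' C.A.S.pi]
    have hEO : C.g.xList e (C.A.orb o) t = C.EO (e i) (t i) := by
      have h1 : (((List.range C.E.r).map fun k => (⇑C.A.T.σ)^[k] (C.xs (e i) (t i))).reverse).prod =
          C.orbP (C.xs (e i) (t i)) := by
        refine (List.reverse_perm _).prod_eq' ?_
        rw [List.pairwise_reverse, List.pairwise_map]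
        refine List.pairwise_lt_range.imp_of_mem fun {a b} _ hb hab => ?_
        rw [List.mem_range] at hb
        obtain ⟨k, rfl⟩ : ∃ k, b = a + k := ⟨b - a, by omega⟩
        rw [Function.iterate_add_apply]
        refine Commute.symm ?_
        show _ * _ = _ * _
        rw [← C.σ_iter_mul, ← C.σ_iter_mul, (C.xs_commute (e i) (show 0 < k by omega) (by omega) (t i) (t i)).eq]
      rw [EO, ← h1, SubmonoidClass.coe_list_prod, List.map_reverse, List.map_map, Good.xList, horb,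
        List.map_reverse, List.map_map]
      refine congrArg List.prod (congrArg List.reverse (List.map_congr_left fun k _ => ?_))
      simp only [Function.comp_apply, hfac, coe_xs]
    rw [hEO]
    exact C.SS_of_base hfull hnf _

/-- Irrational orbit elements lie outside the rational points. -/
theorem M_ne_G1 {r : Fin D.nroots} (hr : Mid (D := D) r) (hrf : C.A.T.ρ r ≠ r) : C.M ≠ C.A.G1 := by
  intro h
  obtain ⟨t, ht⟩ := C.E.exists_not_fixed
  have hm : C.EO r t ∈ C.M := h ▸ C.EO_mem r t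
  have h1 : C.EO r (C.E.σ t) = C.EO r t := by rw [← C.sG_EO]; exact hm.2
  obtain ⟨a, ha, hsum, -, -⟩ := C.exists_partner hr
  obtain ⟨r', -, hsum', hn, -⟩ := C.exists_partner ha
  obtain rfl : r' = r := Fin.ext (by omega)
  have hs : ∀ v, C.crd (C.EO r' v) a = (nRad C.g r' a : K) * v := fun v => by
    have := (C.crd_slot hr ha (by omega) v).1
    rwa [slot, if_neg hrf] at this
  have h2 := congrArg (fun x => C.crd x (a : ℕ)) h1
  simp only [hs] at h2
  refine ht (mul_left_cancel₀ ?_ h2)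
  rcases hn with e | e <;> simp [e]

/-! ### Conjugation by Levi root elements -/

lemma topW_fneg (C : TCtx D K) {b : ℕ} (hb : b < D.nroots) : topW D (fneg D b) = -topW D b := by
  rw [← neg_eq C.g.lie.pack hb]
  have := topW_lin C.g (C.g.neg_lt hb) hb hb (a := -1) (b := 0) fun j hj => by rw [C.g.co_neg hb hj]; ring
  simpa using this

/-- The coordinates after conjugation by a Levi root element. -/
theorem crd_levi {b : ℕ} (hb : b < D.nroots) (hbw : topW D b = 0) {x : GL D.Idx K} (hx : x ∈ topQ D K)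
    (u : K) :
    C.g.xG b u * x * (C.g.xG b u)⁻¹ ∈ topQ D K ∧ ∀ p ∈ radSet D,
      (fterms D b p = [] → C.crd (C.g.xG b u * x * (C.g.xG b u)⁻¹) p = C.crd x p) ∧
      ∀ (k : ℕ) (c : ℤ), fterms D b p = [(k, c, 1, 1)] → k ∈ radSet D →
        C.crd (C.g.xG b u * x * (C.g.xG b u)⁻¹) p = C.crd x p + -((c : K) * u) * C.crd x k := by
  have hP : C.g.xG b u ∈ topP C.g K :=
    ⟨C.xG_mem_geSub hb (by rw [lam_topC C.g, hbw]; simp) u, C.g.xG_mem_group hb u⟩
  have hQ := (Subgroup.mem_normalizer_iff.1 (topP_le_normalizer C.g C.hc C.T C.hse hP) x).1 hx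
  refine ⟨hQ, fun p hp => ?_⟩
  obtain ⟨B, hB⟩ : ∃ B, B = C.g.xG b u := ⟨_, rfl⟩
  rw [← hB] at hQ ⊢
  have hpb : p ≠ b := fun h => by have := hp.2.2; rw [h, hbw] at this; omega
  have hpnb : p ≠ fneg D b := fun h => by have := hp.2.2; rw [h, C.topW_fneg hb, hbw] at this; omega
  have hbt : top D ≠ b := fun h => by have := C.T.w_top; rw [h, hbw] at this; omega
  have hbnt : top D ≠ fneg D b := fun h => by
    have := C.T.w_top; rw [h, C.topW_fneg hb, hbw] at this; omega
  have hBt : ∀ t, B * C.g.xG (top D) t * B⁻¹ = C.g.xG (top D) t := fun t => by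
    rw [hB, (commute_of_nil C.g C.hc (top_lt C.g) hb hbt (by rwa [neg_eq C.g.lie.pack hb])
      (C.T.long_ge b hb rfl hbw.ge (Ne.symm hbt)).1 t u).eq, mul_inv_cancel_right]
  have hconj : ∀ t, B⁻¹ * C.g.xG p t * B = C.g.xG p t *
      ((fterms D b p).map fun c => C.g.xG c.1 ((c.2.1 : K) * (-u) ^ c.2.2.1 * t ^ c.2.2.2)).prod := fun t => by
    rw [hB, C.g.fterms_eq hb hp.1, ← C.g.xG_conj C.hc hp.1 hb hpb (by rwa [neg_eq C.g.lie.pack hb]),
      C.g.xG_inv, C.g.xG_inv, _root_.neg_neg]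
  refine ⟨fun h => ?_, fun k c h hk => ?_⟩
  · refine C.crd_eq hQ hp ?_
    have e := hconj 1
    rw [h, List.map_nil, List.prod_nil, mul_one] at e
    rw [show B * x * B⁻¹ * C.g.xG p 1 * (B * x * B⁻¹)⁻¹ = B * (x * (B⁻¹ * C.g.xG p 1 * B) * x⁻¹) * B⁻¹ by group,
      e, C.crd_spec hx hp, mul_one,
      show B * (C.g.xG p 1 * C.g.xG (top D) (C.crd x p)) * B⁻¹ =
        B * C.g.xG p 1 * B⁻¹ * (B * C.g.xG (top D) (C.crd x p) * B⁻¹) by group, hBt]
    rw [show B * C.g.xG p 1 * B⁻¹ = C.g.xG p 1 by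
      conv_lhs => rw [← e]
      group]
  · refine C.crd_eq hQ hp ?_
    have e := hconj 1
    rw [h, List.map_cons, List.map_nil, List.prod_cons, List.prod_nil, mul_one] at e
    simp only [pow_one, one_pow, mul_one] at e
    rw [show B * x * B⁻¹ * C.g.xG p 1 * (B * x * B⁻¹)⁻¹ = B * (x * (B⁻¹ * C.g.xG p 1 * B) * x⁻¹) * B⁻¹ by group,
      e, show x * (C.g.xG p 1 * C.g.xG k ((c : K) * -u)) * x⁻¹ =
        x * C.g.xG p 1 * x⁻¹ * (x * C.g.xG k ((c : K) * -u) * x⁻¹) by group,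
      C.crd_spec hx hp, C.crd_spec hx hk, mul_one]
    obtain ⟨s, hs⟩ : ∃ s, s = (c : K) * -u := ⟨_, rfl⟩
    rw [← hs] at e ⊢
    have hk' : Commute (C.g.xG (top D) (C.crd x p)) (C.g.xG k s) :=
      (pos_commute_top C.g C.hc C.T (C.g.xG_mem_posUnipotent ((C.g.isPosRoot_iff k).2 ⟨hk.2.1, hk.1⟩) s) _).symm
    rw [show C.g.xG p 1 * C.g.xG (top D) (C.crd x p) * (C.g.xG k s * C.g.xG (top D) (C.crd x k * s)) =
      C.g.xG p 1 * (C.g.xG (top D) (C.crd x p) * C.g.xG k s) * C.g.xG (top D) (C.crd x k * s) by group, hk'.eq,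
      ← mul_assoc (C.g.xG p 1), mul_assoc _ (C.g.xG (top D) (C.crd x p)), C.g.xG_add,
      show B * (C.g.xG p 1 * C.g.xG k s * C.g.xG (top D) (C.crd x p + C.crd x k * s)) * B⁻¹ =
        B * (C.g.xG p 1 * C.g.xG k s) * B⁻¹ * (B * C.g.xG (top D) (C.crd x p + C.crd x k * s) * B⁻¹) by group,
      hBt, show B * (C.g.xG p 1 * C.g.xG k s) * B⁻¹ = C.g.xG p 1 by rw [← e]; group,
      show C.crd x p + C.crd x k * s = C.crd x p + -((c : K) * u) * C.crd x k by rw [hs]; ring]

end CfsgLib.Chev.SubTw.TCtx
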