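import Cfsg.Agent.Lib.Chev.SubTwRad

/-!
An overgroup with rational radical part consists of rational elements.
-/

set_option autoImplicit false
set_option linter.unusedSectionVars false
set_option maxHeartbeats 800000

namespace CfsgLib.Chev.SubTw.TCtx

open Cfsg.Lie Matrix CfsgLib.Chev CfsgLib.Chev.SubMax

variable {D : ChevalleyDatum} {K : Type*} [Field K] [Fintype K] (C : TCtx D K)

lemma top_mem_H : C.g.xG (top D) (1 : K) ∈ C.H := C.M_le_H C.top_mem_M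

lemma isTop_top : C.IsTop (C.g.xG (top D) (1 : K)) :=
  ⟨1, one_mem _, 1, one_ne_zero, map_one _, by simp⟩

variable (hQ : C.RadRat)
include hQ

/-- An element of the overgroup commuting with a rational long root element is rational. -/
theorem mem_M_of_commute {w z : GL D.Idx K} (hw : w ∈ C.M) (hwc : C.IsTop w) (hz : z ∈ C.H)
    (hcomm : Commute z w) : z ∈ C.M := by
  obtain ⟨m, hm, s, hs, -, rfl⟩ := C.exists_conj_of_fixed hwc hw.2
  have hzg : m⁻¹ * z * m ∈ C.H := mul_mem (mul_mem (inv_mem (C.M_le_H hm)) hz) (C.M_le_H hm)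
  have h1 : m⁻¹ * z * m * C.g.xG (top D) s * (m⁻¹ * z * m)⁻¹ = C.g.xG (top D) s := by
    calc m⁻¹ * z * m * C.g.xG (top D) s * (m⁻¹ * z * m)⁻¹
        = m⁻¹ * (z * (m * C.g.xG (top D) s * m⁻¹)) * z⁻¹ * m := by group
      _ = _ := by rw [hcomm.eq]; group
  have h2 := C.mem_M_of_topP hQ hzg (mem_topP_of_conj C.g C.hc C.T (C.G1_le_group (C.hi hzg)) hs h1)
  rw [show z = m * (m⁻¹ * z * m) * m⁻¹ by group]
  exact mul_mem (mul_mem hm h2) (inv_mem hm)

/-- An element whose conjugate of the top element is rational is rational. -/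
theorem mem_M_of_conj_mem {h : GL D.Idx K} (hh : h ∈ C.H)
    (hy : h * C.g.xG (top D) 1 * h⁻¹ ∈ C.M) : h ∈ C.M := by
  obtain ⟨m, hm, s, hs, -, he⟩ :=
    C.exists_conj_of_fixed ⟨h, C.hi hh, 1, one_ne_zero, map_one _, rfl⟩ hy.2
  have h1 : m⁻¹ * h * C.g.xG (top D) 1 * (m⁻¹ * h)⁻¹ = C.g.xG (top D) s := by
    calc m⁻¹ * h * C.g.xG (top D) 1 * (m⁻¹ * h)⁻¹
        = m⁻¹ * (h * C.g.xG (top D) 1 * h⁻¹) * m := by group
      _ = _ := by rw [he]; group
  have hmh : m⁻¹ * h ∈ C.H := mul_mem (inv_mem (C.M_le_H hm)) hh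
  rw [show h = m * (m⁻¹ * h) by group]
  exact mul_mem hm (C.mem_M_of_topP hQ hmh
    (mem_topP_of_conj C.g C.hc C.T (C.G1_le_group (C.hi hmh)) one_ne_zero h1))

/-- A long root element of the overgroup in special position to a rational one is rational. -/
theorem mem_M_of_special {w y z : GL D.Idx K} (hw : w ∈ C.M) (hwc : C.IsTop w) (hy : y ∈ C.H)
    (hzc : C.IsTop z) (hz : z ∈ C.H) (hzw : Commute z w) (hyz : Commute y z) : y ∈ C.M :=
  C.mem_M_of_commute hQ (C.mem_M_of_commute hQ hw hwc hz hzw) hzc hy hyz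

/-- An irrational element moves the highest root element to an opposite one. -/
theorem exists_opposite {h : GL D.Idx K} (hh : h ∈ C.H) (hM : h ∉ C.M) :
    ∃ u c, u ∈ topQ D K ∧ u ∈ C.A.G1 ∧ c ≠ 0 ∧ C.E.σ c = c ∧
      u * C.g.xG (D.neg (top D)) c * u⁻¹ ∈ C.H ∧ u * C.g.xG (D.neg (top D)) c * u⁻¹ ∉ C.M := by
  obtain ⟨v, hv, _, ⟨h0, hh0, L, rfl⟩, u', hu', hxe⟩ := C.A.cells_all C.hc C.hsym (C.hi hh)
  obtain ⟨l, hl⟩ : ∃ l, l = C.A.orbWord L := ⟨_, rfl⟩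
  rw [← hl] at hxe
  obtain ⟨β, hβ⟩ : ∃ β, β = C.g.wperm l C.tp := ⟨_, rfl⟩
  have hwG : (C.g.wordN l : GL D.Idx K) ∈ C.A.G1 := hl ▸ (C.wordN_mem_M L).1
  have hβρ : C.A.T.ρ β = β := by
    have h1 := (C.A.T.mem_weylFix.1 ((C.A.sys C.hc).acts_weylFix (n := (C.g.wordN l : GL D.Idx K)) hwG
      (C.g.wordN_mem l) (C.g.acts_wordN l))).2
    rw [hβ, ← Equiv.Perm.mul_apply, h1, Equiv.Perm.mul_apply, C.ρ_top]
  obtain ⟨e, he, hee⟩ := C.exists_move l C.tp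
  obtain ⟨e', he'⟩ := C.g.acts_diagonal (C.A.H0_le_diag hh0) β
  simp only [Equiv.Perm.one_apply] at he'
  have hy1H : h * C.g.xG (top D) 1 * h⁻¹ ∈ C.H := mul_mem (mul_mem hh C.top_mem_H) (inv_mem hh)
  obtain ⟨w, hw⟩ : ∃ w : K, w = (e' : K) * (e * 1) := ⟨_, rfl⟩
  have hy1 : h * C.g.xG (top D) 1 * h⁻¹ = v * C.g.xG β w * v⁻¹ := by
    rw [hxe, show v * (h0 * C.g.wordN l) * u' * C.g.xG (top D) 1 * (v * (h0 * C.g.wordN l) * u')⁻¹ =
      v * (h0 * (C.g.wordN l * (u' * C.g.xG (top D) 1 * u'⁻¹) * (C.g.wordN l)⁻¹) * h0⁻¹) * v⁻¹ by group,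
      (pos_commute_top C.g C.hc C.T hu'.1 (1 : K)).eq, mul_inv_cancel_right,
      show C.g.wordN l * C.g.xG (top D) 1 * (C.g.wordN l)⁻¹ = C.g.xG β (e * 1) from hβ ▸ hee 1, he', hw]
  have hw0 : w ≠ 0 := by
    rw [hw]; rcases he with rfl | rfl <;> simp
  have hwσ : C.E.σ w = w := by
    refine C.rat_of_fixed hβρ ?_
    rw [show C.g.xG (β : ℕ) w = v⁻¹ * (h * C.g.xG (top D) 1 * h⁻¹) * v by rw [hy1]; group]
    exact mul_mem (mul_mem (inv_mem hv.2) (C.hi hy1H)) hv.2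
  have hvx := pos_commute_top C.g C.hc C.T hv.1 (1 : K)
  have hcomm_top : ∀ z, Commute z (C.g.xG (top D) (1 : K)) → Commute (v * z * v⁻¹) (C.g.xG (top D) (1 : K)) :=
    fun z hz => (hvx.mul_left hz).mul_left hvx.inv_left
  have hlong : longOf [] β = true := rfl
  by_cases hneg : topW D β < 0
  · rcases C.T.long_neg β β.2 hlong hneg with hbot | ⟨k, c, hk, -, hc1, hterm, hkt, hknt, hkT, hkr, hknr, hkR⟩
    · have hS : ∀ r : Fin D.nroots, C.g.lam (-topC D) r = -(topW D r : ℝ) := fun r => by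
        rw [C.g.lam_neg, lam_topC C.g]
      obtain ⟨a, b, hab, haG, -, ha, hb⟩ :=
        C.pos_split_G1 (-topC D) (fun r => by rw [hS, hS, C.topW_ρ]) hv.1 hv.2
      have haQ : a ∈ topQ D K := C.g.rootGen_mono (fun r hr hrn => by
        obtain ⟨h1, _, h2⟩ := hr
        rw [hS] at h2
        have : (0 : ℝ) < (topW D r : ℝ) := by simpa using h2
        exact ⟨hrn, h1, by exact_mod_cast this⟩) ha
      have hbc : Commute b (C.g.xG (D.neg (top D)) w) := by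
        have hle : rootGen D K (Set.Ici (half D) \ C.negW (-topC D)) ≤
            Subgroup.centralizer {C.g.xG (D.neg (top D)) w} := C.g.rootGen_le fun r hr hrn s => by
          rw [Subgroup.mem_centralizer_singleton_iff]
          have hw : topW D r = 0 := by
            have h1 := C.T.w_nonneg r hr.1 hrn
            by_contra hne
            refine hr.2 ⟨hrn, ?_⟩
            rw [hS, neg_lt_zero]
            exact_mod_cast lt_of_le_of_ne h1 (Ne.symm hne)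
          have hrp : half D ≤ r := hr.1
          have hne : D.neg (top D) ≠ r := by
            have := (C.g.neg_neg_iff (top_lt C.g)).2 (half_le_top C.g)
            omega
          exact (commute_of_nil C.g C.hc (C.g.neg_lt (top_lt C.g)) hrn hne (fun h => by
            have h1 := congrArg D.neg h
            rw [C.g.neg_neg (top_lt C.g), C.g.neg_neg hrn] at h1
            subst h1
            rw [C.T.w_top] at hw
            norm_num at hw) ((C.T.levi_bot r hrp hrn hw).1) w s).eq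
        exact Subgroup.mem_centralizer_singleton_iff.1 (hle hb)
      have he2 : h * C.g.xG (top D) 1 * h⁻¹ = a * C.g.xG (D.neg (top D)) w * a⁻¹ := by
        rw [hy1, hab, show C.g.xG (β : ℕ) w = C.g.xG (D.neg (top D)) w by rw [hbot],
          show a * b * C.g.xG (D.neg (top D)) w * (a * b)⁻¹ =
            a * (b * C.g.xG (D.neg (top D)) w * b⁻¹) * a⁻¹ by group, hbc.eq, mul_inv_cancel_right]
      exact ⟨a, w, haQ, haG, hw0, hwσ, he2 ▸ hy1H, fun hM' => hM (C.mem_M_of_conj_mem hQ hh (he2 ▸ hM'))⟩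
    · exfalso
      refine hM (C.mem_M_of_conj_mem hQ hh ?_)
      have hβt : top D ≠ β.val := fun h0 => by
        rw [← h0, C.T.w_top] at hneg; norm_num at hneg
      have hβnt : top D ≠ D.neg β.val := fun h0 => by
        have h1 := congrArg D.neg h0
        rw [C.g.neg_neg β.2] at h1
        have h2 : D.chainEntry β.val (top D) = [] := by
          rw [show top D = fneg D β.val by rw [← neg_eq C.g.lie.pack β.2, ← h1, C.g.neg_neg (top_lt C.g)]]
          exact C.g.chainEntry_neg β.2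
        have h3 : D.chainEntry (top D) β.val = [] := by
          rw [show β.val = fneg D (top D) by rw [← neg_eq C.g.lie.pack (top_lt C.g), h1]]
          exact C.g.chainEntry_neg (top_lt C.g)
        have hnil : D.commTerms β.val (top D) = [] := by
          simp [ChevalleyDatum.commTerms, ChevalleyDatum.chainRoot, h2, h3]
        rw [hterm] at hnil
        exact List.cons_ne_nil _ _ hnil
      have hkfix : C.A.T.ρ ⟨k, hk⟩ = ⟨k, hk⟩ := by
        have h1 := C.root_ok β.2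
        simp only [TwData.rootOK, Bool.and_eq_true, Bool.or_eq_true, Bool.not_eq_true', List.all_eq_true] at h1
        have h2 := h1.2
        rw [C.g.fterms_eq β.2 (top_lt C.g), hterm] at h2
        rcases h2 with h2 | h2
        · exfalso
          rw [C.ρ_fix.1 hβρ, decide_eq_true hneg] at h2
          simp only [Bool.true_and, Bool.not_eq_false', decide_eq_true_eq] at h2
          rw [← neg_eq C.g.lie.pack (top_lt C.g)] at h2
          exact hβnt (by rw [h2, C.g.neg_neg (top_lt C.g)])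
        · exact C.ρ_fix.2 (h2 _ List.mem_cons_self)
      have hcσ : C.E.σ ((c : K) * w) = (c : K) * w := by rw [map_mul, map_intCast, hwσ]
      obtain ⟨z, hz⟩ : ∃ z, z = v * C.g.xG k ((c : K) * w) * v⁻¹ := ⟨_, rfl⟩
      have hconj : C.g.xG β w * C.g.xG (top D) 1 * (C.g.xG β w)⁻¹ =
          C.g.xG (top D) 1 * C.g.xG k ((c : K) * w) := by
        rw [C.g.xG_conj C.hc (top_lt C.g) β.2 hβt hβnt, hterm]
        simp
      have hyx : v * C.g.xG β w * v⁻¹ * C.g.xG (top D) 1 * (v * C.g.xG β w * v⁻¹)⁻¹ =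
          C.g.xG (top D) 1 * z := by
        calc v * C.g.xG β w * v⁻¹ * C.g.xG (top D) 1 * (v * C.g.xG β w * v⁻¹)⁻¹
            = v * C.g.xG β w * (v⁻¹ * C.g.xG (top D) 1 * v) * (C.g.xG β w)⁻¹ * v⁻¹ := by group
          _ = v * (C.g.xG β w * C.g.xG (top D) 1 * (C.g.xG β w)⁻¹) * v⁻¹ := by
            rw [hvx.inv_left.eq]; group
          _ = _ := by rw [hconj, hz, ← mul_assoc v, hvx.eq]; group
      have hzH : z ∈ C.H := by
        rw [show z = (C.g.xG (top D) 1)⁻¹ * (C.g.xG (top D) 1 * z) by group, ← hyx, ← hy1]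
        exact mul_mem (inv_mem C.top_mem_H) (mul_mem (mul_mem hy1H C.top_mem_H) (inv_mem hy1H))
      have hcc : (c : K) ≠ 0 := by rcases hc1 with rfl | rfl <;> simp
      refine C.mem_M_of_special hQ C.top_mem_M C.isTop_top hy1H ?_ hzH ?_ ?_
      · rw [hz]
        exact C.isTop_conj hv.2 (C.isTop_fix hkfix (mul_ne_zero hcc hw0) hcσ)
      · rw [hz]
        refine hcomm_top _ (commute_of_nil C.g C.hc (top_lt C.g) hk (Ne.symm hkt) ?_ hkT _ _)
        intro h0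
        exact hknt (by rw [h0, C.g.neg_neg hk])
      · rw [hy1, hz]
        refine (Commute.conj_iff v).2 (commute_of_nil C.g C.hc β.2 hk (Ne.symm hkr) ?_ hkR _ _).symm
        intro h0
        exact hknr (by rw [h0, C.g.neg_neg hk])
  · exfalso
    refine hM (C.mem_M_of_conj_mem hQ hh
      (C.mem_M_of_commute hQ C.top_mem_M C.isTop_top hy1H ?_))
    rw [hy1]
    refine hcomm_top _ ?_
    by_cases hβt : β.val = top D
    · rw [hβt]; exact SubMax.xG_commute_self C.g _ _ _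
    · obtain ⟨h1, -⟩ := C.T.long_ge β β.2 hlong (not_lt.1 hneg) hβt
      refine commute_of_nil C.g C.hc (top_lt C.g) β.2 (Ne.symm hβt) (fun h0 => ?_) h1 _ _
      have h2 := congrArg D.neg h0
      rw [C.g.neg_neg β.2] at h2
      have := topW_lin C.g β.2 (top_lt C.g) (top_lt C.g) (a := -1) (b := 0) fun j hj => by
        rw [← h2, C.g.co_neg (top_lt C.g) hj]; ring
      rw [C.T.w_top] at this
      omega

/-- With rational radical part there is nothing outside the points over the subfield. -/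
theorem le_M : C.H ≤ C.M := by
  intro h hh
  by_contra hM
  obtain ⟨u0, c, hu0, hu01, hc0, hcσ, hyH, hyM⟩ := C.exists_opposite hQ hh hM
  have hok := C.hd
  simp only [TwData.ok, pencilOK, Bool.and_eq_true, decide_eq_true_eq, List.isEmpty_iff] at hok
  obtain ⟨⟨⟨⟨⟨⟨⟨-, hγ⟩, hα⟩, hγf⟩, hαf⟩, hδf⟩, hpen⟩, -⟩ := hok
  obtain ⟨⟨⟨⟨⟨⟨⟨⟨⟨⟨⟨⟨⟨⟨⟨⟨⟨k1, k2⟩, k3⟩, k4⟩, -⟩, k6⟩, k7⟩, k8⟩, k9⟩, k10⟩, k11⟩, k12⟩, k13⟩,
    k14⟩, k15⟩, k16⟩, k17⟩, k18⟩ := hpen
  have hγQ := (radB_iff C.g hγ).1 k1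
  have hαQ := (radB_iff C.g hα).1 k2
  have hT' := top_lt C.g
  have eB : fneg D (top D) = D.neg (top D) := (neg_eq C.g.lie.pack hT').symm
  have eδ : fneg D C.d.γ = D.neg C.d.γ := (neg_eq C.g.lie.pack hγ).symm
  rw [eB] at k10 k11 k12 k13 k15 k17
  rw [eδ] at k4 k6 k7 k8 k9 k10 k11 k14 k15 k16 k17 hδf
  obtain ⟨δ, hδ⟩ : ∃ δ, δ = D.neg C.d.γ := ⟨_, rfl⟩
  rw [← hδ] at k4 k6 k7 k8 k9 k10 k11 k14 k15 k16 k17 hδf
  have hδ' : δ < D.nroots := hδ ▸ C.g.neg_lt hγ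
  have hB' := C.g.neg_lt hT'
  have hct : ∀ {δ γ : ℕ} {L : List (ℕ × ℤ × ℕ × ℕ)}, δ < D.nroots → γ < D.nroots → γ ≠ δ →
      γ ≠ fneg D δ → fterms D δ γ = L → ∀ u t : K, C.g.xG δ u * C.g.xG γ t * (C.g.xG δ u)⁻¹ =
        C.g.xG γ t * (L.map fun c => C.g.xG c.1 ((c.2.1 : K) * u ^ c.2.2.1 * t ^ c.2.2.2)).prod := by
    intro δ γ L hδ hγ h1 h2 hL u t
    rw [C.g.xG_conj C.hc hγ hδ h1 (by rwa [neg_eq C.g.lie.pack hδ]), ← C.g.fterms_eq hδ hγ, hL]
  have hdT : ∀ e t : K, C.g.xG δ e * C.g.xG (top D) t * (C.g.xG δ e)⁻¹ =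
      C.g.xG (top D) t * C.g.xG C.d.α (e * t) := fun e t => by
    rw [hct hδ' hT' k6 k7 k14]
    simp
  have hdB : ∀ e t : K, Commute (C.g.xG δ e) (C.g.xG (D.neg (top D)) t) := fun e t => by
    have h1 := hct hδ' hB' k10 k11 k17 e t
    rw [List.map_nil, List.prod_nil, mul_one, mul_inv_eq_iff_eq_mul] at h1
    exact h1
  have hdα : ∀ e t : K, Commute (C.g.xG δ e) (C.g.xG C.d.α t) := fun e t => by
    have h1 := hct hδ' hα k8 k9 k16 e t
    rw [List.map_nil, List.prod_nil, mul_one, mul_inv_eq_iff_eq_mul] at h1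
    exact h1
  have hαB : ∀ b t : K, C.g.xG C.d.α b * C.g.xG (D.neg (top D)) t * (C.g.xG C.d.α b)⁻¹ =
      C.g.xG (D.neg (top D)) t * C.g.xG δ (b * t) := fun b t => by
    rw [hct hα hB' k12 k13 k15]
    simp
  have hγα : C.g.xG C.d.γ (1 : K) * C.g.xG C.d.α 1 * (C.g.xG C.d.γ 1)⁻¹ =
      C.g.xG C.d.α 1 * C.g.xG (top D) 1 := by
    rw [hct hγ hα (Ne.symm k3) (by rw [eδ, ← hδ]; exact k4) k18]
    simp
  have fγ : C.A.T.ρ ⟨C.d.γ, hγ⟩ = ⟨C.d.γ, hγ⟩ := C.ρ_fix.2 hγf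
  have fα : C.A.T.ρ ⟨C.d.α, hα⟩ = ⟨C.d.α, hα⟩ := C.ρ_fix.2 hαf
  have fδ : C.A.T.ρ ⟨δ, hδ'⟩ = ⟨δ, hδ'⟩ := C.ρ_fix.2 hδf
  -- make the coordinate at α non-zero
  obtain ⟨u, hu, hu1, hS0, hyH, hyM⟩ : ∃ u, u ∈ topQ D K ∧ u ∈ C.A.G1 ∧ C.crd u C.d.α ≠ 0 ∧
      u * C.g.xG (D.neg (top D)) c * u⁻¹ ∈ C.H ∧ u * C.g.xG (D.neg (top D)) c * u⁻¹ ∉ C.M := by
    by_cases h0 : C.crd u0 C.d.α = 0
    · obtain ⟨m, hm⟩ : ∃ m, m = C.g.xG C.d.γ (1 : K) := ⟨_, rfl⟩
      have hmM : m ∈ C.M := hm ▸ C.fix_mem_M fγ (map_one _)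
      have hmQ : m ∈ topQ D K := hm ▸ C.g.mem_rootGen hγ hγQ 1
      have e : m * u0 * C.g.xG (D.neg (top D)) c * (m * u0)⁻¹ =
          m * (u0 * C.g.xG (D.neg (top D)) c * u0⁻¹) * m⁻¹ := by group
      refine ⟨m * u0, mul_mem hmQ hu0, mul_mem hmM.1 hu01, ?_, ?_, fun h' => hyM ?_⟩
      · rw [C.crd_mul hmQ hu0 hαQ, h0, add_zero, C.crd_eq hmQ hαQ (hm ▸ hγα)]
        exact one_ne_zero
      · rw [e]
        exact mul_mem (mul_mem (C.M_le_H hmM) hyH) (inv_mem (C.M_le_H hmM))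
      · rw [e] at h'
        have := mul_mem (mul_mem (inv_mem hmM) h') hmM
        rwa [show m⁻¹ * (m * (u0 * C.g.xG (D.neg (top D)) c * u0⁻¹) * m⁻¹) * m =
          u0 * C.g.xG (D.neg (top D)) c * u0⁻¹ by group] at this
    · exact ⟨u0, hu0, hu01, h0, hyH, hyM⟩
  have hSσ : C.E.σ (C.crd u C.d.α) = C.crd u C.d.α := C.crd_fixed_rat hu hu1 (a := ⟨C.d.α, hα⟩) hαQ fα
  obtain ⟨ω, hω⟩ : ∃ ω, ω = (C.crd u C.d.α)⁻¹ := ⟨_, rfl⟩
  have hωσ : C.E.σ ω = ω := by rw [hω, map_inv₀, hSσ]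
  have hω0 : ω ≠ 0 := by rw [hω]; exact inv_ne_zero hS0
  obtain ⟨w, hw⟩ : ∃ w, w = C.g.xG δ ω * C.g.xG (top D) 1 * (C.g.xG δ ω)⁻¹ := ⟨_, rfl⟩
  have hδM := C.fix_mem_M (r := ⟨δ, hδ'⟩) fδ hωσ
  have hwM : w ∈ C.M := hw ▸ mul_mem (mul_mem hδM C.top_mem_M) (inv_mem hδM)
  have hwc : C.IsTop w := hw ▸ C.isTop_conj hδM.1 C.isTop_top
  have hw' : w = u * C.g.xG C.d.α ω * u⁻¹ := by
    rw [hw, hdT, C.crd_spec hu hαQ, hω, mul_inv_cancel₀ hS0, mul_one]
    exact (pos_commute_top C.g C.hc C.T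
      (C.g.xG_mem_posUnipotent ((C.g.isPosRoot_iff C.d.α).2 ⟨hαQ.2.1, hα⟩) _) 1).eq.symm
  obtain ⟨z, hz⟩ : ∃ z, z = u * C.g.xG δ (ω * c) * u⁻¹ := ⟨_, rfl⟩
  have hzH : z ∈ C.H := by
    have h1 := mul_mem (inv_mem hyH) (mul_mem (mul_mem (C.M_le_H hwM) hyH) (inv_mem (C.M_le_H hwM)))
    rw [hw', show (u * C.g.xG (D.neg (top D)) c * u⁻¹)⁻¹ * (u * C.g.xG C.d.α ω * u⁻¹ *
      (u * C.g.xG (D.neg (top D)) c * u⁻¹) * (u * C.g.xG C.d.α ω * u⁻¹)⁻¹) =
      u * ((C.g.xG (D.neg (top D)) c)⁻¹ *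
        (C.g.xG C.d.α ω * C.g.xG (D.neg (top D)) c * (C.g.xG C.d.α ω)⁻¹)) * u⁻¹
      by group, hαB, inv_mul_cancel_left] at h1
    exact hz ▸ h1
  have hzc : C.IsTop z := hz ▸ C.isTop_conj hu1
    (C.isTop_fix (r := ⟨δ, hδ'⟩) fδ (mul_ne_zero hω0 hc0) (by rw [map_mul, hωσ, hcσ]))
  refine hyM (C.mem_M_of_special hQ hwM hwc hyH hzc hzH ?_ ?_)
  · rw [hz, hw']
    exact (Commute.conj_iff u).2 (hdα _ _)
  · rw [hz]
    exact (Commute.conj_iff u).2 (hdB _ _).symm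

end CfsgLib.Chev.SubTw.TCtx
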