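import Cfsg.Agent.Lib.Chev.SubTwCrd
import Cfsg.Agent.Lib.Chev.Simple

/-!
Rational cosets in the twisted group, and the stabiliser of the highest root group in an overgroup whose
radical part is rational.
-/

set_option autoImplicit false
set_option linter.unusedSectionVars false
set_option maxHeartbeats 800000

namespace CfsgLib.Chev.SubTw

open Cfsg.Lie Matrix CfsgLib.Chev CfsgLib.Chev.SubMax

/-- The sum of the coweights of a list of roots. -/
noncomputable def cL (D : ChevalleyDatum) (L : List ℕ) (q : Fin D.rank) : ℝ :=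
  (L.map fun a => (pair D a (D.simple q) : ℝ)).sum

namespace TCtx

variable {D : ChevalleyDatum} {K : Type*} [Field K] [Fintype K] (C : TCtx D K)

lemma cL_cons (a : ℕ) (L : List ℕ) :
    cL D (a :: L) = (fun q : Fin D.rank => (pair D a (D.simple q) : ℝ)) + cL D L := by
  funext q
  simp [cL]

lemma lam_pair (a : ℕ) (u : Fin D.nroots) :
    C.g.lam (fun q => (pair D a (D.simple q) : ℝ)) u = (pair D a u : ℝ) := by
  have hsum : ∀ i ∈ Finset.range D.rank, (D.coroot.getD a #[]).getD i 0 * D.cartan i u =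
      ∑ j ∈ Finset.range D.rank, C.g.co u j * ((D.coroot.getD a #[]).getD i 0 * D.cartan i (D.simple j)) :=
    fun i hi => by
      rw [C.g.cartan_eq_sum u.2 (Finset.mem_range.1 hi), Finset.mul_sum]
      exact Finset.sum_congr rfl fun j _ => by ring
  conv_rhs => rw [pair, Finset.sum_congr rfl hsum, Finset.sum_comm, ← Fin.sum_univ_eq_sum_range
    (fun j => ∑ i ∈ Finset.range D.rank, C.g.co u j * ((D.coroot.getD a #[]).getD i 0 * D.cartan i (D.simple j)))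
    D.rank, Int.cast_sum]
  rw [Good.lam]
  refine Finset.sum_congr rfl fun q _ => ?_
  simp only [← Finset.mul_sum, pair]
  push_cast
  ring

lemma lam_cL (L : List ℕ) (u : Fin D.nroots) : C.g.lam (cL D L) u = (TwData.pairSum D L u : ℝ) := by
  induction L with
  | nil => simp [cL, Good.lam, TwData.pairSum]
  | cons a L ih =>
    rw [cL_cons, C.g.lam_add, C.lam_pair, ih, TwData.pairSum, TwData.pairSum, List.map_cons, List.sum_cons,
      C.g.fpair_eq _ u.2]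
    push_cast
    rfl

lemma mem_geSub_add {c e : Fin D.rank → ℝ} {x : GL D.Idx K} (h1 : x ∈ C.g.geSub c) (h2 : x ∈ C.g.geSub e) :
    x ∈ C.g.geSub (c + e) := by
  intro a b hne
  rw [C.g.wgt_add, C.g.wgt_add]
  linarith [h1 a b hne, h2 a b hne]

/-- An element commuting with a fixed root element has non-negative weight for its coroot. -/
lemma geSub_of_commute {x : GL D.Idx K} (hx : x ∈ D.group K) {a : Fin D.nroots} (ha : C.A.T.ρ a = a)
    (h : x * C.g.xG a 1 * x⁻¹ = C.g.xG a 1) :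
    x ∈ C.g.geSub (fun q => (pair D a (D.simple q) : ℝ)) := by
  obtain ⟨L, k, -, hL, -⟩ := C.exists_rep a
  obtain ⟨l, hl⟩ : ∃ l, l = C.A.orbWord L := ⟨_, rfl⟩
  obtain ⟨e, he, hee⟩ := C.exists_move l C.tp
  have hla : C.g.wperm l C.tp = a := hl ▸ hL ha
  rw [hla] at hee
  obtain ⟨n, hn⟩ : ∃ n, n = (C.g.wordN l : GL D.Idx K) := ⟨_, rfl⟩
  have he0 : e ≠ 0 := by rcases he with rfl | rfl <;> simp
  have h1 : n * C.g.xG (top D) e⁻¹ * n⁻¹ = C.g.xG a 1 := by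
    rw [hn, show C.g.wordN l * C.g.xG (top D) e⁻¹ * (C.g.wordN l)⁻¹ = C.g.xG a (e * e⁻¹) from hee _,
      mul_inv_cancel₀ he0]
  have hng : n ∈ D.group K := hn ▸ C.g.monomial_le_group (C.g.wordN_mem l)
  have h2 : n⁻¹ * x * n ∈ topP C.g K := by
    refine mem_topP_of_conj C.g C.hc C.T (mul_mem (mul_mem (inv_mem hng) hx) hng) (inv_ne_zero he0) (s := e⁻¹) ?_
    calc n⁻¹ * x * n * C.g.xG (top D) e⁻¹ * (n⁻¹ * x * n)⁻¹
        = n⁻¹ * (x * (n * C.g.xG (top D) e⁻¹ * n⁻¹) * x⁻¹) * n := by group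
      _ = n⁻¹ * (n * C.g.xG (top D) e⁻¹ * n⁻¹) * n := by rw [h1, h]
      _ = _ := by group
  have h3 : Gap (C.g.wgt (topC D)) 0 ((n⁻¹ * x * n : GL D.Idx K) : Matrix D.Idx D.Idx K) := fun p b hne => by
    by_cases hpb : p = b
    · rw [hpb, sub_self]
    · rw [Matrix.sub_apply, Matrix.one_apply_ne hpb, sub_zero] at hne
      exact (Subgroup.mem_inf.1 h2).1 p b hne
  obtain ⟨hs1, hs2⟩ := C.g.shape_wordN (F := K) l
  have hd : ∀ u, C.g.lam (fun q => (pair D a (D.simple q) : ℝ)) u =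
      C.g.lam (topC D) ((C.g.wperm l)⁻¹ u) := fun u => by
    rw [C.lam_pair, lam_topC C.g, topW_eq_pair C.g (Fin.isLt _)]
    have := C.g.pair_wperm l C.tp ((C.g.wperm l)⁻¹ u)
    rw [hla, show C.g.wperm l ((C.g.wperm l)⁻¹ u) = u from (C.g.wperm l).apply_symm_apply u] at this
    exact_mod_cast this
  have h4 := C.g.gap_shape (n := n⁻¹) (π := (C.g.wperm l)⁻¹) (hn ▸ hs2)
    (by rw [inv_inv, inv_inv, hn]; exact hs1) hd h3
  rw [show n⁻¹⁻¹ * (n⁻¹ * x * n) * n⁻¹ = x by group] at h4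
  intro p b hne
  by_cases hpb : p = b
  · rw [hpb, sub_self]
  · exact h4 p b (by rw [Matrix.sub_apply, Matrix.one_apply_ne hpb, sub_zero]; exact hne)

/-- A fixed coset of the stabiliser of the highest root group has a representative over the subfield. -/
theorem coset_rational {x : GL D.Idx K} (hx : x ∈ C.A.G1) (hfix : x⁻¹ * C.sG x ∈ C.g.geSub (topC D)) :
    ∃ m ∈ C.M, m⁻¹ * x ∈ topP C.g K := by
  obtain ⟨u, hu, _, ⟨h0, hh0, L, rfl⟩, u', hu', rfl⟩ := C.A.cells_all C.hc C.hsym hx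
  obtain ⟨l, hl⟩ : ∃ l, l = C.A.orbWord L := ⟨_, rfl⟩
  obtain ⟨w, hw⟩ : ∃ w, w = (C.g.wordN l : GL D.Idx K) := ⟨_, rfl⟩
  have hwM : w ∈ C.M := by rw [hw, hl]; exact C.wordN_mem_M L
  obtain ⟨π, hπ⟩ : ∃ π : Equiv.Perm (Fin D.nroots), π = (C.g.wperm l)⁻¹ := ⟨_, rfl⟩
  have hwm : w ∈ D.monomialSubgroup K := hw ▸ C.g.wordN_mem l
  have hwa : C.g.Acts w⁻¹ π := by rw [hw, hπ]; exact C.g.acts_inv (C.g.acts_wordN l)
  have hcomm := (C.A.T.mem_weylFix.1 ((C.A.sys C.hc).acts_weylFix (n := w) hwM.1 hwm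
    (hw ▸ C.g.acts_wordN l : C.g.Acts w (C.g.wperm l)))).2
  have hπρ : ∀ r, π (C.A.T.ρ r) = C.A.T.ρ (π r) := fun r => by
    have h := congrArg (fun p : Equiv.Perm (Fin D.nroots) => p (π r)) hcomm
    simp only [Equiv.Perm.mul_apply, hπ] at h ⊢
    rw [show C.g.wperm l ((C.g.wperm l)⁻¹ r) = r from (C.g.wperm l).apply_symm_apply r] at h
    rw [h]
    exact (C.g.wperm l).symm_apply_apply _
  have htw : ∀ r, C.g.lam (C.g.twist l.reverse (topC D)) r = (topW D (π r) : ℝ) := fun r => by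
    rw [C.g.lam_twist, lam_topC C.g, C.g.wperm_reverse, hπ]
  obtain ⟨a, a', hua, haG, -, ha, ha'⟩ := C.pos_split_G1 (C.g.twist l.reverse (topC D))
    (fun r => by rw [htw, htw, hπρ, C.topW_ρ]) hu.1 hu.2
  obtain ⟨P, hP⟩ : ∃ P, P = topP C.g K := ⟨_, rfl⟩
  have hposP := pos_le_topP (F := K) C.g C.hc C.T
  have hneg : ∀ z ∈ rootGen D K (Set.Ici (half D) ∩ C.negW (C.g.twist l.reverse (topC D))),
      w⁻¹ * z * w ∈ C.g.posSub (-topC D) := by
    intro z hz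
    refine (show rootGen D K (Set.Ici (half D) ∩ C.negW (C.g.twist l.reverse (topC D))) ≤
      (C.g.posSub (-topC D)).comap (MulAut.conj w⁻¹).toMonoidHom from C.g.rootGen_le fun r hr hrn t => ?_) hz |>
        fun h => by simpa using h
    obtain ⟨_, hlt⟩ := hr.2
    obtain ⟨e, he⟩ := hwa ⟨r, hrn⟩
    rw [Subgroup.mem_comap]
    show w⁻¹ * C.g.xG r t * (w⁻¹)⁻¹ ∈ _
    rw [show w⁻¹ * C.g.xG r t * (w⁻¹)⁻¹ = C.g.xG (π ⟨r, hrn⟩) ((e : K) * t) from he t]
    refine C.xG_mem_posSub (π ⟨r, hrn⟩).2 ?_ _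
    rw [htw] at hlt
    rw [C.g.lam_neg, lam_topC C.g]
    linarith
  have hnn : w⁻¹ * a' * w ∈ P := by
    refine (show rootGen D K (Set.Ici (half D) \ C.negW (C.g.twist l.reverse (topC D))) ≤
      P.comap (MulAut.conj w⁻¹).toMonoidHom from C.g.rootGen_le fun r hr hrn t => ?_) ha' |> fun h => by
        simpa using h
    obtain ⟨e, he⟩ := hwa ⟨r, hrn⟩
    rw [Subgroup.mem_comap]
    show w⁻¹ * C.g.xG r t * (w⁻¹)⁻¹ ∈ _
    rw [show w⁻¹ * C.g.xG r t * (w⁻¹)⁻¹ = C.g.xG (π ⟨r, hrn⟩) ((e : K) * t) from he t, hP]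
    refine Subgroup.mem_inf.2 ⟨C.xG_mem_geSub (π ⟨r, hrn⟩).2 ?_ _, C.g.xG_mem_group (π ⟨r, hrn⟩).2 _⟩
    have h1 : r ∉ C.negW (C.g.twist l.reverse (topC D)) := hr.2
    rw [lam_topC C.g, ← htw]
    exact not_lt.1 fun h => h1 ⟨hrn, h⟩
  obtain ⟨p, hp⟩ : ∃ p, p = w⁻¹ * a' * w * (w⁻¹ * h0 * w) * u' := ⟨_, rfl⟩
  have hpP : p ∈ P := by
    rw [hp]
    refine mul_mem (mul_mem hnn ?_) (hP ▸ hposP hu'.1)
    have h1 := C.g.diag_conj (inv_mem hwm) (C.A.H0_le_diag hh0)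
    rw [inv_inv] at h1
    exact hP ▸ borel_le_topP C.g C.hc C.T (Subgroup.mem_sup_right h1)
  have hxe : u * (h0 * C.g.wordN (C.A.orbWord L)) * u' = a * w * p := by rw [hp, hua, hw, hl]; group
  rw [hxe] at hfix ⊢
  have hpg : p ∈ C.g.geSub (topC D) := (Subgroup.mem_inf.1 (hP ▸ hpP)).1
  have hsp : C.sG p ∈ C.g.geSub (topC D) := by
    intro i j hne
    refine hpg i j fun h0' => hne ?_
    show ((p : Matrix D.Idx D.Idx K).map C.E.σ) i j = 0
    rw [Matrix.map_apply, h0', map_zero]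
  have hfixw : C.sG w = w := hwM.2
  rw [map_mul, map_mul, hfixw] at hfix
  have h2 : w⁻¹ * (a⁻¹ * C.sG a) * w ∈ C.g.geSub (topC D) := by
    have := mul_mem (mul_mem hpg hfix) (inv_mem hsp)
    rw [show p * ((a * w * p)⁻¹ * (C.sG a * w * C.sG p)) * (C.sG p)⁻¹ =
      w⁻¹ * (a⁻¹ * C.sG a) * w by group] at this
    exact this
  have h3 := hneg _ (mul_mem (inv_mem ha) (C.g.scalarGL_rootGen C.E.σ _ (Subgroup.mem_map_of_mem _ ha)))
  have h4 : w⁻¹ * (a⁻¹ * C.sG a) * w = 1 := C.g.eq_one_of_pos_neg h3 (by rw [neg_neg]; exact h2)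
  have h5 : C.sG a = a := by
    have : a⁻¹ * C.sG a = 1 := by
      calc a⁻¹ * C.sG a = w * (w⁻¹ * (a⁻¹ * C.sG a) * w) * w⁻¹ := by group
        _ = 1 := by rw [h4]; group
    exact (inv_mul_eq_one.1 this).symm
  refine ⟨a * w, mul_mem ⟨haG, h5⟩ hwM, ?_⟩
  rw [show (a * w)⁻¹ * (a * w * p) = p by group]
  exact hP ▸ hpP

/-- Rational conjugates of the highest root group are conjugate over the subfield. -/
theorem exists_conj_of_fixed {z : GL D.Idx K} (hz : C.IsTop z) (hfix : C.sG z = z) :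
    ∃ m ∈ C.M, ∃ s : K, s ≠ 0 ∧ C.E.σ s = s ∧ z = m * C.g.xG (top D) s * m⁻¹ := by
  obtain ⟨h, hh, s, hs, hsσ, rfl⟩ := hz
  rw [map_mul, map_mul, map_inv, C.sG_xG (top_lt C.g), hsσ] at hfix
  have hhg := C.G1_le_group hh
  have h1 : h⁻¹ * C.sG h * C.g.xG (top D) s * (h⁻¹ * C.sG h)⁻¹ = C.g.xG (top D) s := by
    rw [show h⁻¹ * C.sG h * C.g.xG (top D) s * (h⁻¹ * C.sG h)⁻¹ =
      h⁻¹ * (C.sG h * C.g.xG (top D) s * (C.sG h)⁻¹) * h by group, hfix]
    group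
  have h2 := mem_topP_of_conj C.g C.hc C.T (mul_mem (inv_mem hhg) (C.G1_le_group (C.sG_G1 hh))) hs h1
  obtain ⟨m, hm, hp⟩ := C.coset_rational hh (Subgroup.mem_inf.1 h2).1
  obtain ⟨e, he⟩ := exists_scalar C.g C.hc C.T hp
  have h3 : h * C.g.xG (top D) s * h⁻¹ = m * C.g.xG (top D) ((e : K) * s) * m⁻¹ := by
    rw [← he s]; group
  refine ⟨m, hm, (e : K) * s, mul_ne_zero e.ne_zero hs, ?_, h3⟩
  refine C.rat_of_fixed C.ρ_top ?_
  show C.g.xG (top D) ((e : K) * s) ∈ C.A.G1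
  rw [← he s]
  have hp1 : m⁻¹ * h ∈ C.A.G1 := mul_mem (inv_mem hm.1) hh
  exact mul_mem (mul_mem hp1 (C.fix_mem_G1 C.ρ_top hsσ)) (inv_mem hp1)

/-- The Levi decomposition in the twisted group. -/
theorem levi_decomp {h : GL D.Idx K} (hh : h ∈ C.A.G1) (hP : h ∈ topP C.g K) :
    ∃ q l, q ∈ topQ D K ∧ q ∈ C.A.G1 ∧ l ∈ C.A.G1 ∧ l ∈ C.g.geSub (-topC D) ∧ l ∈ topP C.g K ∧ h = q * l := by
  obtain ⟨u, hu, _, ⟨h0, hh0, L, rfl⟩, u', hu', rfl⟩ := C.A.cells_all C.hc C.hsym hh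
  obtain ⟨l, hl⟩ : ∃ l, l = C.A.orbWord L := ⟨_, rfl⟩
  rw [← hl] at hP ⊢
  have hd0 := C.A.H0_le_diag hh0
  have hposP := pos_le_topP (F := K) C.g C.hc C.T
  have hnP : h0 * C.g.wordN l ∈ topP C.g K := by
    rw [show h0 * C.g.wordN l = u⁻¹ * (u * (h0 * C.g.wordN l) * u') * u'⁻¹ by group]
    exact mul_mem (mul_mem (inv_mem (hposP hu.1)) hP) (inv_mem (hposP hu'.1))
  have hnG : h0 * C.g.wordN l ∈ C.A.G1 :=
    mul_mem (C.A.H0_le_G1 C.hc hh0) (hl ▸ (C.wordN_mem_M L).1)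
  have hwP : (C.g.wordN l : GL D.Idx K) ∈ topP C.g K := by
    rw [show (C.g.wordN l : GL D.Idx K) = h0⁻¹ * (h0 * C.g.wordN l) by group]
    exact mul_mem (inv_mem (borel_le_topP C.g C.hc C.T (Subgroup.mem_sup_right hd0))) hnP
  have hπtop : C.g.wperm l C.tp = C.tp := by
    obtain ⟨s, hs⟩ := exists_scalar C.g C.hc C.T hwP
    obtain ⟨e, he⟩ := C.g.acts_wordN (F := K) l C.tp
    exact root_eq_of_xG_eq C.g (mul_ne_zero e.ne_zero one_ne_zero) ((he 1).symm.trans (hs 1))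
  have hlam : ∀ r, C.g.lam (-topC D) (C.g.wperm l r) = C.g.lam (-topC D) r := fun r => by
    rw [C.g.lam_neg, C.g.lam_neg, lam_topC C.g, lam_topC C.g, topW_eq_pair C.g (C.g.wperm l r).2,
      topW_eq_pair C.g r.2]
    have := C.g.pair_wperm l C.tp r
    rw [hπtop] at this
    rw [this]
  have hn0 : h0 * C.g.wordN l ∈ C.g.geSub (-topC D) :=
    mul_mem (C.g.diagonal_le_geSub _ hd0) (C.g.shape_geSub (C.g.shape_wordN (F := K) l).1 hlam)
  have hS : ∀ r : Fin D.nroots, C.g.lam (-topC D) r = -(topW D r : ℝ) := fun r => by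
    rw [C.g.lam_neg, lam_topC C.g]
  have hsymm : ∀ r : Fin D.nroots, C.g.lam (-topC D) (C.A.T.ρ r) < 0 ↔ C.g.lam (-topC D) r < 0 := fun r => by
    rw [hS, hS, C.topW_ρ]
  have hQle : rootGen D K (Set.Ici (half D) ∩ C.negW (-topC D)) ≤ topQ D K := C.g.rootGen_mono fun r hr hrn => by
    obtain ⟨h1, _, h2⟩ := hr
    rw [hS] at h2
    have : (0 : ℝ) < (topW D r : ℝ) := by simpa using h2
    exact ⟨hrn, h1, by exact_mod_cast this⟩
  have hLle : rootGen D K (Set.Ici (half D) \ C.negW (-topC D)) ≤ C.g.geSub (-topC D) :=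
    C.rootGen_le_geSub fun r hr => not_lt.1 fun h => hr.2 ⟨r.2, h⟩
  obtain ⟨a, b, hab, haG, hbG, ha, hb⟩ := C.pos_split_G1 (-topC D) hsymm hu.1 hu.2
  obtain ⟨a', b', hab', haG', hbG', ha', hb'⟩ := C.pos_split_G1 (-topC D) hsymm hu'.1 hu'.2
  have hbP : b ∈ topP C.g K := by
    refine hposP ?_
    rw [C.g.posUnipotent_eq]; exact C.g.rootGen_mono (fun r hr _ => hr.1) hb
  have hbP' : b' ∈ topP C.g K := by
    refine hposP ?_
    rw [C.g.posUnipotent_eq]; exact C.g.rootGen_mono (fun r hr _ => hr.1) hb'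
  obtain ⟨n, hn⟩ : ∃ n, n = h0 * C.g.wordN l := ⟨_, rfl⟩
  rw [← hn] at hnP hnG hn0 hP ⊢
  refine ⟨a * (b * n * a' * (b * n)⁻¹), b * n * b', mul_mem (hQle ha) ?_, ?_, mul_mem (mul_mem hbG hnG) hbG',
    mul_mem (mul_mem (hLle hb) hn0) (hLle hb'), mul_mem (mul_mem hbP hnP) hbP', by rw [hab, hab']; group⟩
  · exact (Subgroup.mem_normalizer_iff.1 (topP_le_normalizer C.g C.hc C.T C.hse (mul_mem hbP hnP)) _).1 (hQle ha')
  · exact mul_mem haG (mul_mem (mul_mem (mul_mem hbG hnG) haG') (inv_mem (mul_mem hbG hnG)))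

/-- The radical part of the overgroup is rational. -/
def RadRat : Prop := ∀ x ∈ C.H, x ∈ topQ D K → x ∈ C.M

/-- An element of the twisted stabiliser centralising the rational radical lies in the radical. -/
theorem mem_topQ_of_commute {d : GL D.Idx K} (hd : d ∈ C.A.G1)
    (hc : ∀ z ∈ C.M, z ∈ topQ D K → d * z * d⁻¹ = z) : d ∈ topQ D K := by
  have hok := C.hd
  simp only [TwData.ok, Bool.and_eq_true, decide_eq_true_eq, List.all_eq_true] at hok
  obtain ⟨⟨⟨⟨⟨⟨⟨⟨⟨⟨⟨⟨⟨⟨⟨⟨⟨-, -⟩, hposL⟩, hnegL⟩, hposS⟩, hnegS⟩, -⟩, -⟩, -⟩, -⟩, -⟩, -⟩, -⟩, -⟩, -⟩, -⟩, -⟩, -⟩ := hok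
  have hdg := C.G1_le_group hd
  have hge : ∀ (L : List ℕ), (∀ a ∈ L, (a < D.nroots ∧ radB D a = true) ∧ C.d.fix a = true) →
      d ∈ C.g.geSub (cL D L) := by
    intro L hL
    induction L with
    | nil =>
      intro p b _
      have : cL D [] = (0 : ℝ) • cL D [] := by funext q; simp [cL]
      rw [this, C.g.wgt_smul, C.g.wgt_smul, zero_mul, zero_mul, sub_self]
    | cons a L ih =>
      obtain ⟨⟨ha, har⟩, haf⟩ := hL a List.mem_cons_self
      rw [cL_cons]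
      refine C.mem_geSub_add ?_ (ih fun b hb => hL b (List.mem_cons_of_mem _ hb))
      have hfix : C.A.T.ρ ⟨a, ha⟩ = ⟨a, ha⟩ := C.ρ_fix.2 haf
      exact C.geSub_of_commute (a := ⟨a, ha⟩) hdg hfix (hc _ (C.fix_mem_M hfix (map_one _))
        (C.g.mem_rootGen ha ((radB_iff C.g ha).1 har) 1))
  have hsimp : ∀ q : Fin D.rank, 0 < cL D C.d.posL q := by
    intro q
    have h := allR_upto hposS q.2
    rw [decide_eq_true_eq, ← (C.hl.simple_facts q.2).1] at h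
    rw [← C.g.lam_sroot (cL D C.d.posL) q, C.lam_cL]
    exact_mod_cast h
  have hdB : d ∈ D.borelSubgroup K := by
    have h1 : d ∈ C.g.geSub (cL D C.d.posL) ⊓ D.group K := ⟨hge _ fun a ha => hposL a ha, hdg⟩
    rw [C.g.geSub_inf_group C.hc fun q => (hsimp q).le] at h1
    refine (sup_le le_rfl ((Subgroup.closure_le _).2 ?_) : D.parabolicSubgroup K _ ≤ D.borelSubgroup K) h1
    rintro x ⟨j, hj, hjr, -⟩
    exact absurd (hj hjr) (hsimp ⟨j, hjr⟩).ne'
  obtain ⟨y, hy, t, ht, rfl⟩ := (C.A.sys C.hc).borel_inf_decomp C.hc (Subgroup.mem_inf.2 ⟨hdB, hd⟩)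
  obtain ⟨hy0, hy1⟩ := hy
  replace hy1 : y ∈ C.A.G1 := hy1
  obtain ⟨ht0, ht1⟩ := ht
  replace ht1 : t ∈ C.A.G1 := ht1
  have hsgn : ∀ r : Fin D.nroots, half D ≤ r.val →
      (topW D r = 0 → C.g.lam (cL D C.d.negL) r < 0) ∧ (topW D r ≠ 0 → 0 ≤ C.g.lam (cL D C.d.negL) r) := by
    intro r hr
    have h := allR_upto hnegS r.2
    simp only [Bool.or_eq_true, Bool.not_eq_true', decide_eq_false_iff_not] at h
    rw [C.lam_cL]
    rcases h with h | h
    · exact absurd hr h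
    · refine ⟨fun h0 => ?_, fun h0 => ?_⟩
      · rw [decide_eq_true (p := topW D r = 0) h0, cond_true, decide_eq_true_eq] at h
        exact_mod_cast h
      · rw [decide_eq_false (p := topW D r = 0) h0, cond_false, decide_eq_true_eq] at h
        exact_mod_cast h
  have hS : ∀ r : Fin D.nroots, C.g.lam (-topC D) r = -(topW D r : ℝ) := fun r => by
    rw [C.g.lam_neg, lam_topC C.g]
  -- the unipotent part lies in the radical
  have hyQ : y ∈ topQ D K := by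
    have hyc : y ∈ C.g.geSub (cL D C.d.negL) := by
      rw [show y = y * t * t⁻¹ by group]
      exact mul_mem (hge _ fun a ha => hnegL a ha) (inv_mem (C.g.diagonal_le_geSub _ ht0))
    obtain ⟨a, b, hab, -, -, ha, hb⟩ := C.pos_split_G1 (-topC D) (fun r => by rw [hS, hS, C.topW_ρ]) hy0 hy1
    have haQ : a ∈ topQ D K := C.g.rootGen_mono (fun r hr hrn => by
      obtain ⟨h1, _, h2⟩ := hr
      rw [hS] at h2
      have : (0 : ℝ) < (topW D r : ℝ) := by simpa using h2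
      exact ⟨hrn, h1, by exact_mod_cast this⟩) ha
    have hac : a ∈ C.g.geSub (cL D C.d.negL) := C.rootGen_le_geSub (fun r hr =>
      (hsgn r hr.2.1).2 hr.2.2.ne') haQ
    have hb1 : b = 1 := by
      refine C.g.eq_one_of_pos_neg (c := -cL D C.d.negL) (C.rootGen_le_posSub (fun r hr => ?_) hb) ?_
      · rw [C.g.lam_neg, neg_pos]
        refine (hsgn r hr.1).1 ?_
        have h1 := C.T.w_nonneg r hr.1 r.2
        by_contra h2
        refine hr.2 ⟨r.2, ?_⟩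
        rw [hS, neg_lt_zero]
        exact_mod_cast lt_of_le_of_ne h1 (Ne.symm h2)
      · rw [neg_neg, show b = a⁻¹ * y by rw [hab]; group]
        exact mul_mem (inv_mem hac) hyc
    rw [hab, hb1, mul_one]
    exact haQ
  -- the torus part is trivial
  suffices h1 : t = 1 by rw [h1, mul_one]; exact hyQ
  refine torus_eq_one_of_fix C.g C.T ht0 fun a ha => ?_
  have hconj : ∀ z ∈ C.M, z ∈ topQ D K → t * z * t⁻¹ = y⁻¹ * z * y := fun z hz hzQ => by
    conv_rhs => rw [← hc z hz hzQ]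
    group
  obtain ⟨χ, hχ⟩ := C.g.acts_diagonal ht0 ⟨a, ha.1⟩
  simp only [Equiv.Perm.one_apply] at hχ
  suffices h2 : (χ : K) = 1 by rw [show t * C.g.xG a 1 * t⁻¹ = C.g.xG a ((χ : K) * 1) from hχ 1, h2, mul_one]
  by_cases hat : a = top D
  · subst hat
    have h2 := hconj _ C.top_mem_M (xG_top_mem_topQ C.g C.hc C.T 1)
    rw [show t * C.g.xG (top D) 1 * t⁻¹ = C.g.xG (top D) ((χ : K) * 1) from hχ 1,
      show y⁻¹ * C.g.xG (top D) 1 * y = C.g.xG (top D) 1 by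
        rw [mul_assoc, ← (C.topQ_commute_top hyQ 1).eq, inv_mul_cancel_left], mul_one] at h2
    exact SubMax.xG_inj C.g (top_lt C.g) h2
  · -- compare coordinates at the partner
    have ham : Mid (D := D) a := ⟨ha, hat⟩
    obtain ⟨b, hb, hsum, -, -⟩ := C.exists_partner (a := ⟨a, ha.1⟩) ham
    obtain ⟨r, -, hsum', hN, -⟩ := C.exists_partner hb
    simp only at hsum
    obtain rfl : r = ⟨a, ha.1⟩ := Fin.ext (by show r.val = a; omega)
    have hz := hconj _ (C.slot_mem_M (r := ⟨a, ha.1⟩) (map_one C.E.σ))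
      (C.slot_mem (r := ⟨a, ha.1⟩) ha (fun _ => map_one C.E.σ)).2
    have hzt : t * C.slot ⟨a, ha.1⟩ 1 * t⁻¹ = C.slot ⟨a, ha.1⟩ ((χ : K) * 1) := by
      by_cases hf : C.A.T.ρ ⟨a, ha.1⟩ = ⟨a, ha.1⟩
      · rw [slot, slot, if_pos hf, if_pos hf]; exact hχ 1
      · rw [slot, slot, if_neg hf, if_neg hf]; exact C.EO_conj ht1 (hχ 1)
    have hzQ := (C.slot_mem (r := ⟨a, ha.1⟩) ha (fun _ => map_one C.E.σ)).2
    have h2 := congrArg (fun z => C.crd z b) hz
    simp only [hzt] at h2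
    rw [C.crd_conj hzQ hyQ hb.1, (C.crd_slot ham hb (by simp only; omega) _).1,
      (C.crd_slot ham hb (by simp only; omega) _).1, mul_one] at h2
    refine (mul_left_cancel₀ ?_ h2)
    rcases hN with e | e <;> simp only at e <;> simp [e]

/-- The stabiliser part of the overgroup is rational. -/
theorem mem_M_of_topP (hQ : C.RadRat) {h : GL D.Idx K} (hh : h ∈ C.H) (hP : h ∈ topP C.g K) : h ∈ C.M := by
  have hh1 := C.hi hh
  have hnorm := topP_le_normalizer C.g C.hc C.T C.hse hP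
  have hdQ : h⁻¹ * C.sG h ∈ topQ D K := by
    refine C.mem_topQ_of_commute (mul_mem (inv_mem hh1) (C.sG_G1 hh1)) fun z hz hzQ => ?_
    have h1 : h * z * h⁻¹ ∈ topQ D K := (Subgroup.mem_normalizer_iff.1 hnorm z).1 hzQ
    have h2 : C.sG (h * z * h⁻¹) = h * z * h⁻¹ :=
      (hQ _ (mul_mem (mul_mem hh (C.M_le_H hz)) (inv_mem hh)) h1).2
    rw [map_mul, map_mul, map_inv, show C.sG z = z from hz.2] at h2
    rw [show h⁻¹ * C.sG h * z * (h⁻¹ * C.sG h)⁻¹ = h⁻¹ * (C.sG h * z * (C.sG h)⁻¹) * h by group, h2]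
    group
  obtain ⟨q, l, hq, hq1, hl1, hl0, hlP, rfl⟩ := C.levi_decomp hh1 hP
  have hsl : C.sG l = l := by
    have h1 : l⁻¹ * C.sG l ∈ topQ D K := by
      rw [map_mul] at hdQ
      have hslP : C.sG l ∈ topP C.g K := by
        refine Subgroup.mem_inf.2 ⟨fun i j hne => (Subgroup.mem_inf.1 hlP).1 i j fun h0 => hne ?_,
          C.G1_le_group (C.sG_G1 hl1)⟩
        show ((l : Matrix D.Idx D.Idx K).map C.E.σ) i j = 0
        rw [Matrix.map_apply, h0, map_zero]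
      have h2 : (C.sG l)⁻¹ * (q⁻¹ * C.sG q) * C.sG l ∈ topQ D K := by
        have h3 := (Subgroup.mem_normalizer_iff.1 (topP_le_normalizer C.g C.hc C.T C.hse (inv_mem hslP))
          (q⁻¹ * C.sG q)).1 (mul_mem (inv_mem hq) (C.sG_topQ hq))
        rwa [inv_inv] at h3
      rw [show l⁻¹ * C.sG l =
        (q * l)⁻¹ * (C.sG q * C.sG l) * ((C.sG l)⁻¹ * (q⁻¹ * C.sG q) * C.sG l)⁻¹ by group]
      exact mul_mem hdQ (inv_mem h2)
    have hpos : topQ D K ≤ C.g.posSub (topC D) := C.rootGen_le_posSub fun r hr => by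
      rw [lam_topC C.g]
      exact_mod_cast hr.2.2
    have hsl0 : C.sG l ∈ C.g.geSub (-topC D) := fun i j hne => hl0 i j fun h0 => hne (by
      show ((l : Matrix D.Idx D.Idx K).map C.E.σ) i j = 0
      rw [Matrix.map_apply, h0, map_zero])
    exact (inv_mul_eq_one.1 (C.g.eq_one_of_pos_neg (hpos h1) (mul_mem (inv_mem hl0) hsl0))).symm
  have hlM : l ∈ C.M := ⟨hl1, hsl⟩
  refine mul_mem (hQ q ?_ hq) hlM
  rw [show q = q * l * l⁻¹ by group]
  exact mul_mem hh (inv_mem (C.M_le_H hlM))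

end TCtx

end CfsgLib.Chev.SubTw
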