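import Mathlib
import Cfsg.Agent.Lib.Chev.SuzTwoAlg

/-!
Additive endomorphisms of an elementary abelian 2-group under conjugation by a cyclic group that is regular
on the non-zero vectors: a stable subgroup without fixed points is a sum of lines `F σ`.
-/

set_option autoImplicit false

namespace CfsgLib.Chev.SuzTwo

open Polynomial

lemma two_pow_sums {n k i a : ℕ} (hn : 2 ≤ n) (hk : k < n) (hi : i < n) (ha : a < n)
    (h : 2 ^ k + 2 ^ i ≡ 1 + 2 ^ a [MOD 2 ^ n - 1]) : k = 0 ∧ i = a ∨ i = 0 ∧ k = a := by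
  have h4 : 4 ≤ 2 ^ n := le_trans (by norm_num) (Nat.pow_le_pow_right (by norm_num : 0 < 2) hn)
  have hb : ∀ {x : ℕ}, x < n → 2 * 2 ^ x ≤ 2 ^ n := fun {x} hx => by
    rw [← pow_succ']; exact Nat.pow_le_pow_right (by norm_num) hx
  have h1 := hb hk
  have h2 := hb hi
  have h3 := hb ha
  have p1 := Nat.one_le_two_pow (n := k)
  have p2 := Nat.one_le_two_pow (n := i)
  have p3 := Nat.one_le_two_pow (n := a)
  have heq : 2 ^ k + 2 ^ i = 1 + 2 ^ a := by
    refine h.eq_of_abs_lt ?_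
    rw [abs_lt]
    constructor <;> push_cast [Nat.cast_sub (by omega : 1 ≤ 2 ^ n)] <;>
      linarith [show ((2:ℤ) ^ k * 2 ≤ 2 ^ n) by exact_mod_cast (by linarith : 2 ^ k * 2 ≤ 2 ^ n),
        show ((2:ℤ) ^ i * 2 ≤ 2 ^ n) by exact_mod_cast (by linarith : 2 ^ i * 2 ≤ 2 ^ n),
        show ((2:ℤ) ^ a * 2 ≤ 2 ^ n) by exact_mod_cast (by linarith : 2 ^ a * 2 ≤ 2 ^ n),
        show ((4:ℤ) ≤ 2 ^ n) by exact_mod_cast h4,
        show ((1:ℤ) ≤ 2 ^ k) by exact_mod_cast p1, show ((1:ℤ) ≤ 2 ^ i) by exact_mod_cast p2,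
        show ((1:ℤ) ≤ 2 ^ a) by exact_mod_cast p3]
  by_cases hk0 : k = 0
  · subst hk0
    refine Or.inl ⟨rfl, Nat.pow_right_injective le_rfl (show 2 ^ i = 2 ^ a by omega)⟩
  by_cases hi0 : i = 0
  · subst hi0
    refine Or.inr ⟨rfl, Nat.pow_right_injective le_rfl (show 2 ^ k = 2 ^ a by omega)⟩
  exfalso
  obtain ⟨k', rfl⟩ := Nat.exists_eq_succ_of_ne_zero hk0
  obtain ⟨i', rfl⟩ := Nat.exists_eq_succ_of_ne_zero hi0
  have := Nat.one_le_two_pow (n := k')
  have := Nat.one_le_two_pow (n := i')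
  rcases Nat.eq_zero_or_pos a with rfl | ha0
  · simp only [pow_succ, pow_zero] at heq; omega
  · obtain ⟨a', rfl⟩ := Nat.exists_eq_succ_of_ne_zero ha0.ne'
    simp only [pow_succ] at heq; omega

-- the split, given field coordinates
theorem split_end_field {V : Type*} [AddCommGroup V] {K : Type*} [Group K] (ρ : K →* AddMonoid.End V)
    {F : Type*} [Field F] [Fintype F] [Algebra (ZMod 2) F] [CharP F 2] {n : ℕ}
    (hFc : Fintype.card F = 2 ^ n) (hn2 : 2 ≤ n) (e : V ≃+ F) (χ : K ≃* Fˣ)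
    (hχ : ∀ k v, e (ρ k v) = (χ k : F) * e v) (U : AddSubgroup (V →+ V))
    (hU : ∀ k, ∀ φ ∈ U, AddMonoidHom.comp (ρ k) (φ.comp (ρ k⁻¹)) ∈ U)
    (hfix : ∀ φ ∈ U, (∀ k, AddMonoidHom.comp (ρ k) (φ.comp (ρ k⁻¹)) = φ) → φ = 0) :
    U ≤ AddSubgroup.closure {φ | ∃ L : AddSubgroup (V →+ V), L ≤ U ∧ φ ∈ L ∧
      Nat.card L = Nat.card V ∧ (∀ ψ ∈ L, ψ ≠ 0 → Function.Injective ψ) ∧
      AddMonoidHom.id V ∉ L} := by
  classical
  have hn : n ≠ 0 := by omega
  obtain ⟨t, ht⟩ := IsCyclic.exists_generator (α := Fˣ)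
  have hot : orderOf t = 2 ^ n - 1 := by
    rw [orderOf_eq_card_of_forall_mem_zpowers ht, Nat.card_eq_fintype_card, Fintype.card_units, hFc]
  -- the Frobenius maps
  let σ : Fin n → (F →ₐ[ZMod 2] F) := fun i => FiniteField.frobeniusAlgHom (ZMod 2) F ^ (i : ℕ)
  have hfr : ∀ (j : ℕ) (x : F), (FiniteField.frobeniusAlgHom (ZMod 2) F ^ j) x = x ^ 2 ^ j := by
    intro j x
    induction j with
    | zero => simp
    | succ j ih =>
      rw [pow_succ', AlgHom.mul_apply, ih]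
      simp [← pow_mul, ← pow_succ]
  have hσ : ∀ (i : Fin n) (x : F), σ i x = x ^ 2 ^ (i : ℕ) := fun i => hfr i
  have hrk : Module.finrank (ZMod 2) F = n := by
    have h := Module.card_eq_pow_finrank (K := ZMod 2) (V := F)
    rw [hFc, ZMod.card] at h
    exact (Nat.pow_right_injective le_rfl h).symm
  have hbij : Function.Bijective σ := by
    have h := FiniteField.bijective_frobeniusAlgHom_pow (ZMod 2) F
    have e1 : σ = (fun i : Fin (Module.finrank (ZMod 2) F) => FiniteField.frobeniusAlgHom (ZMod 2) F ^ (i : ℕ)) ∘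
        (finCongr hrk.symm) := rfl
    rw [e1]
    exact h.comp (finCongr hrk.symm).bijective
  let v : Fin n → (F →ₗ[ZMod 2] F) := fun i => (σ i).toLinearMap
  have hind : LinearIndependent F v :=
    (linearIndependent_algHom_toLinearMap (ZMod 2) F F).comp σ hbij.1
  haveI : Nonempty (Fin n) := ⟨⟨0, by omega⟩⟩
  have hspan := hind.span_eq_top_of_card_eq_finrank (by
    rw [Fintype.card_fin, Module.finrank_linearMap_self, hrk])
  -- coordinates on the endomorphisms of `V`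
  let lin : (Fin n → F) →+ (F →+ F) :=
    { toFun := fun a => (∑ i, a i • v i).toAddMonoidHom
      map_zero' := by ext x; simp
      map_add' := fun a b => by ext x; simp [add_mul, Finset.sum_add_distrib] }
  have hlin : ∀ a x, lin a x = ∑ i, a i * x ^ 2 ^ (i : ℕ) := fun a x => by
    simp [lin, v, hσ]
  let Ψ : (Fin n → F) →+ (V →+ V) :=
    { toFun := fun a => e.symm.toAddMonoidHom.comp ((lin a).comp e.toAddMonoidHom)
      map_zero' := by ext x; simp
      map_add' := fun a b => by ext x; simp }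
  have hΨ : ∀ a x, e (Ψ a x) = ∑ i, a i * e x ^ 2 ^ (i : ℕ) := fun a x => by
    show e (e.symm (lin a (e x))) = _
    rw [e.apply_symm_apply, hlin]
  have hsingle : ∀ i y x, e (Ψ (Pi.single i y) x) = y * e x ^ 2 ^ (i : ℕ) := fun i y x => by
    rw [hΨ, Finset.sum_eq_single i (fun j _ hj => by rw [Pi.single_eq_of_ne hj, zero_mul])
      (fun h => absurd (Finset.mem_univ i) h), Pi.single_eq_same]
  have hΨsurj : Function.Surjective Ψ := by
    intro φ
    let l : F →ₗ[ZMod 2] F :=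
      (e.toAddMonoidHom.comp (φ.comp e.symm.toAddMonoidHom)).toZModLinearMap 2
    have hl : l ∈ Submodule.span F (Set.range v) := by rw [hspan]; exact Submodule.mem_top
    obtain ⟨a, ha⟩ := (Submodule.mem_span_range_iff_exists_fun F).1 hl
    refine ⟨a, AddMonoidHom.ext fun x => e.injective ?_⟩
    have := LinearMap.congr_fun ha (e x)
    simp only [LinearMap.sum_apply, LinearMap.smul_apply, smul_eq_mul, l, v,
      AlgHom.toLinearMap_apply, hσ] at this
    rw [hΨ, this]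
    simp
  -- the action
  let Λ : K → Fin n → F := fun k i => (χ k : F) * ((χ k⁻¹ : Fˣ) : F) ^ 2 ^ (i : ℕ)
  have hΛ : ∀ k a, AddMonoidHom.comp (ρ k) ((Ψ a).comp (ρ k⁻¹)) = Ψ (Λ k * a) := fun k a => by
    refine AddMonoidHom.ext fun x => e.injective ?_
    show e (ρ k (Ψ a (ρ k⁻¹ x))) = _
    rw [hχ, hΨ, hΨ, hχ, Finset.mul_sum]
    refine Finset.sum_congr rfl fun i _ => ?_
    simp only [Pi.mul_apply, Λ, mul_pow]
    ring
  let S : AddSubgroup (Fin n → F) := U.comap Ψ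
  obtain ⟨T, hT⟩ : ∃ T : Subring (Fin n → F), ∀ r, r ∈ T ↔ ∀ a ∈ S, r * a ∈ S := ⟨
    { carrier := {r | ∀ a ∈ S, r * a ∈ S}
      one_mem' := fun a ha => by rwa [one_mul]
      zero_mem' := fun a _ => by rw [zero_mul]; exact zero_mem S
      add_mem' := fun {r s} hr hs a ha => by rw [add_mul]; exact add_mem (hr a ha) (hs a ha)
      mul_mem' := fun {r s} hr hs a ha => by rw [mul_assoc]; exact hr _ (hs a ha)
      neg_mem' := fun {r} hr a ha => by rw [neg_mul]; exact neg_mem (hr a ha) }, fun r => Iff.rfl⟩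
  set k₀ := χ.symm t with hk₀
  have hk₀T : Λ k₀ ∈ T := (hT _).2 fun a ha => by
    show Ψ (Λ k₀ * a) ∈ U
    rw [← hΛ]; exact hU k₀ _ ha
  have haev : ∀ p : (ZMod 2)[X], aeval (Λ k₀) p ∈ T := by
    intro p
    induction p using Polynomial.induction_on' with
    | add p q hp hq => rw [map_add]; exact add_mem hp hq
    | monomial m c =>
      rw [aeval_monomial, ← ZMod.natCast_zmod_val c, map_natCast]
      exact mul_mem (natCast_mem T _) (pow_mem hk₀T m)
  have hΛ₀ : ∀ i : Fin n, Λ k₀ i = ((t * (t⁻¹) ^ 2 ^ (i : ℕ) : Fˣ) : F) := fun i => by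
    simp only [Λ, hk₀, map_inv, MulEquiv.apply_symm_apply, Units.val_mul, Units.val_pow_eq_pow_val]
  have hconj : ∀ (i j : Fin n) (k : ℕ), k < n → Λ k₀ j ^ 2 ^ k = Λ k₀ i →
      i = j ∧ ((i : ℕ) = 0 ∨ k = 0) := by
    intro i j k hk h
    rw [hΛ₀, hΛ₀, ← Units.val_pow_eq_pow_val] at h
    have h' := Units.ext h
    rw [mul_pow, ← pow_mul, ← pow_add] at h'
    have h'' : t ^ (2 ^ k + 2 ^ (i : ℕ)) = t ^ (1 + 2 ^ ((j : ℕ) + k)) := by
      rw [pow_add, pow_add, pow_one]
      calc t ^ 2 ^ k * t ^ 2 ^ (i : ℕ)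
          = t ^ 2 ^ k * (t⁻¹) ^ 2 ^ ((j : ℕ) + k) * t ^ 2 ^ ((j : ℕ) + k) * t ^ 2 ^ (i : ℕ) := by
            rw [inv_pow, inv_mul_cancel_right]
        _ = t * (t⁻¹) ^ 2 ^ (i : ℕ) * t ^ 2 ^ ((j : ℕ) + k) * t ^ 2 ^ (i : ℕ) := by rw [h']
        _ = t * t ^ 2 ^ ((j : ℕ) + k) := by
            rw [inv_pow, mul_right_comm, inv_mul_cancel_right]
    rw [pow_eq_pow_iff_modEq, hot] at h''
    set a := ((j : ℕ) + k) % n with ha
    have hma : 2 ^ ((j : ℕ) + k) ≡ 2 ^ a [MOD 2 ^ n - 1] := by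
      rw [← Nat.div_add_mod ((j : ℕ) + k) n, ← ha, pow_add, pow_mul]
      have : 2 ^ n ≡ 1 [MOD 2 ^ n - 1] :=
        ((Nat.modEq_iff_dvd' Nat.one_le_two_pow).2 dvd_rfl).symm
      simpa using (this.pow (((j : ℕ) + k) / n)).mul_right (2 ^ a)
    have hj := j.2
    have := two_pow_sums hn2 hk i.2 (Nat.mod_lt _ (by omega)) (h''.trans (hma.add_left 1))
    rcases this with ⟨rfl, hia⟩ | ⟨hi0, hka⟩
    · rw [Nat.add_zero, Nat.mod_eq_of_lt hj] at hia
      exact ⟨Fin.ext hia, Or.inr rfl⟩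
    · refine ⟨Fin.ext ?_, Or.inl hi0⟩
      rw [hi0]
      rcases Nat.lt_or_ge ((j : ℕ) + k) n with hlt | hge
      · rw [Nat.mod_eq_of_lt hlt] at hka; omega
      · rw [Nat.mod_eq_sub_mod hge, Nat.mod_eq_of_lt (by omega)] at hka; omega
  -- idempotents
  have hidem : ∀ i : Fin n, Pi.single i (1 : F) ∈ T := by
    intro i
    have := haev ((∏ j ∈ Finset.univ.erase i, minpoly (ZMod 2) (Λ k₀ j)) ^ (2 ^ n - 1))
    have hNne : 2 ^ n - 1 ≠ 0 := by
      have := Nat.one_lt_two_pow hn; omega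
    convert! this using 1
    funext l
    rw [← Pi.evalAlgHom_apply (ZMod 2) (fun _ : Fin n => F) l (aeval (Λ k₀) _),
      ← aeval_algHom_apply, Pi.evalAlgHom_apply, map_pow, map_prod]
    by_cases hl : l = i
    · subst hl
      rw [Pi.single_eq_same]
      refine ((congrArg (fun m => _ ^ (m - 1)) hFc.symm).trans
        (FiniteField.pow_card_sub_one_eq_one _ ?_)).symm
      refine Finset.prod_ne_zero_iff.2 fun j hj hz => ?_
      obtain ⟨τ, hτ⟩ := isConjRoot_iff_exists_algEquiv.1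
        ((isConjRoot_iff_aeval_eq_zero (Algebra.IsIntegral.isIntegral (Λ k₀ j))).2 hz).symm
      obtain ⟨k, hk⟩ := hbij.2 τ.toAlgHom
      have hk' : Λ k₀ j ^ 2 ^ (k : ℕ) = Λ k₀ l := by
        rw [← hσ, hk]; exact hτ
      exact Finset.ne_of_mem_erase hj (hconj l j k k.2 hk').1.symm
    · rw [Pi.single_eq_of_ne hl, Finset.prod_eq_zero (Finset.mem_erase.2 ⟨hl, Finset.mem_univ l⟩)
        (minpoly.aeval _ _), zero_pow hNne]
  -- full lines
  have hline : ∀ i : Fin n, (i : ℕ) ≠ 0 → ∀ x : F, Pi.single i x ∈ T := by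
    intro i hi
    let C : Set F := {x | Pi.single i x ∈ T}
    have hC : ∀ x, x ∈ C ↔ Pi.single i x ∈ T := fun x => Iff.rfl
    obtain ⟨R, hR⟩ : ∃ R : Subring F, ∀ x, x ∈ R ↔ Pi.single i x ∈ T := ⟨
      { carrier := C
        one_mem' := (hC 1).2 (hidem i)
        zero_mem' := (hC 0).2 (by rw [Pi.single_zero]; exact zero_mem T)
        add_mem' := fun {a b} ha hb => (hC _).2 (by
          rw [Pi.single_add]; exact add_mem ((hC a).1 ha) ((hC b).1 hb))
        mul_mem' := fun {a b} ha hb => (hC _).2 (by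
          rw [Pi.single_mul]; exact mul_mem ((hC a).1 ha) ((hC b).1 hb))
        neg_mem' := fun {a} ha => (hC _).2 (by
          rw [Pi.single_neg]; exact neg_mem ((hC a).1 ha)) }, hC⟩
    have hΛR : Λ k₀ i ∈ R := by
      rw [hR]
      convert! mul_mem hk₀T (hidem i) using 1
      funext l
      by_cases hl : l = i
      · subst hl; simp
      · simp [Pi.single_eq_of_ne hl]
    haveI : Fintype R := Fintype.ofFinite R
    letI : Field R := Fintype.fieldOfDomain R
    obtain ⟨d, -, hd⟩ := FiniteField.card R 2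
    have hpw : Λ k₀ i ^ 2 ^ (d : ℕ) = Λ k₀ i := by
      have := congrArg Subtype.val (FiniteField.pow_card (⟨Λ k₀ i, hΛR⟩ : R))
      rwa [hd] at this
    have hle : Fintype.card R ≤ Fintype.card F := Fintype.card_le_of_injective _ Subtype.val_injective
    rw [hd, hFc, Nat.pow_le_pow_iff_right (by norm_num)] at hle
    rcases hle.lt_or_eq with hlt | heq
    · rcases (hconj i i d hlt hpw).2 with h | h
      · exact absurd h hi
      · exact absurd h d.2.ne'
    · intro x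
      have hb : Function.Bijective (Subtype.val : R → F) :=
        (Fintype.bijective_iff_injective_and_card _).2 ⟨Subtype.val_injective, by rw [hd, hFc, heq]⟩
      obtain ⟨⟨y, hy⟩, rfl⟩ := hb.2 x
      exact (hR y).1 hy
  intro φ hφ
  obtain ⟨a, rfl⟩ := hΨsurj φ
  rw [← Finset.univ_sum_single a, map_sum]
  refine sum_mem fun i _ => ?_
  have haS : Pi.single i (a i) ∈ S := by
    convert! (hT _).1 (hidem i) a hφ using 1
    funext l
    by_cases hl : l = i
    · subst hl; simp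
    · simp [Pi.single_eq_of_ne hl]
  by_cases hz : Ψ (Pi.single i (a i)) = 0
  · rw [hz]; exact zero_mem _
  by_cases hi : (i : ℕ) = 0
  · refine absurd (hfix _ haS fun k => ?_) hz
    rw [hΛ]
    congr 1
    funext l
    by_cases hl : l = i
    · subst hl
      simp [Λ, hi]
    · simp [Pi.single_eq_of_ne hl]
  refine AddSubgroup.subset_closure
    ⟨(Ψ.comp (AddMonoidHom.single (fun _ : Fin n => F) i)).range, ?_, ⟨a i, rfl⟩, ?_, ?_, ?_⟩
  · rintro _ ⟨y, rfl⟩
    have hai : a i ≠ 0 := fun h => hz (by rw [h, Pi.single_zero, map_zero])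
    show Ψ (Pi.single i y) ∈ U
    have := (hT _).1 (hline i hi (y / a i)) _ haS
    rwa [← Pi.single_mul, div_mul_cancel₀ _ hai] at this
  · rw [Nat.card_congr e.toEquiv]
    refine (Nat.card_congr (Equiv.ofInjective _ fun y y' h => ?_)).symm
    have := congrArg e (DFunLike.congr_fun h (e.symm 1))
    simpa [hsingle] using this
  · rintro _ ⟨y, rfl⟩ hy x x' hxx
    have h := congrArg e hxx
    simp only [AddMonoidHom.comp_apply, AddMonoidHom.single_apply] at h hy
    rw [hsingle, hsingle] at h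
    have hy0 : y ≠ 0 := fun h0 => hy (by rw [h0, Pi.single_zero, map_zero])
    exact e.injective (iterateFrobenius_inj F 2 i
      (by simpa [iterateFrobenius_def] using mul_left_cancel₀ hy0 h))
  · rintro ⟨y, hy⟩
    have h : ∀ x, y * x ^ 2 ^ (i : ℕ) = x := fun x => by
      have := congrArg e (DFunLike.congr_fun hy (e.symm x))
      simpa [hsingle] using this
    have hy1 := h 1
    rw [one_pow, mul_one] at hy1
    have hi1 := h (t : F)
    rw [hy1, one_mul, ← Units.val_pow_eq_pow_val] at hi1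
    have hm := Units.ext hi1
    rw [← pow_one t, ← pow_mul, one_mul, pow_one] at hm
    have h0 : i = ⟨0, by omega⟩ := by
      refine (hconj ⟨0, by omega⟩ i 0 (by omega) ?_).1.symm
      rw [hΛ₀, hΛ₀]
      simp only [inv_pow, hm, pow_zero, pow_one]
    exact hi (congrArg Fin.val h0)

/-- Stable subgroups of endomorphisms without fixed points are generated by full lines. -/
theorem split_end {V : Type*} [AddCommGroup V] [Finite V] (h2 : ∀ v : V, v + v = 0)
    {K : Type*} [Group K] (hcomm : ∀ a b : K, a * b = b * a) (ρ : K →* AddMonoid.End V)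
    (hreg : ∀ v w : V, v ≠ 0 → w ≠ 0 → ∃! k : K, ρ k v = w) {e₀ : V} (he₀ : e₀ ≠ 0)
    (h4 : 4 ≤ Nat.card V) (U : AddSubgroup (V →+ V))
    (hU : ∀ k, ∀ φ ∈ U, AddMonoidHom.comp (ρ k) (φ.comp (ρ k⁻¹)) ∈ U)
    (hfix : ∀ φ ∈ U, (∀ k, AddMonoidHom.comp (ρ k) (φ.comp (ρ k⁻¹)) = φ) → φ = 0) :
    U ≤ AddSubgroup.closure {φ | ∃ L : AddSubgroup (V →+ V), L ≤ U ∧ φ ∈ L ∧
      Nat.card L = Nat.card V ∧ (∀ ψ ∈ L, ψ ≠ 0 → Function.Injective ψ) ∧
      AddMonoidHom.id V ∉ L} := by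
  classical
  obtain ⟨n, hn, hV, e, χ, -, hχ⟩ := singer h2 hcomm ρ hreg he₀
  have hn2 : 2 ≤ n := by
    by_contra h
    rw [hV] at h4
    interval_cases n <;> simp at h4 hn
  haveI : Fintype (GaloisField 2 n) := Fintype.ofFinite _
  exact split_end_field ρ (n := n) (by rw [← Nat.card_eq_fintype_card, GaloisField.card 2 n hn]) hn2 e χ hχ
    U hU hfix

end CfsgLib.Chev.SuzTwo
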