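import Mathlib
import Cfsg.Prelude.Def_LieRecognition
import Cfsg.Agent.Lib.Chev.SuzTwoAlg

/-!
Suzuki 2-groups: the centre is elementary; those of order `|Z|²` are of type A (Higman).
-/

set_option autoImplicit false

open scoped commutatorElement

namespace CfsgLib.Chev.SuzTwo

variable {P : Type*} [Group P]

/-- The hypotheses of a Suzuki 2-group, unbundled. -/
structure Ctx (P : Type*) [Group P] (K : Subgroup (MulAut P)) : Prop where
  fin : Finite P
  two : IsPGroup 2 P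
  noncomm : ∃ x y : P, x * y ≠ y * x
  two_invol : ∃ x y : P, x ≠ y ∧ x ≠ 1 ∧ x * x = 1 ∧ y ≠ 1 ∧ y * y = 1
  cyc : IsCyclic K
  reg : ∀ x y : P, x ≠ 1 → x * x = 1 → y ≠ 1 → y * y = 1 → ∃! k : K, (k : MulAut P) x = y

theorem exists_ctx (hP : Cfsg.IsSuzukiTwoGroup P) : ∃ K, Ctx P K := by
  obtain ⟨h1, h2, h3, h4, K, h5, h6⟩ := hP
  exact ⟨K, h1, h2, h3, h4, h5, h6⟩

namespace Ctx

variable {K : Subgroup (MulAut P)} (c : Ctx P K)
include c

lemma k_comm (a b : K) : a * b = b * a := by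
  haveI := c.cyc
  obtain ⟨g, hg⟩ := IsCyclic.exists_generator (α := K)
  obtain ⟨i, rfl⟩ := hg a
  obtain ⟨j, rfl⟩ := hg b
  exact (Commute.refl g).zpow_zpow i j

lemma invol_center {x : P} (hx : x * x = 1) : x ∈ Subgroup.center P := by
  by_cases h1 : x = 1
  · rw [h1]; exact one_mem _
  haveI := c.fin
  haveI : Fact (Nat.Prime 2) := ⟨Nat.prime_two⟩
  haveI : Nontrivial P := ⟨⟨x, 1, h1⟩⟩
  haveI := c.two.center_nontrivial
  obtain ⟨z, hz, hz1, hzz⟩ : ∃ z ∈ Subgroup.center P, z ≠ 1 ∧ z * z = 1 := by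
    have hd : 2 ∣ Nat.card (Subgroup.center P) := by
      obtain ⟨n, hn, hc⟩ := (c.two.to_subgroup (Subgroup.center P)).nontrivial_iff_card.1 inferInstance
      rw [hc]; exact dvd_pow_self 2 hn.ne'
    obtain ⟨z, hz⟩ := exists_prime_orderOf_dvd_card' 2 hd
    refine ⟨z, z.2, fun e => ?_, ?_⟩
    · have : z = 1 := Subtype.ext e
      rw [this, orderOf_one] at hz; norm_num at hz
    · have := pow_orderOf_eq_one z
      rw [hz, pow_two] at this
      exact congrArg Subtype.val this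
  obtain ⟨k, rfl, -⟩ := c.reg z x hz1 hzz h1 hx
  refine Subgroup.mem_center_iff.2 fun g => ?_
  obtain ⟨g', rfl⟩ := (k : MulAut P).surjective g
  rw [← map_mul, ← map_mul, Subgroup.mem_center_iff.1 hz g']

/-- Powers of two reach the involutions. -/
lemma exists_two_pow (x : P) : ∃ f : ℕ, x ^ 2 ^ f = 1 := by
  obtain ⟨f, hf⟩ := c.two x
  exact ⟨f, hf⟩

omit c in
/-- A commutative subgroup of exponent exactly `2 ^ f`, invariant under `K`, with its involutions. -/
structure Block (P : Type*) [Group P] (K : Subgroup (MulAut P)) (B : Subgroup P) (f : ℕ) : Prop where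
  comm : ∀ x ∈ B, ∀ y ∈ B, x * y = y * x
  inv : ∀ k : K, ∀ x ∈ B, (k : MulAut P) x ∈ B
  exp : ∀ x ∈ B, x ^ 2 ^ f = 1
  pos : 0 < f
  top : ∃ x ∈ B, x ^ 2 ^ (f - 1) ≠ 1

lemma exists_block {B : Subgroup P} (hc : ∀ x ∈ B, ∀ y ∈ B, x * y = y * x)
    (hinv : ∀ k : K, ∀ x ∈ B, (k : MulAut P) x ∈ B) (hne : ∃ x ∈ B, x ≠ 1) :
    ∃ f, Block P K B f := by
  classical
  have hex : ∃ f : ℕ, ∀ x ∈ B, x ^ 2 ^ f = 1 := by
    haveI := c.fin
    obtain ⟨n, hn⟩ := IsPGroup.iff_card.1 c.two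
    exact ⟨n, fun x _ => hn ▸ pow_card_eq_one'⟩
  refine ⟨Nat.find hex, hc, hinv, Nat.find_spec hex, ?_, ?_⟩
  · rw [Nat.find_pos]
    obtain ⟨x, hx, h1⟩ := hne
    intro h
    exact h1 (by simpa using h x hx)
  · have hpos : 0 < Nat.find hex := by
      rw [Nat.find_pos]
      obtain ⟨x, hx, h1⟩ := hne
      intro h
      exact h1 (by simpa using h x hx)
    have := Nat.find_min hex (m := Nat.find hex - 1) (by omega)
    push Not at this
    exact this

lemma top_surj {B : Subgroup P} {f : ℕ} (hB : Block P K B f) {x : P} (hx : x * x = 1) :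
    ∃ y ∈ B, y ^ 2 ^ (f - 1) = x := by
  by_cases h1 : x = 1
  · exact ⟨1, one_mem _, by rw [one_pow, h1]⟩
  obtain ⟨a, ha, ha1⟩ := hB.top
  have haa : a ^ 2 ^ (f - 1) * a ^ 2 ^ (f - 1) = 1 := by
    have := hB.exp a ha
    rwa [← pow_add, ← two_mul, ← pow_succ', Nat.sub_add_cancel hB.pos]
  obtain ⟨k, hk, -⟩ := c.reg _ x ha1 haa h1 hx
  exact ⟨(k : MulAut P) a, hB.inv k a ha, by rw [← map_pow, hk]⟩

/-- Roots in a block. -/
lemma root {B : Subgroup P} {f : ℕ} (hB : Block P K B f) :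
    ∀ (j : ℕ) (x : P), (∀ b ∈ B, b * x = x * b) → x ^ 2 ^ j = 1 → j ≤ f →
      ∃ y ∈ B, x = y ^ 2 ^ (f - j) := by
  intro j
  induction j with
  | zero => exact fun x _ hx _ => ⟨1, one_mem _, by rw [one_pow]; simpa using hx⟩
  | succ j ih =>
    intro x hcx hx hj
    have hxx : x ^ 2 ^ j * x ^ 2 ^ j = 1 := by rwa [← pow_add, ← two_mul, ← pow_succ']
    obtain ⟨y, hy, hye⟩ := c.top_surj hB hxx
    set w := y ^ 2 ^ (f - (j + 1)) with hw
    have hwB : w ∈ B := pow_mem hy _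
    have hcw : ∀ b ∈ B, b * (w⁻¹ * x) = w⁻¹ * x * b := fun b hb => by
      rw [← mul_assoc, hB.comm b hb w⁻¹ (inv_mem hwB), mul_assoc, hcx b hb, ← mul_assoc]
    obtain ⟨u, hu, hue⟩ := ih (w⁻¹ * x) hcw (by
      have hcomm : Commute w⁻¹ x := hcx _ (inv_mem hwB)
      rw [hcomm.mul_pow, inv_pow, hw, ← pow_mul, ← pow_add, show f - (j + 1) + j = f - 1 by omega,
        hye, inv_mul_cancel]) (by omega)
    refine ⟨y * u ^ 2, mul_mem hy (pow_mem hu 2), ?_⟩
    have hc2 : Commute y (u ^ 2) := hB.comm y hy _ (pow_mem hu 2)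
    rw [hc2.mul_pow, ← hw, ← pow_mul, ← pow_succ', show f - (j + 1) + 1 = f - j by omega, ← hue,
      mul_inv_cancel_left]

lemma mem_of_block {B : Subgroup P} {f : ℕ} (hB : Block P K B f) {x : P}
    (hcx : ∀ b ∈ B, b * x = x * b) {j : ℕ} (hx : x ^ 2 ^ j = 1) (hj : j ≤ f) : x ∈ B := by
  obtain ⟨y, hy, rfl⟩ := c.root hB j x hcx hx hj
  exact pow_mem hy _

lemma invol_mem {B : Subgroup P} {f : ℕ} (hB : Block P K B f) {x : P} (hx : x * x = 1) : x ∈ B :=
  c.mem_of_block hB (fun b _ => Subgroup.mem_center_iff.1 (c.invol_center hx) b)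
    (j := 1) (by rw [pow_one, pow_two, hx]) hB.pos

omit c in
lemma center_inv (k : MulAut P) {x : P} (hx : x ∈ Subgroup.center P) : k x ∈ Subgroup.center P := by
  refine Subgroup.mem_center_iff.2 fun g => ?_
  obtain ⟨g', rfl⟩ := k.surjective g
  rw [← map_mul, ← map_mul, Subgroup.mem_center_iff.1 hx g']

/-- The group of elementary involutions. -/
def invols : Subgroup P where
  carrier := {x | x * x = 1}
  one_mem' := one_mul 1
  mul_mem' {a b} ha hb := by
    show a * b * (a * b) = 1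
    rw [mul_assoc, ← mul_assoc b, Subgroup.mem_center_iff.1 (c.invol_center ha) b, mul_assoc, ← mul_assoc,
      show a * a = 1 from ha, one_mul]
    exact hb
  inv_mem' {a} ha := by
    show a⁻¹ * a⁻¹ = 1
    rw [← mul_inv_rev, show a * a = 1 from ha, inv_one]

/-- An equivariant bimultiplicative map with trivial diagonal on the involutions is trivial. -/
theorem bilin_trivial (β : P → P → P)
    (hval : ∀ u v, u * u = 1 → v * v = 1 → β u v * β u v = 1)
    (hl : ∀ u v w, u * u = 1 → v * v = 1 → w * w = 1 → β (u * v) w = β u w * β v w)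
    (hr : ∀ u v w, u * u = 1 → v * v = 1 → w * w = 1 → β u (v * w) = β u v * β u w)
    (hdiag : ∀ u, u * u = 1 → β u u = 1)
    (hk : ∀ (k : K) (u v : P), u * u = 1 → v * v = 1 →
      β ((k : MulAut P) u) ((k : MulAut P) v) = (k : MulAut P) (β u v))
    (u v : P) (hu : u * u = 1) (hv : v * v = 1) : β u v = 1 := by
  classical
  haveI := c.fin
  obtain ⟨e₀, -, -, he₀, hee₀, -, -⟩ := c.two_invol
  let V := Additive ↥c.invols
  letI : AddCommGroup V := { (inferInstance : AddGroup V) with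
    add_comm := fun a b => congrArg Additive.ofMul (Subtype.ext
      (Subgroup.mem_center_iff.1 (c.invol_center (Additive.toMul b).2) (Additive.toMul a).1)) }
  let f : K → ↥c.invols →* ↥c.invols := fun k =>
    ((k : MulAut P).toMonoidHom.comp c.invols.subtype).codRestrict _ fun x => by
      show (k : MulAut P) x * (k : MulAut P) x = 1
      rw [← map_mul, show (x : P) * x = 1 from x.2, map_one]
  let ρ : K →* AddMonoid.End V :=
    { toFun := fun k => MonoidHom.toAdditive (f k)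
      map_one' := AddMonoidHom.ext fun x => rfl
      map_mul' := fun a b => AddMonoidHom.ext fun x => rfl }
  have hinj : ∀ {a b : V}, (Additive.toMul a).1 = (Additive.toMul b).1 → a = b := fun h =>
    Additive.toMul.injective (Subtype.ext h)
  obtain ⟨n, -, -, e, χ, -, hχ⟩ := singer (V := V) (fun x => hinj (Additive.toMul x).2) c.k_comm ρ
    (fun x y hx hy => by
      have h0 : ∀ {a : V}, a ≠ 0 → (Additive.toMul a).1 ≠ 1 := fun ha h => ha (hinj h)
      obtain ⟨k, hk, huni⟩ := c.reg _ _ (h0 hx) (Additive.toMul x).2 (h0 hy) (Additive.toMul y).2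
      exact ⟨k, hinj hk, fun k' hk' => huni k' (congrArg (fun a : V => (Additive.toMul a).1) hk')⟩)
    (e₀ := Additive.ofMul ⟨e₀, hee₀⟩) (fun h => he₀ (congrArg (fun a : V => (Additive.toMul a).1) h))
  let g : GaloisField 2 n → ↥c.invols := fun a => Additive.toMul (e.symm a)
  let B : GaloisField 2 n → GaloisField 2 n → GaloisField 2 n := fun a b =>
    e (Additive.ofMul ⟨β (g a).1 (g b).1, hval _ _ (g a).2 (g b).2⟩)
  have hg : ∀ a b, (g (a + b)).1 = (g a).1 * (g b).1 := fun a b => by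
    simp only [g, map_add]; rfl
  have hB := bilin_zero B
    (fun a b x => by
      simp only [B]
      rw [← map_add]
      exact congrArg e (hinj (by
        show β (g (a + b)).1 (g x).1 = _
        rw [hg, hl _ _ _ (g a).2 (g b).2 (g x).2]; rfl)))
    (fun a b x => by
      simp only [B]
      rw [← map_add]
      exact congrArg e (hinj (by
        show β (g a).1 (g (b + x)).1 = _
        rw [hg, hr _ _ _ (g a).2 (g b).2 (g x).2]; rfl)))
    (fun a => by
      simp only [B]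
      rw [← map_zero e]
      exact congrArg e (hinj (hdiag _ (g a).2)))
    (fun l a b hl' => by
      obtain ⟨k, hk'⟩ := χ.surjective (Units.mk0 l hl')
      have hlk : l = (χ k : GaloisField 2 n) := by rw [hk', Units.val_mk0]
      have hgk : ∀ a, (g (l * a)).1 = (k : MulAut P) (g a).1 := by
        intro a
        have : e.symm (l * a) = ρ k (e.symm a) := e.injective (by
          rw [e.apply_symm_apply, hχ, e.apply_symm_apply, hlk])
        show (Additive.toMul (e.symm (l * a))).1 = _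
        rw [this]; rfl
      simp only [B]
      rw [hlk, ← hχ]
      refine congrArg e (hinj ?_)
      rw [← hlk]
      show β (g (l * a)).1 (g (l * b)).1 = (k : MulAut P) (β (g a).1 (g b).1)
      rw [hgk, hgk, hk k _ _ (g a).2 (g b).2])
  have hgs : ∀ x (hx : x * x = 1), (g (e (Additive.ofMul ⟨x, hx⟩))).1 = x := fun x hx => by
    show (Additive.toMul (e.symm (e _))).1 = x
    rw [e.symm_apply_apply]; rfl
  have h := hB (e (Additive.ofMul ⟨u, hu⟩)) (e (Additive.ofMul ⟨v, hv⟩))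
  simp only [B] at h
  rw [← map_zero e] at h
  have h' := congrArg (fun a : V => (Additive.toMul a).1) (e.injective h)
  simp only [hgs] at h'
  exact h'

omit c in
lemma conj_eq_comm (g x : P) : g * x * g⁻¹ = ⁅g, x⁆ * x := by
  rw [commutatorElement_def]; group

/-- The centre is elementary. -/
theorem center_elem {z : P} (hz : z ∈ Subgroup.center P) : z * z = 1 := by
  classical
  haveI := c.fin
  haveI : Fact (Nat.Prime 2) := ⟨Nat.prime_two⟩
  obtain ⟨e₀, -, -, he₀, hee₀, -, -⟩ := c.two_invol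
  obtain ⟨e, hZ⟩ := c.exists_block (B := Subgroup.center P)
    (fun x _ y hy => Subgroup.mem_center_iff.1 hy x) (fun k x hx => center_inv k hx)
    ⟨e₀, c.invol_center hee₀, he₀⟩
  by_contra hzz
  have he2 : 2 ≤ e := by
    by_contra h
    have := hZ.exp z hz
    rw [show e = 1 by have := hZ.pos; omega, pow_one, pow_two] at this
    exact hzz this
  let S : Set (Subgroup P) := {A | Subgroup.center P ≤ A ∧ (∀ x ∈ A, ∀ y ∈ A, x * y = y * x) ∧
    (∀ k : K, ∀ x ∈ A, (k : MulAut P) x ∈ A) ∧ A.Normal}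
  obtain ⟨A, hAS, hmax⟩ := Set.Finite.exists_maximalFor id S (Set.toFinite S)
    ⟨Subgroup.center P, le_rfl, fun x _ y hy => Subgroup.mem_center_iff.1 hy x,
      fun k x hx => center_inv k hx, inferInstance⟩
  obtain ⟨hZA, hAc, hAK, hAn⟩ := hAS
  obtain ⟨f, hA⟩ := c.exists_block hAc hAK ⟨e₀, hZA (c.invol_center hee₀), he₀⟩
  have hinA : ∀ {x : P}, x * x = 1 → x ∈ A := fun hx => hZA (c.invol_center hx)
  have hsmall : ∀ x ∈ A, x ^ 2 ^ e = 1 → x ∈ Subgroup.center P := fun x hx hxe =>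
    c.mem_of_block hZ (fun b hb => (Subgroup.mem_center_iff.1 hb x).symm) hxe le_rfl
  have hef : e ≤ f := by
    by_contra h
    obtain ⟨x, hx, hx1⟩ := hZ.top
    apply hx1
    rw [show e - 1 = f + (e - 1 - f) by omega, pow_add, pow_mul, hA.exp x (hZA hx), one_pow]
  set T : P → P := fun x => x ^ 2 ^ (f - 1) with hT
  have hTmul : ∀ x ∈ A, ∀ y ∈ A, T (x * y) = T x * T y := fun x hx y hy =>
    (show Commute x y from hAc x hx y hy).mul_pow _
  have hTone : ∀ x ∈ A, T x * T x = 1 := fun x hx => by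
    simp only [hT]
    rw [← pow_add, ← two_mul, ← pow_succ', Nat.sub_add_cancel hA.pos]
    exact hA.exp x hx
  have hTker : ∀ x ∈ A, T x = 1 → ∃ y ∈ A, x = y * y := by
    intro x hx h1
    obtain ⟨y, hy, hye⟩ := c.root hA (f - 1) x (fun b hb => hAc b hb x hx) h1 (by omega)
    exact ⟨y, hy, by rw [hye, show f - (f - 1) = 1 by have := hA.pos; omega, pow_one, pow_two]⟩
  have hTk : ∀ (k : K) (x : P), T ((k : MulAut P) x) = (k : MulAut P) (T x) := fun k x =>
    (map_pow _ _ _).symm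
  have hTsurj : ∀ u : P, u * u = 1 → ∃ a ∈ A, T a = u := fun u hu => c.top_surj hA hu
  -- the involutory quotient elements
  let Q : Set P := {g | g * g ∈ A ∧ ∀ p, ⁅g, p⁆ ∈ A}
  have hQA : ∀ g ∈ A, g ∈ Q := fun g hg => ⟨mul_mem hg hg, fun p => by
    rw [commutatorElement_def, mul_assoc, mul_assoc, ← mul_assoc p]
    exact mul_mem hg (hAn.conj_mem _ (inv_mem hg) p)⟩
  have hQmul : ∀ g ∈ Q, ∀ h ∈ Q, g * h ∈ Q := by
    intro g hg h hh
    have hp : ∀ p, ⁅g * h, p⁆ ∈ A := fun p => by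
      rw [show ⁅g * h, p⁆ = g * ⁅h, p⁆ * g⁻¹ * ⁅g, p⁆ by simp only [commutatorElement_def]; group]
      exact mul_mem (hAn.conj_mem _ (hh.2 p) g) (hg.2 p)
    refine ⟨?_, hp⟩
    rw [show g * h * (g * h) = g * g * (g⁻¹ * ⁅h, g⁆ * g) * (h * h) by
      simp only [commutatorElement_def]; group]
    exact mul_mem (mul_mem hg.1 (by simpa using hAn.conj_mem _ (hh.2 g) g⁻¹)) hh.1
  have hQk : ∀ (k : K), ∀ g ∈ Q, (k : MulAut P) g ∈ Q := fun k g hg => by
    refine ⟨by rw [← map_mul]; exact hAK k _ hg.1, fun p => ?_⟩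
    obtain ⟨p', rfl⟩ := (k : MulAut P).surjective p
    rw [← map_commutatorElement]
    exact hAK k _ (hg.2 p')
  -- the centraliser of `A` is `A`
  have hf2 : 2 ≤ f := le_trans he2 hef
  have hcent : ∀ g ∈ Q, (∀ a ∈ A, a * g = g * a) → g ∈ A := by
    let B : Subgroup P :=
      { carrier := {g | g ∈ Q ∧ ∀ a ∈ A, a * g = g * a}
        one_mem' := ⟨hQA 1 (one_mem _), fun a _ => by simp⟩
        mul_mem' := fun {x y} hx hy => ⟨hQmul x hx.1 y hy.1, fun a ha => by
          rw [← mul_assoc, hx.2 a ha, mul_assoc, hy.2 a ha, mul_assoc]⟩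
        inv_mem' := fun {x} hx => by
          refine ⟨?_, fun a ha => ?_⟩
          · rw [show x⁻¹ = x * (x * x)⁻¹ by group]
            exact hQmul _ hx.1 _ (hQA _ (inv_mem hx.1.1))
          · exact (Commute.inv_right (hx.2 a ha : Commute a x)).eq }
    have hBA : ∀ x ∈ A, x ∈ B := fun x hx => ⟨hQA x hx, fun a ha => hAc a ha x hx⟩
    have hBk : ∀ (k : K), ∀ x ∈ B, (k : MulAut P) x ∈ B := fun k x hx => by
      refine ⟨hQk k x hx.1, fun a ha => ?_⟩
      have h1 : ((k⁻¹ : K) : MulAut P) a ∈ A := hAK _ a ha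
      have h2 := congrArg (k : MulAut P) (hx.2 _ h1)
      have h3 : (k : MulAut P) (((k⁻¹ : K) : MulAut P) a) = a := by
        show ((k * k⁻¹ : K) : MulAut P) a = a
        rw [mul_inv_cancel]; rfl
      rwa [map_mul, map_mul, h3] at h2
    have hcomm : ∀ x ∈ B, ∀ y ∈ B, ⁅x, y⁆ * ⁅x, y⁆ = 1 := by
      intro x hx y hy
      have hc : ⁅x, y⁆ ∈ A := hx.1.2 y
      have h0 : (x * x) * y = y * (x * x) := hy.2 _ hx.1.1
      have e1 : ⁅x * x, y⁆ = 1 := by rw [commutatorElement_def, h0]; group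
      have e2 : ⁅x * x, y⁆ = x * ⁅x, y⁆ * x⁻¹ * ⁅x, y⁆ := by
        simp only [commutatorElement_def]; group
      rw [← hx.2 _ hc, mul_inv_cancel_right] at e2
      rw [← e2, e1]
    have hBroot : ∀ x ∈ B, T (x * x) = 1 → x ∈ A := by
      intro x hx h
      obtain ⟨y, hy, hye⟩ := hTker _ hx.1.1 h
      have hxy : y * x = x * y := hx.2 y hy
      have : x * y⁻¹ * (x * y⁻¹) = 1 := by
        have hc : Commute x y⁻¹ := (Commute.inv_right (Commute.symm (hxy : Commute y x)))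
        rw [mul_assoc, ← mul_assoc y⁻¹, ← hc.eq, mul_assoc, ← mul_assoc, hye]; group
      simpa using mul_mem (hinA this) hy
    have hBT : ∀ x ∈ B, ∀ y ∈ B, T (x * y * (x * y)) = T (x * x) * T (y * y) := by
      intro x hx y hy
      have hc : ⁅y, x⁆ ∈ A := hy.1.2 x
      have e : x * y * (x * y) = x * x * (x⁻¹ * ⁅y, x⁆ * x) * (y * y) := by
        simp only [commutatorElement_def]; group
      have e' : x⁻¹ * ⁅y, x⁆ * x = ⁅y, x⁆ := by rw [mul_assoc, hx.2 _ hc, inv_mul_cancel_left]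
      rw [e, e', hTmul _ (mul_mem hx.1.1 hc) _ hy.1.1, hTmul _ hx.1.1 _ hc]
      have : T ⁅y, x⁆ = 1 := by
        simp only [hT]
        rw [show f - 1 = (f - 2) + 1 by omega, pow_succ', pow_mul, pow_two, hcomm y hy x hx, one_pow]
      rw [this, mul_one]
    have hBnorm : B.Normal := ⟨fun x hx p => by
      rw [conj_eq_comm]
      have h2 : ⁅p, x⁆ ∈ A := by rw [← commutatorElement_inv]; exact inv_mem (hx.1.2 p)
      exact mul_mem (hBA _ h2) hx⟩
    have hBcomm : ∀ x ∈ B, ∀ y ∈ B, x * y = y * x := by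
      by_contra hno
      push Not at hno
      obtain ⟨x₁, hx₁, y₁, hy₁, hne⟩ := hno
      have hxA : x₁ ∉ A := fun h => hne (hy₁.2 x₁ h)
      have hu1 : T (x₁ * x₁) ≠ 1 := fun h => hxA (hBroot x₁ hx₁ h)
      have hsurj : ∀ u, u * u = 1 → ∃ x ∈ B, T (x * x) = u := by
        intro u hu
        by_cases h1 : u = 1
        · exact ⟨1, one_mem _, by simp [hT, h1]⟩
        obtain ⟨k, hk, -⟩ := c.reg _ u hu1 (hTone _ hx₁.1.1) h1 hu
        exact ⟨(k : MulAut P) x₁, hBk k _ hx₁, by rw [← map_mul, hTk, hk]⟩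
      choose r hrB hr using hsurj
      have hdep : ∀ x ∈ B, ∀ x' ∈ B, T (x * x) = T (x' * x') → x'⁻¹ * x ∈ A := by
        intro x hx x' hx' h
        refine hBroot _ (mul_mem (inv_mem hx') hx) ?_
        have h1 := hBT x' hx' (x'⁻¹ * x) (mul_mem (inv_mem hx') hx)
        rw [mul_inv_cancel_left, h] at h1
        exact mul_left_cancel (a := T (x' * x')) (by rw [← h1, mul_one])
      have hcw : ∀ x ∈ B, ∀ y ∈ B, ∀ a ∈ A, ⁅x * a, y⁆ = ⁅x, y⁆ := by
        intro x hx y hy a ha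
        have h0 : ⁅a, y⁆ = 1 := by rw [commutatorElement_def, hy.2 a ha]; group
        rw [show ⁅x * a, y⁆ = x * ⁅a, y⁆ * x⁻¹ * ⁅x, y⁆ by simp only [commutatorElement_def]; group,
          h0, mul_one, mul_inv_cancel, one_mul]
      have hcw' : ∀ x ∈ B, ∀ y ∈ B, ∀ a ∈ A, ⁅x, y * a⁆ = ⁅x, y⁆ := by
        intro x hx y hy a ha
        rw [← inv_inj, commutatorElement_inv, commutatorElement_inv, hcw y hy x hx a ha]
      let β : P → P → P := fun u v =>
        if h : u * u = 1 ∧ v * v = 1 then ⁅r u h.1, r v h.2⁆ else 1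
      have hβ : ∀ x ∈ B, ∀ y ∈ B, β (T (x * x)) (T (y * y)) = ⁅x, y⁆ := by
        intro x hx y hy
        have h1 := hTone _ hx.1.1
        have h2 := hTone _ hy.1.1
        simp only [β, dif_pos (And.intro h1 h2)]
        have a1 := hdep _ (hrB _ h1) x hx (hr _ h1)
        have a2 := hdep _ (hrB _ h2) y hy (hr _ h2)
        have e1 : r _ h1 = x * (x⁻¹ * r _ h1) := by group
        have e2 : r _ h2 = y * (y⁻¹ * r _ h2) := by group
        rw [e1, hcw x hx _ (hrB _ h2) _ a1, e2, hcw' x hx y hy _ a2]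
      refine hne ?_
      have hx1' := hTone _ hx₁.1.1
      have hy1' := hTone _ hy₁.1.1
      have := c.bilin_trivial β ?_ ?_ ?_ ?_ ?_ _ _ hx1' hy1'
      · rw [hβ x₁ hx₁ y₁ hy₁, commutatorElement_eq_one_iff_mul_comm] at this
        exact this
      · intro u v hu hv
        rw [← hr u hu, ← hr v hv, hβ _ (hrB u hu) _ (hrB v hv)]
        exact hcomm _ (hrB u hu) _ (hrB v hv)
      · intro u v w hu hv hw
        rw [← hr u hu, ← hr v hv, ← hr w hw, ← hBT _ (hrB u hu) _ (hrB v hv),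
          hβ _ (mul_mem (hrB u hu) (hrB v hv)) _ (hrB w hw), hβ _ (hrB u hu) _ (hrB w hw),
          hβ _ (hrB v hv) _ (hrB w hw)]
        have h2 : ⁅r v hv, r w hw⁆ ∈ A := (hrB v hv).1.2 _
        rw [show ⁅r u hu * r v hv, r w hw⁆ = r u hu * ⁅r v hv, r w hw⁆ * (r u hu)⁻¹ *
          ⁅r u hu, r w hw⁆ by simp only [commutatorElement_def]; group,
          ← (hrB u hu).2 _ h2, mul_inv_cancel_right]
        exact hAc _ h2 _ ((hrB u hu).1.2 _)
      · intro u v w hu hv hw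
        rw [← hr u hu, ← hr v hv, ← hr w hw, ← hBT _ (hrB v hv) _ (hrB w hw),
          hβ _ (hrB u hu) _ (mul_mem (hrB v hv) (hrB w hw)), hβ _ (hrB u hu) _ (hrB w hw),
          hβ _ (hrB u hu) _ (hrB v hv)]
        have h2 : ⁅r u hu, r w hw⁆ ∈ A := (hrB u hu).1.2 _
        rw [show ⁅r u hu, r v hv * r w hw⁆ = ⁅r u hu, r v hv⁆ *
          (r v hv * ⁅r u hu, r w hw⁆ * (r v hv)⁻¹) by simp only [commutatorElement_def]; group,
          ← (hrB v hv).2 _ h2, mul_inv_cancel_right]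
      · intro u hu
        rw [← hr u hu, hβ _ (hrB u hu) _ (hrB u hu), commutatorElement_self]
      · intro k u v hu hv
        rw [← hr u hu, ← hr v hv, ← hTk, ← hTk, map_mul, map_mul,
          hβ _ (hBk k _ (hrB u hu)) _ (hBk k _ (hrB v hv)), hβ _ (hrB u hu) _ (hrB v hv),
          map_commutatorElement]
    have hBle := hmax (j := B) ⟨fun x hx => hBA x (hZA hx), hBcomm, hBk, hBnorm⟩ hBA
    intro g hg hga
    exact hBle (show g ∈ B from ⟨hg, hga⟩)
  -- some element of `Q` lies outside `A`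
  obtain ⟨g₀, hg₀, hg₀A⟩ : ∃ g ∈ Q, g ∉ A := by
    haveI := hAn
    have hne : A ≠ ⊤ := fun h => by
      obtain ⟨x, y, hxy⟩ := c.noncomm
      exact hxy (hAc x (h ▸ Subgroup.mem_top x) y (h ▸ Subgroup.mem_top y))
    haveI : Nontrivial (P ⧸ A) := QuotientGroup.nontrivial_iff.2 hne
    have hq : IsPGroup 2 (P ⧸ A) := c.two.to_quotient A
    haveI := hq.center_nontrivial
    obtain ⟨n, hn, hcard⟩ := (hq.to_subgroup (Subgroup.center (P ⧸ A))).nontrivial_iff_card.1
      inferInstance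
    obtain ⟨w, hw⟩ := exists_prime_orderOf_dvd_card' 2
      (show 2 ∣ Nat.card (Subgroup.center (P ⧸ A)) by rw [hcard]; exact dvd_pow_self 2 hn.ne')
    obtain ⟨g, hg⟩ := QuotientGroup.mk_surjective (w : P ⧸ A)
    refine ⟨g, ⟨?_, fun p => ?_⟩, fun hgA => ?_⟩
    · rw [← QuotientGroup.eq_one_iff, QuotientGroup.mk_mul, hg, ← Subgroup.coe_mul]
      have := pow_orderOf_eq_one w
      rw [hw, pow_two] at this
      rw [this]; rfl
    · rw [← QuotientGroup.eq_one_iff]
      show QuotientGroup.mk' A ⁅g, p⁆ = 1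
      rw [map_commutatorElement, commutatorElement_eq_one_iff_mul_comm]
      show (g : P ⧸ A) * (p : P ⧸ A) = (p : P ⧸ A) * (g : P ⧸ A)
      rw [hg]
      exact (Subgroup.mem_center_iff.1 w.2 _).symm
    · rw [← QuotientGroup.eq_one_iff, hg] at hgA
      rw [show w = 1 from Subtype.ext hgA, orderOf_one] at hw
      norm_num at hw
  have hf3 : e + 1 ≤ f := by
    by_contra h
    obtain rfl : f = e := by omega
    exact hg₀A (hcent g₀ hg₀ fun a ha =>
      (Subgroup.mem_center_iff.1 (hsmall a ha (hA.exp a ha)) g₀).symm)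
  -- the displacement
  have hδA : ∀ g : P, ∀ a ∈ A, ⁅g, a⁆ ∈ A := fun g a ha => by
    rw [commutatorElement_def]; exact mul_mem (hAn.conj_mem a ha g) (inv_mem ha)
  have hδmul : ∀ g : P, ∀ a ∈ A, ∀ b ∈ A, ⁅g, a * b⁆ = ⁅g, a⁆ * ⁅g, b⁆ := by
    intro g a ha b hb
    rw [show ⁅g, a * b⁆ = ⁅g, a⁆ * (a * ⁅g, b⁆ * a⁻¹) by simp only [commutatorElement_def]; group,
      hAc a ha _ (hδA g b hb), mul_inv_cancel_right]
  have hδpow : ∀ g : P, ∀ a ∈ A, ∀ j : ℕ, ⁅g, a ^ j⁆ = ⁅g, a⁆ ^ j := by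
    intro g a ha j
    induction j with
    | zero => simp
    | succ j ih => rw [pow_succ, pow_succ, hδmul g _ (pow_mem ha j) a ha, ih]
  have hδz : ∀ g : P, ∀ a ∈ Subgroup.center P, ⁅g, a⁆ = 1 := fun g a ha => by
    rw [commutatorElement_eq_one_iff_mul_comm]; exact Subgroup.mem_center_iff.1 ha g
  have hδE : ∀ g ∈ Q, ∀ a ∈ A, ⁅g, a⁆ * ⁅g, a⁆ = 1 := by
    intro g hg
    have hdd : ∀ a ∈ A, ⁅g, ⁅g, a⁆⁆ = (⁅g, a⁆ * ⁅g, a⁆)⁻¹ := by
      intro a ha
      have h1 : (g * g) * a = a * (g * g) := (hAc a ha _ hg.1).symm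
      have e1 : ⁅g * g, a⁆ = 1 := by rw [commutatorElement_def, h1]; group
      have e2 : ⁅g * g, a⁆ = ⁅g, ⁅g, a⁆⁆ * (⁅g, a⁆ * ⁅g, a⁆) := by
        simp only [commutatorElement_def]; group
      exact eq_inv_of_mul_eq_one_left (e2 ▸ e1)
    suffices ∀ k, (∀ a ∈ A, ⁅g, a⁆ ^ 2 ^ k = 1) → ∀ a ∈ A, ⁅g, a⁆ * ⁅g, a⁆ = 1 from
      this f fun a ha => hA.exp _ (hδA g a ha)
    intro k
    induction k using Nat.strong_induction_on with
    | _ k ih =>
      intro hk a ha
      by_cases hk1 : k ≤ 1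
      · have := hk a ha
        interval_cases k
        · rw [pow_zero, pow_one] at this; rw [this, one_mul]
        · rw [pow_one, pow_two] at this; exact this
      by_cases hke : k ≤ e
      · have hx : ⁅g, a⁆ ∈ Subgroup.center P := hsmall _ (hδA g a ha) (by
          rw [show e = k + (e - k) by omega, pow_add, pow_mul, hk a ha, one_pow])
        have h := hdd a ha
        rw [hδz g _ hx] at h
        exact inv_eq_one.1 h.symm
      refine ih (k - e + 1) (by omega) (fun b hb => ?_) a ha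
      have hx : ⁅g, b⁆ ^ 2 ^ (k - e) ∈ Subgroup.center P := hsmall _ (pow_mem (hδA g b hb) _) (by
        rw [← pow_mul, ← pow_add, show k - e + e = k by omega]; exact hk b hb)
      have h := hδpow g _ (hδA g b hb) (2 ^ (k - e))
      rw [hδz g _ hx, hdd b hb, inv_pow, eq_comm, inv_eq_one, ← pow_two, ← pow_mul, ← pow_succ'] at h
      exact h
  have hf3' : 3 ≤ f := by omega
  have hTE : ∀ x ∈ A, x * x = 1 → T x = 1 := fun x _ hx => by
    simp only [hT]
    rw [show f - 1 = (f - 2) + 1 by omega, pow_succ', pow_mul, pow_two, hx, one_pow]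
  have hQT : ∀ g ∈ Q, ∀ h ∈ Q, T (g * h * (g * h)) = T (g * g) * T (h * h) := by
    intro g hg h hh
    set w := ⁅h, g⁆ with hw
    have hwA : w ∈ A := hh.2 g
    set v := g⁻¹ * w * g with hv
    have hvA : v ∈ A := by simpa using hAn.conj_mem w hwA g⁻¹
    have e : g * h * (g * h) = g * g * v * (h * h) := by
      rw [hv, hw]; simp only [commutatorElement_def]; group
    rw [e, hTmul _ (mul_mem hg.1 hvA) _ hh.1, hTmul _ hg.1 _ hvA]
    suffices T v = 1 by rw [this, mul_one]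
    have e3 : ⁅g, v⁆ = w * v⁻¹ := by rw [hv]; simp only [commutatorElement_def]; group
    have hE1 := hδE g hg v hvA
    have e4 : ⁅h, g * g⁆ = w * (g * w * g⁻¹) := by
      rw [hw]; simp only [commutatorElement_def]; group
    have hE2 := hδE h hh (g * g) hg.1
    have e5 : w * (g * w * g⁻¹) = ⁅g, w⁆ * (w * w) := by
      rw [conj_eq_comm, ← mul_assoc, hAc w hwA _ (hδA g w hwA), mul_assoc]
    rw [e4, e5] at hE2
    have hT1 : T (⁅g, w⁆ * (w * w)) = 1 := hTE _ (mul_mem (hδA g w hwA) (mul_mem hwA hwA)) hE2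
    have hw4 : (w * w) * (w * w) = 1 := by
      have hc : Commute ⁅g, w⁆ (w * w) := hAc _ (hδA g w hwA) _ (mul_mem hwA hwA)
      have := hE2
      rw [← pow_two, hc.mul_pow, pow_two, hδE g hg w hwA, one_mul, pow_two] at this
      exact this
    have hTw : T w = 1 := by
      simp only [hT]
      rw [show f - 1 = 2 + (f - 3) by omega, pow_add, pow_mul, show (2 : ℕ) ^ 2 = 2 + 2 by norm_num,
        pow_add, pow_two, hw4, one_pow]
    have hv' : v = ⁅g, v⁆⁻¹ * w := by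
      rw [e3, mul_inv_rev, inv_inv, mul_assoc, inv_mul_cancel, mul_one]
    rw [hv', hTmul _ (inv_mem (hδA g v hvA)) _ hwA, hTw, mul_one]
    exact hTE _ (inv_mem (hδA g v hvA)) (by rw [← mul_inv_rev, hE1, inv_one])
  have hQroot : ∀ g ∈ Q, T (g * g) = 1 → g ∈ A := by
    intro g hg h
    obtain ⟨y, hy, hye⟩ := hTker _ hg.1 h
    have hE := hδE g hg y⁻¹ (inv_mem hy)
    set d := ⁅g, y⁻¹⁆ with hd
    have hsq : g * y⁻¹ * (g * y⁻¹) = d := by
      have e : g * y⁻¹ * (g * y⁻¹) = d * y⁻¹ * (g * g) * y⁻¹ := by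
        rw [hd]; simp only [commutatorElement_def]; group
      rw [e, hye]; group
    have hdA : d ∈ A := hδA g _ (inv_mem hy)
    obtain ⟨t, ht, htt⟩ := hTker d hdA (hTE d hdA hE)
    obtain ⟨s, hs, hst⟩ : ∃ s ∈ A, t = s * s := hTker t ht (by
      simp only [hT]
      rw [show f - 1 = 2 + (f - 3) by omega, pow_add, pow_mul, show (2 : ℕ) ^ 2 = 2 + 2 by norm_num,
        pow_add, pow_two, ← htt, hE, one_pow])
    set g' := g * y⁻¹ with hg'
    have hg'Q : g' ∈ Q := hQmul _ hg _ (hQA _ (inv_mem hy))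
    have hts : ⁅g', t⁻¹⁆ = 1 := by
      rw [hst, _root_.mul_inv_rev, hδmul g' _ (inv_mem hs) _ (inv_mem hs)]
      exact hδE g' hg'Q _ (inv_mem hs)
    rw [commutatorElement_eq_one_iff_mul_comm] at hts
    have : g' * t⁻¹ * (g' * t⁻¹) = 1 := by
      rw [← pow_two, (show Commute g' t⁻¹ from hts).mul_pow, pow_two, pow_two, hsq, htt]; group
    have h2 := mul_mem (mul_mem (hinA this) ht) hy
    simpa [hg'] using h2
  have hsurj : ∀ u, u * u = 1 → ∃ g ∈ Q, T (g * g) = u := by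
    intro u hu
    by_cases h1 : u = 1
    · exact ⟨1, hQA 1 (one_mem _), by simp [hT, h1]⟩
    obtain ⟨k, hk, -⟩ := c.reg _ u (fun h => hg₀A (hQroot g₀ hg₀ h)) (hTone _ hg₀.1) h1 hu
    exact ⟨(k : MulAut P) g₀, hQk k _ hg₀, by rw [← map_mul, hTk, hk]⟩
  have hQinv : ∀ g ∈ Q, g⁻¹ ∈ Q := fun g hg => by
    rw [show g⁻¹ = g * (g * g)⁻¹ by group]
    exact hQmul _ hg _ (hQA _ (inv_mem hg.1))
  have hdepg : ∀ g ∈ Q, ∀ g' ∈ Q, ∀ a ∈ A, T (g * g) = T (g' * g') → ⁅g, a⁆ = ⁅g', a⁆ := by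
    intro g hg g' hg' a ha h
    have hm : g'⁻¹ * g ∈ A := by
      refine hQroot _ (hQmul _ (hQinv _ hg') _ hg) ?_
      have h1 := hQT g' hg' (g'⁻¹ * g) (hQmul _ (hQinv _ hg') _ hg)
      rw [mul_inv_cancel_left, h] at h1
      exact mul_left_cancel (a := T (g' * g')) (by rw [← h1, mul_one])
    have e : g = g' * (g'⁻¹ * g) := by group
    rw [e, show ⁅g' * (g'⁻¹ * g), a⁆ = g' * ⁅g'⁻¹ * g, a⁆ * g'⁻¹ * ⁅g', a⁆ by
      simp only [commutatorElement_def]; group,
      show ⁅g'⁻¹ * g, a⁆ = 1 by rw [commutatorElement_eq_one_iff_mul_comm]; exact hAc _ hm a ha,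
      mul_one, mul_inv_cancel, one_mul]
  have hdepa : ∀ g ∈ Q, ∀ a ∈ A, ∀ b ∈ A, T a = T b → ⁅g, a⁆ = ⁅g, b⁆ := by
    intro g hg a ha b hb h
    have hab : b⁻¹ * a ∈ A := mul_mem (inv_mem hb) ha
    obtain ⟨y, hy, hye⟩ := hTker _ hab (mul_left_cancel (a := T b) (by
      rw [← hTmul _ hb _ hab, mul_inv_cancel_left, h, mul_one]))
    rw [show a = b * (y * y) by rw [← hye, mul_inv_cancel_left], hδmul g _ hb _ (mul_mem hy hy),
      hδmul g _ hy _ hy, hδE g hg y hy, mul_one]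
  choose r hrQ hr using hsurj
  choose s hsA hs using hTsurj
  let β : P → P → P := fun u v => if h : u * u = 1 ∧ v * v = 1 then ⁅r u h.1, s v h.2⁆ else 1
  have hβ : ∀ g ∈ Q, ∀ a ∈ A, β (T (g * g)) (T a) = ⁅g, a⁆ := by
    intro g hg a ha
    have h1 := hTone _ hg.1
    have h2 := hTone _ ha
    simp only [β, dif_pos (And.intro h1 h2)]
    rw [hdepg _ (hrQ _ h1) g hg _ (hsA _ h2) (hr _ h1), hdepa g hg _ (hsA _ h2) a ha (hs _ h2)]
  refine hg₀A (hcent g₀ hg₀ fun a ha => ?_)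
  have := c.bilin_trivial β ?_ ?_ ?_ ?_ ?_ _ _ (hTone _ hg₀.1) (hTone _ ha)
  · rw [hβ g₀ hg₀ a ha, commutatorElement_eq_one_iff_mul_comm] at this
    exact this.symm
  · intro u v hu hv
    rw [← hr u hu, ← hs v hv, hβ _ (hrQ u hu) _ (hsA v hv)]
    exact hδE _ (hrQ u hu) _ (hsA v hv)
  · intro u v w hu hv hw
    rw [← hr u hu, ← hr v hv, ← hs w hw, ← hQT _ (hrQ u hu) _ (hrQ v hv),
      hβ _ (hQmul _ (hrQ u hu) _ (hrQ v hv)) _ (hsA w hw), hβ _ (hrQ u hu) _ (hsA w hw),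
      hβ _ (hrQ v hv) _ (hsA w hw)]
    have hc := c.invol_center (hδE _ (hrQ v hv) _ (hsA w hw))
    rw [show ⁅r u hu * r v hv, s w hw⁆ = r u hu * ⁅r v hv, s w hw⁆ * (r u hu)⁻¹ *
      ⁅r u hu, s w hw⁆ by simp only [commutatorElement_def]; group,
      Subgroup.mem_center_iff.1 hc (r u hu), mul_inv_cancel_right]
    exact (Subgroup.mem_center_iff.1 hc _).symm
  · intro u v w hu hv hw
    rw [← hr u hu, ← hs v hv, ← hs w hw, ← hTmul _ (hsA v hv) _ (hsA w hw),
      hβ _ (hrQ u hu) _ (mul_mem (hsA v hv) (hsA w hw)), hβ _ (hrQ u hu) _ (hsA w hw),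
      hβ _ (hrQ u hu) _ (hsA v hv)]
    exact hδmul _ _ (hsA v hv) _ (hsA w hw)
  · intro u hu
    rw [← hr u hu]
    rw [hβ _ (hrQ u hu) _ (hrQ u hu).1, commutatorElement_eq_one_iff_mul_comm]
    exact (mul_assoc _ _ _).symm
  · intro k u v hu hv
    rw [← hr u hu, ← hs v hv, ← hTk, ← hTk, map_mul,
      hβ _ (hQk k _ (hrQ u hu)) _ (hAK k _ (hsA v hv)), hβ _ (hrQ u hu) _ (hsA v hv),
      map_commutatorElement]

end Ctx

end CfsgLib.Chev.SuzTwo
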