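import Mathlib
import Cfsg.Agent.Lib.Chev.SuzTwoHigman
import Cfsg.Agent.Lib.FixedFree.FreeOrbit

/-!
Higman's theorem on Suzuki 2-groups, second part: the order is `|Z|²` or `|Z|³`, the exponent four.
-/

set_option autoImplicit false

open scoped commutatorElement

namespace CfsgLib.Chev.SuzTwo

/-- An anisotropic quadratic map into a space of dimension `n` lives in dimension at most `2 n`. -/
theorem anisotropic_card_le {V W : Type*} [AddCommGroup V] [Finite V] [AddCommGroup W] [Finite W]
    (hV : ∀ v : V, v + v = 0) (hW : ∀ w : W, w + w = 0) (q : V → W) (c : V →+ V →+ W)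
    (hq : ∀ u v, q (u + v) = q u + q v + c u v) (han : ∀ v, q v = 0 → v = 0) :
    Nat.card V ≤ Nat.card W ^ 2 := by
  classical
  haveI : Fintype V := Fintype.ofFinite V
  haveI : Fintype W := Fintype.ofFinite W
  letI : Module (ZMod 2) V := AddCommGroup.zmodModule fun v => by rw [two_nsmul]; exact hV v
  letI : Module (ZMod 2) W := AddCommGroup.zmodModule fun w => by rw [two_nsmul]; exact hW w
  have hq0 : q 0 = 0 := by
    have h := hq 0 0
    rw [add_zero, map_zero, add_zero] at h
    exact add_left_cancel (a := q 0) (by rw [← h, add_zero])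
  have hdiag : ∀ v, c v v = 0 := fun v => by
    have h := hq v v
    rw [hV, hq0, hW, zero_add] at h
    exact h.symm
  have hsym : ∀ u v, c u v = c v u := fun u v => by
    have h1 := hq u v
    rw [add_comm u v, hq v u, add_comm (q v) (q u)] at h1
    exact (add_left_cancel h1).symm
  set bV := Module.finBasis (ZMod 2) V
  set bW := Module.finBasis (ZMod 2) W
  let B : V →ₗ[ZMod 2] V →ₗ[ZMod 2] W := bV.constr (ZMod 2) fun i => bV.constr (ZMod 2) fun j =>
    if i < j then c (bV i) (bV j) else if i = j then q (bV i) else 0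
  have hB : ∀ i j, B (bV i) (bV j) =
      if i < j then c (bV i) (bV j) else if i = j then q (bV i) else 0 := fun i j => by
    simp only [B, Module.Basis.constr_basis]
  let cL : V →ₗ[ZMod 2] V →ₗ[ZMod 2] W :=
    (AddMonoidHom.mk' (fun u => (c u).toZModLinearMap 2) fun u v => by
      ext w; simp).toZModLinearMap 2
  have hpolar : ∀ u v, c u v = B u v + B v u := by
    have h : cL = B + B.flip := bV.ext fun i => bV.ext fun j => by
      show c (bV i) (bV j) = B (bV i) (bV j) + B (bV j) (bV i)
      rw [hB, hB]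
      rcases lt_trichotomy i j with h | h | h
      · rw [if_pos h, if_neg (lt_asymm h), if_neg h.ne', add_zero]
      · subst h
        rw [if_neg (lt_irrefl i), if_pos rfl, hdiag, hW]
      · rw [if_neg (lt_asymm h), if_neg h.ne', if_pos h, zero_add, hsym]
    intro u v
    exact LinearMap.congr_fun (LinearMap.congr_fun h u) v
  let r : V →+ W := AddMonoidHom.mk' (fun v => q v - B v v) fun u v => by
    simp only [map_add, LinearMap.add_apply]
    rw [hq, hpolar]
    abel
  have hr : r.toZModLinearMap 2 = 0 := bV.ext fun i => by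
    show q (bV i) - B (bV i) (bV i) = 0
    rw [hB, if_neg (lt_irrefl i), if_pos rfl, sub_self]
  have hqB : ∀ v, q v = B v v := fun v => by
    have h := LinearMap.congr_fun hr v
    exact sub_eq_zero.1 h
  by_contra hlt
  push Not at hlt
  rw [Nat.card_eq_fintype_card (α := V), Nat.card_eq_fintype_card (α := W),
    Module.card_eq_pow_finrank (K := ZMod 2) (V := V), Module.card_eq_pow_finrank (K := ZMod 2) (V := W),
    ZMod.card, ← pow_mul, Nat.pow_lt_pow_iff_right (by norm_num)] at hlt
  set N := Module.finrank (ZMod 2) V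
  set n := Module.finrank (ZMod 2) W
  let F : Fin n → MvPolynomial (Fin N) (ZMod 2) := fun k => ∑ i, ∑ j,
    MvPolynomial.C (bW.repr (B (bV i) (bV j)) k) * MvPolynomial.X i * MvPolynomial.X j
  have hdeg : ∀ k, (F k).totalDegree ≤ 2 := fun k => by
    refine MvPolynomial.totalDegree_finsetSum_le fun i _ => ?_
    refine MvPolynomial.totalDegree_finsetSum_le fun j _ => ?_
    refine (MvPolynomial.totalDegree_mul _ _).trans ?_
    rw [MvPolynomial.totalDegree_X]
    refine Nat.add_le_add_right ((MvPolynomial.totalDegree_mul _ _).trans ?_) 1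
    rw [MvPolynomial.totalDegree_X, MvPolynomial.totalDegree_C]
  have hev : ∀ (x : Fin N → ZMod 2) (k : Fin n),
      MvPolynomial.eval x (F k) = bW.repr (B (bV.equivFun.symm x) (bV.equivFun.symm x)) k := by
    intro x k
    simp only [F, Module.Basis.equivFun_symm_apply, map_sum, LinearMap.sum_apply, LinearMap.map_smul,
      LinearMap.smul_apply, Finsupp.coe_finset_sum, Finset.sum_apply, map_smul, Finsupp.coe_smul,
      Pi.smul_apply, smul_eq_mul, map_mul, MvPolynomial.eval_C, MvPolynomial.eval_X]
    rw [Finset.sum_comm]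
    refine Finset.sum_congr rfl fun j _ => ?_
    rw [Finset.mul_sum]
    exact Finset.sum_congr rfl fun i _ => by ring
  have hsum : (∑ k, (F k).totalDegree) < Fintype.card (Fin N) := by
    refine lt_of_le_of_lt (Finset.sum_le_sum fun k _ => hdeg k) ?_
    simpa [mul_comm] using hlt
  have h2 := char_dvd_card_solutions_of_fintype_sum_lt 2 hsum
  have h1 : Fintype.card { x : Fin N → ZMod 2 // ∀ k, MvPolynomial.eval x (F k) = 0 } = 1 := by
    refine Fintype.card_eq_one_iff.2 ⟨⟨0, fun k => by rw [hev]; simp⟩, fun ⟨x, hx⟩ => Subtype.ext ?_⟩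
    have hv : q (bV.equivFun.symm x) = 0 := by
      rw [hqB]
      refine bW.repr.injective (Finsupp.ext fun k => ?_)
      rw [← hev, hx k]; simp
    exact bV.equivFun.symm.map_eq_zero_iff.1 (han _ hv)
  have h3 : 2 ∣ 1 := by
    convert! h2 using 1
    convert! h1.symm
  norm_num at h3

variable {P : Type*} [Group P] {K : Subgroup (MulAut P)}

namespace Ctx

variable (c : Ctx P K)
include c

lemma center_card : ∃ n, 2 ≤ n ∧ Nat.card (Subgroup.center P) = 2 ^ n := by
  classical
  haveI := c.fin
  haveI : Fact (Nat.Prime 2) := ⟨Nat.prime_two⟩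
  obtain ⟨n, hn⟩ := IsPGroup.iff_card.1 (c.two.to_subgroup (Subgroup.center P))
  refine ⟨n, ?_, hn⟩
  obtain ⟨x, y, hxy, hx1, hxx, hy1, hyy⟩ := c.two_invol
  haveI : Fintype (Subgroup.center P) := Fintype.ofFinite _
  have h3 : 3 ≤ Nat.card (Subgroup.center P) := by
    rw [Nat.card_eq_fintype_card]
    refine le_trans (le_of_eq ?_) (Finset.card_le_univ
      ({1, ⟨x, c.invol_center hxx⟩, ⟨y, c.invol_center hyy⟩} : Finset (Subgroup.center P)))
    symm
    exact Finset.card_eq_three.2 ⟨_, _, _, fun h => hx1 (congrArg Subtype.val h).symm,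
      fun h => hy1 (congrArg Subtype.val h).symm, fun h => hxy (congrArg Subtype.val h), rfl⟩
  rw [hn] at h3
  rcases n with - | - | n <;> simp at h3 ⊢

lemma card_group : Nat.card K = Nat.card (Subgroup.center P) - 1 := by
  classical
  haveI := c.fin
  haveI : Fintype (Subgroup.center P) := Fintype.ofFinite _
  obtain ⟨x, -, -, hx1, hxx, -, -⟩ := c.two_invol
  let t : K → {z : Subgroup.center P // z ≠ 1} := fun k =>
    ⟨⟨(k : MulAut P) x, center_inv _ (c.invol_center hxx)⟩, fun h => hx1 ((k : MulAut P).injective (by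
      rw [map_one]; exact congrArg Subtype.val h))⟩
  have ht : Function.Bijective t := by
    constructor
    · intro a b h
      have h' : (a : MulAut P) x = (b : MulAut P) x := congrArg (fun z => (z.1 : P)) h
      have ha : (b : MulAut P) x ≠ 1 := fun e => hx1 ((b : MulAut P).injective (by rw [e, map_one]))
      exact (c.reg x _ hx1 hxx ha (by rw [← map_mul, hxx, map_one])).unique h' rfl
    · rintro ⟨z, hz⟩
      obtain ⟨k, hk, -⟩ := c.reg x z hx1 hxx (fun e => hz (Subtype.ext e)) (c.center_elem z.2)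
      exact ⟨k, Subtype.ext (Subtype.ext hk)⟩
  rw [Nat.card_congr (Equiv.ofBijective t ht), Nat.card_eq_fintype_card, Nat.card_eq_fintype_card,
    Fintype.card_subtype_compl, Fintype.card_subtype_eq]

lemma comm_mem_center (x y : P) : x⁻¹ * y⁻¹ * x * y ∈ Subgroup.center P := by
  rw [show x⁻¹ * y⁻¹ * x * y = x⁻¹ * x⁻¹ * (x * y⁻¹ * (x * y⁻¹)) * (y * y) by group]
  exact mul_mem (mul_mem (c.sq_mem_center _) (c.sq_mem_center _)) (c.sq_mem_center _)

theorem exponent_four : Monoid.exponent P = 4 := by
  have h4 : ∀ x : P, x ^ (2 ^ 2) = 1 := fun x => by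
    have := c.center_elem (c.sq_mem_center x)
    simpa [pow_succ, mul_assoc] using this
  obtain ⟨k, hk, he⟩ := (Nat.dvd_prime_pow Nat.prime_two).1 (Monoid.exponent_dvd_of_forall_pow_eq_one h4)
  rw [he]
  obtain ⟨x, y, hxy⟩ := c.noncomm
  rcases hk.lt_or_eq with hlt | rfl
  · exfalso
    have hx2 : x ^ 2 = 1 := by
      have h := Monoid.pow_exponent_eq_one x
      rw [he] at h
      rw [show 2 = 2 ^ k * 2 ^ (1 - k) by
        rw [← pow_add, show k + (1 - k) = 1 by omega, pow_one], pow_mul, h, one_pow]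
    exact hxy (Subgroup.mem_center_iff.1 (c.invol_center (by rwa [pow_two] at hx2)) y).symm
  · norm_num

theorem card_cases :
    Nat.card P = Nat.card (Subgroup.center P) ^ 2 ∨ Nat.card P = Nat.card (Subgroup.center P) ^ 3 := by
  classical
  haveI := c.fin
  haveI : Fact (Nat.Prime 2) := ⟨Nat.prime_two⟩
  obtain ⟨n, hn, hZn⟩ := c.center_card
  have hcom : ∀ {z : P}, z ∈ Subgroup.center P → ∀ p, z * p = p * z := fun hz p =>
    (Subgroup.mem_center_iff.1 hz p).symm
  let V := Additive (P ⧸ Subgroup.center P)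
  letI : AddCommGroup V := { (inferInstance : AddGroup V) with
    add_comm := fun a b => by
      obtain ⟨p, hp⟩ := QuotientGroup.mk_surjective (Additive.toMul a)
      obtain ⟨q, hq⟩ := QuotientGroup.mk_surjective (Additive.toMul b)
      apply Additive.toMul.injective
      show Additive.toMul a * Additive.toMul b = Additive.toMul b * Additive.toMul a
      rw [← hp, ← hq, ← QuotientGroup.mk_mul, ← QuotientGroup.mk_mul]
      exact QuotientGroup.eq.2 (by
        rw [show (p * q)⁻¹ * (q * p) = q⁻¹ * p⁻¹ * q * p by group]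
        exact c.comm_mem_center q p) }
  let W := Additive ↥(Subgroup.center P)
  letI : AddCommGroup W := { (inferInstance : AddGroup W) with
    add_comm := fun a b => congrArg Additive.ofMul (Subtype.ext
      (hcom (Additive.toMul a).2 (Additive.toMul b).1)) }
  let π : P → V := fun p => Additive.ofMul (p : P ⧸ Subgroup.center P)
  have hπ : ∀ v : V, ∃ p, π p = v := fun v => by
    obtain ⟨p, hp⟩ := QuotientGroup.mk_surjective (Additive.toMul v)
    exact ⟨p, congrArg Additive.ofMul hp⟩
  let sqW : P → W := fun p => Additive.ofMul ⟨p * p, c.sq_mem_center p⟩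
  let cmW : P → P → W := fun p r => Additive.ofMul ⟨p⁻¹ * r⁻¹ * p * r, c.comm_mem_center p r⟩
  have hval : ∀ {a b : W}, (Additive.toMul a).1 = (Additive.toMul b).1 → a = b := fun h =>
    Additive.toMul.injective (Subtype.ext h)
  have hcml : ∀ p p' r, cmW (p * p') r = cmW p r + cmW p' r := fun p p' r => hval (by
    show (p * p')⁻¹ * r⁻¹ * (p * p') * r = p⁻¹ * r⁻¹ * p * r * (p'⁻¹ * r⁻¹ * p' * r)
    rw [hcom (c.comm_mem_center p r) (p'⁻¹ * r⁻¹ * p' * r)]
    rw [show (p * p')⁻¹ * r⁻¹ * (p * p') * r =
        p'⁻¹ * (p⁻¹ * r⁻¹ * p * r) * (r⁻¹ * p' * r) by group,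
      ← hcom (c.comm_mem_center p r) p'⁻¹, mul_assoc, hcom (c.comm_mem_center p r)]
    group)
  have hcmr : ∀ p r r', cmW p (r * r') = cmW p r + cmW p r' := fun p r r' => hval (by
    show p⁻¹ * (r * r')⁻¹ * p * (r * r') = p⁻¹ * r⁻¹ * p * r * (p⁻¹ * r'⁻¹ * p * r')
    rw [hcom (c.comm_mem_center p r) (p⁻¹ * r'⁻¹ * p * r')]
    rw [show p⁻¹ * (r * r')⁻¹ * p * (r * r') =
        p⁻¹ * r'⁻¹ * p * (p⁻¹ * r⁻¹ * p * r) * r' by group,
      mul_assoc (p⁻¹ * r'⁻¹ * p), hcom (c.comm_mem_center p r) r']
    group)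
  have hcmz : ∀ z ∈ Subgroup.center P, ∀ r, cmW z r = 0 ∧ cmW r z = 0 := fun z hz r => by
    constructor <;> refine hval ?_
    · show z⁻¹ * r⁻¹ * z * r = 1
      rw [mul_assoc, hcom hz r]; group
    · show r⁻¹ * z⁻¹ * r * z = 1
      rw [mul_assoc _ r z, ← hcom hz r]; group
  have hwd : ∀ p p', π p = π p' → sqW p = sqW p' ∧ ∀ r, cmW p r = cmW p' r ∧ cmW r p = cmW r p' := by
    intro p p' h
    have hz : p'⁻¹ * p ∈ Subgroup.center P := QuotientGroup.eq.1 (Additive.ofMul.injective h.symm)
    set z := p'⁻¹ * p with hzd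
    have hp : p = p' * z := by rw [hzd]; group
    refine ⟨hval ?_, fun r => ⟨?_, ?_⟩⟩
    · show p * p = p' * p'
      rw [hp, mul_assoc, ← mul_assoc z, hcom hz p', mul_assoc, c.center_elem hz, mul_one]
    · rw [hp, hcml, (hcmz z hz r).1, add_zero]
    · rw [hp, hcmr, (hcmz z hz r).2, add_zero]
  choose s hs using hπ
  have hs' : ∀ p, π (s (π p)) = π p := fun p => hs _
  let cH : V →+ V →+ W := AddMonoidHom.mk'
    (fun u => AddMonoidHom.mk' (fun v => cmW (s u) (s v)) fun v v' => by
      rw [← hcmr]; exact ((hwd _ (s v * s v') (by rw [hs]; show v + v' = π (s v) + π (s v'); rw [hs, hs])).2 _).2)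
    fun u u' => by
      refine AddMonoidHom.ext fun v => ?_
      show cmW (s (u + u')) (s v) = cmW (s u) (s v) + cmW (s u') (s v)
      rw [← hcml]
      exact ((hwd _ (s u * s u') (by rw [hs]; show u + u' = π (s u) + π (s u'); rw [hs, hs])).2 _).1
  let q : V → W := fun v => sqW (s v)
  have hqadd : ∀ u v, q (u + v) = q u + q v + cH u v := by
    intro u v
    have h1 := (hwd _ (s u * s v) (by rw [hs]; show u + v = π (s u) + π (s v); rw [hs, hs] :
      π (s (u + v)) = π (s u * s v))).1
    show sqW (s (u + v)) = sqW (s u) + sqW (s v) + cmW (s u) (s v)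
    rw [h1]
    refine hval ?_
    show s u * s v * (s u * s v) = s u * s u * (s v * s v) * ((s u)⁻¹ * (s v)⁻¹ * s u * s v)
    set a := s u
    set b := s v
    have e : b⁻¹ * a⁻¹ * b * a ∈ Subgroup.center P := c.comm_mem_center b a
    have hinv : a⁻¹ * b⁻¹ * a * b = (b⁻¹ * a⁻¹ * b * a)⁻¹ := by group
    rw [hinv, inv_eq_of_mul_eq_one_right (c.center_elem e),
      show a * b * (a * b) = a * a * b * (b⁻¹ * a⁻¹ * b * a) * b by group,
      mul_assoc _ (b⁻¹ * a⁻¹ * b * a) b, hcom e b]
    group
  have hW : ∀ w : W, w + w = 0 := fun w => hval (c.center_elem (Additive.toMul w).2)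
  have hV : ∀ v : V, v + v = 0 := fun v => by
    rw [← hs v]
    show Additive.ofMul ((s v * s v : P) : P ⧸ Subgroup.center P) = 0
    exact congrArg Additive.ofMul ((QuotientGroup.eq_one_iff _).2 (c.sq_mem_center (s v)))
  have han : ∀ v, q v = 0 → v = 0 := fun v h => by
    have h' : s v * s v = 1 := congrArg (fun w : W => (Additive.toMul w).1) h
    rw [← hs v]
    exact congrArg Additive.ofMul ((QuotientGroup.eq_one_iff _).2 (c.invol_center h'))
  have hle := anisotropic_card_le hV hW q cH hqadd han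
  have hcV : Nat.card V = Nat.card (P ⧸ Subgroup.center P) := Nat.card_congr Additive.toMul
  have hcW : Nat.card W = 2 ^ n := (Nat.card_congr Additive.toMul).trans hZn
  obtain ⟨N, hN⟩ := IsPGroup.iff_card.1 (c.two.to_quotient (Subgroup.center P))
  rw [hcV, hN, hcW, ← pow_mul, Nat.pow_le_pow_iff_right (by norm_num)] at hle
  -- semiregularity
  let φ : K →* MulAut (P ⧸ Subgroup.center P) :=
    { toFun := fun k => QuotientGroup.congr (Subgroup.center P) (Subgroup.center P) (k : MulAut P)
        (by
          refine le_antisymm ?_ fun z hz => ?_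
          · rintro _ ⟨z, hz, rfl⟩; exact center_inv _ hz
          · exact ⟨((k⁻¹ : K) : MulAut P) z, center_inv _ hz, apply_inv_apply k z⟩)
      map_one' := by
        ext x
        induction x using QuotientGroup.induction_on with
        | H p => rfl
      map_mul' := fun a b => by
        ext x
        induction x using QuotientGroup.induction_on with
        | H p => rfl }
  have hsemi : ∀ k : K, k ≠ 1 → ∀ y, φ k y = y → y = 1 := by
    intro k hk y hy
    induction y using QuotientGroup.induction_on with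
    | H g =>
      have hz : g⁻¹ * (k : MulAut P) g ∈ Subgroup.center P := QuotientGroup.eq.1 hy.symm
      obtain ⟨h, hh, he⟩ := c.exists_twist hk (Subgroup.center P) (fun x hx => center_inv _ hx) hz
      rw [c.twist_inj hk he, QuotientGroup.eq_one_iff]
      exact hh
  haveI : Finite K := Nat.finite_of_card_ne_zero (by
    rw [c.card_group, hZn]; have := Nat.one_lt_two_pow (n := n) (by omega); omega)
  have hdvd := CfsgLib.FixedFree.card_dvd_of_free φ hsemi
  rw [c.card_group, hZn, hN] at hdvd
  have hg : 2 ^ Nat.gcd n N - 1 = 2 ^ n - 1 := by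
    rw [← Nat.pow_sub_one_gcd_pow_sub_one 2 n N]
    exact Nat.gcd_eq_left hdvd
  have hnN : n ∣ N := by
    have h1 := Nat.one_le_two_pow (n := Nat.gcd n N)
    have h2 := Nat.one_le_two_pow (n := n)
    rw [← Nat.pow_right_injective le_rfl (show 2 ^ Nat.gcd n N = 2 ^ n by omega)]
    exact Nat.gcd_dvd_right n N
  have hN0 : N ≠ 0 := fun h => by
    obtain ⟨x, y, hxy⟩ := c.noncomm
    rw [h, pow_zero, ← Subgroup.index_eq_card, Subgroup.index_eq_one] at hN
    exact hxy (hcom (hN ▸ Subgroup.mem_top x) y)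
  have hcard := Subgroup.card_eq_card_quotient_mul_card_subgroup (Subgroup.center P)
  rw [hN, hZn] at hcard
  obtain ⟨m, rfl⟩ := hnN
  have hm2 : m ≤ 2 := Nat.le_of_mul_le_mul_left hle (by omega)
  rw [hcard, hZn, ← pow_add, ← pow_mul, ← pow_mul]
  rcases Nat.lt_or_ge m 2 with h | h
  · obtain rfl : m = 1 := by
      rcases m with - | m
      · exact absurd (mul_zero n) hN0
      · omega
    exact Or.inl (by ring_nf)
  · obtain rfl : m = 2 := by omega
    exact Or.inr (by ring_nf)

end Ctx

end CfsgLib.Chev.SuzTwo
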