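import Mathlib
import Cfsg.Agent.Lib.Chev.SuzukiTwo

/-!
Suzuki 2-groups of order `|Z|²` are of type A.
-/

set_option autoImplicit false

open scoped commutatorElement

namespace CfsgLib.Chev.SuzTwo

open Matrix

variable {F : Type*} [Field F]

/-- The matrices of the group of type A. -/
def amat (φ : F →+* F) (x y : F) : Matrix (Fin 3) (Fin 3) F := !![1, 0, 0; x, 1, 0; y, φ x, 1]

lemma amat_mul (φ : F →+* F) (x y x' y' : F) :
    amat φ x y * amat φ x' y' = amat φ (x + x') (y + y' + φ x * x') := by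
  ext i j
  fin_cases i <;> fin_cases j <;> simp [amat, Matrix.mul_apply, Fin.sum_univ_three] <;> ring

lemma amat_zero (φ : F →+* F) : amat φ 0 0 = 1 := by
  ext i j
  fin_cases i <;> fin_cases j <;> simp [amat]

/-- An element of type A. -/
def aelt (φ : F →+* F) (x y : F) : GL (Fin 3) F :=
  ⟨amat φ x y, amat φ (-x) (-y + φ x * x),
    by rw [amat_mul, ← amat_zero φ]; congr 1 <;> ring,
    by rw [amat_mul, ← amat_zero φ, map_neg]; congr 1 <;> ring⟩

lemma aelt_mul (φ : F →+* F) (x y x' y' : F) :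
    aelt φ x y * aelt φ x' y' = aelt φ (x + x') (y + y' + φ x * x') :=
  Units.ext (amat_mul φ x y x' y')

lemma aelt_inj {φ : F →+* F} {x y x' y' : F} (h : aelt φ x y = aelt φ x' y') : x = x' ∧ y = y' := by
  have h0 : amat φ x y = amat φ x' y' := congrArg Units.val h
  have h1 := congrFun (congrFun h0 1) 0
  have h2 := congrFun (congrFun h0 2) 0
  simp [amat] at h1 h2
  exact ⟨h1, h2⟩

lemma mem_typeA {φ : F →+* F} {g : GL (Fin 3) F} :
    g ∈ Cfsg.suzukiTypeA F φ ↔ ∃ x y, g = aelt φ x y := by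
  constructor
  · intro h
    induction h using Subgroup.closure_induction with
    | mem g hg => obtain ⟨x, y, hxy⟩ := hg; exact ⟨x, y, Units.ext hxy⟩
    | one => exact ⟨0, 0, Units.ext (amat_zero φ).symm⟩
    | mul g h _ _ hg hh =>
      obtain ⟨x, y, rfl⟩ := hg
      obtain ⟨x', y', rfl⟩ := hh
      exact ⟨_, _, aelt_mul φ x y x' y'⟩
    | inv g _ hg =>
      obtain ⟨x, y, rfl⟩ := hg
      exact ⟨-x, -y + φ x * x, Units.ext rfl⟩
  · rintro ⟨x, y, rfl⟩
    exact Subgroup.subset_closure ⟨x, y, rfl⟩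

section Ext

variable {P : Type*} [Group P]

/-- A group with a central subgroup of squares matching `x φ(x)` is of type A. -/
theorem iso_typeA [CharP F 2] (φ : F →+* F) (πP : P →* Multiplicative F)
    (hπP : Function.Surjective πP) (iP : Multiplicative F →* P) (hiP : Function.Injective iP)
    (hkP : πP.ker = iP.range) (hcP : ∀ w p, iP w * p = p * iP w)
    (hsP : ∀ p, p * p = iP (Multiplicative.ofAdd
      ((Multiplicative.toAdd (πP p)) * φ (Multiplicative.toAdd (πP p))))) :
    Nonempty (P ≃* Cfsg.suzukiTypeA F φ) := by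
  classical
  have hx : ∀ g : ↥(Cfsg.suzukiTypeA F φ),
      (g : GL (Fin 3) F) = aelt φ (((g : GL (Fin 3) F) : Matrix (Fin 3) (Fin 3) F) 1 0)
        (((g : GL (Fin 3) F) : Matrix (Fin 3) (Fin 3) F) 2 0) := by
    rintro ⟨g, hg⟩
    obtain ⟨x, y, rfl⟩ := mem_typeA.1 hg
    simp [aelt, amat]
  let πA : ↥(Cfsg.suzukiTypeA F φ) →* Multiplicative F :=
    MonoidHom.mk' (fun g => Multiplicative.ofAdd (((g : GL (Fin 3) F) : Matrix (Fin 3) (Fin 3) F) 1 0))
      fun g h => by
        have e := congrArg (fun u : GL (Fin 3) F => (u : Matrix (Fin 3) (Fin 3) F) 1 0)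
          ((congrArg₂ (· * ·) (hx g) (hx h)).trans (aelt_mul φ _ _ _ _))
        simp only [aelt, amat] at e
        rw [← ofAdd_add]
        exact congrArg Multiplicative.ofAdd (by simpa using e)
  let iA : Multiplicative F →* ↥(Cfsg.suzukiTypeA F φ) :=
    MonoidHom.mk' (fun w => ⟨aelt φ 0 (Multiplicative.toAdd w), mem_typeA.2 ⟨_, _, rfl⟩⟩)
      fun w w' => Subtype.ext (by
        show aelt φ 0 _ = aelt φ 0 _ * aelt φ 0 _
        rw [aelt_mul]; simp)
  refine iso_of_sq (fun v => CharTwo.add_self_eq_zero v) πP hπP iP hiP hkP hcP πA ?_ iA ?_ ?_ ?_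
    (fun v => Multiplicative.ofAdd (Multiplicative.toAdd v * φ (Multiplicative.toAdd v))) hsP ?_
  · intro v
    refine ⟨⟨aelt φ (Multiplicative.toAdd v) 0, mem_typeA.2 ⟨_, _, rfl⟩⟩, ?_⟩
    simp [πA, aelt, amat]
  · intro w w' h
    exact Multiplicative.toAdd.injective (aelt_inj (congrArg Subtype.val h)).2
  · ext g
    constructor
    · intro hg
      have hg' : ((g : GL (Fin 3) F) : Matrix (Fin 3) (Fin 3) F) 1 0 = 0 :=
        congrArg Multiplicative.toAdd (MonoidHom.mem_ker.1 hg)
      refine ⟨Multiplicative.ofAdd (((g : GL (Fin 3) F) : Matrix (Fin 3) (Fin 3) F) 2 0),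
        Subtype.ext ?_⟩
      conv_rhs => rw [hx g, hg']
      rfl
    · rintro ⟨w, rfl⟩
      simp [MonoidHom.mem_ker, πA, iA, aelt, amat]
  · intro w g
    refine Subtype.ext ?_
    show aelt φ 0 _ * (g : GL (Fin 3) F) = (g : GL (Fin 3) F) * aelt φ 0 _
    rw [hx g, aelt_mul, aelt_mul]
    simp [add_comm]
  · intro g
    refine Subtype.ext ?_
    show (g : GL (Fin 3) F) * (g : GL (Fin 3) F) = aelt φ 0 _
    conv_lhs => rw [hx g, aelt_mul, CharTwo.add_self_eq_zero, CharTwo.add_self_eq_zero, zero_add]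
    simp [πA, mul_comm]

end Ext

variable {P : Type*} [Group P] {K : Subgroup (MulAut P)}

set_option maxHeartbeats 1000000 in
/-- Higman's theorem for `|P| = |Z|²`. -/
theorem Ctx.typeA (c : Ctx P K) (hcard : Nat.card P = Nat.card (Subgroup.center P) ^ 2) :
    ∃ (F : Type) (_ : Field F) (_ : Fintype F) (φ : F ≃+* F),
      Fintype.card F = Nat.card (Subgroup.center P) ∧ φ ≠ RingEquiv.refl F ∧ Odd (orderOf φ) ∧
      Nonempty (P ≃* Cfsg.suzukiTypeA F (φ : F →+* F)) := by
  classical
  haveI := c.fin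
  haveI : Fact (Nat.Prime 2) := ⟨Nat.prime_two⟩
  obtain ⟨e₀, e₁, he01, he₀, hee₀, he₁, hee₁⟩ := c.two_invol
  have hsq : ∀ {x : P}, x ∈ Subgroup.center P → x * x = 1 := c.center_elem
  have hcom : ∀ {z : P}, z ∈ Subgroup.center P → ∀ p, z * p = p * z := fun hz p =>
    (Subgroup.mem_center_iff.1 hz p).symm
  have hqcard : Nat.card (P ⧸ Subgroup.center P) = Nat.card (Subgroup.center P) := by
    have h := Subgroup.card_eq_card_quotient_mul_card_subgroup (Subgroup.center P)
    rw [hcard, pow_two] at h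
    exact (Nat.eq_of_mul_eq_mul_right Nat.card_pos h).symm
  obtain ⟨g₀, hg₀, hg₀2, hg₀p⟩ : ∃ g, g ∉ Subgroup.center P ∧ g * g ∈ Subgroup.center P ∧
      ∀ p, ⁅g, p⁆ ∈ Subgroup.center P := by
    have hne : Subgroup.center P ≠ ⊤ := fun h => by
      obtain ⟨x, y, hxy⟩ := c.noncomm
      exact hxy (hcom (h ▸ Subgroup.mem_top x) y)
    haveI : Nontrivial (P ⧸ Subgroup.center P) := QuotientGroup.nontrivial_iff.2 hne
    have hq : IsPGroup 2 (P ⧸ Subgroup.center P) := c.two.to_quotient _
    haveI := hq.center_nontrivial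
    obtain ⟨n, hn, hc⟩ := (hq.to_subgroup (Subgroup.center (P ⧸ Subgroup.center P))).nontrivial_iff_card.1
      inferInstance
    obtain ⟨w, hw⟩ := exists_prime_orderOf_dvd_card' 2
      (show 2 ∣ Nat.card (Subgroup.center (P ⧸ Subgroup.center P)) by
        rw [hc]; exact dvd_pow_self 2 hn.ne')
    obtain ⟨g, hg⟩ := QuotientGroup.mk_surjective (w : P ⧸ Subgroup.center P)
    refine ⟨g, fun hgZ => ?_, ?_, fun p => ?_⟩
    · rw [← QuotientGroup.eq_one_iff, hg] at hgZ
      rw [show w = 1 from Subtype.ext hgZ, orderOf_one] at hw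
      norm_num at hw
    · rw [← QuotientGroup.eq_one_iff, QuotientGroup.mk_mul, hg, ← Subgroup.coe_mul]
      have := pow_orderOf_eq_one w
      rw [hw, pow_two] at this
      rw [this]; rfl
    · rw [← QuotientGroup.eq_one_iff]
      show QuotientGroup.mk' (Subgroup.center P) ⁅g, p⁆ = 1
      rw [map_commutatorElement, commutatorElement_eq_one_iff_mul_comm]
      show (g : P ⧸ Subgroup.center P) * (p : P ⧸ Subgroup.center P) =
        (p : P ⧸ Subgroup.center P) * (g : P ⧸ Subgroup.center P)
      rw [hg]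
      exact (Subgroup.mem_center_iff.1 w.2 _).symm
  have hsqz : ∀ (g : P) {z : P}, z ∈ Subgroup.center P → g * z * (g * z) = g * g := fun g z hz => by
    rw [mul_assoc, ← mul_assoc z, hcom hz g, mul_assoc, hsq hz, mul_one]
  have hinvz : ∀ {x : P}, x * x = 1 → x ∈ Subgroup.center P := c.invol_center
  have hg₀1 : g₀ * g₀ ≠ 1 := fun h => hg₀ (hinvz h)
  -- a section of the squaring map
  have hsec : ∀ z : Subgroup.center P, ∃ g : P, g * g = z ∧ ∀ p, ⁅g, p⁆ ∈ Subgroup.center P := by
    intro z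
    by_cases hz : (z : P) = 1
    · exact ⟨1, by rw [one_mul, hz], fun p => by simp⟩
    · obtain ⟨k, hk, -⟩ := c.reg _ _ hg₀1 (hsq hg₀2) hz (hsq z.2)
      refine ⟨(k : MulAut P) g₀, by rw [← map_mul, hk], fun p => ?_⟩
      obtain ⟨p', rfl⟩ := (k : MulAut P).surjective p
      rw [← map_commutatorElement]
      exact Ctx.center_inv _ (hg₀p p')
  choose sec hsec1 hsec2 using hsec
  let j : Subgroup.center P → P ⧸ Subgroup.center P := fun z => (sec z : P)
  have hj : Function.Bijective j := by
    have hinj : Function.Injective j := by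
      intro z z' h
      have hm : (sec z)⁻¹ * sec z' ∈ Subgroup.center P := QuotientGroup.eq.1 h
      refine Subtype.ext ?_
      rw [← hsec1 z, ← hsec1 z', ← hsqz (sec z) hm, mul_inv_cancel_left]
    exact (Nat.bijective_iff_injective_and_card j).2 ⟨hinj, hqcard.symm⟩
  have hall : ∀ p : P, ∃ z : Subgroup.center P, ∃ w ∈ Subgroup.center P, p = sec z * w := by
    intro p
    obtain ⟨z, hz⟩ := hj.2 (p : P ⧸ Subgroup.center P)
    exact ⟨z, (sec z)⁻¹ * p, QuotientGroup.eq.1 hz, by group⟩
  have hp2 : ∀ p : P, p * p ∈ Subgroup.center P := fun p => by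
    obtain ⟨z, w, hw, rfl⟩ := hall p
    rw [hsqz _ hw, hsec1]; exact z.2
  have hpc : ∀ p q : P, ⁅p, q⁆ ∈ Subgroup.center P := fun p q => by
    obtain ⟨z, w, hw, rfl⟩ := hall p
    rw [show ⁅sec z * w, q⁆ = sec z * ⁅w, q⁆ * (sec z)⁻¹ * ⁅sec z, q⁆ by
      simp only [commutatorElement_def]; group,
      show ⁅w, q⁆ = 1 by rw [commutatorElement_eq_one_iff_mul_comm]; exact hcom hw q, mul_one,
      mul_inv_cancel, one_mul]
    exact hsec2 z q
  have hsinj : ∀ p q : P, p * p = q * q → (p : P ⧸ Subgroup.center P) = (q : P ⧸ Subgroup.center P) := by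
    intro p q h
    obtain ⟨z, w, hw, rfl⟩ := hall p
    obtain ⟨z', w', hw', rfl⟩ := hall q
    rw [hsqz _ hw, hsqz _ hw', hsec1, hsec1] at h
    rw [Subtype.ext h]
    exact QuotientGroup.eq.2 (by
      rw [_root_.mul_inv_rev, mul_assoc, inv_mul_cancel_left]; exact mul_mem (inv_mem hw) hw')
  -- the quotient as an additive group
  let V := Additive (P ⧸ Subgroup.center P)
  letI : AddCommGroup V := { (inferInstance : AddGroup V) with
    add_comm := fun a b => by
      obtain ⟨p, hp⟩ := QuotientGroup.mk_surjective (Additive.toMul a)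
      obtain ⟨q, hq⟩ := QuotientGroup.mk_surjective (Additive.toMul b)
      apply Additive.toMul.injective
      show Additive.toMul a * Additive.toMul b = Additive.toMul b * Additive.toMul a
      rw [← hp, ← hq, ← QuotientGroup.mk_mul, ← QuotientGroup.mk_mul]
      exact QuotientGroup.eq.2 (by
        rw [show (p * q)⁻¹ * (q * p) = ⁅q⁻¹, p⁻¹⁆ by simp only [commutatorElement_def]; group]
        exact hpc _ _) }
  let E := Additive ↥(Subgroup.center P)
  letI : AddCommGroup E := { (inferInstance : AddGroup E) with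
    add_comm := fun a b => congrArg Additive.ofMul (Subtype.ext
      (hcom (Additive.toMul a).2 (Additive.toMul b).1)) }
  let qmap : MulAut P → (P ⧸ Subgroup.center P →* P ⧸ Subgroup.center P) := fun k =>
    QuotientGroup.map _ _ k.toMonoidHom fun x hx => Ctx.center_inv k hx
  let ρV : K →* AddMonoid.End V :=
    { toFun := fun k => MonoidHom.toAdditive (qmap k)
      map_one' := AddMonoidHom.ext fun x => by
        obtain ⟨p, hp⟩ := QuotientGroup.mk_surjective (Additive.toMul x)
        show Additive.ofMul (qmap _ (Additive.toMul x)) = x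
        rw [← hp]; exact congrArg Additive.ofMul hp
      map_mul' := fun a b => AddMonoidHom.ext fun x => by
        obtain ⟨p, hp⟩ := QuotientGroup.mk_surjective (Additive.toMul x)
        show Additive.ofMul (qmap _ (Additive.toMul x)) =
          Additive.ofMul (qmap _ (qmap _ (Additive.toMul x)))
        rw [← hp]; rfl }
  have hρV : ∀ (k : K) (p : P), ρV k (Additive.ofMul (p : P ⧸ Subgroup.center P)) =
      Additive.ofMul (((k : MulAut P) p : P) : P ⧸ Subgroup.center P) := fun k p => rfl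
  let fE : K → ↥(Subgroup.center P) →* ↥(Subgroup.center P) := fun k =>
    ((k : MulAut P).toMonoidHom.comp (Subgroup.center P).subtype).codRestrict _ fun x =>
      Ctx.center_inv _ x.2
  let ρE : K →* AddMonoid.End E :=
    { toFun := fun k => MonoidHom.toAdditive (fE k)
      map_one' := AddMonoidHom.ext fun x => rfl
      map_mul' := fun a b => AddMonoidHom.ext fun x => rfl }
  have hv2 : ∀ v : V, v + v = 0 := fun v => by
    obtain ⟨p, hp⟩ := QuotientGroup.mk_surjective (Additive.toMul v)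
    apply Additive.toMul.injective
    show Additive.toMul v * Additive.toMul v = 1
    rw [← hp, ← QuotientGroup.mk_mul, QuotientGroup.eq_one_iff]
    exact hp2 p
  have hEne : ∀ {x : E}, x ≠ 0 → ((Additive.toMul x : ↥(Subgroup.center P)) : P) ≠ 1 := fun hx h =>
    hx (Additive.toMul.injective (Subtype.ext h))
  obtain ⟨n, hn, hZn, eE, χE, heE, hχE⟩ := singer (V := E)
    (fun x => Additive.toMul.injective (Subtype.ext (hsq (Additive.toMul x).2))) c.k_comm ρE
    (fun x y hx hy => by
      obtain ⟨k, hk, hu⟩ := c.reg _ _ (hEne hx) (hsq (Additive.toMul x).2) (hEne hy)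
        (hsq (Additive.toMul y).2)
      exact ⟨k, Additive.toMul.injective (Subtype.ext hk), fun k' hk' =>
        hu k' (congrArg (fun a : E => ((Additive.toMul a : ↥(Subgroup.center P)) : P)) hk')⟩)
    (e₀ := Additive.ofMul ⟨g₀ * g₀, hg₀2⟩)
    (fun h => hg₀1 (congrArg (fun a : E => ((Additive.toMul a : ↥(Subgroup.center P)) : P)) h))
  have hone : ∀ p : P, Additive.ofMul (p : P ⧸ Subgroup.center P) = (0 : V) ↔ p * p = 1 := by
    intro p
    have : Additive.ofMul (p : P ⧸ Subgroup.center P) = (0 : V) ↔ p ∈ Subgroup.center P :=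
      (Equiv.apply_eq_iff_eq Additive.ofMul (y := (1 : P ⧸ Subgroup.center P))).trans
        (QuotientGroup.eq_one_iff p)
    exact this.trans ⟨hsq, hinvz⟩
  obtain ⟨n', hn', hVn, eV, χV, heV, hχV⟩ := singer (V := V) hv2 c.k_comm ρV
    (fun x y hx hy => by
      obtain ⟨p, hp⟩ := QuotientGroup.mk_surjective (Additive.toMul x)
      obtain ⟨q, hq⟩ := QuotientGroup.mk_surjective (Additive.toMul y)
      obtain rfl : x = Additive.ofMul (p : P ⧸ Subgroup.center P) := by rw [hp]; rfl
      obtain rfl : y = Additive.ofMul (q : P ⧸ Subgroup.center P) := by rw [hq]; rfl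
      obtain ⟨k, hk, hu⟩ := c.reg _ _ (fun h => hx ((hone p).2 h)) (hsq (hp2 p))
        (fun h => hy ((hone q).2 h)) (hsq (hp2 q))
      refine ⟨k, ?_, fun k' hk' => hu k' ?_⟩
      · beta_reduce
        rw [hρV]; exact congrArg Additive.ofMul (hsinj _ _ (by rw [← map_mul, hk]))
      · beta_reduce at hk'
        rw [hρV] at hk'
        have hm := QuotientGroup.eq.1 (Additive.ofMul.injective hk')
        rw [map_mul, ← hsqz ((k' : MulAut P) p) hm, mul_inv_cancel_left])
    (e₀ := Additive.ofMul (g₀ : P ⧸ Subgroup.center P)) (fun h => hg₀1 ((hone g₀).1 h))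
  obtain rfl : n' = n := Nat.pow_right_injective le_rfl (by
    show 2 ^ n' = 2 ^ n
    rw [← hVn, ← hZn]; exact hqcard)
  letI : Fintype (GaloisField 2 n') := Fintype.ofFinite _
  have hFcard : Fintype.card (GaloisField 2 n') = Nat.card (Subgroup.center P) := by
    rw [← Nat.card_eq_fintype_card, GaloisField.card 2 n' hn]; exact hZn.symm
  let sqz : P → E := fun p => Additive.ofMul ⟨p * p, hp2 p⟩
  let S : GaloisField 2 n' → GaloisField 2 n' := fun x =>
    eE (sqz (Quotient.out (Additive.toMul (eV.symm x))))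
  have hS : ∀ p : P, S (eV (Additive.ofMul (p : P ⧸ Subgroup.center P))) = eE (sqz p) := by
    intro p
    simp only [S, AddEquiv.symm_apply_apply]
    refine congrArg eE (Additive.toMul.injective (Subtype.ext ?_))
    set q := Quotient.out (Additive.toMul (Additive.ofMul (p : P ⧸ Subgroup.center P)))
    have hq : (q : P ⧸ Subgroup.center P) = p := Quotient.out_eq _
    show q * q = p * p
    rw [← hsqz q (QuotientGroup.eq.1 hq), mul_inv_cancel_left]
  have hsurjp : ∀ x : GaloisField 2 n', ∃ p : P, eV (Additive.ofMul (p : P ⧸ Subgroup.center P)) = x :=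
    fun x => by
      obtain ⟨p, hp⟩ := QuotientGroup.mk_surjective (Additive.toMul (eV.symm x))
      exact ⟨p, by rw [hp]; exact eV.apply_symm_apply x⟩
  have hSu : ∀ k : K, S (χV k : GaloisField 2 n') = (χE k : GaloisField 2 n') := by
    intro k
    have h1 := hχV k (Additive.ofMul (g₀ : P ⧸ Subgroup.center P))
    rw [heV, mul_one, hρV] at h1
    rw [← h1, hS]
    have h2 := hχE k (Additive.ofMul ⟨g₀ * g₀, hg₀2⟩)
    rw [heE, mul_one] at h2
    rw [← h2]
    exact congrArg eE (Additive.toMul.injective (Subtype.ext (map_mul _ _ _).symm))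
  have hS0 : S 0 = 0 := by
    have h := hS 1
    rw [show Additive.ofMul ((1 : P) : P ⧸ Subgroup.center P) = (0 : V) from rfl, map_zero] at h
    rw [h, ← map_zero eE]
    exact congrArg eE (Additive.toMul.injective (Subtype.ext (one_mul 1)))
  set N := Nat.card (GaloisField 2 n')ˣ with hN
  obtain ⟨i, hi⟩ := MonoidHom.map_cyclic (χV.symm.trans χE).toMonoidHom
  have hN0 : 0 < N := Nat.card_pos
  have hNq : N + 1 = Fintype.card (GaloisField 2 n') := by
    rw [hN, Nat.card_units, Nat.card_eq_fintype_card]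
    have := Fintype.card_pos (α := GaloisField 2 n')
    omega
  obtain ⟨m, hm0, hmN, hmi⟩ : ∃ m : ℕ, 0 < m ∧ m ≤ N ∧ ∀ u : (GaloisField 2 n')ˣ, u ^ i = u ^ m := by
    have key : ∀ u : (GaloisField 2 n')ˣ, u ^ i = u ^ (i % (N : ℤ)).toNat := fun u => by
      rw [← zpow_natCast, Int.toNat_of_nonneg (Int.emod_nonneg _ (by omega)), hN,
        zpow_mod_natCard]
    by_cases h0 : (i % (N : ℤ)).toNat = 0
    · refine ⟨N, hN0, le_rfl, fun u => ?_⟩
      rw [key u, h0, pow_zero, hN, pow_card_eq_one']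
    · refine ⟨_, Nat.pos_of_ne_zero h0, ?_, key⟩
      have := Int.emod_lt_of_pos i (show (0 : ℤ) < N by omega)
      omega
  have hSpow : ∀ x, S x = x ^ m := by
    intro x
    by_cases hx : x = 0
    · rw [hx, hS0, zero_pow hm0.ne']
    · obtain ⟨k, hk⟩ := χV.surjective (Units.mk0 x hx)
      have h := hSu k
      rw [hk, Units.val_mk0] at h
      rw [h]
      have h2 : χE k = (Units.mk0 x hx) ^ i := by
        rw [← hi, ← hk]; simp
      rw [h2, hmi, Units.val_pow_eq_pow_val, Units.val_mk0]
  have hcmul : ∀ g a b : P, ⁅g, a * b⁆ = ⁅g, a⁆ * ⁅g, b⁆ := fun g a b => by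
    rw [show ⁅g, a * b⁆ = ⁅g, a⁆ * (a * ⁅g, b⁆ * a⁻¹) by simp only [commutatorElement_def]; group,
      ← hcom (hpc g b) a, mul_inv_cancel_right]
  have hpair : ∀ g h : P, g * h * (g * h) = g * g * (h * h) * ⁅h, g⁆ := fun g h => by
    rw [show g * h * (g * h) = g * ⁅h, g⁆ * g * (h * h) by simp only [commutatorElement_def]; group,
      ← hcom (hpc h g) g, mul_assoc ⁅h, g⁆ g g, mul_assoc ⁅h, g⁆ (g * g) (h * h), hcom (hpc h g)]
  have hlin_false : (∀ x y, S (x + y) = S x + S y) → False := by
    intro hlin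
    obtain ⟨g, h, hgh⟩ := c.noncomm
    have e := hlin (eV (Additive.ofMul (h : P ⧸ Subgroup.center P)))
      (eV (Additive.ofMul (g : P ⧸ Subgroup.center P)))
    rw [← map_add, show Additive.ofMul (h : P ⧸ Subgroup.center P) +
      Additive.ofMul (g : P ⧸ Subgroup.center P) =
      Additive.ofMul ((h * g : P) : P ⧸ Subgroup.center P) from rfl, hS, hS, hS, ← map_add] at e
    have e' := congrArg (fun a : E => ((Additive.toMul a : ↥(Subgroup.center P)) : P)) (eE.injective e)
    change h * g * (h * g) = h * h * (g * g) at e'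
    rw [hpair h g, mul_eq_left] at e'
    exact hgh (commutatorElement_eq_one_iff_mul_comm.1 e')
  have hsum : ∀ a b : P, sqz (a * b) = sqz a + sqz b + Additive.ofMul ⟨⁅b, a⁆, hpc b a⟩ := fun a b =>
    Additive.toMul.injective (Subtype.ext (hpair a b))
  have hcube : ∀ x y z : GaloisField 2 n', S (x + y + z) =
      S (x + y) + S (x + z) + S (y + z) + S x + S y + S z := by
    intro x y z
    obtain ⟨p, rfl⟩ := hsurjp x
    obtain ⟨q, rfl⟩ := hsurjp y
    obtain ⟨o, rfl⟩ := hsurjp z
    have hm : ∀ a b : P, eV (Additive.ofMul (a : P ⧸ Subgroup.center P)) +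
        eV (Additive.ofMul (b : P ⧸ Subgroup.center P)) =
        eV (Additive.ofMul ((a * b : P) : P ⧸ Subgroup.center P)) := fun a b => by
      rw [← map_add]; rfl
    simp only [hm, hS]
    simp only [hsum]
    have e2 : Additive.ofMul (⟨⁅o, p * q⁆, hpc o (p * q)⟩ : ↥(Subgroup.center P)) =
        Additive.ofMul ⟨⁅o, p⁆, hpc o p⟩ + Additive.ofMul ⟨⁅o, q⁆, hpc o q⟩ :=
      Additive.toMul.injective (Subtype.ext (hcmul o p q))
    rw [e2]
    simp only [map_add]
    linear_combination -(eE (sqz p) + eE (sqz q) + eE (sqz o)) *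
      (CharTwo.two_eq_zero (R := GaloisField 2 n'))
  have hquad : ∀ x y : GaloisField 2 n', (x + y + 1) ^ m =
      (x + y) ^ m + (x + 1) ^ m + (y + 1) ^ m + x ^ m + y ^ m + 1 := fun x y => by
    have h := hcube x y 1
    simp only [hSpow, one_pow] at h
    exact h
  obtain ⟨a, b, hab⟩ := quad_pow hm0 (by omega) hquad
  let τ := iterateFrobeniusEquiv (GaloisField 2 n') 2 a
  let φ := iterateFrobeniusEquiv (GaloisField 2 n') 2 b
  rcases hab with rfl | rfl
  swap
  · exact (hlin_false fun x y => by rw [hSpow, hSpow, hSpow, add_pow_char_pow _ _ 2 a]).elim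
  have hτS : ∀ x, S x = τ (x * φ x) := by
    intro x
    rw [hSpow]
    simp only [τ, φ, iterateFrobeniusEquiv_def]
    rw [← pow_succ', ← pow_mul, mul_comm]
  refine ⟨GaloisField 2 n', inferInstance, inferInstance, φ, hFcard, fun h => ?_, ?_, ?_⟩
  · refine hlin_false fun x y => ?_
    rw [hτS, hτS, hτS, h]
    simp only [RingEquiv.refl_apply]
    rw [← map_add]
    refine congrArg τ ?_
    linear_combination x * y * (CharTwo.two_eq_zero (R := GaloisField 2 n'))
  · refine odd_orderOf φ fun x hx h => ?_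
    have hS1 : S x = S 1 := by rw [hτS, hτS, h, map_one, map_one, mul_one, map_one]
    obtain ⟨p, rfl⟩ := hsurjp x
    obtain ⟨o, ho⟩ := hsurjp (1 : GaloisField 2 n')
    rw [← ho, hS, hS] at hS1
    have hpq := congrArg (fun a : E => ((Additive.toMul a : ↥(Subgroup.center P)) : P))
      (eE.injective hS1)
    rw [← ho]
    exact congrArg (fun w => eV (Additive.ofMul w)) (hsinj p o hpq)
  let πP : P →* Multiplicative (GaloisField 2 n') :=
    MonoidHom.mk' (fun p => Multiplicative.ofAdd (eV (Additive.ofMul (p : P ⧸ Subgroup.center P))))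
      fun p q => by rw [← ofAdd_add, ← map_add]; rfl
  let eE' : E ≃+ GaloisField 2 n' := eE.trans τ.symm.toAddEquiv
  let iP : Multiplicative (GaloisField 2 n') →* P :=
    (Subgroup.center P).subtype.comp (AddMonoidHom.toMultiplicativeLeft eE'.symm.toAddMonoidHom)
  have hiP : ∀ w, iP w = ((Additive.toMul (eE'.symm (Multiplicative.toAdd w)) :
      ↥(Subgroup.center P)) : P) := fun w => rfl
  refine iso_typeA (φ : GaloisField 2 n' →+* GaloisField 2 n') πP (fun v => ?_) iP ?_ ?_ ?_ ?_
  · obtain ⟨p, hp⟩ := hsurjp (Multiplicative.toAdd v)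
    exact ⟨p, congrArg Multiplicative.ofAdd hp⟩
  · intro w w' h
    rw [hiP, hiP] at h
    exact Multiplicative.toAdd.injective (eE'.symm.injective
      (Additive.toMul.injective (Subtype.ext h)))
  · ext p
    rw [MonoidHom.mem_ker]
    constructor
    · intro h
      have h' : eV (Additive.ofMul (p : P ⧸ Subgroup.center P)) = 0 :=
        congrArg Multiplicative.toAdd h
      have hp : p * p = 1 := (hone p).1 (eV.injective (h'.trans (map_zero eV).symm))
      exact ⟨Multiplicative.ofAdd (eE' (Additive.ofMul ⟨p, hinvz hp⟩)), by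
        rw [hiP, toAdd_ofAdd, eE'.symm_apply_apply]; rfl⟩
    · rintro ⟨w, rfl⟩
      show Multiplicative.ofAdd (eV _) = 1
      rw [(hone _).2 (hsq (by rw [hiP]; exact (Additive.toMul (eE'.symm _)).2)), map_zero, ofAdd_zero]
  · intro w p
    rw [hiP]
    exact hcom (Additive.toMul (eE'.symm _)).2 p
  · intro p
    rw [hiP, toAdd_ofAdd]
    have h := hS p
    rw [hτS] at h
    have e : eE'.symm (Multiplicative.toAdd (πP p) *
        (φ : GaloisField 2 n' →+* GaloisField 2 n') (Multiplicative.toAdd (πP p))) = sqz p := by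
      refine eE'.injective ?_
      rw [eE'.apply_symm_apply]
      show eV _ * φ (eV _) = τ.symm (eE (sqz p))
      rw [← h, τ.symm_apply_apply]
    rw [e]
    rfl

end CfsgLib.Chev.SuzTwo
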