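import Mathlib
import Cfsg.Prelude.Def_KGroupFacts

/-!
Automorphisms fixing a Sylow subgroup elementwise.
-/

set_option autoImplicit false

namespace CfsgLib.Chev.SylowFix

variable {G H : Type*} [Group G] [Group H]

/-- An automorphism fixing a Sylow `p`-subgroup elementwise is inner. -/
def FixInner (p : ℕ) (G : Type*) [Group G] : Prop :=
  ∀ α : MulAut G, ∀ V : Sylow p G, (∀ x ∈ (V : Subgroup G), α x = x) → α ∈ Cfsg.Inn G

theorem mem_Inn_of_eq {α : MulAut G} (x : G) (h : ∀ y, α y = x * y * x⁻¹) : α ∈ Cfsg.Inn G :=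
  ⟨x, MulEquiv.ext fun y => (h y).symm⟩

/-- One Sylow subgroup is enough. -/
theorem fixInner_of_sylow [Finite G] {p : ℕ} [Fact p.Prime] (S : Sylow p G)
    (h : ∀ α : MulAut G, (∀ x ∈ (S : Subgroup G), α x = x) → α ∈ Cfsg.Inn G) : FixInner p G := by
  intro α V hV
  obtain ⟨g, rfl⟩ := MulAction.exists_smul_eq G S V
  obtain ⟨y, hy⟩ : (MulAut.conj g)⁻¹ * α * MulAut.conj g ∈ Cfsg.Inn G := h _ fun x hx => by
    rw [MulAut.mul_apply, MulAut.mul_apply, hV]
    · exact (MulAut.conj g).symm_apply_apply x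
    · rw [Sylow.coe_subgroup_smul]
      exact Subgroup.smul_mem_pointwise_smul x (MulAut.conj g) _ hx
  exact ⟨g * y * g⁻¹, by rw [map_mul, map_mul, map_inv, hy]; group⟩

theorem fixInner_of_mulEquiv {p : ℕ} (h : FixInner p G) (e : G ≃* H) : FixInner p H := by
  intro α V hV
  obtain ⟨y, hy⟩ := h ((MulAut.congr e).symm α) (V.comapOfInjective e.toMonoidHom e.injective
    (fun x _ => ⟨e.symm x, e.apply_symm_apply x⟩)) fun x hx => by
    show e.symm (α (e x)) = x
    rw [hV (e x) hx, e.symm_apply_apply]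
  refine mem_Inn_of_eq (e y) fun z => ?_
  have h1 : y * e.symm z * y⁻¹ = e.symm (α (e (e.symm z))) := congrArg (fun f : MulAut G => f (e.symm z)) hy
  rw [e.apply_symm_apply] at h1
  rw [← e.apply_symm_apply (α z), ← h1, map_mul, map_mul, map_inv, e.apply_symm_apply]

end CfsgLib.Chev.SylowFix
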