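import Cfsg.Agent.Lib.Chev.SylowFixBasic
import Cfsg.Agent.Lib.KnownA.Chev.Kinds
import Cfsg.Agent.Lib.KnownA.Chev.WeaklyClosed

/-!
Chevalley groups: an automorphism fixing the unipotent subgroup elementwise is inner.
-/

set_option autoImplicit false

namespace CfsgLib.Chev.SylowFix

open Cfsg.Lie CfsgLib.Chev CfsgLib.KnownA.Chev

variable {D : ChevalleyDatum} {F : Type*} [Field F] (g : Good D)

/-- A map permuting the fundamental root subgroups which agrees on `U` with an inner automorphism of `U`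
is trivial. -/
theorem eq_one_of_simpleMap (hse : SuppEq D) {θ : ↥(D.group F) ≃* ↥(D.group F)}
    {π : Equiv.Perm (Fin D.rank)} {a b : Fin D.rank → F → F}
    (h : SimpleMap g θ.toMonoidHom π a b) {u : ↥(D.group F)} (hu : u ∈ Us g F)
    (hθ : ∀ x ∈ Us g F, θ x = u⁻¹ * x * u) : θ = MulEquiv.refl _ := by
  have key : ∀ i j t, comp g j ((xs g (g.sroot (π i)) (a i t) : ↥(D.group F)) : GL D.Idx F) =
      comp g j ((xs g (g.sroot i) t : ↥(D.group F)) : GL D.Idx F) := by
    intro i j t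
    have hx : xs g (g.sroot i) t ∈ Us g F := xs_mem_Us g (g.simple_pos i.2) t
    have hu' : (u : GL D.Idx F) ∈ D.posUnipotent F := hu
    have hx' : (xs g (g.sroot i) t : GL D.Idx F) ∈ D.posUnipotent F := hx
    rw [show xs g (g.sroot (π i)) (a i t) = u⁻¹ * xs g (g.sroot i) t * u from
      (h.pos i t).symm.trans (hθ _ hx), Subgroup.coe_mul, Subgroup.coe_mul, Subgroup.coe_inv,
      comp_mul g hse j (mul_mem (inv_mem hu') hx') hu', comp_mul g hse j (inv_mem hu') hx',
      comp_inv g hse j hu']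
    ring
  have hc : ∀ (i j : Fin D.rank) (t : F),
      comp g j ((xs g (g.sroot i) t : ↥(D.group F)) : GL D.Idx F) = if i = j then t else 0 := by
    intro i j t
    rw [coe_xs, show ((g.sroot i : Fin D.nroots) : ℕ) = D.simple i from rfl,
      comp_xG g j (g.simple_pos i.2) (g.simple_lt i.2)]
    by_cases hij : i = j
    · subst hij; rw [if_pos rfl, if_pos rfl]
    · rw [if_neg hij, if_neg fun e => hij (Fin.ext (g.simple_injective i.2 j.2 e))]
  obtain rfl : π = 1 := Equiv.ext fun i => by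
    by_contra hne
    have h1 := key i i 1
    rw [hc, hc, if_neg (fun e => hne (e.trans (Equiv.Perm.one_apply i).symm)), if_pos rfl] at h1
    exact zero_ne_one h1
  have ha : ∀ i t, a i t = t := fun i t => by
    have h1 := key i i t
    rwa [hc, hc, Equiv.Perm.one_apply, if_pos rfl, if_pos rfl] at h1
  refine aut_ext g (fun i t => (h.pos i t).trans ?_) fun i t => (h.neg i t).trans ?_
  · rw [ha]; rfl
  · suffices b i t = t by rw [this]; rfl
    by_cases ht : t = 0
    · rw [ht, h.b_zero]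
    · obtain ⟨w, hw⟩ : ∃ w : Fˣ, -((w⁻¹ : Fˣ) : F) = t :=
        ⟨(-Units.mk0 t ht)⁻¹, by simp⟩
      have h1 := h.b_eq i w
      have e : h.au i w = w := Units.ext (ha i w)
      rwa [e, hw] at h1

include g in
/-- An automorphism fixing `U` elementwise is inner. -/
theorem fixInner_chev [Fintype F] (hc : HasComm D) (hse : SuppEq D) (p : ℕ) [Fact p.Prime] [CharP F p] :
    FixInner p ↥(D.group F) := by
  obtain ⟨P, hP⟩ := exists_sylow_posUnipotent g hc p (F := F)
  refine fixInner_of_sylow P fun α hfix => ?_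
  replace hfix : ∀ x ∈ Us g F, α x = x := fun x hx => hfix x (hP.ge hx)
  obtain ⟨x, θ, hθ, he⟩ := exists_fixUV g hc p α
  have hθU : ∀ u ∈ Us g F, θ u = x⁻¹ * u * x := fun u hu => by
    have h1 := he u
    rw [hfix u hu] at h1
    conv_rhs => rw [h1]
    group
  have hxB : x⁻¹ ∈ Bs g F := (mem_Bs_iff g hc).2 fun u hu => by
    show x⁻¹ * u * x⁻¹⁻¹ ∈ Us g F
    rw [inv_inv, ← hθU u hu]
    exact (hθ.memU u).2 hu
  obtain ⟨v, hv, d, hd, e⟩ := g.mem_borel.1 (inv_mem hxB : x⁻¹⁻¹ ∈ Bs g F)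
  let v0 : ↥(D.group F) := ⟨v, g.posUnipotent_le_group hv⟩
  let d0 : ↥(D.group F) := ⟨d, g.diagonal_le_group hd⟩
  have hx : x = v0 * d0 := Subtype.ext (by simpa using e.symm)
  have hF : FixUV g (θ.trans (MulAut.conj d0)) :=
    ((permutes_conj_Hs g (x := d0) hd).fixUV g).trans g hθ
  obtain ⟨π, a, b, hs⟩ := hF.exists_simpleMap g hc
  have h1 := eq_one_of_simpleMap g hse hs (u := v0) hv fun y hy => by
    show d0 * θ y * d0⁻¹ = _
    rw [hθU y hy, hx]
    group
  refine mem_Inn_of_eq v0 fun y => ?_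
  have h2 : d0 * θ y * d0⁻¹ = y := congrArg (fun f : ↥(D.group F) ≃* ↥(D.group F) => f y) h1
  rw [he y, hx]
  calc v0 * d0 * θ y * (v0 * d0)⁻¹ = v0 * (d0 * θ y * d0⁻¹) * v0⁻¹ := by group
    _ = _ := by rw [h2]

end CfsgLib.Chev.SylowFix
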