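import Cfsg.Agent.Lib.Chev.SylowFixBasic
import Cfsg.Agent.Lib.KnownA.TwistOut.Inst
import Cfsg.Agent.Lib.KnownA.Chev.WeaklyClosed

/-!
Twisted groups of types ²E₆ and ³D₄: an automorphism fixing the unipotent subgroup elementwise is inner.
-/

set_option autoImplicit false
set_option maxRecDepth 100000

namespace CfsgLib.Chev.SylowFix

open Cfsg.Lie CfsgLib.Chev CfsgLib.KnownA.Chev CfsgLib.KnownA.ChevChar CfsgLib.KnownA.TwistOut

variable {D : ChevalleyDatum} {F : Type*} [Field F] {g : Good D} {A : A1Setup g F} (W : TwData A)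

theorem comp_xList (hse : SuppEq D) (l : List (Fin D.rank)) (hnd : l.Nodup) (t : Fin D.rank → F)
    (j : Fin D.rank) : comp g j (g.xList g.sroot l t) = if j ∈ l then t j else 0 := by
  have hmem : ∀ l : List (Fin D.rank), g.xList g.sroot l t ∈ D.posUnipotent F := fun l => by
    induction l with
    | nil => exact one_mem _
    | cons i l ih =>
      rw [g.xList_cons]
      exact mul_mem (g.xG_mem_posUnipotent ((g.isPosRoot_iff _).2 ⟨g.simple_pos i.2, g.simple_lt i.2⟩) _) ih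
  induction l with
  | nil => rw [if_neg (List.not_mem_nil)]; exact comp_one g j
  | cons i l ih =>
    obtain ⟨hi, hl⟩ := List.nodup_cons.1 hnd
    rw [g.xList_cons, show ((g.sroot i : Fin D.nroots) : ℕ) = D.simple i from rfl, comp_mul g hse j
      (g.xG_mem_posUnipotent ((g.isPosRoot_iff _).2 ⟨g.simple_pos i.2, g.simple_lt i.2⟩) _) (hmem l),
      ih hl, comp_xG g j (g.simple_pos i.2) (g.simple_lt i.2)]
    by_cases hij : i = j
    · subst hij; rw [if_pos rfl, if_neg hi, if_pos List.mem_cons_self, add_zero]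
    · rw [if_neg (fun e => hij (Fin.ext (g.simple_injective i.2 j.2 e))), zero_add]
      simp [List.mem_cons, Ne.symm hij]

theorem comp_xo (hse : SuppEq D) (o o' : Fin A.r) (c : W.Kf o) :
    comp g (W.b o') (W.xo o c : GL D.Idx F) = if o = o' then (c : F) else 0 := by
  rw [W.coe_xo, comp_xList hse _ (A.isOrbit o).nodup]
  by_cases h : o = o'
  · subst h; rw [if_pos (W.hb o), if_pos rfl, W.vec_base]
  · rw [if_neg fun hm => h (A.disjoint o o' _ hm (W.hb o')), if_neg h]

/-- A map permuting the orbit groups which agrees on `U¹` with an inner automorphism of `U¹` is trivial. -/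
theorem eq_one_of_twMap (hse : SuppEq D) {θ : MulAut ↥A.G1} {π : Equiv.Perm (Fin A.r)}
    {a b : ∀ o, W.Kf o → W.Kf (π o)} (h : W.TwMap θ π a b) {u : ↥A.G1} (hu : u ∈ U1 A)
    (hθ : ∀ x ∈ U1 A, θ x = u⁻¹ * x * u) : θ = 1 := by
  have key : ∀ o o' (c : W.Kf o), comp g (W.b o') (W.xo (π o) (a o c) : GL D.Idx F) =
      comp g (W.b o') (W.xo o c : GL D.Idx F) := by
    intro o o' c
    have hu' : (u : GL D.Idx F) ∈ D.posUnipotent F := hu
    have hx' : (W.xo o c : GL D.Idx F) ∈ D.posUnipotent F := W.xo_mem_U1 o c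
    rw [show W.xo (π o) (a o c) = u⁻¹ * W.xo o c * u from (h.pos o c).symm.trans (hθ _ (W.xo_mem_U1 o c)),
      Subgroup.coe_mul, Subgroup.coe_mul, Subgroup.coe_inv,
      comp_mul g hse _ (mul_mem (inv_mem hu') hx') hu', comp_mul g hse _ (inv_mem hu') hx',
      comp_inv g hse _ hu']
    ring
  obtain rfl : π = 1 := Equiv.ext fun o => by
    by_contra hne
    have h1 := key o o 1
    rw [comp_xo W hse, comp_xo W hse, if_neg fun e => hne (e.trans (Equiv.Perm.one_apply o).symm),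
      if_pos rfl] at h1
    exact zero_ne_one h1
  have ha : ∀ o c, a o c = c := fun o c => by
    have h1 := key o o c
    rw [comp_xo W hse, comp_xo W hse] at h1
    simp only [Equiv.Perm.one_apply, if_true] at h1
    exact Subtype.ext h1
  refine W.twMap_ext (a := fun _ c => c) (b := b) (b' := fun _ c => c) ⟨fun o c => ?_, h.neg⟩
    ⟨fun o c => rfl, fun o c => rfl⟩
  exact (h.pos o c).trans (congrArg (W.xo o) (ha o c))

include W in
/-- An automorphism fixing `U¹` elementwise is inner. -/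
theorem fixInner_tw [Fintype F] (hse : SuppEq D) (p : ℕ) [Fact p.Prime] [CharP F p] :
    FixInner p ↥A.G1 := by
  haveI : Finite ↥A.G1 := Finite.of_injective (fun y : ↥A.G1 => (y : GL D.Idx F)) Subtype.val_injective
  obtain ⟨P, hP⟩ := W.exists_sylow p
  refine fixInner_of_sylow P fun α hfix => ?_
  replace hfix : ∀ x ∈ U1 A, α x = x := fun x hx => hfix x (hP.ge hx)
  obtain ⟨x, hθ⟩ := W.exists_fixUV α
  have hθU : ∀ u ∈ U1 A, (MulAut.conj x * α) u = x * u * x⁻¹ := fun u hu => by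
    rw [MulAut.mul_apply, hfix u hu, MulAut.conj_apply]
  have hxB : x⁻¹ ∈ B1 A := inv_mem (W.mem_B1_of_normalizes fun u hu => by
    rw [← hθU u hu]
    exact (hθ.memU u).2 hu)
  obtain ⟨v, hv, d, hd, e⟩ := (A.sys W.hc).borel_inf_decomp W.hc
    (show (x⁻¹ : ↥A.G1).1 ∈ D.borelSubgroup F ⊓ A.G1 from ⟨hxB, (x⁻¹).2⟩)
  let v0 : ↥A.G1 := ⟨v, hv.2⟩
  let d0 : ↥A.G1 := ⟨d, hd.2⟩
  have hx : x⁻¹ = v0 * d0 := Subtype.ext e
  obtain ⟨c, hc⟩ := W.exists_diagT_of_H1 (x := d0) hd.1
  have hF : FixUV A (MulAut.conj d0 * (MulAut.conj x * α)) := (hc ▸ W.diagT_fixUV c).mul A hθ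
  obtain ⟨π, a, b, ht⟩ := W.exists_twMap hF
  have h1 := eq_one_of_twMap W hse ht (u := v0) hv.1 fun y hy => by
    rw [MulAut.mul_apply, hθU y hy, MulAut.conj_apply,
      show x = d0⁻¹ * v0⁻¹ by rw [← mul_inv_rev, ← hx, inv_inv]]
    group
  refine mem_Inn_of_eq v0 fun y => ?_
  have h2 : d0 * (x * α y * x⁻¹) * d0⁻¹ = y := congrArg (fun f : MulAut ↥A.G1 => f y) h1
  rw [show x = d0⁻¹ * v0⁻¹ by rw [← mul_inv_rev, ← hx, inv_inv]] at h2
  calc α y = v0 * (d0 * (d0⁻¹ * v0⁻¹ * α y * (d0⁻¹ * v0⁻¹)⁻¹) * d0⁻¹) * v0⁻¹ := by group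
    _ = _ := by rw [h2]

theorem fixInner_twE6 (K : Type*) [Field K] [Fintype K] {q : ℕ} (hq : IsPrimePow q)
    (hK : Fintype.card K = q ^ 2) (p : ℕ) [Fact p.Prime] [CharP K p] :
    FixInner p ↥(twistedE6 K q) := by
  classical
  obtain ⟨A, hG, hφ, hS, hr, ho⟩ := exists_setupE6 K hq hK
  have hc : HasComm chevE6 := hasComm_of_mem (by simp)
  have hsym := coSym_of_check A checksE6 structChecksE6 rhoE6_ok hS coSymE6_ok
  have hfac : ∀ o' : Fin 4, baseE6 o' ∈ orbE6 o' ∧
      (A.S.pi : Fin chevE6.rank → Fin chevE6.rank)^[lenE6 o'] (baseE6 o') = baseE6 o' ∧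
      (∀ i ∈ orbE6 o', ∃ m < lenE6 o',
        (A.S.pi : Fin chevE6.rank → Fin chevE6.rank)^[m] (baseE6 o') = i) ∧
      ∀ m < lenE6 o', ∀ m' < lenE6 o',
        (A.S.pi : Fin chevE6.rank → Fin chevE6.rank)^[m] (baseE6 o') =
          (A.S.pi : Fin chevE6.rank → Fin chevE6.rank)^[m'] (baseE6 o') → m = m' := by
    rw [hS]; decide +kernel
  have hlen : ∀ o' : Fin 4, lenE6 o' = 1 ∨ lenE6 o' = 2 := by decide +kernel
  let W : TwData A :=
    { b := fun o => baseE6 (Fin.cast hr o), k := fun o => lenE6 (Fin.cast hr o), q := q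
      hc := hc
      hch := chainsOK_E6
      hb := fun o => by rw [ho]; exact (hfac _).1
      hk := fun o => by rcases hlen (Fin.cast hr o) with h | h <;> omega
      hper := fun o => (hfac _).2.1
      hall := fun o j hj => (hfac _).2.2.1 j (by rw [← ho]; exact hj)
      hlt := fun o => (hfac _).2.2.2
      q_gt := hq.one_lt
      hcard := fun o => card_fix hq.one_lt hφ hK (hlen _)
      sym := hsym
      diag := A.diag_inf_eq_of_odd hc hsym (e := 3) ⟨1, rfl⟩ (fun c h => kerE6 (c := e6 c) h) }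
  rw [← hG]
  exact fixInner_tw W suppEqE6 p

theorem fixInner_twD4 (K : Type*) [Field K] [Fintype K] {q : ℕ} (hq : IsPrimePow q)
    (hK : Fintype.card K = q ^ 3) (p : ℕ) [Fact p.Prime] [CharP K p] :
    FixInner p ↥(twistedD4 K q) := by
  classical
  obtain ⟨A, hG, hφ, hS, hr, ho⟩ := exists_setupD4 K hq hK
  have hc : HasComm chevD4 := hasComm_of_mem (by simp)
  have hsym := coSym_of_check A checksD4 structChecksD4 rhoD4_ok hS coSymD4_ok
  have hfac : ∀ o' : Fin 2, baseD4 o' ∈ orbD4 o' ∧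
      (A.S.pi : Fin chevD4.rank → Fin chevD4.rank)^[lenD4 o'] (baseD4 o') = baseD4 o' ∧
      (∀ i ∈ orbD4 o', ∃ m < lenD4 o',
        (A.S.pi : Fin chevD4.rank → Fin chevD4.rank)^[m] (baseD4 o') = i) ∧
      ∀ m < lenD4 o', ∀ m' < lenD4 o',
        (A.S.pi : Fin chevD4.rank → Fin chevD4.rank)^[m] (baseD4 o') =
          (A.S.pi : Fin chevD4.rank → Fin chevD4.rank)^[m'] (baseD4 o') → m = m' := by
    rw [hS]; decide +kernel
  have hlen : ∀ o' : Fin 2, lenD4 o' = 1 ∨ lenD4 o' = 3 := by decide +kernel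
  let W : TwData A :=
    { b := fun o => baseD4 (Fin.cast hr o), k := fun o => lenD4 (Fin.cast hr o), q := q
      hc := hc
      hch := chainsOK_D4
      hb := fun o => by rw [ho]; exact (hfac _).1
      hk := fun o => by rcases hlen (Fin.cast hr o) with h | h <;> omega
      hper := fun o => (hfac _).2.1
      hall := fun o j hj => (hfac _).2.2.1 j (by rw [← ho]; exact hj)
      hlt := fun o => (hfac _).2.2.2
      q_gt := hq.one_lt
      hcard := fun o => card_fix hq.one_lt hφ hK (hlen _)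
      sym := hsym
      diag := A.diag_inf_eq_of_free hc fun c h1 h2 => freeD4 A hS hφ h1 (A.σT_eq_iff.1 h2) }
  rw [← hG]
  exact fixInner_tw W suppEqD4 p

end CfsgLib.Chev.SylowFix
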