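import Mathlib
import Cfsg.Agent.Lib.Chev.SylowBound
import Cfsg.Agent.Lib.Linear.SylowLargeR
import Cfsg.Agent.Lib.Chev.CommGood

/-!
Sylow subgroups of Chevalley groups for primes prime to the Weyl group order.
-/

set_option autoImplicit false
set_option maxHeartbeats 1000000
set_option maxRecDepth 100000

namespace CfsgLib.Chev.Springer

open Cfsg.Lie Matrix Polynomial

theorem factorization_degrees {r q : ℕ} [Fact r.Prime] (hq : 2 ≤ q) (hrq : ¬ r ∣ q) :
    ∀ l : List ℕ, (∀ e ∈ l, 0 < e) → ¬ r ∣ l.prod →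
      ((l.map fun e => q ^ e - 1).prod).factorization r =
        (l.filter fun e => orderOf (q : ZMod r) ∣ e).length * (q ^ orderOf (q : ZMod r) - 1).factorization r ∧
      (l.map fun e => q ^ e - 1).prod ≠ 0 := by
  intro l
  induction l with
  | nil => intros; simp
  | cons e l ih =>
    intro hpos hr
    rw [List.prod_cons] at hr
    obtain ⟨h1, h2⟩ := ih (fun x hx => hpos x (List.mem_cons_of_mem _ hx)) fun h => hr (dvd_mul_of_dvd_right h _)
    have he : q ^ e - 1 ≠ 0 := by
      have := Nat.one_lt_pow (hpos e List.mem_cons_self).ne' (show 1 < q by omega)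
      omega
    refine ⟨?_, by rw [List.map_cons, List.prod_cons]; exact mul_ne_zero he h2⟩
    rw [List.map_cons, List.prod_cons, Nat.factorization_mul he h2, Finsupp.add_apply, h1,
      Classical.SylowLargeR.val_pow_pred hq hrq (fun hd h => hr (dvd_mul_of_dvd_left
        (h.trans (Nat.div_dvd_of_dvd hd)) _))]
    by_cases h : orderOf (q : ZMod r) ∣ e
    · rw [if_pos h, List.filter_cons_of_pos (by simpa using h), List.length_cons]; ring
    · rw [if_neg h, List.filter_cons_of_neg (by simpa using h), zero_add]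

theorem le_div_totient {D : ChevalleyDatum} (g : Good D) {π : Equiv.Perm (Fin D.nroots)} {d t : ℕ}
    (hd : 0 < d) (h : cyclotomic d ℤ ^ t ∣ (g.coMat π).charpoly) : t ≤ D.rank / d.totient := by
  have h1 := natDegree_le_of_dvd h (Matrix.charpoly_monic _).ne_zero
  rw [natDegree_pow, natDegree_cyclotomic, Matrix.charpoly_natDegree_eq_dim, Fintype.card_fin] at h1
  exact (Nat.le_div_iff_mul_le (Nat.totient_pos.2 hd)).2 h1

/-- The statement for one datum. -/
theorem sylow_case {D : ChevalleyDatum} (g : Good D) (hc : HasComm D) (l : List ℕ) (hl : ∀ e ∈ l, 0 < e)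
    (hW : Nat.card g.weyl = l.prod) (exc : List ℕ)
    (hexc : ∀ d ∈ exc, ∀ π ∈ g.weyl, ∀ t : ℕ, cyclotomic d ℤ ^ t ∣ (g.coMat π).charpoly →
      t ≤ (l.filter fun e => d ∣ e).length)
    (hnum : ∀ e ∈ l, ∀ d ∈ e.divisors, d ∈ exc ∨ D.rank / d.totient ≤ (l.filter fun e => d ∣ e).length)
    (F : Type*) [Field F] [Fintype F] {q : ℕ} (hF : Fintype.card F = q) (r : ℕ) [Fact r.Prime]
    (hrq : ¬ r ∣ q) (hrW : ¬ r ∣ l.prod) {c N : ℕ} (hcr : ¬ r ∣ c)
    (hcard : c * Nat.card ↥(D.group F) = q ^ N * (l.map fun e => q ^ e - 1).prod)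
    (hrG : r ∣ Nat.card ↥(D.group F)) (P : Sylow r ↥(D.group F)) :
    Nonempty (↥(P : Subgroup ↥(D.group F)) ≃*
      (Fin (l.filter (fun e => orderOf (q : ZMod r) ∣ e)).length →
        Multiplicative (ZMod (r ^ padicValNat r ((cyclotomic (orderOf (q : ZMod r)) ℤ).eval (q : ℤ)).natAbs)))) := by
  have hr : r.Prime := Fact.out
  have hq : 2 ≤ q := hF ▸ Fintype.one_lt_card
  set d := orderOf (q : ZMod r) with hd
  obtain ⟨hv, hne⟩ := factorization_degrees hq hrq l hl hrW
  have hd0 : 0 < d := Classical.SylowLargeR.d_pos hq hrq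
  rw [Classical.SylowLargeR.cyclotomic_eval_val hq hrq]
  have hv0 : 0 < (q ^ d - 1).factorization r := by
    refine hr.factorization_pos_of_dvd ?_ ((Classical.SylowLargeR.dvd_pow_pred_iff hq hrq d).2 dvd_rfl)
    have := Nat.one_lt_pow hd0.ne' (show 1 < q by omega)
    omega
  have hG : (Nat.card ↥(D.group F)).factorization r =
      (l.filter fun e => d ∣ e).length * (q ^ d - 1).factorization r := by
    have h : (c * Nat.card ↥(D.group F)).factorization r = (q ^ N * (l.map fun e => q ^ e - 1).prod).factorization r := by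
      rw [hcard]
    rw [Nat.factorization_mul (fun h0 : c = 0 => hcr (h0 ▸ dvd_zero r)) Nat.card_pos.ne',
      Nat.factorization_mul (pow_ne_zero _ (by omega)) hne, Finsupp.add_apply, Finsupp.add_apply,
      Nat.factorization_eq_zero_of_not_dvd hcr, zero_add,
      Nat.factorization_eq_zero_of_not_dvd (fun h0 => hrq (hr.dvd_of_dvd_pow h0)), zero_add, hv] at h
    exact h
  refine sylow_homocyclic g hc F q hF hrq (hW ▸ hrW) _ _ hv0 rfl hG (fun π hπ t ht => ?_) P
  obtain ⟨e, he, hde⟩ : ∃ e ∈ l, d ∣ e := by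
    by_contra hno
    push Not at hno
    have h0 : (l.filter fun e => d ∣ e).length = 0 := by
      rw [List.length_eq_zero_iff, List.filter_eq_nil_iff]
      exact fun e he => by simpa using hno e he
    rw [h0, zero_mul] at hG
    have h1 := hr.factorization_pos_of_dvd Nat.card_pos.ne' hrG
    omega
  rcases hnum e he d (Nat.mem_divisors.2 ⟨hde, (hl e he).ne'⟩) with h | h
  · exact hexc d h π hπ t ht
  · exact (le_div_totient g hd0 ht).trans h

theorem not_dvd_gcd {r x k : ℕ} [Fact r.Prime] (hr : ¬ r ∣ k) : ¬ r ∣ x.gcd k :=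
  fun h => hr (h.trans (Nat.gcd_dvd_right x k))

theorem sylow_all {F : Type*} [Field F] [Fintype F] {q : ℕ} (hq : Fintype.card F = q)
    (c : ChevalleyDatum × List ℕ)
    (hc : c ∈ [(chevG2, [2, 6]), (chevB2, [2, 4]), (chevD4, [2, 4, 4, 6]), (chevF4, [2, 6, 8, 12]),
      (chevE6, [2, 5, 6, 8, 9, 12]), (chevE7, [2, 6, 8, 10, 12, 14, 18]), (chevE8, [2, 8, 12, 14, 18, 20, 24, 30])])
    (r : ℕ) [Fact r.Prime] (hrq : ¬ r ∣ q) (hrW : ¬ r ∣ c.2.prod) (hrG : r ∣ Nat.card ↥(c.1.group F))
    (P : Sylow r ↥(c.1.group F)) :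
    Nonempty (↥(P : Subgroup ↥(c.1.group F)) ≃*
      (Fin (c.2.filter (fun e => orderOf (q : ZMod r) ∣ e)).length →
        Multiplicative (ZMod (r ^ padicValNat r ((cyclotomic (orderOf (q : ZMod r)) ℤ).eval (q : ℤ)).natAbs)))) := by
  have hr1 : ¬ r ∣ 1 := (Fact.out : r.Prime).not_dvd_one
  have h2 : ∀ l : List ℕ, ¬ r ∣ (2 :: l).prod → ¬ r ∣ 2 := fun l h h' => h (dvd_mul_of_dvd_left h' _)
  subst hq
  simp only [List.mem_cons, List.not_mem_nil, or_false] at hc
  rcases hc with rfl | rfl | rfl | rfl | rfl | rfl | rfl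
  · exact sylow_case goodG2 (hasComm_of_mem (by simp)) _ (by decide) (by rw [card_weylG2]; rfl) []
      (by simp) (by decide +kernel) F rfl r hrq hrW hr1
      (N := 6) (by rw [card_groupG2 F]; simp only [List.map_cons, List.map_nil, List.prod_cons, List.prod_nil, mul_one, mul_assoc]) hrG P
  · exact sylow_case goodB2 (hasComm_of_mem (by simp)) _ (by decide) (by rw [card_weylB2]; rfl) []
      (by simp) (by decide +kernel) F rfl r hrq hrW (not_dvd_gcd (h2 _ hrW))
      (N := 4) (by rw [card_groupB2 F]; simp only [List.map_cons, List.map_nil, List.prod_cons, List.prod_nil, mul_one, mul_assoc]) hrG P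
  · refine sylow_case goodD4 (hasComm_of_mem (by simp)) _ (by decide) (by rw [card_weylD4]; rfl) [3, 6]
      (fun d hd π hπ t ht => ?_) (by decide +kernel) F rfl r hrq hrW
      (fun h => ((Fact.out : r.Prime).dvd_mul.1 h).elim (not_dvd_gcd (h2 _ hrW)) (not_dvd_gcd (h2 _ hrW)))
      (N := 12) (by rw [card_groupD4 F]; simp only [List.map_cons, List.map_nil, List.prod_cons, List.prod_nil, mul_one, mul_assoc]) hrG P
    simp only [List.mem_cons, List.not_mem_nil, or_false] at hd
    refine (bound_D4 hπ hd ht).trans ?_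
    rcases hd with rfl | rfl <;> decide
  · exact sylow_case goodF4 (hasComm_of_mem (by simp)) _ (by decide) (by rw [card_weylF4]; rfl) []
      (by simp) (by decide +kernel) F rfl r hrq hrW hr1
      (N := 24) (by rw [card_groupF4 F]; simp only [List.map_cons, List.map_nil, List.prod_cons, List.prod_nil, mul_one, mul_assoc]) hrG P
  · refine sylow_case goodE6 (hasComm_of_mem (by simp)) _ (by decide) (by rw [card_weylE6]; rfl) [2, 4, 6]
      (fun d hd π hπ t ht => ?_) (by decide +kernel) F rfl r hrq hrW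
      (not_dvd_gcd (k := 3) fun h => hrW (h.trans (show 3 ∣ [2, 5, 6, 8, 9, 12].prod by decide)))
      (N := 36) (by rw [card_groupE6 F]; simp only [List.map_cons, List.map_nil, List.prod_cons, List.prod_nil, mul_one, mul_assoc]) hrG P
    simp only [List.mem_cons, List.not_mem_nil, or_false] at hd
    obtain ⟨b2, b4, b6⟩ := bound_E6 hπ ht
    rcases hd with rfl | rfl | rfl
    · exact (b2 rfl).trans (by decide)
    · exact (b4 rfl).trans (by decide)
    · exact (b6 rfl).trans (by decide)
  · refine sylow_case goodE7 (hasComm_of_mem (by simp)) _ (by decide) (by rw [card_weylE7]; rfl) [4]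
      (fun d hd π hπ t ht => ?_) (by decide +kernel) F rfl r hrq hrW (not_dvd_gcd (h2 _ hrW))
      (N := 63) (by rw [card_groupE7 F]; simp only [List.map_cons, List.map_nil, List.prod_cons, List.prod_nil, mul_one, mul_assoc]) hrG P
    simp only [List.mem_singleton] at hd
    subst hd
    exact (bound_E7 hπ ht).trans (by decide)
  · exact sylow_case goodE8 (hasComm_of_mem (by simp)) _ (by decide) (by rw [card_weylE8]; rfl) []
      (by simp) (by decide +kernel) F rfl r hrq hrW hr1
      (N := 120) (by rw [card_groupE8 F]; simp only [List.map_cons, List.map_nil, List.prod_cons, List.prod_nil, mul_one, mul_assoc]) hrG P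

end CfsgLib.Chev.Springer
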