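import Cfsg.Agent.Lib.Chev.TitsFiveDefs

/-!
# Products of two elements of order 5: three double cosets
-/

set_option autoImplicit false
set_option maxRecDepth 100000
set_option maxHeartbeats 0

namespace CfsgLib.Chev.Tits

theorem chkCoset_3 : chkCoset 3 = true := by decide +kernel
theorem chkCoset_4 : chkCoset 4 = true := by decide +kernel
theorem chkCoset_5 : chkCoset 5 = true := by decide +kernel

end CfsgLib.Chev.Tits
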