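import Cfsg.Agent.Lib.Chev.TitsFiveDefs

/-!
# The candidates and the Sylow 5-subgroup
-/

set_option autoImplicit false
set_option maxRecDepth 100000
set_option maxHeartbeats 0

namespace CfsgLib.Chev.Tits

theorem chkSylow_ok : chkSylow = true := by decide +kernel
theorem chkZ_ok : chkZ = true := by decide +kernel

end CfsgLib.Chev.Tits
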