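import Cfsg.Agent.Lib.Chev.TitsDefs
import Cfsg.Agent.Lib.Chev.TitsFiveData

/-!
# Checks on the elements of order 5 of the Tits group
-/

set_option autoImplicit false
set_option maxRecDepth 100000
set_option maxHeartbeats 0

namespace CfsgLib.Chev.Tits

/-- Pass an evaluated number on. -/
noncomputable def forceP {α : Type} (n : ℕ) (f : ℕ → α) : α := Nat.rec (f 0) (fun k _ => f (k + 1)) n

theorem forceP_eq {α : Type} (n : ℕ) (f : ℕ → α) : forceP n f = f n := by cases n <;> rfl

/-- An element with a witness. -/
noncomputable def chkElem (N c j : ℕ) : Bool :=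
  forceP (mulP (zTab.getD j 0) (mulP N c)) fun r => forceP (mulP r r) fun s => forceP (mulP s s) fun q =>
    Nat.beq (mulP q r) idP && neP r idP && Nat.blt j 249

/-- All elements of a list, with the witnesses in the bytes of a number. -/
noncomputable def chkList (N W : ℕ) (cs : List ℕ) : ℕ → Bool :=
  List.rec (fun _ => true)
    (fun c _ ih i => chkElem N c ((W >>> (8 * i)) % 256) && forceP (i + 1) ih) cs

/-- A double coset. -/
noncomputable def chkCoset (w : ℕ) : Bool :=
  forceP (evalP (nRep.getD w [])) fun N => chkList N (witTab.getD w 0) (elemsP (above 0)) 0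

/-- Letters below five. -/
noncomputable def okW (w : List ℕ) : Bool := allR (fun k => Nat.blt k 5) w

/-- The table of candidates. -/
noncomputable def chkZ : Bool :=
  allR (fun j => forceP (zTab.getD j 0) fun z => okW (zWord.getD j []) &&
    Nat.beq (evalP (zWord.getD j [])) z && neP z idP &&
    forceP (mulP z z) fun s => forceP (mulP s s) fun q => Nat.beq (mulP q z) idP) (upto 249)

/-- A product of powers. -/
noncomputable def powTwo (i j : ℕ) : List ℕ :=
  appR (List.rec [] (fun _ _ ih => appR fiveA ih) (upto i))
    (List.rec [] (fun _ _ ih => appR fiveB ih) (upto j))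

/-- The Sylow subgroup and its conjugators. -/
noncomputable def chkSylow : Bool :=
  okW fiveA && okW fiveB && okW fiveOut && allR okW fiveConj && allR okW nRep &&
  Nat.beq (evalP (appR fiveA fiveB)) (evalP (appR fiveB fiveA)) &&
  Nat.beq (evalP (powTwo 5 0)) idP && Nat.beq (evalP (powTwo 0 5)) idP &&
  Nat.beq (evalP (appR fiveA fiveOut)) (evalP (appR fiveOut fiveA)) &&
  allR (fun t => neP (evalP (powTwo ((t + 1) / 5) ((t + 1) % 5))) idP &&
    Nat.beq (evalP (appR (fiveConj.getD t []) fiveA))
      (evalP (appR (powTwo ((t + 1) / 5) ((t + 1) % 5)) (fiveConj.getD t [])))) (upto 24)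

end CfsgLib.Chev.Tits
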