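import Mathlib
import Cfsg.Agent.Lib.Chev.TitsInvolution
import Cfsg.Agent.Lib.Chev.LargeReeLevi
import Cfsg.Agent.Lib.Chev.TitsFiveDefs
import Cfsg.Agent.Lib.Chev.TitsFiveCheckA
import Cfsg.Agent.Lib.Chev.TitsFiveCheckB
import Cfsg.Agent.Lib.Chev.TitsFiveCheckC
import Cfsg.Agent.Lib.Chev.TitsFiveCheckD
import Cfsg.Agent.Lib.Chev.TitsFiveCheckE
import Cfsg.Agent.Lib.Chev.TitsFiveCheckZ

/-!
# Every non-identity element of the Tits group is a product of two elements of one class of order 5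
-/

set_option autoImplicit false
set_option maxRecDepth 100000
set_option maxHeartbeats 1000000

namespace CfsgLib.Chev.Tits

open Cfsg.Lie CfsgLib.KnownA.PPart

theorem evalP_nil : evalP [] = idP := rfl

attribute [local irreducible] Lt matP mulP evalP prodP elemsP

/-- The words of the two fundamental elements. -/
def oWord : Fin 2 → List ℕ := ![[0, 1, 0], [2, 2, 3, 3, 3, 2]]

theorem nRep_table : nRep.length = 15 ∧ nRefl.length = 15 ∧ ∀ i : Fin 15,
    nRep.getD i.val [] = (nRefl.getD i.val []).flatMap oWord := by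
  decide +kernel

theorem cos_table : ∀ (a : Bool) (j : Option (Fin 4)) (b : Bool),
    (∀ r : Fin 48, wordApp sdataF4 ((wN (cosW a j b)).map Fin.val) r = r.val) ∨
      ∃ i : Fin 15, ∀ r : Fin 48, wordApp sdataF4 ((wN (cosW a j b)).map Fin.val) r =
        wordApp sdataF4 ((wN (nRefl.getD i.val [])).map Fin.val) r := by
  decide +kernel

theorem letters_lt : (∀ i : Fin 15, ∀ k ∈ nRep.getD i.val [], k < 4) ∧ (∀ k ∈ fiveOut, k < 4) ∧
    (∀ i : Fin 15, (nRep.getD i.val []).countP (fun k => Nat.ble 2 k) % 2 = 0) ∧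
    fiveOut.countP (fun k => Nat.ble 2 k) % 2 = 1 := by
  decide +kernel

theorem okW_lt {w : List ℕ} (h : okW w = true) : ∀ k ∈ w, k < 5 := fun _ hk => Nat.blt_eq.mp (allR_true h hk)

theorem gW_append (v w : List ℕ) : gW (v ++ w) = gW v * gW w := by
  rw [gW, List.map_append, List.prod_append]; rfl

theorem gW_mem {w : List ℕ} (h : ∀ k ∈ w, k < 5) : gW w ∈ G2F4 := by
  rw [gW]
  exact Subgroup.list_prod_mem _ fun y hy => by
    obtain ⟨k, hk, rfl⟩ := List.mem_map.1 hy
    exact Lt_mem k (h k hk)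

/-- A word as an element of the group. -/
noncomputable def gG (w : List ℕ) : ↥G2F4 :=
  open scoped _root_.Classical in if h : ∀ k ∈ w, k < 5 then ⟨gW w, gW_mem h⟩ else 1

theorem coe_gG {w : List ℕ} (h : ∀ k ∈ w, k < 5) : (gG w : GL chevF4.Idx (ZMod 2)) = gW w := by
  rw [gG, dif_pos h]

theorem gW_cons (k : ℕ) (w : List ℕ) : gW (k :: w) = Lt k * gW w := rfl

theorem gG_nil : gG [] = 1 := Subtype.ext (by rw [coe_gG (by simp)]; rfl)

theorem commute_pows {H : Type*} [Monoid H] {a b : H} (h : Commute a b) (i j k l : ℕ) :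
    a ^ i * b ^ j * (a ^ k * b ^ l) = a ^ (i + k) * b ^ (j + l) := by
  rw [_root_.pow_add, _root_.pow_add, mul_assoc, ← mul_assoc (b ^ j), ((h.pow_pow k j).symm).eq]
  simp only [mul_assoc]

attribute [local irreducible] gG gW

/-- A list of elements checked along a list of witnesses. -/
theorem chkList_spec (N W : ℕ) : ∀ (cs : List ℕ) (i : ℕ), chkList N W cs i = true →
    ∀ c ∈ cs, ∃ j, chkElem N c j = true := by
  intro cs
  induction cs with
  | nil => intro i _ c hc; simp at hc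
  | cons a cs ih =>
    intro i h c hc
    have h' : (chkElem N a ((W >>> (8 * i)) % 256) && forceP (i + 1) (chkList N W cs)) = true := h
    rw [Bool.and_eq_true, forceP_eq] at h'
    rcases List.mem_cons.1 hc with rfl | hc
    · exact ⟨_, h'.1⟩
    · exact ih _ h'.2 c hc

theorem chkCoset_all : ∀ i : Fin 15, chkCoset i.val = true := by
  intro i
  fin_cases i
  exacts [chkCoset_0, chkCoset_1, chkCoset_2, chkCoset_3, chkCoset_4, chkCoset_5, chkCoset_6,
    chkCoset_7, chkCoset_8, chkCoset_9, chkCoset_10, chkCoset_11, chkCoset_12, chkCoset_13, chkCoset_14]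

/-- Elements of order five. -/
def Five (y : ↥G2F4) : Prop := y ^ 5 = 1 ∧ y ≠ 1

theorem pow_five {H : Type*} [Group H] (r : H) : r * r * (r * r) * r = r ^ 5 := by
  simp [pow_succ, mul_assoc]

/-- A checked element is a product of two elements of order five. -/
theorem coset_cover (i : Fin 15) {c : ↥G2F4} (hc : (c : GL chevF4.Idx (ZMod 2)) ∈ chain 1) :
    ∃ y r, Five y ∧ Five r ∧ gG (nRep.getD i.val []) * c = y * r := by
  obtain ⟨x, hx, hxe⟩ := (chain_spec 11 1 rfl).2 _ hc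
  have hn : ∀ k ∈ nRep.getD i.val [], k < 5 := fun k hk => lt_trans (letters_lt.1 i k hk) (by norm_num)
  have h := chkCoset_all i
  rw [chkCoset, forceP_eq] at h
  obtain ⟨j, hj⟩ := chkList_spec _ _ _ _ h x (by rw [above]; exact hx)
  rw [chkElem, forceP_eq, forceP_eq, forceP_eq, Bool.and_eq_true, Bool.and_eq_true] at hj
  obtain ⟨⟨h5, hne⟩, hjlt⟩ := hj
  have hz := allR_upto chkZ_ok (Nat.blt_eq.mp hjlt)
  rw [forceP_eq, forceP_eq, forceP_eq, Bool.and_eq_true, Bool.and_eq_true, Bool.and_eq_true] at hz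
  obtain ⟨⟨⟨hzw, hzt⟩, hzne⟩, hz5⟩ := hz
  set z := gG (zWord.getD j []) with hzdef
  have hzm : ((z : GL chevF4.Idx (ZMod 2)) : Matrix chevF4.Idx chevF4.Idx (ZMod 2)) =
      matP (zTab.getD j 0) := by
    rw [hzdef, coe_gG (okW_lt hzw), gW_spec _ (okW_lt hzw), Nat.eq_of_beq_eq_true hzt]
  set r := z * (gG (nRep.getD i.val []) * c) with hrdef
  have hrm : ((r : GL chevF4.Idx (ZMod 2)) : Matrix chevF4.Idx chevF4.Idx (ZMod 2)) =
      matP (mulP (zTab.getD j 0) (mulP (evalP (nRep.getD i.val [])) x)) := by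
    rw [hrdef, Subgroup.coe_mul, Subgroup.coe_mul, Units.val_mul, Units.val_mul, hzm, coe_gG hn,
      gW_spec _ hn, hxe, matP_mulP, matP_mulP]
  have five : ∀ (y : ↥G2F4) (A : ℕ),
      ((y : GL chevF4.Idx (ZMod 2)) : Matrix chevF4.Idx chevF4.Idx (ZMod 2)) = matP A →
      Nat.beq (mulP (mulP (mulP A A) (mulP A A)) A) idP = true → neP A idP = true → Five y := by
    intro y A hy h5 hne
    refine ⟨Subtype.ext (Units.ext ?_), fun e => matP_ne hne ?_⟩
    · rw [← pow_five, Subgroup.coe_mul, Subgroup.coe_mul, Subgroup.coe_mul, Units.val_mul,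
        Units.val_mul, Units.val_mul, hy, ← matP_mulP, ← matP_mulP, ← matP_mulP,
        Nat.eq_of_beq_eq_true h5, matP_idP, Subgroup.coe_one, Units.val_one]
    · rw [← hy, e, matP_idP, Subgroup.coe_one, Units.val_one]
  have hz5' := five z _ hzm hz5 hzne
  refine ⟨z⁻¹, r, ⟨by rw [inv_pow, hz5'.1, inv_one], fun e => hz5'.2 (inv_eq_one.1 e)⟩,
    five r _ hrm h5 hne, ?_⟩
  rw [hrdef, inv_mul_cancel_left]

/-- The Borel subgroup. -/
theorem borel_eq : chevF4.borelSubgroup (ZMod 2) ⊓ G2F4 = chain 0 := by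
  refine (Subgroup.eq_of_le_of_card_ge ?_ ?_).symm
  · rw [chain_zero]
    exact inf_le_inf_right _ le_sup_left
  · rw [card_borel, (chain_spec 12 0 rfl).1]

theorem commutator_normal_index : (commutator ↥G2F4).index = 2 := index_commutator

theorem mul_mem_T (a b : ↥G2F4) :
    a * b ∈ commutator ↥G2F4 ↔ (a ∈ commutator ↥G2F4 ↔ b ∈ commutator ↥G2F4) :=
  Subgroup.mul_mem_iff_of_index_two index_commutator

/-- Membership in the derived subgroup by parity. -/
theorem gG_mem_iff : ∀ w : List ℕ, (∀ k ∈ w, k < 4) →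
    (gG w ∈ commutator ↥G2F4 ↔ w.countP (fun k => Nat.ble 2 k) % 2 = 0) := by
  have hsingle : ∀ k, k < 5 → (gG [k] : GL chevF4.Idx (ZMod 2)) = Lt k := fun k hk => by
    rw [coe_gG (by simpa using hk), gW]; simp
  have hsplit : ∀ (k : ℕ) (w : List ℕ), k < 5 → (∀ x ∈ w, x < 5) → gG (k :: w) = gG [k] * gG w :=
    fun k w hk hw => Subtype.ext (by
      rw [Subgroup.coe_mul, hsingle k hk, coe_gG hw, coe_gG (by simpa using ⟨hk, hw⟩), gW_cons])
  have h0 : gG [0] ∈ commutator ↥G2F4 := involution_mem_commutator _ (Subtype.ext (by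
    rw [Subgroup.coe_mul, hsingle 0 (by norm_num)]
    simpa [gW] using rels.1))
  have h1 : gG [1] ∈ commutator ↥G2F4 := involution_mem_commutator _ (Subtype.ext (by
    rw [Subgroup.coe_mul, hsingle 1 (by norm_num)]
    simpa [gW] using rels.2.1))
  have h2 : gG [2] ∉ commutator ↥G2F4 := by
    rw [show gG [2] = cEl from Subtype.ext (by rw [hsingle 2 (by norm_num)]; rfl)]
    exact cEl_not_mem
  have h3 : gG [3] ∉ commutator ↥G2F4 := by
    have e : gG [2] * gG [3] * gG [3] * gG [2] = gG [3] * gG [2] * gG [3] * gG [3] := Subtype.ext (by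
      simp only [Subgroup.coe_mul, hsingle 2 (by norm_num), hsingle 3 (by norm_num)]
      simpa [gW, mul_assoc] using rels.2.2.2.2.2.1)
    intro h
    have ha : gG [2] * gG [3] * gG [3] * gG [2] ∈ commutator ↥G2F4 :=
      (mul_mem_T _ _).2 (iff_of_false (fun h' => h2 ((Subgroup.mul_mem_cancel_right _ h).1
        ((Subgroup.mul_mem_cancel_right _ h).1 h'))) h2)
    rw [e] at ha
    exact h2 ((Subgroup.mul_mem_cancel_left _ h).1 ((Subgroup.mul_mem_cancel_right _ h).1
      ((Subgroup.mul_mem_cancel_right _ h).1 ha)))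
  intro w
  induction w with
  | nil =>
    intro _
    refine iff_of_true ?_ rfl
    rw [gG_nil]
    exact one_mem _
  | cons k w ih =>
    intro hw
    have hk := hw k List.mem_cons_self
    have hw' := fun x hx => hw x (List.mem_cons_of_mem _ hx)
    rw [hsplit k w (by omega) (fun x hx => lt_trans (hw' x hx) (by norm_num)), mul_mem_T, ih hw',
      List.countP_cons]
    interval_cases k
    · simp [h0]
    · simp [h1]
    · simp [h2]; omega
    · simp [h3]; omega

/-- The fundamental elements as words. -/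
theorem oN_eq (S : SetupF4 (ZMod 2) 0) (o : Fin 2) :
    (S.oN o : GL chevF4.Idx (ZMod 2)) = gW (oWord o) := by
  obtain ⟨-, -, e22, -, -, e333⟩ := letters
  have hL : ∀ rs v, rootsEq rs (evalP v) = true → (∀ k ∈ v, k < 5) → gR rs = gW v := fun rs v h hv =>
    Units.ext (by rw [rootsEq_spec h, gW_spec v hv])
  have hp : ∀ t : ZMod 2, t ^ 2 ^ 0 = t := fun t => by rw [pow_zero, pow_one]
  have hz : (0 : ZMod 2) ^ (2 * 2 ^ 0) = 0 := by decide
  have h11 : (1 : ZMod 2) + 1 = 0 := by decide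
  rcases (by decide : ∀ o : Fin 2, o = 0 ∨ o = 1) o with rfl | rfl
  · rw [show oWord 0 = [0, 1, 0] from rfl]
    rw [S.oN_zero_eq, Subgroup.coe_mul, Subgroup.coe_mul]
    have ea : (S.xa 1 : GL chevF4.Idx (ZMod 2)) = Lt 0 := by
      rw [S.xa_eq_word, hp]; simp [Lt, gR, letRoots]
    have eb : (S.ya 1 : GL chevF4.Idx (ZMod 2)) = Lt 1 := by
      show goodF4.xG 14 _ * goodF4.xG 23 _ = _
      rw [hp]; simp [Lt, gR, letRoots]
    rw [ea, eb]
    simp [gW, mul_assoc]
  · rw [show oWord 1 = [2, 2] ++ [3, 3, 3] ++ [2] from rfl]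
    rw [S.oN_one_eq, Subgroup.coe_mul, Subgroup.coe_mul, gW_append, gW_append,
      ← hL _ _ e22 (by simp), ← hL _ _ e333 (by simp)]
    have e1 : (S.xb 0 1 : GL chevF4.Idx (ZMod 2)) = gR [28, 30] := by
      rw [S.xb_eq_word]; simp [gR, goodF4.xG_zero]
    have e2 : (S.xb 1 0 : GL chevF4.Idx (ZMod 2)) = gW [2] := by
      rw [S.xb_eq_word]; simp [gR, gW, Lt, letRoots, goodF4.xG_zero]
    have e3 : (S.yb 1 1 : GL chevF4.Idx (ZMod 2)) = gR [20, 22, 17] := by
      show goodF4.xG 20 _ * (goodF4.xG 22 _ * (goodF4.xG 19 _ * goodF4.xG 17 _)) = _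
      simp [gR, goodF4.xG_zero, h11]
    rw [e1, e2, e3]

theorem wordVal_eq (S : SetupF4 (ZMod 2) 0) : ∀ l : List (Fin 2),
    ((wordVal S.oN l : ↥(twistedF4 (ZMod 2) (2 ^ 0))) : GL chevF4.Idx (ZMod 2)) = gW (l.flatMap oWord) := by
  intro l
  induction l with
  | nil => simp [wordVal, gW]
  | cons o l ih => rw [wordVal_cons, Subgroup.coe_mul, ih, List.flatMap_cons, gW_append, oN_eq S]

/-- Elements outside the Borel subgroup. -/
theorem cells (g : ↥G2F4) (hg : (g : GL chevF4.Idx (ZMod 2)) ∉ chain 0) :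
    ∃ i : Fin 15, ∃ b u : ↥G2F4, (b : GL chevF4.Idx (ZMod 2)) ∈ chain 0 ∧
      (u : GL chevF4.Idx (ZMod 2)) ∈ chain 0 ∧ g = b * gG (nRep.getD i.val []) * u := by
  obtain ⟨S⟩ := exists_setup
  obtain ⟨v, hv, n, hn, hnm, hna, b, hb, u, hu, he⟩ := S.sys.exists_canonical hasCommF4 g.2
  have hu' := S.sys.fixedMinus_le_borel hasCommF4 hv hu
  obtain ⟨a, j, c, rfl⟩ := S.weyl_word hv
  have hmem : ∀ z, z ∈ chevF4.borelSubgroup (ZMod 2) ⊓ S.sys.G1 → z ∈ chain 0 := fun z hz =>
    borel_eq ▸ hz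
  rcases cos_table a j c with h | ⟨i, hi⟩
  · exfalso
    refine hg (hmem _ (Subgroup.mem_inf.2 ⟨?_, g.2⟩))
    rw [he]
    refine mul_mem (mul_mem hb.1 (Subgroup.mem_sup_right ?_)) hu'.1
    have hd := goodF4.monomial_same_acts hnm (one_mem _) hna
      (show goodF4.Acts (1 : GL chevF4.Idx (ZMod 2)) (goodF4.wperm (wN (cosW a j c))) by
        rw [show goodF4.wperm (wN (cosW a j c)) = 1 from Equiv.ext fun r => Fin.ext (by
          rw [goodF4.wperm_tab checksF4 structChecksF4]; exact h r)]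
        exact goodF4.acts_one)
    rwa [inv_one, mul_one] at hd
  · have hn5 : ∀ k ∈ nRep.getD i.val [], k < 5 := fun k hk => lt_trans (letters_lt.1 i k hk) (by norm_num)
    set y := gG (nRep.getD i.val []) with hy
    have hye : (y : GL chevF4.Idx (ZMod 2)) = goodF4.wordN (wN (nRefl.getD i.val [])) := by
      rw [hy, coe_gG hn5, nRep_table.2.2 i, ← wordVal_eq S, S.coe_wordVal]
    have hd := goodF4.monomial_same_acts hnm (goodF4.wordN_mem _) hna
      (show goodF4.Acts (goodF4.wordN (F := ZMod 2) (wN (nRefl.getD i.val [])))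
          (goodF4.wperm (wN (cosW a j c))) by
        rw [wperm_eq_of_tab hi]; exact goodF4.acts_wordN _)
    rw [← hye] at hd
    set bG : ↥G2F4 := ⟨b, hb.2⟩
    set nG : ↥G2F4 := ⟨n, hn⟩
    set uG : ↥G2F4 := ⟨u, hu'.2⟩
    refine ⟨i, bG * (nG * y⁻¹), uG, mul_mem (hmem _ hb) (hmem _ (Subgroup.mem_inf.2
      ⟨Subgroup.mem_sup_right hd, (nG * y⁻¹).2⟩)), hmem _ hu', ?_⟩
    rw [show bG * (nG * y⁻¹) * y * uG = bG * nG * uG by group]
    exact Subtype.ext he

/-- A conjugate outside the Borel subgroup. -/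
theorem exists_conj_out {g : ↥G2F4} (hg : g ≠ 1) :
    ∃ c : ↥G2F4, ((c * g * c⁻¹ : ↥G2F4) : GL chevF4.Idx (ZMod 2)) ∉ chain 0 := by
  obtain ⟨S⟩ := exists_setup
  by_contra h
  push Not at h
  have hcore := S.sys.core_trivial hasCommF4 S.separates
  refine hg (Subgroup.mem_bot.1 (hcore ▸ (show g ∈ Subgroup.normalCore _ from fun c => ?_)))
  exact Subgroup.mem_subgroupOf.2 (borel_eq.symm ▸ h c : _ ∈ chevF4.borelSubgroup (ZMod 2) ⊓ G2F4)

/-- Every non-trivial element of the derived subgroup is a product of two elements of order 5. -/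
theorem two_fives {g : ↥G2F4} (hgT : g ∈ commutator ↥G2F4) (hg : g ≠ 1) :
    ∃ y r, Five y ∧ Five r ∧ g = y * r := by
  obtain ⟨c, hc⟩ := exists_conj_out hg
  obtain ⟨i, b, u, hb, hu, e⟩ := cells _ hc
  set n := gG (nRep.getD i.val []) with hn
  set d := b⁻¹ * c
  have hd : d * g * d⁻¹ = n * (u * b) := by
    rw [show d * g * d⁻¹ = b⁻¹ * (c * g * c⁻¹) * b by simp [d, mul_assoc], e]
    group
  have hnT : n ∈ commutator ↥G2F4 :=
    (gG_mem_iff _ (letters_lt.1 i)).2 (letters_lt.2.2.1 i)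
  have hubT : u * b ∈ commutator ↥G2F4 := by
    refine (Subgroup.mul_mem_cancel_left _ hnT).1 ?_
    rw [← hd]
    exact Subgroup.Normal.conj_mem inferInstance _ hgT d
  have hub : ((u * b : ↥G2F4) : GL chevF4.Idx (ZMod 2)) ∈ chain 1 := by
    have h10 : chain 1 ≤ chain 0 :=
      Subgroup.closure_mono (Set.image_mono fun j hj => ⟨Nat.zero_le _, hj.2⟩)
    have hc0 : Lt 2 ∈ chain 0 := pW_zero ▸ chain_mono le_rfl (by norm_num)
    have hidx0 : ((chain 1).subgroupOf (chain 0)).index = 2 := by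
      have h := ((chain 1).subgroupOf (chain 0)).card_mul_index
      rw [Nat.card_congr (Subgroup.subgroupOfEquivOfLe h10).toEquiv, (chain_spec 11 1 rfl).1,
        (chain_spec 12 0 rfl).1] at h
      omega
    have hL : Lt 2 ∉ chain 1 := fun h => cEl_not_mem (chain_one_le h (Lt_mem 2 (by norm_num)))
    by_contra hnot
    have h' := (Subgroup.mul_mem_iff_of_index_two hidx0
      (a := (⟨(Lt 2)⁻¹, inv_mem hc0⟩ : ↥(chain 0)))
      (b := ⟨((u * b : ↥G2F4) : GL chevF4.Idx (ZMod 2)), mul_mem hu hb⟩)).2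
      (iff_of_false (fun e => hL (by simpa [Subgroup.mem_subgroupOf] using e))
        (fun e => hnot (by simpa [Subgroup.mem_subgroupOf] using e)))
    rw [Subgroup.mem_subgroupOf] at h'
    have hin := chain_one_le (g := ((cEl⁻¹ * (u * b) : ↥G2F4) : GL chevF4.Idx (ZMod 2))) h'
      (cEl⁻¹ * (u * b)).2
    exact cEl_not_mem (inv_mem_iff.1 ((Subgroup.mul_mem_cancel_right _ hubT).1 hin))
  obtain ⟨y, r, hy, hr, he⟩ := coset_cover i hub
  rw [← hn, ← hd] at he
  have five_conj : ∀ z, Five z → Five (d⁻¹ * z * d) := fun z hz => by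
    refine ⟨?_, fun h => hz.2 ?_⟩
    · have := conj_pow (i := 5) (a := d⁻¹) (b := z)
      rw [inv_inv] at this
      rw [this, hz.1, mul_one, inv_mul_cancel]
    · rw [show z = d * (d⁻¹ * z * d) * d⁻¹ by group, h, mul_one, mul_inv_cancel]
  refine ⟨_, _, five_conj y hy, five_conj r hr, ?_⟩
  rw [show d⁻¹ * y * d * (d⁻¹ * r * d) = d⁻¹ * (y * r) * d by group, ← he]
  group

theorem gG_append {v w : List ℕ} (hv : ∀ k ∈ v, k < 5) (hw : ∀ k ∈ w, k < 5) :
    gG (v ++ w) = gG v * gG w := Subtype.ext (by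
  rw [Subgroup.coe_mul, coe_gG hv, coe_gG hw, coe_gG fun k hk => (List.mem_append.1 hk).elim (hv k) (hw k),
    gW_append])

theorem gG_eq {v w : List ℕ} (hv : ∀ k ∈ v, k < 5) (hw : ∀ k ∈ w, k < 5)
    (h : Nat.beq (evalP v) (evalP w) = true) : gG v = gG w := Subtype.ext (by
  rw [coe_gG hv, coe_gG hw, gW_eq hv hw h])

/-- A Sylow subgroup of order 25 whose elements are conjugates of one of them. -/
theorem sylow_class {X : Type*} [Group X] [Finite X] (H : Subgroup X) {A B : ↥H} (cAB : Commute A B) (hA5' : A ^ 5 = 1)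
    (hB5' : B ^ 5 = 1) (hij : ∀ i j, i < 5 → j < 5 → (i, j) ≠ (0, 0) →
      A ^ i * B ^ j ≠ 1 ∧ ∃ k, k * A * k⁻¹ = A ^ i * B ^ j)
    (hcard : ¬ 5 ^ 3 ∣ Nat.card ↥H) (r : ↥H) (hr5 : r ^ 5 = 1) (hr1 : r ≠ 1) :
    ∃ k, r = k * A * k⁻¹ := by
  have modA : ∀ i : ℕ, A ^ i = A ^ (i % 5) := fun i => pow_eq_pow_mod i hA5'
  have modB : ∀ i : ℕ, B ^ i = B ^ (i % 5) := fun i => pow_eq_pow_mod i hB5'
  have hmul := commute_pows cAB
  let P : Subgroup ↥H :=
    { carrier := {g | ∃ i j : ℕ, g = A ^ i * B ^ j}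
      one_mem' := ⟨0, 0, by simp⟩
      mul_mem' := by
        rintro _ _ ⟨i, j, rfl⟩ ⟨k, l, rfl⟩
        exact ⟨_, _, hmul i j k l⟩
      inv_mem' := by
        rintro _ ⟨i, j, rfl⟩
        refine ⟨4 * i, 4 * j, inv_eq_of_mul_eq_one_right ?_⟩
        rw [hmul, show i + 4 * i = 5 * i by omega, show j + 4 * j = 5 * j by omega, pow_mul, pow_mul,
          hA5', hB5', one_pow, one_pow, mul_one] }
  have hcardP : Nat.card ↥P = 25 := by
    let f : Fin 5 × Fin 5 → ↥P := fun p => ⟨A ^ p.1.val * B ^ p.2.val, _, _, rfl⟩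
    have hf : Function.Bijective f := by
      refine ⟨fun p q h => ?_, fun x => ?_⟩
      · have h' : A ^ p.1.val * B ^ p.2.val = A ^ q.1.val * B ^ q.2.val := congrArg Subtype.val h
        by_contra hne
        have h1 := congrArg (fun z => z * (A ^ (5 - q.1.val) * B ^ (5 - q.2.val))) h'
        simp only [hmul, show q.1.val + (5 - q.1.val) = 5 by omega,
          show q.2.val + (5 - q.2.val) = 5 by omega, hA5', hB5', mul_one] at h1
        rw [modA, modB] at h1
        refine (hij _ _ (Nat.mod_lt _ (by norm_num)) (Nat.mod_lt _ (by norm_num)) ?_).1 h1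
        intro e
        simp only [Prod.mk.injEq] at e
        exact hne (Prod.ext (Fin.ext (by omega)) (Fin.ext (by omega)))
      · obtain ⟨_, i, j, rfl⟩ := x
        exact ⟨(⟨i % 5, Nat.mod_lt _ (by norm_num)⟩, ⟨j % 5, Nat.mod_lt _ (by norm_num)⟩),
          Subtype.ext (by show A ^ (i % 5) * B ^ (j % 5) = _; rw [← modA, ← modB])⟩
    rw [← Nat.card_eq_of_bijective f hf]
    simp
  have : Fact (Nat.Prime 5) := ⟨by norm_num⟩
  have hP : IsPGroup 5 ↥P := IsPGroup.of_card (n := 2) (by rw [hcardP]; norm_num)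
  obtain ⟨Q, hQ⟩ := hP.exists_le_sylow
  have hPQ : (Q : Subgroup ↥H) = P := by
    obtain ⟨n, hn⟩ := IsPGroup.iff_card.1 Q.2
    refine (Subgroup.eq_of_le_of_card_ge hQ ?_).symm
    have hdvd := Subgroup.card_subgroup_dvd_card (Q : Subgroup ↥H)
    rw [hn] at hdvd
    rw [hn, hcardP]
    rcases Nat.lt_or_ge n 3 with h | h
    · exact (Nat.pow_le_pow_right (by norm_num) (show n ≤ 2 by omega)).trans (by norm_num)
    · exact absurd (dvd_trans (pow_dvd_pow 5 h) hdvd) hcard
  have hrP : IsPGroup 5 ↥(Subgroup.zpowers r) :=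
    IsPGroup.of_card (n := 1) (by
      rw [Nat.card_zpowers, pow_one]
      exact orderOf_eq_prime hr5 hr1)
  obtain ⟨R, hR⟩ := hrP.exists_le_sylow
  obtain ⟨c, hc⟩ := MulAction.exists_smul_eq ↥H R Q
  have hcr : c * r * c⁻¹ ∈ P := by
    rw [← hPQ, ← hc, Sylow.coe_subgroup_smul]
    exact ⟨r, hR (Subgroup.mem_zpowers r), rfl⟩
  obtain ⟨i, j, hcr⟩ := hcr
  rw [modA, modB] at hcr
  obtain ⟨-, k, hk⟩ := hij (i % 5) (j % 5) (Nat.mod_lt _ (by norm_num)) (Nat.mod_lt _ (by norm_num))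
    (fun e => hr1 (by
      simp only [Prod.mk.injEq] at e
      rw [e.1, e.2, pow_zero, pow_zero, one_mul] at hcr
      exact conj_eq_one_iff.1 hcr))
  refine ⟨c⁻¹ * k, ?_⟩
  rw [show c⁻¹ * k * A * (c⁻¹ * k)⁻¹ = c⁻¹ * (k * A * k⁻¹) * c by group, hk, ← hcr]
  group

theorem not_dvd_card : ¬ 5 ^ 3 ∣ Nat.card ↥G2F4 := by
  rw [card_group]
  norm_num

/-- The elements of order five form one class of the derived subgroup. -/
theorem one_class : Five (gG fiveA) ∧ ∀ r : ↥G2F4, Five r →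
    ∃ k ∈ commutator ↥G2F4, r = k * gG fiveA * k⁻¹ := by
  classical
  have hs := chkSylow_ok
  simp only [chkSylow, Bool.and_eq_true, appR_eq] at hs
  obtain ⟨⟨⟨⟨⟨⟨⟨⟨⟨hA, hB⟩, hO⟩, hK⟩, -⟩, hcomm⟩, hA5⟩, hB5⟩, hOc⟩, htab⟩ := hs
  have lA := okW_lt hA
  have lB := okW_lt hB
  have lO := okW_lt hO
  set A := gG fiveA with hAdef
  set B := gG fiveB with hBdef
  have gnil : gG [] = 1 := gG_nil
  have cAB : Commute A B := by
    show A * B = B * A
    rw [← gG_append lA lB, ← gG_append lB lA]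
    exact gG_eq (fun k hk => (List.mem_append.1 hk).elim (lA k) (lB k))
      (fun k hk => (List.mem_append.1 hk).elim (lB k) (lA k)) hcomm
  have hpl : ∀ (w : List ℕ), (∀ k ∈ w, k < 5) → ∀ (l : List ℕ),
      (∀ k ∈ List.rec (motive := fun _ => List ℕ) [] (fun _ _ ih => appR w ih) l, k < 5) ∧
        gG (List.rec (motive := fun _ => List ℕ) [] (fun _ _ ih => appR w ih) l) = gG w ^ l.length := by
    intro w hw l
    induction l with
    | nil => exact ⟨by simp, by simpa using gnil⟩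
    | cons a l ih =>
      show (∀ k ∈ appR w _, k < 5) ∧ gG (appR w _) = _
      rw [appR_eq]
      refine ⟨fun k hk => (List.mem_append.1 hk).elim (hw k) (ih.1 k), ?_⟩
      rw [gG_append hw ih.1, ih.2, List.length_cons, pow_succ']
  have hp : ∀ i j, (∀ k ∈ powTwo i j, k < 5) ∧ gG (powTwo i j) = A ^ i * B ^ j := by
    intro i j
    have h1 := hpl _ lA (upto i)
    have h2 := hpl _ lB (upto j)
    rw [upto_eq, List.length_range] at h1 h2
    refine ⟨fun k hk => ?_, ?_⟩ <;> simp only [powTwo, appR_eq, upto_eq] at *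
    · exact (List.mem_append.1 hk).elim (h1.1 k) (h2.1 k)
    · rw [gG_append h1.1 h2.1, h1.2, h2.2]
  have hA5' : A ^ 5 = 1 := by
    have := gG_eq (hp 5 0).1 (w := []) (by simp) (by rwa [evalP_nil])
    rwa [(hp 5 0).2, gnil, pow_zero, mul_one] at this
  have hB5' : B ^ 5 = 1 := by
    have := gG_eq (hp 0 5).1 (w := []) (by simp) (by rwa [evalP_nil])
    rwa [(hp 0 5).2, gnil, pow_zero, one_mul] at this
  have hij : ∀ i j, i < 5 → j < 5 → (i, j) ≠ (0, 0) →
      A ^ i * B ^ j ≠ 1 ∧ ∃ k, k * A * k⁻¹ = A ^ i * B ^ j := by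
    intro i j hi hj hne
    have hpos : 1 ≤ 5 * i + j := by
      by_contra h0
      exact hne (Prod.ext (by simp only; omega) (by simp only; omega))
    have ht : 5 * i + j - 1 < 24 := by omega
    have h := allR_upto htab ht
    rw [show (5 * i + j - 1 + 1) / 5 = i by omega, show (5 * i + j - 1 + 1) % 5 = j by omega,
      Bool.and_eq_true] at h
    refine ⟨fun e => matP_ne h.1 ?_, ?_⟩
    · rw [← gW_spec _ (hp i j).1, ← coe_gG (hp i j).1, (hp i j).2, e, matP_idP]
      rfl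
    have hk : ∀ k ∈ fiveConj.getD (5 * i + j - 1) [], k < 5 := by
      intro k hk
      rcases Nat.lt_or_ge (5 * i + j - 1) fiveConj.length with hl | hl
      · rw [List.getD_eq_getElem _ _ hl] at hk
        exact okW_lt (allR_true hK (List.getElem_mem hl)) k hk
      · rw [List.getD_eq_default _ _ hl] at hk; simp at hk
    refine ⟨gG (fiveConj.getD (5 * i + j - 1) []), ?_⟩
    rw [mul_inv_eq_iff_eq_mul, ← gG_append hk lA, ← (hp i j).2, ← gG_append (hp i j).1 hk]
    exact gG_eq (fun k h' => (List.mem_append.1 h').elim (hk k) (lA k))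
      (fun k h' => (List.mem_append.1 h').elim ((hp i j).1 k) (hk k)) (by simpa using h.2)
  have hAne : A ≠ 1 := fun e => (hij 1 0 (by norm_num) (by norm_num) (by simp)).1 (by simp [e])
  refine ⟨⟨hA5', hAne⟩, ?_⟩
  intro r hr
  have hsy := sylow_class G2F4 cAB hA5' hB5' hij not_dvd_card r hr.1 hr.2
  obtain ⟨k', hk'⟩ := hsy
  by_cases hkT : k' ∈ commutator ↥G2F4
  · exact ⟨k', hkT, hk'⟩
  refine ⟨k' * gG fiveOut, (mul_mem_T _ _).2 (iff_of_false hkT fun h => ?_), ?_⟩
  · have := (gG_mem_iff _ letters_lt.2.1).1 h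
    rw [letters_lt.2.2.2] at this
    omega
  · have hcA : A * gG fiveOut = gG fiveOut * A := by
      rw [← gG_append lA lO, ← gG_append lO lA]
      exact gG_eq (fun k h' => (List.mem_append.1 h').elim (lA k) (lO k))
        (fun k h' => (List.mem_append.1 h').elim (lO k) (lA k)) hOc
    rw [hk', show k' * gG fiveOut * A * (k' * gG fiveOut)⁻¹ =
      k' * (gG fiveOut * A * (gG fiveOut)⁻¹) * k'⁻¹ by group, ← hcA, mul_inv_cancel_right]

/-- The Tits group is covered by the square of a class of elements of order five. -/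
theorem two_conj : ∃ x : TitsGroup, Odd (orderOf x) ∧ ∀ g : TitsGroup, g ≠ 1 →
    ∃ u v : TitsGroup, g = (u * x * u⁻¹) * (v * x * v⁻¹) := by
  obtain ⟨hA, hcls⟩ := one_class
  have hAT : gG fiveA ∈ commutator ↥G2F4 := by
    have h5 : gG fiveA ^ 5 = 1 := hA.1
    rcases mem_or (gG fiveA) with h | h
    · exact h
    · by_contra hn
      have h2 : gG fiveA ^ 2 ∈ commutator ↥G2F4 := by
        rw [sq]; exact (mul_mem_T _ _).2 Iff.rfl
      have h6 := pow_mem h2 3
      rw [← pow_mul, show 2 * 3 = 5 + 1 by norm_num, _root_.pow_add, h5, one_mul, pow_one] at h6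
      exact hn h6
  let x : TitsGroup := ⟨gG fiveA, hAT⟩
  refine ⟨x, ?_, fun g hg => ?_⟩
  · have h : orderOf x ∣ 5 := orderOf_dvd_of_pow_eq_one (Subtype.ext (by
      rw [Subgroup.coe_pow]; exact hA.1))
    exact Odd.of_dvd_nat (by decide) h
  obtain ⟨y, r, hy, hr, e⟩ := two_fives g.2 (fun e => hg (Subtype.ext e))
  obtain ⟨u, hu, rfl⟩ := hcls y hy
  obtain ⟨v, hv, rfl⟩ := hcls r hr
  exact ⟨⟨u, hu⟩, ⟨v, hv⟩, Subtype.ext e⟩

end CfsgLib.Chev.Tits
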