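import Mathlib
import Cfsg.Prelude.Def_KGroupFacts
import Cfsg.Agent.Lib.Chev.TwistAutPar
import Cfsg.Agent.Lib.Chev.TwistEDProps
import Cfsg.Agent.Lib.Chev.TwistHOrders

/-!
The outer automorphisms of ³D₄(q) are the field automorphisms.
-/

set_option autoImplicit false
set_option maxHeartbeats 1600000
set_option maxRecDepth 100000
set_option linter.unusedSectionVars false

namespace CfsgLib.Chev.Triality

open Cfsg.Lie

/-- The indices of a word of the longest element. -/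
def longIdx : List (Fin 2) := [1, 0, 1, 0, 1, 0]

/-- The longest element makes every positive root negative. -/
lemma long_neg : ∀ a : Fin chevD4.nroots, 12 ≤ a.val →
    wordApp sdataD4 ((longIdx.flatMap orbD4).map Fin.val) a < 12 := by
  decide +kernel

/-- The longest element preserves both orbits up to sign. -/
lemma long_orb : ∀ o : Fin 2, ∀ i ∈ orbD4 o, ∃ j ∈ orbD4 o,
    wordApp sdataD4 ((longIdx.flatMap orbD4).map Fin.val) (fneg chevD4 (fsimple dataD4 i)) =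
      fsimple dataD4 j := by
  decide +kernel

/-- A setup of ³D₄(q). -/
structure Setup (K : Type*) [Field K] (q : ℕ) where
  /-- the setup -/
  A : A1Setup goodD4 K
  hG : A.G1 = twistedD4 K q
  hφ : ∀ t, A.φ t = t ^ q
  hS : A.S = rootSymOf goodD4 checksD4 structChecksD4 rhoD4_ok
  hr : A.r = 2
  ho : ∀ o, A.orb o = orbD4 (Fin.cast hr o)
  hq : IsPrimePow q
  hK : Nat.card K = q ^ 3

theorem exists_setup (K : Type*) [Field K] [Fintype K] {q : ℕ} (hq : IsPrimePow q)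
    (hK : Fintype.card K = q ^ 3) : Nonempty (Setup K q) := by
  obtain ⟨A, hG, hφ, hS, hr, ho⟩ := exists_setupD4 K hq hK
  exact ⟨⟨A, hG, hφ, hS, hr, ho, hq, by rw [Nat.card_eq_fintype_card, hK]⟩⟩

namespace Setup

variable {K : Type*} [Field K] [Fintype K] {q : ℕ} (S : Setup K q)

/-- The orbit of the fixed fundamental root. -/
def o0 : Fin S.A.r := Fin.cast S.hr.symm 0

/-- The orbit of three fundamental roots. -/
def o1 : Fin S.A.r := Fin.cast S.hr.symm 1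

lemma orb0 : S.A.orb S.o0 = orbD4 0 := S.ho _

lemma orb1 : S.A.orb S.o1 = orbD4 1 := S.ho _

lemma cases (o : Fin S.A.r) : o = S.o0 ∨ o = S.o1 := by
  have := o.2
  have h := S.hr
  rcases Nat.lt_or_ge o.val 1 with h1 | h1
  · exact Or.inl (Fin.ext (show o.val = 0 by omega))
  · exact Or.inr (Fin.ext (show o.val = 1 by omega))

lemma o0_ne : S.o0 ≠ S.o1 := fun h => by
  have := congrArg Fin.val h
  simp [o0, o1] at this

lemma hc (_S : Setup K q) : HasComm chevD4 := hasComm_of_mem (by simp)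

lemma longest : S.A.Longest (longIdx.map (Fin.cast S.hr.symm)) := by
  have hw : S.A.orbWord (longIdx.map (Fin.cast S.hr.symm)) = longIdx.flatMap orbD4 := by
    rw [A1Setup.orbWord, List.flatMap_map]
    exact congrArg (List.flatMap · longIdx) (funext fun o => S.ho _)
  have hhalf : half chevD4 = 12 := by decide +kernel
  refine ⟨fun a ha => ?_, fun o i hi => ?_⟩
  · rw [hw, hhalf, goodD4.wperm_tab checksD4 structChecksD4]
    exact long_neg a (hhalf ▸ ha)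
  · rw [S.ho] at hi ⊢
    obtain ⟨j, hj, he⟩ := long_orb _ i hi
    refine ⟨j, hj, Fin.ext ?_⟩
    rw [hw, goodD4.wperm_tab checksD4 structChecksD4]
    have e1 : ∀ k : Fin chevD4.rank, ((goodD4.sroot k : Fin _) : ℕ) = fsimple dataD4 k :=
      fun k => (checksD4.simple_facts k.2).1
    rw [e1 j, show ((goodD4.nroot (goodD4.sroot i) : Fin _) : ℕ) = fneg chevD4 (goodD4.sroot i) from
      neg_eq goodD4.lie.pack (goodD4.sroot i).2, e1 i]
    exact he

lemma hnt (o : Fin S.A.r) : S.A.T.fixedMinus (goodD4.wperm (S.A.orb o)) ≠ ⊥ := by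
  intro h
  have h1 := (S.A.mem_fixedMinus S.hc o).2 ⟨fun _ => ((1 : ℤ) : K), S.A.const_compat o 1, rfl⟩
  rw [h, Subgroup.mem_bot, ← goodD4.xList_zero goodD4.sroot (S.A.orb o)] at h1
  obtain ⟨i, hi⟩ := List.exists_mem_of_ne_nil _ (S.A.isOrbit o).ne
  have := goodD4.xList_inj S.hc (S.A.isOrbit o).sorted h1 i hi
  simp at this

lemma pi_val (i : Fin 4) : (S.A.S.pi i).val = nth 0 [2, 1, 3, 0] i := by
  revert i
  rw [S.hS]
  decide +kernel

lemma φ3 (t : K) : S.A.φ (S.A.φ (S.A.φ t)) = t := by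
  rw [S.hφ, S.hφ, S.hφ, ← pow_mul, ← pow_mul, show q * (q * q) = q ^ 3 by ring, ← S.hK,
    Nat.card_eq_fintype_card, FiniteField.pow_card]

/-- The coordinate of the fixed root. -/
noncomputable def P0 : S.A.Par S.o0 where
  i₀ := ⟨1, by decide⟩
  hi₀ := by rw [S.orb0]; simp [orbD4]
  Kf := RingHom.eqLocusField S.A.φ (RingHom.id K)
  e _ := RingHom.id K
  e₀ _ := rfl
  compat c hc i _ := by
    simpa using (RingHom.mem_eqLocusField.1 hc).symm
  cover t ht := by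
    have h := ht ⟨1, by decide⟩ (by rw [S.orb0]; simp [orbD4])
    rw [show S.A.S.pi ⟨1, by decide⟩ = ⟨1, by decide⟩ from Fin.ext (S.pi_val 1)] at h
    refine ⟨RingHom.mem_eqLocusField.2 h.symm, fun i hi => ?_⟩
    rw [S.orb0] at hi
    simp [orbD4] at hi
    subst hi
    rfl

/-- The coordinate of the three roots. -/
noncomputable def P1 : S.A.Par S.o1 where
  i₀ := ⟨0, by decide⟩
  hi₀ := by rw [S.orb1]; simp [orbD4]
  Kf := ⊤
  e i := if i.val = 2 then S.A.φ else if i.val = 3 then S.A.φ.comp S.A.φ else RingHom.id K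
  e₀ _ := rfl
  compat c _ i hi := by
    rw [S.orb1] at hi
    simp [orbD4] at hi
    rcases hi with rfl | rfl | rfl
    · rw [show S.A.S.pi ⟨3, by decide⟩ = ⟨0, by decide⟩ from Fin.ext (S.pi_val 3)]
      simp [S.φ3]
    · rw [show S.A.S.pi ⟨2, by decide⟩ = ⟨3, by decide⟩ from Fin.ext (S.pi_val 2)]
      simp
    · rw [show S.A.S.pi ⟨0, by decide⟩ = ⟨2, by decide⟩ from Fin.ext (S.pi_val 0)]
      simp
  cover t ht := by
    refine ⟨Subfield.mem_top _, fun i hi => ?_⟩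
    have h0 := ht ⟨0, by decide⟩ (by rw [S.orb1]; simp [orbD4])
    rw [show S.A.S.pi ⟨0, by decide⟩ = ⟨2, by decide⟩ from Fin.ext (S.pi_val 0)] at h0
    have h2 := ht ⟨2, by decide⟩ (by rw [S.orb1]; simp [orbD4])
    rw [show S.A.S.pi ⟨2, by decide⟩ = ⟨3, by decide⟩ from Fin.ext (S.pi_val 2), h0] at h2
    rw [S.orb1] at hi
    simp [orbD4] at hi
    rcases hi with rfl | rfl | rfl
    · simpa using h2
    · simpa using h0
    · simp

lemma hσφ (σ : K ≃+* K) (t : K) : σ (S.A.φ t) = S.A.φ (σ t) := by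
  rw [S.hφ, S.hφ, map_pow]

/-- The character of a parameter on a fundamental root. -/
noncomputable def χ (_S : Setup K q) (c : Fin chevD4.rank → Kˣ) (i : Fin chevD4.rank) : Kˣ :=
  chiT chevD4 c (goodD4.sroot i)

/-- A torus element. -/
noncomputable def tG (c : ↥S.A.T0) : ↥S.A.G1 :=
  ⟨torHom chevD4 K c, S.A.H0_le_G1 S.hc ⟨c, c.2, rfl⟩⟩

lemma tG_mem (c : ↥S.A.T0) : S.tG c ∈ S.A.aH := S.A.mem_aH.2 (goodD4.torHom_mem _)

lemma tG_conj_xG (c : ↥S.A.T0) (i : Fin chevD4.rank) (t : K) :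
    (S.tG c : GL chevD4.Idx K) * goodD4.xG (goodD4.sroot i) t * (S.tG c : GL chevD4.Idx K)⁻¹ =
      goodD4.xG (goodD4.sroot i) ((S.χ c i : K) * t) :=
  goodD4.torHom_conj_xG _ (goodD4.sroot i).2 t

lemma tG_conj_x {o : Fin S.A.r} (P : S.A.Par o) (c : ↥S.A.T0) (t : ↥P.Kf) :
    ∃ h : (S.χ c P.i₀ : K) * t ∈ P.Kf, S.tG c * P.x t * (S.tG c)⁻¹ = P.x ⟨_, h⟩ := by
  obtain ⟨h, he, -⟩ := P.diag_conj S.hc (S.tG_mem c) (fun i => (S.χ c i : K))
    (fun i _ t => S.tG_conj_xG c i t) t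
  exact ⟨h, he⟩

lemma χ_mem {o : Fin S.A.r} (P : S.A.Par o) (c : ↥S.A.T0) :
    (S.χ c P.i₀ : K) ∈ P.Kf ∧ ∀ i ∈ S.A.orb o, (S.χ c i : K) = P.e i (S.χ c P.i₀ : K) := by
  obtain ⟨h, -, h2⟩ := P.diag_conj S.hc (S.tG_mem c) (fun i => (S.χ c i : K))
    (fun i _ t => S.tG_conj_xG c i t) 1
  refine ⟨by simpa using h, fun i hi => ?_⟩
  simpa using h2 i hi

/-- Every pair of scalars is a pair of characters. -/
theorem exists_tG (a : ↥S.P0.Kf) (b : K) (ha : a ≠ 0) (hb : b ≠ 0) :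
    ∃ c : ↥S.A.T0, (S.χ c ⟨1, by decide⟩ : K) = a ∧ (S.χ c ⟨0, by decide⟩ : K) = b := by
  classical
  let Ψ : ↥S.A.T0 →* Kˣ × Kˣ :=
    { toFun := fun c => (S.χ c ⟨1, by decide⟩, S.χ c ⟨0, by decide⟩)
      map_one' := by simp [χ, chiT]
      map_mul' := fun c d => by
        simp [χ, chiT, mul_zpow, Finset.prod_mul_distrib] }
  have hinj : Function.Injective Ψ := by
    rw [injective_iff_map_eq_one]
    intro c hc'
    obtain ⟨h0, h1⟩ := Prod.ext_iff.1 hc'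
    have hall : ∀ i : Fin chevD4.rank, S.χ c i = 1 := by
      intro i
      obtain ⟨o, ho⟩ := S.A.cover i
      rcases S.cases o with rfl | rfl
      · refine Units.ext (((S.χ_mem S.P0 c).2 i ho).trans ?_)
        rw [show S.χ c S.P0.i₀ = 1 from h0, Units.val_one, map_one]
      · refine Units.ext (((S.χ_mem S.P1 c).2 i ho).trans ?_)
        rw [show S.χ c S.P1.i₀ = 1 from h1, Units.val_one, map_one]
    refine Subtype.ext (freeD4 S.A S.hS S.hφ ((goodD4.torHom_eq_one_iff _).2 (funext fun j => ?_)) c.2)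
    rw [powMap_apply]
    exact hall j
  let f : ↥S.A.T0 → {x : Kˣ // x ^ q = x} × Kˣ := fun c =>
    (⟨(Ψ c).1, Units.ext (by
      have h := RingHom.mem_eqLocusField.1 (S.χ_mem S.P0 c).1
      rw [S.hφ] at h
      rw [Units.val_pow_eq_pow_val]
      exact h)⟩, (Ψ c).2)
  have hfinj : Function.Injective f := fun c d h => hinj (Prod.ext
    (congrArg (fun p : {x : Kˣ // x ^ q = x} × Kˣ => (p.1 : Kˣ)) h)
    (congrArg (fun p : {x : Kˣ // x ^ q = x} × Kˣ => p.2) h))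
  have hKc : Fintype.card K = q ^ 3 := by rw [← Nat.card_eq_fintype_card, S.hK]
  have hcard : Nat.card ↥S.A.T0 = Nat.card ({x : Kˣ // x ^ q = x} × Kˣ) := by
    rw [card_T0_D4 S.A S.hS S.hφ S.hq.one_lt hKc, Nat.card_prod, card_units_pow_eq S.hq.one_lt hKc,
      Nat.card_units, S.hK]
    obtain ⟨k, rfl⟩ : ∃ k, q = k + 1 := ⟨q - 1, by have := S.hq.one_lt; omega⟩
    rw [Nat.add_sub_cancel, show (k + 1) ^ 3 = k * ((k + 1) ^ 2 + (k + 1) + 1) + 1 by ring,
      Nat.add_sub_cancel]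
    ring
  obtain ⟨c, hc'⟩ := ((Nat.bijective_iff_injective_and_card f).2 ⟨hfinj, hcard⟩).2
    (⟨Units.mk0 (a : K) (fun h => ha (Subtype.ext h)), Units.ext (by
      have h := RingHom.mem_eqLocusField.1 a.2
      rw [S.hφ] at h
      simpa using h)⟩, Units.mk0 b hb)
  refine ⟨c, ?_, ?_⟩
  · exact congrArg (fun p : {x : Kˣ // x ^ q = x} × Kˣ => ((p.1 : Kˣ) : K)) hc'
  · exact congrArg (fun p : {x : Kˣ // x ^ q = x} × Kˣ => ((p.2 : Kˣ) : K)) hc'

/-- A stable automorphism fixes both orbits. -/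
theorem fixes_orbit {α : MulAut ↥S.A.G1} (hα : S.A.AStable α) (o : Fin S.A.r) :
    α (S.A.aN S.hc o) ∈ S.A.aP S.hnt S.hc o := by
  obtain ⟨a, ha⟩ := A1Setup.AStable.exists_orbit S.A S.hnt hα S.hc S.o1
  have ha1 : a = S.o1 := by
    rcases S.cases a with rfl | rfl
    · exfalso
      have h1 := (ha S.o1).2 rfl
      choose f hf using fun t : K => S.P0.exists_x S.hc
        (A1Setup.AStable.mapX S.A S.hnt hα S.hc S.longest h1
          (S.P1.isX S.hc ⟨t, Subfield.mem_top t⟩))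
      have hinj : Function.Injective fun t : K => (⟨(f t : K), by
          have h := RingHom.mem_eqLocusField.1 (f t).2
          rw [S.hφ] at h
          exact h⟩ : {c : K // c ^ q = c}) := by
        intro t u h
        have h' : f t = f u := Subtype.ext (congrArg (fun z : {c : K // c ^ q = c} => (z : K)) h)
        exact congrArg Subtype.val
          (S.P1.x_inj S.hc (α.injective ((hf t).trans ((congrArg _ h').trans (hf u).symm))))
      have hle := Nat.card_le_card_of_injective _ hinj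
      have hKc : Fintype.card K = q ^ 3 := by rw [← Nat.card_eq_fintype_card, S.hK]
      rw [S.hK, card_pow_eq_self S.hq.one_lt hKc] at hle
      exact absurd hle (Nat.not_le.2 (lt_self_pow₀ S.hq.one_lt (by norm_num)))
    · rfl
  subst ha1
  rcases S.cases o with rfl | rfl
  · obtain ⟨b, hb⟩ := A1Setup.AStable.exists_orbit S.A S.hnt hα S.hc S.o0
    rcases S.cases b with rfl | rfl
    · exact (hb _).2 rfl
    · exact absurd ((ha _).1 ((hb _).2 rfl)) S.o0_ne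
  · exact (ha _).2 rfl

/-- The coordinates of both orbits. -/
noncomputable def par (o : Fin S.A.r) : S.A.Par o :=
  if h : o = S.o0 then h ▸ S.P0 else ((S.cases o).resolve_left h) ▸ S.P1

lemma eq_one {α : MulAut ↥S.A.G1} (h0 : ∀ c, α (S.P0.x c) = S.P0.x c)
    (h0' : ∀ c, α (S.P0.y c) = S.P0.y c) (h1 : ∀ c, α (S.P1.x c) = S.P1.x c)
    (h1' : ∀ c, α (S.P1.y c) = S.P1.y c) : α = 1 := by
  have e0 : S.par S.o0 = S.P0 := by simp [par]
  have e1 : S.par S.o1 = S.P1 := by simp [par, S.o0_ne.symm]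
  refine S.A.eq_one_of_fix S.par (fun o => ?_) (fun o => ?_) <;> rcases S.cases o with rfl | rfl
  · rw [e0]; exact h0
  · rw [e1]; exact h1
  · rw [e0]; exact h0'
  · rw [e1]; exact h1'

/-- An element of the smaller field as an element of the larger. -/
def up (c : ↥S.P0.Kf) : ↥S.P1.Kf := ⟨c, Subfield.mem_top _⟩

/-- The two field automorphisms agree on the smaller field. -/
theorem link {α : MulAut ↥S.A.G1} {σ₀ : ↥S.P0.Kf ≃+* ↥S.P0.Kf} {σ₁ : ↥S.P1.Kf ≃+* ↥S.P1.Kf}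
    (h0 : ∀ c, α (S.P0.x c) = S.P0.x (σ₀ c)) (h0' : ∀ c, α (S.P0.y c) = S.P0.y (σ₀ c))
    (hn : α (S.A.aN S.hc S.o0) = S.A.aN S.hc S.o0)
    (h1 : ∀ c, α (S.P1.x c) = S.P1.x (σ₁ c)) (c : ↥S.P0.Kf) :
    σ₁ (S.up c) = S.up (σ₀ c) := by
  by_cases hc0 : c = 0
  · rw [hc0, map_zero, show S.up 0 = 0 from rfl, map_zero]
  have hd : ∀ d : ↥S.P0.Kf, d ≠ 0 → ∃ (hm : S.P0.n d * (S.A.aN S.hc S.o0)⁻¹ ∈ S.A.aH)
      (hK : ((d : K)⁻¹) * ((1 : ↥S.P1.Kf) : K) ∈ S.P1.Kf),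
      S.P0.n d * (S.A.aN S.hc S.o0)⁻¹ * S.P1.x 1 * (S.P0.n d * (S.A.aN S.hc S.o0)⁻¹)⁻¹ =
        S.P1.x ⟨_, hK⟩ := by
    intro d hd0
    obtain ⟨hm, u, hu, he⟩ := S.P0.n_eq S.hc hd0
    rw [S.orb0] at hu he
    have hu1 := hu ⟨1, by decide⟩ (by simp [orbD4])
    have hdd : ((S.P0.n d * (S.A.aN S.hc S.o0)⁻¹ : ↥S.A.G1) : GL chevD4.Idx K) =
        goodD4.hG (chevD4.simple 1) (u ⟨1, by decide⟩) := by
      rw [Subgroup.coe_mul, he]
      show _ * (goodD4.wordN (S.A.orb S.o0))⁻¹ = _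
      rw [S.orb0, mul_inv_cancel_right]
      simp [orbD4]
    obtain ⟨h, hx, -⟩ := S.P1.diag_conj S.hc hm
      (fun i => (((u ⟨1, by decide⟩) ^ chevD4.cartan 1 (goodD4.sroot i) : Kˣ) : K))
      (fun i _ t => by
        rw [hdd, goodD4.hG_conj_xG (goodD4.sroot i).2,
          goodD4.pair_simple (show 1 < chevD4.rank by decide) (goodD4.sroot i).2]) 1
    have hval : chevD4.cartan 1 (goodD4.sroot (S.P1.i₀)) = -1 := by
      show chevD4.cartan 1 (chevD4.simple 0) = -1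
      decide +kernel
    have hval' : (((u ⟨1, by decide⟩) ^ chevD4.cartan 1 (goodD4.sroot (S.P1.i₀)) : Kˣ) : K) *
        ((1 : ↥S.P1.Kf) : K) = (d : K)⁻¹ * ((1 : ↥S.P1.Kf) : K) := by
      rw [hval, zpow_neg, zpow_one, Units.val_inv_eq_inv_val, hu1]
      rfl
    refine ⟨hm, hval' ▸ h, ?_⟩
    rw [hx]
    exact congrArg S.P1.x (Subtype.ext hval')
  have hs0 : σ₀ c ≠ 0 := fun h => hc0 (σ₀.injective (h.trans (map_zero σ₀).symm))
  obtain ⟨-, hk, e1⟩ := hd c hc0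
  obtain ⟨-, hk', e2⟩ := hd (σ₀ c) hs0
  have hαn : α (S.P0.n c) = S.P0.n (σ₀ c) := by
    simp only [A1Setup.Par.n, map_mul, h0, h0', map_neg, map_inv₀]
  have h := congrArg α e1
  rw [map_mul, map_mul, map_inv, map_mul, map_inv, hαn, hn, h1, map_one, h1, e2] at h
  have h' := S.P1.x_inj S.hc h
  have ea : (⟨(c : K)⁻¹ * ((1 : ↥S.P1.Kf) : K), hk⟩ : ↥S.P1.Kf) = (S.up c)⁻¹ :=
    Subtype.ext (mul_one _)
  have eb : (⟨((σ₀ c : ↥S.P0.Kf) : K)⁻¹ * ((1 : ↥S.P1.Kf) : K), hk'⟩ : ↥S.P1.Kf) = (S.up (σ₀ c))⁻¹ :=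
    Subtype.ext (mul_one _)
  rw [ea, eb, map_inv₀] at h'
  exact inv_injective h'.symm

/-- The field automorphisms. -/
noncomputable abbrev fAut : (K ≃+* K) →* MulAut ↥S.A.G1 := S.A.fieldAut S.hσφ

lemma fAut_x {o : Fin S.A.r} (P : S.A.Par o) (σ : K ≃+* K) (c : ↥P.Kf) (d : ↥P.Kf)
    (he : ∀ i ∈ S.A.orb o, σ (P.e i c) = P.e i d) :
    S.fAut σ (P.x c) = P.x d ∧ S.fAut σ (P.y c) = P.y d := by
  obtain ⟨h1, h2⟩ := S.A.fieldAut_pX S.hσφ σ o (fun i => P.e i c) fun i hi => P.compat c c.2 i hi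
  exact ⟨h1.trans (Subtype.ext (goodD4.xList_congr he)), h2.trans (Subtype.ext (goodD4.xList_congr he))⟩

lemma e_comm (i : Fin chevD4.rank) (σ : K ≃+* K) (t : K) : σ (S.P1.e i t) = S.P1.e i (σ t) := by
  show σ ((if i.val = 2 then S.A.φ else if i.val = 3 then S.A.φ.comp S.A.φ else RingHom.id K) t) =
    (if i.val = 2 then S.A.φ else if i.val = 3 then S.A.φ.comp S.A.φ else RingHom.id K) (σ t)
  split_ifs <;> simp [S.hσφ]

/-- Every automorphism is inner times field. -/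
theorem exists_conj_field (φ : MulAut ↥S.A.G1) :
    ∃ g σ, φ = MulAut.conj g * S.fAut σ := by
  classical
  obtain ⟨p, hp⟩ := CharP.exists K
  have : Fact p.Prime := ⟨CharP.char_is_prime K p⟩
  obtain ⟨x, hα⟩ := S.A.exists_aStable S.hnt (p := p) S.hc S.longest φ
  set α := MulAut.conj x * φ with hαdef
  obtain ⟨a, ha⟩ := S.P0.exists_x S.hc
    (A1Setup.AStable.mapX S.A S.hnt hα S.hc S.longest (S.fixes_orbit hα _) (S.P0.isX S.hc 1))
  obtain ⟨b, hb⟩ := S.P1.exists_x S.hc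
    (A1Setup.AStable.mapX S.A S.hnt hα S.hc S.longest (S.fixes_orbit hα _) (S.P1.isX S.hc 1))
  have ha0 : a ≠ 0 := fun h => one_ne_zero (S.P0.x_inj S.hc (α.injective
    (ha.trans (by rw [h, S.P0.x_zero, map_one] : S.P0.x a = α (S.P0.x 0)))))
  have hb0 : b ≠ 0 := fun h => one_ne_zero (S.P1.x_inj S.hc (α.injective
    (hb.trans (by rw [h, S.P1.x_zero, map_one] : S.P1.x b = α (S.P1.x 0)))))
  obtain ⟨c, hc1, hc2⟩ := S.exists_tG a⁻¹ ((b : K)⁻¹) (inv_ne_zero ha0)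
    (inv_ne_zero fun h => hb0 (Subtype.ext h))
  set τ := S.tG c
  set β := MulAut.conj τ * α with hβ
  have hβS : S.A.AStable β := A1Setup.AStable.mul S.A (S.A.aStable_conj (S.tG_mem c)) hα
  have hone0 : β (S.P0.x 1) = S.P0.x 1 := by
    obtain ⟨h, he⟩ := S.tG_conj_x S.P0 c a
    rw [hβ, MulAut.mul_apply, ha, MulAut.conj_apply, he]
    congr 1
    refine Subtype.ext ?_
    show (S.χ c ⟨1, _⟩ : K) * (a : K) = 1
    rw [hc1]
    push_cast
    exact inv_mul_cancel₀ fun h => ha0 (Subtype.ext h)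
  have hone1 : β (S.P1.x 1) = S.P1.x 1 := by
    obtain ⟨h, he⟩ := S.tG_conj_x S.P1 c b
    rw [hβ, MulAut.mul_apply, hb, MulAut.conj_apply, he]
    congr 1
    refine Subtype.ext ?_
    show (S.χ c ⟨0, _⟩ : K) * (b : K) = 1
    rw [hc2]
    exact inv_mul_cancel₀ fun h => hb0 (Subtype.ext h)
  obtain ⟨σ₀, hx0, hy0, hn0⟩ :=
    S.P0.exists_auto S.hnt S.hc S.longest hβS (S.fixes_orbit hβS _) hone0
  obtain ⟨σ₁, hx1, hy1, -⟩ :=
    S.P1.exists_auto S.hnt S.hc S.longest hβS (S.fixes_orbit hβS _) hone1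
  let top : ↥S.P1.Kf ≃+* K := Subfield.topEquiv
  let σ : K ≃+* K := (top.symm.trans σ₁).trans top
  have hσ : ∀ c : ↥S.P1.Kf, σ (c : K) = (σ₁ c : K) := fun c => rfl
  have hlink : ∀ c : ↥S.P0.Kf, σ (c : K) = (σ₀ c : K) := fun c => by
    exact (hσ (S.up c)).trans (congrArg Subtype.val (S.link hx0 hy0 hn0 hx1 c))
  have hfix : (S.fAut σ)⁻¹ * β = 1 := by
    have hi : ∀ z w, S.fAut σ z = w → (S.fAut σ)⁻¹ w = z := fun z w h => by
      rw [← h, MulAut.inv_apply_self]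
    refine S.eq_one (fun c => ?_) (fun c => ?_) (fun c => ?_) (fun c => ?_) <;>
      rw [MulAut.mul_apply]
    · rw [hx0]; exact hi _ _ (S.fAut_x S.P0 σ c _ fun i _ => hlink c).1
    · rw [hy0]; exact hi _ _ (S.fAut_x S.P0 σ c _ fun i _ => hlink c).2
    · rw [hx1]; exact hi _ _ (S.fAut_x S.P1 σ c _ fun i _ => (S.e_comm i σ _).trans (by rw [hσ])).1
    · rw [hy1]; exact hi _ _ (S.fAut_x S.P1 σ c _ fun i _ => (S.e_comm i σ _).trans (by rw [hσ])).2
  refine ⟨x⁻¹ * τ⁻¹, σ, ?_⟩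
  rw [map_mul, map_inv, map_inv, inv_mul_eq_one.1 hfix, hβ, hαdef]
  group

/-- Field automorphisms are not inner. -/
theorem field_eq_one {σ : K ≃+* K} {z : ↥S.A.G1} (h : MulAut.conj z = S.fAut σ) : σ = 1 := by
  have hs := S.A.fieldAut_stable S.hσφ σ
  rw [show S.A.fieldAut S.hσφ σ = MulAut.conj z from h.symm] at hs
  have hzH : z ∈ S.A.aH :=
    (S.A.aH_iff S.hnt S.hc S.longest).2 ⟨fun y => (hs.U y).symm, fun y => (hs.V y).symm⟩
  have hd := hzH.1
  rw [goodD4.diagonal_eq_range] at hd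
  obtain ⟨c, hc'⟩ := hd
  have key : ∀ t : K, σ t = (chiT chevD4 c (goodD4.sroot S.P1.i₀) : K) * t := by
    intro t
    set t' : ↥S.P1.Kf := ⟨t, Subfield.mem_top t⟩
    obtain ⟨hm, he, -⟩ := S.P1.diag_conj S.hc hzH
      (fun i => (chiT chevD4 c (goodD4.sroot i) : K))
      (fun i _ u => by
        have hz : (z : GL chevD4.Idx K) = torHom chevD4 K c := hc'.symm
        rw [hz]; exact goodD4.torHom_conj_xG _ (goodD4.sroot i).2 u) t'
    have h1 := (S.fAut_x S.P1 σ t' ⟨σ t, Subfield.mem_top _⟩ fun i _ => S.e_comm i σ _).1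
    rw [← h, MulAut.conj_apply, he] at h1
    exact (congrArg Subtype.val (S.P1.x_inj S.hc h1)).symm
  have h1 := key 1
  rw [map_one, mul_one] at h1
  refine RingEquiv.ext fun t => ?_
  rw [key t, ← h1, one_mul]
  rfl

/-- The outer automorphism group has the order of the Galois group. -/
theorem card_out : Nat.card (Cfsg.Out ↥S.A.G1) = Nat.card (K ≃+* K) := by
  refine (Nat.card_eq_of_bijective
    ((QuotientGroup.mk' (Cfsg.Inn ↥S.A.G1)).comp S.fAut) ⟨?_, ?_⟩).symm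
  · rw [injective_iff_map_eq_one]
    intro σ hσ
    obtain ⟨z, hz⟩ := (QuotientGroup.eq_one_iff _).1 hσ
    exact S.field_eq_one hz
  · intro x
    obtain ⟨φ, rfl⟩ := QuotientGroup.mk_surjective x
    obtain ⟨z, σ, rfl⟩ := S.exists_conj_field φ
    refine ⟨σ, ?_⟩
    show QuotientGroup.mk (S.fAut σ) = _
    rw [QuotientGroup.eq, ← mul_assoc]
    refine ⟨(S.fAut σ)⁻¹ z, MulEquiv.ext fun w => ?_⟩
    simp only [MulAut.mul_apply, MulAut.inv_apply, MulAut.conj_apply, map_mul, map_inv,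
      MulEquiv.symm_apply_apply]

end Setup

end CfsgLib.Chev.Triality
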