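import Mathlib
import Cfsg.Agent.Lib.Chev.TwistIso
import Cfsg.Agent.Lib.Chev.TwistD4
import Cfsg.Agent.Lib.Chev.CommGood

/-!
The unipotent subgroup of D₄ in characteristic two, in coordinates adapted to the triality.
-/

set_option autoImplicit false
set_option maxHeartbeats 1600000
set_option maxRecDepth 100000
set_option linter.unusedSectionVars false

namespace CfsgLib.Chev.Triality

open Cfsg.Lie

/-- Coordinates on the radical of the long-root parabolic. -/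
structure V9 (K : Type*) where
  /-- root 14 -/
  b : K
  /-- root 19 -/
  g0 : K
  /-- root 16 -/
  g1 : K
  /-- root 15 -/
  g2 : K
  /-- root 21 -/
  d0 : K
  /-- root 17 -/
  d1 : K
  /-- root 20 -/
  d2 : K
  /-- root 22 -/
  e : K
  /-- root 23 -/
  z : K

/-- Coordinates on the orbit of three fundamental roots. -/
structure T3 (K : Type*) where
  /-- root 18 -/
  t0 : K
  /-- root 13 -/
  t1 : K
  /-- root 12 -/
  t2 : K

variable {K : Type*} [Field K]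

/-- The element of the radical. -/
noncomputable def W (v : V9 K) : GL chevD4.Idx K :=
  goodD4.xG 14 v.b * (goodD4.xG 19 v.g0 * (goodD4.xG 16 v.g1 * (goodD4.xG 15 v.g2 *
    (goodD4.xG 21 v.d0 * (goodD4.xG 17 v.d1 * (goodD4.xG 20 v.d2 * (goodD4.xG 22 v.e *
      goodD4.xG 23 v.z)))))))

/-- The element of the three roots. -/
noncomputable def a3 (t : T3 K) : GL chevD4.Idx K :=
  goodD4.xG 18 t.t0 * (goodD4.xG 13 t.t1 * goodD4.xG 12 t.t2)

/-- The product in the radical. -/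
def V9.mul (v w : V9 K) : V9 K :=
  ⟨v.b + w.b, v.g0 + w.g0, v.g1 + w.g1, v.g2 + w.g2, v.d0 + w.d0, v.d1 + w.d1, v.d2 + w.d2, v.e + w.e,
    v.z + w.z + (v.e * w.b + v.d1 * w.g0 + v.d2 * w.g1 + v.d0 * w.g2)⟩

/-- The zero of the coordinates. -/
def V9.zero : V9 K := ⟨0, 0, 0, 0, 0, 0, 0, 0, 0⟩

/-- The sum of coordinates. -/
def T3.add (s t : T3 K) : T3 K := ⟨s.t0 + t.t0, s.t1 + t.t1, s.t2 + t.t2⟩

/-- Conjugation by an element of the three roots. -/
def V9.conj (t : T3 K) (v : V9 K) : V9 K :=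
  ⟨v.b, v.g0 + t.t0 * v.b, v.g1 + t.t1 * v.b, v.g2 + t.t2 * v.b,
    v.d0 + t.t1 * v.g0 + t.t0 * v.g1 + t.t0 * t.t1 * v.b,
    v.d1 + t.t2 * v.g1 + t.t1 * v.g2 + t.t1 * t.t2 * v.b,
    v.d2 + t.t2 * v.g0 + t.t0 * v.g2 + t.t0 * t.t2 * v.b,
    v.e + t.t0 * v.d1 + t.t1 * v.d2 + t.t2 * v.d0 + t.t1 * t.t2 * v.g0 + t.t0 * t.t2 * v.g1 +
      t.t0 * t.t1 * v.g2 + t.t0 * t.t1 * t.t2 * v.b,
    v.z + t.t2 * v.g0 * v.g1 + t.t1 * v.g0 * v.g2 + t.t0 * v.g1 * v.g2 +
      v.b * (t.t1 * t.t2 * v.g0 + t.t0 * t.t2 * v.g1 + t.t0 * t.t1 * v.g2) +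
      v.b * v.b * (t.t0 * t.t1 * t.t2)⟩

lemma hasCommD4 : HasComm chevD4 := hasComm_of_mem (by simp)

lemma merge (r : ℕ) (t u : K) (X : GL chevD4.Idx K) :
    goodD4.xG r t * (goodD4.xG r u * X) = goodD4.xG r (t + u) * X := by
  rw [← mul_assoc, goodD4.xG_add]

lemma swap {r s : ℕ} (h : (r < chevD4.nroots ∧ s < chevD4.nroots) ∧
      (s ≠ r ∧ s ≠ fneg chevD4 r ∧ fterms chevD4 r s = [])) (t u : K) (X : GL chevD4.Idx K) :
    goodD4.xG r t * (goodD4.xG s u * X) = goodD4.xG s u * (goodD4.xG r t * X) := by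
  rw [← mul_assoc, (goodD4.xG_commute_check hasCommD4 h.1.1 h.1.2 h.2 t u).eq, mul_assoc]

lemma special [CharP K 2] {r s p : ℕ} (h : (r < chevD4.nroots ∧ s < chevD4.nroots) ∧
      (s ≠ r ∧ s ≠ fneg chevD4 r ∧
        (fterms chevD4 r s = [(p, 1, 1, 1)] ∨ fterms chevD4 r s = [(p, -1, 1, 1)]))) (t u : K)
    (X : GL chevD4.Idx K) :
    goodD4.xG r t * (goodD4.xG s u * X) = goodD4.xG s u * (goodD4.xG p (t * u) * (goodD4.xG r t * X)) := by
  obtain ⟨⟨hr, hs⟩, hne, hneg, hterm⟩ := h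
  have e := goodD4.xG_conj hasCommD4 (r := s) (s := r) hs hr hne
    (CfsgLib.Chev.neg_eq goodD4.lie.pack hr ▸ hneg) u t
  rw [← goodD4.fterms_eq hr hs] at e
  have e' : goodD4.xG r t * goodD4.xG s u * (goodD4.xG r t)⁻¹ =
      goodD4.xG s u * goodD4.xG p (t * u) := by
    rcases hterm with h | h <;> rw [h] at e <;> rw [e] <;> simp [CharTwo.neg_eq]
  rw [mul_inv_eq_iff_eq_mul] at e'
  rw [← mul_assoc, e']
  simp only [mul_assoc]

/-- The commutation rules, moving each root element to its place. -/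
lemma rules [CharP K 2] :
    (∀ (t u : K) (X : GL chevD4.Idx K), goodD4.xG 19 t * (goodD4.xG 14 u * X) = goodD4.xG 14 u * (goodD4.xG 19 t * X)) ∧
    (∀ (t u : K) (X : GL chevD4.Idx K), goodD4.xG 16 t * (goodD4.xG 14 u * X) = goodD4.xG 14 u * (goodD4.xG 16 t * X)) ∧
    (∀ (t u : K) (X : GL chevD4.Idx K), goodD4.xG 16 t * (goodD4.xG 19 u * X) = goodD4.xG 19 u * (goodD4.xG 16 t * X)) ∧
    (∀ (t u : K) (X : GL chevD4.Idx K), goodD4.xG 15 t * (goodD4.xG 14 u * X) = goodD4.xG 14 u * (goodD4.xG 15 t * X)) ∧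
    (∀ (t u : K) (X : GL chevD4.Idx K), goodD4.xG 15 t * (goodD4.xG 19 u * X) = goodD4.xG 19 u * (goodD4.xG 15 t * X)) ∧
    (∀ (t u : K) (X : GL chevD4.Idx K), goodD4.xG 15 t * (goodD4.xG 16 u * X) = goodD4.xG 16 u * (goodD4.xG 15 t * X)) ∧
    (∀ (t u : K) (X : GL chevD4.Idx K), goodD4.xG 21 t * (goodD4.xG 14 u * X) = goodD4.xG 14 u * (goodD4.xG 21 t * X)) ∧
    (∀ (t u : K) (X : GL chevD4.Idx K), goodD4.xG 21 t * (goodD4.xG 19 u * X) = goodD4.xG 19 u * (goodD4.xG 21 t * X)) ∧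
    (∀ (t u : K) (X : GL chevD4.Idx K), goodD4.xG 21 t * (goodD4.xG 16 u * X) = goodD4.xG 16 u * (goodD4.xG 21 t * X)) ∧
    (∀ (t u : K) (X : GL chevD4.Idx K), goodD4.xG 17 t * (goodD4.xG 14 u * X) = goodD4.xG 14 u * (goodD4.xG 17 t * X)) ∧
    (∀ (t u : K) (X : GL chevD4.Idx K), goodD4.xG 17 t * (goodD4.xG 16 u * X) = goodD4.xG 16 u * (goodD4.xG 17 t * X)) ∧
    (∀ (t u : K) (X : GL chevD4.Idx K), goodD4.xG 17 t * (goodD4.xG 15 u * X) = goodD4.xG 15 u * (goodD4.xG 17 t * X)) ∧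
    (∀ (t u : K) (X : GL chevD4.Idx K), goodD4.xG 17 t * (goodD4.xG 21 u * X) = goodD4.xG 21 u * (goodD4.xG 17 t * X)) ∧
    (∀ (t u : K) (X : GL chevD4.Idx K), goodD4.xG 20 t * (goodD4.xG 14 u * X) = goodD4.xG 14 u * (goodD4.xG 20 t * X)) ∧
    (∀ (t u : K) (X : GL chevD4.Idx K), goodD4.xG 20 t * (goodD4.xG 19 u * X) = goodD4.xG 19 u * (goodD4.xG 20 t * X)) ∧
    (∀ (t u : K) (X : GL chevD4.Idx K), goodD4.xG 20 t * (goodD4.xG 15 u * X) = goodD4.xG 15 u * (goodD4.xG 20 t * X)) ∧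
    (∀ (t u : K) (X : GL chevD4.Idx K), goodD4.xG 20 t * (goodD4.xG 21 u * X) = goodD4.xG 21 u * (goodD4.xG 20 t * X)) ∧
    (∀ (t u : K) (X : GL chevD4.Idx K), goodD4.xG 20 t * (goodD4.xG 17 u * X) = goodD4.xG 17 u * (goodD4.xG 20 t * X)) ∧
    (∀ (t u : K) (X : GL chevD4.Idx K), goodD4.xG 22 t * (goodD4.xG 19 u * X) = goodD4.xG 19 u * (goodD4.xG 22 t * X)) ∧
    (∀ (t u : K) (X : GL chevD4.Idx K), goodD4.xG 22 t * (goodD4.xG 16 u * X) = goodD4.xG 16 u * (goodD4.xG 22 t * X)) ∧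
    (∀ (t u : K) (X : GL chevD4.Idx K), goodD4.xG 22 t * (goodD4.xG 15 u * X) = goodD4.xG 15 u * (goodD4.xG 22 t * X)) ∧
    (∀ (t u : K) (X : GL chevD4.Idx K), goodD4.xG 22 t * (goodD4.xG 21 u * X) = goodD4.xG 21 u * (goodD4.xG 22 t * X)) ∧
    (∀ (t u : K) (X : GL chevD4.Idx K), goodD4.xG 22 t * (goodD4.xG 17 u * X) = goodD4.xG 17 u * (goodD4.xG 22 t * X)) ∧
    (∀ (t u : K) (X : GL chevD4.Idx K), goodD4.xG 22 t * (goodD4.xG 20 u * X) = goodD4.xG 20 u * (goodD4.xG 22 t * X)) ∧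
    (∀ (t u : K) (X : GL chevD4.Idx K), goodD4.xG 23 t * (goodD4.xG 14 u * X) = goodD4.xG 14 u * (goodD4.xG 23 t * X)) ∧
    (∀ (t u : K) (X : GL chevD4.Idx K), goodD4.xG 23 t * (goodD4.xG 19 u * X) = goodD4.xG 19 u * (goodD4.xG 23 t * X)) ∧
    (∀ (t u : K) (X : GL chevD4.Idx K), goodD4.xG 23 t * (goodD4.xG 16 u * X) = goodD4.xG 16 u * (goodD4.xG 23 t * X)) ∧
    (∀ (t u : K) (X : GL chevD4.Idx K), goodD4.xG 23 t * (goodD4.xG 15 u * X) = goodD4.xG 15 u * (goodD4.xG 23 t * X)) ∧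
    (∀ (t u : K) (X : GL chevD4.Idx K), goodD4.xG 23 t * (goodD4.xG 21 u * X) = goodD4.xG 21 u * (goodD4.xG 23 t * X)) ∧
    (∀ (t u : K) (X : GL chevD4.Idx K), goodD4.xG 23 t * (goodD4.xG 17 u * X) = goodD4.xG 17 u * (goodD4.xG 23 t * X)) ∧
    (∀ (t u : K) (X : GL chevD4.Idx K), goodD4.xG 23 t * (goodD4.xG 20 u * X) = goodD4.xG 20 u * (goodD4.xG 23 t * X)) ∧
    (∀ (t u : K) (X : GL chevD4.Idx K), goodD4.xG 23 t * (goodD4.xG 22 u * X) = goodD4.xG 22 u * (goodD4.xG 23 t * X)) ∧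
    (∀ (t u : K) (X : GL chevD4.Idx K), goodD4.xG 18 t * (goodD4.xG 19 u * X) = goodD4.xG 19 u * (goodD4.xG 18 t * X)) ∧
    (∀ (t u : K) (X : GL chevD4.Idx K), goodD4.xG 18 t * (goodD4.xG 21 u * X) = goodD4.xG 21 u * (goodD4.xG 18 t * X)) ∧
    (∀ (t u : K) (X : GL chevD4.Idx K), goodD4.xG 18 t * (goodD4.xG 20 u * X) = goodD4.xG 20 u * (goodD4.xG 18 t * X)) ∧
    (∀ (t u : K) (X : GL chevD4.Idx K), goodD4.xG 18 t * (goodD4.xG 22 u * X) = goodD4.xG 22 u * (goodD4.xG 18 t * X)) ∧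
    (∀ (t u : K) (X : GL chevD4.Idx K), goodD4.xG 18 t * (goodD4.xG 23 u * X) = goodD4.xG 23 u * (goodD4.xG 18 t * X)) ∧
    (∀ (t u : K) (X : GL chevD4.Idx K), goodD4.xG 13 t * (goodD4.xG 16 u * X) = goodD4.xG 16 u * (goodD4.xG 13 t * X)) ∧
    (∀ (t u : K) (X : GL chevD4.Idx K), goodD4.xG 13 t * (goodD4.xG 21 u * X) = goodD4.xG 21 u * (goodD4.xG 13 t * X)) ∧
    (∀ (t u : K) (X : GL chevD4.Idx K), goodD4.xG 13 t * (goodD4.xG 17 u * X) = goodD4.xG 17 u * (goodD4.xG 13 t * X)) ∧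
    (∀ (t u : K) (X : GL chevD4.Idx K), goodD4.xG 13 t * (goodD4.xG 22 u * X) = goodD4.xG 22 u * (goodD4.xG 13 t * X)) ∧
    (∀ (t u : K) (X : GL chevD4.Idx K), goodD4.xG 13 t * (goodD4.xG 23 u * X) = goodD4.xG 23 u * (goodD4.xG 13 t * X)) ∧
    (∀ (t u : K) (X : GL chevD4.Idx K), goodD4.xG 13 t * (goodD4.xG 18 u * X) = goodD4.xG 18 u * (goodD4.xG 13 t * X)) ∧
    (∀ (t u : K) (X : GL chevD4.Idx K), goodD4.xG 12 t * (goodD4.xG 15 u * X) = goodD4.xG 15 u * (goodD4.xG 12 t * X)) ∧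
    (∀ (t u : K) (X : GL chevD4.Idx K), goodD4.xG 12 t * (goodD4.xG 17 u * X) = goodD4.xG 17 u * (goodD4.xG 12 t * X)) ∧
    (∀ (t u : K) (X : GL chevD4.Idx K), goodD4.xG 12 t * (goodD4.xG 20 u * X) = goodD4.xG 20 u * (goodD4.xG 12 t * X)) ∧
    (∀ (t u : K) (X : GL chevD4.Idx K), goodD4.xG 12 t * (goodD4.xG 22 u * X) = goodD4.xG 22 u * (goodD4.xG 12 t * X)) ∧
    (∀ (t u : K) (X : GL chevD4.Idx K), goodD4.xG 12 t * (goodD4.xG 23 u * X) = goodD4.xG 23 u * (goodD4.xG 12 t * X)) ∧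
    (∀ (t u : K) (X : GL chevD4.Idx K), goodD4.xG 12 t * (goodD4.xG 18 u * X) = goodD4.xG 18 u * (goodD4.xG 12 t * X)) ∧
    (∀ (t u : K) (X : GL chevD4.Idx K), goodD4.xG 12 t * (goodD4.xG 13 u * X) = goodD4.xG 13 u * (goodD4.xG 12 t * X)) ∧
    (∀ (t u : K) (X : GL chevD4.Idx K), goodD4.xG 21 t * (goodD4.xG 15 u * X) = goodD4.xG 15 u * (goodD4.xG 23 (t * u) * (goodD4.xG 21 t * X))) ∧
    (∀ (t u : K) (X : GL chevD4.Idx K), goodD4.xG 17 t * (goodD4.xG 19 u * X) = goodD4.xG 19 u * (goodD4.xG 23 (t * u) * (goodD4.xG 17 t * X))) ∧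
    (∀ (t u : K) (X : GL chevD4.Idx K), goodD4.xG 20 t * (goodD4.xG 16 u * X) = goodD4.xG 16 u * (goodD4.xG 23 (t * u) * (goodD4.xG 20 t * X))) ∧
    (∀ (t u : K) (X : GL chevD4.Idx K), goodD4.xG 22 t * (goodD4.xG 14 u * X) = goodD4.xG 14 u * (goodD4.xG 23 (t * u) * (goodD4.xG 22 t * X))) ∧
    (∀ (t u : K) (X : GL chevD4.Idx K), goodD4.xG 18 t * (goodD4.xG 14 u * X) = goodD4.xG 14 u * (goodD4.xG 19 (t * u) * (goodD4.xG 18 t * X))) ∧
    (∀ (t u : K) (X : GL chevD4.Idx K), goodD4.xG 18 t * (goodD4.xG 16 u * X) = goodD4.xG 16 u * (goodD4.xG 21 (t * u) * (goodD4.xG 18 t * X))) ∧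
    (∀ (t u : K) (X : GL chevD4.Idx K), goodD4.xG 18 t * (goodD4.xG 15 u * X) = goodD4.xG 15 u * (goodD4.xG 20 (t * u) * (goodD4.xG 18 t * X))) ∧
    (∀ (t u : K) (X : GL chevD4.Idx K), goodD4.xG 18 t * (goodD4.xG 17 u * X) = goodD4.xG 17 u * (goodD4.xG 22 (t * u) * (goodD4.xG 18 t * X))) ∧
    (∀ (t u : K) (X : GL chevD4.Idx K), goodD4.xG 13 t * (goodD4.xG 14 u * X) = goodD4.xG 14 u * (goodD4.xG 16 (t * u) * (goodD4.xG 13 t * X))) ∧
    (∀ (t u : K) (X : GL chevD4.Idx K), goodD4.xG 13 t * (goodD4.xG 19 u * X) = goodD4.xG 19 u * (goodD4.xG 21 (t * u) * (goodD4.xG 13 t * X))) ∧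
    (∀ (t u : K) (X : GL chevD4.Idx K), goodD4.xG 13 t * (goodD4.xG 15 u * X) = goodD4.xG 15 u * (goodD4.xG 17 (t * u) * (goodD4.xG 13 t * X))) ∧
    (∀ (t u : K) (X : GL chevD4.Idx K), goodD4.xG 13 t * (goodD4.xG 20 u * X) = goodD4.xG 20 u * (goodD4.xG 22 (t * u) * (goodD4.xG 13 t * X))) ∧
    (∀ (t u : K) (X : GL chevD4.Idx K), goodD4.xG 12 t * (goodD4.xG 14 u * X) = goodD4.xG 14 u * (goodD4.xG 15 (t * u) * (goodD4.xG 12 t * X))) ∧
    (∀ (t u : K) (X : GL chevD4.Idx K), goodD4.xG 12 t * (goodD4.xG 19 u * X) = goodD4.xG 19 u * (goodD4.xG 20 (t * u) * (goodD4.xG 12 t * X))) ∧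
    (∀ (t u : K) (X : GL chevD4.Idx K), goodD4.xG 12 t * (goodD4.xG 16 u * X) = goodD4.xG 16 u * (goodD4.xG 17 (t * u) * (goodD4.xG 12 t * X))) ∧
    (∀ (t u : K) (X : GL chevD4.Idx K), goodD4.xG 12 t * (goodD4.xG 21 u * X) = goodD4.xG 21 u * (goodD4.xG 22 (t * u) * (goodD4.xG 12 t * X))) :=
  ⟨swap (by decide +kernel),
   swap (by decide +kernel),
   swap (by decide +kernel),
   swap (by decide +kernel),
   swap (by decide +kernel),
   swap (by decide +kernel),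
   swap (by decide +kernel),
   swap (by decide +kernel),
   swap (by decide +kernel),
   swap (by decide +kernel),
   swap (by decide +kernel),
   swap (by decide +kernel),
   swap (by decide +kernel),
   swap (by decide +kernel),
   swap (by decide +kernel),
   swap (by decide +kernel),
   swap (by decide +kernel),
   swap (by decide +kernel),
   swap (by decide +kernel),
   swap (by decide +kernel),
   swap (by decide +kernel),
   swap (by decide +kernel),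
   swap (by decide +kernel),
   swap (by decide +kernel),
   swap (by decide +kernel),
   swap (by decide +kernel),
   swap (by decide +kernel),
   swap (by decide +kernel),
   swap (by decide +kernel),
   swap (by decide +kernel),
   swap (by decide +kernel),
   swap (by decide +kernel),
   swap (by decide +kernel),
   swap (by decide +kernel),
   swap (by decide +kernel),
   swap (by decide +kernel),
   swap (by decide +kernel),
   swap (by decide +kernel),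
   swap (by decide +kernel),
   swap (by decide +kernel),
   swap (by decide +kernel),
   swap (by decide +kernel),
   swap (by decide +kernel),
   swap (by decide +kernel),
   swap (by decide +kernel),
   swap (by decide +kernel),
   swap (by decide +kernel),
   swap (by decide +kernel),
   swap (by decide +kernel),
   swap (by decide +kernel),
   special (by decide +kernel),
   special (by decide +kernel),
   special (by decide +kernel),
   special (by decide +kernel),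
   special (by decide +kernel),
   special (by decide +kernel),
   special (by decide +kernel),
   special (by decide +kernel),
   special (by decide +kernel),
   special (by decide +kernel),
   special (by decide +kernel),
   special (by decide +kernel),
   special (by decide +kernel),
   special (by decide +kernel),
   special (by decide +kernel),
   special (by decide +kernel)⟩

/-- Product. -/
theorem W_mul_X [CharP K 2] (v w : V9 K) (X : GL chevD4.Idx K) : W v * (W w * X) = W (v.mul w) * X := by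
  simp only [W, V9.mul, mul_assoc, merge, rules]
  ring_nf

theorem W_mul [CharP K 2] (v w : V9 K) : W v * W w = W (v.mul w) := by
  simpa using W_mul_X v w 1

theorem a3_mul_W_X [CharP K 2] (t : T3 K) (v : V9 K) (X : GL chevD4.Idx K) :
    a3 t * (W v * X) = W (V9.conj t v) * (a3 t * X) := by
  simp only [W, a3, V9.conj, mul_assoc, merge, rules]
  ring_nf

theorem a3_mul_W [CharP K 2] (t : T3 K) (v : V9 K) : a3 t * W v = W (V9.conj t v) * a3 t := by
  simpa using a3_mul_W_X t v 1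

theorem a3_add_X [CharP K 2] (s t : T3 K) (X : GL chevD4.Idx K) :
    a3 s * (a3 t * X) = a3 (s.add t) * X := by
  simp only [a3, T3.add, mul_assoc, merge, rules]

theorem a3_add [CharP K 2] (s t : T3 K) : a3 s * a3 t = a3 (s.add t) := by
  simpa using a3_add_X s t 1

end CfsgLib.Chev.Triality
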