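import Mathlib
import Cfsg.Agent.Lib.Chev.TrialityUni
import Cfsg.Agent.Lib.Chev.Borel
import Cfsg.Agent.Lib.Chev.TwistH
import Cfsg.Agent.Lib.Chev.TwistHOrders
import Cfsg.Agent.Lib.Chev.TorusH

/-!
Coordinates of the unipotent subgroup of ³D₄(q), q even.
-/

set_option autoImplicit false
set_option maxHeartbeats 1600000
set_option maxRecDepth 100000
set_option linter.unusedSectionVars false

namespace CfsgLib.Chev.Triality

open Cfsg.Lie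

variable {K : Type*} [Field K]

attribute [ext] V9 T3

/-- Two coordinate tuples. -/
noncomputable def elt (p : V9 K × T3 K) : GL chevD4.Idx K := W p.1 * a3 p.2

lemma W_zero : W (V9.zero : V9 K) = 1 := by simp [W, V9.zero, goodD4.xG_zero]

lemma a3_zero : a3 (⟨0, 0, 0⟩ : T3 K) = 1 := by simp [a3, goodD4.xG_zero]

variable [CharP K 2]

lemma elt_mul (v w : V9 K) (s t : T3 K) :
    elt (v, s) * elt (w, t) = elt (v.mul (V9.conj s w), s.add t) := by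
  show W v * a3 s * (W w * a3 t) = W _ * a3 _
  rw [mul_assoc, a3_mul_W_X, a3_add, W_mul_X]

/-- Single root elements in coordinates. -/
lemma single (r : ℕ) (hr : 12 ≤ r ∧ r < 24) (u : K) :
    ∃ p : V9 K × T3 K, goodD4.xG r u = elt p ∧
      (r ∉ [12, 13, 18] → p.2 = ⟨0, 0, 0⟩) ∧
      (p.2.t0 = 0 ∨ (p.2.t1 = 0 ∧ p.2.t2 = 0)) := by
  obtain ⟨h1, h2⟩ := hr
  interval_cases r
  · exact ⟨(V9.zero, ⟨0, 0, u⟩), by simp [elt, W_zero, a3, goodD4.xG_zero], by simp, Or.inl rfl⟩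
  · exact ⟨(V9.zero, ⟨0, u, 0⟩), by simp [elt, W_zero, a3, goodD4.xG_zero], by simp, Or.inl rfl⟩
  · exact ⟨(⟨u, 0, 0, 0, 0, 0, 0, 0, 0⟩, ⟨0, 0, 0⟩), by simp [elt, a3_zero, W, goodD4.xG_zero],
      fun _ => rfl, Or.inl rfl⟩
  · exact ⟨(⟨0, 0, 0, u, 0, 0, 0, 0, 0⟩, ⟨0, 0, 0⟩), by simp [elt, a3_zero, W, goodD4.xG_zero],
      fun _ => rfl, Or.inl rfl⟩
  · exact ⟨(⟨0, 0, u, 0, 0, 0, 0, 0, 0⟩, ⟨0, 0, 0⟩), by simp [elt, a3_zero, W, goodD4.xG_zero],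
      fun _ => rfl, Or.inl rfl⟩
  · exact ⟨(⟨0, 0, 0, 0, 0, u, 0, 0, 0⟩, ⟨0, 0, 0⟩), by simp [elt, a3_zero, W, goodD4.xG_zero],
      fun _ => rfl, Or.inl rfl⟩
  · exact ⟨(V9.zero, ⟨u, 0, 0⟩), by simp [elt, W_zero, a3, goodD4.xG_zero], by simp, Or.inr ⟨rfl, rfl⟩⟩
  · exact ⟨(⟨0, u, 0, 0, 0, 0, 0, 0, 0⟩, ⟨0, 0, 0⟩), by simp [elt, a3_zero, W, goodD4.xG_zero],
      fun _ => rfl, Or.inl rfl⟩
  · exact ⟨(⟨0, 0, 0, 0, 0, 0, u, 0, 0⟩, ⟨0, 0, 0⟩), by simp [elt, a3_zero, W, goodD4.xG_zero],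
      fun _ => rfl, Or.inl rfl⟩
  · exact ⟨(⟨0, 0, 0, 0, u, 0, 0, 0, 0⟩, ⟨0, 0, 0⟩), by simp [elt, a3_zero, W, goodD4.xG_zero],
      fun _ => rfl, Or.inl rfl⟩
  · exact ⟨(⟨0, 0, 0, 0, 0, 0, 0, u, 0⟩, ⟨0, 0, 0⟩), by simp [elt, a3_zero, W, goodD4.xG_zero],
      fun _ => rfl, Or.inl rfl⟩
  · exact ⟨(⟨0, 0, 0, 0, 0, 0, 0, 0, u⟩, ⟨0, 0, 0⟩), by simp [elt, a3_zero, W, goodD4.xG_zero],
      fun _ => rfl, Or.inl rfl⟩

lemma half_D4 : half chevD4 = 12 := by decide +kernel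

lemma nroots_D4 : chevD4.nroots = 24 := rfl

/-- Every positive unipotent element has coordinates. -/
lemma exists_elt {x : GL chevD4.Idx K} (hx : x ∈ chevD4.posUnipotent K) : ∃ p, x = elt p := by
  rw [goodD4.posUnipotent_eq] at hx
  have hgen : ∀ y ∈ {x : GL chevD4.Idx K | ∃ (r : ℕ) (t : K), r ∈ Set.Ici (half chevD4) ∧
      r < chevD4.nroots ∧ (x : Matrix chevD4.Idx chevD4.Idx K) = chevD4.x K r t},
      ∀ z, (∃ p, z = elt p) → ∃ p, z * y = elt p := by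
    rintro y ⟨r, u, hr, hrn, hy⟩ z ⟨⟨v, s⟩, rfl⟩
    obtain ⟨⟨w, t⟩, he, -⟩ := single r ⟨half_D4 ▸ hr, nroots_D4 ▸ hrn⟩ u
    exact ⟨_, by rw [goodD4.eq_xG hy, he, elt_mul]⟩
  induction hx using Subgroup.closure_induction_right with
  | one => exact ⟨(V9.zero, ⟨0, 0, 0⟩), by simp [elt, W_zero, a3_zero]⟩
  | mul_right x _ y hy ih => exact hgen y hy x ih
  | mul_inv_cancel x _ y hy ih =>
    obtain ⟨r, u, hr, hrn, hy⟩ := hy
    refine hgen y⁻¹ ⟨r, -u, hr, hrn, ?_⟩ x ih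
    rw [goodD4.eq_xG hy, goodD4.xG_inv, goodD4.coe_xG]

/-- The coordinates are unique. -/
lemma elt_injective [Fintype K] : Function.Injective (elt : V9 K × T3 K → GL chevD4.Idx K) := by
  classical
  have hmem : ∀ p : V9 K × T3 K, elt p ∈ chevD4.posUnipotent K := by
    have hx : ∀ r, 12 ≤ r → r < 24 → ∀ u : K, goodD4.xG r u ∈ chevD4.posUnipotent K := fun r h1 h2 u =>
      goodD4.xG_mem_posUnipotent ((goodD4.isPosRoot_iff r).2 ⟨half_D4 ▸ h1, nroots_D4 ▸ h2⟩) u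
    intro p
    simp only [elt, W, a3]
    repeat' refine mul_mem ?_ ?_
    all_goals exact hx _ (by norm_num) (by norm_num) _
  let e9 : V9 K ≃ K × K × K × K × K × K × K × K × K :=
    ⟨fun v => (v.b, v.g0, v.g1, v.g2, v.d0, v.d1, v.d2, v.e, v.z),
      fun ⟨a, b, c, d, e, f, g, h, i⟩ => ⟨a, b, c, d, e, f, g, h, i⟩, fun _ => rfl, fun _ => rfl⟩
  let e3 : T3 K ≃ K × K × K :=
    ⟨fun t => (t.t0, t.t1, t.t2), fun ⟨a, b, c⟩ => ⟨a, b, c⟩, fun _ => rfl, fun _ => rfl⟩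
  have : Fintype (V9 K × T3 K) := Fintype.ofEquiv _ (Equiv.prodCongr e9 e3).symm
  let f : V9 K × T3 K → ↥(chevD4.posUnipotent K) := fun p => ⟨elt p, hmem p⟩
  have hcard : Nat.card (V9 K × T3 K) = Nat.card ↥(chevD4.posUnipotent K) := by
    rw [goodD4.card_posUnipotent hasCommD4, Nat.card_congr (Equiv.prodCongr e9 e3)]
    rw [Nat.card_eq_fintype_card, show chevD4.nroots / 2 = 12 from rfl]
    simp only [Fintype.card_prod]
    ring
  have hsurj : Function.Surjective f := fun x => by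
    obtain ⟨p, hp⟩ := exists_elt x.2
    exact ⟨p, Subtype.ext hp.symm⟩
  have hbij := (Nat.bijective_iff_surjective_and_card f).2 ⟨hsurj, hcard⟩
  exact fun p p' h => hbij.1 (Subtype.ext h)

end CfsgLib.Chev.Triality
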