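import Mathlib
import Cfsg.Agent.Lib.Chev.TrialityCoords
import Cfsg.Agent.Lib.Chev.TwistGenTwo
import Cfsg.Agent.Lib.Chev.TwistEDProps

/-!
The coordinates of the Sylow 2-subgroup of ³D₄(q).
-/

set_option autoImplicit false
set_option maxHeartbeats 1600000
set_option maxRecDepth 100000
set_option linter.unusedSectionVars false

namespace CfsgLib.Chev.Triality

open Cfsg.Lie

variable {K : Type*} [Field K]

/-- Coordinates fixed by the triality. -/
structure Compat (q : ℕ) (v : V9 K) : Prop where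
  b : v.b ^ q = v.b
  g1 : v.g1 = v.g0 ^ q
  g2 : v.g2 = v.g1 ^ q
  d1 : v.d1 = v.d0 ^ q
  d2 : v.d2 = v.d1 ^ q
  e : v.e ^ q = v.e
  z : v.z ^ q = v.z

/-- Coordinates of the three roots fixed by the triality. -/
structure TC (q : ℕ) (t : T3 K) : Prop where
  t1 : t.t1 = t.t0 ^ q
  t2 : t.t2 = t.t1 ^ q

/-- A triple of fixed coordinates from one value. -/
def T3.of (q : ℕ) (s : K) : T3 K := ⟨s, s ^ q, (s ^ q) ^ q⟩

lemma tc_of (q : ℕ) (s : K) : TC q (T3.of q s) := ⟨rfl, rfl⟩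

variable [Fintype K] [CharP K 2]

lemma rel_q3 {q : ℕ} (hK : Fintype.card K = q ^ 3) (s : K) : ((s ^ q) ^ q) ^ q = s := by
  rw [← pow_mul, ← pow_mul, show q * (q * q) = q ^ 3 by ring, ← hK, FiniteField.pow_card]

lemma wperm_word (l : List (Fin chevD4.rank)) {r r' : ℕ} (hr : r < 24)
    (he : wordApp sdataD4 (l.map Fin.val) r = r') (t : K) :
    goodD4.wordN l * goodD4.xG r t * (goodD4.wordN (F := K) l)⁻¹ = goodD4.xG r' t := by
  obtain ⟨e, hee, hc⟩ := goodD4.wordN_conj_xG_sign (F := K) l ⟨r, hr⟩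
  have he1 : e = 1 := by
    have : (e + 1) ^ 2 = 0 := by
      rw [add_sq, sq e, hee, one_pow, mul_one, CharTwo.two_eq_zero, zero_mul, add_zero,
        CharTwo.add_self_eq_zero]
    rw [sq_eq_zero_iff] at this
    rw [← sub_eq_zero, CharTwo.sub_eq_add, this]
  rw [hc, he1, one_mul, goodD4.wperm_tab checksD4 structChecksD4, he]

lemma conj_mul3 {G : Type*} [Group G] (n a b c : G) :
    n * (a * (b * c)) * n⁻¹ = n * a * n⁻¹ * (n * b * n⁻¹ * (n * c * n⁻¹)) := by group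

/-- The orbit elements, their conjugates and the two fundamental elements of `N¹`. -/
theorem pieces {q : ℕ} (hq : IsPrimePow q) (hK : Fintype.card K = q ^ 3) :
    (∀ v t, Compat q v → TC q t → elt (v, t) ∈ twistedD4 K q) ∧
      goodD4.wordN (F := K) [⟨3, by decide⟩, ⟨2, by decide⟩, ⟨0, by decide⟩] ∈ twistedD4 K q ∧
      goodD4.wordN (F := K) [⟨1, by decide⟩] ∈ twistedD4 K q ∧
      (∀ c : Fin chevD4.rank → Kˣ, c ⟨1, by decide⟩ ^ q = c ⟨1, by decide⟩ →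
        c ⟨2, by decide⟩ = c ⟨0, by decide⟩ ^ q → c ⟨3, by decide⟩ = c ⟨2, by decide⟩ ^ q →
        torHom chevD4 K c ∈ twistedD4 K q) := by
  classical
  obtain ⟨A, hG, hφ, hS, hr, ho⟩ := exists_setupD4 K hq hK
  rw [← hG]
  set o0 : Fin A.r := Fin.cast hr.symm 0 with ho0
  set o1 : Fin A.r := Fin.cast hr.symm 1 with ho1
  have hA0 : A.orb o0 = orbD4 0 := ho o0
  have hA1 : A.orb o1 = orbD4 1 := ho o1
  have hpi : ((A.S.pi ⟨0, by decide⟩).val = 2 ∧ (A.S.pi ⟨1, by decide⟩).val = 1) ∧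
      (A.S.pi ⟨2, by decide⟩).val = 3 ∧ (A.S.pi ⟨3, by decide⟩).val = 0 := by
    rw [hS]; decide +kernel
  have hsr : ([0, 1, 2, 3].map fun i => chevD4.simple i) = [18, 14, 13, 12] := by decide +kernel
  simp only [List.map_cons, List.map_nil, List.cons.injEq, and_true] at hsr
  obtain ⟨s0, s1, s2, s3⟩ := hsr
  have na : goodD4.wordN (F := K) [⟨3, by decide⟩, ⟨2, by decide⟩, ⟨0, by decide⟩] ∈ A.G1 := by
    have := A.wordN_mem hasCommD4 o1
    rw [hA1] at this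
    exact this
  have nb : goodD4.wordN (F := K) [⟨1, by decide⟩] ∈ A.G1 := by
    have := A.wordN_mem hasCommD4 o0
    rw [hA0] at this
    exact this
  have h14 : ∀ b : K, b ^ q = b → goodD4.xG 14 b ∈ A.G1 := by
    intro b hb
    have := (A.gen_mem (o := o0) (t := fun _ => b) fun i _ => by rw [hφ, hb]).1
    rw [hA0] at this
    simpa [Good.xList, orbD4, Good.sroot, s1] using this
  have ha3 : ∀ t : T3 K, TC q t → a3 t ∈ A.G1 := by
    intro t ht
    have := (A.gen_mem (o := o1) (t := fun i => if i.val = 0 then t.t0 else if i.val = 2 then t.t1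
      else t.t2) (fun i hi => ?_)).1
    · rw [hA1] at this
      simp [Good.xList, orbD4, Good.sroot, s0, s2, s3] at this
      convert this using 1
      rw [← mul_one (a3 t), ← mul_one (goodD4.xG 12 t.t2 * _)]
      simp only [a3, mul_assoc, rules]
    · rw [hA1] at hi
      simp [orbD4] at hi
      rw [hφ]
      rcases hi with rfl | rfl | rfl <;> dsimp only
      · rw [hpi.2.2]; simp only [↓reduceIte, OfNat.ofNat_ne_zero, Nat.reduceEqDiff]
        rw [ht.t2, ht.t1, rel_q3 hK]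
      · rw [hpi.2.1]; simp only [↓reduceIte, OfNat.ofNat_ne_zero, Nat.reduceEqDiff]
        exact ht.t2
      · rw [hpi.1.1]; simp only [↓reduceIte, OfNat.ofNat_ne_zero, Nat.reduceEqDiff]
        exact ht.t1
  have hwb : ∀ r r', r < 24 → wordApp sdataD4 [1] r = r' → ∀ t : K,
      goodD4.wordN [⟨1, by decide⟩] * goodD4.xG r t *
        (goodD4.wordN (F := K) [⟨1, by decide⟩])⁻¹ = goodD4.xG r' t :=
    fun r r' hr he t => wperm_word [⟨1, by decide⟩] hr he t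
  have hwa : ∀ r r', r < 24 → wordApp sdataD4 [3, 2, 0] r = r' → ∀ t : K,
      goodD4.wordN [⟨3, by decide⟩, ⟨2, by decide⟩, ⟨0, by decide⟩] * goodD4.xG r t *
        (goodD4.wordN (F := K) [⟨3, by decide⟩, ⟨2, by decide⟩, ⟨0, by decide⟩])⁻¹ = goodD4.xG r' t :=
    fun r r' hr he t => wperm_word [⟨3, by decide⟩, ⟨2, by decide⟩, ⟨0, by decide⟩] hr he t
  have hwv : (wordApp sdataD4 [1] 18 = 19 ∧ wordApp sdataD4 [1] 13 = 16 ∧
      wordApp sdataD4 [1] 12 = 15 ∧ wordApp sdataD4 [1] 22 = 23) ∧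
      (wordApp sdataD4 [3, 2, 0] 19 = 17 ∧ wordApp sdataD4 [3, 2, 0] 16 = 20 ∧
      wordApp sdataD4 [3, 2, 0] 15 = 21 ∧ wordApp sdataD4 [3, 2, 0] 14 = 22) := by decide +kernel
  obtain ⟨⟨b18, b13, b12, b22⟩, ⟨a19, a16, a15, a14⟩⟩ := hwv
  have hg : ∀ t : T3 K, TC q t →
      goodD4.xG 19 t.t0 * (goodD4.xG 16 t.t1 * goodD4.xG 15 t.t2) ∈ A.G1 := by
    intro t ht
    have h := mul_mem (mul_mem nb (ha3 t ht)) (inv_mem nb)
    rw [a3, conj_mul3, hwb 18 19 (by norm_num) b18, hwb 13 16 (by norm_num) b13,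
      hwb 12 15 (by norm_num) b12] at h
    exact h
  have hd : ∀ t : T3 K, TC q t →
      goodD4.xG 17 t.t0 * (goodD4.xG 20 t.t1 * goodD4.xG 21 t.t2) ∈ A.G1 := by
    intro t ht
    have h := mul_mem (mul_mem na (hg t ht)) (inv_mem na)
    rw [conj_mul3, hwa 19 17 (by norm_num) a19, hwa 16 20 (by norm_num) a16,
      hwa 15 21 (by norm_num) a15] at h
    exact h
  have h22 : ∀ b : K, b ^ q = b → goodD4.xG 22 b ∈ A.G1 := by
    intro b hb
    have h := mul_mem (mul_mem na (h14 b hb)) (inv_mem na)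
    rwa [hwa 14 22 (by norm_num) a14] at h
  have h23 : ∀ b : K, b ^ q = b → goodD4.xG 23 b ∈ A.G1 := by
    intro b hb
    have h := mul_mem (mul_mem nb (h22 b hb)) (inv_mem nb)
    rwa [hwb 22 23 (by norm_num) b22] at h
  refine ⟨fun v t hv ht => mul_mem ?_ (ha3 t ht), na, nb, fun c h1 h2 h3 => A.H0_le_G1 hasCommD4
    ⟨c, A.mem_T0.2 fun i => ?_, rfl⟩⟩
  · have e : W v * 1 = goodD4.xG 14 v.b * ((goodD4.xG 19 v.g0 * (goodD4.xG 16 v.g1 * goodD4.xG 15 v.g2)) *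
        ((goodD4.xG 17 v.d1 * (goodD4.xG 20 v.d2 * goodD4.xG 21 v.d0)) *
          (goodD4.xG 22 v.e * goodD4.xG 23 v.z))) * 1 := by
      simp only [W, mul_assoc, rules]
    rw [mul_one, mul_one] at e
    rw [e]
    refine mul_mem (h14 _ hv.b) (mul_mem (hg ⟨v.g0, v.g1, v.g2⟩ ⟨hv.g1, hv.g2⟩)
      (mul_mem (hd ⟨v.d1, v.d2, v.d0⟩ ⟨hv.d2, ?_⟩) (mul_mem (h22 _ hv.e) (h23 _ hv.z))))
    show v.d0 = v.d2 ^ q
    rw [hv.d2, hv.d1, rel_q3 hK]
  · rw [hφ, ← Units.val_pow_eq_pow_val]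
    congr 1
    obtain ⟨⟨p0, p1⟩, p2, p3⟩ := hpi
    obtain ⟨i, hi⟩ := i
    have hi' : i < 4 := hi
    interval_cases i
    · rw [show A.S.pi ⟨0, hi⟩ = ⟨2, by decide⟩ from Fin.ext p0]; exact h2
    · rw [show A.S.pi ⟨1, hi⟩ = ⟨1, by decide⟩ from Fin.ext p1]; exact h1.symm
    · rw [show A.S.pi ⟨2, hi⟩ = ⟨3, by decide⟩ from Fin.ext p2]; exact h3
    · rw [show A.S.pi ⟨3, hi⟩ = ⟨0, by decide⟩ from Fin.ext p3, h3, h2]
      exact Units.ext (by
        simp only [Units.val_pow_eq_pow_val]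
        exact (rel_q3 hK _).symm)

/-- The compatible coordinates are exactly `U¹`. -/
theorem mem_iff {q : ℕ} (hq : IsPrimePow q) (hK : Fintype.card K = q ^ 3) (p : V9 K × T3 K) :
    elt p ∈ twistedD4 K q ↔ Compat q p.1 ∧ TC q p.2 := by
  classical
  let Fq := {c : K // c ^ q = c}
  let f : Fq × K × K × Fq × Fq × K → V9 K × T3 K := fun x =>
    (⟨x.1.1, x.2.1, x.2.1 ^ q, (x.2.1 ^ q) ^ q, x.2.2.1, x.2.2.1 ^ q, (x.2.2.1 ^ q) ^ q,
      x.2.2.2.1.1, x.2.2.2.2.1.1⟩, T3.of q x.2.2.2.2.2)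
  have hf : Function.Injective f := by
    rintro ⟨⟨a, ha⟩, b, c, ⟨d, hd⟩, ⟨e, he⟩, s⟩ ⟨⟨a', ha'⟩, b', c', ⟨d', hd'⟩, ⟨e', he'⟩, s'⟩ h
    simp only [f, T3.of, Prod.mk.injEq, V9.mk.injEq, T3.mk.injEq] at h
    obtain ⟨⟨rfl, rfl, -, -, rfl, -, -, rfl, rfl⟩, rfl, -, -⟩ := h
    rfl
  have hx : ∀ p, elt p ∈ chevD4.posUnipotent K := by
    have hx : ∀ r, 12 ≤ r → r < 24 → ∀ u : K, goodD4.xG r u ∈ chevD4.posUnipotent K := fun r h1 h2 u =>
      goodD4.xG_mem_posUnipotent ((goodD4.isPosRoot_iff r).2 ⟨half_D4 ▸ h1, nroots_D4 ▸ h2⟩) u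
    intro p
    simp only [elt, W, a3]
    repeat' refine mul_mem ?_ ?_
    all_goals exact hx _ (by norm_num) (by norm_num) _
  have hgood : ∀ x, Compat q (f x).1 ∧ TC q (f x).2 := by
    rintro ⟨⟨a, ha⟩, b, c, ⟨d, hd⟩, ⟨e, he⟩, s⟩
    exact ⟨⟨ha, rfl, rfl, rfl, rfl, hd, he⟩, tc_of q s⟩
  refine ⟨fun h => ?_, fun h => (pieces hq hK).1 p.1 p.2 h.1 h.2⟩
  let g : Fq × K × K × Fq × Fq × K → ↥(chevD4.posUnipotent K ⊓ twistedD4 K q) := fun x =>
    ⟨elt (f x), hx _, (pieces hq hK).1 _ _ (hgood x).1 (hgood x).2⟩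
  have hcard : Nat.card (Fq × K × K × Fq × Fq × K) =
      Nat.card ↥(chevD4.posUnipotent K ⊓ twistedD4 K q) := by
    obtain ⟨T, S, hG, h0, -, -⟩ := factsD4 K hq hK
    have h1 := S.card_pos_inf hasCommD4 h0
    rw [show chevD4.nroots / 2 = 12 from rfl] at h1
    simp only [pow_one] at h1
    rw [← hG, h1]
    simp only [Nat.card_prod]
    rw [card_pow_eq_self hq.one_lt hK, Nat.card_eq_fintype_card (α := K), hK]
    ring
  have hbij := (Nat.bijective_iff_injective_and_card g).2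
    ⟨fun a b e => hf (elt_injective (congrArg Subtype.val e)), hcard⟩
  obtain ⟨x, hx'⟩ := hbij.2 ⟨elt p, hx p, h⟩
  rw [← elt_injective (congrArg Subtype.val hx')]
  exact hgood x

end CfsgLib.Chev.Triality
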