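import Mathlib
import Cfsg.Agent.Lib.Chev.TrialityFixed
import Cfsg.Agent.Lib.Chev.Bruhat

/-!
³D₄(q), q even, has two classes of involutions.
-/

set_option autoImplicit false
set_option maxHeartbeats 1600000
set_option maxRecDepth 100000
set_option linter.unusedSectionVars false

namespace CfsgLib.Chev.Triality

open Cfsg.Lie

variable {K : Type*} [Field K] [CharP K 2]

/-- The form of the commutators in the radical. -/
def V9.kappa (w v : V9 K) : K :=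
  w.e * v.b + v.e * w.b + w.d1 * v.g0 + v.d1 * w.g0 + w.d2 * v.g1 + v.d2 * w.g1 + w.d0 * v.g2 + v.d0 * w.g2

/-- The inverse in the radical. -/
def V9.winv (w : V9 K) : V9 K :=
  { w with z := w.z + (w.e * w.b + w.d1 * w.g0 + w.d2 * w.g1 + w.d0 * w.g2) }

lemma W_inv (w : V9 K) : (W w)⁻¹ = W w.winv := by
  refine inv_eq_of_mul_eq_one_right ?_
  rw [W_mul, ← W_zero]
  congr 1
  ext <;> simp only [V9.mul, V9.winv, V9.zero] <;> ring_nf <;> simp [CharTwo.two_eq_zero]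

lemma conjW0 (w v : V9 K) : W w * W v * (W w)⁻¹ = W { v with z := v.z + w.kappa v } := by
  rw [W_inv, W_mul, W_mul]
  congr 1
  ext <;> simp only [V9.mul, V9.winv, V9.kappa] <;> ring_nf <;> simp [CharTwo.two_eq_zero]

lemma conjW (w v : V9 K) (t : T3 K) :
    W w * elt (v, t) * (W w)⁻¹ = elt ((w.mul v).mul (V9.conj t w.winv), t) := by
  rw [W_inv]
  show W w * (W v * a3 t) * W w.winv = W _ * a3 t
  rw [mul_assoc, mul_assoc (W v), a3_mul_W, ← mul_assoc (W v), ← mul_assoc, ← mul_assoc, W_mul,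
    W_mul]

lemma conjA (s : T3 K) (v : V9 K) : a3 s * W v * (a3 s)⁻¹ = W (V9.conj s v) := by
  rw [a3_mul_W, mul_inv_cancel_right]

/-- Conjugates in the twisted group. -/
def Rel (q : ℕ) (x y : GL chevD4.Idx K) : Prop := ∃ g ∈ twistedD4 K q, g * x * g⁻¹ = y

lemma Rel.trans {q : ℕ} {x y z : GL chevD4.Idx K} (h : Rel q x y) (h' : Rel q y z) : Rel q x z := by
  obtain ⟨g, hg, rfl⟩ := h
  obtain ⟨g', hg', rfl⟩ := h'
  exact ⟨g' * g, mul_mem hg' hg, by group⟩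

/-- The long representative. -/
noncomputable def repL : GL chevD4.Idx K := goodD4.xG 14 1

/-- The short representative. -/
noncomputable def repS : GL chevD4.Idx K := a3 ⟨1, 1, 1⟩

/-- In one of the two classes. -/
def Done (q : ℕ) (x : GL chevD4.Idx K) : Prop := Rel q x repL ∨ Rel q x repS

lemma Done.of_rel {q : ℕ} {x y : GL chevD4.Idx K} (h : Rel q x y) (h' : Done q y) : Done q x :=
  h'.imp h.trans h.trans

variable [Fintype K]

/-- The coordinates of an involution of `U¹`. -/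
structure Inv (q : ℕ) (p : V9 K × T3 K) : Prop where
  compat : Compat q p.1
  tc : TC q p.2
  sq : elt p * elt p = 1
  ne : elt p ≠ 1

section

variable {q : ℕ} (hq : IsPrimePow q) (hK : Fintype.card K = q ^ 3)
include hq hK

lemma q_ne : q ≠ 0 := hq.ne_zero

lemma frob : ∃ φ : K →+* K, ∀ t, φ t = t ^ q := exists_powMap_ringHom hq hK (by norm_num)

/-- A step of the reduction. -/
lemma step {p p' : V9 K × T3 K} (hp : Inv q p) {g : GL chevD4.Idx K} (hg : g ∈ twistedD4 K q)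
    (he : g * elt p * g⁻¹ = elt p') (h : Inv q p' → Done q (elt p')) : Done q (elt p) := by
  have hm : elt p' ∈ twistedD4 K q :=
    he ▸ mul_mem (mul_mem hg ((mem_iff hq hK p).2 ⟨hp.compat, hp.tc⟩)) (inv_mem hg)
  obtain ⟨h1, h2⟩ := (mem_iff hq hK p').1 hm
  refine Done.of_rel ⟨g, hg, he⟩ (h ⟨h1, h2, ?_, ?_⟩)
  · rw [← he, show g * elt p * g⁻¹ * (g * elt p * g⁻¹) = g * (elt p * elt p) * g⁻¹ by group, hp.sq,
      mul_one, mul_inv_cancel]
  · rw [← he]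
    intro h0
    exact hp.ne (conj_eq_one_iff.1 h0)

lemma W_mem {w : V9 K} (hw : Compat q w) : W w ∈ twistedD4 K q := by
  have := (mem_iff hq hK (w, ⟨0, 0, 0⟩)).2 ⟨hw, ⟨by simp [q_ne hq hK], by simp [q_ne hq hK]⟩⟩
  simpa [elt, a3_zero] using this

lemma a3_mem {t : T3 K} (ht : TC q t) : a3 t ∈ twistedD4 K q := by
  have h0 : Compat q (V9.zero : V9 K) := by
    constructor <;> simp [V9.zero, q_ne hq hK]
  have := (mem_iff hq hK (V9.zero, t)).2 ⟨h0, ht⟩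
  simpa [elt, W_zero] using this

/-- A fixed element is the square of a fixed element. -/
lemma exists_sqrt {x : K} (hx : x ^ q = x) : ∃ s : K, s ^ q = s ∧ s ^ 2 = x := by
  obtain ⟨s, hs⟩ := FiniteField.isSquare_of_char_two (ringChar.eq K 2) x
  refine ⟨s, CharTwo.sq_inj.1 ?_, by rw [hs, sq]⟩
  rw [← pow_mul, mul_comm, pow_mul, sq s, ← hs, hx]

lemma torus_mem (c0 c1 : Kˣ) (h1 : c1 ^ q = c1) :
    torHom chevD4 K (fun i => if i.val = 0 then c0 else if i.val = 1 then c1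
      else if i.val = 2 then c0 ^ q else (c0 ^ q) ^ q) ∈ twistedD4 K q :=
  (pieces hq hK).2.2.2 _ h1 rfl rfl

lemma torus_conj (c0 c1 : Kˣ) (v : V9 K) (t : T3 K) :
    ∃ v', torHom chevD4 K (fun i => if i.val = 0 then c0 else if i.val = 1 then c1
      else if i.val = 2 then c0 ^ q else (c0 ^ q) ^ q) * elt (v, t) * (torHom chevD4 K (fun i =>
        if i.val = 0 then c0 else if i.val = 1 then c1 else if i.val = 2 then c0 ^ q else (c0 ^ q) ^ q))⁻¹ =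
      elt (v', ⟨((c0 ^ 2 * c1⁻¹ : Kˣ) : K) * t.t0, (((c0 ^ q) ^ 2 * c1⁻¹ : Kˣ) : K) * t.t1,
        ((((c0 ^ q) ^ q) ^ 2 * c1⁻¹ : Kˣ) : K) * t.t2⟩) ∧
      (v = ⟨v.b, 0, 0, 0, 0, 0, 0, 0, 0⟩ →
        v' = ⟨((c1 ^ 2 * (c0 * c0 ^ q * (c0 ^ q) ^ q)⁻¹ : Kˣ) : K) * v.b, 0, 0, 0, 0, 0, 0, 0, 0⟩) := by
  set c : Fin chevD4.rank → Kˣ := fun i => if i.val = 0 then c0 else if i.val = 1 then c1
    else if i.val = 2 then c0 ^ q else (c0 ^ q) ^ q with hc
  set h := torHom chevD4 K c with hh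
  have hχ : ∀ r, r < 24 → ∀ u : K, h * goodD4.xG r u * h⁻¹ =
      goodD4.xG r (((∏ i : Fin chevD4.rank, c i ^ chevD4.cartan i r : Kˣ) : K) * u) :=
    fun r hr u => goodD4.torHom_conj_xG c (show r < chevD4.nroots from hr) u
  have hmul : ∀ a b : GL chevD4.Idx K, h * (a * b) * h⁻¹ = h * a * h⁻¹ * (h * b * h⁻¹) :=
    fun a b => by group
  have hval : ∀ r, (∏ i : Fin chevD4.rank, c i ^ chevD4.cartan i r : Kˣ) =
      c0 ^ chevD4.cartan 0 r * c1 ^ chevD4.cartan 1 r * (c0 ^ q) ^ chevD4.cartan 2 r *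
        ((c0 ^ q) ^ q) ^ chevD4.cartan 3 r := by
    intro r
    show ∏ i : Fin 4, c i ^ chevD4.cartan i r = _
    rw [Fin.prod_univ_four]
    rfl
  have hcar : ([0, 1, 2, 3].map fun i => chevD4.cartan i 18) = [2, -1, 0, 0] ∧
      ([0, 1, 2, 3].map fun i => chevD4.cartan i 13) = [0, -1, 2, 0] ∧
      ([0, 1, 2, 3].map fun i => chevD4.cartan i 12) = [0, -1, 0, 2] ∧
      ([0, 1, 2, 3].map fun i => chevD4.cartan i 14) = [-1, 2, -1, -1] := by decide +kernel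
  simp only [List.map_cons, List.map_nil, List.cons.injEq, and_true] at hcar
  obtain ⟨⟨a0, a1, a2, a3'⟩, ⟨b0, b1, b2, b3⟩, ⟨e0, e1, e2, e3⟩, ⟨f0, f1, f2, f3⟩⟩ := hcar
  let χ : ℕ → K := fun r => ((∏ i : Fin chevD4.rank, c i ^ chevD4.cartan i r : Kˣ) : K)
  refine ⟨⟨χ 14 * v.b, χ 19 * v.g0, χ 16 * v.g1, χ 15 * v.g2, χ 21 * v.d0, χ 17 * v.d1, χ 20 * v.d2,
    χ 22 * v.e, χ 23 * v.z⟩, ?_, fun hv => ?_⟩
  · simp only [elt, W, a3, hmul, hχ 14 (by norm_num), hχ 19 (by norm_num), hχ 16 (by norm_num),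
      hχ 15 (by norm_num), hχ 21 (by norm_num), hχ 17 (by norm_num), hχ 20 (by norm_num),
      hχ 22 (by norm_num), hχ 23 (by norm_num), hχ 18 (by norm_num), hχ 13 (by norm_num),
      hχ 12 (by norm_num)]
    rw [hval 18, hval 13, hval 12, a0, a1, a2, a3', b0, b1, b2, b3, e0, e1, e2, e3]
    simp only [χ, mul_one, one_mul, zpow_neg, zpow_ofNat, pow_zero, pow_one, mul_comm c1⁻¹]
  · rw [hv]
    simp only [χ, hval 14, f0, f1, f2, f3, mul_zero, zpow_neg, zpow_ofNat, pow_one]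
    congr 3
    rw [mul_inv, mul_inv]
    simp only [mul_comm, mul_left_comm, mul_assoc]

lemma na_conj (v : V9 K) :
    goodD4.wordN [⟨3, by decide⟩, ⟨2, by decide⟩, ⟨0, by decide⟩] * elt (v, ⟨0, 0, 0⟩) *
      (goodD4.wordN (F := K) [⟨3, by decide⟩, ⟨2, by decide⟩, ⟨0, by decide⟩])⁻¹ =
      elt (⟨v.e, v.d1, v.d2, v.d0, v.g2, v.g0, v.g1, v.b,
        v.z + (v.b * v.e + v.g0 * v.d1 + v.g1 * v.d2 + v.g2 * v.d0)⟩, ⟨0, 0, 0⟩) := by
  set n := goodD4.wordN (F := K) [⟨3, by decide⟩, ⟨2, by decide⟩, ⟨0, by decide⟩]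
  have hmul : ∀ a b : GL chevD4.Idx K, n * (a * b) * n⁻¹ = n * a * n⁻¹ * (n * b * n⁻¹) :=
    fun a b => by group
  have hw : ∀ r r', r < 24 → wordApp sdataD4 [3, 2, 0] r = r' → ∀ t : K,
      n * goodD4.xG r t * n⁻¹ = goodD4.xG r' t := fun r r' hr he t =>
    wperm_word [⟨3, by decide⟩, ⟨2, by decide⟩, ⟨0, by decide⟩] hr he t
  have e : (wordApp sdataD4 [3, 2, 0] 14 = 22 ∧ wordApp sdataD4 [3, 2, 0] 19 = 17 ∧
      wordApp sdataD4 [3, 2, 0] 16 = 20 ∧ wordApp sdataD4 [3, 2, 0] 15 = 21 ∧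
      wordApp sdataD4 [3, 2, 0] 21 = 15) ∧ (wordApp sdataD4 [3, 2, 0] 17 = 19 ∧
      wordApp sdataD4 [3, 2, 0] 20 = 16 ∧ wordApp sdataD4 [3, 2, 0] 22 = 14 ∧
      wordApp sdataD4 [3, 2, 0] 23 = 23) := by decide +kernel
  obtain ⟨⟨e14, e19, e16, e15, e21⟩, e17, e20, e22, e23⟩ := e
  simp only [elt, a3_zero, mul_one]
  have h := W_mul_X (⟨v.e, v.d1, v.d2, v.d0, v.g2, v.g0, v.g1, v.b,
    v.z + (v.b * v.e + v.g0 * v.d1 + v.g1 * v.d2 + v.g2 * v.d0)⟩ : V9 K) V9.zero 1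
  rw [W_zero, one_mul] at h
  rw [← mul_one (W (⟨v.e, v.d1, v.d2, v.d0, v.g2, v.g0, v.g1, v.b,
    v.z + (v.b * v.e + v.g0 * v.d1 + v.g1 * v.d2 + v.g2 * v.d0)⟩ : V9 K))]
  simp only [W, hmul, hw 14 22 (by norm_num) e14, hw 19 17 (by norm_num) e19,
    hw 16 20 (by norm_num) e16, hw 15 21 (by norm_num) e15, hw 21 15 (by norm_num) e21,
    hw 17 19 (by norm_num) e17, hw 20 16 (by norm_num) e20, hw 22 14 (by norm_num) e22,
    hw 23 23 (by norm_num) e23]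
  rw [← mul_one (goodD4.xG 22 v.b * _)]
  simp only [mul_assoc, merge, rules]
  ring_nf

lemma nb_conj23 (z : K) :
    goodD4.wordN [⟨1, by decide⟩] * elt (⟨0, 0, 0, 0, 0, 0, 0, 0, z⟩, ⟨0, 0, 0⟩) *
      (goodD4.wordN (F := K) [⟨1, by decide⟩])⁻¹ =
      elt (⟨0, 0, 0, 0, 0, 0, 0, z, 0⟩, ⟨0, 0, 0⟩) := by
  simp only [elt, W, a3_zero, goodD4.xG_zero, one_mul, mul_one]
  exact wperm_word [⟨1, by decide⟩] (by norm_num) (by decide +kernel) z

lemma nb_conj19 (a b c : K) :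
    goodD4.wordN [⟨1, by decide⟩] * elt (⟨0, a, b, c, 0, 0, 0, 0, 0⟩, ⟨0, 0, 0⟩) *
      (goodD4.wordN (F := K) [⟨1, by decide⟩])⁻¹ = elt (V9.zero, ⟨a, b, c⟩) := by
  simp only [elt, W, a3, V9.zero, goodD4.xG_zero, one_mul, mul_one]
  rw [conj_mul3, wperm_word [⟨1, by decide⟩] (r' := 18) (by norm_num) (by decide +kernel) a,
    wperm_word [⟨1, by decide⟩] (r' := 13) (by norm_num) (by decide +kernel) b,
    wperm_word [⟨1, by decide⟩] (r' := 12) (by norm_num) (by decide +kernel) c]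

lemma nb_conjS (z : K) :
    goodD4.wordN [⟨1, by decide⟩] * elt (⟨0, 0, 0, 0, 0, 0, 0, 0, z⟩, ⟨1, 1, 1⟩) *
      (goodD4.wordN (F := K) [⟨1, by decide⟩])⁻¹ =
      elt (⟨0, 1, 1, 1, 0, 0, 0, z, 0⟩, ⟨0, 0, 0⟩) := by
  simp only [elt, W, a3, goodD4.xG_zero, one_mul, mul_one]
  rw [show ∀ n a b : GL chevD4.Idx K, n * (a * b) * n⁻¹ = n * a * n⁻¹ * (n * b * n⁻¹) from
      fun n a b => by group, conj_mul3,
    wperm_word [⟨1, by decide⟩] (r' := 22) (by norm_num) (by decide +kernel) z,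
    wperm_word [⟨1, by decide⟩] (r' := 19) (by norm_num) (by decide +kernel) (1 : K),
    wperm_word [⟨1, by decide⟩] (r' := 16) (by norm_num) (by decide +kernel) (1 : K),
    wperm_word [⟨1, by decide⟩] (r' := 15) (by norm_num) (by decide +kernel) (1 : K)]
  conv_lhs => rw [← mul_one (_ * (_ * (_ * _)))]
  conv_rhs => rw [← mul_one (_ * (_ * (_ * _)))]
  simp only [mul_assoc, rules]

/-- The element `x₁₄(b)`. -/
lemma done_long14 {b : K} (hp : Inv q (⟨b, 0, 0, 0, 0, 0, 0, 0, 0⟩, ⟨0, 0, 0⟩)) :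
    Done q (elt (⟨b, 0, 0, 0, 0, 0, 0, 0, 0⟩, ⟨0, 0, 0⟩)) := by
  have hb : b ≠ 0 := by
    rintro rfl
    exact hp.ne (by simp [elt, a3_zero, W, goodD4.xG_zero])
  obtain ⟨s, hsq, hs⟩ := exists_sqrt hq hK (x := b⁻¹) (by rw [inv_pow, hp.compat.b])
  have hs0 : s ≠ 0 := by
    rintro rfl
    rw [zero_pow two_ne_zero] at hs
    exact inv_ne_zero hb hs.symm
  set c1 : Kˣ := Units.mk0 s hs0
  obtain ⟨v', he, hv'⟩ := torus_conj hq hK 1 c1 ⟨b, 0, 0, 0, 0, 0, 0, 0, 0⟩ ⟨0, 0, 0⟩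
  refine Or.inl ⟨_, torus_mem hq hK 1 c1 (Units.ext (by simpa [c1] using hsq)), ?_⟩
  rw [he, hv' rfl]
  simp [elt, W, repL, a3, goodD4.xG_zero, c1, hs, hb]

/-- The element `x₁₈ x₁₃ x₁₂`. -/
lemma done_short18 {t : T3 K} (hp : Inv q (V9.zero, t)) : Done q (elt (V9.zero, t)) := by
  obtain ⟨h1, h2⟩ := hp.tc
  have ht : t.t0 ≠ 0 := by
    intro h0
    apply hp.ne
    have e : t = ⟨0, 0, 0⟩ := by
      ext
      · exact h0
      · rw [h1, h0, zero_pow (q_ne hq hK)]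
      · rw [h2, h1, h0, zero_pow (q_ne hq hK), zero_pow (q_ne hq hK)]
    simp [elt, e, W_zero, a3_zero]
  obtain ⟨s, hs⟩ := FiniteField.isSquare_of_char_two (ringChar.eq K 2) t.t0⁻¹
  have hs0 : s ≠ 0 := fun h => inv_ne_zero ht (by rw [hs, h, mul_zero])
  set c0 : Kˣ := Units.mk0 s hs0
  obtain ⟨v', he, hv'⟩ := torus_conj hq hK c0 1 (V9.zero : V9 K) t
  refine Or.inr ⟨_, torus_mem hq hK c0 1 (one_pow _), ?_⟩
  rw [he, hv' rfl]
  have e0 : s ^ 2 * t.t0 = 1 := by rw [sq, ← hs, inv_mul_cancel₀ ht]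
  have e1 : (s ^ q) ^ 2 * t.t1 = 1 := by
    rw [h1, ← pow_mul, mul_comm q 2, pow_mul, ← mul_pow, e0, one_pow]
  have e2 : ((s ^ q) ^ q) ^ 2 * t.t2 = 1 := by
    rw [h2, ← pow_mul (s ^ q) q 2, mul_comm q 2, pow_mul, ← mul_pow, e1, one_pow]
  simp [elt, repS, c0, e0, e1, e2, V9.zero, W, goodD4.xG_zero]

/-- A long element of `22` and `23`. -/
lemma done_long22 {e z : K} (hp : Inv q (⟨0, 0, 0, 0, 0, 0, 0, e, z⟩, ⟨0, 0, 0⟩)) :
    Done q (elt (⟨0, 0, 0, 0, 0, 0, 0, e, z⟩, ⟨0, 0, 0⟩)) := by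
  have h22 : ∀ c : K, Inv q (⟨0, 0, 0, 0, 0, 0, 0, c, 0⟩, ⟨0, 0, 0⟩) →
      Done q (elt (⟨0, 0, 0, 0, 0, 0, 0, c, 0⟩, ⟨0, 0, 0⟩)) := by
    intro c hc
    refine step hq hK hc (pieces hq hK).2.1 (p' := (⟨c, 0, 0, 0, 0, 0, 0, 0, 0⟩, ⟨0, 0, 0⟩)) ?_
      fun h => done_long14 hq hK h
    rw [na_conj hq hK]
    simp
  by_cases he : e = 0
  · subst he
    exact step hq hK hp (pieces hq hK).2.2.1 (nb_conj23 hq hK z) fun h => h22 z h
  · have hw : Compat q (⟨z / e, 0, 0, 0, 0, 0, 0, 0, 0⟩ : V9 K) := by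
      have := hp.compat
      constructor <;> simp [q_ne hq hK, div_pow, this.e, this.z]
    refine step hq hK hp (W_mem hq hK hw) (p' := (⟨0, 0, 0, 0, 0, 0, 0, e, 0⟩, ⟨0, 0, 0⟩)) ?_
      fun h => h22 e h
    simp only [elt, a3_zero, mul_one]
    rw [conjW0]
    congr 1
    ext <;> simp [V9.kappa]
    field_simp
    rw [CharTwo.add_self_eq_zero, mul_zero]

/-- The quadratic condition in the radical. -/
lemma quad {v : V9 K} (hp : Inv q (v, ⟨0, 0, 0⟩)) :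
    v.e * v.b + v.d1 * v.g0 + v.d2 * v.g1 + v.d0 * v.g2 = 0 := by
  have h := hp.sq
  rw [elt, a3_zero, mul_one, W_mul, ← W_zero] at h
  have h' := congrArg V9.z (congrArg Prod.fst (elt_injective (a₁ := (v.mul v, (⟨0, 0, 0⟩ : T3 K)))
    (a₂ := (V9.zero, ⟨0, 0, 0⟩)) (by simp [elt, h])))
  simpa [V9.mul, V9.zero, CharTwo.add_self_eq_zero] using h'

/-- Elements with nothing on `14` and `21`. -/
lemma done_gamma {v : V9 K} (hp : Inv q (v, ⟨0, 0, 0⟩)) (hb : v.b = 0) (hg : v.g0 ≠ 0)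
    (hd : v.d0 = 0) : Done q (elt (v, ⟨0, 0, 0⟩)) := by
  have hc := hp.compat
  have hg1 : v.g1 ≠ 0 := by rw [hc.g1]; exact pow_ne_zero _ hg
  have hg2 : v.g2 ≠ 0 := by rw [hc.g2]; exact pow_ne_zero _ hg1
  have hd1 : v.d1 = 0 := by rw [hc.d1, hd, zero_pow (q_ne hq hK)]
  have hd2 : v.d2 = 0 := by rw [hc.d2, hd1, zero_pow (q_ne hq hK)]
  -- the coordinate of `22`
  set N := v.g0 * v.g1 * v.g2 with hN
  have hNq : N ^ q = N := by
    rw [hN, mul_pow, mul_pow, ← hc.g1, ← hc.g2, hc.g2, hc.g1, rel_q3 hK]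
    ring
  have hN0 : N ≠ 0 := mul_ne_zero (mul_ne_zero hg hg1) hg2
  obtain ⟨s, hsq, hs⟩ := exists_sqrt hq hK (x := v.e / N) (by rw [div_pow, hc.e, hNq])
  refine step hq hK hp (a3_mem hq hK (t := ⟨v.g0 * s, v.g1 * s, v.g2 * s⟩)
    ⟨by show v.g1 * s = _; rw [mul_pow, hsq, hc.g1], by show v.g2 * s = _; rw [mul_pow, hsq, hc.g2]⟩)
    (p' := (⟨0, v.g0, v.g1, v.g2, 0, 0, 0, 0, (V9.conj ⟨v.g0 * s, v.g1 * s, v.g2 * s⟩ v).z⟩,
      ⟨0, 0, 0⟩)) ?_ fun h => ?_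
  · simp only [elt, a3_zero, mul_one]
    rw [conjA]
    congr 1
    have hse : s ^ 2 * N = v.e := by rw [hs, div_mul_cancel₀ _ hN0]
    ext <;> simp [V9.conj, hb, hd, hd1, hd2]
    · linear_combination v.g0 * v.g1 * s * (CharTwo.two_eq_zero (R := K))
    · linear_combination v.g1 * v.g2 * s * (CharTwo.two_eq_zero (R := K))
    · linear_combination v.g0 * v.g2 * s * (CharTwo.two_eq_zero (R := K))
    · rw [hN] at hse
      linear_combination (-1 : K) * hse + 2 * s ^ 2 * (v.g0 * v.g1 * v.g2) * (CharTwo.two_eq_zero (R := K))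
  -- the coordinate of `23`
  set z := (V9.conj ⟨v.g0 * s, v.g1 * s, v.g2 * s⟩ v).z
  have hz : z ^ q = z := h.compat.z
  have hw : Compat q (⟨0, 0, 0, 0, z / v.g2, z / v.g0, z / v.g1, 0, 0⟩ : V9 K) := by
    constructor <;> simp [q_ne hq hK, div_pow, hz]
    · rw [hc.g2, hc.g1, rel_q3 hK]
    · rw [← hc.g1]
  refine step hq hK h (W_mem hq hK hw) (p' := (⟨0, v.g0, v.g1, v.g2, 0, 0, 0, 0, 0⟩, ⟨0, 0, 0⟩)) ?_
    fun h => ?_
  · simp only [elt, a3_zero, mul_one]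
    rw [conjW0]
    congr 1
    ext <;> simp [V9.kappa]
    rw [div_mul_cancel₀ _ hg2, div_mul_cancel₀ _ hg, div_mul_cancel₀ _ hg1]
    linear_combination 2 * z * (CharTwo.two_eq_zero (R := K))
  exact step hq hK h (pieces hq hK).2.2.1 (nb_conj19 hq hK v.g0 v.g1 v.g2) fun h => done_short18 hq hK h

/-- Elements with nothing on `14`. -/
lemma done_b0 {v : V9 K} (hp : Inv q (v, ⟨0, 0, 0⟩)) (hb : v.b = 0) :
    Done q (elt (v, ⟨0, 0, 0⟩)) := by
  obtain ⟨φ, hφ⟩ := frob hq hK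
  have hz0 := q_ne hq hK
  have hc := hp.compat
  by_cases hg : v.g0 = 0
  · have hg1 : v.g1 = 0 := by rw [hc.g1, hg, zero_pow hz0]
    have hg2 : v.g2 = 0 := by rw [hc.g2, hg1, zero_pow hz0]
    by_cases hd : v.d0 = 0
    · have hd1 : v.d1 = 0 := by rw [hc.d1, hd, zero_pow hz0]
      have hd2 : v.d2 = 0 := by rw [hc.d2, hd1, zero_pow hz0]
      have e : v = ⟨0, 0, 0, 0, 0, 0, 0, v.e, v.z⟩ := by ext <;> simp [hb, hg, hg1, hg2, hd, hd1, hd2]
      rw [e] at hp ⊢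
      exact done_long22 hq hK hp
    · have hd1 : v.d1 ≠ 0 := by rw [hc.d1]; exact pow_ne_zero _ hd
      have hd2 : v.d2 ≠ 0 := by rw [hc.d2]; exact pow_ne_zero _ hd1
      -- clear the coordinate of `22`
      refine step hq hK hp (a3_mem hq hK (t := ⟨v.e / v.d1, v.e / v.d2, v.e / v.d0⟩)
        ⟨by show v.e / v.d2 = _; rw [div_pow, hc.e, ← hc.d2],
         by show v.e / v.d0 = _; rw [div_pow, hc.e, hc.d2, hc.d1, rel_q3 hK]⟩)
        (p' := (⟨0, 0, 0, 0, v.d0, v.d1, v.d2, 0, v.z⟩, ⟨0, 0, 0⟩)) ?_ fun h => ?_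
      · simp only [elt, a3_zero, mul_one]
        rw [conjA]
        congr 1
        ext <;> simp [V9.conj, hb, hg, hg1, hg2]
        rw [div_mul_cancel₀ _ hd1, div_mul_cancel₀ _ hd2, div_mul_cancel₀ _ hd]
        linear_combination 2 * v.e * (CharTwo.two_eq_zero (R := K))
      -- clear the coordinate of `23`
      have hw : Compat q (⟨0, v.z / v.d1, v.z / v.d2, v.z / v.d0, 0, 0, 0, 0, 0⟩ : V9 K) := by
        constructor <;> simp [hz0, div_pow, hc.z]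
        · rw [← hc.d2]
        · rw [hc.d2, hc.d1, rel_q3 hK]
      refine step hq hK h (W_mem hq hK hw) (p' := (⟨0, 0, 0, 0, v.d0, v.d1, v.d2, 0, 0⟩, ⟨0, 0, 0⟩)) ?_
        fun h => ?_
      · simp only [elt, a3_zero, mul_one]
        rw [conjW0]
        congr 1
        ext <;> simp [V9.kappa]
        rw [mul_div_cancel₀ _ hd1, mul_div_cancel₀ _ hd2, mul_div_cancel₀ _ hd]
        linear_combination 2 * v.z * (CharTwo.two_eq_zero (R := K))
      exact step hq hK h (pieces hq hK).2.1 (na_conj hq hK _) fun h =>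
        done_gamma hq hK h rfl hd1 rfl
  · have hg1 : v.g1 ≠ 0 := by rw [hc.g1]; exact pow_ne_zero _ hg
    have hg2 : v.g2 ≠ 0 := by rw [hc.g2]; exact pow_ne_zero _ hg1
    have hqd : v.d1 * v.g0 + v.d2 * v.g1 + v.d0 * v.g2 = 0 := by
      have := quad hq hK hp
      rwa [hb, mul_zero, zero_add] at this
    set s := v.d1 / (v.g1 * v.g2) with hs
    have hs1 : s ^ q = v.d2 / (v.g2 * v.g0) := by
      rw [hs, div_pow, mul_pow, ← hc.d2, ← hc.g2, hc.g2, hc.g1, rel_q3 hK]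
    refine step hq hK hp (a3_mem hq hK (tc_of q (v.g0 * s)))
      (p' := (V9.conj (T3.of q (v.g0 * s)) v, ⟨0, 0, 0⟩)) ?_ fun h => ?_
    · simp only [elt, a3_zero, mul_one]
      exact conjA _ _
    refine done_gamma hq hK h (by simp [V9.conj, hb]) ?_ ?_
    · simpa [V9.conj, hb] using hg
    · simp only [V9.conj, T3.of, hb, mul_zero, add_zero]
      rw [mul_pow, hs1, ← hc.g1, hs]
      field_simp
      linear_combination hqd

/-- All involutions of the radical. -/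
lemma done_radical {v : V9 K} (hp : Inv q (v, ⟨0, 0, 0⟩)) : Done q (elt (v, ⟨0, 0, 0⟩)) := by
  have hz0 := q_ne hq hK
  by_cases hb : v.b = 0
  · exact done_b0 hq hK hp hb
  have hc := hp.compat
  -- clear the coordinates of `19, 16, 15`
  refine step hq hK hp (a3_mem hq hK (t := ⟨v.g0 / v.b, v.g1 / v.b, v.g2 / v.b⟩)
    ⟨by show v.g1 / v.b = _; rw [div_pow, hc.b, hc.g1],
     by show v.g2 / v.b = _; rw [div_pow, hc.b, hc.g2]⟩)
    (p' := (V9.conj ⟨v.g0 / v.b, v.g1 / v.b, v.g2 / v.b⟩ v, ⟨0, 0, 0⟩)) ?_ fun h => ?_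
  · simp only [elt, a3_zero, mul_one]
    exact conjA _ _
  set u := V9.conj ⟨v.g0 / v.b, v.g1 / v.b, v.g2 / v.b⟩ v with hu
  have hub : u.b ≠ 0 := by simpa [hu, V9.conj] using hb
  have hug : u.g0 = 0 := by
    simp only [hu, V9.conj]; rw [div_mul_cancel₀ _ hb]; exact CharTwo.add_self_eq_zero _
  have hug1 : u.g1 = 0 := by rw [h.compat.g1, hug, zero_pow hz0]
  have hug2 : u.g2 = 0 := by rw [h.compat.g2, hug1, zero_pow hz0]
  have hue : u.e = 0 := by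
    have := quad hq hK h
    simp only [hug, hug1, hug2, mul_zero, add_zero] at this
    exact (mul_eq_zero.1 this).resolve_right hub
  by_cases hd : u.d0 = 0
  · have hd1 : u.d1 = 0 := by rw [h.compat.d1, hd, zero_pow hz0]
    have hd2 : u.d2 = 0 := by rw [h.compat.d2, hd1, zero_pow hz0]
    have hw : Compat q (⟨0, 0, 0, 0, 0, 0, 0, u.z / u.b, 0⟩ : V9 K) := by
      constructor <;> simp [hz0, div_pow, h.compat.z, h.compat.b]
    refine step hq hK h (W_mem hq hK hw) (p' := (⟨u.b, 0, 0, 0, 0, 0, 0, 0, 0⟩, ⟨0, 0, 0⟩)) ?_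
      fun h => done_long14 hq hK h
    simp only [elt, a3_zero, mul_one]
    rw [conjW0]
    congr 1
    ext <;> simp [V9.kappa, hug, hug1, hug2, hd, hd1, hd2, hue]
    rw [div_mul_cancel₀ _ hub]
    exact CharTwo.add_self_eq_zero _
  · refine step hq hK h (pieces hq hK).2.1 (na_conj hq hK u) fun h' => done_b0 hq hK h' hue

/-- All involutions of `U¹`. -/
theorem done_all {p : V9 K × T3 K} (hp : Inv q p) : Done q (elt p) := by
  obtain ⟨v, t⟩ := p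
  obtain ⟨φ, hφ⟩ := frob hq hK
  have hz0 := q_ne hq hK
  have two0 : (2 : K) = 0 := CharTwo.two_eq_zero
  by_cases ht : t.t0 = 0
  · have e : t = ⟨0, 0, 0⟩ := by
      ext
      · exact ht
      · rw [hp.tc.t1, ht, zero_pow hz0]
      · rw [hp.tc.t2, hp.tc.t1, ht, zero_pow hz0, zero_pow hz0]
    subst e
    exact done_radical hq hK hp
  -- normalise the part outside the radical
  obtain ⟨s, hs⟩ := FiniteField.isSquare_of_char_two (ringChar.eq K 2) t.t0⁻¹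
  have hs0 : s ≠ 0 := fun h => inv_ne_zero ht (by rw [hs, h, mul_zero])
  obtain ⟨v1, he1, -⟩ := torus_conj hq hK (Units.mk0 s hs0) 1 v t
  have e0 : s ^ 2 * t.t0 = 1 := by rw [sq, ← hs, inv_mul_cancel₀ ht]
  have e1 : (s ^ q) ^ 2 * t.t1 = 1 := by
    rw [hp.tc.t1, ← pow_mul, mul_comm q 2, pow_mul, ← mul_pow, e0, one_pow]
  have e2 : ((s ^ q) ^ q) ^ 2 * t.t2 = 1 := by
    rw [hp.tc.t2, ← pow_mul (s ^ q) q 2, mul_comm q 2, pow_mul, ← mul_pow, e1, one_pow]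
  refine step hq hK hp (torus_mem hq hK (Units.mk0 s hs0) 1 (one_pow _)) (p' := (v1, ⟨1, 1, 1⟩)) ?_
    fun h1 => ?_
  · rw [he1]
    simp [e0, e1, e2]
  clear he1 e0 e1 e2 hp ht hs hs0
  -- what the square says
  have cond : ∀ v : V9 K, Inv q (v, ⟨1, 1, 1⟩) →
      v.b = 0 ∧ v.g1 = v.g0 ∧ v.g2 = v.g0 ∧ v.d0 + v.d1 + v.d2 = v.g0 := by
    intro v hv
    have h := hv.sq
    rw [elt_mul, show (1 : GL chevD4.Idx K) = elt (V9.zero, ⟨0, 0, 0⟩) by simp [elt, W_zero, a3_zero]] at h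
    have h' := congrArg Prod.fst (elt_injective h)
    simp only [V9.mul, V9.conj, V9.zero, V9.mk.injEq, one_mul] at h'
    obtain ⟨-, hg0, -, -, hd0, hd1, -, he, -⟩ := h'
    have hb : v.b = 0 := by linear_combination hg0 - v.g0 * two0
    have h01 : v.g1 = v.g0 := by linear_combination hd0 - hb - (v.d0 + v.g0) * two0
    have h12 : v.g2 = v.g0 := by
      linear_combination hd1 - hb - (v.d1 + v.g1) * two0 + h01
    exact ⟨hb, h01, h12, by linear_combination he - hb - h01 - h12 - (v.e + 2 * v.g0) * two0⟩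
  clear v t
  rename' v1 => v, h1 => hv
  obtain ⟨hb, hg1, hg2, hD⟩ := cond v hv
  have hγ : v.g0 ^ q = v.g0 := by rw [← hv.compat.g1, hg1]
  have hw1 : Compat q (⟨v.g0, 0, 0, 0, 0, 0, 0, 0, 0⟩ : V9 K) := by
    constructor <;> simp [hz0, hγ]
  refine step hq hK hv (W_mem hq hK hw1) (conjW _ v _) fun hv1 => ?_
  set v1 := ((⟨v.g0, 0, 0, 0, 0, 0, 0, 0, 0⟩ : V9 K).mul v).mul
    (V9.conj ⟨1, 1, 1⟩ (⟨v.g0, 0, 0, 0, 0, 0, 0, 0, 0⟩ : V9 K).winv) with hv1e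
  have hg10 : v1.g0 = 0 := by
    simp [hv1e, V9.mul, V9.conj, V9.winv, CharTwo.add_self_eq_zero]
  clear_value v1
  clear hv1e hγ hw1 hb hg1 hg2 hD hv
  clear v
  rename' v1 => v, hv1 => hv, hg10 => hg0
  obtain ⟨hb, hg1, hg2, hD⟩ := cond v hv
  rw [hg0] at hg1 hg2 hD
  have hw2 : Compat q (⟨0, v.d1, v.d2, v.d0, 0, 0, 0, 0, 0⟩ : V9 K) := by
    constructor <;> simp [hz0]
    · exact hv.compat.d2
    · rw [hv.compat.d2, hv.compat.d1, rel_q3 hK]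
  refine step hq hK hv (W_mem hq hK hw2) (conjW _ v _) fun hv1 => ?_
  set v1 := ((⟨0, v.d1, v.d2, v.d0, 0, 0, 0, 0, 0⟩ : V9 K).mul v).mul
    (V9.conj ⟨1, 1, 1⟩ (⟨0, v.d1, v.d2, v.d0, 0, 0, 0, 0, 0⟩ : V9 K).winv) with hv1e
  have hg10 : v1.g0 = 0 := by
    simp [hv1e, V9.mul, V9.conj, V9.winv, hg0, CharTwo.add_self_eq_zero]
  have hd10 : v1.d0 = 0 := by
    simp only [hv1e, V9.mul, V9.conj, V9.winv]
    linear_combination hD
  clear_value v1
  clear hv1e hw2 hb hg1 hg2 hD hv hg0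
  clear v
  rename' v1 => v, hv1 => hv, hg10 => hg0, hd10 => hd0
  have hw3 : Compat q (⟨0, 0, 0, 0, v.e, v.e, v.e, 0, 0⟩ : V9 K) := by
    constructor <;> simp [hz0, hv.compat.e]
  refine step hq hK hv (W_mem hq hK hw3) (conjW _ v _) fun hv1 => ?_
  set v1 := ((⟨0, 0, 0, 0, v.e, v.e, v.e, 0, 0⟩ : V9 K).mul v).mul
    (V9.conj ⟨1, 1, 1⟩ (⟨0, 0, 0, 0, v.e, v.e, v.e, 0, 0⟩ : V9 K).winv) with hv1e
  have hg10 : v1.g0 = 0 := by simp [hv1e, V9.mul, V9.conj, V9.winv, hg0]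
  have hd10 : v1.d0 = 0 := by
    simp [hv1e, V9.mul, V9.conj, V9.winv, hd0, CharTwo.add_self_eq_zero]
  have he10 : v1.e = 0 := by
    simp [hv1e, V9.mul, V9.conj, V9.winv]
    linear_combination 2 * v.e * two0
  clear_value v1
  clear hv1e hw3 hv hg0 hd0
  clear v
  obtain ⟨hb, hg1, hg2, -⟩ := cond v1 hv1
  have hd11 : v1.d1 = 0 := by rw [hv1.compat.d1, hd10, zero_pow hz0]
  have hd12 : v1.d2 = 0 := by rw [hv1.compat.d2, hd11, zero_pow hz0]
  have e : v1 = ⟨0, 0, 0, 0, 0, 0, 0, 0, v1.z⟩ := by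
    ext <;> simp [hb, hg10, hg1, hg2, hd10, hd11, hd12, he10]
  rw [e] at hv1 ⊢
  exact step hq hK hv1 (pieces hq hK).2.2.1 (nb_conjS hq hK _) fun h => done_radical hq hK h

end

end CfsgLib.Chev.Triality
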