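import Mathlib
import Cfsg.Agent.Lib.Chev.TrialityInvolClasses

/-!
The number of classes of involutions of ³D₄(q), q even.
-/

set_option autoImplicit false
set_option maxHeartbeats 1600000
set_option maxRecDepth 100000
set_option linter.unusedSectionVars false

namespace CfsgLib.Chev.Triality

open Cfsg.Lie

variable {K : Type*} [Field K] [CharP K 2] [Fintype K]

lemma z_central (u : K) (p : V9 K × T3 K) :
    elt p * W (⟨0, 0, 0, 0, 0, 0, 0, 0, u⟩ : V9 K) = W (⟨0, 0, 0, 0, 0, 0, 0, 0, u⟩ : V9 K) * elt p := by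
  obtain ⟨v, t⟩ := p
  show W v * a3 t * _ = _ * (W v * a3 t)
  rw [mul_assoc, a3_mul_W, ← mul_assoc, ← mul_assoc, W_mul, W_mul]
  congr 2
  ext <;> simp [V9.mul, V9.conj, add_comm]

/-- The short representative is not conjugate, even in D₄(K), to the long root element `x₂₃(1)`. -/
theorem not_conj23 {g : GL chevD4.Idx K} (hg : g ∈ chevD4.group K) :
    g * goodD4.xG 23 (1 : K) * g⁻¹ ≠ repS := by
  intro he
  obtain ⟨b, hb, n, -, π, -, hπ, u, hu, rfl⟩ := goodD4.exists_canonical hasCommD4 hg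
  have hx23 : goodD4.xG 23 (1 : K) = W ⟨0, 0, 0, 0, 0, 0, 0, 0, 1⟩ := by simp [W, goodD4.xG_zero]
  obtain ⟨pu, hpu⟩ := exists_elt (goodD4.minus_le_pos π hu)
  have hcu : u * goodD4.xG 23 (1 : K) * u⁻¹ = goodD4.xG 23 1 := by
    rw [hx23, hpu, z_central, mul_inv_cancel_right]
  obtain ⟨v, hv, d, hd, rfl⟩ := goodD4.mem_borel.1 hb
  rw [goodD4.diagonal_eq_range] at hd
  obtain ⟨c, rfl⟩ := hd
  obtain ⟨κ, hκ⟩ := hπ ⟨23, by decide⟩
  set r := π ⟨23, by decide⟩ with hr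
  have e1 : v * goodD4.xG r (((∏ i : Fin chevD4.rank, c i ^ chevD4.cartan i r : Kˣ) : K) *
      ((κ : K) * 1)) * v⁻¹ = repS := by
    rw [← goodD4.torHom_conj_xG c r.2, ← hκ, ← hcu, ← he]
    group
  set w := ((∏ i : Fin chevD4.rank, c i ^ chevD4.cartan i r : Kˣ) : K) * ((κ : K) * 1) with hw
  have hS : (repS : GL chevD4.Idx K) = elt (V9.zero, ⟨1, 1, 1⟩) := by simp [elt, repS, W_zero]
  by_cases hpos : 12 ≤ r.val
  · obtain ⟨⟨vv, tt⟩, hp, -, hp'⟩ := single r.val ⟨hpos, r.2⟩ w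
    obtain ⟨⟨v1, t1⟩, rfl⟩ := exists_elt hv
    rw [mul_inv_eq_iff_eq_mul, hp, hS, elt_mul, elt_mul] at e1
    have h := congrArg Prod.snd (elt_injective e1)
    simp only [T3.add, T3.mk.injEq] at h
    obtain ⟨h0, h1, h2⟩ := h
    rcases hp' with h' | ⟨h', -⟩
    · exact one_ne_zero (α := K) (by linear_combination -h0 + h')
    · exact one_ne_zero (α := K) (by linear_combination -h1 + h')
  · have hSU : (repS : GL chevD4.Idx K) ∈ chevD4.posUnipotent K := by
      rw [goodD4.posUnipotent_eq]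
      exact mul_mem (goodD4.mem_rootGen (by decide) (show 18 ∈ Set.Ici (half chevD4) by rw [half_D4]; decide) _)
        (mul_mem (goodD4.mem_rootGen (by decide) (show 13 ∈ Set.Ici (half chevD4) by rw [half_D4]; decide) _)
          (goodD4.mem_rootGen (by decide) (show 12 ∈ Set.Ici (half chevD4) by rw [half_D4]; decide) _))
    have hx : goodD4.xG r w ∈ chevD4.borelSubgroup K ⊓ chevD4.negUnipotent K := by
      refine Subgroup.mem_inf.2 ⟨?_, goodD4.xG_mem_negUnipotent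
        ((goodD4.isNegRoot_iff r.val).2 (half_D4 ▸ Nat.not_le.1 hpos)) w⟩
      rw [show goodD4.xG r.val w = v⁻¹ * repS * v by rw [← e1]; group]
      exact mul_mem (mul_mem (inv_mem (Subgroup.mem_sup_left hv)) (Subgroup.mem_sup_left hSU))
        (Subgroup.mem_sup_left hv)
    rw [goodD4.borel_inf_neg, Subgroup.mem_bot] at hx
    rw [hx, mul_one, mul_inv_cancel, hS] at e1
    have h := congrArg (fun p => p.2.t0) (elt_injective
      (a₁ := (V9.zero, (⟨0, 0, 0⟩ : T3 K))) (a₂ := (V9.zero, ⟨1, 1, 1⟩))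
      (by rw [← e1]; simp [elt, W_zero, a3_zero]))
    exact zero_ne_one (α := K) h

section

variable {q : ℕ} (hq : IsPrimePow q) (hK : Fintype.card K = q ^ 3)
include hq hK

lemma twisted_le_group : twistedD4 K q ≤ chevD4.group K := by
  obtain ⟨A, hG, -⟩ := exists_setupD4 K hq hK
  rw [← hG]
  exact (A.G1_le_fixed hasCommD4).trans A.T.fixed_le

lemma reps_mem : (repL : GL chevD4.Idx K) ∈ twistedD4 K q ∧ (repS : GL chevD4.Idx K) ∈ twistedD4 K q := by
  constructor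
  · have hw : Compat q (⟨1, 0, 0, 0, 0, 0, 0, 0, 0⟩ : V9 K) := by
      constructor <;> simp [q_ne hq hK]
    have := W_mem hq hK hw
    simpa [repL, W, goodD4.xG_zero] using this
  · exact a3_mem hq hK ⟨(one_pow q).symm, (one_pow q).symm⟩

lemma not_rel_reps : ¬ Rel q (repL : GL chevD4.Idx K) repS := by
  rintro ⟨g, hg, he⟩
  set na := goodD4.wordN (F := K) [⟨3, by decide⟩, ⟨2, by decide⟩, ⟨0, by decide⟩]
  set nb := goodD4.wordN (F := K) [⟨1, by decide⟩]
  have h1 : na * (repL : GL chevD4.Idx K) * na⁻¹ = goodD4.xG 22 1 :=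
    wperm_word [⟨3, by decide⟩, ⟨2, by decide⟩, ⟨0, by decide⟩] (r := 14) (r' := 22) (by norm_num)
      (by decide +kernel) (1 : K)
  have h2 : nb * goodD4.xG 22 (1 : K) * nb⁻¹ = goodD4.xG 23 1 :=
    wperm_word [⟨1, by decide⟩] (r := 22) (r' := 23) (by norm_num) (by decide +kernel) (1 : K)
  refine not_conj23 (g := g * (nb * na)⁻¹) (twisted_le_group hq hK (mul_mem hg
    (inv_mem (mul_mem (pieces hq hK).2.2.1 (pieces hq hK).2.1)))) ?_
  rw [← h2, ← h1, ← he]
  group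

lemma exists_inv_coords (x : ↥(twistedD4 K q)) (hx : orderOf x = 2) :
    ∃ p, Inv q p ∧ Rel q (x : GL chevD4.Idx K) (elt p) := by
  have := Fact.mk Nat.prime_two
  set U := (chevD4.posUnipotent K ⊓ twistedD4 K q).subgroupOf (twistedD4 K q) with hU
  have hcard : Nat.card ↥U = q ^ 12 := by
    obtain ⟨T, S, hG, h0, -, -⟩ := factsD4 K hq hK
    rw [hU, Nat.card_congr (Subgroup.subgroupOfEquivOfLe inf_le_right).toEquiv, ← hG]
    have h1 := S.card_pos_inf hasCommD4 h0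
    rw [show chevD4.nroots / 2 = 12 from rfl] at h1
    simpa using h1
  obtain ⟨k, hk, hqk⟩ : ∃ k, 1 ≤ k ∧ q = 2 ^ k := by
    obtain ⟨p, k, hp, hk, rfl⟩ := hq
    refine ⟨k, hk, ?_⟩
    have h2 : 2 ∣ Fintype.card K := by
      obtain ⟨n, -, h⟩ := FiniteField.card K 2
      rw [h]; exact dvd_pow_self 2 n.ne_zero
    rw [hK] at h2
    rw [(Nat.prime_dvd_prime_iff_eq Nat.prime_two hp.nat_prime).1
      (Nat.prime_two.dvd_of_dvd_pow (Nat.prime_two.dvd_of_dvd_pow h2))]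
  have hpU : IsPGroup 2 ↥U := IsPGroup.of_card (n := k * 12) (by rw [hcard, hqk, pow_mul])
  have hidx : ¬ 2 ∣ U.index := by
    have hi := U.index_mul_card
    rw [hcard, card_twistedD4 K hq hK] at hi
    have h12 : q ^ 12 ≠ 0 := pow_ne_zero _ (q_ne hq hK)
    have hidx : U.index = (q ^ 2 - 1) * (q ^ 6 - 1) * (q ^ 8 + q ^ 4 + 1) :=
      mul_right_cancel₀ h12 (hi.trans (by ring))
    have he : Even q := by rw [hqk]; exact even_two.pow_of_ne_zero (by omega)
    have h1 : 1 ≤ q := hqk ▸ Nat.one_le_two_pow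
    rw [← even_iff_two_dvd, hidx]
    simp only [Nat.even_mul, not_or, Nat.not_even_iff_odd]
    refine ⟨⟨?_, ?_⟩, ?_⟩
    · exact Nat.Even.sub_odd (Nat.one_le_pow _ _ h1) (he.pow_of_ne_zero (by norm_num)) odd_one
    · exact Nat.Even.sub_odd (Nat.one_le_pow _ _ h1) (he.pow_of_ne_zero (by norm_num)) odd_one
    · exact Even.add_one ((he.pow_of_ne_zero (by norm_num)).add (he.pow_of_ne_zero (by norm_num)))
  let P0 : Sylow 2 ↥(twistedD4 K q) := hpU.toSylow hidx
  have hz : IsPGroup 2 ↥(Subgroup.zpowers x) :=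
    IsPGroup.of_card (n := 1) (by rw [Nat.card_zpowers, hx, pow_one])
  obtain ⟨P, hP⟩ := hz.exists_le_sylow
  obtain ⟨g, hgP⟩ := MulAction.exists_smul_eq ↥(twistedD4 K q) P P0
  have hmem : g * x * g⁻¹ ∈ U := by
    have h1 : MulAut.conj g x ∈ (g • P : Sylow 2 ↥(twistedD4 K q)).toSubgroup := by
      rw [Sylow.coe_subgroup_smul]
      exact Subgroup.smul_mem_pointwise_smul x (MulAut.conj g) _ (hP (Subgroup.mem_zpowers x))
    rw [hgP] at h1
    exact h1
  obtain ⟨hmU, hmG⟩ := Subgroup.mem_subgroupOf.1 hmem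
  obtain ⟨p, hp⟩ := exists_elt hmU
  have hxx : (x : GL chevD4.Idx K) * x = 1 := by
    have := pow_orderOf_eq_one x
    rw [hx, sq] at this
    exact congrArg Subtype.val this
  obtain ⟨h1, h2⟩ := (mem_iff hq hK p).1 (hp ▸ hmG)
  refine ⟨p, ⟨h1, h2, ?_, ?_⟩, ⟨g, g.2, by rw [← hp]; rfl⟩⟩
  · rw [← hp]
    show (g : GL chevD4.Idx K) * x * (g : GL chevD4.Idx K)⁻¹ * (g * x * (g : GL chevD4.Idx K)⁻¹) = 1
    rw [show (g : GL chevD4.Idx K) * x * (g : GL chevD4.Idx K)⁻¹ * (g * x * (g : GL chevD4.Idx K)⁻¹) =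
      g * ((x : GL chevD4.Idx K) * x) * (g : GL chevD4.Idx K)⁻¹ by group, hxx, mul_one, mul_inv_cancel]
  · rw [← hp]
    intro h0
    have : g * x * g⁻¹ = 1 := Subtype.ext h0
    rw [conj_eq_one_iff] at this
    rw [this, orderOf_one] at hx
    exact absurd hx (by norm_num)

/-- ³D₄(q), q even, has exactly two classes of involutions. -/
theorem ncard_involution_classes :
    (ConjClasses.mk '' {g : ↥(twistedD4 K q) | orderOf g = 2}).ncard = 2 := by
  have := Fact.mk Nat.prime_two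
  obtain ⟨hL, hS⟩ := reps_mem (K := K) hq hK
  set L : ↥(twistedD4 K q) := ⟨repL, hL⟩
  set S : ↥(twistedD4 K q) := ⟨repS, hS⟩
  have horder : ∀ (y : ↥(twistedD4 K q)) (p : V9 K × T3 K), (y : GL chevD4.Idx K) = elt p →
      p ≠ (V9.zero, ⟨0, 0, 0⟩) → elt p * elt p = 1 → orderOf y = 2 := by
    intro y p hy hne hsq
    refine orderOf_eq_prime (by rw [sq]; exact Subtype.ext (by rw [Subgroup.coe_mul, hy, hsq]; rfl)) ?_
    intro h1
    refine hne (elt_injective ?_)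
    rw [← hy, h1]
    simp [elt, W_zero, a3_zero]
  have hLo : orderOf L = 2 := horder L (⟨1, 0, 0, 0, 0, 0, 0, 0, 0⟩, ⟨0, 0, 0⟩)
    (by simp [L, elt, repL, W, a3_zero, goodD4.xG_zero])
    (fun h => one_ne_zero (α := K) (congrArg (fun p => p.1.b) h))
    (by rw [elt_mul, show (1 : GL chevD4.Idx K) = elt (V9.zero, ⟨0, 0, 0⟩) by simp [elt, W_zero, a3_zero]]
        congr 1
        refine Prod.ext ?_ ?_ <;> ext <;>
          simp [V9.mul, V9.conj, V9.zero, T3.add, CharTwo.add_self_eq_zero])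
  have hSo : orderOf S = 2 := horder S (V9.zero, ⟨1, 1, 1⟩)
    (by simp [S, elt, repS, W_zero])
    (fun h => one_ne_zero (α := K) (congrArg (fun p => p.2.t0) h))
    (by rw [elt_mul, show (1 : GL chevD4.Idx K) = elt (V9.zero, ⟨0, 0, 0⟩) by simp [elt, W_zero, a3_zero]]
        congr 1
        refine Prod.ext ?_ ?_ <;> ext <;>
          simp [V9.mul, V9.conj, V9.zero, T3.add, CharTwo.add_self_eq_zero])
  have hne : ConjClasses.mk L ≠ ConjClasses.mk S := by
    intro h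
    obtain ⟨g, hg⟩ := isConj_iff.1 (ConjClasses.mk_eq_mk_iff_isConj.1 h)
    exact not_rel_reps (K := K) hq hK ⟨g, g.2, congrArg Subtype.val hg⟩
  rw [show ConjClasses.mk '' {g : ↥(twistedD4 K q) | orderOf g = 2} = {ConjClasses.mk L, ConjClasses.mk S}
    from ?_, Set.ncard_pair hne]
  refine Set.Subset.antisymm ?_ (Set.insert_subset_iff.2
    ⟨⟨L, hLo, rfl⟩, Set.singleton_subset_iff.2 ⟨S, hSo, rfl⟩⟩)
  rintro - ⟨x, hx, rfl⟩
  obtain ⟨p, hp, hrel⟩ := exists_inv_coords hq hK x hx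
  rcases done_all hq hK hp with h | h
  · obtain ⟨g, hg, he⟩ := hrel.trans h
    exact Or.inl (ConjClasses.mk_eq_mk_iff_isConj.2 (isConj_iff.2 ⟨⟨g, hg⟩, Subtype.ext he⟩))
  · obtain ⟨g, hg, he⟩ := hrel.trans h
    exact Or.inr (ConjClasses.mk_eq_mk_iff_isConj.2 (isConj_iff.2 ⟨⟨g, hg⟩, Subtype.ext he⟩))

end

end CfsgLib.Chev.Triality
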