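import Mathlib
import Cfsg.Agent.Lib.Chev.Good

/-!
The exponents of the roots of D4 at a generator of the torus of order (q³ − 1)(q + 1) of ³D₄(q).
-/

set_option autoImplicit false
set_option maxHeartbeats 800000
set_option maxRecDepth 100000
set_option linter.unusedSimpArgs false

namespace CfsgLib.Chev.TriTorus

open Cfsg.Lie

/-- The coefficients of the sorted exponents. -/
def sortedTab : List (List ℤ) :=
  [[1, 0, -1, 0, 1, -2],
   [1, -1, -1, 1, -1, -1],
   [0, -1, 0, -1, 0, -1],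
   [0, 1, -2, 1, 0, -1],
   [2, -1, 0, 1, 0, -1],
   [-1, 1, -1, -1, 1, -1],
   [1, -1, 1, -1, 1, -1],
   [1, 1, -1, 1, 1, -1],
   [0, 1, 0, -1, 2, -1],
   [-1, 0, -1, 0, -1, 0],
   [1, -2, 1, 0, -1, 0],
   [1, 0, -1, 2, -1, 0],
   [-1, 0, 1, -2, 1, 0],
   [-1, 2, -1, 0, 1, 0],
   [1, 0, 1, 0, 1, 0],
   [0, -1, 0, 1, -2, 1],
   [-1, -1, 1, -1, -1, 1],
   [-1, 1, -1, 1, -1, 1],
   [1, -1, 1, 1, -1, 1],
   [-2, 1, 0, -1, 0, 1],
   [0, -1, 2, -1, 0, 1],
   [0, 1, 0, 1, 0, 1],
   [-1, 1, 1, -1, 1, 1],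
   [-1, 0, 1, 0, -1, 2]]

/-- The place of each root in the sorted list. -/
def rankTab : List ℕ :=
  [9, 2, 16, 5, 19, 12, 1, 15, 3, 17, 10, 0, 23, 13, 6, 20, 8, 22, 11, 4, 18, 7, 21, 14]

/-- The coefficients of the exponents of the four coordinates. -/
def coordTab : List (List ℤ) :=
  [[1, 0, 0, 1, 0, 0], [1, 0, 1, 0, 1, 0], [0, 1, 0, 0, 1, 0], [0, 0, 1, 0, 0, 1]]

/-- The exponent of a root as a combination of powers of `q`. -/
def expoCoef (r : ℕ) (k : ℕ) : ℤ :=
  ((List.range 4).map fun i => (coordTab.getD i []).getD k 0 * chevD4.cartan i r).sum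

/-- The exponents of the coordinates. -/
def coordExp (q : ℤ) : ℕ → ℤ
  | 0 => q ^ 3 + 1
  | 1 => q ^ 4 + q ^ 2 + 1
  | 2 => q ^ 4 + q
  | _ => q ^ 5 + q ^ 2

/-- The exponent of a root. -/
def expo (q : ℤ) (r : ℕ) : ℤ :=
  coordExp q 0 * chevD4.cartan 0 r + coordExp q 1 * chevD4.cartan 1 r +
    coordExp q 2 * chevD4.cartan 2 r + coordExp q 3 * chevD4.cartan 3 r

/-- The value of a polynomial given by its coefficients. -/
def evalP (q : ℤ) (l : List ℤ) : ℤ := l.foldr (fun c acc => c + q * acc) 0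

lemma coef_eq : ∀ r : Fin 24, ∀ k : Fin 6,
    expoCoef r.val k.val = (sortedTab.getD (rankTab.getD r.val 0) []).getD k.val 0 ∧
      (sortedTab.getD (rankTab.getD r.val 0) []).length = 6 := by
  decide +kernel

lemma evalP_six (q : ℤ) (l : List ℤ) (h : l.length = 6) :
    evalP q l = l.getD 0 0 + l.getD 1 0 * q + l.getD 2 0 * q ^ 2 + l.getD 3 0 * q ^ 3 +
      l.getD 4 0 * q ^ 4 + l.getD 5 0 * q ^ 5 := by
  match l, h with
  | [a, b, c, d, e, f], _ => simp [evalP]; ring

lemma expo_eq (q : ℤ) (r : Fin 24) :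
    expo q r.val = evalP q (sortedTab.getD (rankTab.getD r.val 0) []) := by
  rw [evalP_six q _ (coef_eq r 0).2]
  have h := fun k : Fin 6 => (coef_eq r k).1
  have e : ∀ k : Fin 6, (sortedTab.getD (rankTab.getD r.val 0) []).getD k.val 0 = expoCoef r.val k.val :=
    fun k => (h k).symm
  simp only [show (sortedTab.getD (rankTab.getD r.val 0) []).getD 0 0 = _ from e 0,
    show (sortedTab.getD (rankTab.getD r.val 0) []).getD 1 0 = _ from e 1,
    show (sortedTab.getD (rankTab.getD r.val 0) []).getD 2 0 = _ from e 2,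
    show (sortedTab.getD (rankTab.getD r.val 0) []).getD 3 0 = _ from e 3,
    show (sortedTab.getD (rankTab.getD r.val 0) []).getD 4 0 = _ from e 4,
    show (sortedTab.getD (rankTab.getD r.val 0) []).getD 5 0 = _ from e 5]
  simp [expoCoef, coordTab, expo, coordExp, List.range_succ]
  ring

lemma rank_facts : (∀ r : Fin 24, rankTab.getD r.val 0 < 24) ∧
    ∀ r s : Fin 24, rankTab.getD r.val 0 = rankTab.getD s.val 0 → r = s := by
  decide +kernel

lemma sorted_step {q : ℤ} (hq : 5 ≤ q) (k : Fin 23) :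
    evalP q (sortedTab.getD k.val []) < evalP q (sortedTab.getD (k.val + 1) []) := by
  obtain ⟨m, hm, rfl⟩ : ∃ m : ℤ, 0 ≤ m ∧ q = m + 5 := ⟨q - 5, by omega, by ring⟩
  have h2 : 0 ≤ m ^ 2 := by positivity
  have h3 : 0 ≤ m ^ 3 := by positivity
  have h4 : 0 ≤ m ^ 4 := by positivity
  have h5 : 0 ≤ m ^ 5 := by positivity
  fin_cases k <;> simp [sortedTab, evalP] <;> ring_nf <;> linarith

lemma sorted_mono {q : ℤ} (hq : 5 ≤ q) : ∀ j k : ℕ, j < k → k < 24 →
    evalP q (sortedTab.getD j []) < evalP q (sortedTab.getD k []) := by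
  intro j k hjk
  induction k, hjk using Nat.le_induction with
  | base => exact fun h => sorted_step hq ⟨j, by omega⟩
  | succ k hk ih => exact fun h => (ih (by omega)).trans (sorted_step hq ⟨k, by omega⟩)

/-- The exponents are distinct and nonzero modulo q⁶ − 1. -/
theorem expo_distinct {q : ℤ} (hq : 3 ≤ q) :
    (∀ r : Fin 24, ¬ (q ^ 6 - 1 ∣ expo q r.val)) ∧
      ∀ r s : Fin 24, q ^ 6 - 1 ∣ expo q r.val - expo q s.val → r = s := by
  rcases (show q = 3 ∨ q = 4 ∨ 5 ≤ q by omega) with rfl | rfl | h5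
  · decide +kernel
  · decide +kernel
  obtain ⟨hr24, hrinj⟩ := rank_facts
  have hlo : ∀ k, k < 24 → evalP q (sortedTab.getD 0 []) ≤ evalP q (sortedTab.getD k []) := fun k hk => by
    rcases Nat.eq_zero_or_pos k with rfl | h
    · exact le_rfl
    · exact (sorted_mono h5 0 k h hk).le
  have hhi : ∀ k, k < 24 → evalP q (sortedTab.getD k []) ≤ evalP q (sortedTab.getD 23 []) := fun k hk => by
    rcases (show k = 23 ∨ k < 23 by omega) with rfl | h
    · exact le_rfl
    · exact (sorted_mono h5 k 23 h (by omega)).le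
  have hb : evalP q (sortedTab.getD 23 []) = -evalP q (sortedTab.getD 0 []) ∧
      2 * evalP q (sortedTab.getD 23 []) < q ^ 6 - 1 ∧
      evalP q (sortedTab.getD 11 []) < 0 ∧ 0 < evalP q (sortedTab.getD 12 []) := by
    obtain ⟨m, hm, rfl⟩ : ∃ m : ℤ, 0 ≤ m ∧ q = m + 5 := ⟨q - 5, by omega, by ring⟩
    have h2 : 0 ≤ m ^ 2 := by positivity
    have h3 : 0 ≤ m ^ 3 := by positivity
    have h4 : 0 ≤ m ^ 4 := by positivity
    have h5 : 0 ≤ m ^ 5 := by positivity
    have h6 : 0 ≤ m ^ 6 := by positivity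
    refine ⟨?_, ?_, ?_, ?_⟩ <;> simp [sortedTab, evalP] <;> ring_nf <;> linarith
  obtain ⟨he, hw, h11, h12⟩ := hb
  constructor
  · intro r hd
    have h0 : expo q r.val = 0 := Int.eq_zero_of_abs_lt_dvd hd (by
      rw [expo_eq, abs_lt]
      have := hlo _ (hr24 r)
      have := hhi _ (hr24 r)
      constructor <;> linarith)
    rw [expo_eq] at h0
    rcases (show rankTab.getD r.val 0 ≤ 11 ∨ 12 ≤ rankTab.getD r.val 0 by omega) with h | h
    · rcases h.eq_or_lt with h | h
      · rw [h] at h0; linarith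
      · linarith [sorted_mono h5 _ 11 h (by omega)]
    · rcases h.eq_or_lt with h | h
      · rw [← h] at h0; linarith
      · linarith [sorted_mono h5 12 _ h (hr24 r)]
  · intro r s hd
    have h0 : expo q r.val - expo q s.val = 0 := Int.eq_zero_of_abs_lt_dvd hd (by
      rw [expo_eq, expo_eq, abs_lt]
      have := hlo _ (hr24 r)
      have := hhi _ (hr24 r)
      have := hlo _ (hr24 s)
      have := hhi _ (hr24 s)
      constructor <;> linarith)
    rw [expo_eq, expo_eq, sub_eq_zero] at h0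
    refine hrinj r s ?_
    rcases lt_trichotomy (rankTab.getD r.val 0) (rankTab.getD s.val 0) with h | h | h
    · linarith [sorted_mono h5 _ _ h (hr24 s)]
    · exact h
    · linarith [sorted_mono h5 _ _ h (hr24 r)]

/-- The exponents for `q = 2`: the roots sharing a value. -/
theorem expo_two : (∀ r : Fin 24, ¬ ((63 : ℤ) ∣ expo 2 r.val)) ∧
    ∀ r s : Fin 24, (63 : ℤ) ∣ expo 2 r.val - expo 2 s.val →
      r = s ∨ (r.val ∈ [0, 14, 22] ∧ s.val ∈ [0, 14, 22]) ∨ (r.val ∈ [1, 9, 23] ∧ s.val ∈ [1, 9, 23]) := by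
  decide +kernel

end CfsgLib.Chev.TriTorus
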