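import Mathlib
import Cfsg.Agent.Lib.Chev.TwistD4
import Cfsg.Agent.Lib.Chev.TwistH
import Cfsg.Agent.Lib.Chev.TwistEDProps
import Cfsg.Agent.Lib.Chev.TorusChar
import Cfsg.Agent.Lib.Chev.TrialityTorusExp
import Cfsg.Agent.Lib.Chev.G2Torus

/-!
The self-centralising cyclic torus of order (q³ − 1)(q + 1) in ³D₄(q).
-/

set_option autoImplicit false
set_option maxHeartbeats 1600000
set_option maxRecDepth 100000
set_option linter.unusedSimpArgs false

namespace CfsgLib.Chev.TriTorus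

open Cfsg.Lie Matrix

/-- The commutator formula. -/
lemma hcD4 : HasComm chevD4 := hasComm_of_mem (by simp)

/-- The data of the triality at the fundamental roots. -/
lemma rho_vals : ([5, 9, 10, 11, 12, 13, 14, 18].map fun r => nth 0 rhoD4.ρ r) = [10, 9, 11, 5, 18, 12, 14, 13] ∧
    ([5, 9, 10, 11, 12, 13, 14, 18].map fun r => nth 1 rhoD4Sign r) = [1, 1, 1, 1, 1, 1, 1, 1] := by
  decide +kernel

/-- Pairs of commuting roots. -/
lemma comm_pairs : ∀ p ∈ [(18, 13), (18, 12), (5, 10), (5, 11), (18, 22), (18, 0), (5, 14)],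
    p.1 < chevD4.nroots ∧ p.2 < chevD4.nroots ∧ p.2 ≠ p.1 ∧ p.2 ≠ chevD4.neg p.1 ∧
      chevD4.commTerms p.1 p.2 = [] := by
  decide +kernel

/-- The tables used below. -/
lemma tables : (chevD4.simple 0 = 18 ∧ chevD4.simple 1 = 14 ∧ chevD4.simple 2 = 13 ∧ chevD4.simple 3 = 12) ∧
    (chevD4.neg 18 = 5 ∧ chevD4.neg 14 = 9) ∧ chevD4.reflectRoot 0 14 = 19 ∧
    ([18, 14, 13, 12].map fun r => chevD4.reflectRoot 1 r) = [19, 9, 16, 15] ∧
    (∀ i : Fin 4, chevD4.cartan i 19 = chevD4.cartan i 18 + chevD4.cartan i 14 ∧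
      chevD4.cartan i 16 = chevD4.cartan i 13 + chevD4.cartan i 14 ∧
      chevD4.cartan i 15 = chevD4.cartan i 12 + chevD4.cartan i 14 ∧
      chevD4.cartan i 9 + chevD4.cartan i 14 = 0) ∧
    (chevD4.cartan 0 14 = -1 ∧ chevD4.cartan 1 14 = 2 ∧ chevD4.cartan 2 14 = -1 ∧ chevD4.cartan 3 14 = -1) ∧
    ([0, 1, 2, 3].map fun i => nth 0 rhoD4.pi i) = [2, 1, 3, 0] := by
  decide +kernel

lemma commute_pair {F : Type*} [Field F] {r s : ℕ}
    (h : (r, s) ∈ [(18, 13), (18, 12), (5, 10), (5, 11), (18, 22), (18, 0), (5, 14)]) (t u : F) :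
    Commute (goodD4.xG r t) (goodD4.xG s u) := by
  obtain ⟨h1, h2, h3, h4, h5⟩ := comm_pairs _ h
  refine goodD4.xG_commute hcD4 h1 h2 h3 h4 ?_ t u
  rw [goodD4.fterms_eq h1 h2]
  exact h5

lemma xG_inj {F : Type*} [Field F] {r : ℕ} (hr : r < chevD4.nroots) {a b : F}
    (h : goodD4.xG r a = goodD4.xG r b) : a = b := by
  have h' := congrArg (fun z => z * (goodD4.xG r b)⁻¹) h
  rw [mul_inv_cancel, goodD4.xG_inv, goodD4.xG_add] at h'
  have := (goodD4.x_eq_one_iff hr _).1 (by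
    have := congrArg Units.val h'
    rwa [goodD4.coe_xG, Units.val_one] at this)
  linear_combination this

/-- Conjugating SL₂ by the diagonal matrix `(N, 1)`. -/
def diagConj {L : Type*} [Field L] (N : Lˣ) :
    Matrix.SpecialLinearGroup (Fin 2) L →* Matrix.SpecialLinearGroup (Fin 2) L :=
  MonoidHom.mk' (fun M => ⟨!![M.1 0 0, (N : L) * M.1 0 1; ((N⁻¹ : Lˣ) : L) * M.1 1 0, M.1 1 1], by
      have h := M.2
      rw [Matrix.det_fin_two] at h
      rw [Matrix.det_fin_two]
      simp only [Matrix.of_apply, Matrix.cons_val', Matrix.cons_val_zero, Matrix.cons_val_one,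
        Matrix.empty_val', Matrix.cons_val_fin_one]
      linear_combination h - M.1 0 1 * M.1 1 0 * N.mul_inv⟩)
    fun M M' => Subtype.ext (by
      show (!![(M.1 * M'.1) 0 0, (N : L) * (M.1 * M'.1) 0 1;
          ((N⁻¹ : Lˣ) : L) * (M.1 * M'.1) 1 0, (M.1 * M'.1) 1 1] : Matrix (Fin 2) (Fin 2) L) =
        !![M.1 0 0, (N : L) * M.1 0 1; ((N⁻¹ : Lˣ) : L) * M.1 1 0, M.1 1 1] *
          !![M'.1 0 0, (N : L) * M'.1 0 1; ((N⁻¹ : Lˣ) : L) * M'.1 1 0, M'.1 1 1]
      ext i j
      fin_cases i <;> fin_cases j <;>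
        simp [Matrix.mul_apply, Fin.sum_univ_two] <;> field_simp)

lemma diagConj_val {L : Type*} [Field L] (N : Lˣ) (M : Matrix.SpecialLinearGroup (Fin 2) L) :
    (diagConj N M).1 = !![M.1 0 0, (N : L) * M.1 0 1; ((N⁻¹ : Lˣ) : L) * M.1 1 0, M.1 1 1] := rfl

/-- The eigenvector matrix has determinant one. -/
lemma det_eigen {L : Type*} [Field L] {b c : L} (h : c - b ≠ 0) :
    (!![(c - b)⁻¹, b * (c - b)⁻¹; 1, c] : Matrix (Fin 2) (Fin 2) L).det = 1 := by
  rw [Matrix.det_fin_two_of]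
  field_simp

/-- The eigenvector identity. -/
lemma eigen_mul {L : Type*} [Field L] {b c : L} (hb : b ≠ 0) (hc : c ≠ 0) (h : c - b ≠ 0) :
    !![(c - b)⁻¹, b * (c - b)⁻¹; 1, c] * (slU (-(c * b))).1 * (slL (c * b)⁻¹).1 * (slU (-(c * b))).1 *
        (slU (c * b * (b + c))).1 =
      !![b * (c * b)⁻¹, 0; 0, (b * (c * b)⁻¹)⁻¹] *
        !![(c - b)⁻¹, c * b * (b * (c - b)⁻¹); (c * b)⁻¹ * 1, c] := by
  ext i j
  fin_cases i <;> fin_cases j <;> simp [slU, slL, Matrix.mul_apply, Fin.sum_univ_two] <;> field_simp <;> ring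

/-- The image of the eigenvector matrix under the Frobenius. -/
lemma eigen_swap {L : Type*} [Field L] {b c : L} (h : c - b ≠ 0) :
    (!![(-(c - b))⁻¹, c * (-(c - b))⁻¹; 1, b] : Matrix (Fin 2) (Fin 2) L) =
      !![-(c - b)⁻¹, 0; 0, (-(c - b)⁻¹)⁻¹] * !![0, 1; -1, 0] * !![(c - b)⁻¹, b * (c - b)⁻¹; 1, c] := by
  have h' : b - c ≠ 0 := fun e => h (by linear_combination -e)
  ext i j
  fin_cases i <;> fin_cases j <;> simp [Matrix.mul_apply, Fin.sum_univ_two] <;> field_simp <;> ring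

/-- The product used for the middle coordinate. -/
lemma mid_val {L : Type*} [Field L] {a x y : L} (ha : a ≠ 0) (hx : x ≠ 0) (hy : y ≠ 0) :
    a⁻¹ * (a * x * y) ^ 2 * x⁻¹ * y⁻¹ = a * x * y := by
  field_simp

variable {K : Type*} [Field K] [Fintype K] {q : ℕ}

/-- The elements of ³D₄(q), read over a larger field, are fixed by the twist. -/
theorem fixed_of_twisted (hK : Fintype.card K = q ^ 3) {L : Type*} [Field L] (ι : K →+* L)
    (φ : L →+* L) (hφ : ∀ x, φ x = x ^ q) (T : Twist goodD4 L)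
    (hρ : T.ρ = (rootSymOf goodD4 checksD4 structChecksD4 rhoD4_ok).ρ)
    (hf : ∀ s t, T.f s t = (nth 1 rhoD4Sign s : L) * φ t)
    {x : GL chevD4.Idx K} (hx : x ∈ twistedD4 K q) :
    scalarGL chevD4 ι x ∈ T.fixed := by
  have hρv := rho_vals
  simp only [List.map_cons, List.map_nil, List.cons.injEq, and_true] at hρv
  obtain ⟨⟨r5, r9, r10, r11, r12, r13, r14, r18⟩, e5, e9, e10, e11, e12, e13, e14, e18⟩ := hρv
  have hs : ∀ r r' : ℕ, ∀ hr : r < chevD4.nroots, nth 0 rhoD4.ρ r = r' → nth 1 rhoD4Sign r = 1 → ∀ t : L,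
      (T.σ ⟨goodD4.xG r t, goodD4.xG_mem_group hr t⟩ : GL chevD4.Idx L) =
        goodD4.xG r' (t ^ q) := by
    intro r r' hr he hε t
    rw [T.σ_xG hr, hρ, hf, hε, Int.cast_one, one_mul, hφ]
    subst he
    rfl
  have hq3 : ∀ t : K, ((t ^ q) ^ q) ^ q = t := fun t => by
    rw [← pow_mul, ← pow_mul, show q * (q * q) = q ^ 3 by ring, ← hK, FiniteField.pow_card]
  have hone : ∀ (r : ℕ), r < chevD4.nroots → nth 0 rhoD4.ρ r = r → nth 1 rhoD4Sign r = 1 → ∀ t : K,
      t ^ q = t → scalarGL chevD4 ι (goodD4.xG r t) ∈ T.fixed := by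
    intro r hr he hε t ht
    rw [goodD4.scalarGL_xG ι hr]
    refine ⟨⟨goodD4.xG r (ι t), goodD4.xG_mem_group hr _⟩, Subtype.ext ?_, rfl⟩
    rw [hs r r hr he hε, ← map_pow, ht]
    rfl
  have hthree : ∀ (a b c : ℕ), a < chevD4.nroots → b < chevD4.nroots → c < chevD4.nroots →
      nth 0 rhoD4.ρ a = b → nth 0 rhoD4.ρ b = c → nth 0 rhoD4.ρ c = a →
      nth 1 rhoD4Sign a = 1 → nth 1 rhoD4Sign b = 1 → nth 1 rhoD4Sign c = 1 →
      (∀ t u : L, Commute (goodD4.xG a t) (goodD4.xG b u)) →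
      (∀ t u : L, Commute (goodD4.xG a t) (goodD4.xG c u)) → ∀ t : K,
      scalarGL chevD4 ι (goodD4.xG a t * (goodD4.xG b (t ^ q) * goodD4.xG c (t ^ q ^ 2))) ∈ T.fixed := by
    intro a b c ha hb hc ea eb ec sa sb sc hab hac t
    rw [map_mul, map_mul, goodD4.scalarGL_xG ι ha, goodD4.scalarGL_xG ι hb, goodD4.scalarGL_xG ι hc]
    refine ⟨⟨goodD4.xG a (ι t), goodD4.xG_mem_group ha _⟩ *
      (⟨goodD4.xG b (ι (t ^ q)), goodD4.xG_mem_group hb _⟩ *
        ⟨goodD4.xG c (ι (t ^ q ^ 2)), goodD4.xG_mem_group hc _⟩), Subtype.ext ?_, rfl⟩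
    rw [map_mul, map_mul, Subgroup.coe_mul, Subgroup.coe_mul, hs a b ha ea sa, hs b c hb eb sb,
      hs c a hc ec sc, ← map_pow, ← map_pow, ← map_pow]
    show _ = goodD4.xG a (ι t) * (goodD4.xG b (ι (t ^ q)) * goodD4.xG c (ι (t ^ q ^ 2)))
    rw [sq, pow_mul, hq3 t, ((hab _ _).mul_right (hac _ _)).eq, mul_assoc]
  have h : twistedD4 K q ≤ T.fixed.comap (scalarGL chevD4 ι) := by
    refine (Subgroup.closure_le _).2 ?_
    rintro g ⟨w, hw, hg⟩
    have e : ∀ w : List (ℕ × K), (((w.map fun p => goodD4.xG p.1 p.2).prod : GL chevD4.Idx K) :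
        Matrix chevD4.Idx chevD4.Idx K) = chevD4.wordMat K w := by
      intro w
      induction w with
      | nil => rfl
      | cons p w ih =>
        rw [List.map_cons, List.prod_cons, Units.val_mul, ih, goodD4.coe_xG]
        rfl
    obtain rfl : g = (w.map fun p => goodD4.xG p.1 p.2).prod := Units.ext (hg.trans (e w).symm)
    show scalarGL chevD4 ι _ ∈ T.fixed
    rcases hw with ⟨t, ht, r, hr, rfl⟩ | ⟨t, rs, hrs, rfl⟩
    · simp only [List.map_cons, List.map_nil, List.prod_cons, List.prod_nil, mul_one]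
      simp only [List.mem_cons, List.not_mem_nil, or_false, d4p2, d4m2] at hr
      rcases hr with rfl | rfl
      · exact hone 14 (by decide) r14 e14 t ht
      · exact hone 9 (by decide) r9 e9 t ht
    · simp only [List.map_cons, List.map_nil, List.prod_cons, List.prod_nil, mul_one]
      simp only [List.mem_cons, List.not_mem_nil, or_false, d4p1, d4p3, d4p4, d4m1, d4m3, d4m4] at hrs
      rcases hrs with rfl | rfl
      · exact hthree 18 13 12 (by decide) (by decide) (by decide) r18 r13 r12 e18 e13 e12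
          (commute_pair (by simp)) (commute_pair (by simp)) t
      · exact hthree 5 10 11 (by decide) (by decide) (by decide) r5 r10 r11 e5 e10 e11
          (commute_pair (by simp)) (commute_pair (by simp)) t
  exact h hx

/-- The conditions on the root values at the fundamental roots. -/
theorem root_relations {L : Type*} [Field L] (φ : L →+* L) (hφ : ∀ x, φ x = x ^ q)
    (T : Twist goodD4 L) (hρ : T.ρ = (rootSymOf goodD4 checksD4 structChecksD4 rhoD4_ok).ρ)
    (hf : ∀ s t, T.f s t = (nth 1 rhoD4Sign s : L) * φ t)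
    (n : GL chevD4.Idx L) (hn : goodD4.Acts n (goodD4.rperm ⟨1, by decide⟩))
    {c : Fin chevD4.rank → Lˣ} (hmem : torHom chevD4 L c ∈ chevD4.group L)
    (hσ : (T.σ ⟨torHom chevD4 L c, hmem⟩ : GL chevD4.Idx L) = n * torHom chevD4 L c * n⁻¹) :
    rootVal c 18 ^ q = rootVal c 13 * rootVal c 14 ∧ rootVal c 13 ^ q = rootVal c 12 * rootVal c 14 ∧
      rootVal c 12 ^ q = rootVal c 18 * rootVal c 14 ∧ rootVal c 14 ^ q * rootVal c 14 = 1 := by
  have hρv := rho_vals
  simp only [List.map_cons, List.map_nil, List.cons.injEq, and_true] at hρv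
  obtain ⟨⟨-, -, -, -, r12, r13, r14, r18⟩, -, -, -, -, e12, e13, e14, e18⟩ := hρv
  obtain ⟨-, -, -, hrefl, hadd, -, -⟩ := tables
  simp only [List.map_cons, List.map_nil, List.cons.injEq, and_true] at hrefl
  obtain ⟨p18, p14, p13, p12⟩ := hrefl
  have hd : (T.σ ⟨torHom chevD4 L c, hmem⟩ : GL chevD4.Idx L) ∈ chevD4.diagonalSubgroup L :=
    T.σ_diag (x := ⟨_, hmem⟩) (goodD4.torHom_mem c)
  rw [goodD4.diagonal_eq_range] at hd
  obtain ⟨c', hc'⟩ := hd
  have hfrob : ∀ r r' : ℕ, r < chevD4.nroots → r' < chevD4.nroots → nth 0 rhoD4.ρ r = r' →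
      nth 1 rhoD4Sign r = 1 → rootVal c r ^ q = rootVal c' r' := by
    intro r r' hr hr' he hε
    have e0 : ∀ t : L, (T.σ ⟨goodD4.xG r t, goodD4.xG_mem_group hr t⟩ : GL chevD4.Idx L) =
        goodD4.xG r' (t ^ q) := by
      intro t
      rw [T.σ_xG hr, hρ, hf, hε, Int.cast_one, one_mul, hφ]
      subst he
      rfl
    have h1 : (⟨goodD4.xG r ((rootVal c r : L) * 1), goodD4.xG_mem_group hr _⟩ : ↥(chevD4.group L)) =
        ⟨torHom chevD4 L c, hmem⟩ * ⟨goodD4.xG r (1 : L), goodD4.xG_mem_group hr _⟩ *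
          ⟨torHom chevD4 L c, hmem⟩⁻¹ := Subtype.ext (goodD4.conj_rootVal c hr 1).symm
    have h2 := congrArg (fun z => ((T.σ z : ↥(chevD4.group L)) : GL chevD4.Idx L)) h1
    simp only [map_mul, map_inv, Subgroup.coe_mul, Subgroup.coe_inv] at h2
    rw [e0, e0, ← hc', goodD4.conj_rootVal c' hr', one_pow, mul_one, mul_one] at h2
    exact Units.ext (by rw [Units.val_pow_eq_pow_val]; exact xG_inj hr' h2)
  have he : n * torHom chevD4 L c * n⁻¹ = torHom chevD4 L c' := hσ.symm.trans hc'.symm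
  have hconj : ∀ r r' : ℕ, ∀ hr : r < chevD4.nroots, chevD4.reflectRoot 1 r = r' →
      rootVal c' r = rootVal c r' := by
    intro r r' hr hrr
    have h := goodD4.rootVal_conj hn he (goodD4.rperm ⟨1, by decide⟩ ⟨r, hr⟩)
    rw [goodD4.rperm_rperm] at h
    rw [← hrr]
    exact h
  have hsum : ∀ a r s : ℕ, (∀ i : Fin 4, chevD4.cartan i a = chevD4.cartan i r + chevD4.cartan i s) →
      rootVal c a = rootVal c r * rootVal c s := by
    intro a r s h
    simp only [rootVal, ← Finset.prod_mul_distrib]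
    exact Finset.prod_congr rfl fun i _ => by rw [h i, _root_.zpow_add]
  refine ⟨?_, ?_, ?_, ?_⟩
  · rw [hfrob 18 13 (by decide) (by decide) r18 e18, hconj 13 16 (by decide) p13,
      hsum 16 13 14 fun i => (hadd i).2.1]
  · rw [hfrob 13 12 (by decide) (by decide) r13 e13, hconj 12 15 (by decide) p12,
      hsum 15 12 14 fun i => (hadd i).2.2.1]
  · rw [hfrob 12 18 (by decide) (by decide) r12 e12, hconj 18 19 (by decide) p18,
      hsum 19 18 14 fun i => (hadd i).1]
  · rw [hfrob 14 14 (by decide) (by decide) r14 e14, hconj 14 9 (by decide) p14]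
    simp only [rootVal, ← Finset.prod_mul_distrib, ← _root_.zpow_add]
    exact Finset.prod_eq_one fun i _ => by rw [(hadd i).2.2.2, zpow_zero]

/-- At most (q + 1)(q³ − 1) pairs satisfy the two conditions. -/
lemma card_pairs {G : Type*} [CommGroup G] [IsCyclic G] [Fintype G] [DecidableEq G] (hq : 2 ≤ q) :
    (Finset.univ.filter fun u : G × G =>
      u.1 ^ (q + 1) = 1 ∧ u.2 ^ q ^ 3 = u.2 * u.1 ^ (q ^ 2 + q + 1)).card ≤ (q ^ 3 - 1) * (q + 1) := by
  set S := Finset.univ.filter fun u : G × G =>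
      u.1 ^ (q + 1) = 1 ∧ u.2 ^ q ^ 3 = u.2 * u.1 ^ (q ^ 2 + q + 1) with hS
  have hq3 : 1 < q ^ 3 := Nat.one_lt_pow (by norm_num) (by omega)
  refine (Finset.card_le_mul_card_image (f := Prod.fst) S (q ^ 3 - 1) fun b _ => ?_).trans
    (Nat.mul_le_mul_left _ ?_)
  · rcases Finset.eq_empty_or_nonempty (S.filter fun u => u.1 = b) with h | ⟨v, hv⟩
    · rw [h]; simp
    · refine le_trans (Finset.card_le_card_of_injOn (fun u => u.2 / v.2) ?_ ?_)
        (IsCyclic.card_pow_eq_one_le (α := G) (by omega : 0 < q ^ 3 - 1))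
      · intro u hu
        simp only [hS, Finset.coe_filter, Finset.mem_filter, Finset.mem_univ, true_and,
          Set.mem_setOf_eq] at hu hv ⊢
        obtain ⟨⟨-, hu2⟩, hu1⟩ := hu
        obtain ⟨⟨-, hv2⟩, hv1⟩ := hv
        have h1 : (u.2 / v.2) ^ q ^ 3 = u.2 / v.2 := by rw [div_pow, hu2, hv2, hu1, hv1, mul_div_mul_right_eq_div]
        have h2 : (u.2 / v.2) ^ (q ^ 3 - 1 + 1) = u.2 / v.2 := by rwa [Nat.sub_add_cancel hq3.le]
        rw [pow_succ] at h2
        simpa using mul_eq_right.1 h2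
      · intro u hu w hw h
        simp only [Finset.coe_filter, Set.mem_setOf_eq] at hu hw
        exact Prod.ext (hu.2.trans hw.2.symm) (div_left_injective h)
  · refine (Finset.card_le_card fun b hb => ?_).trans (IsCyclic.card_pow_eq_one_le (α := G) (Nat.succ_pos q))
    obtain ⟨u, hu, rfl⟩ := Finset.mem_image.1 hb
    simp only [hS, Finset.mem_filter, Finset.mem_univ, true_and] at hu ⊢
    exact hu.1

/-- The order of the torus element. -/
lemma dvd_of_combination {q k : ℤ} (h1 : (q ^ 3 - 1) * (q + 1) ∣ k * (q ^ 2 - q - 1))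
    (h2 : (q ^ 3 - 1) * (q + 1) ∣ k * (q ^ 3 - 1)) : (q ^ 3 - 1) * (q + 1) ∣ k := by
  obtain ⟨m, hm⟩ : ∃ m, q * (q - 1) = 2 * m := by
    obtain ⟨j, hj⟩ := Int.even_mul_pred_self q
    exact ⟨j, by linear_combination hj⟩
  have h3 : (q ^ 3 - 1) * (q + 1) ∣ 2 * q * k := by
    have := dvd_sub h2 (h1.mul_left (q + 1))
    rwa [show k * (q ^ 3 - 1) - (q + 1) * (k * (q ^ 2 - q - 1)) = 2 * q * k by ring] at this
  have h4 : (q ^ 3 - 1) * (q + 1) ∣ q * k := by
    have := dvd_sub (h3.mul_left m) (h1.mul_left q)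
    rwa [show m * (2 * q * k) - q * (k * (q ^ 2 - q - 1)) = q * k by linear_combination (-(q * k)) * hm] at this
  have := dvd_sub (h4.mul_left (q - 1)) h1
  rwa [show (q - 1) * (q * k) - k * (q ^ 2 - q - 1) = k by ring] at this

/-- The torus. -/
theorem exists_torus (K : Type*) [Field K] [Fintype K] (q : ℕ) (hq : IsPrimePow q)
    (hK : Fintype.card K = q ^ 3) :
    ∃ H : Subgroup ↥(twistedD4 K q), IsCyclic ↥H ∧ Nat.card ↥H = (q ^ 3 - 1) * (q + 1) ∧
      Subgroup.centralizer (H : Set ↥(twistedD4 K q)) = H := by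
  classical
  have hq2 : 2 ≤ q := hq.two_le
  set p := ringChar K
  haveI : Fact p.Prime := ⟨CharP.char_is_prime K p⟩
  let L := FiniteField.Extension K p 2
  haveI : Fintype L := Fintype.ofFinite L
  have hL : Fintype.card L = q ^ 6 := by
    rw [← Nat.card_eq_fintype_card, FiniteField.natCard_extension, Nat.card_eq_fintype_card, hK]; ring
  let ι : K →+* L := algebraMap K L
  obtain ⟨φ, hφ⟩ := exists_powMap_ringHom (K := L) hq hL (by norm_num)
  obtain ⟨T, hTρ, -, hTf⟩ := exists_twist_rhoD4 φ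
  obtain ⟨γ, hγ⟩ := IsCyclic.exists_generator (α := Lˣ)
  have hq6 : 1 < q ^ 6 := Nat.one_lt_pow (by norm_num) (by omega)
  have hγo : orderOf γ = q ^ 6 - 1 := by
    rw [orderOf_eq_card_of_forall_mem_zpowers hγ, Nat.card_units, Nat.card_eq_fintype_card, hL]
  set n := (q ^ 3 - 1) * (q + 1) with hn
  have hM : ((q ^ 6 - 1 : ℕ) : ℤ) = (q : ℤ) ^ 6 - 1 := by rw [Nat.cast_sub hq6.le]; push_cast; ring
  have hn' : (n : ℤ) = ((q : ℤ) ^ 3 - 1) * (q + 1) := by
    rw [hn, Nat.cast_mul, Nat.cast_sub (Nat.one_le_pow _ _ (by omega))]; push_cast; ring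
  have hzp : ∀ a : ℤ, γ ^ a = 1 ↔ (q : ℤ) ^ 6 - 1 ∣ a := fun a => by
    rw [← hM, ← hγo, orderOf_dvd_iff_zpow_eq_one]
  have hzz : ∀ a b : ℤ, γ ^ a = γ ^ b ↔ (q : ℤ) ^ 6 - 1 ∣ a - b := fun a b => by
    rw [← hzp, _root_.zpow_sub, mul_inv_eq_one]
  have hzL : ∀ a b : ℕ, (q : ℤ) ^ 6 - 1 ∣ (a : ℤ) - b → (γ : L) ^ a = (γ : L) ^ b := fun a b h => by
    have := (hzz a b).2 h
    rw [zpow_natCast, zpow_natCast] at this
    rw [← Units.val_pow_eq_pow_val, this, Units.val_pow_eq_pow_val]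
  -- the coordinates
  set aL : L := (γ : L) ^ (q ^ 3 + 1) with haL
  set b : L := (γ : L) ^ (q ^ 4 + q ^ 2 + 1) with hb
  obtain ⟨aK, haK⟩ : ∃ a, ι a = aL := G2Torus.fixed_mem ι (by
    rw [hK, haL, ← pow_mul]
    exact hzL _ _ ⟨1, by push_cast; ring⟩)
  have haK0 : aK ≠ 0 := fun h => by
    rw [h, map_zero] at haK
    exact pow_ne_zero _ γ.ne_zero haK.symm
  set aU : Kˣ := Units.mk0 aK haK0 with haU
  let cK : Fin chevD4.rank → Kˣ := fun i =>
    if i.val = 0 then aU else if i.val = 1 then aU * aU ^ q * aU ^ q ^ 2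
      else if i.val = 2 then aU ^ q else aU ^ q ^ 2
  have haq : aK ^ q ^ 3 = aK := by rw [← hK, FiniteField.pow_card]
  obtain ⟨A, hG, hAφ, hAS, -, -⟩ := exists_setupD4 K hq hK
  obtain ⟨⟨s0, s1, s2, s3⟩, ⟨n18, n14⟩, hrefl0, -, -, ⟨a140, a141, a142, a143⟩, hpi⟩ := tables
  simp only [List.map_cons, List.map_nil, List.cons.injEq, and_true] at hpi
  have hτK : torHom chevD4 K cK ∈ twistedD4 K q := by
    rw [← hG]
    refine A.H0_le_G1 hcD4 ⟨cK, A.mem_T0.2 fun i => ?_, rfl⟩
    rw [hAφ, hAS]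
    obtain ⟨i, hi⟩ := i
    obtain rfl | rfl | rfl | rfl : i = 0 ∨ i = 1 ∨ i = 2 ∨ i = 3 := by
      have : i < 4 := hi
      omega
    · show ((cK ⟨nth 0 rhoD4.pi 0, _⟩ : Kˣ) : K) = _
      simp only [hpi.1]
      simp [cK, haU]
    · show ((cK ⟨nth 0 rhoD4.pi 1, _⟩ : Kˣ) : K) = _
      simp only [hpi.2.1]
      simp [cK, haU, mul_pow, ← pow_mul]
      rw [show q ^ 2 * q = q ^ 3 by ring, haq, ← sq]; ring
    · show ((cK ⟨nth 0 rhoD4.pi 2, _⟩ : Kˣ) : K) = _
      simp only [hpi.2.2.1]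
      simp [cK, haU, ← pow_mul, ← sq]
    · show ((cK ⟨nth 0 rhoD4.pi 3, _⟩ : Kˣ) : K) = _
      simp only [hpi.2.2.2]
      simp [cK, haU, ← pow_mul]
      rw [show q ^ 2 * q = q ^ 3 by ring, haq]
  set NK : K := aK * aK ^ q * aK ^ q ^ 2 with hNK
  have hNq : NK ^ q = NK := by
    rw [hNK, mul_pow, mul_pow, ← pow_mul, ← pow_mul, show q ^ 2 * q = q ^ 3 by ring, haq, ← sq]; ring
  have hNι : ι NK = b ^ (q + 1) := by
    rw [hNK, map_mul, map_mul, map_pow, map_pow, haK, haL, hb]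
    simp only [← pow_mul, ← pow_add]
    congr 1; ring
  have hbq2 : (b ^ q) ^ q = b := by
    rw [hb, ← pow_mul, ← pow_mul]
    exact hzL _ _ ⟨1, by push_cast; ring⟩
  have hTb : φ (b + b ^ q) = b + b ^ q := by
    rw [map_add, hφ, hφ, hbq2, add_comm]
  obtain ⟨TK, hTK⟩ : ∃ t, ι t = b + b ^ q := G2Torus.fixed_mem ι (by
    have h : (b + b ^ q) ^ q = b + b ^ q := by rw [← hφ, hTb]
    rw [hK, show q ^ 3 = q * q * q by ring, pow_mul, pow_mul, h, h, h])
  have hTq : TK ^ q = TK := ι.injective (by rw [map_pow, hTK, ← hφ, hTb])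
  have hN0 : NK ≠ 0 := fun h => by
    rw [h, map_zero] at hNι
    exact pow_ne_zero _ (pow_ne_zero _ γ.ne_zero) hNι.symm
  -- the element
  have hgen : ∀ r ∈ [d4p2, d4m2], ∀ t : K, t ^ q = t → goodD4.xG r t ∈ twistedD4 K q := fun r hr t ht =>
    Subgroup.subset_closure ⟨[(r, t)], Or.inl ⟨t, ht, r, hr, rfl⟩, by
      simp [ChevalleyDatum.wordMat, goodD4.coe_xG]⟩
  have hp14 : (14 : ℕ) ∈ [d4p2, d4m2] := by simp [d4p2]
  have hp9 : (9 : ℕ) ∈ [d4p2, d4m2] := by simp [d4m2]
  have hnegq : ∀ t : K, t ^ q = t → (-t) ^ q = -t := fun t ht => by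
    refine ι.injective ?_
    rw [map_pow, map_neg, ← hφ, map_neg, hφ, ← map_pow, ht]
  have haddq : ∀ t u : K, t ^ q = t → u ^ q = u → (t + u) ^ q = t + u := fun t u ht hu => by
    refine ι.injective ?_
    rw [map_pow, map_add, ← hφ, map_add, hφ, hφ, ← map_pow, ← map_pow, ht, hu]
  set h0 : GL chevD4.Idx K := goodD4.xG 14 (-NK) * goodD4.xG 9 NK⁻¹ *
    goodD4.xG 14 (-NK) * goodD4.xG 14 (NK * TK) * torHom chevD4 K cK with hh0
  have hh0m : h0 ∈ twistedD4 K q :=
    mul_mem (mul_mem (mul_mem (mul_mem (hgen 14 hp14 _ (hnegq _ hNq))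
      (hgen 9 hp9 _ (by rw [inv_pow, hNq]))) (hgen 14 hp14 _ (hnegq _ hNq)))
      (hgen 14 hp14 _ (by rw [mul_pow, hNq, hTq]))) hτK
  -- the picture over the larger field
  obtain ⟨φr, hU, hLo, hD⟩ := goodD4.exists_rootHom (F := L) (r := 14) (by decide)
  rw [n14] at hLo
  have hφrmem : ∀ M, φr M ∈ chevD4.group L := by
    intro M
    have : (⊤ : Subgroup (Matrix.SpecialLinearGroup (Fin 2) L)) ≤ (chevD4.group L).comap φr := by
      rw [← closure_slU_slL L, Subgroup.closure_le]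
      rintro x (⟨t, rfl⟩ | ⟨t, rfl⟩)
      · rw [SetLike.mem_coe, Subgroup.mem_comap, hU]; exact goodD4.xG_mem_group (by decide) _
      · rw [SetLike.mem_coe, Subgroup.mem_comap, hLo]; exact goodD4.xG_mem_group (by decide) _
    exact Subgroup.mem_comap.1 (this (Subgroup.mem_top M))
  let φG : Matrix.SpecialLinearGroup (Fin 2) L →* ↥(chevD4.group L) := φr.codRestrict _ hφrmem
  have hσφ : ∀ M, (T.σ (φG M) : GL chevD4.Idx L) = φr (Matrix.SpecialLinearGroup.map φ M) := by
    have hv := rho_vals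
    simp only [List.map_cons, List.map_nil, List.cons.injEq, and_true] at hv
    obtain ⟨⟨-, v9, -, -, -, -, v14, -⟩, -, w9, -, -, -, -, w14, -⟩ := hv
    have hst : ∀ r, ∀ hr : r < chevD4.nroots, nth 0 rhoD4.ρ r = r → nth 1 rhoD4Sign r = 1 → ∀ t : L,
        (T.σ ⟨goodD4.xG r t, goodD4.xG_mem_group hr t⟩ : GL chevD4.Idx L) = goodD4.xG r (φ t) := by
      intro r hr he hε t
      rw [T.σ_xG hr, hTρ, hTf, hε, Int.cast_one, one_mul]
      congr 1
    have e : ((chevD4.group L).subtype.comp T.σ).comp φG = φr.comp (Matrix.SpecialLinearGroup.map φ) := by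
      refine Good.sl2_ext (fun t => ?_) (fun t => ?_)
      · show (T.σ (φG (slU t)) : GL chevD4.Idx L) = φr (Matrix.SpecialLinearGroup.map φ (slU t))
        rw [show φG (slU t) = ⟨goodD4.xG 14 t, goodD4.xG_mem_group (by decide) t⟩ from Subtype.ext (hU t),
          hst 14 (by decide) v14 w14,
          show Matrix.SpecialLinearGroup.map φ (slU t) = slU (φ t) from Subtype.ext (by
            show (slU t).1.map φ = _
            ext i j; fin_cases i <;> fin_cases j <;> simp [slU]), hU]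
      · show (T.σ (φG (slL t)) : GL chevD4.Idx L) = φr (Matrix.SpecialLinearGroup.map φ (slL t))
        rw [show φG (slL t) = ⟨goodD4.xG 9 t, goodD4.xG_mem_group (by decide) t⟩ from Subtype.ext (hLo t),
          hst 9 (by decide) v9 w9,
          show Matrix.SpecialLinearGroup.map φ (slL t) = slL (φ t) from Subtype.ext (by
            show (slL t).1.map φ = _
            ext i j; fin_cases i <;> fin_cases j <;> simp [slL]), hLo]
    exact fun M => DFunLike.congr_fun e M
  have hb0 : b ≠ 0 := pow_ne_zero _ γ.ne_zero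
  set Δ : L := b ^ q - b with hΔ
  have hΔ0 : Δ ≠ 0 := by
    intro h
    rw [hΔ, sub_eq_zero, hb, ← pow_mul] at h
    have h' : γ ^ (((q ^ 4 + q ^ 2 + 1) * q : ℕ) : ℤ) = γ ^ ((q ^ 4 + q ^ 2 + 1 : ℕ) : ℤ) := by
      rw [zpow_natCast, zpow_natCast]
      exact Units.ext (by rwa [Units.val_pow_eq_pow_val, Units.val_pow_eq_pow_val])
    rw [hzz] at h'
    push_cast at h'
    have h'' := Int.eq_zero_of_abs_lt_dvd h' (by
      have : (2 : ℤ) ≤ q := by exact_mod_cast hq2
      rw [abs_lt]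
      constructor <;> nlinarith [pow_pos (show (0 : ℤ) < q by linarith) 4, pow_pos (show (0 : ℤ) < q by linarith) 5])
    have : (2 : ℤ) ≤ q := by exact_mod_cast hq2
    nlinarith [pow_pos (show (0 : ℤ) < q by linarith) 4]
  set NU : Lˣ := Units.mk0 (b ^ (q + 1)) (pow_ne_zero _ hb0) with hNU
  let V : Matrix.SpecialLinearGroup (Fin 2) L :=
    ⟨!![Δ⁻¹, b * Δ⁻¹; 1, b ^ q], det_eigen hΔ0⟩
  let u : Lˣ := Units.mk0 (-Δ⁻¹) (neg_ne_zero.2 (inv_ne_zero hΔ0))
  let W : Matrix.SpecialLinearGroup (Fin 2) L := slD u * slW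
  let d : Lˣ := Units.mk0 (b * (b ^ (q + 1))⁻¹) (mul_ne_zero hb0 (inv_ne_zero (pow_ne_zero _ hb0)))
  set g1 : Matrix.SpecialLinearGroup (Fin 2) L :=
    slU (-(NU : L)) * slL (NU : L)⁻¹ * slU (-(NU : L)) * slU ((NU : L) * (b + b ^ q)) with hg1
  have hVg : V * g1 = slD d * diagConj NU V := by
    refine Subtype.ext ?_
    simp only [Matrix.SpecialLinearGroup.coe_mul, hg1, diagConj_val]
    have hb1 : b ^ q ≠ 0 := pow_ne_zero _ hb0
    simp only [← Matrix.mul_assoc]
    simp only [V, d, hNU, slD, Units.val_mk0, Units.val_inv_eq_inv_val, Matrix.of_apply,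
      Matrix.cons_val', Matrix.cons_val_zero, Matrix.cons_val_one, Matrix.cons_val_fin_one, pow_succ]
    exact eigen_mul hb0 hb1 hΔ0
  have hfrobV : Matrix.SpecialLinearGroup.map φ V = W * V := by
    have hφΔ : φ Δ = -Δ := by rw [hΔ, map_sub, hφ, hφ, hbq2]; ring
    have hφΔi : φ Δ⁻¹ = -Δ⁻¹ := by rw [map_inv₀, hφΔ, inv_neg]
    refine Subtype.ext ?_
    simp only [Matrix.SpecialLinearGroup.coe_mul]
    show V.1.map φ = _
    have e : V.1.map φ = !![(-Δ)⁻¹, b ^ q * (-Δ)⁻¹; 1, b] := by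
      ext i j
      fin_cases i <;> fin_cases j <;> simp [V, hφ b, hφ (b ^ q), hbq2, hφΔ, hφΔi, map_inv₀, inv_neg] <;> ring
    rw [e]
    simp only [W, u, slD, slW, V, Units.val_mk0, Units.val_inv_eq_inv_val,
      Matrix.SpecialLinearGroup.coe_mul]
    exact eigen_swap hΔ0
  let cL : Fin chevD4.rank → Lˣ := fun i => Units.map (ι : K →* L) (cK i)
  have hcL : rootVal cL 14 = NU := by
    refine Units.ext ?_
    show _ = b ^ (q + 1)
    rw [← hNι, hNK]
    simp only [rootVal]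
    rw [show (∏ i : Fin chevD4.rank, cL i ^ chevD4.cartan i 14) =
      ∏ i : Fin 4, cL i ^ chevD4.cartan i 14 from rfl, Fin.prod_univ_four,
      show ((0 : Fin 4) : ℕ) = 0 from rfl, show ((1 : Fin 4) : ℕ) = 1 from rfl,
      show ((2 : Fin 4) : ℕ) = 2 from rfl, show ((3 : Fin 4) : ℕ) = 3 from rfl, a140, a141, a142, a143]
    simp [cL, cK, haU]
    have hι : ι aK ≠ 0 := by rw [haK]; exact pow_ne_zero _ γ.ne_zero
    exact mid_val hι (pow_ne_zero _ hι) (pow_ne_zero _ hι)
  set c : Fin chevD4.rank → Lˣ := fun i => γ ^ coordExp (q : ℤ) i.val with hc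
  have hcoord : torHom chevD4 L c = φr (slD d) * torHom chevD4 L cL := by
    have hsd : goodD4.hG 14 d = torHom chevD4 L (Pi.mulSingle (⟨1, by decide⟩ : Fin chevD4.rank) d) := by
      rw [goodD4.torHom_single]
      show _ = goodD4.hG (chevD4.simple 1) d
      rw [s1]
    rw [hD, hsd, ← map_mul]
    congr 1
    funext i
    refine Units.ext ?_
    obtain ⟨i, hi⟩ := i
    obtain rfl | rfl | rfl | rfl : i = 0 ∨ i = 1 ∨ i = 2 ∨ i = 3 := by
      have : i < 4 := hi
      omega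
    · simp [c, coordExp, cL, cK, haU, haK, haL, Pi.mulSingle_apply]
      rw [← zpow_natCast]; congr 1
    · simp [c, coordExp, cL, cK, haU, haK, Pi.mulSingle_apply, d]
      rw [← haK, ← map_pow, ← map_pow, ← map_mul, ← map_mul, ← hNK, hNι, hb,
        inv_mul_cancel_right₀ (pow_ne_zero _ (pow_ne_zero _ γ.ne_zero)), ← zpow_natCast]
      congr 1
    · simp [c, coordExp, cL, cK, haU, haK, haL, Pi.mulSingle_apply, ← pow_mul]
      rw [← zpow_natCast]; congr 1; push_cast; ring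
    · simp [c, coordExp, cL, cK, haU, haK, haL, Pi.mulSingle_apply, ← pow_mul]
      rw [← zpow_natCast]; congr 1; push_cast; ring
  have hhL : scalarGL chevD4 ι h0 = φr g1 * torHom chevD4 L cL := by
    have k14 : ∀ t : K, scalarGL chevD4 ι (goodD4.xG 14 t) = goodD4.xG 14 (ι t) :=
      fun t => goodD4.scalarGL_xG ι (by decide) t
    have k9 : ∀ t : K, scalarGL chevD4 ι (goodD4.xG 9 t) = goodD4.xG 9 (ι t) :=
      fun t => goodD4.scalarGL_xG ι (by decide) t
    simp only [hh0, hg1, map_mul, hU, hLo, scalarGL_torHom, k14, k9, map_neg, map_inv₀, hNι, hTK]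
    rfl
  have hconj : φr V * scalarGL chevD4 ι h0 * (φr V)⁻¹ = torHom chevD4 L c := by
    have hmove : torHom chevD4 L cL * φr V * (torHom chevD4 L cL)⁻¹ = φr (diagConj NU V) := by
      refine goodD4.torHom_conj_rootHom (r := 14) (by decide) hU (by rwa [n14]) cL (diagConj NU) ?_ ?_ V
      · intro t
        rw [hcL]
        refine Subtype.ext ?_
        rw [diagConj_val]
        ext i j; fin_cases i <;> fin_cases j <;> simp [slU]
      · intro t
        rw [hcL]
        refine Subtype.ext ?_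
        rw [diagConj_val]
        ext i j; fin_cases i <;> fin_cases j <;> simp [slL]
    rw [hhL, ← mul_assoc, ← map_mul φr, hVg, map_mul, ← hmove, hcoord]
    group
  -- orders
  have hval : ∀ r : ℕ, rootVal c r = γ ^ expo (q : ℤ) r := by
    intro r
    simp only [rootVal, c]
    rw [show (∏ i : Fin chevD4.rank, (γ ^ coordExp (q : ℤ) i.val) ^ chevD4.cartan i.val r) =
      ∏ i : Fin 4, (γ ^ coordExp (q : ℤ) i.val) ^ chevD4.cartan i.val r from rfl, Fin.prod_univ_four,
      ← _root_.zpow_mul, ← _root_.zpow_mul, ← _root_.zpow_mul, ← _root_.zpow_mul,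
      ← _root_.zpow_add, ← _root_.zpow_add, ← _root_.zpow_add]
    rfl
  have hto : orderOf (torHom chevD4 L c) = n := by
    refine Nat.dvd_antisymm (orderOf_dvd_of_pow_eq_one ?_) ?_
    · rw [← map_pow, ← map_one (torHom chevD4 L)]
      congr 1
      funext i
      show (γ ^ coordExp (q : ℤ) i.val) ^ n = 1
      rw [← zpow_natCast, ← _root_.zpow_mul, hzp, hn']
      obtain ⟨i, hi⟩ := i
      obtain rfl | rfl | rfl | rfl : i = 0 ∨ i = 1 ∨ i = 2 ∨ i = 3 := by
        have : i < 4 := hi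
        omega
      · exact ⟨q + 1, by simp only [coordExp]; ring⟩
      · exact ⟨(q : ℤ) ^ 2 + q + 1, by simp only [coordExp]; ring⟩
      · exact ⟨q * (q + 1), by simp only [coordExp]; ring⟩
      · exact ⟨q ^ 2 * (q + 1), by simp only [coordExp]; ring⟩
    · set k := orderOf (torHom chevD4 L c)
      have hk : ∀ r, r < chevD4.nroots → (q : ℤ) ^ 6 - 1 ∣ expo (q : ℤ) r * k := fun r hr => by
        rw [← hzp, _root_.zpow_mul, ← hval, zpow_natCast, ← rootVal_pow, ← rootVal_one (D := chevD4) (F := L) r]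
        exact goodD4.rootVal_eq_of_torHom (by rw [map_pow, map_one, pow_orderOf_eq_one]) hr
      have hG : (q : ℤ) ^ 2 - q + 1 ≠ 0 := by nlinarith
      rw [← Int.natCast_dvd_natCast, hn']
      have c18 : expo (q : ℤ) 18 = -(((q : ℤ) ^ 2 - q + 1) * ((q : ℤ) ^ 2 - q - 1)) := by
        rw [show (18 : ℕ) = ((18 : Fin 24) : ℕ) from rfl, expo_eq]
        simp [rankTab, sortedTab, evalP]; ring
      have c14 : expo (q : ℤ) 14 = -(((q : ℤ) ^ 2 - q + 1) * ((q : ℤ) ^ 3 - 1)) := by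
        rw [show (14 : ℕ) = ((14 : Fin 24) : ℕ) from rfl, expo_eq]
        simp [rankTab, sortedTab, evalP]; ring
      refine dvd_of_combination ?_ ?_
      · have := hk 18 (by decide)
        rw [c18, neg_mul, dvd_neg, show (q : ℤ) ^ 6 - 1 = ((q : ℤ) ^ 2 - q + 1) * (((q : ℤ) ^ 3 - 1) * (q + 1)) by ring,
          mul_assoc, mul_dvd_mul_iff_left hG] at this
        rwa [mul_comm ((k : ℤ))]
      · have := hk 14 (by decide)
        rw [c14, neg_mul, dvd_neg, show (q : ℤ) ^ 6 - 1 = ((q : ℤ) ^ 2 - q + 1) * (((q : ℤ) ^ 3 - 1) * (q + 1)) by ring,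
          mul_assoc, mul_dvd_mul_iff_left hG] at this
        rwa [mul_comm ((k : ℤ))]
  let h : ↥(twistedD4 K q) := ⟨h0, hh0m⟩
  have hho : orderOf h = n := by
    rw [← Subgroup.orderOf_coe, ← orderOf_injective (scalarGL chevD4 ι) (scalarGL_injective ι), ← hto, ← hconj]
    exact (orderOf_injective (MulAut.conj (φr V)).toMonoidHom (MulEquiv.injective _) _).symm
  refine ⟨Subgroup.zpowers h, inferInstance, (Nat.card_zpowers h).trans hho, le_antisymm ?_ ?_⟩
  swap
  · intro z hz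
    refine Subgroup.mem_centralizer_iff.2 fun y hy => ?_
    obtain ⟨a, rfl⟩ := Subgroup.mem_zpowers_iff.1 hy
    obtain ⟨a', rfl⟩ := Subgroup.mem_zpowers_iff.1 hz
    rw [← _root_.zpow_add, ← _root_.zpow_add, add_comm]
  have hW : goodD4.Acts (φr W) (goodD4.rperm ⟨1, by decide⟩) := by
    have hw : φr W = goodD4.hG 14 u * (goodD4.nI ⟨1, by decide⟩ : GL chevD4.Idx L) := by
      rw [map_mul, hD]
      congr 1
      show φr slW = goodD4.nG (chevD4.simple 1) 1
      rw [s1, Good.nG, n14, ← hU, ← hLo, ← map_mul, ← map_mul]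
      congr 1
      refine Subtype.ext ?_
      simp only [Matrix.SpecialLinearGroup.coe_mul]
      ext i j; fin_cases i <;> fin_cases j <;> simp [slW, slU, slL, Matrix.mul_apply, Fin.sum_univ_two]
    rw [hw]
    have := goodD4.acts_mul (goodD4.acts_diagonal (goodD4.hG_mem (r := 14) (by decide) u))
      (goodD4.acts_nI (F := L) ⟨1, by decide⟩)
    rwa [one_mul] at this
  have hrel : ∀ x ∈ twistedD4 K q, ∀ c' : Fin chevD4.rank → Lˣ,
      φr V * scalarGL chevD4 ι x * (φr V)⁻¹ = torHom chevD4 L c' →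
      rootVal c' 18 ^ q = rootVal c' 13 * rootVal c' 14 ∧ rootVal c' 13 ^ q = rootVal c' 12 * rootVal c' 14 ∧
        rootVal c' 12 ^ q = rootVal c' 18 * rootVal c' 14 ∧ rootVal c' 14 ^ q * rootVal c' 14 = 1 := by
    intro x hx c' hc'
    obtain ⟨y, hyfix, hy⟩ := fixed_of_twisted hK ι φ hφ T hTρ hTf hx
    have hmem : torHom chevD4 L c' ∈ chevD4.group L :=
      goodD4.diagonal_le_group (goodD4.torHom_mem c')
    refine root_relations φ hφ T hTρ hTf (φr W) hW hmem ?_
    have e : (⟨torHom chevD4 L c', hmem⟩ : ↥(chevD4.group L)) = φG V * y * (φG V)⁻¹ := by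
      refine Subtype.ext ?_
      show torHom chevD4 L c' = φr V * (y : GL chevD4.Idx L) * (φr V)⁻¹
      rw [show (y : GL chevD4.Idx L) = scalarGL chevD4 ι x from hy, hc']
    rw [e, map_mul, map_mul, map_inv, Subgroup.coe_mul, Subgroup.coe_mul, Subgroup.coe_inv,
      show T.σ y = y from hyfix, hσφ, hfrobV, map_mul, show ((y : GL chevD4.Idx L)) = scalarGL chevD4 ι x from hy,
      ← hc']
    group
  intro z hz
  have hzh : h * z = z * h := Subgroup.mem_centralizer_iff.1 hz h (Subgroup.mem_zpowers h)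
  have hzh' : scalarGL chevD4 ι h0 * scalarGL chevD4 ι (z : GL chevD4.Idx K) =
      scalarGL chevD4 ι (z : GL chevD4.Idx K) * scalarGL chevD4 ι h0 := by
    rw [← map_mul, ← map_mul]
    exact congrArg (scalarGL chevD4 ι) (congrArg Subtype.val hzh)
  have hzmem : scalarGL chevD4 ι (z : GL chevD4.Idx K) ∈ chevD4.group L :=
    T.fixed_le (fixed_of_twisted hK ι φ hφ T hTρ hTf z.2)
  have hyd : φr V * scalarGL chevD4 ι (z : GL chevD4.Idx K) * (φr V)⁻¹ ∈ chevD4.diagonalSubgroup L := by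
    refine goodD4.centralizer_regular_stab hcD4 (c := c) ?_ ?_
      (mul_mem (mul_mem (hφrmem V) hzmem) (inv_mem (hφrmem V))) ?_
    · intro r hr
      rw [hval, ne_eq, hzp]
      rcases (show q = 2 ∨ 3 ≤ q by omega) with rfl | h3
      · have := expo_two.1 ⟨r, hr⟩
        norm_num at this ⊢
        exact this
      · exact (expo_distinct (q := (q : ℤ)) (by exact_mod_cast h3)).1 ⟨r, hr⟩
    · intro m π hπw hπ hfix
      have hd : ∀ s : Fin chevD4.nroots, (q : ℤ) ^ 6 - 1 ∣ expo (q : ℤ) (π s).val - expo (q : ℤ) s.val :=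
        fun s => by
          have := hfix s
          rw [hval, hval, hzz] at this
          exact this
      rcases (show q = 2 ∨ 3 ≤ q by omega) with rfl | h3
      · have hd' : ∀ s : Fin 24, π s = s ∨ ((π s).val ∈ [0, 14, 22] ∧ s.val ∈ [0, 14, 22]) ∨
            ((π s).val ∈ [1, 9, 23] ∧ s.val ∈ [1, 9, 23]) := fun s => expo_two.2 _ _ (by
          have := hd s
          norm_num at this ⊢
          exact this)
        have hfx : ∀ r : ℕ, ∀ hr : r < chevD4.nroots, r ∉ [0, 14, 22] → r ∉ [1, 9, 23] → π ⟨r, hr⟩ = ⟨r, hr⟩ :=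
          fun r hr h1 h2 => ((hd' ⟨r, hr⟩).resolve_right (by
            rintro (⟨-, h⟩ | ⟨-, h⟩)
            exacts [h1 h, h2 h]))
        have f18 := hfx 18 (by decide) (by simp) (by simp)
        have f14 : π ⟨14, by decide⟩ = ⟨14, by decide⟩ := by
          rcases hd' ⟨14, by decide⟩ with h | ⟨h, -⟩ | ⟨-, h⟩
          · exact h
          · by_contra hne
            have hne' : (π ⟨14, by decide⟩).val ≠ 14 := fun h' => hne (Fin.ext h')
            have hmemL : ((18 : ℕ), (π ⟨14, by decide⟩).val) ∈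
                [(18, 13), (18, 12), (5, 10), (5, 11), (18, 22), (18, 0), (5, 14)] := by
              simp only [List.mem_cons, List.not_mem_nil, or_false] at h
              have key : ∀ v : ℕ, v = 0 ∨ v = 22 → ((18 : ℕ), v) ∈
                  [(18, 13), (18, 12), (5, 10), (5, 11), (18, 22), (18, 0), (5, 14)] := by
                rintro v (rfl | rfl) <;> decide
              rcases h with h | h | h
              · exact key _ (Or.inl h)
              · exact absurd h hne'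
              · exact key _ (Or.inr h)
            obtain ⟨d18, hd18⟩ := hπ ⟨18, by decide⟩
            obtain ⟨d14, hd14⟩ := hπ ⟨14, by decide⟩
            rw [f18] at hd18
            have hcomm : ∀ t t' : L, Commute (goodD4.xG 18 t) (goodD4.xG 14 t') := by
              intro t t'
              have h1 := commute_pair (F := L) hmemL ((d18 : L) * t) ((d14 : L) * t')
              rw [← hd18 t, ← hd14 t'] at h1
              have h2 := h1.map (MulAut.conj m⁻¹).toMonoidHom
              simpa [mul_assoc] using h2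
            have hn0 : goodD4.nG (chevD4.simple 0) (1 : Lˣ) * goodD4.xG 14 (1 : L) *
                (goodD4.nG (chevD4.simple 0) (1 : Lˣ))⁻¹ = goodD4.xG 14 (1 : L) := by
              have hcm : Commute (goodD4.nG (chevD4.simple 0) (1 : Lˣ)) (goodD4.xG 14 (1 : L)) := by
                rw [s0, Good.nG, n18]
                exact ((hcomm _ _).mul_left (commute_pair (by simp) _ _)).mul_left (hcomm _ _)
              rw [hcm.eq, mul_inv_cancel_right]
            rw [goodD4.nG_conj_xG (by decide) (by decide), hrefl0] at hn0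
            exact one_ne_zero (goodD4.eq_of_xG_eq (a := 14) (b := 19) (by decide) (by decide) (by decide) hn0.symm)
          · simp at h
        by_contra hπ1
        obtain ⟨i, hi⟩ := goodD4.exists_descent hπw hπ1
        have hfi : π (goodD4.sroot i) = goodD4.sroot i := by
          obtain ⟨i, hi4⟩ := i
          obtain rfl | rfl | rfl | rfl : i = 0 ∨ i = 1 ∨ i = 2 ∨ i = 3 := by
            have : i < 4 := hi4
            omega
          · rw [show goodD4.sroot ⟨0, hi4⟩ = ⟨18, by decide⟩ from Fin.ext s0]; exact f18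
          · rw [show goodD4.sroot ⟨1, hi4⟩ = ⟨14, by decide⟩ from Fin.ext s1]; exact f14
          · rw [show goodD4.sroot ⟨2, hi4⟩ = ⟨13, by decide⟩ from Fin.ext s2]
            exact hfx 13 (by decide) (by simp) (by simp)
          · rw [show goodD4.sroot ⟨3, hi4⟩ = ⟨12, by decide⟩ from Fin.ext s3]
            exact hfx 12 (by decide) (by simp) (by simp)
        have hinv : π⁻¹ (goodD4.sroot i) = goodD4.sroot i := π.symm_apply_eq.2 hfi.symm
        rw [hinv] at hi
        exact absurd (goodD4.sroot_pos i) (by omega)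
      · exact Equiv.ext fun s => (expo_distinct (q := (q : ℤ)) (by exact_mod_cast h3)).2 (π s) s (hd s)
    · rw [← hconj]
      calc φr V * scalarGL chevD4 ι (z : GL chevD4.Idx K) * (φr V)⁻¹ *
            (φr V * scalarGL chevD4 ι h0 * (φr V)⁻¹)
          = φr V * (scalarGL chevD4 ι (z : GL chevD4.Idx K) * scalarGL chevD4 ι h0) * (φr V)⁻¹ := by group
        _ = φr V * (scalarGL chevD4 ι h0 * scalarGL chevD4 ι (z : GL chevD4.Idx K)) * (φr V)⁻¹ := by
            rw [hzh']
        _ = _ := by group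
  rw [goodD4.diagonal_eq_range] at hyd
  obtain ⟨c', hc'⟩ := hyd
  have hpow : ∀ k : ℕ, φr V * scalarGL chevD4 ι ((h ^ k : ↥(twistedD4 K q)) : GL chevD4.Idx K) * (φr V)⁻¹ =
      torHom chevD4 L (c ^ k) := by
    intro k
    rw [map_pow, ← hconj, SubmonoidClass.coe_pow, map_pow]
    exact (map_pow (MulAut.conj (φr V)).toMonoidHom _ k)
  set S : Finset (Lˣ × Lˣ) := Finset.univ.filter fun u =>
      u.1 ^ (q + 1) = 1 ∧ u.2 ^ q ^ 3 = u.2 * u.1 ^ (q ^ 2 + q + 1) with hS
  have hder : ∀ e : Fin chevD4.rank → Lˣ,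
      (rootVal e 18 ^ q = rootVal e 13 * rootVal e 14 ∧ rootVal e 13 ^ q = rootVal e 12 * rootVal e 14 ∧
        rootVal e 12 ^ q = rootVal e 18 * rootVal e 14 ∧ rootVal e 14 ^ q * rootVal e 14 = 1) →
      (rootVal e 14, rootVal e 18) ∈ S ∧ rootVal e 13 = rootVal e 18 ^ q * (rootVal e 14)⁻¹ ∧
        rootVal e 12 = (rootVal e 18 ^ q * (rootVal e 14)⁻¹) ^ q * (rootVal e 14)⁻¹ := by
    rintro e ⟨h1, h2, h3, h4⟩
    have e13 : rootVal e 13 = rootVal e 18 ^ q * (rootVal e 14)⁻¹ := by rw [h1, mul_inv_cancel_right]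
    refine ⟨?_, e13, by rw [← e13, h2, mul_inv_cancel_right]⟩
    simp only [hS, Finset.mem_filter, Finset.mem_univ, true_and]
    refine ⟨by rw [pow_succ]; exact h4, ?_⟩
    calc rootVal e 18 ^ q ^ 3 = ((rootVal e 18 ^ q) ^ q) ^ q := by
          rw [← pow_mul, ← pow_mul]; congr 1; ring
      _ = rootVal e 12 ^ q * rootVal e 14 ^ q * rootVal e 14 ^ (q * q) := by
          rw [h1, mul_pow, mul_pow, h2, mul_pow, pow_mul]
      _ = rootVal e 18 * rootVal e 14 ^ (q ^ 2 + q + 1) := by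
          rw [h3, mul_assoc, mul_assoc, ← pow_add, ← pow_succ']
          congr 2; ring
  let f : ℕ → Lˣ × Lˣ := fun k => (rootVal (c ^ k) 14, rootVal (c ^ k) 18)
  have hkey : ∀ e e' : Fin chevD4.rank → Lˣ,
      (rootVal e 18 ^ q = rootVal e 13 * rootVal e 14 ∧ rootVal e 13 ^ q = rootVal e 12 * rootVal e 14 ∧
        rootVal e 12 ^ q = rootVal e 18 * rootVal e 14 ∧ rootVal e 14 ^ q * rootVal e 14 = 1) →
      (rootVal e' 18 ^ q = rootVal e' 13 * rootVal e' 14 ∧ rootVal e' 13 ^ q = rootVal e' 12 * rootVal e' 14 ∧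
        rootVal e' 12 ^ q = rootVal e' 18 * rootVal e' 14 ∧ rootVal e' 14 ^ q * rootVal e' 14 = 1) →
      (rootVal e 14, rootVal e 18) = (rootVal e' 14, rootVal e' 18) →
      torHom chevD4 L e = torHom chevD4 L e' := by
    intro e e' he he' heq
    obtain ⟨-, p3, p2⟩ := hder e he
    obtain ⟨-, p3', p2'⟩ := hder e' he'
    obtain ⟨q1, q2⟩ := Prod.mk.inj heq
    refine goodD4.torHom_eq_of_simple fun j => ?_
    obtain ⟨j, hj⟩ := j
    obtain rfl | rfl | rfl | rfl : j = 0 ∨ j = 1 ∨ j = 2 ∨ j = 3 := by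
      have : j < 4 := hj
      omega
    · simpa [s0] using q2
    · simpa [s1] using q1
    · simp only [s2, p3, p3', q1, q2]
    · simp only [s3, p2, p2', q1, q2]
  have hrelk : ∀ k : ℕ, _ := fun k => hrel _ (h ^ k).2 (c ^ k) (hpow k)
  have hrelz := hrel _ z.2 c' hc'.symm
  have hfS : ∀ k ∈ Finset.range n, f k ∈ S := fun k _ => (hder _ (hrelk k)).1
  have hfinj : Set.InjOn f (Finset.range n : Set ℕ) := by
    intro i hi j hj hij
    have := hkey _ _ (hrelk i) (hrelk j) hij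
    rw [map_pow, map_pow] at this
    simp only [Finset.coe_range, Set.mem_Iio] at hi hj
    exact pow_injOn_Iio_orderOf (by simpa [hto] using hi) (by simpa [hto] using hj) this
  have himg : (Finset.range n).image f = S := by
    refine Finset.eq_of_subset_of_card_le (Finset.image_subset_iff.2 hfS) ?_
    rw [Finset.card_image_of_injOn hfinj, Finset.card_range]
    exact card_pairs hq2
  have hzS := (hder _ hrelz).1
  rw [← himg, Finset.mem_image] at hzS
  obtain ⟨k, -, hk⟩ := hzS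
  have e2 := hkey _ _ (hrelk k) hrelz hk
  rw [hc', ← hpow k] at e2
  refine Subgroup.mem_zpowers_iff.2 ⟨k, Subtype.ext ?_⟩
  rw [zpow_natCast]
  exact scalarGL_injective ι (mul_left_cancel (mul_right_cancel e2))

end CfsgLib.Chev.TriTorus
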