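import Cfsg.Agent.Lib.Chev.TwE6FiveChk
import Cfsg.Agent.Lib.Chev.E6FiHom

/-!
The twisted group of type E6 over the field with four elements on the 27 coordinates: its elements lift to
isometries of the cubic form which are unitary for the pairing, and the forms on unit vectors.
-/

set_option autoImplicit false
set_option maxRecDepth 100000
set_option linter.unusedSimpArgs false
set_option linter.unusedSectionVars false

namespace CfsgLib.Chev.TwE6Five

open Cfsg.Lie CfsgLib.Chev CfsgLib.Chev.E6C CfsgLib.Chev.F4InE6 CfsgLib.Chev.FiInE6 Matrix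

/-- The pairing on coordinates. -/
noncomputable def piI (i : I27) : I27 := pt (piN (num27.e i))

theorem natBeq (a b : ℕ) : Nat.beq a b = decide (a = b) := by
  by_cases h : a = b
  · subst h; simp [Nat.beq_eq]
  · simp only [h, decide_false]; rw [← Bool.not_eq_true, Nat.beq_eq]; exact h

theorem piN_lt : ∀ i < 27, piN i < 27 ∧ piN (piN i) = i := by decide +kernel

theorem piI_piI (i : I27) : piI (piI i) = i := by
  rw [piI, piI, e_pt (piN_lt _ (num27.lt i)).1, (piN_lt _ (num27.lt i)).2, pt_e]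

theorem piI_pt {k : ℕ} (hk : k < 27) : piI (pt k) = pt (piN k) := by rw [piI, e_pt hk]

variable {K : Type*} [Field K]

/-- A unit vector. -/
def sgl (a : ℕ) : I27 → K := fun i => if num27.e i = a then 1 else 0

theorem sgl_pt {a : ℕ} {p : ℕ} (hp : p < 27) : (sgl a : I27 → K) (pt p) = if p = a then 1 else 0 := by
  simp [sgl, e_pt hp]

/-- An entry. -/
def ent (y : GL I27 K) (k j : ℕ) : K := (y : Matrix I27 I27 K) (pt k) (pt j)

theorem mulVec_sgl (y : GL I27 K) {j : ℕ} (hj : j < 27) (k : ℕ) :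
    ((y : Matrix I27 I27 K) *ᵥ sgl j) (pt k) = ent y k j := by
  rw [Matrix.mulVec, dotProduct, Finset.sum_eq_single (pt j)]
  · simp [sgl, ent, e_pt hj]
  · intro b _ hb
    have : num27.e b ≠ j := fun h => hb (by rw [← h, pt_e])
    simp [sgl, this]
  · simp

/-- Unitarity for the pairing. -/
def Uni (y : GL I27 K) : Prop :=
  ∀ i k : I27, ((y⁻¹ : GL I27 K) : Matrix I27 I27 K) i k = ((y : Matrix I27 I27 K) (piI k) (piI i)) ^ 2

/-- The value of a code. -/
noncomputable abbrev cv (ω : Kˣ) (c : ℕ) : K := emb (ω : K) c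

theorem cd_lt (r : ℕ × ℕ) (k : ℕ) : cd r k < 4 := by
  rw [cd]
  cases Nat.testBit r.1 k <;> cases Nat.testBit r.2 k <;> simp

theorem cv_zero (ω : Kˣ) : cv ω 0 = 0 := by simp [cv, emb, scl, dec]

theorem cv_one (ω : Kˣ) : cv ω 1 = 1 := by simp [cv, emb, scl, dec]

theorem cv_two (ω : Kˣ) : cv ω 2 = (ω : K) := by simp [cv, emb, scl, dec]

theorem cv_three (ω : Kˣ) : cv ω 3 = 1 + (ω : K) := by simp [cv, emb, scl, dec]

variable [CharP K 2] {ω : Kˣ} (hω : ω ^ 3 = 1) (h1 : ω ≠ 1)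

include hω h1

theorem cv_sqc {c : ℕ} (hc : c < 4) : cv ω (sqc c) = cv ω c ^ 2 := by
  have hw := omega_sq hω h1
  have h2 : (2 : K) = 0 := CharTwo.two_eq_zero
  interval_cases c
  · simp [sqc, cv_zero]
  · simp [sqc, cv_one]
  · rw [show sqc 2 = 3 from rfl, cv_three, cv_two, hw, add_comm]
  · rw [show sqc 3 = 2 from rfl, cv_three, cv_two]
    linear_combination (-1 : K) * hw + (-(ω : K) - 1) * h2

theorem cv_eq_zero {c : ℕ} (hc : c < 4) (h : cv ω c = 0) : c = 0 := by
  have hw := omega_sq hω h1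
  interval_cases c
  · rfl
  · rw [cv_one] at h; exact absurd h one_ne_zero
  · rw [cv_two] at h; exact absurd h (Units.ne_zero ω)
  · rw [cv_three] at h
    have : (ω : K) ^ 2 = 0 := by rw [hw, add_comm]; exact h
    exact absurd (pow_eq_zero_iff (two_ne_zero) |>.1 this) (Units.ne_zero ω)

theorem cv_mulc (a b : ℕ) : cv ω (mulc a b) = cv ω a * cv ω b := by
  have hw := omega_sq hω h1
  rw [cv, mulc, dec_cd hw, dec_scl hw, dec_scl hw]
  have : dec (ω : K) (1, 0) 0 = 1 := by simp [dec]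
  rw [this, mul_one]

theorem cv_addc (a b : ℕ) : cv ω (addc a b) = cv ω a + cv ω b := by
  have hw := omega_sq hω h1
  rw [cv, addc, dec_cd hw, dec_rx, dec_scl hw, dec_scl hw]
  have : dec (ω : K) (1, 0) 0 = 1 := by simp [dec]
  rw [this, mul_one, mul_one]

theorem mat_cv (M : PM) {k j : ℕ} (hk : k < 27) (hj : j < 27) :
    mat (ω : K) M (pt k) (pt j) = cv ω (cd (row M k) j) := by
  rw [mat_apply, e_pt hk, e_pt hj, cv, dec_cd (omega_sq hω h1)]

variable [Fintype K] (hK : Fintype.card K = 4)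

include hK

omit [CharP K 2] hω h1 in
theorem frob_frob (a : K) : (a ^ 2) ^ 2 = a := by
  rw [← pow_mul, show 2 * 2 = Fintype.card K by rw [hK]]
  exact FiniteField.pow_card a

theorem cv_surj (t : K) : ∃ c < 4, cv ω c = t := by
  classical
  have hw := omega_sq hω h1
  have hinj : Function.Injective (fun c : Fin 4 => cv ω (c : ℕ)) := by
    intro a b h
    have hh : cv ω (addc a b) = 0 := by
      rw [cv_addc hω h1]
      show cv ω (a : ℕ) + cv ω (b : ℕ) = 0
      rw [show cv ω (a : ℕ) = cv ω (b : ℕ) from h, CharTwo.add_self_eq_zero]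
    exact (by decide +kernel : ∀ a b : Fin 4, addc (a : ℕ) b = 0 → a = b) a b
      (cv_eq_zero hω h1 (cd_lt _ _) hh)
  obtain ⟨c, hc⟩ := ((Fintype.bijective_iff_injective_and_card _).2
    ⟨hinj, by rw [Fintype.card_fin, hK]⟩).2 t
  exact ⟨c, c.2, hc⟩

omit [CharP K 2] hω h1 hK [Fintype K] in
theorem Uni.one : Uni (1 : GL I27 K) := by
  intro i k
  have h : piI k = piI i ↔ i = k := ⟨fun e => by rw [← piI_piI i, ← e, piI_piI], fun e => by rw [e]⟩
  rw [inv_one, Units.val_one, Matrix.one_apply, Matrix.one_apply]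
  by_cases e : i = k
  · rw [if_pos e, if_pos (h.2 e), one_pow]
  · rw [if_neg e, if_neg fun e' => e (h.1 e'), zero_pow two_ne_zero]

omit hω h1 hK [Fintype K] in
theorem Uni.mul {y z : GL I27 K} (hy : Uni y) (hz : Uni z) : Uni (y * z) := by
  intro i k
  rw [_root_.mul_inv_rev, Units.val_mul, Units.val_mul, Matrix.mul_apply, Matrix.mul_apply, CharTwo.sum_sq]
  refine Fintype.sum_bijective piI (Function.Involutive.bijective piI_piI) _ _ fun l => ?_
  rw [hz i l, hy l k, mul_pow, mul_comm]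

omit [CharP K 2] hω h1 in
theorem Uni.inv {y : GL I27 K} (hy : Uni y) : Uni y⁻¹ := by
  intro i k
  rw [inv_inv, hy, piI_piI, piI_piI, frob_frob hK]

omit [CharP K 2] hω h1 hK [Fintype K] in
theorem Uni.entry {y : GL I27 K} (hy : Uni y) {i k : ℕ} (hi : i < 27) (hk : k < 27) :
    ent y⁻¹ i k = ent y (piN k) (piN i) ^ 2 := by
  rw [ent, hy, piI_pt hk, piI_pt hi, ent]

theorem uni_of_ok {y : GL I27 K} {G : PM} (hy : (y : Matrix I27 I27 K) = mat (ω : K) G)
    (h : uniOK G = true) : Uni y := by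
  simp only [uniOK, Bool.and_eq_true] at h
  have hw := omega_sq hω h1
  obtain ⟨hl, -, hm⟩ := eqM_spec (ω : K) h.1
  rw [length_mulM] at hl
  rw [mat_mul hw hl hl, mat_one hw, ← hy] at hm
  have hinv : y⁻¹ = y := inv_eq_of_mul_eq_one_right (Units.ext (by rw [Units.val_mul, hm, Units.val_one]))
  intro i k
  have h' := Nat.eq_of_beq_eq_true (allR_upto (allR_upto h.2 (num27.lt i)) (num27.lt k))
  rw [hinv, hy]
  conv_lhs => rw [← pt_e i, ← pt_e k]
  rw [piI, piI, mat_cv hω h1 _ (num27.lt i) (num27.lt k),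
    mat_cv hω h1 _ (piN_lt _ (num27.lt k)).1 (piN_lt _ (num27.lt i)).1, h', cv_sqc hω h1 (cd_lt _ _)]

omit [CharP K 2] hω h1 hK [Fintype K] in
theorem x_eq {r : ℕ} (t : K) : chevE6.x K r t = (goodE6.xG r t : Matrix chevE6.Idx chevE6.Idx K) :=
  (goodE6.coe_xG r t).symm

omit [Fintype K] hK in
theorem mat_prodE : ∀ l : List (ℕ × ℕ), (∀ p ∈ l, p.1 < 72) → (prodE l).length = 27 ∧
    mat (ω : K) (prodE l) = ((l.map fun p => uG p.1 (cv ω p.2)).prod : GL I27 K) := by
  have hw := omega_sq hω h1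
  intro l
  induction l with
  | nil => exact fun _ => ⟨length_mapR fun i => scl 1 (2 ^ i, 0), by simp [prodE, mat_one hw]⟩
  | cons p l ih =>
    intro hl
    obtain ⟨hlen, hm⟩ := ih fun q hq => hl q (List.mem_cons_of_mem _ hq)
    have he : (elemM p.1 p.2).length = 27 :=
      length_mapR fun i => rx (2 ^ i, 0) (scl p.2 (rowA p.1 i 27, 0))
    refine ⟨(length_mulM _ _).trans he, ?_⟩
    show mat (ω : K) (mulM (elemM p.1 p.2) (prodE l)) = _
    rw [List.map_cons, List.prod_cons, Units.val_mul, mat_mul hw he hlen,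
      mat_elem hw (hl p List.mem_cons_self), hm]

/-- Every element of the twisted group has a unitary lift. -/
theorem exists_lift {g : GL chevE6.Idx K} (hg : g ∈ twistedE6 K 2) :
    ∃ y : GL I27 K, (y, g) ∈ Gam K ∧ Uni y := by
  have hroots := roots_ok
  simp only [rootsOK, Bool.and_eq_true] at hroots
  have base : ∀ l : List (ℕ × ℕ), (∀ p ∈ l, p.1 < 72) → uniOK (prodE l) = true →
      ∃ y : GL I27 K, (y, (l.map fun p => goodE6.xG p.1 (cv ω p.2)).prod) ∈ Gam K ∧ Uni y := by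
    intro l hl hok
    exact ⟨(l.map fun p => uG p.1 (cv ω p.2)).prod,
      prod_mem_gam _ _ fun p hp => Subgroup.subset_closure ⟨p.1, hl p hp, _, rfl⟩,
      uni_of_ok hω h1 hK (mat_prodE hω h1 l hl).2.symm hok⟩
  rw [twistedE6, ChevalleyDatum.genSubgroup] at hg
  induction hg using Subgroup.closure_induction with
  | mem g hg =>
    obtain ⟨w, hw, hgw⟩ := hg
    rcases hw with ⟨t, ht, r, hr, rfl⟩ | ⟨t, rs, hrs, rfl⟩
    · have ht' : ∃ c ∈ [0, 1], cv ω c = t := by
        have : t * (t - 1) = 0 := by linear_combination ht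
        rcases mul_eq_zero.1 this with h0 | h0
        · exact ⟨0, by simp, by rw [cv_zero, h0]⟩
        · exact ⟨1, by simp, by rw [cv_one, sub_eq_zero.1 h0]⟩
      obtain ⟨c, hc, rfl⟩ := ht'
      have hr' : r ∈ [46, 25, 39, 32] := hr
      obtain ⟨y, hy, hu⟩ := base [(r, c)] (by
        intro p hp; rw [List.mem_singleton] at hp; subst hp
        exact (by decide : ∀ r ∈ [46, 25, 39, 32], r < 72) r hr')
        (allR_true (allR_true hroots.1 hr') hc)
      refine ⟨y, ?_, hu⟩
      rw [show g = ([(r, c)].map fun p => goodE6.xG p.1 (cv ω p.2)).prod from Units.ext (by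
        rw [hgw]; simp [ChevalleyDatum.wordMat, x_eq])]
      exact hy
    · obtain ⟨c, hc, rfl⟩ := cv_surj hω h1 hK t
      have hrs' : rs ∈ [(56, 36), (15, 35), (42, 37), (29, 34)] := hrs
      have hc' : c ∈ [0, 1, 2, 3] := by interval_cases c <;> simp
      obtain ⟨y, hy, hu⟩ := base [(rs.1, c), (rs.2, sqc c)] (by
        have hlt := (by decide : ∀ rs ∈ [(56, 36), (15, 35), (42, 37), (29, 34)], rs.1 < 72 ∧ rs.2 < 72) rs hrs'
        intro p hp
        simp only [List.mem_cons, List.not_mem_nil, or_false] at hp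
        rcases hp with rfl | rfl
        exacts [hlt.1, hlt.2])
        (allR_true (allR_true hroots.2 hrs') hc')
      refine ⟨y, ?_, hu⟩
      rw [show g = ([(rs.1, c), (rs.2, sqc c)].map fun p => goodE6.xG p.1 (cv ω p.2)).prod from Units.ext (by
        rw [hgw]; simp [ChevalleyDatum.wordMat, x_eq, cv_sqc hω h1 hc])]
      exact hy
  | one => exact ⟨1, one_mem _, Uni.one⟩
  | mul a b _ _ ha hb =>
    obtain ⟨y, hy, hu⟩ := ha
    obtain ⟨z, hz, hv⟩ := hb
    exact ⟨y * z, mul_mem hy hz, hu.mul hv⟩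
  | inv a _ ha =>
    obtain ⟨y, hy, hu⟩ := ha
    exact ⟨y⁻¹, inv_mem hy, hu.inv hK⟩

/-! ### The forms on unit vectors -/

omit [Fintype K] hK hω h1 in
theorem monT_range : ∀ m ∈ monT, m.2.1 < 27 ∧ m.2.2.1 < 27 ∧ m.2.2.2 < 27 ∧ (m.1 = 1 ∨ m.1 = -1) := by
  decide +kernel

omit [Fintype K] hK hω h1 in
theorem monT_sign {m : ℤ × ℕ × ℕ × ℕ} (hm : m ∈ monT) : ((m.1 : ℤ) : K) = 1 := by
  rcases (monT_range m hm).2.2.2 with h | h <;> rw [h] <;> simp [CharTwo.neg_eq]

omit [Fintype K] hK hω h1 in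
theorem sum_pick {a b p q r : ℕ} (hp : p < 27) (hq : q < 27) (w : I27 → K) :
    ((pick a b p q r).map fun c => w (pt c)).sum = sgl a (pt p) * sgl b (pt q) * w (pt r) := by
  rw [sgl_pt hp, sgl_pt hq, pick]
  by_cases h : p = a <;> by_cases h' : q = b <;> simp [natBeq, h, h']

omit [Fintype K] hK hω h1 in
theorem tri_sgl (a b : ℕ) (w : I27 → K) :
    tri (sgl a) (sgl b) w = ((thirdL a b).map fun c => w (pt c)).sum := by
  rw [thirdL, sum_flatMap, tri, ev3]
  refine congrArg List.sum (List.map_congr_left fun m hm => ?_)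
  obtain ⟨h2, h3, h4, -⟩ := monT_range m hm
  rw [monT_sign hm, one_mul]
  simp only [List.map_append, List.sum_append, sum_pick h2 h3, sum_pick h2 h4, sum_pick h3 h2, sum_pick h3 h4,
    sum_pick h4 h2, sum_pick h4 h3]
  ring

omit [Fintype K] hK hω h1 in
theorem qd_sgl (c : ℕ) (v : I27 → K) :
    qd v (sgl c) = ((pairL c).map fun p => v (pt p.1) * v (pt p.2)).sum := by
  rw [pairL, sum_flatMap, qd, ev3]
  refine congrArg List.sum (List.map_congr_left fun m hm => ?_)
  obtain ⟨h2, h3, h4, -⟩ := monT_range m hm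
  rw [monT_sign hm, one_mul, sgl_pt h2, sgl_pt h3, sgl_pt h4]
  by_cases e2 : m.2.1 = c <;> by_cases e3 : m.2.2.1 = c <;> by_cases e4 : m.2.2.2 = c <;>
    simp [natBeq, e2, e3, e4] <;> ring

end CfsgLib.Chev.TwE6Five
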