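import Cfsg.Agent.Lib.Chev.TwE6FiveEntries

/-!
An upper bound for the centraliser of the element of order five: the isometries fixing the eighth basis vector act on
the six basis vectors of the fixed space as a group of order at most 20160, with a kernel of order at most five.
-/

set_option autoImplicit false
set_option maxRecDepth 100000
set_option linter.unusedSimpArgs false
set_option linter.unusedSectionVars false

namespace CfsgLib.Chev.TwE6Five

open Cfsg.Lie CfsgLib.Chev CfsgLib.Chev.E6C CfsgLib.Chev.F4InE6 CfsgLib.Chev.FiInE6 Matrix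

/-- The six basis vectors. -/
def qN (i : ℕ) : ℕ := qL.getD i 0

theorem qN_facts : ∀ i < 6, qN i < 27 ∧ qN i ∈ fixL ∧ qN i ∈ qL ∧ qN i ≠ 8 ∧ i ^^^ 1 < 6 ∧
    piN (qN i) = qN (i ^^^ 1) ∧ piN (qN (i ^^^ 1)) = qN i := by decide +kernel

theorem qN_inj : ∀ i < 6, ∀ j < 6, qN i = qN j → i = j := by decide +kernel

theorem qN_third : ∀ i < 6, thirdL 8 (qN i) = [qN (i ^^^ 1)] := by decide +kernel

theorem pair_eight : pairL 8 = [(0, 4), (1, 3), (15, 20), (16, 23), (17, 26)] := by decide +kernel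

theorem qL_cases : ∀ a ∈ qL, ∃ i < 6, a = qN i := by decide +kernel

theorem fix_cases : ∀ a ∈ fixL, a = 8 ∨ ∃ i < 6, a = qN i := by decide +kernel

set_option synthInstance.maxSize 4096 in
theorem bits_exist : ∀ a b c d e f : Bool, ∃ n : Fin 64, Nat.testBit n 0 = a ∧ Nat.testBit n 1 = b ∧
    Nat.testBit n 2 = c ∧ Nat.testBit n 3 = d ∧ Nat.testBit n 4 = e ∧ Nat.testBit n 5 = f := by decide +kernel

theorem quad_bits : ∀ c < 64,
    (((Nat.testBit c 0 && Nat.testBit c 1) ^^ (Nat.testBit c 2 && Nat.testBit c 3)) ^^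
      (Nat.testBit c 4 && Nat.testBit c 5)) = false → Nat.beq (quad c) 0 = true := by decide +kernel

theorem bil_bits : ∀ c < 64, ∀ j < 6, ∀ i < 6, Nat.testBit c (i ^^^ 1) = decide (j = i ^^^ 1) →
    Nat.beq (bil c (2 ^ i)) (bil (2 ^ j) (2 ^ i)) = true := by decide +kernel

set_option synthInstance.maxSize 2048 in
theorem four_cases : ∀ c < 64, ∀ j < 6, 4 ≤ j → c ≠ 0 → Nat.beq (quad c) 0 = true →
    (∀ i < 4, Nat.testBit c (i ^^^ 1) = decide (j = i ^^^ 1)) → c = 16 ∨ c = 32 := by decide +kernel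

theorem sixteen_bits : ∀ i < 6, Nat.testBit 16 i = decide (i = 4) ∧ Nat.testBit 32 i = decide (i = 5) := by
  decide +kernel

theorem swp_qL : swp (qN 4) = qN 5 ∧ swp (qN 5) = qN 4 ∧ ∀ i < 4, swp (qN i) = qN i := by decide +kernel

theorem sum_map_single {α M : Type*} [AddCommMonoid M] {L : List α} {a : α} (f : α → M) (hL : L.Nodup)
    (ha : a ∈ L) (h0 : ∀ p ∈ L, p ≠ a → f p = 0) : (L.map f).sum = f a := by
  classical
  rw [← List.sum_toFinset f hL]
  exact Finset.sum_eq_single a (fun p hp hne => h0 p (List.mem_toFinset.1 hp) hne)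
    fun h => absurd (List.mem_toFinset.2 ha) h

theorem pair_key : ∀ i < 6, (∀ p ∈ pairL (qN (i ^^^ 1)), p.1 < 27 ∧ p.2 < 27 ∧
    (p = (8, qN i) ∨ p.1 ∉ fixL ∨ p.2 ∉ fixL)) ∧ (pairL (qN (i ^^^ 1))).Nodup ∧
    (8, qN i) ∈ pairL (qN (i ^^^ 1)) := by decide +kernel

theorem card_le_mul {G : Type*} [Group G] [Finite G] (H H' : Subgroup G) (s : Finset ℕ) (f : G → ℕ)
    (hf : ∀ a ∈ H, f a ∈ s) (hfib : ∀ a ∈ H, ∀ b ∈ H, f a = f b → b⁻¹ * a ∈ H') :
    Nat.card H ≤ s.card * Nat.card H' := by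
  classical
  have hex : ∀ a : H, f (Function.invFun (fun b : H => f (b : G)) (f (a : G)) : H) = f (a : G) := fun a =>
    Function.invFun_eq (f := fun b : H => f (b : G)) ⟨a, rfl⟩
  let Φ : H → ↥s × H' := fun a => (⟨f a, hf a a.2⟩,
    ⟨((Function.invFun (fun b : H => f (b : G)) (f (a : G)) : H) : G)⁻¹ * a,
      hfib a a.2 _ (Function.invFun (fun b : H => f (b : G)) (f (a : G))).2 (hex a).symm⟩)
  have hΦ : Function.Injective Φ := by
    intro a b h
    simp only [Φ, Prod.mk.injEq, Subtype.mk.injEq] at h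
    obtain ⟨h₁, h₂⟩ := h
    rw [h₁] at h₂
    exact Subtype.ext (mul_left_cancel h₂)
  refine (Nat.card_le_card_of_injective Φ hΦ).trans ?_
  rw [Nat.card_prod, Nat.card_eq_fintype_card (α := ↥s), Fintype.card_coe]

variable {K : Type*} [Field K] [CharP K 2]

/-- A bit as a field element. -/
def bb (b : Bool) : K := cond b 1 0

omit [CharP K 2] in
theorem bb_and (a b : Bool) : (bb a * bb b : K) = bb (a && b) := by cases a <;> cases b <;> simp [bb]

theorem bb_xor (a b : Bool) : (bb a + bb b : K) = bb (a ^^ b) := by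
  cases a <;> cases b <;> simp [bb, CharTwo.add_self_eq_zero]

omit [CharP K 2] in
theorem bb_inj {a b : Bool} (h : (bb a : K) = bb b) : a = b := by
  cases a <;> cases b <;> simp_all [bb]

omit [CharP K 2] in
theorem sgl_eq_bb {a : ℕ} {p : ℕ} (hp : p < 27) : (sgl a : I27 → K) (pt p) = bb (decide (p = a)) := by
  rw [sgl_pt hp]
  by_cases h : p = a <;> simp [bb, h]

variable {ω : Kˣ} (hω : ω ^ 3 = 1) (h1 : ω ≠ 1) [Fintype K] (hK : Fintype.card K = 4)
include hω h1 hK

omit hω h1 in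
/-- The entries in the row of the fixed vector. -/
theorem row_eight {y : GL I27 K} (hy : Cen ω y) (h8 : (y : Matrix I27 I27 K) *ᵥ sgl 8 = sgl 8) {a : ℕ}
    (ha : a < 27) : ent y 8 a = if a = 8 then 1 else 0 := by
  have hinv : ((y⁻¹ : GL I27 K) : Matrix I27 I27 K) *ᵥ sgl 8 = sgl 8 := by
    conv_lhs => rw [← h8]
    rw [Matrix.mulVec_mulVec, ← Units.val_mul, inv_mul_cancel, Units.val_one, Matrix.one_mulVec]
  obtain ⟨hp, hpp⟩ := piN_lt a ha
  have e := mulVec_sgl y⁻¹ (j := 8) (by norm_num) (piN a)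
  rw [hinv, hy.uni.entry hp (by norm_num), hpp, show piN 8 = 8 by decide +kernel, sgl_pt hp] at e
  have h8' : piN a = 8 ↔ a = 8 := (by decide +kernel : ∀ a < 27, (piN a = 8 ↔ a = 8)) a ha
  have e2 := congrArg (fun t => t ^ 2) e
  simp only [frob_frob hK] at e2
  rw [← e2]
  by_cases hh : a = 8
  · rw [if_pos hh, if_pos (h8'.2 hh), one_pow]
  · rw [if_neg hh, if_neg fun h => hh (h8'.1 h), zero_pow two_ne_zero]

omit hω h1 in
/-- The entries among the six vectors are zero or one. -/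
theorem entry_bit {y : GL I27 K} (hy : Cen ω y) (h8 : (y : Matrix I27 I27 K) *ᵥ sgl 8 = sgl 8) {i j : ℕ}
    (hi : i < 6) (hj : j < 6) : ∃ b : Bool, ent y (qN i) (qN j) = bb b := by
  obtain ⟨hqi, -, -, -, hi', hpi, -⟩ := qN_facts i hi
  obtain ⟨hqj, -, -, -, hj', -, hpj⟩ := qN_facts j hj
  have e := hy.rule hK h8 (k := qN i) (j := qN j) hqi hqj
  have h2 : thirdL 8 (piN (qN i)) = [qN i] := by
    rw [hpi, qN_third _ hi', show i ^^^ 1 ^^^ 1 = i by simp [Nat.xor_assoc]]
  rw [h2, qN_third j hj] at e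
  simp only [List.map_cons, List.map_nil, List.sum_cons, List.sum_nil, add_zero, hpj] at e
  have : ent y (qN i) (qN j) * (ent y (qN i) (qN j) - 1) = 0 := by linear_combination -e
  rcases mul_eq_zero.1 this with h | h
  · exact ⟨false, by rw [h]; rfl⟩
  · exact ⟨true, by rw [sub_eq_zero.1 h]; rfl⟩

omit hω h1 in
theorem code_exists {y : GL I27 K} (hy : Cen ω y) (h8 : (y : Matrix I27 I27 K) *ᵥ sgl 8 = sgl 8) {j : ℕ}
    (hj : j < 6) : ∃ c < 64, ∀ i < 6, ent y (qN i) (qN j) = bb (Nat.testBit c i) := by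
  choose b hb using fun i : Fin 6 => entry_bit hK hy h8 i.2 hj
  obtain ⟨⟨c, hc⟩, e0, e1, e2, e3, e4, e5⟩ := bits_exist (b 0) (b 1) (b 2) (b 3) (b 4) (b 5)
  refine ⟨c, hc, fun i hi => ?_⟩
  interval_cases i
  · rw [e0]; exact hb 0
  · rw [e1]; exact hb 1
  · rw [e2]; exact hb 2
  · rw [e3]; exact hb 3
  · rw [e4]; exact hb 4
  · rw [e5]; exact hb 5

/-- The image of a basis vector is determined by its code. -/
theorem col_code {y : GL I27 K} (hy : Cen ω y) (h8 : (y : Matrix I27 I27 K) *ᵥ sgl 8 = sgl 8) {j : ℕ}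
    (hj : j < 6) {c : ℕ} (hc : ∀ i < 6, ent y (qN i) (qN j) = bb (Nat.testBit c i)) {v : I27 → K}
    (hv8 : v (pt 8) = 0) (hv : ∀ i < 6, v (pt (qN i)) = bb (Nat.testBit c i))
    (hv0 : ∀ k < 27, k ∉ fixL → v (pt k) = 0) : (y : Matrix I27 I27 K) *ᵥ sgl (qN j) = v := by
  obtain ⟨hqj, hjf, -, hj8, -⟩ := qN_facts j hj
  refine col_eq hK hqj fun k hk => ?_
  by_cases hkf : k ∈ fixL
  · rcases fix_cases k hkf with rfl | ⟨i, hi, rfl⟩
    · rw [row_eight hK hy h8 hqj, if_neg hj8, hv8]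
    · rw [hc i hi, hv i hi]
  · rw [hy.fix_col hω h1 hK hk hkf hjf, hv0 k hk hkf]

theorem code_ne_zero {y : GL I27 K} (hy : Cen ω y) (h8 : (y : Matrix I27 I27 K) *ᵥ sgl 8 = sgl 8) {j : ℕ}
    (hj : j < 6) {c : ℕ} (hc : ∀ i < 6, ent y (qN i) (qN j) = bb (Nat.testBit c i)) : c ≠ 0 := by
  rintro rfl
  have h := col_code hω h1 hK hy h8 hj hc (v := 0) rfl (fun i _ => by simp [bb]) (fun _ _ _ => rfl)
  have h' := congrArg (fun v => ((y⁻¹ : GL I27 K) : Matrix I27 I27 K) *ᵥ v) h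
  simp only [Matrix.mulVec_mulVec, ← Units.val_mul, inv_mul_cancel, Units.val_one, Matrix.one_mulVec,
    Matrix.mulVec_zero] at h'
  have := congrFun h' (pt (qN j))
  rw [sgl_pt (qN_facts j hj).1, if_pos rfl] at this
  exact one_ne_zero this

theorem code_quad {y : GL I27 K} (hy : Cen ω y) (h8 : (y : Matrix I27 I27 K) *ᵥ sgl 8 = sgl 8) {j : ℕ}
    (hj : j < 6) {c : ℕ} (hc64 : c < 64) (hc : ∀ i < 6, ent y (qN i) (qN j) = bb (Nat.testBit c i)) :
    Nat.beq (quad c) 0 = true := by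
  obtain ⟨hqj, hjf, -⟩ := qN_facts j hj
  refine quad_bits c hc64 (bb_inj (K := K) ?_)
  have e := qd_map (three_le hK) hy.cubic (sgl (qN j)) (sgl 8)
  rw [h8, qd_sgl, qd_sgl, pair_eight] at e
  simp only [List.map_cons, List.map_nil, List.sum_cons, List.sum_nil, mulVec_sgl y hqj,
    sgl_pt (show 0 < 27 by norm_num), sgl_pt (show 4 < 27 by norm_num), sgl_pt (show 1 < 27 by norm_num),
    sgl_pt (show 3 < 27 by norm_num), sgl_pt (show 15 < 27 by norm_num), sgl_pt (show 20 < 27 by norm_num),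
    sgl_pt (show 16 < 27 by norm_num), sgl_pt (show 23 < 27 by norm_num), sgl_pt (show 17 < 27 by norm_num),
    sgl_pt (show 26 < 27 by norm_num)] at e
  rw [hy.fix_col hω h1 hK (show 0 < 27 by norm_num) (by decide) hjf,
    hy.fix_col hω h1 hK (show 1 < 27 by norm_num) (by decide) hjf] at e
  have h0 := hc 0 (by norm_num)
  have h1' := hc 1 (by norm_num)
  have h2 := hc 2 (by norm_num)
  have h3 := hc 3 (by norm_num)
  have h4 := hc 4 (by norm_num)
  have h5 := hc 5 (by norm_num)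
  simp only [show qN 0 = 16 from rfl, show qN 1 = 23 from rfl, show qN 2 = 17 from rfl, show qN 3 = 26 from rfl,
    show qN 4 = 15 from rfl, show qN 5 = 20 from rfl] at h0 h1' h2 h3 h4 h5
  rw [h0, h1', h2, h3, h4, h5, bb_and, bb_and, bb_and] at e
  rw [← bb_xor, ← bb_xor, show (bb false : K) = 0 from rfl]
  have hz : ∀ a b : ℕ, a ≠ b → ∀ p, ((if a = p then (1 : K) else 0) * if b = p then 1 else 0) = 0 := by
    intro a b hab p
    by_cases h : a = p
    · rw [if_neg (show ¬ b = p from fun h' => hab (h.trans h'.symm)), mul_zero]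
    · rw [if_neg h, zero_mul]
  rw [hz 0 4 (by norm_num), hz 1 3 (by norm_num), hz 15 20 (by norm_num), hz 16 23 (by norm_num),
    hz 17 26 (by norm_num)] at e
  linear_combination e

omit hω h1 in
theorem code_bil {y : GL I27 K} (hy : Cen ω y) (h8 : (y : Matrix I27 I27 K) *ᵥ sgl 8 = sgl 8) {j i : ℕ}
    (hj : j < 6) (hi : i < 6) (hfix : (y : Matrix I27 I27 K) *ᵥ sgl (qN i) = sgl (qN i)) {c : ℕ}
    (hc : ∀ l < 6, ent y (qN l) (qN j) = bb (Nat.testBit c l)) :
    Nat.testBit c (i ^^^ 1) = decide (j = i ^^^ 1) := by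
  obtain ⟨-, -, -, -, hi', -⟩ := qN_facts i hi
  refine bb_inj (K := K) ?_
  have e := tri_map (three_le hK) hy.cubic (sgl 8) (sgl (qN i)) (sgl (qN j))
  rw [h8, hfix, tri_sgl, tri_sgl, qN_third i hi] at e
  simp only [List.map_cons, List.map_nil, List.sum_cons, List.sum_nil, add_zero,
    mulVec_sgl y (qN_facts j hj).1] at e
  rw [← hc _ hi', e, sgl_eq_bb (qN_facts _ hi').1]
  have : (qN (i ^^^ 1) = qN j) ↔ (j = i ^^^ 1) :=
    ⟨fun h => (qN_inj _ hi' j hj h).symm, fun h => by rw [h]⟩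
  rw [decide_eq_decide.2 this]

omit hω h1 hK in
/-- The isometries fixing the eighth vector and the first `k` of the six. -/
def stab (ω : Kˣ) (hK : Fintype.card K = 4) (k : ℕ) : Subgroup (GL I27 K) where
  carrier := {y | Cen ω y ∧ (y : Matrix I27 I27 K) *ᵥ sgl 8 = sgl 8 ∧
    ∀ i < k, (y : Matrix I27 I27 K) *ᵥ sgl (qN i) = sgl (qN i)}
  one_mem' := ⟨⟨Uni.one, one_mem _, by simp⟩, by simp, fun i _ => by simp⟩
  mul_mem' {a b} ha hb := ⟨ha.1.mul hb.1,
    by rw [Units.val_mul, ← Matrix.mulVec_mulVec, hb.2.1, ha.2.1],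
    fun i hi => by rw [Units.val_mul, ← Matrix.mulVec_mulVec, hb.2.2 i hi, ha.2.2 i hi]⟩
  inv_mem' {a} ha := by
    have e : ∀ v : I27 → K, (a : Matrix I27 I27 K) *ᵥ v = v →
        ((a⁻¹ : GL I27 K) : Matrix I27 I27 K) *ᵥ v = v := fun v hv => by
      conv_lhs => rw [← hv]
      rw [Matrix.mulVec_mulVec, ← Units.val_mul, inv_mul_cancel, Units.val_one, Matrix.one_mulVec]
    exact ⟨ha.1.inv hK, e _ ha.2.1, fun i hi => e _ (ha.2.2 i hi)⟩

/-- The code of a column. -/
noncomputable def code (y : GL I27 K) (j : ℕ) : ℕ :=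
  Classical.epsilon fun c => c < 64 ∧ ∀ i < 6, ent y (qN i) (qN j) = bb (Nat.testBit c i)

theorem code_spec {y : GL I27 K} {k : ℕ} (hy : y ∈ stab ω hK k) {j : ℕ} (hj : j < 6) :
    code y j < 64 ∧ ∀ i < 6, ent y (qN i) (qN j) = bb (Nat.testBit (code y j) i) :=
  Classical.epsilon_spec (p := fun c => c < 64 ∧ ∀ i < 6, ent y (qN i) (qN j) = bb (Nat.testBit c i))
    (code_exists hK hy.1 hy.2.1 hj)

theorem code_img {y : GL I27 K} {k : ℕ} (hy : y ∈ stab ω hK k) (hk : k < 6) : code y k ∈ imgL k := by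
  obtain ⟨h64, hc⟩ := code_spec hω h1 hK hy hk
  rw [imgL, List.mem_filter, upto_eq, List.mem_range]
  refine ⟨h64, ?_⟩
  simp only [Bool.and_eq_true, Bool.not_eq_true', allR_eq, List.all_eq_true, upto_eq, List.mem_range]
  refine ⟨⟨?_, code_quad hω h1 hK hy.1 hy.2.1 hk h64 hc⟩, fun i hi => ?_⟩
  · rw [← Bool.not_eq_true, Nat.beq_eq]
    exact code_ne_zero hω h1 hK hy.1 hy.2.1 hk hc
  · exact bil_bits _ h64 k hk i (by omega)
      (code_bil hK hy.1 hy.2.1 hk (by omega) (hy.2.2 i hi) hc)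

theorem code_step {y z : GL I27 K} {k : ℕ} (hk : k < 6) (hy : y ∈ stab ω hK k) (hz : z ∈ stab ω hK k)
    (h : code y k = code z k) : z⁻¹ * y ∈ stab ω hK (k + 1) := by
  have hw := mul_mem (inv_mem hz) hy
  refine ⟨hw.1, hw.2.1, fun i hi => ?_⟩
  rcases Nat.lt_succ_iff_lt_or_eq.1 hi with hi | rfl
  · exact hw.2.2 i hi
  obtain ⟨hqk, hkf, -, hk8, -⟩ := qN_facts i hk
  have e : (y : Matrix I27 I27 K) *ᵥ sgl (qN i) = (z : Matrix I27 I27 K) *ᵥ sgl (qN i) := by
    refine col_code hω h1 hK hy.1 hy.2.1 hk (code_spec hω h1 hK hy hk).2 ?_ ?_ ?_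
    · rw [mulVec_sgl z hqk, row_eight hK hz.1 hz.2.1 hqk, if_neg hk8]
    · intro l hl
      rw [mulVec_sgl z hqk, (code_spec hω h1 hK hz hk).2 l hl, h]
    · intro l hl hlf
      rw [mulVec_sgl z hqk, hz.1.fix_col hω h1 hK hl hlf hkf]
  rw [Units.val_mul, ← Matrix.mulVec_mulVec, e, Matrix.mulVec_mulVec, ← Units.val_mul, inv_mul_cancel,
    Units.val_one, Matrix.one_mulVec]

theorem stab_card_step {k : ℕ} (hk : k < 6) :
    Nat.card (stab ω hK k) ≤ (imgL k).length * Nat.card (stab ω hK (k + 1)) :=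
  (card_le_mul _ _ (imgL k).toFinset (fun y => code y k)
      (fun a ha => List.mem_toFinset.2 (code_img hω h1 hK ha hk))
      (fun a ha b hb h => code_step hω h1 hK hk ha hb h)).trans
    (Nat.mul_le_mul_right _ (List.toFinset_card_le _))

/-- An isometry fixing four of the six vectors fixes the other two. -/
theorem stab_four {y : GL I27 K} (hy : y ∈ stab ω hK 4) :
    ∀ a ∈ qL, (y : Matrix I27 I27 K) *ᵥ sgl a = sgl a := by
  have hcase : ∀ j < 6, 4 ≤ j → (y : Matrix I27 I27 K) *ᵥ sgl (qN j) = sgl (qN 4) ∨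
      (y : Matrix I27 I27 K) *ᵥ sgl (qN j) = sgl (qN 5) := by
    intro j hj h4
    obtain ⟨c, h64, hc⟩ := code_exists hK hy.1 hy.2.1 hj
    rcases four_cases c h64 j hj h4 (code_ne_zero hω h1 hK hy.1 hy.2.1 hj hc)
        (code_quad hω h1 hK hy.1 hy.2.1 hj h64 hc)
        (fun i hi => code_bil hK hy.1 hy.2.1 hj (by omega) (hy.2.2 i hi) hc) with rfl | rfl
    · left
      refine col_code hω h1 hK hy.1 hy.2.1 hj hc (by rw [sgl_pt (by norm_num), if_neg (by decide)])
        (fun i hi => ?_) (fun k hk hkf => by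
          rw [sgl_pt hk, if_neg]; rintro rfl; exact hkf (qN_facts 4 (by norm_num)).2.1)
      rw [(sixteen_bits i hi).1, sgl_eq_bb (qN_facts i hi).1]
      exact congrArg bb (decide_eq_decide.2 ⟨fun h => qN_inj i hi 4 (by norm_num) h, fun h => by rw [h]⟩)
    · right
      refine col_code hω h1 hK hy.1 hy.2.1 hj hc (by rw [sgl_pt (by norm_num), if_neg (by decide)])
        (fun i hi => ?_) (fun k hk hkf => by
          rw [sgl_pt hk, if_neg]; rintro rfl; exact hkf (qN_facts 5 (by norm_num)).2.1)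
      rw [(sixteen_bits i hi).2, sgl_eq_bb (qN_facts i hi).1]
      exact congrArg bb (decide_eq_decide.2 ⟨fun h => qN_inj i hi 5 (by norm_num) h, fun h => by rw [h]⟩)
  have hne : (y : Matrix I27 I27 K) *ᵥ sgl (qN 4) ≠ (y : Matrix I27 I27 K) *ᵥ sgl (qN 5) := by
    intro e
    have e' := congrFun (congrArg (fun v => ((y⁻¹ : GL I27 K) : Matrix I27 I27 K) *ᵥ v) e) (pt (qN 4))
    simp only [Matrix.mulVec_mulVec, ← Units.val_mul, inv_mul_cancel, Units.val_one, Matrix.one_mulVec] at e'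
    rw [sgl_pt (by decide), sgl_pt (by decide), if_pos rfl, if_neg (by decide)] at e'
    exact one_ne_zero e'
  intro a ha
  obtain ⟨i, hi, rfl⟩ := qL_cases a ha
  rcases Nat.lt_or_ge i 4 with hi4 | hi4
  · exact hy.2.2 i hi4
  rcases hcase 4 (by norm_num) le_rfl with e4 | e4
  · have e5 := (hcase 5 (by norm_num) (by norm_num)).resolve_left fun h => hne (e4.trans h.symm)
    interval_cases i <;> assumption
  · exfalso
    have e5 := (hcase 5 (by norm_num) (by norm_num)).resolve_right fun h => hne (e4.trans h.symm)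
    obtain ⟨n, hn, -⟩ := cand_mem hω h1 hK hy.1 swp (fun a ha => by
      obtain ⟨i, hi, rfl⟩ := qL_cases a ha
      rcases Nat.lt_or_ge i 4 with hi4 | hi4
      · rw [swp_qL.2.2 i hi4]; exact hy.2.2 i hi4
      · interval_cases i
        · rw [swp_qL.1]; exact e4
        · rw [swp_qL.2.1]; exact e5) sw_items sw_cover sw_used
    rw [sw_cand] at hn
    exact List.not_mem_nil hn

/-- An isometry fixing the seven vectors and sixteen further ones is trivial. -/
theorem eq_one_of_big {w : GL I27 K} (hw : Cen ω w)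
    (hcol : ∀ a, a ∈ fixL ∨ a ∈ bigL → (w : Matrix I27 I27 K) *ᵥ sgl a = sgl a) : w = 1 := by
  refine eq_one_of_cols hK fun a ha => ?_
  by_cases hab : a ∈ fixL ∨ a ∈ bigL
  · exact hcol a hab
  obtain ⟨b, p, q, hb, hp, hq, hbl, rfl⟩ : ∃ b p q, b < 27 ∧ (p ∈ bigL ∧ p < 27) ∧ (q ∈ bigL ∧ q < 27) ∧
      thirdL p q = [b] ∧ a = piN b := by
    have key : ∀ a < 27, (a ∈ fixL ∨ a ∈ bigL) ∨ ∃ e ∈ restL, e.1 < 27 ∧ (e.2.1 ∈ bigL ∧ e.2.1 < 27) ∧
        (e.2.2 ∈ bigL ∧ e.2.2 < 27) ∧ thirdL e.2.1 e.2.2 = [e.1] ∧ a = piN e.1 := by decide +kernel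
    obtain ⟨e, -, h⟩ := (key a ha).resolve_left hab
    exact ⟨_, _, _, h⟩
  refine col_eq hK ha fun k hk => ?_
  have h1' : Cen ω (1 : GL I27 K) := ⟨Uni.one, one_mem _, by simp⟩
  have e1 := hw.rule hK (hcol p (Or.inr hp.1)) (k := k) (j := q) hk hq.2
  have e2 := h1'.rule hK (a := p) (a' := p) (by simp) (k := k) (j := q) hk hq.2
  have hL : ((thirdL p (piN k)).map fun c => ent w c q) = (thirdL p (piN k)).map fun c => ent (1 : GL I27 K) c q :=
    List.map_congr_left fun c _ => by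
      rw [← mulVec_sgl w hq.2, ← mulVec_sgl (1 : GL I27 K) hq.2, hcol q (Or.inr hq.1), Units.val_one,
        Matrix.one_mulVec]
  rw [hbl] at e1 e2
  rw [hL, e2] at e1
  simp only [List.map_cons, List.map_nil, List.sum_cons, List.sum_nil, add_zero] at e1
  have e3 := congrArg (fun t => t ^ 2) e1
  simp only [frob_frob hK] at e3
  rw [← e3, ← mulVec_sgl (1 : GL I27 K) ha, Units.val_one, Matrix.one_mulVec]

theorem stab_four_card : Nat.card (stab ω hK 4) ≤ 5 := by
  classical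
  obtain ⟨C, hC⟩ : ∃ C, C = candL idTVal := ⟨_, rfl⟩
  have hex : ∀ y ∈ stab ω hK 4, ∃ n ∈ C, ∀ k < 27, ∀ l < 27, idTVal.getD (k * 27 + l) 99 ≠ 99 →
      ent y k l = evv (fun i => cv ω (n / 4 ^ i % 4)) (idTVal.getD (k * 27 + l) 99) := fun y hy => by
    rw [hC]
    exact cand_mem hω h1 hK hy.1 (fun a => a) (stab_four hω h1 hK hy) id_items id_cover id_used
  let f : GL I27 K → ℕ := fun y => if h : y ∈ stab ω hK 4 then Classical.choose (hex y h) else 0
  have h := card_le_mul (stab ω hK 4) ⊥ C.toFinset f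
    (fun y hy => by
      simp only [f, dif_pos hy, List.mem_toFinset]
      exact (Classical.choose_spec (hex y hy)).1) ?_
  · rw [Subgroup.card_bot, mul_one] at h
    exact h.trans ((List.toFinset_card_le _).trans (hC ▸ id_cand))
  intro a ha b hb hab
  simp only [f, dif_pos ha, dif_pos hb] at hab
  rw [Subgroup.mem_bot]
  have hw := mul_mem (inv_mem hb) ha
  refine eq_one_of_big hω h1 hK hw.1 ?_
  intro c hc
  rcases hc with hc | hc
  · rcases fix_cases c hc with rfl | ⟨i, hi, rfl⟩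
    · exact hw.2.1
    · exact stab_four hω h1 hK hw _ (qN_facts i hi).2.2.1
  have hc27 : c < 27 := (by decide : ∀ c ∈ bigL, c < 27) c hc
  have e : (a : Matrix I27 I27 K) *ᵥ sgl c = (b : Matrix I27 I27 K) *ᵥ sgl c := by
    refine col_eq hK hc27 fun k hk => ?_
    rw [mulVec_sgl b hc27]
    by_cases hkf : k ∈ fixL
    · have hcf : c ∉ fixL := (by decide : ∀ c ∈ bigL, c ∉ fixL) c hc
      rw [ha.1.fix_row hω h1 hK hc27 hcf hkf, hb.1.fix_row hω h1 hK hc27 hcf hkf]
    · have hv : idTVal.getD (k * 27 + c) 99 ≠ 99 := by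
        have h := id_cover
        simp only [coverOK, Bool.and_eq_true] at h
        have h' := allR_upto (allR_true h.2 hc) hk
        intro e
        rw [e, show memN k fixL = false by simpa [← Bool.not_eq_true, memN_iff] using hkf] at h'
        simp [Nat.beq_eq] at h'
      rw [(Classical.choose_spec (hex a ha)).2 k hk c hc27 hv,
        (Classical.choose_spec (hex b hb)).2 k hk c hc27 hv, hab]
  rw [Units.val_mul, ← Matrix.mulVec_mulVec, e, Matrix.mulVec_mulVec, ← Units.val_mul, inv_mul_cancel,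
    Units.val_one, Matrix.one_mulVec]

theorem stab_zero_card : Nat.card (stab ω hK 0) ≤ 100800 := by
  have h0 := stab_card_step hω h1 hK (show 0 < 6 by norm_num)
  have h1' := stab_card_step hω h1 hK (show 1 < 6 by norm_num)
  have h2 := stab_card_step hω h1 hK (show 2 < 6 by norm_num)
  have h3 := stab_card_step hω h1 hK (show 3 < 6 by norm_num)
  obtain ⟨c0, c1, c2, c3, -⟩ := img_card
  rw [c0] at h0
  rw [c1] at h1'
  rw [c2] at h2
  rw [c3] at h3
  have h4 := stab_four_card hω h1 hK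
  simp only [zero_add, show 1 + 1 = 2 from rfl, show 2 + 1 = 3 from rfl, show 3 + 1 = 4 from rfl] at h0 h1' h2 h3
  nlinarith

/-! ### From the twisted group to the stabiliser -/

omit hω h1 hK [Fintype K] [CharP K 2] in
/-- A scalar matrix. -/
noncomputable def scU (c : Kˣ) : GL I27 K := Units.map (Matrix.scalar I27 : K →+* Matrix I27 I27 K).toMonoidHom c

omit hω h1 hK [Fintype K] [CharP K 2] in
theorem scU_val (c : Kˣ) : (scU c : Matrix I27 I27 K) = (c : K) • 1 := by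
  simp [scU, Matrix.smul_one_eq_diagonal]

omit hω h1 in
theorem cube_eq_one {c : K} (hc : c ≠ 0) : c ^ 3 = 1 := by
  have := FiniteField.pow_card_sub_one_eq_one c hc
  rwa [hK] at this

omit hω h1 in
theorem cen_scU (c : Kˣ) : Cen ω (scU c) := by
  have h3 : c ^ 3 = 1 := Units.ext (by rw [Units.val_pow_eq_pow_val, cube_eq_one hK c.ne_zero, Units.val_one])
  have hinv : c⁻¹ = c ^ 2 := inv_eq_of_mul_eq_one_right (by rw [← pow_succ', h3])
  refine ⟨fun i k => ?_, fun v => ?_, (IsScal.comm ⟨_, scU_val c⟩ _)⟩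
  · rw [show (scU c)⁻¹ = scU c⁻¹ from (map_inv _ c).symm, scU_val, scU_val, hinv, Units.val_pow_eq_pow_val,
      Matrix.smul_apply, Matrix.smul_apply, Matrix.one_apply, Matrix.one_apply, smul_eq_mul, smul_eq_mul]
    have hh : piI k = piI i ↔ i = k := ⟨fun e => by rw [← piI_piI i, ← e, piI_piI], fun e => by rw [e]⟩
    by_cases e : i = k
    · rw [if_pos e, if_pos (hh.2 e), mul_one, mul_one]
    · rw [if_neg e, if_neg fun e' => e (hh.1 e'), mul_zero, mul_zero, zero_pow two_ne_zero]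
  · show cubicT ((scU c : Matrix I27 I27 K) *ᵥ v) = cubicT v
    rw [scU_val, Matrix.smul_mulVec, Matrix.one_mulVec, cubic_eq, cubic_eq, ← one_mul (ev3 _ monT),
      ← cube_eq_one hK c.ne_zero, ev3_smul]
    refine congrArg (fun f => ev3 f monT) (funext₃ fun a b d => ?_)
    simp only [Pi.smul_apply, smul_eq_mul]
    have h6 : (c : K) ^ 6 = 1 := by rw [show 6 = 3 * 2 from rfl, pow_mul, cube_eq_one hK c.ne_zero, one_pow]
    linear_combination (v (pt a) * v (pt b) * v (pt d)) * h6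

theorem col_eight {y : GL I27 K} (hy : Cen ω y) :
    ∃ s : Kˣ, (y : Matrix I27 I27 K) *ᵥ sgl 8 = (s : K) • sgl 8 := by
  have h8f : 8 ∈ fixL := by decide
  obtain ⟨v, hv⟩ : ∃ v, v = (y : Matrix I27 I27 K) *ᵥ sgl 8 := ⟨_, rfl⟩
  have hv0 : ∀ k < 27, k ∉ fixL → v (pt k) = 0 := fun k hk hkf => by
    rw [hv, mulVec_sgl y (by norm_num), hy.fix_col hω h1 hK hk hkf h8f]
  have hq : ∀ z, qd v z = 0 := fun z => by
    have h := qd_map (three_le hK) hy.cubic (sgl 8) (((y⁻¹ : GL I27 K) : Matrix I27 I27 K) *ᵥ z)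
    rw [Matrix.mulVec_mulVec, ← Units.val_mul, mul_inv_cancel, Units.val_one, Matrix.one_mulVec, qd_eight,
      ← hv] at h
    exact h
  have hprod : ∀ i < 6, v (pt 8) * v (pt (qN i)) = 0 := by
    intro i hi
    obtain ⟨-, -, -, -, hi', -⟩ := qN_facts i hi
    have h := hq (sgl (qN (i ^^^ 1)))
    rw [qd_sgl] at h
    rw [sum_map_single (a := (8, qN i)) _ (pair_key i hi).2.1 (pair_key i hi).2.2 fun p hp hne => by
      obtain ⟨hp1, hp2, e | e | e⟩ := (pair_key i hi).1 p hp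
      · exact absurd e hne
      · rw [hv0 _ hp1 e, zero_mul]
      · rw [hv0 _ hp2 e, mul_zero]] at h
    exact h
  by_cases h8 : v (pt 8) = 0
  · exfalso
    have hcol : ∀ j < 6, ∀ i < 6, ent y (qN i) (qN j) = (v (pt (qN i)) * ent y 8 (qN j)) ^ 2 := by
      intro j hj i hi
      obtain ⟨hqi, -, -, -, hi', hpi, -⟩ := qN_facts i hi
      obtain ⟨hqj, hjf, -, -, hj', -, hpj⟩ := qN_facts j hj
      have e := hy.rule_gen hK (sgl 8) hqi hqj
      rw [← hv, tri_sgl, qN_third j hj, tri_comm', tri_sgl'] at e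
      simp only [List.map_cons, List.map_nil, List.sum_cons, List.sum_nil, add_zero,
        hy.inv_col hK hqi (qN_facts _ hj').1, hpj, mulVec_sgl y hqj] at e
      rw [hpi] at e
      rw [sum_map_single (a := (8, qN i)) _ (pair_key i hi).2.1 (pair_key i hi).2.2 fun p hp hne => by
        obtain ⟨hp1, hp2, e' | e' | e'⟩ := (pair_key i hi).1 p hp
        · exact absurd e' hne
        · rw [hv0 _ hp1 e', hy.fix_col hω h1 hK hp1 e' hjf, zero_mul, zero_mul, add_zero]
        · rw [hv0 _ hp2 e', hy.fix_col hω h1 hK hp2 e' hjf, mul_zero, mul_zero, add_zero]] at e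
      simp only [h8, zero_mul, zero_add] at e
      rw [mul_comm (v (pt (qN i))), e, frob_frob hK]
    obtain ⟨a, b, hab, he⟩ := Fintype.exists_ne_map_eq_of_card_lt
      (fun j : Fin 6 => ent y 8 (qN j)) (by rw [hK, Fintype.card_fin]; norm_num)
    obtain ⟨hqa, haf, -⟩ := qN_facts a a.2
    obtain ⟨hqb, hbf, -⟩ := qN_facts b b.2
    have e : (y : Matrix I27 I27 K) *ᵥ sgl (qN a) = (y : Matrix I27 I27 K) *ᵥ sgl (qN b) := by
      refine col_eq hK hqa fun k hk => ?_
      rw [mulVec_sgl y hqb]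
      by_cases hkf : k ∈ fixL
      · rcases fix_cases k hkf with rfl | ⟨i, hi, rfl⟩
        · exact he
        · rw [hcol a a.2 i hi, hcol b b.2 i hi, he]
      · rw [hy.fix_col hω h1 hK hk hkf haf, hy.fix_col hω h1 hK hk hkf hbf]
    have e' := congrFun (congrArg (fun v => ((y⁻¹ : GL I27 K) : Matrix I27 I27 K) *ᵥ v) e) (pt (qN a))
    simp only [Matrix.mulVec_mulVec, ← Units.val_mul, inv_mul_cancel, Units.val_one, Matrix.one_mulVec] at e'
    rw [sgl_pt hqa, sgl_pt hqa, if_pos rfl,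
      if_neg fun h => hab (Fin.ext (qN_inj a a.2 b b.2 h))] at e'
    exact one_ne_zero e'
  · refine ⟨Units.mk0 _ h8, ?_⟩
    rw [← hv, Units.val_mk0]
    funext i
    rw [← pt_e i, Pi.smul_apply, smul_eq_mul, sgl_pt (num27.lt i)]
    by_cases hkf : num27.e i ∈ fixL
    · rcases fix_cases _ hkf with h | ⟨l, hl, h⟩
      · rw [h, if_pos rfl, mul_one]
      · rw [h, if_neg (qN_facts l hl).2.2.2.1, mul_zero]
        exact (mul_eq_zero.1 (hprod l hl)).resolve_left h8
    · rw [hv0 _ (num27.lt i) hkf, if_neg (show ¬ num27.e i = 8 from fun h => hkf (by rw [h]; exact h8f)), mul_zero]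

omit hω h1 hK [Fintype K] in
theorem IsScal.inv {z : GL I27 K} (h : IsScal z) : IsScal z⁻¹ := by
  obtain ⟨c, hc⟩ := h
  have hz := z.mul_inv
  rw [hc, smul_mul_assoc, one_mul] at hz
  have h0 : c ≠ 0 := by
    rintro rfl
    rw [zero_smul] at hz
    have := congrFun (congrFun hz (pt 0)) (pt 0)
    simp at this
  exact ⟨c⁻¹, by rw [← hz, inv_smul_smul₀ h0]⟩

theorem lift_cen {g : GL chevE6.Idx K} (hg : g ∈ twistedE6 K 2) (hc : g * xA ω = xA ω * g) :
    ∃ y, (y, g) ∈ Gam K ∧ ∃ y', y' ∈ stab ω hK 0 ∧ IsScal (y' * y⁻¹) := by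
  obtain ⟨y, hy, hu⟩ := exists_lift hω h1 hK hg
  have hm := mul_mem (mul_mem (mul_mem hy (xpair_mem (ω := ω))) (inv_mem hy)) (inv_mem (xpair_mem (ω := ω)))
  rw [show ((y, g) * (xU ω, xA ω) * (y, g)⁻¹ * (xU ω, xA ω)⁻¹ : GL I27 K × GL chevE6.Idx K) =
    (y * xU ω * y⁻¹ * (xU ω)⁻¹, g * xA ω * g⁻¹ * (xA ω)⁻¹) from rfl,
    show g * xA ω * g⁻¹ * (xA ω)⁻¹ = 1 by rw [hc]; group] at hm
  obtain ⟨c, hcs⟩ := gam_scalar hm
  have hconj : ((y * xU ω * y⁻¹ : GL I27 K) : Matrix I27 I27 K) = c • (xU ω : Matrix I27 I27 K) := by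
    have := congrArg (fun z => z * (xU ω : Matrix I27 I27 K)) hcs
    simp only [← Units.val_mul, inv_mul_cancel_right] at this
    rw [this, smul_mul_assoc, one_mul]
  have h5 : c ^ 5 = 1 := by
    have e : (y * xU ω * y⁻¹) ^ 5 = 1 := by rw [conj_pow, xU_pow hω h1]; group
    have e' := congrArg (fun z : GL I27 K => (z : Matrix I27 I27 K)) e
    simp only [Units.val_pow_eq_pow_val, hconj, smul_pow, Units.val_one] at e'
    rw [← Units.val_pow_eq_pow_val, xU_pow hω h1, Units.val_one] at e'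
    have := congrFun (congrFun e' (pt 0)) (pt 0)
    simpa using this
  have hc0 : c ≠ 0 := by rintro rfl; simp at h5
  have hc1 : c = 1 := by
    have h3 := cube_eq_one hK hc0
    calc c = c ^ 5 * c := by rw [h5, one_mul]
      _ = (c ^ 3) ^ 2 := by ring
      _ = 1 := by rw [h3, one_pow]
  have hcen : Cen ω y := by
    refine ⟨hu, gam_univ (p := (y, g)) hy, ?_⟩
    have e : y * xU ω * y⁻¹ = xU ω := Units.ext (by rw [hconj, hc1, one_smul])
    calc y * xU ω = y * xU ω * y⁻¹ * y := by group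
      _ = xU ω * y := by rw [e]
  obtain ⟨s, hs⟩ := col_eight hω h1 hK hcen
  refine ⟨y, hy, scU s⁻¹ * y, ⟨(cen_scU hK _).mul hcen, ?_, fun i hi => absurd hi (Nat.not_lt_zero i)⟩, ?_⟩
  · rw [Units.val_mul, ← Matrix.mulVec_mulVec, hs, scU_val, Matrix.mulVec_smul, Matrix.smul_mulVec,
      Matrix.one_mulVec, smul_smul, ← Units.val_mul, mul_inv_cancel, Units.val_one, one_smul]
  · rw [mul_inv_cancel_right]; exact ⟨_, scU_val _⟩

omit hω h1 hK in
/-- The element of order five inside the twisted group. -/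
noncomputable def xT (hω : ω ^ 3 = 1) (h1 : ω ≠ 1) : ↥(twistedE6 K 2) := ⟨xA ω, xA_twisted hω h1⟩

/-- The centraliser of the element of order five has order at most 100800. -/
theorem card_centralizer_le :
    Nat.card (Subgroup.centralizer ({xT hω h1} : Set ↥(twistedE6 K 2))) ≤ 100800 := by
  classical
  have hex : ∀ g : Subgroup.centralizer ({xT hω h1} : Set ↥(twistedE6 K 2)),
      ∃ y, (y, ((g : ↥(twistedE6 K 2)) : GL chevE6.Idx K)) ∈ Gam K ∧ ∃ y', y' ∈ stab ω hK 0 ∧ IsScal (y' * y⁻¹) :=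
    fun g => lift_cen hω h1 hK g.1.2
      (congrArg Subtype.val (Subgroup.mem_centralizer_singleton_iff.1 g.2))
  choose y hy y' hy' hs using hex
  refine le_trans (Nat.card_le_card_of_injective (fun g => (⟨y' g, hy' g⟩ : stab ω hK 0)) ?_)
    (stab_zero_card hω h1 hK)
  intro a b h
  have h' : y' a = y' b := congrArg Subtype.val h
  have hsc : IsScal (y a * (y b)⁻¹) := by
    have := (IsScal.inv (hs a)).mul (hs b)
    rw [show y a * (y b)⁻¹ = (y' a * (y a)⁻¹)⁻¹ * (y' b * (y b)⁻¹) by rw [h']; group]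
    exact this
  have hg := gam_scalar_trivial hsc (mul_mem (hy a) (inv_mem (hy b)))
  exact Subtype.ext (Subtype.ext (mul_inv_eq_one.1 hg))

end CfsgLib.Chev.TwE6Five
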