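import Cfsg.Agent.Lib.Chev.TwE6FiveData
import Cfsg.Agent.Lib.Chev.E6FiChecks

/-!
Checks for the elements of order five of the twisted group of type E6 over the field with four elements.
-/

set_option autoImplicit false
set_option maxRecDepth 100000

namespace CfsgLib.Chev.TwE6Five

open CfsgLib.Chev CfsgLib.Chev.E6C CfsgLib.Chev.FiInE6 CfsgLib.InvChar.Coset

/-- The permutation of the 27 coordinates pairing the representation with its conjugate dual. -/
def piT : List ℕ :=
  [0, 3, 6, 1, 4, 7, 2, 5, 8, 18, 21, 24, 19, 22, 25, 20, 23, 26, 9, 12, 15, 10, 13, 16, 11, 14, 17]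

/-- The pairing. -/
noncomputable def piN (i : ℕ) : ℕ := piT.getD i 0

/-- The coordinates of the fixed space. -/
def fixL : List ℕ := [8, 15, 16, 17, 20, 23, 26]

/-- An ordered basis of the six-dimensional part. -/
def qL : List ℕ := [16, 23, 17, 26, 15, 20]

/-- The four remaining coordinates of the ten-dimensional part, each with a pair determining it. -/
def restL : List (ℕ × ℕ × ℕ) := [(0, 9, 18), (1, 12, 18), (3, 9, 19), (4, 12, 19)]

/-- The sixteen coordinates. -/
def bigL : List ℕ := [2, 5, 6, 7, 9, 10, 11, 12, 13, 14, 18, 19, 21, 22, 24, 25]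

/-- Membership. -/
noncomputable def memN (i : ℕ) (L : List ℕ) : Bool := List.rec false (fun a _ ih => Nat.beq a i || ih) L

/-- The contribution of one ordered monomial. -/
noncomputable def pick (a b p q r : ℕ) : List ℕ := bif Nat.beq p a && Nat.beq q b then [r] else []

/-- The third coordinates completing two given ones. -/
noncomputable def thirdL (a b : ℕ) : List ℕ :=
  monT.flatMap fun m =>
    pick a b m.2.1 m.2.2.1 m.2.2.2 ++ pick a b m.2.1 m.2.2.2 m.2.2.1 ++
    pick a b m.2.2.1 m.2.1 m.2.2.2 ++ pick a b m.2.2.1 m.2.2.2 m.2.1 ++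
    pick a b m.2.2.2 m.2.1 m.2.2.1 ++ pick a b m.2.2.2 m.2.2.1 m.2.1

/-- The pairs completing a given coordinate. -/
noncomputable def pairL (c : ℕ) : List (ℕ × ℕ) :=
  monT.flatMap fun m =>
    (bif Nat.beq m.2.2.2 c then [(m.2.1, m.2.2.1)] else []) ++
    (bif Nat.beq m.2.2.1 c then [(m.2.1, m.2.2.2)] else []) ++
    (bif Nat.beq m.2.1 c then [(m.2.2.1, m.2.2.2)] else [])

/-! ### Generators -/

/-- The square of a code. -/
def sqc : ℕ → ℕ
  | 0 => 0
  | 1 => 1
  | 2 => 3
  | _ => 2

/-- A generator is an involution whose transposed conjugate, permuted, is itself. -/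
noncomputable def uniOK (G : PM) : Bool :=
  eqM (mulM G G) (scM 1) &&
    allR (fun i => allR (fun j => Nat.beq (cd (row G i) j) (sqc (cd (row G (piN j)) (piN i)))) (upto 27))
      (upto 27)

/-- Words of root elements generating the twisted group, as matrices. -/
noncomputable def rootsOK : Bool :=
  allR (fun r => allR (fun t => uniOK (prodE [(r, t)])) [0, 1]) [46, 25, 39, 32] &&
    allR (fun rs => allR (fun t => uniOK (prodE [(rs.1, t), (rs.2, sqc t)])) [0, 1, 2, 3])
      [(56, 36), (15, 35), (42, 37), (29, 34)]

/-- Evaluate all entries of a matrix, then continue. -/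
noncomputable def forceM {α : Type} (M : PM) : (PM → α) → α :=
  List.rec (fun k => k []) (fun r _ ih k =>
    force r.1 fun a => force r.2 fun b => ih fun R => k ((a, b) :: R)) M

/-- A product of matrices from a table along a word. -/
noncomputable def prodK (tbl : ℕ → PM) (L : List ℕ) : PM → PM :=
  List.rec (fun cur => cur) (fun x _ ih cur => forceM (mulM cur (tbl x)) ih) L

/-- The element of order five and its properties. -/
noncomputable def xOK : Bool :=
  eqM (prodK gTbl [6, 5] (scM 1)) xMat && uniOK (gTbl 6) && uniOK (gTbl 5) &&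
    eqM (prodK (fun _ => xMat) (List.replicate 5 0) (scM 1)) (scM 1) &&
    eqM (mulM pMat (addM xMat (scM 1))) projMat &&
    allR (fun k => Nat.beq (row projMat k).2 0 &&
      Nat.beq (row projMat k).1 (bif memN k fixL then 0 else 2 ^ k)) (upto 27) &&
    allR (fun k => allR (fun j => Nat.beq (cd (row xMat k) j) (bif Nat.beq k j then 1 else 0)) fixL) (upto 27)

/-- The six matrices satisfy the relations and centralise the element of order five. -/
noncomputable def altOK : Bool :=
  allR (fun i => eqM (prodK gTbl (altT.getD i []) (scM 1)) (altM.getD i []) &&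
    allR (fun k => Nat.blt k 12) (altT.getD i []) &&
    eqM (mulM (altM.getD i []) xMat) (mulM xMat (altM.getD i [])) &&
    eqM (prodK (fun _ => altM.getD i []) (List.replicate (bif Nat.beq i 0 then 3 else 2) 0) (scM 1))
      (scM 1) &&
    allR (fun j => bif Nat.blt i j then
      eqM (prodK (fun _ => mulM (altM.getD i []) (altM.getD j []))
        (List.replicate (bif Nat.beq j (i + 1) then 3 else 2) 0) (scM 1)) (scM 1)
      else true) (upto 6)) (upto 6)

/-- One fusion relation in the Fischer subgroup. -/
noncomputable def fusOK (n : ℕ) : Bool :=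
  let f := fusT.getD n (0, 0, 0, [])
  allR (fun k => Nat.blt k 9) f.2.2.2 &&
    eqM (prodK xTbl (f.2.2.2.reverse) (prodK (fun _ => aM) [0] (prodK xTbl f.2.2.2 (scM 1))))
      (prodK (fun _ => bM) (List.replicate f.2.1 0) (prodK (fun _ => aM) (List.replicate f.1 0) (scM 1)))

/-- The two words commute and have order five. -/
noncomputable def abOK : Bool :=
  allR (fun k => Nat.blt k 9) aW && allR (fun k => Nat.blt k 9) bW &&
    eqM (prodK xTbl aW (scM 1)) aM && eqM (prodK xTbl bW (scM 1)) bM &&
    eqM (mulM aM bM) (mulM bM aM) &&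
    eqM (prodK (fun _ => aM) (List.replicate 5 0) (scM 1)) (scM 1) &&
    eqM (prodK (fun _ => bM) (List.replicate 5 0) (scM 1)) (scM 1)

/-! ### Entries -/

/-- The square of a value code. -/
noncomputable def sqv (v : ℕ) : ℕ :=
  bif Nat.beq v 0 then 0 else bif Nat.beq (v % 2) 1 then v + 1 else v - 1

/-- The first element. -/
noncomputable def head0 (L : List ℕ) : ℕ := L.getD 0 0

/-- A reason for an entry. -/
noncomputable def reasonOK (σ : ℕ → ℕ) (val : List ℕ) (known : List ℕ) (p v a k j s : ℕ) : Bool :=
  let L := thirdL (σ a) (piN k)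
  let R := thirdL a j
  let pl := head0 L * 27 + j
  let pr := k * 27 + piN (head0 R)
  memN a qL && Nat.blt k 27 && Nat.blt j 27 &&
    (bif Nat.beq s 0 then
      Nat.beq L.length 1 && Nat.beq pl p &&
        (bif Nat.beq R.length 0 then Nat.beq v 0
          else Nat.beq R.length 1 && memN pr known && Nat.beq v (sqv (val.getD pr 99)))
    else
      Nat.beq R.length 1 && Nat.beq pr p &&
        (bif Nat.beq L.length 0 then Nat.beq v 0
          else Nat.beq L.length 1 && memN pl known && Nat.beq v (sqv (val.getD pl 99))))

/-- Check a list of entries with reasons. -/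
noncomputable def chkItems (σ : ℕ → ℕ) (val : List ℕ) (base : List ℕ)
    (L : List (ℕ × ℕ × ℕ × ℕ × ℕ × ℕ)) : List ℕ → Bool :=
  List.rec (fun _ => true) (fun it _ ih known =>
    Nat.beq (val.getD it.1 99) it.2.1 &&
      (bif Nat.beq it.2.2.2.2.2 2 then
        Nat.blt it.2.1 9 && Nat.beq (it.2.1 % 2) 1 && Nat.beq (base.getD ((it.2.1 - 1) / 2) 999) it.1
      else reasonOK σ val known it.1 it.2.1 it.2.2.1 it.2.2.2.1 it.2.2.2.2.1 it.2.2.2.2.2) &&
      ih (it.1 :: known)) L

/-- The exchange of the last two basis vectors. -/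
noncomputable def swp (a : ℕ) : ℕ := bif Nat.beq a 15 then 20 else bif Nat.beq a 20 then 15 else a

/-- The free entries. -/
def baseId : List ℕ := [2 * 27 + 2, 2 * 27 + 5, 5 * 27 + 2, 5 * 27 + 5]

/-- The free entries for the exchange. -/
def baseSw : List ℕ := [2 * 27 + 9, 2 * 27 + 12, 5 * 27 + 9, 5 * 27 + 12]

/-- Every entry with a known value has been derived or is zero for a trivial reason. -/
noncomputable def coverOK (val : List ℕ) (L : List (ℕ × ℕ × ℕ × ℕ × ℕ × ℕ)) : Bool :=
  allR (fun k => allR (fun l => force (val.getD (k * 27 + l) 99) fun v =>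
    Nat.beq v 99 || memN (k * 27 + l) (mapR (fun it => it.1) L) ||
      (Nat.beq v 0 && ((memN k fixL && !memN l fixL) || (!memN k fixL && memN l fixL)))) (upto 27))
    (upto 27) &&
  allR (fun l => allR (fun k => memN k fixL || !Nat.beq (val.getD (k * 27 + l) 99) 99) (upto 27)) bigL

/-- The product of two codes. -/
noncomputable def mulc (a b : ℕ) : ℕ := cd (scl a (scl b (1, 0))) 0

/-- The sum of two codes. -/
noncomputable def addc (a b : ℕ) : ℕ := cd (rx (scl a (1, 0)) (scl b (1, 0))) 0

/-- An entry in terms of the four free values. -/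
noncomputable def entC (val : List ℕ) (n k l : ℕ) : ℕ :=
  force (val.getD (k * 27 + l) 99) fun v => bif Nat.beq v 0 then 0 else
    force (n / 4 ^ ((v - 1) / 2) % 4) fun c => bif Nat.beq (v % 2) 1 then c else sqc c

/-- A sum of codes over all coordinates. -/
noncomputable def sumC (f : ℕ → ℕ) : ℕ :=
  List.rec 0 (fun l _ ih => addc (f l) ih) (upto 27)

/-- The necessary conditions on the free values. -/
noncomputable def condOK (val : List ℕ) (n : ℕ) : Bool :=
  allR (fun k => allR (fun j => Nat.beq (sumC fun l =>
      addc (bif Nat.beq (cd (row xMat l) j) 0 then 0 else mulc (entC val n k l) (cd (row xMat l) j))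
        (bif Nat.beq (cd (row xMat k) l) 0 then 0 else mulc (cd (row xMat k) l) (entC val n l j))) 0)
      (upto 27)) [2, 5] &&
    Nat.beq (sumC fun l => mulc (entC val n 2 l) (sqc (entC val n (piN 2) (piN l)))) 1

/-- Conditions usable in the sums. -/
noncomputable def usedOK (val : List ℕ) : Bool :=
  allR (fun l => Nat.ble (val.getD (2 * 27 + l) 99) 8 && Nat.ble (val.getD (5 * 27 + l) 99) 8 &&
    Nat.ble (val.getD (piN 2 * 27 + l) 99) 8 &&
    allR (fun k => Nat.beq (cd (row xMat k) l) 0 ||
      allR (fun j => Nat.ble (val.getD (l * 27 + j) 99) 8) (upto 27)) [2, 5]) (upto 27)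

/-- The codes of the possible free values. -/
noncomputable def candL (val : List ℕ) : List ℕ := (upto 256).filter fun n => condOK val n

/-! ### Images of the basis -/

/-- The bilinear form of two vectors given by bits. -/
noncomputable def bil (c d : ℕ) : ℕ :=
  List.rec 0 (fun i _ ih => Nat.xor ih
    (Nat.xor (bif Nat.testBit c (2 * i) && Nat.testBit d (2 * i + 1) then 1 else 0)
      (bif Nat.testBit c (2 * i + 1) && Nat.testBit d (2 * i) then 1 else 0))) [0, 1, 2]

/-- The quadratic form of a vector given by bits. -/
noncomputable def quad (c : ℕ) : ℕ :=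
  List.rec 0 (fun i _ ih => Nat.xor ih
    (bif Nat.testBit c (2 * i) && Nat.testBit c (2 * i + 1) then 1 else 0)) [0, 1, 2]

/-- Possible images of the `k`-th basis vector once the earlier ones are fixed. -/
noncomputable def imgL (k : ℕ) : List ℕ :=
  (upto 64).filter fun c => !Nat.beq c 0 && Nat.beq (quad c) 0 &&
    allR (fun i => Nat.beq (bil c (2 ^ i)) (bil (2 ^ k) (2 ^ i))) (upto k)

theorem roots_ok : rootsOK = true := by decide +kernel

theorem x_ok : xOK = true := by decide +kernel

theorem alt_ok : altOK = true := by decide +kernel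

theorem id_items : chkItems (fun a => a) idTVal baseId idT [] = true := by decide +kernel

theorem sw_items : chkItems swp swTVal baseSw swT [] = true := by decide +kernel

theorem id_cover : coverOK idTVal idT = true := by decide +kernel

theorem sw_cover : coverOK swTVal swT = true := by decide +kernel

theorem id_used : usedOK idTVal = true := by decide +kernel

theorem sw_used : usedOK swTVal = true := by decide +kernel

theorem id_cand : (candL idTVal).length ≤ 5 := by decide +kernel

theorem sw_cand : candL swTVal = [] := by decide +kernel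

theorem img_card : (imgL 0).length = 35 ∧ (imgL 1).length = 16 ∧ (imgL 2).length = 9 ∧
    (imgL 3).length = 4 ∧ imgL 4 = [16, 32] := by decide +kernel

end CfsgLib.Chev.TwE6Five
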