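import Cfsg.Agent.Lib.Chev.TwE6FiveSetup

/-!
The entries of a centralising isometry which permutes the six basis vectors in a given way are determined by four of
them, which satisfy the checked conditions.
-/

set_option autoImplicit false
set_option maxRecDepth 100000
set_option linter.unusedSimpArgs false
set_option linter.unusedSectionVars false

namespace CfsgLib.Chev.TwE6Five

open Cfsg.Lie CfsgLib.Chev CfsgLib.Chev.E6C CfsgLib.Chev.F4InE6 CfsgLib.Chev.FiInE6 Matrix

theorem memN_iff : ∀ (L : List ℕ) (i : ℕ), memN i L = true ↔ i ∈ L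
  | [], i => by simp [memN]
  | a :: L, i => by
    show (Nat.beq a i || memN i L) = true ↔ _
    rw [Bool.or_eq_true, memN_iff L i, Nat.beq_eq, List.mem_cons, eq_comm]

variable {K : Type*} [Field K]

/-- The value of a value code in terms of the free values. -/
def evv (b : ℕ → K) (v : ℕ) : K :=
  if v = 0 then 0 else if v % 2 = 1 then b ((v - 1) / 2) else b ((v - 1) / 2) ^ 2

theorem evv_sqv [Fintype K] (hK : Fintype.card K = 4) (b : ℕ → K) (v : ℕ) :
    evv b (sqv v) = evv b v ^ 2 := by
  unfold sqv
  by_cases h0 : v = 0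
  · subst h0; simp [evv]
  · rw [show Nat.beq v 0 = false by simpa [← Bool.not_eq_true, Nat.beq_eq] using h0, cond_false]
    rcases Nat.even_or_odd v with ⟨u, hu⟩ | ⟨u, hu⟩
    · subst hu
      rw [show Nat.beq ((u + u) % 2) 1 = false by simp [← Bool.not_eq_true, Nat.beq_eq]; omega, cond_false]
      simp only [evv, if_neg h0, if_neg (show ¬ (u + u) % 2 = 1 by omega),
        if_neg (show ¬ u + u - 1 = 0 by omega), if_pos (show (u + u - 1) % 2 = 1 by omega),
        show (u + u - 1 - 1) / 2 = (u + u - 1) / 2 by omega, frob_frob hK]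
    · subst hu
      rw [show Nat.beq ((2 * u + 1) % 2) 1 = true by simp [Nat.beq_eq], cond_true]
      simp only [evv, if_neg h0, if_pos (show (2 * u + 1) % 2 = 1 by omega),
        if_neg (show ¬ 2 * u + 1 + 1 = 0 by omega), if_neg (show ¬ (2 * u + 1 + 1) % 2 = 1 by omega),
        show (2 * u + 1 + 1 - 1) / 2 = (2 * u + 1 - 1) / 2 by omega]

variable [CharP K 2] {ω : Kˣ} (hω : ω ^ 3 = 1) (h1 : ω ≠ 1) [Fintype K] (hK : Fintype.card K = 4)
include hω h1 hK

omit hω h1 in
theorem list_one {L : List ℕ} (h : Nat.beq L.length 1 = true) : L = [head0 L] := by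
  obtain ⟨a, rfl⟩ := List.length_eq_one_iff.1 (Nat.eq_of_beq_eq_true h)
  rfl

omit hω h1 in
theorem items_sound {y : GL I27 K} (hy : Cen ω y) (σ : ℕ → ℕ)
    (hfix : ∀ a ∈ qL, (y : Matrix I27 I27 K) *ᵥ sgl a = sgl (σ a)) (val base : List ℕ) (b : ℕ → K)
    (hb : ∀ i < 4, b i = ent y (base.getD i 999 / 27) (base.getD i 999 % 27)) :
    ∀ (L : List (ℕ × ℕ × ℕ × ℕ × ℕ × ℕ)) (known : List ℕ), chkItems σ val base L known = true →
      (∀ p ∈ known, ent y (p / 27) (p % 27) = evv b (val.getD p 99)) →
      ∀ p ∈ mapR (fun it => it.1) L, ent y (p / 27) (p % 27) = evv b (val.getD p 99)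
  | [], _, _, _, p, hp => absurd hp List.not_mem_nil
  | it :: L, known, h, hk, p, hp => by
    have h' : (Nat.beq (val.getD it.1 99) it.2.1 &&
      (bif Nat.beq it.2.2.2.2.2 2 then
        Nat.blt it.2.1 9 && Nat.beq (it.2.1 % 2) 1 && Nat.beq (base.getD ((it.2.1 - 1) / 2) 999) it.1
      else reasonOK σ val known it.1 it.2.1 it.2.2.1 it.2.2.2.1 it.2.2.2.2.1 it.2.2.2.2.2) &&
      chkItems σ val base L (it.1 :: known)) = true := h
    simp only [Bool.and_eq_true] at h'
    obtain ⟨⟨hv, hr⟩, hrest⟩ := h'
    obtain ⟨q, v, a, k, j, s⟩ := it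
    have hv := Nat.eq_of_beq_eq_true hv
    simp only at hv hr hrest
    have main : ent y (q / 27) (q % 27) = evv b (val.getD q 99) := by
      rw [hv]
      cases hs : Nat.beq s 2 with
      | true =>
        rw [hs] at hr
        simp only [cond_true, Bool.and_eq_true, Nat.blt, Nat.ble_eq] at hr
        obtain ⟨⟨h9, hodd⟩, hbase⟩ := hr
        have hodd := Nat.eq_of_beq_eq_true hodd
        have hbase := Nat.eq_of_beq_eq_true hbase
        rw [evv, if_neg (by omega), if_pos hodd, hb _ (by omega), hbase]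
      | false =>
        rw [hs] at hr
        simp only [cond_false, reasonOK, Bool.and_eq_true, Nat.blt, Nat.ble_eq] at hr
        obtain ⟨⟨⟨ha, hk27⟩, hj27⟩, hcase⟩ := hr
        have hrule := hy.rule hK (hfix a ((memN_iff _ _).1 ha)) (k := k) (j := j) hk27 hj27
        cases hs0 : Nat.beq s 0 with
        | true =>
          rw [hs0] at hcase
          simp only [cond_true, Bool.and_eq_true] at hcase
          obtain ⟨⟨hL, hq⟩, hR⟩ := hcase
          rw [list_one hK hL] at hrule
          have hq := Nat.eq_of_beq_eq_true hq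
          simp only [List.map_cons, List.map_nil, List.sum_cons, List.sum_nil, add_zero] at hrule
          rw [← hq, show (head0 (thirdL (σ a) (piN k)) * 27 + j) / 27 = head0 (thirdL (σ a) (piN k)) by omega,
            show (head0 (thirdL (σ a) (piN k)) * 27 + j) % 27 = j by omega, hrule]
          cases hR0 : Nat.beq (thirdL a j).length 0 with
          | true =>
            rw [hR0] at hR
            rw [List.length_eq_zero_iff.1 (Nat.eq_of_beq_eq_true hR0), Nat.eq_of_beq_eq_true hR]
            simp [evv]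
          | false =>
            rw [hR0] at hR
            simp only [cond_false, Bool.and_eq_true] at hR
            obtain ⟨⟨hR1, hkn⟩, hve⟩ := hR
            rw [list_one hK hR1, Nat.eq_of_beq_eq_true hve]
            have hh := hk _ ((memN_iff _ _).1 hkn)
            have hp27 : piN (head0 (thirdL a j)) < 27 := (piN_lt _ (thirdL_lt (a := a) (b := j) (by
              rw [list_one hK hR1]; exact List.mem_cons_self))).1
            rw [show (k * 27 + piN (head0 (thirdL a j))) / 27 = k by omega,
              show (k * 27 + piN (head0 (thirdL a j))) % 27 = piN (head0 (thirdL a j)) by omega] at hh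
            simp only [List.map_cons, List.map_nil, List.sum_cons, List.sum_nil, add_zero, evv_sqv hK, ← hh]
        | false =>
          rw [hs0] at hcase
          simp only [cond_false, Bool.and_eq_true] at hcase
          obtain ⟨⟨hR, hq⟩, hL⟩ := hcase
          rw [list_one hK hR] at hrule
          have hq := Nat.eq_of_beq_eq_true hq
          simp only [List.map_cons, List.map_nil, List.sum_cons, List.sum_nil, add_zero] at hrule
          have hp27 : piN (head0 (thirdL a j)) < 27 := (piN_lt _ (thirdL_lt (a := a) (b := j) (by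
            rw [list_one hK hR]; exact List.mem_cons_self))).1
          rw [← hq, show (k * 27 + piN (head0 (thirdL a j))) / 27 = k by omega,
            show (k * 27 + piN (head0 (thirdL a j))) % 27 = piN (head0 (thirdL a j)) by omega]
          cases hL0 : Nat.beq (thirdL (σ a) (piN k)).length 0 with
          | true =>
            rw [hL0] at hL
            rw [List.length_eq_zero_iff.1 (Nat.eq_of_beq_eq_true hL0)] at hrule
            rw [Nat.eq_of_beq_eq_true hL, evv, if_pos rfl]
            exact pow_eq_zero_iff (two_ne_zero) |>.1 (by simpa using hrule.symm)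
          | false =>
            rw [hL0] at hL
            simp only [cond_false, Bool.and_eq_true] at hL
            obtain ⟨⟨hL1, hkn⟩, hve⟩ := hL
            rw [Nat.eq_of_beq_eq_true hve, evv_sqv hK]
            have hh := hk _ ((memN_iff _ _).1 hkn)
            rw [show (head0 (thirdL (σ a) (piN k)) * 27 + j) / 27 = head0 (thirdL (σ a) (piN k)) by omega,
              show (head0 (thirdL (σ a) (piN k)) * 27 + j) % 27 = j by omega] at hh
            rw [list_one hK hL1] at hrule
            simp only [List.map_cons, List.map_nil, List.sum_cons, List.sum_nil, add_zero] at hrule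
            rw [← hh, hrule, frob_frob hK]
    have hmem : p = q ∨ p ∈ mapR (fun it : ℕ × ℕ × ℕ × ℕ × ℕ × ℕ => it.1) L := by
      rw [mapR_eq] at hp ⊢
      exact List.mem_cons.1 hp
    rcases hmem with rfl | hp
    · exact main
    · refine items_sound hy σ hfix val base b hb L _ hrest (fun z hz => ?_) p hp
      rcases List.mem_cons.1 hz with rfl | hz
      exacts [main, hk z hz]

theorem cover_sound {y : GL I27 K} (hy : Cen ω y) {val : List ℕ} {L : List (ℕ × ℕ × ℕ × ℕ × ℕ × ℕ)}
    (hcov : coverOK val L = true) (b : ℕ → K)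
    (hit : ∀ p ∈ mapR (fun it => it.1) L, ent y (p / 27) (p % 27) = evv b (val.getD p 99)) {k l : ℕ}
    (hk : k < 27) (hl : l < 27) (hv : val.getD (k * 27 + l) 99 ≠ 99) :
    ent y k l = evv b (val.getD (k * 27 + l) 99) := by
  simp only [coverOK, Bool.and_eq_true] at hcov
  have h := allR_upto (allR_upto hcov.1 hk) hl
  rw [CfsgLib.InvChar.Coset.force_eq] at h
  simp only [Bool.or_eq_true, Bool.and_eq_true, Bool.not_eq_true', ← Bool.not_eq_true, memN_iff] at h
  rcases h with (h | h) | ⟨h0, h⟩
  · exact absurd (Nat.eq_of_beq_eq_true h) hv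
  · have := hit _ h
    rwa [show (k * 27 + l) / 27 = k by omega, show (k * 27 + l) % 27 = l by omega] at this
  · rw [Nat.eq_of_beq_eq_true h0, evv, if_pos rfl]
    rcases h with ⟨hk', hl'⟩ | ⟨hk', hl'⟩
    · exact hy.fix_row hω h1 hK hl hl' hk'
    · exact hy.fix_col hω h1 hK hk hk' hl'

omit hω h1 hK [Fintype K] in
theorem sumC_spec_aux (hω : ω ^ 3 = 1) (h1 : ω ≠ 1) (f : ℕ → ℕ) : ∀ L : List ℕ,
    cv ω (List.rec 0 (fun l _ ih => addc (f l) ih) L) = (L.map fun l => cv ω (f l)).sum
  | [] => cv_zero ω
  | a :: L => by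
    show cv ω (addc (f a) _) = _
    rw [cv_addc hω h1, sumC_spec_aux hω h1 f L, List.map_cons, List.sum_cons]

omit hK [Fintype K] in
theorem sumC_spec (f : ℕ → ℕ) : cv ω (sumC f) = ∑ l ∈ Finset.range 27, cv ω (f l) := by
  rw [sumC, sumC_spec_aux hω h1, sum_rev]

omit hK [Fintype K] hω h1 in
theorem sumC_lt (f : ℕ → ℕ) : sumC f < 4 := by
  unfold sumC
  rcases upto 27 with _ | ⟨a, L⟩
  · norm_num
  · exact cd_lt _ _

theorem entC_spec {y : GL I27 K} {val : List ℕ} {n : ℕ} {b : ℕ → K}
    (hb : ∀ i < 4, b i = cv ω (n / 4 ^ i % 4)) {k l : ℕ} (hv : val.getD (k * 27 + l) 99 ≤ 8)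
    (he : ent y k l = evv b (val.getD (k * 27 + l) 99)) : cv ω (entC val n k l) = ent y k l := by
  rw [he, entC, CfsgLib.InvChar.Coset.force_eq]
  generalize val.getD (k * 27 + l) 99 = v at hv ⊢
  by_cases h0 : v = 0
  · subst h0; simp [evv, cv_zero]
  · rw [show Nat.beq v 0 = false by simpa [← Bool.not_eq_true, Nat.beq_eq] using h0, cond_false,
      CfsgLib.InvChar.Coset.force_eq, evv, if_neg h0]
    by_cases ho : v % 2 = 1
    · rw [ho, show Nat.beq 1 1 = true from rfl, cond_true, if_pos rfl, hb _ (by omega)]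
    · rw [show Nat.beq (v % 2) 1 = false by simpa [← Bool.not_eq_true, Nat.beq_eq] using ho, cond_false,
        if_neg ho, hb _ (by omega), cv_sqc hω h1 (Nat.mod_lt _ (by norm_num))]

theorem cand_mem {y : GL I27 K} (hy : Cen ω y) (σ : ℕ → ℕ)
    (hfix : ∀ a ∈ qL, (y : Matrix I27 I27 K) *ᵥ sgl a = sgl (σ a))
    {val base : List ℕ} {L : List (ℕ × ℕ × ℕ × ℕ × ℕ × ℕ)} (hit : chkItems σ val base L [] = true)
    (hcov : coverOK val L = true) (hused : usedOK val = true) :
    ∃ n ∈ candL val, ∀ k < 27, ∀ l < 27, val.getD (k * 27 + l) 99 ≠ 99 →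
      ent y k l = evv (fun i => cv ω (n / 4 ^ i % 4)) (val.getD (k * 27 + l) 99) := by
  choose c hc4 hc using fun i : ℕ => cv_surj hω h1 hK (ent y (base.getD i 999 / 27) (base.getD i 999 % 27))
  obtain ⟨n, hn⟩ : ∃ n, n = c 0 + 4 * c 1 + 16 * c 2 + 64 * c 3 := ⟨_, rfl⟩
  have h0 := hc4 0
  have h1' := hc4 1
  have h2 := hc4 2
  have h3 := hc4 3
  have hdig : ∀ i < 4, n / 4 ^ i % 4 = c i := by
    intro i hi
    interval_cases i <;> omega
  have hn256 : n < 256 := by omega
  have hall : ∀ k < 27, ∀ l < 27, val.getD (k * 27 + l) 99 ≠ 99 →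
      ent y k l = evv (fun i => cv ω (n / 4 ^ i % 4)) (val.getD (k * 27 + l) 99) := fun k hk l hl hv =>
    cover_sound hω h1 hK hy hcov _ (items_sound hK hy σ hfix val base _ (fun i hi => by
      show cv ω (n / 4 ^ i % 4) = _
      rw [hdig i hi, hc]) L [] hit (by simp)) hk hl hv
  refine ⟨n, ?_, hall⟩
  have hec : ∀ k < 27, ∀ l < 27, val.getD (k * 27 + l) 99 ≤ 8 → cv ω (entC val n k l) = ent y k l :=
    fun k hk l hl hv => entC_spec hω h1 hK (fun i _ => rfl) hv (hall k hk l hl (by omega))
  have hu : ∀ l < 27, val.getD (2 * 27 + l) 99 ≤ 8 ∧ val.getD (5 * 27 + l) 99 ≤ 8 ∧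
      val.getD (piN 2 * 27 + l) 99 ≤ 8 ∧ ∀ k ∈ [2, 5], cd (row xMat k) l ≠ 0 →
        ∀ j < 27, val.getD (l * 27 + j) 99 ≤ 8 := by
    intro l hl
    have h := allR_upto hused hl
    simp only [Bool.and_eq_true, Nat.ble_eq] at h
    refine ⟨h.1.1.1, h.1.1.2, h.1.2, fun k hk hne j hj => ?_⟩
    have hk' := allR_true h.2 hk
    simp only [Bool.or_eq_true, Nat.beq_eq] at hk'
    exact Nat.le_of_ble_eq_true (allR_upto (hk'.resolve_left hne) hj)
  have hX := (mat_xU hω h1).1
  rw [candL, List.mem_filter]
  refine ⟨by rw [upto_eq]; exact List.mem_range.2 hn256, ?_⟩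
  simp only [condOK, Bool.and_eq_true, allR_eq, List.all_eq_true]
  constructor
  · intro k hk j hj
    rw [upto_eq, List.mem_range] at hj
    have hk27 : k < 27 := (by decide : ∀ k ∈ [2, 5], k < 27) k hk
    rw [Nat.beq_eq]
    refine cv_eq_zero hω h1 (sumC_lt _) ?_
    rw [sumC_spec hω h1]
    have hprod : ∀ l ∈ Finset.range 27,
        cv ω (addc (bif Nat.beq (cd (row xMat l) j) 0 then 0 else mulc (entC val n k l) (cd (row xMat l) j))
          (bif Nat.beq (cd (row xMat k) l) 0 then 0 else mulc (cd (row xMat k) l) (entC val n l j))) =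
        ent y k l * ent (xU ω) l j + ent (xU ω) k l * ent y l j := by
      intro l hl
      rw [Finset.mem_range] at hl
      rw [cv_addc hω h1]
      have eX : ∀ a b, a < 27 → b < 27 → ent (xU ω) a b = cv ω (cd (row xMat a) b) := fun a b ha hb => by
        rw [ent, hX, mat_cv hω h1 _ ha hb]
      congr 1
      · by_cases e : cd (row xMat l) j = 0
        · simp [e, eX l j hl hj, cv_zero]
        · rw [show Nat.beq (cd (row xMat l) j) 0 = false by simpa [← Bool.not_eq_true, Nat.beq_eq] using e,
            cond_false, cv_mulc hω h1, hec k hk27 l hl ?_, eX l j hl hj]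
          rcases List.mem_cons.1 hk with rfl | hk
          · exact (hu l hl).1
          · rw [List.mem_singleton.1 hk]; exact (hu l hl).2.1
      · by_cases e : cd (row xMat k) l = 0
        · simp [e, eX k l hk27 hl, cv_zero]
        · rw [show Nat.beq (cd (row xMat k) l) 0 = false by simpa [← Bool.not_eq_true, Nat.beq_eq] using e,
            cond_false, cv_mulc hω h1, hec l hl j hj ((hu l hl).2.2.2 k hk e j hj), eX k l hk27 hl]
    rw [Finset.sum_congr rfl hprod, Finset.sum_add_distrib]
    have hc := congrArg (fun z : GL I27 K => (z : Matrix I27 I27 K) (pt k) (pt j)) hy.comm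
    simp only [Units.val_mul, Matrix.mul_apply, sum_I27] at hc
    rw [show (∑ l ∈ Finset.range 27, ent y k l * ent (xU ω) l j) =
      ∑ l ∈ Finset.range 27, ent (xU ω) k l * ent y l j from hc]
    exact CharTwo.add_self_eq_zero _
  · rw [Nat.beq_eq]
    have hs : cv ω (sumC fun l => mulc (entC val n 2 l) (sqc (entC val n (piN 2) (piN l)))) = 1 := by
      rw [sumC_spec hω h1]
      have e1 := congrArg (fun z : GL I27 K => (z : Matrix I27 I27 K) (pt 2) (pt 2)) (mul_inv_cancel y)
      simp only [Units.val_mul, Units.val_one, Matrix.mul_apply, Matrix.one_apply_eq, sum_I27] at e1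
      rw [← e1]
      refine Finset.sum_congr rfl fun l hl => ?_
      rw [Finset.mem_range] at hl
      have hp := (piN_lt l hl).1
      rw [cv_mulc hω h1, cv_sqc hω h1 (by
          rw [entC, CfsgLib.InvChar.Coset.force_eq]
          cases Nat.beq (val.getD (piN 2 * 27 + piN l) 99) 0
          · rw [cond_false, CfsgLib.InvChar.Coset.force_eq]
            have h4 := Nat.mod_lt (n / 4 ^ ((val.getD (piN 2 * 27 + piN l) 99 - 1) / 2)) (show 0 < 4 by norm_num)
            cases Nat.beq (val.getD (piN 2 * 27 + piN l) 99 % 2) 1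
            · exact (by decide : ∀ c < 4, sqc c < 4) _ h4
            · exact h4
          · exact (by norm_num : (0 : ℕ) < 4)),
        hec 2 (by norm_num) l hl (hu l hl).1, hec _ (piN_lt 2 (by norm_num)).1 _ hp (hu _ hp).2.2.1]
      show ent y 2 l * ent y (piN 2) (piN l) ^ 2 = ent y 2 l * ent y⁻¹ l 2
      rw [hy.uni.entry hl (by norm_num)]
    have h1c : cv ω (addc (sumC fun l => mulc (entC val n 2 l) (sqc (entC val n (piN 2) (piN l)))) 1) = 0 := by
      rw [cv_addc hω h1, hs, cv_one, CharTwo.add_self_eq_zero]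
    have := cv_eq_zero hω h1 (cd_lt _ _) h1c
    have hlt := sumC_lt fun l => mulc (entC val n 2 l) (sqc (entC val n (piN 2) (piN l)))
    revert this hlt
    generalize (sumC fun l => mulc (entC val n 2 l) (sqc (entC val n (piN 2) (piN l)))) = z
    intro this hlt
    exact (by decide +kernel : ∀ z < 4, addc z 1 = 0 → z = 1) z hlt this

end CfsgLib.Chev.TwE6Five
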