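import Cfsg.Agent.Lib.Chev.TwE6FiveFusDefs

/-!
Checks for the fusion of the elements of order five in a Sylow subgroup.
-/

set_option autoImplicit false
set_option maxRecDepth 100000
set_option Elab.async false

namespace CfsgLib.Chev.TwE6Five

open CfsgLib.Chev CfsgLib.Chev.FiInE6

theorem fus4_step0 :
    prodK xTbl [7, 8, 4, 2, 3, 7, 4, 5, 2, 3, 4, 0, 1, 2, 3, 7] (scM 1) = fusP4_0 := by
  decide +kernel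

theorem fus4_step1 :
    prodK xTbl [8, 5, 2, 3, 4, 1, 2, 3, 7, 6, 5, 4, 3, 2, 1, 0] fusP4_0 = fusP4_1 := by
  decide +kernel

theorem fus4_step2 :
    prodK xTbl [1, 2, 3, 4, 5, 6, 7, 3, 2, 1, 4, 3, 2, 5, 8, 7] fusP4_1 = fusP4_2 := by
  decide +kernel

theorem fus4_step3 :
    prodK xTbl [3, 2, 1, 0, 4, 3, 2, 5, 4, 7, 3, 2, 4, 8, 7, 8] fusP4_2 = fusP4_3 := by
  decide +kernel

theorem fus4_step4 :
    prodK xTbl [7, 5, 3, 4, 0, 1, 2, 3, 7, 8, 5, 4, 1, 2, 3, 7] fusP4_3 = fusP4_4 := by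
  decide +kernel

theorem fus4_step5 :
    prodK xTbl [6, 5, 4, 3, 2, 1, 0, 1, 2, 3, 4, 5, 6, 7, 3, 2] fusP4_4 = fusP4_5 := by
  decide +kernel

theorem fus4_step6 :
    prodK xTbl [1, 4, 5, 8, 7, 3, 2, 1, 0, 4, 3, 5, 7, 8, 8, 1] fusP4_5 = fusP4_6 := by
  decide +kernel

theorem fus4_step7 :
    prodK xTbl [2, 3, 7, 4, 5, 3, 4, 1, 2, 3, 7, 8, 4, 5, 3, 4] fusP4_6 = fusP4_7 := by
  decide +kernel

theorem fus4_step8 :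
    prodK xTbl [1, 2, 3, 7, 6, 5, 4, 3, 2, 1, 0, 1, 2, 3, 4, 5] fusP4_7 = fusP4_8 := by
  decide +kernel

theorem fus4_step9 :
    prodK xTbl [6, 7, 3, 2, 1, 4, 3, 5, 4, 8, 7, 3, 2, 1, 4, 3] fusP4_8 = fusP4_9 := by
  decide +kernel

theorem fus4_step10 :
    prodK xTbl [5, 4, 7, 3, 2, 1, 8, 8, 2, 3, 4, 1, 2, 3, 7, 6] fusP4_9 = fusP4_10 := by
  decide +kernel

theorem fus4_step11 :
    prodK xTbl [5, 4, 3, 2, 1, 0, 1, 2, 3, 4, 5, 6, 7, 3, 2, 1] fusP4_10 = fusP4_11 := by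
  decide +kernel

theorem fus4_step12 :
    prodK xTbl [4, 3, 2, 8, 8, 7, 4, 5, 2, 3, 4, 0, 1, 2, 3, 7] fusP4_11 = fusP4_12 := by
  decide +kernel

theorem fus4_step13 :
    prodK xTbl [8, 7, 5, 3, 4, 1, 2, 3, 7, 6, 5, 4, 3, 2, 1, 0] fusP4_12 = fusP4_13 := by
  decide +kernel

theorem fus4_step14 :
    prodK xTbl [1, 2, 3, 4, 5, 6, 7, 3, 2, 1, 4, 3, 5, 7, 8, 7] fusP4_13 = fusP4_14 := by
  decide +kernel

theorem fus4_step15 :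
    prodK xTbl [3, 2, 1, 0, 4, 3, 2, 5, 4, 7, 8, 8, 3, 7, 6, 5] fusP4_14 = fusP4_15 := by
  decide +kernel

theorem fus4_step16 :
    prodK xTbl [4, 3, 2, 0, 1, 0, 1, 0, 2, 3, 4, 5, 6, 7, 3, 8] fusP4_15 = fusP4_16 := by
  decide +kernel

theorem fus4_step17 :
    prodK xTbl [7, 8, 4, 3, 7, 4, 5, 2, 3, 4, 1, 2, 3, 7, 8, 7] fusP4_16 = fusP4_17 := by
  decide +kernel

theorem fus4_step18 :
    prodK xTbl [5, 3, 4, 1, 2, 3, 7, 6, 5, 4, 3, 2, 1] fusP4_17 = fusP4_18 := by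
  decide +kernel

theorem fus4_step19 :
    prodK (fun _ => aM) [0] fusP4_18 = fusP4_19 := by
  decide +kernel

theorem fus4_step20 :
    prodK xTbl [1, 2, 3, 4, 5, 6, 7, 3, 2, 1, 4, 3, 5, 7, 8, 7] fusP4_19 = fusP4_20 := by
  decide +kernel

theorem fus4_step21 :
    prodK xTbl [3, 2, 1, 4, 3, 2, 5, 4, 7, 3, 4, 8, 7, 8, 3, 7] fusP4_20 = fusP4_21 := by
  decide +kernel

theorem fus4_step22 :
    prodK xTbl [6, 5, 4, 3, 2, 0, 1, 0, 1, 0, 2, 3, 4, 5, 6, 7] fusP4_21 = fusP4_22 := by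
  decide +kernel

theorem fus4_step23 :
    prodK xTbl [3, 8, 8, 7, 4, 5, 2, 3, 4, 0, 1, 2, 3, 7, 8, 7] fusP4_22 = fusP4_23 := by
  decide +kernel

theorem fus4_step24 :
    prodK xTbl [5, 3, 4, 1, 2, 3, 7, 6, 5, 4, 3, 2, 1, 0, 1, 2] fusP4_23 = fusP4_24 := by
  decide +kernel

theorem fus4_step25 :
    prodK xTbl [3, 4, 5, 6, 7, 3, 2, 1, 4, 3, 5, 7, 8, 7, 3, 2] fusP4_24 = fusP4_25 := by
  decide +kernel

theorem fus4_step26 :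
    prodK xTbl [1, 0, 4, 3, 2, 5, 4, 7, 8, 8, 2, 3, 4, 1, 2, 3] fusP4_25 = fusP4_26 := by
  decide +kernel

theorem fus4_step27 :
    prodK xTbl [7, 6, 5, 4, 3, 2, 1, 0, 1, 2, 3, 4, 5, 6, 7, 3] fusP4_26 = fusP4_27 := by
  decide +kernel

theorem fus4_step28 :
    prodK xTbl [2, 1, 4, 3, 2, 8, 8, 1, 2, 3, 7, 4, 5, 3, 4, 1] fusP4_27 = fusP4_28 := by
  decide +kernel

theorem fus4_step29 :
    prodK xTbl [2, 3, 7, 8, 4, 5, 3, 4, 1, 2, 3, 7, 6, 5, 4, 3] fusP4_28 = fusP4_29 := by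
  decide +kernel

theorem fus4_step30 :
    prodK xTbl [2, 1, 0, 1, 2, 3, 4, 5, 6, 7, 3, 2, 1, 4, 3, 5] fusP4_29 = fusP4_30 := by
  decide +kernel

theorem fus4_step31 :
    prodK xTbl [4, 8, 7, 3, 2, 1, 4, 3, 5, 4, 7, 3, 2, 1, 8, 8] fusP4_30 = fusP4_31 := by
  decide +kernel

theorem fus4_step32 :
    prodK xTbl [7, 5, 3, 4, 0, 1, 2, 3, 7, 8, 5, 4, 1, 2, 3, 7] fusP4_31 = fusP4_32 := by
  decide +kernel

theorem fus4_step33 :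
    prodK xTbl [6, 5, 4, 3, 2, 1, 0, 1, 2, 3, 4, 5, 6, 7, 3, 2] fusP4_32 = fusP4_33 := by
  decide +kernel

theorem fus4_step34 :
    prodK xTbl [1, 4, 5, 8, 7, 3, 2, 1, 0, 4, 3, 5, 7, 8, 7, 8] fusP4_33 = fusP4_34 := by
  decide +kernel

theorem fus4_step35 :
    prodK xTbl [4, 2, 3, 7, 4, 5, 2, 3, 4, 0, 1, 2, 3, 7, 8, 5] fusP4_34 = fusP4_35 := by
  decide +kernel

theorem fus4_step36 :
    prodK xTbl [2, 3, 4, 1, 2, 3, 7, 6, 5, 4, 3, 2, 1, 0, 1, 2] fusP4_35 = fusP4_36 := by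
  decide +kernel

theorem fus4_step37 :
    prodK xTbl [3, 4, 5, 6, 7, 3, 2, 1, 4, 3, 2, 5, 8, 7, 3, 2] fusP4_36 = fusP4_37 := by
  decide +kernel

theorem fus4_step38 :
    prodK xTbl [1, 0, 4, 3, 2, 5, 4, 7, 3, 2, 4, 8, 7] fusP4_37 = fusP4_38 := by
  decide +kernel

theorem fus_ok4 : fusOK 4 = true := by
  have e₁ : (fusT.getD 4 (0, 0, 0, [])).2.2.2 =
      [7, 8, 4, 2, 3, 7, 4, 5, 2, 3, 4, 0, 1, 2, 3, 7] ++ ([8, 5, 2, 3, 4, 1, 2, 3, 7, 6, 5, 4, 3,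
       2, 1, 0] ++ ([1, 2, 3, 4, 5, 6, 7, 3, 2, 1, 4, 3, 2, 5, 8, 7] ++ ([3, 2, 1, 0, 4, 3, 2, 5,
       4, 7, 3, 2, 4, 8, 7, 8] ++ ([7, 5, 3, 4, 0, 1, 2, 3, 7, 8, 5, 4, 1, 2, 3, 7] ++ ([6, 5, 4,
       3, 2, 1, 0, 1, 2, 3, 4, 5, 6, 7, 3, 2] ++ ([1, 4, 5, 8, 7, 3, 2, 1, 0, 4, 3, 5, 7, 8, 8, 1]
       ++ ([2, 3, 7, 4, 5, 3, 4, 1, 2, 3, 7, 8, 4, 5, 3, 4] ++ ([1, 2, 3, 7, 6, 5, 4, 3, 2, 1, 0,
       1, 2, 3, 4, 5] ++ ([6, 7, 3, 2, 1, 4, 3, 5, 4, 8, 7, 3, 2, 1, 4, 3] ++ ([5, 4, 7, 3, 2, 1,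
       8, 8, 2, 3, 4, 1, 2, 3, 7, 6] ++ ([5, 4, 3, 2, 1, 0, 1, 2, 3, 4, 5, 6, 7, 3, 2, 1] ++ ([4,
       3, 2, 8, 8, 7, 4, 5, 2, 3, 4, 0, 1, 2, 3, 7] ++ ([8, 7, 5, 3, 4, 1, 2, 3, 7, 6, 5, 4, 3, 2,
       1, 0] ++ ([1, 2, 3, 4, 5, 6, 7, 3, 2, 1, 4, 3, 5, 7, 8, 7] ++ ([3, 2, 1, 0, 4, 3, 2, 5, 4,
       7, 8, 8, 3, 7, 6, 5] ++ ([4, 3, 2, 0, 1, 0, 1, 0, 2, 3, 4, 5, 6, 7, 3, 8] ++ ([7, 8, 4, 3,
       7, 4, 5, 2, 3, 4, 1, 2, 3, 7, 8, 7] ++ ([5, 3, 4, 1, 2, 3, 7, 6, 5, 4, 3, 2,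
       1])))))))))))))))))) := by
    decide +kernel
  have e₂ : (fusT.getD 4 (0, 0, 0, [])).2.2.2.reverse =
      [1, 2, 3, 4, 5, 6, 7, 3, 2, 1, 4, 3, 5, 7, 8, 7] ++ ([3, 2, 1, 4, 3, 2, 5, 4, 7, 3, 4, 8, 7,
       8, 3, 7] ++ ([6, 5, 4, 3, 2, 0, 1, 0, 1, 0, 2, 3, 4, 5, 6, 7] ++ ([3, 8, 8, 7, 4, 5, 2, 3,
       4, 0, 1, 2, 3, 7, 8, 7] ++ ([5, 3, 4, 1, 2, 3, 7, 6, 5, 4, 3, 2, 1, 0, 1, 2] ++ ([3, 4, 5,
       6, 7, 3, 2, 1, 4, 3, 5, 7, 8, 7, 3, 2] ++ ([1, 0, 4, 3, 2, 5, 4, 7, 8, 8, 2, 3, 4, 1, 2, 3]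
       ++ ([7, 6, 5, 4, 3, 2, 1, 0, 1, 2, 3, 4, 5, 6, 7, 3] ++ ([2, 1, 4, 3, 2, 8, 8, 1, 2, 3, 7,
       4, 5, 3, 4, 1] ++ ([2, 3, 7, 8, 4, 5, 3, 4, 1, 2, 3, 7, 6, 5, 4, 3] ++ ([2, 1, 0, 1, 2, 3,
       4, 5, 6, 7, 3, 2, 1, 4, 3, 5] ++ ([4, 8, 7, 3, 2, 1, 4, 3, 5, 4, 7, 3, 2, 1, 8, 8] ++ ([7,
       5, 3, 4, 0, 1, 2, 3, 7, 8, 5, 4, 1, 2, 3, 7] ++ ([6, 5, 4, 3, 2, 1, 0, 1, 2, 3, 4, 5, 6, 7,
       3, 2] ++ ([1, 4, 5, 8, 7, 3, 2, 1, 0, 4, 3, 5, 7, 8, 7, 8] ++ ([4, 2, 3, 7, 4, 5, 2, 3, 4,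
       0, 1, 2, 3, 7, 8, 5] ++ ([2, 3, 4, 1, 2, 3, 7, 6, 5, 4, 3, 2, 1, 0, 1, 2] ++ ([3, 4, 5, 6,
       7, 3, 2, 1, 4, 3, 2, 5, 8, 7, 3, 2] ++ ([1, 0, 4, 3, 2, 5, 4, 7, 3, 2, 4, 8,
       7])))))))))))))))))) := by
    decide +kernel
  refine fusOK_of (M₁ := fusP4_18) (M₂ := fusP4_19) (M₃ := fusP4_38) (i := 1) (j := 2) (s := 1)
    (w := (fusT.getD 4 (0, 0, 0, [])).2.2.2) (by decide +kernel) (by decide +kernel) ?_ fus4_step19 ?_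
    (by decide +kernel)
  · rw [e₂, prodK_append, fus4_step20, prodK_append, fus4_step21, prodK_append, fus4_step22,
      prodK_append, fus4_step23, prodK_append, fus4_step24, prodK_append, fus4_step25,
      prodK_append, fus4_step26, prodK_append, fus4_step27, prodK_append, fus4_step28,
      prodK_append, fus4_step29, prodK_append, fus4_step30, prodK_append, fus4_step31,
      prodK_append, fus4_step32, prodK_append, fus4_step33, prodK_append, fus4_step34,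
      prodK_append, fus4_step35, prodK_append, fus4_step36, prodK_append, fus4_step37,
      fus4_step38]
  · rw [e₁, prodK_append, fus4_step0, prodK_append, fus4_step1, prodK_append, fus4_step2, prodK_append,
      fus4_step3, prodK_append, fus4_step4, prodK_append, fus4_step5, prodK_append, fus4_step6,
      prodK_append, fus4_step7, prodK_append, fus4_step8, prodK_append, fus4_step9, prodK_append,
      fus4_step10, prodK_append, fus4_step11, prodK_append, fus4_step12, prodK_append,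
      fus4_step13, prodK_append, fus4_step14, prodK_append, fus4_step15, prodK_append,
      fus4_step16, prodK_append, fus4_step17, fus4_step18]

theorem fus5_step0 :
    prodK xTbl [8, 7, 5, 2, 3, 4, 0, 1, 2, 3, 7, 8, 7, 5, 2, 3] (scM 1) = fusP5_0 := by
  decide +kernel

theorem fus5_step1 :
    prodK xTbl [4, 1, 2, 3, 7, 6, 5, 4, 3, 2, 1, 0, 1, 2, 3, 4] fusP5_0 = fusP5_1 := by
  decide +kernel

theorem fus5_step2 :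
    prodK xTbl [5, 6, 7, 3, 2, 1, 4, 3, 2, 5, 7, 8, 7, 3, 2, 1] fusP5_1 = fusP5_2 := by
  decide +kernel

theorem fus5_step3 :
    prodK xTbl [0, 4, 3, 2, 5, 7, 8, 7, 6, 5, 3, 4, 0, 1, 2, 3] fusP5_2 = fusP5_3 := by
  decide +kernel

theorem fus5_step4 :
    prodK xTbl [7, 8, 5, 4, 1, 2, 3, 7, 6, 5, 4, 3, 2, 1, 0, 1] fusP5_3 = fusP5_4 := by
  decide +kernel

theorem fus5_step5 :
    prodK xTbl [2, 3, 4, 5, 6, 7, 3, 2, 1, 4, 5, 8, 7, 3, 2, 1] fusP5_4 = fusP5_5 := by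
  decide +kernel

theorem fus5_step6 :
    prodK xTbl [0, 4, 3, 5, 6, 7, 8, 3, 7, 4, 5, 2, 3, 4, 0, 1] fusP5_5 = fusP5_6 := by
  decide +kernel

theorem fus5_step7 :
    prodK xTbl [2, 3, 7, 8, 5, 3, 4, 1, 2, 3, 7, 6, 5, 4, 3, 2] fusP5_6 = fusP5_7 := by
  decide +kernel

theorem fus5_step8 :
    prodK xTbl [1, 0, 1, 2, 3, 4, 5, 6, 7, 3, 2, 1, 4, 3, 5, 8] fusP5_7 = fusP5_8 := by
  decide +kernel

theorem fus5_step9 :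
    prodK xTbl [7, 3, 2, 1, 0, 4, 3, 2, 5, 4, 7, 3, 8, 7, 3, 4] fusP5_8 = fusP5_9 := by
  decide +kernel

theorem fus5_step10 :
    prodK xTbl [5, 2, 3, 4, 1, 2, 3, 7, 8, 5, 3, 4, 1, 2, 3, 7] fusP5_9 = fusP5_10 := by
  decide +kernel

theorem fus5_step11 :
    prodK xTbl [6, 5, 4, 3, 2, 1, 0, 1, 2, 3, 4, 5, 6, 7, 3, 2] fusP5_10 = fusP5_11 := by
  decide +kernel

theorem fus5_step12 :
    prodK xTbl [1, 4, 3, 5, 8, 7, 3, 2, 1, 4, 3, 2, 5, 4, 3, 7] fusP5_11 = fusP5_12 := by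
  decide +kernel

theorem fus5_step13 :
    prodK xTbl [3, 7, 5, 4, 3, 2, 0, 1, 0, 1, 0, 2, 3, 4, 5, 7] fusP5_12 = fusP5_13 := by
  decide +kernel

theorem fus5_step14 :
    prodK xTbl [3, 7, 8, 3, 7, 4, 5, 2, 3, 4, 1, 2, 3, 7, 8, 7] fusP5_13 = fusP5_14 := by
  decide +kernel

theorem fus5_step15 :
    prodK xTbl [4, 5, 3, 4, 1, 2, 3, 7, 6, 5, 4, 3, 2, 1] fusP5_14 = fusP5_15 := by
  decide +kernel

theorem fus5_step16 :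
    prodK (fun _ => aM) [0] fusP5_15 = fusP5_16 := by
  decide +kernel

theorem fus5_step17 :
    prodK xTbl [1, 2, 3, 4, 5, 6, 7, 3, 2, 1, 4, 3, 5, 4, 7, 8] fusP5_16 = fusP5_17 := by
  decide +kernel

theorem fus5_step18 :
    prodK xTbl [7, 3, 2, 1, 4, 3, 2, 5, 4, 7, 3, 8, 7, 3, 7, 5] fusP5_17 = fusP5_18 := by
  decide +kernel

theorem fus5_step19 :
    prodK xTbl [4, 3, 2, 0, 1, 0, 1, 0, 2, 3, 4, 5, 7, 3, 7, 3] fusP5_18 = fusP5_19 := by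
  decide +kernel

theorem fus5_step20 :
    prodK xTbl [4, 5, 2, 3, 4, 1, 2, 3, 7, 8, 5, 3, 4, 1, 2, 3] fusP5_19 = fusP5_20 := by
  decide +kernel

theorem fus5_step21 :
    prodK xTbl [7, 6, 5, 4, 3, 2, 1, 0, 1, 2, 3, 4, 5, 6, 7, 3] fusP5_20 = fusP5_21 := by
  decide +kernel

theorem fus5_step22 :
    prodK xTbl [2, 1, 4, 3, 5, 8, 7, 3, 2, 1, 4, 3, 2, 5, 4, 3] fusP5_21 = fusP5_22 := by
  decide +kernel

theorem fus5_step23 :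
    prodK xTbl [7, 8, 3, 7, 4, 5, 2, 3, 4, 0, 1, 2, 3, 7, 8, 5] fusP5_22 = fusP5_23 := by
  decide +kernel

theorem fus5_step24 :
    prodK xTbl [3, 4, 1, 2, 3, 7, 6, 5, 4, 3, 2, 1, 0, 1, 2, 3] fusP5_23 = fusP5_24 := by
  decide +kernel

theorem fus5_step25 :
    prodK xTbl [4, 5, 6, 7, 3, 2, 1, 4, 3, 5, 8, 7, 3, 2, 1, 0] fusP5_24 = fusP5_25 := by
  decide +kernel

theorem fus5_step26 :
    prodK xTbl [4, 3, 2, 5, 4, 7, 3, 8, 7, 6, 5, 3, 4, 0, 1, 2] fusP5_25 = fusP5_26 := by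
  decide +kernel

theorem fus5_step27 :
    prodK xTbl [3, 7, 8, 5, 4, 1, 2, 3, 7, 6, 5, 4, 3, 2, 1, 0] fusP5_26 = fusP5_27 := by
  decide +kernel

theorem fus5_step28 :
    prodK xTbl [1, 2, 3, 4, 5, 6, 7, 3, 2, 1, 4, 5, 8, 7, 3, 2] fusP5_27 = fusP5_28 := by
  decide +kernel

theorem fus5_step29 :
    prodK xTbl [1, 0, 4, 3, 5, 6, 7, 8, 7, 5, 2, 3, 4, 0, 1, 2] fusP5_28 = fusP5_29 := by
  decide +kernel

theorem fus5_step30 :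
    prodK xTbl [3, 7, 8, 7, 5, 2, 3, 4, 1, 2, 3, 7, 6, 5, 4, 3] fusP5_29 = fusP5_30 := by
  decide +kernel

theorem fus5_step31 :
    prodK xTbl [2, 1, 0, 1, 2, 3, 4, 5, 6, 7, 3, 2, 1, 4, 3, 2] fusP5_30 = fusP5_31 := by
  decide +kernel

theorem fus5_step32 :
    prodK xTbl [5, 7, 8, 7, 3, 2, 1, 0, 4, 3, 2, 5, 7, 8] fusP5_31 = fusP5_32 := by
  decide +kernel

theorem fus_ok5 : fusOK 5 = true := by
  have e₁ : (fusT.getD 5 (0, 0, 0, [])).2.2.2 =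
      [8, 7, 5, 2, 3, 4, 0, 1, 2, 3, 7, 8, 7, 5, 2, 3] ++ ([4, 1, 2, 3, 7, 6, 5, 4, 3, 2, 1, 0, 1,
       2, 3, 4] ++ ([5, 6, 7, 3, 2, 1, 4, 3, 2, 5, 7, 8, 7, 3, 2, 1] ++ ([0, 4, 3, 2, 5, 7, 8, 7,
       6, 5, 3, 4, 0, 1, 2, 3] ++ ([7, 8, 5, 4, 1, 2, 3, 7, 6, 5, 4, 3, 2, 1, 0, 1] ++ ([2, 3, 4,
       5, 6, 7, 3, 2, 1, 4, 5, 8, 7, 3, 2, 1] ++ ([0, 4, 3, 5, 6, 7, 8, 3, 7, 4, 5, 2, 3, 4, 0, 1]
       ++ ([2, 3, 7, 8, 5, 3, 4, 1, 2, 3, 7, 6, 5, 4, 3, 2] ++ ([1, 0, 1, 2, 3, 4, 5, 6, 7, 3, 2,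
       1, 4, 3, 5, 8] ++ ([7, 3, 2, 1, 0, 4, 3, 2, 5, 4, 7, 3, 8, 7, 3, 4] ++ ([5, 2, 3, 4, 1, 2,
       3, 7, 8, 5, 3, 4, 1, 2, 3, 7] ++ ([6, 5, 4, 3, 2, 1, 0, 1, 2, 3, 4, 5, 6, 7, 3, 2] ++ ([1,
       4, 3, 5, 8, 7, 3, 2, 1, 4, 3, 2, 5, 4, 3, 7] ++ ([3, 7, 5, 4, 3, 2, 0, 1, 0, 1, 0, 2, 3, 4,
       5, 7] ++ ([3, 7, 8, 3, 7, 4, 5, 2, 3, 4, 1, 2, 3, 7, 8, 7] ++ ([4, 5, 3, 4, 1, 2, 3, 7, 6,
       5, 4, 3, 2, 1]))))))))))))))) := by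
    decide +kernel
  have e₂ : (fusT.getD 5 (0, 0, 0, [])).2.2.2.reverse =
      [1, 2, 3, 4, 5, 6, 7, 3, 2, 1, 4, 3, 5, 4, 7, 8] ++ ([7, 3, 2, 1, 4, 3, 2, 5, 4, 7, 3, 8, 7,
       3, 7, 5] ++ ([4, 3, 2, 0, 1, 0, 1, 0, 2, 3, 4, 5, 7, 3, 7, 3] ++ ([4, 5, 2, 3, 4, 1, 2, 3,
       7, 8, 5, 3, 4, 1, 2, 3] ++ ([7, 6, 5, 4, 3, 2, 1, 0, 1, 2, 3, 4, 5, 6, 7, 3] ++ ([2, 1, 4,
       3, 5, 8, 7, 3, 2, 1, 4, 3, 2, 5, 4, 3] ++ ([7, 8, 3, 7, 4, 5, 2, 3, 4, 0, 1, 2, 3, 7, 8, 5]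
       ++ ([3, 4, 1, 2, 3, 7, 6, 5, 4, 3, 2, 1, 0, 1, 2, 3] ++ ([4, 5, 6, 7, 3, 2, 1, 4, 3, 5, 8,
       7, 3, 2, 1, 0] ++ ([4, 3, 2, 5, 4, 7, 3, 8, 7, 6, 5, 3, 4, 0, 1, 2] ++ ([3, 7, 8, 5, 4, 1,
       2, 3, 7, 6, 5, 4, 3, 2, 1, 0] ++ ([1, 2, 3, 4, 5, 6, 7, 3, 2, 1, 4, 5, 8, 7, 3, 2] ++ ([1,
       0, 4, 3, 5, 6, 7, 8, 7, 5, 2, 3, 4, 0, 1, 2] ++ ([3, 7, 8, 7, 5, 2, 3, 4, 1, 2, 3, 7, 6, 5,
       4, 3] ++ ([2, 1, 0, 1, 2, 3, 4, 5, 6, 7, 3, 2, 1, 4, 3, 2] ++ ([5, 7, 8, 7, 3, 2, 1, 0, 4,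
       3, 2, 5, 7, 8]))))))))))))))) := by
    decide +kernel
  refine fusOK_of (M₁ := fusP5_15) (M₂ := fusP5_16) (M₃ := fusP5_32) (i := 1) (j := 3) (s := 1)
    (w := (fusT.getD 5 (0, 0, 0, [])).2.2.2) (by decide +kernel) (by decide +kernel) ?_ fus5_step16 ?_
    (by decide +kernel)
  · rw [e₂, prodK_append, fus5_step17, prodK_append, fus5_step18, prodK_append, fus5_step19,
      prodK_append, fus5_step20, prodK_append, fus5_step21, prodK_append, fus5_step22,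
      prodK_append, fus5_step23, prodK_append, fus5_step24, prodK_append, fus5_step25,
      prodK_append, fus5_step26, prodK_append, fus5_step27, prodK_append, fus5_step28,
      prodK_append, fus5_step29, prodK_append, fus5_step30, prodK_append, fus5_step31,
      fus5_step32]
  · rw [e₁, prodK_append, fus5_step0, prodK_append, fus5_step1, prodK_append, fus5_step2, prodK_append,
      fus5_step3, prodK_append, fus5_step4, prodK_append, fus5_step5, prodK_append, fus5_step6,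
      prodK_append, fus5_step7, prodK_append, fus5_step8, prodK_append, fus5_step9, prodK_append,
      fus5_step10, prodK_append, fus5_step11, prodK_append, fus5_step12, prodK_append,
      fus5_step13, prodK_append, fus5_step14, fus5_step15]

end CfsgLib.Chev.TwE6Five
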