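import Cfsg.Agent.Lib.Chev.TwE6FiveFusDefs

/-!
Checks for the fusion of the elements of order five in a Sylow subgroup.
-/

set_option autoImplicit false
set_option maxRecDepth 100000
set_option Elab.async false

namespace CfsgLib.Chev.TwE6Five

open CfsgLib.Chev CfsgLib.Chev.FiInE6

theorem fus6_step0 :
    prodK xTbl [7, 8, 2, 3, 7, 3, 4, 5, 2, 3, 4, 1, 2, 3, 7, 8] (scM 1) = fusP6_0 := by
  decide +kernel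

theorem fus6_step1 :
    prodK xTbl [7, 4, 5, 2, 3, 4, 1, 2, 3, 7, 6, 5, 4, 3, 2, 1] fusP6_0 = fusP6_1 := by
  decide +kernel

theorem fus6_step2 :
    prodK xTbl [0, 1, 2, 3, 4, 5, 6, 7, 3, 2, 1, 4, 3, 2, 5, 4] fusP6_1 = fusP6_2 := by
  decide +kernel

theorem fus6_step3 :
    prodK xTbl [7, 8, 7, 3, 2, 1, 4, 3, 2, 5, 4, 3, 7, 3, 2, 8] fusP6_2 = fusP6_3 := by
  decide +kernel

theorem fus6_step4 :
    prodK xTbl [7, 8, 7, 5, 3, 4, 2, 3, 7, 8, 7, 5, 2, 3, 4, 1] fusP6_3 = fusP6_4 := by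
  decide +kernel

theorem fus6_step5 :
    prodK xTbl [2, 3, 7, 6, 5, 4, 3, 2, 1, 0, 1, 2, 3, 4, 5, 6] fusP6_4 = fusP6_5 := by
  decide +kernel

theorem fus6_step6 :
    prodK xTbl [7, 3, 2, 1, 4, 3, 2, 5, 7, 8, 7, 3, 2, 4, 3, 5] fusP6_5 = fusP6_6 := by
  decide +kernel

theorem fus6_step7 :
    prodK xTbl [7, 8, 8, 3, 7, 6, 4, 5, 3, 4, 1, 2, 3, 7, 8, 4] fusP6_6 = fusP6_7 := by
  decide +kernel

theorem fus6_step8 :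
    prodK xTbl [5, 3, 4, 1, 2, 3, 7, 6, 5, 4, 3, 2, 1, 0, 1, 2] fusP6_7 = fusP6_8 := by
  decide +kernel

theorem fus6_step9 :
    prodK xTbl [3, 4, 5, 6, 7, 3, 2, 1, 4, 3, 5, 4, 8, 7, 3, 2] fusP6_8 = fusP6_9 := by
  decide +kernel

theorem fus6_step10 :
    prodK xTbl [1, 4, 3, 5, 4, 6, 7, 3, 8, 7, 8, 5, 3, 4, 2, 3] fusP6_9 = fusP6_10 := by
  decide +kernel

theorem fus6_step11 :
    prodK xTbl [7, 6, 5, 4, 3, 2, 1, 0, 1, 2, 3, 4, 5, 6, 7, 3] fusP6_10 = fusP6_11 := by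
  decide +kernel

theorem fus6_step12 :
    prodK xTbl [2, 4, 3, 5, 8, 7, 8, 3, 7, 4, 5, 2, 3, 4, 1, 2] fusP6_11 = fusP6_12 := by
  decide +kernel

theorem fus6_step13 :
    prodK xTbl [3, 7, 8, 7, 5, 2, 3, 4, 1, 2, 3, 7, 6, 5, 4, 3] fusP6_12 = fusP6_13 := by
  decide +kernel

theorem fus6_step14 :
    prodK xTbl [2, 1, 0, 1, 2, 3, 4, 5, 6, 7, 3, 2, 1, 4, 3, 2] fusP6_13 = fusP6_14 := by
  decide +kernel

theorem fus6_step15 :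
    prodK xTbl [5, 7, 8, 7, 3, 2, 1, 4, 3, 2, 5, 4, 7, 3, 8, 3] fusP6_14 = fusP6_15 := by
  decide +kernel

theorem fus6_step16 :
    prodK xTbl [7, 4, 3, 1, 2, 0, 1, 0, 1, 0, 2, 1, 3, 4, 7, 3] fusP6_15 = fusP6_16 := by
  decide +kernel

theorem fus6_step17 :
    prodK xTbl [7, 8, 3, 7, 4, 5, 2, 3, 4, 0, 1, 2, 3, 7, 8, 7] fusP6_16 = fusP6_17 := by
  decide +kernel

theorem fus6_step18 :
    prodK xTbl [5, 2, 3, 4, 1, 2, 3, 7, 6, 5, 4, 3, 2, 1] fusP6_17 = fusP6_18 := by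
  decide +kernel

theorem fus6_step19 :
    prodK (fun _ => aM) [0] fusP6_18 = fusP6_19 := by
  decide +kernel

theorem fus6_step20 :
    prodK xTbl [1, 2, 3, 4, 5, 6, 7, 3, 2, 1, 4, 3, 2, 5, 7, 8] fusP6_19 = fusP6_20 := by
  decide +kernel

theorem fus6_step21 :
    prodK xTbl [7, 3, 2, 1, 0, 4, 3, 2, 5, 4, 7, 3, 8, 7, 3, 7] fusP6_20 = fusP6_21 := by
  decide +kernel

theorem fus6_step22 :
    prodK xTbl [4, 3, 1, 2, 0, 1, 0, 1, 0, 2, 1, 3, 4, 7, 3, 8] fusP6_21 = fusP6_22 := by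
  decide +kernel

theorem fus6_step23 :
    prodK xTbl [3, 7, 4, 5, 2, 3, 4, 1, 2, 3, 7, 8, 7, 5, 2, 3] fusP6_22 = fusP6_23 := by
  decide +kernel

theorem fus6_step24 :
    prodK xTbl [4, 1, 2, 3, 7, 6, 5, 4, 3, 2, 1, 0, 1, 2, 3, 4] fusP6_23 = fusP6_24 := by
  decide +kernel

theorem fus6_step25 :
    prodK xTbl [5, 6, 7, 3, 2, 1, 4, 3, 2, 5, 7, 8, 7, 3, 2, 1] fusP6_24 = fusP6_25 := by
  decide +kernel

theorem fus6_step26 :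
    prodK xTbl [4, 3, 2, 5, 4, 7, 3, 8, 7, 8, 5, 3, 4, 2, 3, 7] fusP6_25 = fusP6_26 := by
  decide +kernel

theorem fus6_step27 :
    prodK xTbl [6, 5, 4, 3, 2, 1, 0, 1, 2, 3, 4, 5, 6, 7, 3, 2] fusP6_26 = fusP6_27 := by
  decide +kernel

theorem fus6_step28 :
    prodK xTbl [4, 3, 5, 8, 7, 8, 3, 7, 6, 4, 5, 3, 4, 1, 2, 3] fusP6_27 = fusP6_28 := by
  decide +kernel

theorem fus6_step29 :
    prodK xTbl [7, 8, 4, 5, 3, 4, 1, 2, 3, 7, 6, 5, 4, 3, 2, 1] fusP6_28 = fusP6_29 := by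
  decide +kernel

theorem fus6_step30 :
    prodK xTbl [0, 1, 2, 3, 4, 5, 6, 7, 3, 2, 1, 4, 3, 5, 4, 8] fusP6_29 = fusP6_30 := by
  decide +kernel

theorem fus6_step31 :
    prodK xTbl [7, 3, 2, 1, 4, 3, 5, 4, 6, 7, 3, 8, 8, 7, 5, 3] fusP6_30 = fusP6_31 := by
  decide +kernel

theorem fus6_step32 :
    prodK xTbl [4, 2, 3, 7, 8, 7, 5, 2, 3, 4, 1, 2, 3, 7, 6, 5] fusP6_31 = fusP6_32 := by
  decide +kernel

theorem fus6_step33 :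
    prodK xTbl [4, 3, 2, 1, 0, 1, 2, 3, 4, 5, 6, 7, 3, 2, 1, 4] fusP6_32 = fusP6_33 := by
  decide +kernel

theorem fus6_step34 :
    prodK xTbl [3, 2, 5, 7, 8, 7, 3, 2, 4, 3, 5, 7, 8, 7, 8, 2] fusP6_33 = fusP6_34 := by
  decide +kernel

theorem fus6_step35 :
    prodK xTbl [3, 7, 3, 4, 5, 2, 3, 4, 1, 2, 3, 7, 8, 7, 4, 5] fusP6_34 = fusP6_35 := by
  decide +kernel

theorem fus6_step36 :
    prodK xTbl [2, 3, 4, 1, 2, 3, 7, 6, 5, 4, 3, 2, 1, 0, 1, 2] fusP6_35 = fusP6_36 := by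
  decide +kernel

theorem fus6_step37 :
    prodK xTbl [3, 4, 5, 6, 7, 3, 2, 1, 4, 3, 2, 5, 4, 7, 8, 7] fusP6_36 = fusP6_37 := by
  decide +kernel

theorem fus6_step38 :
    prodK xTbl [3, 2, 1, 4, 3, 2, 5, 4, 3, 7, 3, 2, 8, 7] fusP6_37 = fusP6_38 := by
  decide +kernel

theorem fus_ok6 : fusOK 6 = true := by
  have e₁ : (fusT.getD 6 (0, 0, 0, [])).2.2.2 =
      [7, 8, 2, 3, 7, 3, 4, 5, 2, 3, 4, 1, 2, 3, 7, 8] ++ ([7, 4, 5, 2, 3, 4, 1, 2, 3, 7, 6, 5, 4,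
       3, 2, 1] ++ ([0, 1, 2, 3, 4, 5, 6, 7, 3, 2, 1, 4, 3, 2, 5, 4] ++ ([7, 8, 7, 3, 2, 1, 4, 3,
       2, 5, 4, 3, 7, 3, 2, 8] ++ ([7, 8, 7, 5, 3, 4, 2, 3, 7, 8, 7, 5, 2, 3, 4, 1] ++ ([2, 3, 7,
       6, 5, 4, 3, 2, 1, 0, 1, 2, 3, 4, 5, 6] ++ ([7, 3, 2, 1, 4, 3, 2, 5, 7, 8, 7, 3, 2, 4, 3, 5]
       ++ ([7, 8, 8, 3, 7, 6, 4, 5, 3, 4, 1, 2, 3, 7, 8, 4] ++ ([5, 3, 4, 1, 2, 3, 7, 6, 5, 4, 3,
       2, 1, 0, 1, 2] ++ ([3, 4, 5, 6, 7, 3, 2, 1, 4, 3, 5, 4, 8, 7, 3, 2] ++ ([1, 4, 3, 5, 4, 6,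
       7, 3, 8, 7, 8, 5, 3, 4, 2, 3] ++ ([7, 6, 5, 4, 3, 2, 1, 0, 1, 2, 3, 4, 5, 6, 7, 3] ++ ([2,
       4, 3, 5, 8, 7, 8, 3, 7, 4, 5, 2, 3, 4, 1, 2] ++ ([3, 7, 8, 7, 5, 2, 3, 4, 1, 2, 3, 7, 6, 5,
       4, 3] ++ ([2, 1, 0, 1, 2, 3, 4, 5, 6, 7, 3, 2, 1, 4, 3, 2] ++ ([5, 7, 8, 7, 3, 2, 1, 4, 3,
       2, 5, 4, 7, 3, 8, 3] ++ ([7, 4, 3, 1, 2, 0, 1, 0, 1, 0, 2, 1, 3, 4, 7, 3] ++ ([7, 8, 3, 7,
       4, 5, 2, 3, 4, 0, 1, 2, 3, 7, 8, 7] ++ ([5, 2, 3, 4, 1, 2, 3, 7, 6, 5, 4, 3, 2,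
       1])))))))))))))))))) := by
    decide +kernel
  have e₂ : (fusT.getD 6 (0, 0, 0, [])).2.2.2.reverse =
      [1, 2, 3, 4, 5, 6, 7, 3, 2, 1, 4, 3, 2, 5, 7, 8] ++ ([7, 3, 2, 1, 0, 4, 3, 2, 5, 4, 7, 3, 8,
       7, 3, 7] ++ ([4, 3, 1, 2, 0, 1, 0, 1, 0, 2, 1, 3, 4, 7, 3, 8] ++ ([3, 7, 4, 5, 2, 3, 4, 1,
       2, 3, 7, 8, 7, 5, 2, 3] ++ ([4, 1, 2, 3, 7, 6, 5, 4, 3, 2, 1, 0, 1, 2, 3, 4] ++ ([5, 6, 7,
       3, 2, 1, 4, 3, 2, 5, 7, 8, 7, 3, 2, 1] ++ ([4, 3, 2, 5, 4, 7, 3, 8, 7, 8, 5, 3, 4, 2, 3, 7]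
       ++ ([6, 5, 4, 3, 2, 1, 0, 1, 2, 3, 4, 5, 6, 7, 3, 2] ++ ([4, 3, 5, 8, 7, 8, 3, 7, 6, 4, 5,
       3, 4, 1, 2, 3] ++ ([7, 8, 4, 5, 3, 4, 1, 2, 3, 7, 6, 5, 4, 3, 2, 1] ++ ([0, 1, 2, 3, 4, 5,
       6, 7, 3, 2, 1, 4, 3, 5, 4, 8] ++ ([7, 3, 2, 1, 4, 3, 5, 4, 6, 7, 3, 8, 8, 7, 5, 3] ++ ([4,
       2, 3, 7, 8, 7, 5, 2, 3, 4, 1, 2, 3, 7, 6, 5] ++ ([4, 3, 2, 1, 0, 1, 2, 3, 4, 5, 6, 7, 3, 2,
       1, 4] ++ ([3, 2, 5, 7, 8, 7, 3, 2, 4, 3, 5, 7, 8, 7, 8, 2] ++ ([3, 7, 3, 4, 5, 2, 3, 4, 1,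
       2, 3, 7, 8, 7, 4, 5] ++ ([2, 3, 4, 1, 2, 3, 7, 6, 5, 4, 3, 2, 1, 0, 1, 2] ++ ([3, 4, 5, 6,
       7, 3, 2, 1, 4, 3, 2, 5, 4, 7, 8, 7] ++ ([3, 2, 1, 4, 3, 2, 5, 4, 3, 7, 3, 2, 8,
       7])))))))))))))))))) := by
    decide +kernel
  refine fusOK_of (M₁ := fusP6_18) (M₂ := fusP6_19) (M₃ := fusP6_38) (i := 1) (j := 4) (s := 1)
    (w := (fusT.getD 6 (0, 0, 0, [])).2.2.2) (by decide +kernel) (by decide +kernel) ?_ fus6_step19 ?_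
    (by decide +kernel)
  · rw [e₂, prodK_append, fus6_step20, prodK_append, fus6_step21, prodK_append, fus6_step22,
      prodK_append, fus6_step23, prodK_append, fus6_step24, prodK_append, fus6_step25,
      prodK_append, fus6_step26, prodK_append, fus6_step27, prodK_append, fus6_step28,
      prodK_append, fus6_step29, prodK_append, fus6_step30, prodK_append, fus6_step31,
      prodK_append, fus6_step32, prodK_append, fus6_step33, prodK_append, fus6_step34,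
      prodK_append, fus6_step35, prodK_append, fus6_step36, prodK_append, fus6_step37,
      fus6_step38]
  · rw [e₁, prodK_append, fus6_step0, prodK_append, fus6_step1, prodK_append, fus6_step2, prodK_append,
      fus6_step3, prodK_append, fus6_step4, prodK_append, fus6_step5, prodK_append, fus6_step6,
      prodK_append, fus6_step7, prodK_append, fus6_step8, prodK_append, fus6_step9, prodK_append,
      fus6_step10, prodK_append, fus6_step11, prodK_append, fus6_step12, prodK_append,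
      fus6_step13, prodK_append, fus6_step14, prodK_append, fus6_step15, prodK_append,
      fus6_step16, prodK_append, fus6_step17, fus6_step18]

end CfsgLib.Chev.TwE6Five
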