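import Cfsg.Agent.Lib.Chev.TwE6FiveFusA
import Cfsg.Agent.Lib.Chev.TwE6FiveFusB
import Cfsg.Agent.Lib.Chev.TwE6FiveFusC

/-!
Checks for the fusion of the elements of order five in a Sylow subgroup.
-/

set_option autoImplicit false
set_option maxRecDepth 100000

namespace CfsgLib.Chev.TwE6Five

open CfsgLib.Chev

theorem fus_ok {n : ℕ} (hn : n < 7) : fusOK n = true := by
  interval_cases n
  · exact fus_ok0
  · exact fus_ok1
  · exact fus_ok2
  · exact fus_ok3
  · exact fus_ok4
  · exact fus_ok5
  · exact fus_ok6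

end CfsgLib.Chev.TwE6Five
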