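import Cfsg.Agent.Lib.Chev.TwE6FiveFusDefs

/-!
Checks for the fusion of the elements of order five in a Sylow subgroup.
-/

set_option autoImplicit false
set_option maxRecDepth 100000
set_option Elab.async false

namespace CfsgLib.Chev.TwE6Five

open CfsgLib.Chev CfsgLib.Chev.FiInE6

theorem ab_ok : abOK = true := by decide +kernel

theorem fus_ok0 : fusOK 0 = true := by decide +kernel

theorem fus1_step0 :
    prodK xTbl [2, 3, 7, 4, 5, 3, 4, 2, 3, 7, 6, 5, 4, 3, 2, 1] (scM 1) = fusP1_0 := by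
  decide +kernel

theorem fus1_step1 :
    prodK xTbl [0, 1, 2, 3, 4, 5, 6, 7, 3, 2, 4, 3, 5, 4, 7, 3] fusP1_0 = fusP1_1 := by
  decide +kernel

theorem fus1_step2 :
    prodK xTbl [2, 7, 3, 2, 1, 0, 1, 2, 3, 7, 3, 7, 2, 3, 4, 1] fusP1_1 = fusP1_2 := by
  decide +kernel

theorem fus1_step3 :
    prodK xTbl [2, 3, 7, 8, 5, 4, 3, 7, 6, 5, 4, 3, 2, 1, 0, 1] fusP1_2 = fusP1_3 := by
  decide +kernel

theorem fus1_step4 :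
    prodK xTbl [2, 3, 4, 5, 6, 7, 3, 4, 5, 8, 7, 3, 2, 1, 4, 3] fusP1_3 = fusP1_4 := by
  decide +kernel

theorem fus1_step5 :
    prodK xTbl [2, 7, 3, 8, 4, 5, 3, 4, 2, 3, 7, 6, 5, 4, 3, 2] fusP1_4 = fusP1_5 := by
  decide +kernel

theorem fus1_step6 :
    prodK xTbl [0, 1, 0, 1, 0, 2, 3, 4, 5, 6, 7, 3, 2, 4, 3, 5] fusP1_5 = fusP1_6 := by
  decide +kernel

theorem fus1_step7 :
    prodK xTbl [4, 8, 4, 1, 2, 3, 7, 5, 4, 3, 2, 1, 0, 1, 2, 3] fusP1_6 = fusP1_7 := by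
  decide +kernel

theorem fus1_step8 :
    prodK xTbl [4, 5, 7, 3, 2, 1, 4, 7, 6, 5, 4, 3, 2, 0, 1, 0] fusP1_7 = fusP1_8 := by
  decide +kernel

theorem fus1_step9 :
    prodK xTbl [1, 0, 2, 3, 4, 5, 6, 7, 4, 5, 3, 4, 2, 3, 1, 2] fusP1_8 = fusP1_9 := by
  decide +kernel

theorem fus1_step10 :
    prodK xTbl [0, 1] fusP1_9 = fusP1_10 := by
  decide +kernel

theorem fus1_step11 :
    prodK (fun _ => aM) [0] fusP1_10 = fusP1_11 := by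
  decide +kernel

theorem fus1_step12 :
    prodK xTbl [1, 0, 2, 1, 3, 2, 4, 3, 5, 4, 7, 6, 5, 4, 3, 2] fusP1_11 = fusP1_12 := by
  decide +kernel

theorem fus1_step13 :
    prodK xTbl [0, 1, 0, 1, 0, 2, 3, 4, 5, 6, 7, 4, 1, 2, 3, 7] fusP1_12 = fusP1_13 := by
  decide +kernel

theorem fus1_step14 :
    prodK xTbl [5, 4, 3, 2, 1, 0, 1, 2, 3, 4, 5, 7, 3, 2, 1, 4] fusP1_13 = fusP1_14 := by
  decide +kernel

theorem fus1_step15 :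
    prodK xTbl [8, 4, 5, 3, 4, 2, 3, 7, 6, 5, 4, 3, 2, 0, 1, 0] fusP1_14 = fusP1_15 := by
  decide +kernel

theorem fus1_step16 :
    prodK xTbl [1, 0, 2, 3, 4, 5, 6, 7, 3, 2, 4, 3, 5, 4, 8, 3] fusP1_15 = fusP1_16 := by
  decide +kernel

theorem fus1_step17 :
    prodK xTbl [7, 2, 3, 4, 1, 2, 3, 7, 8, 5, 4, 3, 7, 6, 5, 4] fusP1_16 = fusP1_17 := by
  decide +kernel

theorem fus1_step18 :
    prodK xTbl [3, 2, 1, 0, 1, 2, 3, 4, 5, 6, 7, 3, 4, 5, 8, 7] fusP1_17 = fusP1_18 := by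
  decide +kernel

theorem fus1_step19 :
    prodK xTbl [3, 2, 1, 4, 3, 2, 7, 3, 7, 3, 2, 1, 0, 1, 2, 3] fusP1_18 = fusP1_19 := by
  decide +kernel

theorem fus1_step20 :
    prodK xTbl [7, 2, 3, 7, 4, 5, 3, 4, 2, 3, 7, 6, 5, 4, 3, 2] fusP1_19 = fusP1_20 := by
  decide +kernel

theorem fus1_step21 :
    prodK xTbl [1, 0, 1, 2, 3, 4, 5, 6, 7, 3, 2, 4, 3, 5, 4, 7] fusP1_20 = fusP1_21 := by
  decide +kernel

theorem fus1_step22 :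
    prodK xTbl [3, 2] fusP1_21 = fusP1_22 := by
  decide +kernel

theorem fus_ok1 : fusOK 1 = true := by
  have e₁ : (fusT.getD 1 (0, 0, 0, [])).2.2.2 =
      [2, 3, 7, 4, 5, 3, 4, 2, 3, 7, 6, 5, 4, 3, 2, 1] ++ ([0, 1, 2, 3, 4, 5, 6, 7, 3, 2, 4, 3, 5,
       4, 7, 3] ++ ([2, 7, 3, 2, 1, 0, 1, 2, 3, 7, 3, 7, 2, 3, 4, 1] ++ ([2, 3, 7, 8, 5, 4, 3, 7,
       6, 5, 4, 3, 2, 1, 0, 1] ++ ([2, 3, 4, 5, 6, 7, 3, 4, 5, 8, 7, 3, 2, 1, 4, 3] ++ ([2, 7, 3,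
       8, 4, 5, 3, 4, 2, 3, 7, 6, 5, 4, 3, 2] ++ ([0, 1, 0, 1, 0, 2, 3, 4, 5, 6, 7, 3, 2, 4, 3, 5]
       ++ ([4, 8, 4, 1, 2, 3, 7, 5, 4, 3, 2, 1, 0, 1, 2, 3] ++ ([4, 5, 7, 3, 2, 1, 4, 7, 6, 5, 4,
       3, 2, 0, 1, 0] ++ ([1, 0, 2, 3, 4, 5, 6, 7, 4, 5, 3, 4, 2, 3, 1, 2] ++ ([0, 1])))))))))) := by
    decide +kernel
  have e₂ : (fusT.getD 1 (0, 0, 0, [])).2.2.2.reverse =
      [1, 0, 2, 1, 3, 2, 4, 3, 5, 4, 7, 6, 5, 4, 3, 2] ++ ([0, 1, 0, 1, 0, 2, 3, 4, 5, 6, 7, 4, 1,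
       2, 3, 7] ++ ([5, 4, 3, 2, 1, 0, 1, 2, 3, 4, 5, 7, 3, 2, 1, 4] ++ ([8, 4, 5, 3, 4, 2, 3, 7,
       6, 5, 4, 3, 2, 0, 1, 0] ++ ([1, 0, 2, 3, 4, 5, 6, 7, 3, 2, 4, 3, 5, 4, 8, 3] ++ ([7, 2, 3,
       4, 1, 2, 3, 7, 8, 5, 4, 3, 7, 6, 5, 4] ++ ([3, 2, 1, 0, 1, 2, 3, 4, 5, 6, 7, 3, 4, 5, 8, 7]
       ++ ([3, 2, 1, 4, 3, 2, 7, 3, 7, 3, 2, 1, 0, 1, 2, 3] ++ ([7, 2, 3, 7, 4, 5, 3, 4, 2, 3, 7,
       6, 5, 4, 3, 2] ++ ([1, 0, 1, 2, 3, 4, 5, 6, 7, 3, 2, 4, 3, 5, 4, 7] ++ ([3, 2])))))))))) := by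
    decide +kernel
  refine fusOK_of (M₁ := fusP1_10) (M₂ := fusP1_11) (M₃ := fusP1_22) (i := 0) (j := 1) (s := 1)
    (w := (fusT.getD 1 (0, 0, 0, [])).2.2.2) (by decide +kernel) (by decide +kernel) ?_ fus1_step11 ?_
    (by decide +kernel)
  · rw [e₂, prodK_append, fus1_step12, prodK_append, fus1_step13, prodK_append, fus1_step14,
      prodK_append, fus1_step15, prodK_append, fus1_step16, prodK_append, fus1_step17,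
      prodK_append, fus1_step18, prodK_append, fus1_step19, prodK_append, fus1_step20,
      prodK_append, fus1_step21, fus1_step22]
  · rw [e₁, prodK_append, fus1_step0, prodK_append, fus1_step1, prodK_append, fus1_step2, prodK_append,
      fus1_step3, prodK_append, fus1_step4, prodK_append, fus1_step5, prodK_append, fus1_step6,
      prodK_append, fus1_step7, prodK_append, fus1_step8, prodK_append, fus1_step9, fus1_step10]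

theorem fus_ok2 : fusOK 2 = true := by decide +kernel

theorem fus3_step0 :
    prodK xTbl [2, 3, 7, 8, 4, 3, 7, 3, 4, 5, 2, 3, 4, 1, 2, 3] (scM 1) = fusP3_0 := by
  decide +kernel

theorem fus3_step1 :
    prodK xTbl [7, 8, 5, 2, 3, 4, 1, 2, 3, 7, 6, 5, 4, 3, 2, 1] fusP3_0 = fusP3_1 := by
  decide +kernel

theorem fus3_step2 :
    prodK xTbl [0, 1, 2, 3, 4, 5, 6, 7, 3, 2, 1, 4, 3, 2, 5, 8] fusP3_1 = fusP3_2 := by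
  decide +kernel

theorem fus3_step3 :
    prodK xTbl [7, 3, 2, 1, 4, 3, 2, 5, 4, 3, 7, 3, 4, 8, 7, 3] fusP3_2 = fusP3_3 := by
  decide +kernel

theorem fus3_step4 :
    prodK xTbl [2, 8, 7, 5, 3, 4, 2, 3, 7, 8, 7, 5, 2, 3, 4, 1] fusP3_3 = fusP3_4 := by
  decide +kernel

theorem fus3_step5 :
    prodK xTbl [2, 3, 7, 6, 5, 4, 3, 2, 1, 0, 1, 2, 3, 4, 5, 6] fusP3_4 = fusP3_5 := by
  decide +kernel

theorem fus3_step6 :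
    prodK xTbl [7, 3, 2, 1, 4, 3, 2, 5, 7, 8, 7, 3, 2, 4, 3, 5] fusP3_5 = fusP3_6 := by
  decide +kernel

theorem fus3_step7 :
    prodK xTbl [7, 8, 8, 4, 3, 7, 3, 4, 5, 2, 3, 4, 0, 1, 2, 3] fusP3_6 = fusP3_7 := by
  decide +kernel

theorem fus3_step8 :
    prodK xTbl [7, 8, 5, 2, 3, 4, 1, 2, 3, 7, 6, 5, 4, 3, 2, 1] fusP3_7 = fusP3_8 := by
  decide +kernel

theorem fus3_step9 :
    prodK xTbl [0, 1, 2, 3, 4, 5, 6, 7, 3, 2, 1, 4, 3, 2, 5, 8] fusP3_8 = fusP3_9 := by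
  decide +kernel

theorem fus3_step10 :
    prodK xTbl [7, 3, 2, 1, 0, 4, 3, 2, 5, 4, 3, 7, 3, 4, 8, 3] fusP3_9 = fusP3_10 := by
  decide +kernel

theorem fus3_step11 :
    prodK xTbl [4, 1, 2, 3, 7, 8, 5, 4, 3, 7, 6, 5, 4, 3, 2, 1] fusP3_10 = fusP3_11 := by
  decide +kernel

theorem fus3_step12 :
    prodK xTbl [0, 1, 2, 3, 4, 5, 6, 7, 3, 4, 5, 8, 7, 3, 2, 1] fusP3_11 = fusP3_12 := by
  decide +kernel

theorem fus3_step13 :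
    prodK xTbl [4, 3, 7, 3, 4, 5, 2, 3, 4, 1, 2, 3, 7, 8, 5, 2] fusP3_12 = fusP3_13 := by
  decide +kernel

theorem fus3_step14 :
    prodK xTbl [3, 4, 1, 2, 3, 7, 6, 5, 4, 3, 2, 1, 0, 1, 2, 3] fusP3_13 = fusP3_14 := by
  decide +kernel

theorem fus3_step15 :
    prodK xTbl [4, 5, 6, 7, 3, 2, 1, 4, 3, 2, 5, 8, 7, 3, 2, 1] fusP3_14 = fusP3_15 := by
  decide +kernel

theorem fus3_step16 :
    prodK xTbl [4, 3, 2, 5, 4, 3, 7, 7, 8, 3, 4, 2, 3, 7, 6, 5] fusP3_15 = fusP3_16 := by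
  decide +kernel

theorem fus3_step17 :
    prodK xTbl [4, 3, 2, 1, 0, 1, 2, 3, 4, 5, 6, 7, 3, 2, 4, 3] fusP3_16 = fusP3_17 := by
  decide +kernel

theorem fus3_step18 :
    prodK xTbl [8, 7, 7, 8, 3, 7, 4, 5, 2, 3, 4, 0, 1, 2, 3, 7] fusP3_17 = fusP3_18 := by
  decide +kernel

theorem fus3_step19 :
    prodK xTbl [8, 4, 5, 2, 3, 4, 1, 2, 3, 7, 6, 5, 4, 3, 2, 1] fusP3_18 = fusP3_19 := by
  decide +kernel

theorem fus3_step20 :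
    prodK (fun _ => aM) [0] fusP3_19 = fusP3_20 := by
  decide +kernel

theorem fus3_step21 :
    prodK xTbl [1, 2, 3, 4, 5, 6, 7, 3, 2, 1, 4, 3, 2, 5, 4, 8] fusP3_20 = fusP3_21 := by
  decide +kernel

theorem fus3_step22 :
    prodK xTbl [7, 3, 2, 1, 0, 4, 3, 2, 5, 4, 7, 3, 8, 7, 7, 8] fusP3_21 = fusP3_22 := by
  decide +kernel

theorem fus3_step23 :
    prodK xTbl [3, 4, 2, 3, 7, 6, 5, 4, 3, 2, 1, 0, 1, 2, 3, 4] fusP3_22 = fusP3_23 := by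
  decide +kernel

theorem fus3_step24 :
    prodK xTbl [5, 6, 7, 3, 2, 4, 3, 8, 7, 7, 3, 4, 5, 2, 3, 4] fusP3_23 = fusP3_24 := by
  decide +kernel

theorem fus3_step25 :
    prodK xTbl [1, 2, 3, 7, 8, 5, 2, 3, 4, 1, 2, 3, 7, 6, 5, 4] fusP3_24 = fusP3_25 := by
  decide +kernel

theorem fus3_step26 :
    prodK xTbl [3, 2, 1, 0, 1, 2, 3, 4, 5, 6, 7, 3, 2, 1, 4, 3] fusP3_25 = fusP3_26 := by
  decide +kernel

theorem fus3_step27 :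
    prodK xTbl [2, 5, 8, 7, 3, 2, 1, 4, 3, 2, 5, 4, 3, 7, 3, 4] fusP3_26 = fusP3_27 := by
  decide +kernel

theorem fus3_step28 :
    prodK xTbl [1, 2, 3, 7, 8, 5, 4, 3, 7, 6, 5, 4, 3, 2, 1, 0] fusP3_27 = fusP3_28 := by
  decide +kernel

theorem fus3_step29 :
    prodK xTbl [1, 2, 3, 4, 5, 6, 7, 3, 4, 5, 8, 7, 3, 2, 1, 4] fusP3_28 = fusP3_29 := by
  decide +kernel

theorem fus3_step30 :
    prodK xTbl [3, 8, 4, 3, 7, 3, 4, 5, 2, 3, 4, 0, 1, 2, 3, 7] fusP3_29 = fusP3_30 := by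
  decide +kernel

theorem fus3_step31 :
    prodK xTbl [8, 5, 2, 3, 4, 1, 2, 3, 7, 6, 5, 4, 3, 2, 1, 0] fusP3_30 = fusP3_31 := by
  decide +kernel

theorem fus3_step32 :
    prodK xTbl [1, 2, 3, 4, 5, 6, 7, 3, 2, 1, 4, 3, 2, 5, 8, 7] fusP3_31 = fusP3_32 := by
  decide +kernel

theorem fus3_step33 :
    prodK xTbl [3, 2, 1, 0, 4, 3, 2, 5, 4, 3, 7, 3, 4, 8, 8, 7] fusP3_32 = fusP3_33 := by
  decide +kernel

theorem fus3_step34 :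
    prodK xTbl [5, 3, 4, 2, 3, 7, 8, 7, 5, 2, 3, 4, 1, 2, 3, 7] fusP3_33 = fusP3_34 := by
  decide +kernel

theorem fus3_step35 :
    prodK xTbl [6, 5, 4, 3, 2, 1, 0, 1, 2, 3, 4, 5, 6, 7, 3, 2] fusP3_34 = fusP3_35 := by
  decide +kernel

theorem fus3_step36 :
    prodK xTbl [1, 4, 3, 2, 5, 7, 8, 7, 3, 2, 4, 3, 5, 7, 8, 2] fusP3_35 = fusP3_36 := by
  decide +kernel

theorem fus3_step37 :
    prodK xTbl [3, 7, 8, 4, 3, 7, 3, 4, 5, 2, 3, 4, 1, 2, 3, 7] fusP3_36 = fusP3_37 := by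
  decide +kernel

theorem fus3_step38 :
    prodK xTbl [8, 5, 2, 3, 4, 1, 2, 3, 7, 6, 5, 4, 3, 2, 1, 0] fusP3_37 = fusP3_38 := by
  decide +kernel

theorem fus3_step39 :
    prodK xTbl [1, 2, 3, 4, 5, 6, 7, 3, 2, 1, 4, 3, 2, 5, 8, 7] fusP3_38 = fusP3_39 := by
  decide +kernel

theorem fus3_step40 :
    prodK xTbl [3, 2, 1, 4, 3, 2, 5, 4, 3, 7, 3, 4, 8, 7, 3, 2] fusP3_39 = fusP3_40 := by
  decide +kernel

theorem fus_ok3 : fusOK 3 = true := by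
  have e₁ : (fusT.getD 3 (0, 0, 0, [])).2.2.2 =
      [2, 3, 7, 8, 4, 3, 7, 3, 4, 5, 2, 3, 4, 1, 2, 3] ++ ([7, 8, 5, 2, 3, 4, 1, 2, 3, 7, 6, 5, 4,
       3, 2, 1] ++ ([0, 1, 2, 3, 4, 5, 6, 7, 3, 2, 1, 4, 3, 2, 5, 8] ++ ([7, 3, 2, 1, 4, 3, 2, 5,
       4, 3, 7, 3, 4, 8, 7, 3] ++ ([2, 8, 7, 5, 3, 4, 2, 3, 7, 8, 7, 5, 2, 3, 4, 1] ++ ([2, 3, 7,
       6, 5, 4, 3, 2, 1, 0, 1, 2, 3, 4, 5, 6] ++ ([7, 3, 2, 1, 4, 3, 2, 5, 7, 8, 7, 3, 2, 4, 3, 5]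
       ++ ([7, 8, 8, 4, 3, 7, 3, 4, 5, 2, 3, 4, 0, 1, 2, 3] ++ ([7, 8, 5, 2, 3, 4, 1, 2, 3, 7, 6,
       5, 4, 3, 2, 1] ++ ([0, 1, 2, 3, 4, 5, 6, 7, 3, 2, 1, 4, 3, 2, 5, 8] ++ ([7, 3, 2, 1, 0, 4,
       3, 2, 5, 4, 3, 7, 3, 4, 8, 3] ++ ([4, 1, 2, 3, 7, 8, 5, 4, 3, 7, 6, 5, 4, 3, 2, 1] ++ ([0,
       1, 2, 3, 4, 5, 6, 7, 3, 4, 5, 8, 7, 3, 2, 1] ++ ([4, 3, 7, 3, 4, 5, 2, 3, 4, 1, 2, 3, 7, 8,
       5, 2] ++ ([3, 4, 1, 2, 3, 7, 6, 5, 4, 3, 2, 1, 0, 1, 2, 3] ++ ([4, 5, 6, 7, 3, 2, 1, 4, 3,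
       2, 5, 8, 7, 3, 2, 1] ++ ([4, 3, 2, 5, 4, 3, 7, 7, 8, 3, 4, 2, 3, 7, 6, 5] ++ ([4, 3, 2, 1,
       0, 1, 2, 3, 4, 5, 6, 7, 3, 2, 4, 3] ++ ([8, 7, 7, 8, 3, 7, 4, 5, 2, 3, 4, 0, 1, 2, 3, 7] ++
       ([8, 4, 5, 2, 3, 4, 1, 2, 3, 7, 6, 5, 4, 3, 2, 1]))))))))))))))))))) := by
    decide +kernel
  have e₂ : (fusT.getD 3 (0, 0, 0, [])).2.2.2.reverse =
      [1, 2, 3, 4, 5, 6, 7, 3, 2, 1, 4, 3, 2, 5, 4, 8] ++ ([7, 3, 2, 1, 0, 4, 3, 2, 5, 4, 7, 3, 8,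
       7, 7, 8] ++ ([3, 4, 2, 3, 7, 6, 5, 4, 3, 2, 1, 0, 1, 2, 3, 4] ++ ([5, 6, 7, 3, 2, 4, 3, 8,
       7, 7, 3, 4, 5, 2, 3, 4] ++ ([1, 2, 3, 7, 8, 5, 2, 3, 4, 1, 2, 3, 7, 6, 5, 4] ++ ([3, 2, 1,
       0, 1, 2, 3, 4, 5, 6, 7, 3, 2, 1, 4, 3] ++ ([2, 5, 8, 7, 3, 2, 1, 4, 3, 2, 5, 4, 3, 7, 3, 4]
       ++ ([1, 2, 3, 7, 8, 5, 4, 3, 7, 6, 5, 4, 3, 2, 1, 0] ++ ([1, 2, 3, 4, 5, 6, 7, 3, 4, 5, 8,
       7, 3, 2, 1, 4] ++ ([3, 8, 4, 3, 7, 3, 4, 5, 2, 3, 4, 0, 1, 2, 3, 7] ++ ([8, 5, 2, 3, 4, 1,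
       2, 3, 7, 6, 5, 4, 3, 2, 1, 0] ++ ([1, 2, 3, 4, 5, 6, 7, 3, 2, 1, 4, 3, 2, 5, 8, 7] ++ ([3,
       2, 1, 0, 4, 3, 2, 5, 4, 3, 7, 3, 4, 8, 8, 7] ++ ([5, 3, 4, 2, 3, 7, 8, 7, 5, 2, 3, 4, 1, 2,
       3, 7] ++ ([6, 5, 4, 3, 2, 1, 0, 1, 2, 3, 4, 5, 6, 7, 3, 2] ++ ([1, 4, 3, 2, 5, 7, 8, 7, 3,
       2, 4, 3, 5, 7, 8, 2] ++ ([3, 7, 8, 4, 3, 7, 3, 4, 5, 2, 3, 4, 1, 2, 3, 7] ++ ([8, 5, 2, 3,
       4, 1, 2, 3, 7, 6, 5, 4, 3, 2, 1, 0] ++ ([1, 2, 3, 4, 5, 6, 7, 3, 2, 1, 4, 3, 2, 5, 8, 7] ++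
       ([3, 2, 1, 4, 3, 2, 5, 4, 3, 7, 3, 4, 8, 7, 3, 2]))))))))))))))))))) := by
    decide +kernel
  refine fusOK_of (M₁ := fusP3_19) (M₂ := fusP3_20) (M₃ := fusP3_40) (i := 1) (j := 1) (s := 1)
    (w := (fusT.getD 3 (0, 0, 0, [])).2.2.2) (by decide +kernel) (by decide +kernel) ?_ fus3_step20 ?_
    (by decide +kernel)
  · rw [e₂, prodK_append, fus3_step21, prodK_append, fus3_step22, prodK_append, fus3_step23,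
      prodK_append, fus3_step24, prodK_append, fus3_step25, prodK_append, fus3_step26,
      prodK_append, fus3_step27, prodK_append, fus3_step28, prodK_append, fus3_step29,
      prodK_append, fus3_step30, prodK_append, fus3_step31, prodK_append, fus3_step32,
      prodK_append, fus3_step33, prodK_append, fus3_step34, prodK_append, fus3_step35,
      prodK_append, fus3_step36, prodK_append, fus3_step37, prodK_append, fus3_step38,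
      prodK_append, fus3_step39, fus3_step40]
  · rw [e₁, prodK_append, fus3_step0, prodK_append, fus3_step1, prodK_append, fus3_step2, prodK_append,
      fus3_step3, prodK_append, fus3_step4, prodK_append, fus3_step5, prodK_append, fus3_step6,
      prodK_append, fus3_step7, prodK_append, fus3_step8, prodK_append, fus3_step9, prodK_append,
      fus3_step10, prodK_append, fus3_step11, prodK_append, fus3_step12, prodK_append,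
      fus3_step13, prodK_append, fus3_step14, prodK_append, fus3_step15, prodK_append,
      fus3_step16, prodK_append, fus3_step17, prodK_append, fus3_step18, fus3_step19]

end CfsgLib.Chev.TwE6Five
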