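import Cfsg.Agent.Lib.Chev.TwE6FiveBound
import Cfsg.Agent.Lib.Chev.TwE6FiveFus
import Cfsg.Agent.Lib.Recog.MoorePresentation
import Cfsg.Agent.Lib.Chev.TwistHOrders
import Mathlib.GroupTheory.SpecificGroups.Alternating.Simple

/-!
The centraliser of the element of order five is the product of a cyclic group of order five and an alternating group
of degree eight, and all elements of order five are conjugate.
-/

set_option autoImplicit false
set_option maxRecDepth 100000
set_option linter.unusedSimpArgs false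
set_option linter.unusedSectionVars false

namespace CfsgLib.Chev.TwE6Five

open Cfsg.Lie CfsgLib.Chev CfsgLib.Chev.E6C CfsgLib.Chev.F4InE6 CfsgLib.Chev.FiInE6 Matrix
open CfsgLib.InvChar.Coset (wprod)

theorem aM_diff : cd (row aM 0) 3 = 3 := by decide +kernel

theorem xMat_diff : cd (row xMat 0) 1 = 2 := by decide +kernel

theorem altM_diff : cd (row (altM.getD 1 []) 2) 19 = 1 := by decide +kernel

theorem bM_diff : ∀ i < 5, cd (row (prodK (fun _ => aM) (List.replicate i 0) (scM 1)) 0) 2 ≠ cd (row bM 0) 2 := by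
  decide +kernel

theorem fus_cover : ∀ i < 5, ∀ j < 5, ¬ (i = 0 ∧ j = 0) → ∃ n < 7, ∃ e < 4,
    i = (fusT.getD n (0, 0, 0, [])).1 * 2 ^ e % 5 ∧ j = (fusT.getD n (0, 0, 0, [])).2.1 * 2 ^ e % 5 := by
  decide +kernel

theorem fus_two : (fusT.getD 2 (0, 0, 0, [])).1 = 2 ∧ (fusT.getD 2 (0, 0, 0, [])).2.1 = 0 := by decide +kernel

variable {K : Type*} [Field K] [CharP K 2] {ω : Kˣ} (hω : ω ^ 3 = 1) (h1 : ω ≠ 1)
include hω h1

omit hω h1 in
/-- The six generators on 27 coordinates. -/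
noncomputable def altU (ω : Kˣ) (i : ℕ) : GL I27 K := ((altT.getD i []).map (uGen ω 0)).prod

omit hω h1 in
/-- The six generators in the twisted group. -/
noncomputable def altA (ω : Kˣ) (i : ℕ) : GL chevE6.Idx K := ((altT.getD i []).map (xGen ω 0)).prod

omit hω h1 in
theorem alt_gam (i : ℕ) : (altU ω i, altA ω i) ∈ Gam K := prod_mem_gam _ _ fun g _ => gen_mem_gam ω 0 g

theorem altA_twisted (i : ℕ) : altA ω i ∈ twistedE6 K 2 := by
  refine Subgroup.list_prod_mem _ fun y hy => ?_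
  obtain ⟨g, -, rfl⟩ := List.mem_map.1 hy
  exact gen_twisted hω h1 0 g

theorem alt_facts {i : ℕ} (hi : i < 6) :
    (altM.getD i []).length = 27 ∧ (altU ω i : Matrix I27 I27 K) = mat (ω : K) (altM.getD i []) ∧
      altU ω i * xU ω = xU ω * altU ω i ∧ altU ω i ^ (if i = 0 then 3 else 2) = 1 ∧
      ∀ j, i < j → j < 6 → (altU ω i * altU ω j) ^ (if j = i + 1 then 3 else 2) = 1 := by
  have hw := omega_sq hω h1
  have mats : ∀ i < 6, (altM.getD i []).length = 27 ∧
      (altU ω i : Matrix I27 I27 K) = mat (ω : K) (altM.getD i []) := by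
    intro i hi
    have h := allR_upto alt_ok hi
    simp only [Bool.and_eq_true] at h
    exact prodK_one hω h1 (f := uGen ω 0) (fun g hg => by
      have hg' : g < 12 := Nat.le_of_ble_eq_true (allR_true h.1.1.1.2 hg)
      exact ⟨gTbl_length g hg', mat_uGen hω h1 hg'⟩) h.1.1.1.1
  obtain ⟨hl, hm⟩ := mats i hi
  obtain ⟨hxm, hxl⟩ := mat_xU hω h1
  have h := allR_upto alt_ok hi
  simp only [Bool.and_eq_true] at h
  refine ⟨hl, hm, ?_, ?_, ?_⟩
  · obtain ⟨-, -, he⟩ := eqM_spec (ω : K) h.1.1.2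
    rw [mat_mul hw hl hxl, mat_mul hw hxl hl, ← hm, ← hxm] at he
    exact Units.ext he
  · obtain ⟨-, he⟩ := prodK_one hω h1 (f := fun _ => altU ω i) (fun x _ => ⟨hl, hm⟩) h.1.2
    refine Units.ext ?_
    rw [Units.val_one, ← mat_one hw, ← he, show (bif Nat.beq i 0 then 3 else 2) = if i = 0 then 3 else 2 by
      rw [natBeq]; by_cases e : i = 0 <;> simp [e]]
    simp
  · intro j hij hj
    obtain ⟨hlj, hmj⟩ := mats j hj
    have h' := allR_upto h.2 hj
    rw [show Nat.blt i j = true from Nat.ble_eq_true_of_le hij, cond_true] at h'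
    obtain ⟨-, he⟩ := prodK_one hω h1 (f := fun _ => altU ω i * altU ω j) (fun x _ =>
      ⟨(length_mulM _ _).trans hl, by rw [Units.val_mul, mat_mul hw hl hlj, hm, hmj]⟩) h'
    refine Units.ext ?_
    rw [Units.val_one, ← mat_one hw, ← he, show (bif Nat.beq j (i + 1) then 3 else 2) = if j = i + 1 then 3 else 2 by
      rw [natBeq]; by_cases e : j = i + 1 <;> simp [e]]
    simp

/-- An element which differs from the scalars in one entry is not a scalar. -/
theorem not_scal {u : GL I27 K} {M : PM} (hu : (u : Matrix I27 I27 K) = mat (ω : K) M) {k j : ℕ} (hk : k < 27)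
    (hj : j < 27) (hkj : k ≠ j) (hne : cd (row M k) j ≠ 0) : ¬ IsScal u := by
  rintro ⟨c, hc⟩
  have h : ent u k j = 0 := by
    rw [ent, hc, Matrix.smul_apply, Matrix.one_apply_ne, smul_zero]
    intro e
    exact hkj (by rw [← e_pt hk, e, e_pt hj])
  rw [ent, hu, mat_cv hω h1 _ hk hj] at h
  exact hne (cv_eq_zero hω h1 (cd_lt _ _) h)

omit hω h1 in
theorem scal_one_of_one {g : GL chevE6.Idx K} {u : GL I27 K} (hp : (u, g) ∈ Gam K) (hg : g = 1) : IsScal u := by
  subst hg; exact gam_scalar hp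

theorem xT_pow : xT (ω := ω) hω h1 ^ 5 = 1 := by
  refine Subtype.ext ?_
  rw [SubmonoidClass.coe_pow, OneMemClass.coe_one]
  refine gam_trivial ?_
  have h := pow_mem (xpair_mem (K := K) (ω := ω)) 5
  rwa [Prod.pow_mk, xU_pow hω h1] at h

theorem xT_ne : xT (ω := ω) hω h1 ≠ 1 := fun e =>
  not_scal hω h1 (mat_xU hω h1).1 (show 0 < 27 by norm_num) (show 1 < 27 by norm_num) (by norm_num)
    (by rw [xMat_diff]; norm_num) (scal_one_of_one xpair_mem (congrArg Subtype.val e))

theorem xT_order : orderOf (xT (ω := ω) hω h1) = 5 :=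
  haveI : Fact (Nat.Prime 5) := ⟨by norm_num⟩
  orderOf_eq_prime (xT_pow hω h1) (xT_ne hω h1)

theorem alt_comm {i : ℕ} (hi : i < 6) : altA ω i * xA ω = xA ω * altA ω i := by
  have hp : (xU ω, xA ω) ∈ Gam K := xpair_mem
  have h1' := mul_mem (alt_gam (K := K) (ω := ω) i) hp
  have h2 := mul_mem hp (alt_gam (K := K) (ω := ω) i)
  have h := mul_mem h1' (inv_mem h2)
  rw [Prod.mk_mul_mk, Prod.mk_mul_mk, Prod.inv_mk, Prod.mk_mul_mk, (alt_facts hω h1 hi).2.2.1,
    mul_inv_cancel] at h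
  exact mul_inv_eq_one.1 (gam_trivial h)

omit hω h1 in
/-- The generators inside the centraliser. -/
noncomputable def altC (hω : ω ^ 3 = 1) (h1 : ω ≠ 1) (i : Fin 6) :
    Subgroup.centralizer ({xT hω h1} : Set ↥(twistedE6 K 2)) :=
  ⟨⟨altA ω i, altA_twisted hω h1 i⟩,
    Subgroup.mem_centralizer_singleton_iff.2 (Subtype.ext (alt_comm hω h1 i.2))⟩

theorem altC_good : CfsgLib.Recog.Moore.Good 6 (altC (ω := ω) hω h1) := by
  have key : ∀ (i : ℕ) (n : ℕ), altU ω i ^ n = 1 → altA ω i ^ n = 1 := fun i n e => by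
    refine gam_trivial ?_
    have h := pow_mem (alt_gam (K := K) (ω := ω) i) n
    rwa [Prod.pow_mk, e] at h
  have key2 : ∀ (i j : ℕ) (n : ℕ), (altU ω i * altU ω j) ^ n = 1 → (altA ω i * altA ω j) ^ n = 1 :=
    fun i j n e => by
      refine gam_trivial ?_
      have h := pow_mem (mul_mem (alt_gam (K := K) (ω := ω) i) (alt_gam (ω := ω) j)) n
      rwa [Prod.mk_mul_mk, Prod.pow_mk, e] at h
  refine ⟨fun i hi => ?_, fun i hi => ?_, fun i j hij => ?_, fun i j hij => ?_⟩ <;>
    refine Subtype.ext (Subtype.ext ?_)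
  · have := (alt_facts hω h1 i.2).2.2.2.1
    rw [if_pos hi] at this
    simpa [altC] using key _ _ this
  · have := (alt_facts hω h1 i.2).2.2.2.1
    rw [if_neg (by omega)] at this
    simpa [altC] using key _ _ this
  · have := (alt_facts hω h1 i.2).2.2.2.2 j (by omega) j.2
    rw [if_pos hij] at this
    simpa [altC] using key2 _ _ _ this
  · have := (alt_facts hω h1 i.2).2.2.2.2 j (by omega) j.2
    rw [if_neg (by omega)] at this
    simpa [altC] using key2 _ _ _ this

variable [Fintype K] (hK : Fintype.card K = 4)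
include hK

/-- The structure of the centraliser. -/
theorem centralizer_equiv : Nonempty (Subgroup.centralizer ({xT hω h1} : Set ↥(twistedE6 K 2)) ≃*
    (Multiplicative (ZMod 5) × ↥(alternatingGroup (Fin 8)))) := by
  classical
  obtain ⟨e⟩ := CfsgLib.Recog.Moore.nonempty_equiv 6
  let ψ : alternatingGroup (Fin 8) →* Subgroup.centralizer ({xT hω h1} : Set ↥(twistedE6 K 2)) :=
    (PresentedGroup.toGroup (CfsgLib.Recog.Moore.good_lift 6 (altC_good hω h1))).comp e.symm.toMonoidHom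
  haveI : IsSimpleGroup (alternatingGroup (Fin 8)) := alternatingGroup.isSimpleGroup (by simp)
  have hψ : Function.Injective ψ := by
    rw [← MonoidHom.ker_eq_bot_iff]
    refine (Subgroup.Normal.eq_bot_or_eq_top inferInstance).resolve_right fun htop => ?_
    have h := MonoidHom.mem_ker.1 (htop ▸ Subgroup.mem_top (e (PresentedGroup.of (1 : Fin 6))))
    simp only [ψ, MonoidHom.coe_comp, Function.comp_apply, MulEquiv.coe_toMonoidHom, MulEquiv.symm_apply_apply,
      PresentedGroup.toGroup.of] at h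
    exact not_scal hω h1 (alt_facts hω h1 (show 1 < 6 by norm_num)).2.1 (show 2 < 27 by norm_num)
      (show 19 < 27 by norm_num) (by norm_num) (by rw [altM_diff]; norm_num)
      (scal_one_of_one (alt_gam 1) (congrArg Subtype.val (congrArg Subtype.val h)))
  let z : Subgroup.centralizer ({xT hω h1} : Set ↥(twistedE6 K 2)) :=
    ⟨xT hω h1, Subgroup.mem_centralizer_singleton_iff.2 rfl⟩
  have hz : orderOf z = 5 := by rw [← Subgroup.orderOf_coe]; exact xT_order hω h1
  have hzc : ∀ w : Subgroup.centralizer ({xT hω h1} : Set ↥(twistedE6 K 2)), z * w = w * z := fun w =>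
    Subtype.ext (Subgroup.mem_centralizer_singleton_iff.1 w.2).symm
  let e5 : Multiplicative (ZMod 5) ≃* Subgroup.zpowers z :=
    mulEquivOfCyclicCardEq (by rw [Nat.card_zpowers, hz]; simp)
  let φ : Multiplicative (ZMod 5) →* Subgroup.centralizer ({xT hω h1} : Set ↥(twistedE6 K 2)) :=
    (Subgroup.zpowers z).subtype.comp e5.toMonoidHom
  have hφc : ∀ m w, Commute (φ m) w := fun m w => by
    obtain ⟨i, hi⟩ := (e5 m).2
    rw [show φ m = z ^ i from hi.symm]
    exact Commute.zpow_left (hzc w) i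
  let Φ := φ.noncommCoprod ψ fun m n => hφc m (ψ n)
  have hcenter : Subgroup.center (alternatingGroup (Fin 8)) = ⊥ := by
    refine (Subgroup.Normal.eq_bot_or_eq_top inferInstance).resolve_right fun htop => ?_
    letI : CommGroup (alternatingGroup (Fin 8)) := Group.commGroupOfCenterEqTop htop
    have hp := IsSimpleGroup.prime_card (α := alternatingGroup (Fin 8))
    rw [nat_card_alternatingGroup, Nat.card_fin] at hp
    exact absurd hp (by norm_num [Nat.factorial])
  have hΦ : Function.Injective Φ := by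
    rw [injective_iff_map_eq_one]
    rintro ⟨m, n⟩ hmn
    have hmn' : φ m * ψ n = 1 := hmn
    have hn : n = 1 := by
      rw [← Subgroup.mem_bot, ← hcenter, Subgroup.mem_center_iff]
      intro g
      refine hψ ?_
      have hm : ψ n = (φ m)⁻¹ := (inv_eq_of_mul_eq_one_right hmn').symm
      rw [map_mul, map_mul, hm]
      exact ((hφc m (ψ g)).inv_left).eq.symm
    subst hn
    rw [map_one, mul_one] at hmn'
    have : e5 m = 1 := Subtype.ext hmn'
    rw [e5.map_eq_one_iff] at this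
    rw [this]; rfl
  have hcard : Nat.card (Multiplicative (ZMod 5) × ↥(alternatingGroup (Fin 8))) = 100800 := by
    rw [Nat.card_prod, nat_card_alternatingGroup, Nat.card_fin, Nat.card_congr Multiplicative.toAdd,
      Nat.card_zmod]
    norm_num [Nat.factorial]
  refine ⟨(MulEquiv.ofBijective Φ ((Nat.bijective_iff_injective_and_card Φ).2 ⟨hΦ, ?_⟩)).symm⟩
  refine le_antisymm (Nat.card_le_card_of_injective Φ hΦ) ?_
  rw [hcard]
  exact card_centralizer_le hω h1 hK

omit hK [Fintype K] hω h1 in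
theorem rev_prod {G : Type*} [Group G] {f : ℕ → G} (hf : ∀ x, f x * f x = 1) :
    ∀ L : List ℕ, (L.reverse.map f).prod = ((L.map f).prod)⁻¹
  | [] => by simp
  | a :: L => by
    rw [List.reverse_cons, List.map_append, List.prod_append, rev_prod hf L]
    simp [inv_eq_of_mul_eq_one_right (hf a)]

set_option maxHeartbeats 1000000 in
/-- All elements of order five are conjugate. -/
theorem conj_all {x y : ↥(twistedE6 K 2)} (hx : orderOf x = 5) (hy : orderOf y = 5) : IsConj x y := by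
  classical
  haveI : Fact (Nat.Prime 5) := ⟨by norm_num⟩
  have hw := omega_sq hω h1
  have hab := ab_ok
  simp only [abOK, Bool.and_eq_true] at hab
  obtain ⟨⟨⟨⟨⟨⟨la, lb⟩, ea⟩, eb⟩, ec⟩, e5a⟩, e5b⟩ := hab
  have xl : ∀ {L : List ℕ}, CfsgLib.Chev.allR (fun k => Nat.blt k 9) L = true → ∀ g ∈ L, g < 9 := fun h g hg =>
    Nat.le_of_ble_eq_true (allR_true h hg)
  have hX : ∀ {L : List ℕ}, (∀ g ∈ L, g < 9) → ∀ g ∈ L,
      (xTbl g).length = 27 ∧ (uX ω 0 g : Matrix I27 I27 K) = mat (ω : K) (xTbl g) := fun h g hg =>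
    ⟨xTbl_length (h g hg), mat_uX hω h1 (h g hg)⟩
  obtain ⟨hal, ham⟩ := prodK_one hω h1 (f := uX ω 0) (hX (xl la)) ea
  obtain ⟨hbl, hbm⟩ := prodK_one hω h1 (f := uX ω 0) (hX (xl lb)) eb
  let W : List ℕ → ↥(twistedE6 K 2) := fun L => ⟨wprod (xX ω 0) L, Subgroup.list_prod_mem _ fun z hz => by
    obtain ⟨g, -, rfl⟩ := List.mem_map.1 hz
    exact x_twisted hω h1 0 g⟩
  have hgam : ∀ L, (wprod (uX ω 0) L, wprod (xX ω 0) L) ∈ Gam K := fun L =>
    prod_mem_gam _ _ fun g _ => x_mem_gam ω 0 g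
  let aU := wprod (uX ω 0) aW
  let bU := wprod (uX ω 0) bW
  let a := W aW
  let b := W bW
  have of_eq : ∀ {u v : GL I27 K} {g h : ↥(twistedE6 K 2)}, (u, (g : GL chevE6.Idx K)) ∈ Gam K →
      (v, (h : GL chevE6.Idx K)) ∈ Gam K → u = v → g = h := fun {u v g h} hu hv e => by
    subst e
    have := mul_mem hu (inv_mem hv)
    rw [Prod.inv_mk, Prod.mk_mul_mk, mul_inv_cancel] at this
    exact Subtype.ext (mul_inv_eq_one.1 (gam_trivial this))
  have gp : ∀ (L : List ℕ) (n : ℕ), (wprod (uX ω 0) L ^ n, ((W L ^ n : ↥(twistedE6 K 2)) : GL chevE6.Idx K)) ∈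
      Gam K := fun L n => by
    have := pow_mem (hgam L) n
    rwa [Prod.pow_mk] at this
  have ha5u : aU ^ 5 = 1 := by
    obtain ⟨-, h⟩ := prodK_one hω h1 (f := fun _ => aU) (fun _ _ => ⟨hal, ham⟩) e5a
    refine Units.ext ?_
    rw [Units.val_one, ← mat_one hw, ← h]; simp [pow_succ, mul_assoc]
  have hb5u : bU ^ 5 = 1 := by
    obtain ⟨-, h⟩ := prodK_one hω h1 (f := fun _ => bU) (fun _ _ => ⟨hbl, hbm⟩) e5b
    refine Units.ext ?_
    rw [Units.val_one, ← mat_one hw, ← h]; simp [pow_succ, mul_assoc]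
  have ha5 : a ^ 5 = 1 := of_eq (gp aW 5) (one_mem (Gam K)) ha5u
  have hb5 : b ^ 5 = 1 := of_eq (gp bW 5) (one_mem (Gam K)) hb5u
  have habu : aU * bU = bU * aU := by
    obtain ⟨-, -, h⟩ := eqM_spec (ω : K) ec
    rw [mat_mul hw hal hbl, mat_mul hw hbl hal, ← ham, ← hbm] at h
    exact Units.ext h
  have hcomm : a * b = b * a := of_eq (mul_mem (hgam aW) (hgam bW)) (mul_mem (hgam bW) (hgam aW)) habu
  have hane : a ≠ 1 := fun e =>
    not_scal hω h1 ham (show 0 < 27 by norm_num) (show 3 < 27 by norm_num) (by norm_num)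
      (by rw [aM_diff]; norm_num) (scal_one_of_one (hgam aW) (congrArg Subtype.val e))
  have hbne : ∀ i < 5, b ≠ a ^ i := by
    intro i hi e
    have h' := mul_mem (gp aW i) (inv_mem (hgam bW))
    rw [Prod.inv_mk, Prod.mk_mul_mk] at h'
    obtain ⟨c, hc⟩ := scal_one_of_one h' (by
      rw [show ((a ^ i : ↥(twistedE6 K 2)) : GL chevE6.Idx K) = (b : GL chevE6.Idx K) by rw [← e]]
      exact mul_inv_cancel _)
    have h5 : (aU ^ i * bU⁻¹) ^ 5 = 1 := by
      have hcm : Commute (aU ^ i) bU⁻¹ := ((show Commute aU bU from habu).pow_left i).inv_right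
      rw [hcm.mul_pow, ← pow_mul, mul_comm i, pow_mul, ha5u, inv_pow, hb5u]; simp
    have hc5 : c ^ 5 = 1 := by
      have e' : (((aU ^ i * bU⁻¹) ^ 5 : GL I27 K) : Matrix I27 I27 K) = 1 := by rw [h5, Units.val_one]
      rw [Units.val_pow_eq_pow_val, hc, smul_pow, one_pow] at e'
      have := congrFun (congrFun e' (pt 0)) (pt 0)
      simpa using this
    have hc1 : c = 1 := by
      have h3 := cube_eq_one hK (c := c) (by rintro rfl; simp at hc5)
      calc c = c ^ 5 * c := by rw [hc5, one_mul]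
        _ = (c ^ 3) ^ 2 := by ring
        _ = 1 := by rw [h3, one_pow]
    have hu : aU ^ i = bU := mul_inv_eq_one.1 (Units.ext (by rw [hc, hc1, one_smul, Units.val_one]))
    obtain ⟨-, hpm⟩ := prodK_spec hω h1 (tbl := fun _ => aM) (List.replicate i 0) (scM 1)
      (fun _ _ => hal) (scM_length 1)
    rw [mat_one hw, one_mul, List.map_replicate, List.prod_replicate, ← ham] at hpm
    have hh : cv ω (cd (row (prodK (fun _ => aM) (List.replicate i 0) (scM 1)) 0) 2) = cv ω (cd (row bM 0) 2) := by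
      rw [← mat_cv hω h1 _ (show 0 < 27 by norm_num) (show 2 < 27 by norm_num),
        ← mat_cv hω h1 _ (show 0 < 27 by norm_num) (show 2 < 27 by norm_num), hpm, ← hbm,
        ← Units.val_pow_eq_pow_val]
      exact congrArg (fun z : GL I27 K => (z : Matrix I27 I27 K) (pt 0) (pt 2)) hu
    refine bM_diff i hi ?_
    have hs : cv ω (addc (cd (row (prodK (fun _ => aM) (List.replicate i 0) (scM 1)) 0) 2) (cd (row bM 0) 2)) = 0 := by
      rw [cv_addc hω h1, hh, CharTwo.add_self_eq_zero]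
    exact (by decide +kernel : ∀ p < 4, ∀ q < 4, addc p q = 0 → p = q) _ (cd_lt _ _) _ (cd_lt _ _)
      (cv_eq_zero hω h1 (cd_lt _ _) hs)
  have fus : ∀ n < 7, IsConj a (a ^ (fusT.getD n (0, 0, 0, [])).1 * b ^ (fusT.getD n (0, 0, 0, [])).2.1) := by
    intro n hn
    have h := fus_ok hn
    rw [fusOK] at h
    simp only [Bool.and_eq_true] at h
    generalize fusT.getD n (0, 0, 0, []) = f at h ⊢
    obtain ⟨i, j, s, w⟩ := f
    simp only at h ⊢
    obtain ⟨lw, he⟩ := h
    obtain ⟨-, -, he⟩ := eqM_spec (ω : K) he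
    obtain ⟨l1, m1⟩ := prodK_spec hω h1 (tbl := xTbl) w (scM 1) (fun g hg => (hX (xl lw) g hg).1) (scM_length 1)
    obtain ⟨l2, m2⟩ := prodK_spec hω h1 (tbl := fun _ => aM) [0] _ (fun _ _ => hal) l1
    obtain ⟨l3, m3⟩ := prodK_spec hω h1 (tbl := xTbl) w.reverse _
      (fun g hg => (hX (xl lw) g (List.mem_reverse.1 hg)).1) l2
    obtain ⟨r1, n1⟩ := prodK_spec hω h1 (tbl := fun _ => aM) (List.replicate i 0) (scM 1) (fun _ _ => hal)
      (scM_length 1)
    obtain ⟨-, n2⟩ := prodK_spec hω h1 (tbl := fun _ => bM) (List.replicate j 0) _ (fun _ _ => hbl) r1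
    rw [m3, m2, m1, n2, n1, mat_one hw, one_mul, one_mul] at he
    have hW : ∀ L : List ℕ, (∀ g ∈ L, g < 9) → (L.map fun g => mat (ω : K) (xTbl g)).prod =
        ((wprod (uX ω 0) L : GL I27 K) : Matrix I27 I27 K) := by
      intro L hL
      rw [wprod]
      conv_rhs => rw [← Units.coeHom_apply, map_list_prod, List.map_map]
      exact congrArg List.prod (List.map_congr_left fun g hg => ((hX hL g hg).2).symm)
    rw [hW w (xl lw), hW _ (fun g hg => xl lw g (List.mem_reverse.1 hg))] at he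
    simp only [List.map_replicate, List.prod_replicate, List.map_cons, List.map_nil, List.prod_cons,
      List.prod_nil, mul_one, ← ham, ← hbm, ← Units.val_mul, ← Units.val_pow_eq_pow_val] at he
    have e : W w * a * W w.reverse = a ^ i * b ^ j :=
      of_eq (mul_mem (mul_mem (hgam w) (hgam aW)) (hgam w.reverse)) (mul_mem (gp aW i) (gp bW j)) (Units.ext he)
    have hrev : W w.reverse = (W w)⁻¹ := Subtype.ext (rev_prod (xX_sq hω h1 0) w)
    rw [hrev] at e
    exact isConj_iff.2 ⟨W w, e⟩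
  have hsq : ∀ {z : ↥(twistedE6 K 2)}, IsConj a z → IsConj a (z ^ 2) := by
    intro z hz
    have h2 := fus 2 (by norm_num)
    rw [fus_two.1, fus_two.2, pow_zero, mul_one] at h2
    obtain ⟨g, hg⟩ := isConj_iff.1 hz
    exact h2.trans (isConj_iff.2 ⟨g, by rw [← conj_pow, hg]⟩)
  have hpow : ∀ (e : ℕ) {z : ↥(twistedE6 K 2)}, IsConj a z → IsConj a (z ^ 2 ^ e) := by
    intro e
    induction e with
    | zero => intro z hz; simpa using hz
    | succ e ih => intro z hz; rw [pow_succ, pow_mul]; exact hsq (ih hz)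
  have hall : ∀ i < 5, ∀ j < 5, ¬ (i = 0 ∧ j = 0) → IsConj a (a ^ i * b ^ j) := by
    intro i hi j hj hij
    obtain ⟨n, hn, e, -, hie, hje⟩ := fus_cover i hi j hj hij
    have h := hpow e (fus n hn)
    rw [(Commute.pow_pow (show Commute a b from hcomm) _ _).mul_pow, ← pow_mul, ← pow_mul,
      pow_eq_pow_mod _ ha5, pow_eq_pow_mod _ hb5, ← hie, ← hje] at h
    exact h
  have hoa : orderOf a = 5 := orderOf_eq_prime ha5 hane
  have hob : orderOf b = 5 := orderOf_eq_prime hb5 (by simpa using hbne 0 (by norm_num))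
  let P0 : Subgroup ↥(twistedE6 K 2) :=
    { carrier := {z | ∃ i < 5, ∃ j < 5, z = a ^ i * b ^ j}
      one_mem' := ⟨0, by norm_num, 0, by norm_num, by simp⟩
      mul_mem' := by
        rintro _ _ ⟨i, -, j, -, rfl⟩ ⟨k, -, l, -, rfl⟩
        refine ⟨(i + k) % 5, Nat.mod_lt _ (by norm_num), (j + l) % 5, Nat.mod_lt _ (by norm_num), ?_⟩
        rw [← pow_eq_pow_mod _ ha5, ← pow_eq_pow_mod _ hb5, pow_add, pow_add]
        exact (Commute.pow_pow (show Commute b a from hcomm.symm) j k).mul_mul_mul_comm _ _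
      inv_mem' := by
        rintro _ ⟨i, hi, j, hj, rfl⟩
        refine ⟨(5 - i) % 5, Nat.mod_lt _ (by norm_num), (5 - j) % 5, Nat.mod_lt _ (by norm_num), ?_⟩
        rw [← pow_eq_pow_mod _ ha5, ← pow_eq_pow_mod _ hb5]
        refine inv_eq_of_mul_eq_one_right ?_
        rw [(Commute.pow_pow (show Commute b a from hcomm.symm) j (5 - i)).mul_mul_mul_comm, ← pow_add, ← pow_add,
          show i + (5 - i) = 5 by omega, show j + (5 - j) = 5 by omega, ha5, hb5, one_mul] }
  have hP0 : Nat.card P0 = 5 ^ 2 := by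
    let F : Fin 5 × Fin 5 → P0 := fun p => ⟨a ^ (p.1 : ℕ) * b ^ (p.2 : ℕ), p.1, p.1.2, p.2, p.2.2, rfl⟩
    have hF : Function.Bijective F := by
      refine ⟨?_, fun z => ?_⟩
      · rintro ⟨i, j⟩ ⟨k, l⟩ h
        have h' : a ^ (i : ℕ) * b ^ (j : ℕ) = a ^ (k : ℕ) * b ^ (l : ℕ) := congrArg Subtype.val h
        have hjl : (j : ℕ) = l := by
          by_contra hne
          obtain ⟨m, hm⟩ : ∃ m, ((j : ℕ) + 5 - l) * m % 5 = 1 := by
            have := (by decide : ∀ j l : Fin 5, (j : ℕ) ≠ l → ∃ m < 5, ((j : ℕ) + 5 - l) * m % 5 = 1) j l hne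
            obtain ⟨m, -, hm⟩ := this
            exact ⟨m, hm⟩
          have e1 : b ^ ((j : ℕ) + 5 - l) = a ^ ((k : ℕ) + 5 - i) := by
            have eb : b ^ ((j : ℕ) + 5 - l) * b ^ (l : ℕ) = b ^ (j : ℕ) := by
              rw [← pow_add, show (j : ℕ) + 5 - l + l = j + 5 by omega, pow_add, hb5, mul_one]
            have ea : a ^ (i : ℕ) * a ^ ((k : ℕ) + 5 - i) = a ^ (k : ℕ) := by
              rw [← pow_add, show (i : ℕ) + (k + 5 - i) = k + 5 by omega, pow_add, ha5, mul_one]
            refine mul_right_cancel (b := b ^ (l : ℕ)) ?_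
            refine mul_left_cancel (a := a ^ (i : ℕ)) ?_
            rw [eb, ← mul_assoc, ea, h']
          have e2 := congrArg (fun z => z ^ m) e1
          simp only [← pow_mul] at e2
          rw [pow_eq_pow_mod _ hb5, hm, pow_one, pow_eq_pow_mod _ ha5] at e2
          exact hbne _ (Nat.mod_lt _ (by norm_num)) e2
        rw [hjl, mul_left_inj] at h'
        have hik := pow_inj_mod.1 h'
        rw [hoa, Nat.mod_eq_of_lt i.2, Nat.mod_eq_of_lt k.2] at hik
        exact Prod.ext (Fin.ext hik) (Fin.ext hjl)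
      · obtain ⟨z, i, hi, j, hj, rfl⟩ := z
        exact ⟨(⟨i, hi⟩, ⟨j, hj⟩), rfl⟩
    rw [← Nat.card_eq_of_bijective F hF, Nat.card_prod, Nat.card_fin]; rfl
  have hcardG : Nat.card ↥(twistedE6 K 2) * 3 =
      2 ^ 36 * (2 ^ 2 - 1) * (2 ^ 5 + 1) * (2 ^ 6 - 1) * (2 ^ 8 - 1) * (2 ^ 9 + 1) * (2 ^ 12 - 1) := by
    have := card_twistedE6 K (q := 2) Nat.prime_two.isPrimePow (by rw [hK]; norm_num)
    rw [mul_comm] at this
    simpa using this
  have hfac : (Nat.card ↥(twistedE6 K 2)).factorization 5 = 2 := by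
    have hval : Nat.card ↥(twistedE6 K 2) =
        5 ^ 2 * (2 ^ 36 * 11 * (63 * 51 * 513 * 819) * 3) := by norm_num at hcardG ⊢; omega
    rw [hval, Nat.factorization_mul (by norm_num) (by norm_num), Finsupp.add_apply,
      Nat.Prime.factorization_pow (by norm_num : Nat.Prime 5), Finsupp.single_eq_same,
      Nat.factorization_eq_zero_of_not_dvd (by norm_num)]
  haveI : Finite ↥(twistedE6 K 2) := inferInstance
  let S0 : Sylow 5 ↥(twistedE6 K 2) := Sylow.ofCard P0 (by rw [hP0, hfac])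
  have reach : ∀ {z : ↥(twistedE6 K 2)}, orderOf z = 5 → IsConj a z := by
    intro z hz
    have hp : IsPGroup 5 (Subgroup.zpowers z) := IsPGroup.of_card (n := 1) (by rw [Nat.card_zpowers, hz, pow_one])
    obtain ⟨Q, hQ⟩ := hp.exists_le_sylow
    obtain ⟨g, hg⟩ := MulAction.exists_smul_eq (↥(twistedE6 K 2)) Q S0
    have hmem : g * z * g⁻¹ ∈ P0 := by
      have : MulAut.conj g • z ∈ ((g • Q : Sylow 5 ↥(twistedE6 K 2)) : Subgroup ↥(twistedE6 K 2)) := by
        rw [Sylow.coe_subgroup_smul]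
        exact Subgroup.smul_mem_pointwise_smul _ _ _ (hQ (Subgroup.mem_zpowers z))
      rw [hg] at this
      exact this
    obtain ⟨i, hi, j, hj, e⟩ := hmem
    have hij : ¬ (i = 0 ∧ j = 0) := by
      rintro ⟨rfl, rfl⟩
      rw [pow_zero, pow_zero, one_mul] at e
      rw [conj_eq_one_iff.1 e, orderOf_one] at hz
      norm_num at hz
    have hc := hall i hi j hj hij
    rw [← e] at hc
    exact hc.trans (isConj_iff.2 ⟨g⁻¹, by group⟩)
  exact (reach hx).symm.trans (reach hy)

end CfsgLib.Chev.TwE6Five
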