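import Cfsg.Agent.Lib.Chev.TwE6FiveBasic

/-!
The element of order five on the 27 coordinates, its centralising isometries and their behaviour on unit vectors.
-/

set_option autoImplicit false
set_option maxRecDepth 100000
set_option linter.unusedSimpArgs false
set_option linter.unusedSectionVars false

namespace CfsgLib.Chev.TwE6Five

open Cfsg.Lie CfsgLib.Chev CfsgLib.Chev.E6C CfsgLib.Chev.F4InE6 CfsgLib.Chev.FiInE6 Matrix

theorem forceM_eq {α : Type} : ∀ (M : PM) (k : PM → α), forceM M k = k M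
  | [], k => rfl
  | r :: M, k => by
    show CfsgLib.InvChar.Coset.force r.1 (fun a => CfsgLib.InvChar.Coset.force r.2 fun b =>
      forceM M fun R => k ((a, b) :: R)) = k (r :: M)
    rw [CfsgLib.InvChar.Coset.force_eq, CfsgLib.InvChar.Coset.force_eq, forceM_eq M]

variable {K : Type*} [Field K] [CharP K 2] {ω : Kˣ} (hω : ω ^ 3 = 1) (h1 : ω ≠ 1)
include hω h1

theorem prodK_spec {tbl : ℕ → PM} : ∀ (L : List ℕ) (cur : PM), (∀ x ∈ L, (tbl x).length = 27) →
    cur.length = 27 → (prodK tbl L cur).length = 27 ∧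
      mat (ω : K) (prodK tbl L cur) = mat (ω : K) cur * (L.map fun x => mat (ω : K) (tbl x)).prod
  | [], cur, _, hc => by simp [prodK, hc]
  | x :: L, cur, hL, hc => by
    have e : prodK tbl (x :: L) cur = prodK tbl L (mulM cur (tbl x)) := forceM_eq _ _
    have hlen : (mulM cur (tbl x)).length = 27 := (length_mulM _ _).trans hc
    obtain ⟨h2, h3⟩ := prodK_spec L _ (fun z hz => hL z (List.mem_cons_of_mem _ hz)) hlen
    rw [e]
    refine ⟨h2, ?_⟩
    rw [h3, mat_mul (omega_sq hω h1) hc (hL x List.mem_cons_self), List.map_cons, List.prod_cons, mul_assoc]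

omit hω h1 in
theorem scM_length (t : ℕ) : (scM t).length = 27 := length_mapR _

omit hω h1 in
theorem addM_length (A B : PM) : (addM A B).length = 27 := length_mapR _

omit hω h1 in
theorem gTbl_length : ∀ g < 12, (gTbl g).length = 27 := by decide +kernel

theorem prodK_one {tbl : ℕ → PM} {f : ℕ → GL I27 K} {L : List ℕ}
    (hf : ∀ x ∈ L, (tbl x).length = 27 ∧ (f x : Matrix I27 I27 K) = mat (ω : K) (tbl x)) {M : PM}
    (h : eqM (prodK tbl L (scM 1)) M = true) :
    M.length = 27 ∧ (((L.map f).prod : GL I27 K) : Matrix I27 I27 K) = mat (ω : K) M := by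
  obtain ⟨-, hM, he⟩ := eqM_spec (ω : K) h
  refine ⟨hM, ?_⟩
  rw [← he, (prodK_spec hω h1 L _ (fun x hx => (hf x hx).1) (scM_length 1)).2, mat_one (omega_sq hω h1),
    one_mul, ← Units.coeHom_apply, map_list_prod, List.map_map]
  exact congrArg List.prod (List.map_congr_left fun x hx => (hf x hx).2)

omit hω h1 in
/-- The element of order five on 27 coordinates. -/
noncomputable def xU (ω : Kˣ) : GL I27 K := uGen ω 0 6 * uGen ω 0 5

omit hω h1 in
/-- The element of order five in the twisted group. -/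
noncomputable def xA (ω : Kˣ) : GL chevE6.Idx K := xGen ω 0 6 * xGen ω 0 5

omit hω h1 in
theorem xpair_mem : (xU ω, xA ω) ∈ Gam K := mul_mem (gen_mem_gam ω 0 6) (gen_mem_gam ω 0 5)

theorem xA_twisted : xA ω ∈ twistedE6 K 2 := mul_mem (gen_twisted hω h1 0 6) (gen_twisted hω h1 0 5)

theorem mat_xU : (xU ω : Matrix I27 I27 K) = mat (ω : K) xMat ∧ xMat.length = 27 := by
  have h := x_ok
  simp only [xOK, Bool.and_eq_true] at h
  have := prodK_one hω h1 (f := uGen ω 0) (fun g hg => by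
    have hg' : g < 12 := by revert g; decide
    exact ⟨gTbl_length g hg', mat_uGen hω h1 hg'⟩) h.1.1.1.1.1.1
  refine ⟨?_, this.1⟩
  simpa [xU, mul_assoc] using this.2

theorem xU_pow : xU ω ^ 5 = 1 := by
  have h := x_ok
  simp only [xOK, Bool.and_eq_true] at h
  obtain ⟨-, h5⟩ := prodK_one hω h1 (f := fun _ => xU ω)
    (fun x _ => ⟨(mat_xU hω h1).2, (mat_xU hω h1).1⟩) h.1.1.1.2
  refine Units.ext ?_
  rw [Units.val_one, ← mat_one (omega_sq hω h1), ← h5]
  simp [pow_succ, mul_assoc]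

theorem xU_fix_col {k a : ℕ} (hk : k < 27) (ha : a ∈ fixL) :
    ent (xU ω) k a = if k = a then 1 else 0 := by
  have h := x_ok
  simp only [xOK, Bool.and_eq_true] at h
  have h' := Nat.eq_of_beq_eq_true (allR_true (allR_upto h.2 hk) ha)
  have ha27 : a < 27 := (by decide : ∀ a ∈ fixL, a < 27) a ha
  rw [ent, (mat_xU hω h1).1, mat_cv hω h1 _ hk ha27, h']
  by_cases e : k = a
  · subst e; simp [cv_one]
  · rw [if_neg e, show Nat.beq k a = false by simpa [← Bool.not_eq_true, Nat.beq_eq] using e]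
    exact cv_zero ω

/-- A fixed vector of the element of order five lives on the seven coordinates. -/
theorem fixed_zero {v : I27 → K} (hv : (xU ω : Matrix I27 I27 K) *ᵥ v = v) {k : ℕ} (hk : k < 27)
    (hk' : k ∉ fixL) : v (pt k) = 0 := by
  have h := x_ok
  simp only [xOK, Bool.and_eq_true] at h
  obtain ⟨-, -, he⟩ := eqM_spec (ω : K) h.1.1.2
  have hw := omega_sq hω h1
  have hP : pMat.length = 27 := by decide +kernel
  rw [mat_mul hw hP (addM_length _ _), mat_add, mat_one hw, ← (mat_xU hω h1).1] at he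
  have hz : mat (ω : K) projMat *ᵥ v = 0 := by
    rw [← he, ← Matrix.mulVec_mulVec, Matrix.add_mulVec, Matrix.one_mulVec, hv,
      show v + v = 0 from funext fun i => CharTwo.add_self_eq_zero (v i), Matrix.mulVec_zero]
  have hr := allR_upto h.1.2 hk
  simp only [Bool.and_eq_true] at hr
  have hne : memN k fixL = false := by
    have := (by decide +kernel : ∀ k < 27, memN k fixL = decide (k ∈ fixL)) k hk
    simpa [hk'] using this
  have hrow : row projMat k = (2 ^ k, 0) := Prod.ext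
    (by simpa [hne] using Nat.eq_of_beq_eq_true hr.2) (Nat.eq_of_beq_eq_true hr.1)
  have := congrFun hz (pt k)
  rw [Matrix.mulVec, dotProduct, Finset.sum_eq_single (pt k)] at this
  · simpa [mat_apply, e_pt hk, hrow, dec, Nat.testBit_two_pow] using this
  · intro b _ hb
    have hb' : num27.e b ≠ k := fun e => hb (by rw [← e, pt_e])
    simp [mat_apply, e_pt hk, hrow, dec, Nat.testBit_two_pow, Ne.symm hb']
  · simp

omit hω h1 in
/-- Centralising isometries. -/
structure Cen (ω : Kˣ) (y : GL I27 K) : Prop where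
  uni : Uni y
  cubic : y ∈ E6univ K
  comm : y * xU ω = xU ω * y

omit hω h1 in
theorem Cen.mul {y z : GL I27 K} (hy : Cen ω y) (hz : Cen ω z) : Cen ω (y * z) :=
  ⟨hy.uni.mul hz.uni, mul_mem hy.cubic hz.cubic, by rw [mul_assoc, hz.comm, ← mul_assoc, hy.comm, mul_assoc]⟩

omit hω h1 in
theorem thirdL_lt {a b c : ℕ} (h : c ∈ thirdL a b) : c < 27 := by
  obtain ⟨m, hm, hc⟩ := List.mem_flatMap.1 h
  obtain ⟨h2, h3, h4, -⟩ := monT_range m hm
  have hp : ∀ {a b p q r : ℕ}, c ∈ pick a b p q r → c = r := by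
    intro a b p q r hc
    unfold pick at hc
    cases hb : (Nat.beq p a && Nat.beq q b) <;> rw [hb] at hc <;> simp at hc
    exact hc
  simp only [List.mem_append] at hc
  rcases hc with ((((h | h) | h) | h) | h) | h <;> rw [hp h] <;> assumption

omit hω h1 in
theorem tri_sgl' (c : ℕ) (u v : I27 → K) : tri u v (sgl c) =
    ((pairL c).map fun p => u (pt p.1) * v (pt p.2) + v (pt p.1) * u (pt p.2)).sum := by
  have h : tri u v (sgl c) = qd (u + v) (sgl c) - qd u (sgl c) - qd v (sgl c) := by rw [qd_add]; ring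
  rw [h, qd_sgl, qd_sgl, qd_sgl, sum_sub, sum_sub]
  refine congrArg List.sum (List.map_congr_left fun p _ => ?_)
  simp only [Pi.add_apply]
  ring

omit hω h1 in
theorem qd_eight (z : I27 → K) : qd (sgl 8) z = 0 := by
  rw [qd, ev3]
  refine List.sum_eq_zero fun t ht => ?_
  obtain ⟨m, hm, rfl⟩ := List.mem_map.1 ht
  obtain ⟨h2, h3, h4, -⟩ := monT_range m hm
  obtain ⟨d1, d2, d3⟩ := (by decide +kernel : ∀ m ∈ monT,
    ¬ (m.2.1 = 8 ∧ m.2.2.1 = 8) ∧ ¬ (m.2.1 = 8 ∧ m.2.2.2 = 8) ∧ ¬ (m.2.2.1 = 8 ∧ m.2.2.2 = 8)) m hm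
  simp only [sgl_pt h2, sgl_pt h3, sgl_pt h4]
  by_cases e2 : m.2.1 = 8 <;> by_cases e3 : m.2.2.1 = 8 <;> by_cases e4 : m.2.2.2 = 8 <;>
    simp_all

variable [Fintype K] (hK : Fintype.card K = 4)
include hK

omit hω h1 in
theorem Cen.inv {y : GL I27 K} (hy : Cen ω y) : Cen ω y⁻¹ :=
  ⟨hy.uni.inv hK, inv_mem hy.cubic, by
    rw [inv_mul_eq_iff_eq_mul, ← mul_assoc, hy.comm, mul_inv_cancel_right]⟩

omit hω h1 in
theorem three_le : 3 ≤ Fintype.card K := by omega

omit hω h1 in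
/-- The basic rule between entries. -/
theorem Cen.rule_gen {y : GL I27 K} (hy : Cen ω y) (v : I27 → K) {k j : ℕ} (hk : k < 27) (hj : j < 27) :
    tri ((y : Matrix I27 I27 K) *ᵥ v) (sgl (piN k)) ((y : Matrix I27 I27 K) *ᵥ sgl j) =
      tri v (sgl j) ((y⁻¹ : GL I27 K) *ᵥ sgl (piN k) : I27 → K) := by
  rw [← tri_comm' v _ (sgl j)]
  conv_rhs => rw [← tri_map (three_le hK) hy.cubic]
  rw [Matrix.mulVec_mulVec _ _ ((y⁻¹ : GL I27 K) : Matrix I27 I27 K), ← Units.val_mul, mul_inv_cancel,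
    Units.val_one, Matrix.one_mulVec]

omit hω h1 in
theorem Cen.inv_col {y : GL I27 K} (hy : Cen ω y) {k c : ℕ} (hk : k < 27) (hc : c < 27) :
    ((y⁻¹ : GL I27 K) *ᵥ sgl (piN k) : I27 → K) (pt c) = ent y k (piN c) ^ 2 := by
  rw [mulVec_sgl _ (piN_lt k hk).1, hy.uni.entry hc (piN_lt k hk).1, (piN_lt k hk).2]

omit hω h1 in
/-- The rule for a unit vector mapped to a unit vector. -/
theorem Cen.rule {y : GL I27 K} (hy : Cen ω y) {a a' : ℕ}
    (hfix : (y : Matrix I27 I27 K) *ᵥ sgl a = sgl a') {k j : ℕ} (hk : k < 27) (hj : j < 27) :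
    ((thirdL a' (piN k)).map fun c => ent y c j).sum = ((thirdL a j).map fun c => ent y k (piN c) ^ 2).sum := by
  have h := hy.rule_gen hK (sgl a) hk hj
  rw [hfix, tri_sgl, tri_sgl] at h
  rw [List.map_congr_left (f := fun c => ent y k (piN c) ^ 2) fun c hc =>
    (hy.inv_col hK hk (thirdL_lt hc)).symm]
  rw [List.map_congr_left (f := fun c => ent y c j) fun c hc => (mulVec_sgl y hj c).symm]
  exact h

theorem Cen.fix_col {y : GL I27 K} (hy : Cen ω y) {k a : ℕ} (hk : k < 27) (hk' : k ∉ fixL) (ha : a ∈ fixL) :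
    ent y k a = 0 := by
  have ha27 : a < 27 := (by decide : ∀ a ∈ fixL, a < 27) a ha
  rw [← mulVec_sgl y ha27]
  refine fixed_zero hω h1 ?_ hk hk'
  rw [Matrix.mulVec_mulVec, ← Units.val_mul, ← hy.comm, Units.val_mul, ← Matrix.mulVec_mulVec]
  congr 1
  funext i
  rw [← pt_e i, mulVec_sgl _ ha27, xU_fix_col hω h1 (num27.lt i) ha, sgl_pt (num27.lt i)]

theorem Cen.fix_row {y : GL I27 K} (hy : Cen ω y) {k a : ℕ} (hk : k < 27) (hk' : k ∉ fixL) (ha : a ∈ fixL) :
    ent y a k = 0 := by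
  have ha27 : a < 27 := (by decide : ∀ a ∈ fixL, a < 27) a ha
  obtain ⟨hp, hq⟩ := (by decide +kernel : ∀ k < 27,
    (k ∈ fixL → piN k ∈ fixL) ∧ (k ∉ fixL → piN k ∉ fixL)) k hk
  have hpa := ((by decide +kernel : ∀ k < 27, k ∈ fixL → piN k ∈ fixL) a ha27 ha)
  have := (hy.inv hK).fix_col hω h1 hK (piN_lt k hk).1 (hq hk') hpa
  rw [hy.uni.entry (piN_lt k hk).1 (piN_lt a ha27).1, (piN_lt k hk).2, (piN_lt a ha27).2] at this
  exact pow_eq_zero_iff (two_ne_zero) |>.1 this

omit hω h1 in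
theorem col_eq {y : GL I27 K} {j : ℕ} (hj : j < 27) {v : I27 → K}
    (h : ∀ k < 27, ent y k j = v (pt k)) : (y : Matrix I27 I27 K) *ᵥ sgl j = v := by
  funext i
  rw [← pt_e i, mulVec_sgl y hj, h _ (num27.lt i)]

omit hω h1 in
theorem eq_one_of_cols {y : GL I27 K} (h : ∀ j < 27, (y : Matrix I27 I27 K) *ᵥ sgl j = sgl j) : y = 1 := by
  refine Units.ext (Matrix.ext fun i l => ?_)
  have := congrFun (h _ (num27.lt l)) (pt (num27.e i))
  rw [mulVec_sgl y (num27.lt l), sgl_pt (num27.lt i), ent, pt_e, pt_e] at this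
  rw [this, Units.val_one, Matrix.one_apply]
  simp [num27.inj.eq_iff]

end CfsgLib.Chev.TwE6Five
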