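import Mathlib
import Cfsg.Agent.Lib.Chev.SLInvolRad

/-!
An elementary abelian module spanned by root elements, in characteristic two, with a symmetry of the roots
acting semilinearly: the reductions of `SLInvolRad` made equivariant.
-/

set_option autoImplicit false

namespace CfsgLib.Chev.SLInvol

variable {G : Type*} [Group G] {F : Type*} [Field F]

/-- The generators of the fixed elements at the orbits meeting `S`. -/
def orbGens (x : ℕ → F → G) (bar : ℕ → ℕ) (φ : F →+* F) (S : Set ℕ) : Set G :=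
  {g | ∃ s ∈ S, (bar s = s ∧ ∃ a, φ a = a ∧ g = x s a) ∨ (bar s ≠ s ∧ ∃ a, g = x s a * x (bar s) (φ a))}

/-- The group they generate. -/
def FH (x : ℕ → F → G) (bar : ℕ → ℕ) (φ : F →+* F) (S : Set ℕ) : Subgroup G :=
  Subgroup.closure (orbGens x bar φ S)

theorem FH_mono {x : ℕ → F → G} {bar : ℕ → ℕ} {φ : F →+* F} {S T : Set ℕ} (h : S ⊆ T) :
    FH x bar φ S ≤ FH x bar φ T := by
  refine Subgroup.closure_mono ?_
  rintro g ⟨s, hs, hg⟩
  exact ⟨s, h hs, hg⟩

theorem FH_le_X {x : ℕ → F → G} {bar : ℕ → ℕ} {φ : F →+* F} {S : Set ℕ} (hS : ∀ s ∈ S, bar s ∈ S) :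
    FH x bar φ S ≤ X x S := by
  refine (Subgroup.closure_le _).2 ?_
  rintro g ⟨s, hs, ⟨-, a, -, rfl⟩ | ⟨-, a, rfl⟩⟩
  · exact mem_X hs a
  · exact mul_mem (mem_X hs a) (mem_X (hS s hs) _)

/-- The roots and coefficients of an orbit. -/
def orb (bar : ℕ → ℕ) (φ : F →+* F) (p : ℕ × F) : List (ℕ × F) :=
  if bar p.1 = p.1 then [p] else [p, (bar p.1, φ p.2)]

/-- The roots of an orbit. -/
def orbR (bar : ℕ → ℕ) (r : ℕ) : List ℕ := if bar r = r then [r] else [r, bar r]

theorem orb_map (bar : ℕ → ℕ) (φ : F →+* F) (p : ℕ × F) : (orb bar φ p).map Prod.fst = orbR bar p.1 := by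
  unfold orb orbR; split_ifs <;> rfl

theorem orb_flat_map (bar : ℕ → ℕ) (φ : F →+* F) (B : List (ℕ × F)) :
    (B.flatMap (orb bar φ)).map Prod.fst = B.flatMap fun p => orbR bar p.1 := by
  induction B with
  | nil => rfl
  | cons p B ih => rw [List.flatMap_cons, List.flatMap_cons, List.map_append, orb_map, ih]

/-- The coordinates moved by the pivot at `b`. -/
def Nr (pr : ℕ → ℕ → ℤ) (bar : ℕ → ℕ) (b c : ℕ) : Prop :=
  (pr b c = 1 ∨ pr (bar b) c = 1) ∧ pr b c ≠ -1 ∧ pr (bar b) c ≠ -1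

/-- The coordinates that must not be disturbed when the pivot `b` removes `c`. -/
def Low (pr : ℕ → ℕ → ℤ) (bar ht : ℕ → ℕ) (b c e : ℕ) : Prop :=
  ht e ≤ ht b ∨ (Nr pr bar b e ∧ ht e ≤ ht c)

/-- The axioms. -/
structure SigAct (x : ℕ → F → G) (Q L : List ℕ) (pr : ℕ → ℕ → ℤ) (sm : ℕ → ℕ → ℕ) (bar ht : ℕ → ℕ)
    (df : ℕ → ℕ → ℕ) (Lp : Set ℕ) (φ : F →+* F) (σ : G →* G) : Prop where
  R : RootAct x Q L pr sm
  phi2 : ∀ t, φ (φ t) = t
  lam : ∃ l : F, l + φ l = 1
  barQ : ∀ r ∈ Q, bar r ∈ Q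
  barL : ∀ r ∈ L, bar r ∈ L
  bar2 : ∀ r ∈ Q ++ L, bar (bar r) = r
  σx : ∀ r ∈ Q ++ L, ∀ t : F, σ (x r t) = x (bar r) (φ t)
  prbar : ∀ a ∈ Q ++ L, ∀ r ∈ Q, pr (bar a) (bar r) = pr a r
  htbar : ∀ r ∈ Q, ht (bar r) = ht r
  LpL : Lp ⊆ {s | s ∈ L}
  LpBar : ∀ s ∈ Lp, bar s ∈ Lp
  pairs : ∀ r ∈ Q, bar r ≠ r → pr r (bar r) = 0
  piv : ∀ b ∈ Q, ∀ c ∈ Q, Nr pr bar b c → pr b c = 1 → ht b ≤ ht c →
    df b c ∈ Lp ∧ pr (df b c) b = -1 ∧ sm (df b c) b = c ∧ ht b < ht c ∧
    df (bar b) (bar c) = bar (df b c) ∧ (bar (df b c) = df b c → bar b = b ∧ bar c = c) ∧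
    (bar (df b c) ≠ df b c → pr (df b c) (bar (df b c)) = 0) ∧
    ∀ d ∈ Q, ht b ≤ ht d → pr (df b c) d = -1 → d ≠ b → ¬ Low pr bar ht b c (sm (df b c) d)

namespace SigAct

variable {x : ℕ → F → G} {Q L : List ℕ} {pr : ℕ → ℕ → ℤ} {sm : ℕ → ℕ → ℕ} {bar ht : ℕ → ℕ}
variable {df : ℕ → ℕ → ℕ} {Lp : Set ℕ} {φ : F →+* F} {σ : G →* G}

/-- The conjugate coordinates. -/
def sg (_A : SigAct x Q L pr sm bar ht df Lp φ σ) (f : ℕ → F) : ℕ → F :=
  fun r => if r ∈ Q then φ (f (bar r)) else 0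

/-- The coordinates are fixed. -/
def Compat (_A : SigAct x Q L pr sm bar ht df Lp φ σ) (f : ℕ → F) : Prop :=
  ∀ r ∈ Q, f (bar r) = φ (f r)

/-- The coordinates of a conjugate by a root element. -/
def M (_A : SigAct x Q L pr sm bar ht df Lp φ σ) (s : ℕ) (u : F) (f : ℕ → F) : ℕ → F :=
  fun e => f e + ((Q.filter fun d => decide (pr s d = -1 ∧ sm s d = e)).map fun d => u * f d).sum

/-- The coordinates of a conjugate by a product of root elements. -/
def MA (A : SigAct x Q L pr sm bar ht df Lp φ σ) (B : List (ℕ × F)) (f : ℕ → F) : ℕ → F :=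
  B.foldr (fun p f => A.M p.1 p.2 f) f

variable [CharP F 2] (A : SigAct x Q L pr sm bar ht df Lp φ σ)
include A

theorem ev_inj {f g : ℕ → F} (h : ev x Q f = ev x Q g) : ∀ r ∈ Q, f r = g r := by
  intro r hr
  have h0 : ev x Q (f + g) = 1 := by
    rw [A.R.ev_add, h]
    exact A.R.X_sq Set.Subset.rfl (A.R.ev_mem fun r hr h => absurd hr h)
  have := A.R.indep _ h0 r hr
  simp only [Pi.add_apply] at this
  exact CharTwo.add_eq_zero.1 this

theorem ev_congr {f g : ℕ → F} (h : ∀ r ∈ Q, f r = g r) : ev x Q f = ev x Q g :=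
  congrArg List.prod (List.map_congr_left fun r hr => by rw [h r hr])

theorem ev_inv (f : ℕ → F) : (ev x Q f)⁻¹ = ev x Q f :=
  inv_eq_of_mul_eq_one_right (A.R.X_sq Set.Subset.rfl (A.R.ev_mem fun r hr h => absurd hr h))

theorem σ_ev (f : ℕ → F) : σ (ev x Q f) = ev x Q (A.sg f) := by
  classical
  have key : ∀ l : List ℕ, (∀ r ∈ l, r ∈ Q) → l.Nodup → σ (l.map fun r => x r (f r)).prod =
      ev x Q (fun r => if r ∈ Q ∧ bar r ∈ l then φ (f (bar r)) else 0) := by
    intro l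
    induction l with
    | nil => intro _ _; simp [ev, A.R.zero]
    | cons a l ih =>
      intro hl hnd
      rw [List.nodup_cons] at hnd
      have ha : a ∈ Q := hl a (by simp)
      rw [List.map_cons, List.prod_cons, map_mul, A.σx a (by simp [ha]), ih (fun r hr => hl r (by simp [hr])) hnd.2,
        ← A.R.ev_single (A.barQ a ha), ← A.R.ev_add]
      refine congrArg (ev x Q) (funext fun r => ?_)
      simp only [Pi.add_apply]
      by_cases hr : r ∈ Q
      · by_cases e : r = bar a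
        · subst e
          simp [hr, A.bar2 a (by simp [ha]), hnd.1]
        · have e' : bar r ≠ a := fun h => e (by rw [← h, A.bar2 r (by simp [hr])])
          simp [e, hr, e']
      · have e : r ≠ bar a := fun h => hr (h ▸ A.barQ a ha)
        simp [e, hr]
  rw [ev, key Q (fun _ h => h) A.R.nodup]
  refine A.ev_congr fun r hr => ?_
  simp [sg, hr, A.barQ r hr]

theorem compat_iff (f : ℕ → F) : A.Compat f ↔ σ (ev x Q f) = ev x Q f := by
  rw [A.σ_ev]
  constructor
  · intro h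
    refine A.ev_congr fun r hr => ?_
    rw [sg, if_pos hr, h r hr, A.phi2]
  · intro h r hr
    have := A.ev_inj h (bar r) (A.barQ r hr)
    rw [sg, if_pos (A.barQ r hr), A.bar2 r (by simp [hr])] at this
    exact this.symm

theorem conj_ev {s : ℕ} (hs : s ∈ L) (u : F) (f : ℕ → F) :
    x s u * ev x Q f * (x s u)⁻¹ = ev x Q (A.M s u f) := by
  classical
  have key : ∀ l : List ℕ, (∀ r ∈ l, r ∈ Q) →
      x s u * (l.map fun r => x r (f r)).prod * (x s u)⁻¹ = (l.map fun r => x r (f r)).prod *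
        ev x Q (fun c => ((l.filter fun d => decide (pr s d = -1 ∧ sm s d = c)).map fun d => u * f d).sum) := by
    intro l
    induction l with
    | nil =>
      intro _
      simp only [List.map_nil, List.prod_nil, mul_one, List.filter_nil, List.sum_nil, one_mul, mul_inv_cancel]
      exact A.R.ev_zero.symm
    | cons d l ih =>
      intro hl
      have hd : d ∈ Q := hl d (by simp)
      have hcc : ∀ e ∈ Q, ∀ v : F, Commute (x e v) (l.map fun r => x r (f r)).prod := fun e he v => by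
        refine Commute.list_prod_right _ _ fun z hz => ?_
        obtain ⟨r, hr, rfl⟩ := List.mem_map.1 hz
        exact A.R.commQ e he r (hl r (by simp [hr])) _ _
      simp only [List.map_cons, List.prod_cons]
      rw [show x s u * (x d (f d) * (l.map fun r => x r (f r)).prod) * (x s u)⁻¹ =
        (x s u * x d (f d) * (x s u)⁻¹) * (x s u * (l.map fun r => x r (f r)).prod * (x s u)⁻¹) by group,
        ih fun r hr => hl r (by simp [hr])]
      by_cases hda : pr s d = -1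
      · have hm := A.R.sm_mem s hs d hd hda
        rw [A.R.conj s hs d hd hda (f d) u]
        have hfun : (fun c => (((d :: l).filter fun e => decide (pr s e = -1 ∧ sm s e = c)).map fun e => u * f e).sum)
            = Pi.single (sm s d) (u * f d) +
              fun c => ((l.filter fun e => decide (pr s e = -1 ∧ sm s e = c)).map fun e => u * f e).sum := by
          funext c
          by_cases e : sm s d = c
          · subst e; simp [hda]
          · simp [hda, e, Ne.symm e]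
        rw [hfun, A.R.ev_add, A.R.ev_single hm]
        generalize ev x Q (fun c => ((l.filter fun e => decide (pr s e = -1 ∧ sm s e = c)).map fun e => u * f e).sum) = E
        calc x d (f d) * x (sm s d) (u * f d) * ((l.map fun r => x r (f r)).prod * E)
            = x d (f d) * (x (sm s d) (u * f d) * (l.map fun r => x r (f r)).prod) * E := by group
          _ = _ := by rw [(hcc _ hm _).eq]; group
      · rw [(A.R.act0 s hs d hd hda (f d) u).eq, mul_inv_cancel_right]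
        have hfun : (fun c => (((d :: l).filter fun e => decide (pr s e = -1 ∧ sm s e = c)).map fun e => u * f e).sum)
            = fun c => ((l.filter fun e => decide (pr s e = -1 ∧ sm s e = c)).map fun e => u * f e).sum := by
          funext c; simp [hda]
        rw [hfun, mul_assoc]
  exact (key Q fun _ h => h).trans (A.R.ev_add _ _).symm

theorem M_none {s : ℕ} {u : F} {f : ℕ → F} {e : ℕ}
    (h : ∀ d ∈ Q, pr s d = -1 → sm s d = e → f d = 0) : A.M s u f e = f e := by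
  rw [M, List.sum_eq_zero, add_zero]
  intro y hy
  obtain ⟨d, hd, rfl⟩ := List.mem_map.1 hy
  simp only [List.mem_filter, decide_eq_true_eq] at hd
  rw [h d hd.1 hd.2.1 hd.2.2, mul_zero]

theorem M_one {s : ℕ} (hs : s ∈ L) {b : ℕ} (hb : b ∈ Q) (hp : pr s b = -1) (u : F) (f : ℕ → F) :
    A.M s u f (sm s b) = f (sm s b) + u * f b := by
  have hfl : Q.filter (fun d => decide (pr s d = -1 ∧ sm s d = sm s b)) = Q.filter (fun d => decide (d = b)) :=
    List.filter_congr fun d hd => by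
      simp only [decide_eq_decide]
      exact ⟨fun h => A.R.inj s hs d hd b hb h.1 hp h.2, fun h => by subst h; exact ⟨hp, rfl⟩⟩
  rw [M, hfl]
  have : Q.filter (fun d => decide (d = b)) = [b] := by
    simpa [List.count_eq_one_of_mem A.R.nodup hb] using (List.filter_eq (l := Q) b)
  rw [this]; simp

omit [CharP F 2] in
theorem M_lin (s : ℕ) (u c d : F) (f g : ℕ → F) :
    A.M s u (fun r => c * f r + d * g r) = fun r => c * A.M s u f r + d * A.M s u g r := by
  funext e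
  simp only [M]
  generalize Q.filter (fun d => decide (pr s d = -1 ∧ sm s d = e)) = l
  induction l with
  | nil => simp
  | cons a l ih =>
    simp only [List.map_cons, List.sum_cons]
    linear_combination ih

omit [CharP F 2] in
theorem MA_lin (B : List (ℕ × F)) (c d : F) (f g : ℕ → F) :
    A.MA B (fun r => c * f r + d * g r) = fun r => c * A.MA B f r + d * A.MA B g r := by
  induction B with
  | nil => rfl
  | cons p B ih =>
    show A.M p.1 p.2 (A.MA B fun r => c * f r + d * g r) = _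
    rw [ih, A.M_lin]
    rfl

theorem conj_vA : ∀ {B : List (ℕ × F)}, (∀ p ∈ B, p.1 ∈ L) → ∀ f : ℕ → F,
    vA x B * ev x Q f * (vA x B)⁻¹ = ev x Q (A.MA B f) := by
  intro B
  induction B with
  | nil => intro _ f; simp [vA, MA]
  | cons p B ih =>
    intro h f
    rw [vA_cons, _root_.mul_inv_rev,
      show x p.1 p.2 * vA x B * ev x Q f * ((vA x B)⁻¹ * (x p.1 p.2)⁻¹) =
        x p.1 p.2 * (vA x B * ev x Q f * (vA x B)⁻¹) * (x p.1 p.2)⁻¹ by group,
      ih (fun q hq => h q (by simp [hq])), A.conj_ev (h p (by simp))]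
    rfl

theorem SP_bar {P : List ℕ} (hP : ∀ p ∈ P, p ∈ Q ++ L) (hPb : ∀ p ∈ P, bar p ∈ P) {r : ℕ}
    (hr : r ∈ SP pr Q P) : bar r ∈ SP pr Q P := by
  refine ⟨A.barQ r hr.1, fun p hp => ?_⟩
  have := A.prbar (bar p) (hP _ (hPb p hp)) r hr.1
  rw [A.bar2 p (hP p hp)] at this
  rw [this]
  exact hr.2 _ (hPb p hp)

/-- The equivariant form of `RootAct.clear`. -/
theorem clear_fix {B : List (ℕ × F)} (hB : ∀ p ∈ B, p.1 ∈ L ∧ p.2 ≠ 0)
    (hBp : B.Pairwise fun p q => pr p.1 q.1 = 0) (hBfix : σ (vA x B) = vA x B)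
    (hBb : ∀ a ∈ B.map Prod.fst, bar a ∈ B.map Prod.fst) {f : ℕ → F} (hf : A.Compat f)
    (hinv : vA x B * ev x Q f * (vA x B * ev x Q f) = 1) :
    ∃ g f' : ℕ → F, A.Compat g ∧ A.Compat f' ∧ (∀ r ∈ Q, r ∉ SP pr Q (B.map Prod.fst) → f' r = 0) ∧
      ev x Q g * (vA x B * ev x Q f) * (ev x Q g)⁻¹ = vA x B * ev x Q f' := by
  obtain ⟨l, hl⟩ := A.lam
  have hw : ev x Q f ∈ X x (SP pr Q []) := A.R.ev_mem fun r hr h => absurd ⟨hr, by simp⟩ h
  obtain ⟨z, hz, w', hw', e⟩ := A.R.clear B [] hB (by simp) hBp (by simp) _ hw hinv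
  rw [List.append_nil] at hw'
  obtain ⟨fz, -, rfl⟩ := A.R.mem_ev (fun r hr => hr.1) hz
  obtain ⟨f1, hf1, rfl⟩ := A.R.mem_ev (fun r hr => hr.1) hw'
  obtain ⟨v, hv⟩ : ∃ v, v = vA x B := ⟨_, rfl⟩
  have hBL : ∀ p ∈ B, p.1 ∈ L := fun p hp => (hB p hp).1
  have hvi : v⁻¹ = v := inv_eq_of_mul_eq_one_right (hv ▸ A.R.vA_comm hBL hBp)
  have hrel : ∀ g h k : ℕ → F, ev x Q g * (v * ev x Q h) * (ev x Q g)⁻¹ = v * ev x Q k ↔
      ∀ r ∈ Q, k r = A.MA B g r + h r + g r := by
    intro g h k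
    have e1 : ev x Q g * (v * ev x Q h) * (ev x Q g)⁻¹ =
        v * (ev x Q (fun r => A.MA B g r + h r + g r)) := by
      rw [show (fun r => A.MA B g r + h r + g r) = A.MA B g + h + g from rfl, A.R.ev_add, A.R.ev_add,
        ← A.conj_vA hBL g, ← hv, hvi, A.ev_inv]
      calc ev x Q g * (v * ev x Q h) * ev x Q g = (v * v⁻¹) * ev x Q g * v * ev x Q h * ev x Q g := by group
        _ = v * (v * ev x Q g * v * ev x Q h * ev x Q g) := by rw [hvi]; group
        _ = _ := by group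
    rw [e1, mul_right_inj]
    exact ⟨fun h => fun r hr => (A.ev_inj h r hr).symm, fun h => A.ev_congr fun r hr => (h r hr).symm⟩
  rw [← hv] at e
  have hf1' := (hrel fz f f1).1 e
  have hs : ∀ r ∈ Q, A.MA B (A.sg fz) r = φ (A.MA B fz (bar r)) := by
    intro r hr
    have h1 : ev x Q (A.MA B (A.sg fz)) = ev x Q (A.sg (A.MA B fz)) := by
      rw [← A.conj_vA hBL, ← A.σ_ev, ← A.σ_ev, ← A.conj_vA hBL, map_mul, map_mul, map_inv, hBfix]
    rw [A.ev_inj h1 r hr, sg, if_pos hr]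
  obtain ⟨g, hg⟩ : ∃ g : ℕ → F, g = fun r => l * fz r + φ l * A.sg fz r := ⟨_, rfl⟩
  obtain ⟨f', hf'⟩ : ∃ f' : ℕ → F, f' = fun r => A.MA B g r + f r + g r := ⟨_, rfl⟩
  have hf'' : ∀ r ∈ Q, f' r = l * f1 r + φ l * φ (f1 (bar r)) := by
    intro r hr
    have h1 := hf1' r hr
    have h2 := hf1' (bar r) (A.barQ r hr)
    rw [hf', h1, h2, hg, A.MA_lin]
    simp only [hs r hr, sg, if_pos hr, map_add, hf r hr, A.phi2]
    linear_combination (-(f r)) * hl
  refine ⟨g, f', fun r hr => ?_, fun r hr => ?_, fun r hr hrS => ?_, ?_⟩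
  · simp only [hg, sg, if_pos hr, if_pos (A.barQ r hr), A.bar2 r (by simp [hr]), map_add, map_mul, A.phi2]
    ring
  · rw [hf'' r hr, hf'' _ (A.barQ r hr)]
    simp only [A.bar2 r (by simp [hr]), map_add, map_mul, A.phi2]
    ring
  · have h2 : bar r ∉ SP pr Q (B.map Prod.fst) := fun h => hrS (by
      have := A.SP_bar (fun p hp => ?_) hBb h
      · rwa [A.bar2 r (by simp [hr])] at this
      · obtain ⟨q, hq, rfl⟩ := List.mem_map.1 hp
        exact List.mem_append.2 (Or.inr (hBL q hq)))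
    rw [hf'' r hr, hf1 r hrS, hf1 _ h2, map_zero, mul_zero, mul_zero, add_zero]
  · rw [← hv]
    exact (hrel g f f').2 fun r _ => by rw [hf']

omit [CharP F 2] in
theorem Nr_bar (b c : ℕ) (hb : b ∈ Q) : Nr pr bar (bar b) c ↔ Nr pr bar b c := by
  unfold Nr
  rw [A.bar2 b (by simp [hb])]
  tauto

omit [CharP F 2] in
theorem Nr_barR {b c : ℕ} (hb : b ∈ Q) (hc : c ∈ Q) (h : Nr pr bar b c) : Nr pr bar b (bar c) := by
  have h1 := A.prbar b (by simp [hb]) c hc
  have h2 := A.prbar (bar b) (by simp [A.barQ b hb]) c hc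
  rw [A.bar2 b (by simp [hb])] at h2
  obtain ⟨a, b', c'⟩ := h
  exact ⟨by rw [h1, h2]; exact a.symm, by rw [h2]; exact c', by rw [h1]; exact b'⟩

/-- The effect of one conjugation on the coordinates below the one to be removed. -/
theorem M_low {b c : ℕ} (hb : b ∈ Q) (hc : c ∈ Q) (hN : Nr pr bar b c) (hp : pr b c = 1) (hh : ht b ≤ ht c)
    {f : ℕ → F} (hf : ∀ r ∈ Q, f r ≠ 0 → ht b ≤ ht r) (u : F) {e : ℕ} (he : Low pr bar ht b c e) :
    A.M (df b c) u f e = if e = c then f e + u * f b else f e := by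
  obtain ⟨hs, hsb, hsc, -, -, -, -, hlow⟩ := A.piv b hb c hc hN hp hh
  split_ifs with hec
  · subst hec
    have := A.M_one (A.LpL hs) hb hsb u f
    rwa [hsc] at this
  · refine A.M_none fun d hd hpd hde => ?_
    by_contra hne
    by_cases hdb : d = b
    · subst hdb; exact hec (hde.symm.trans hsc)
    · exact hlow d hd (hf d hd hne) hpd hdb (hde.symm ▸ he)

/-- The support stays in `SP P`. -/
theorem M_supp {P : List ℕ} (hP : ∀ p ∈ P, p ∈ Q ++ L) {s : ℕ} (hs : s ∈ L) (hsP : ∀ p ∈ P, pr p s = 0)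
    {f : ℕ → F} (hf : ∀ r ∈ Q, f r ≠ 0 → r ∈ SP pr Q P) (u : F) {e : ℕ} (he : e ∈ Q)
    (h : A.M s u f e ≠ 0) : e ∈ SP pr Q P := by
  by_contra hne
  refine h ((A.M_none fun d hd hp hde => ?_).trans ?_)
  · by_contra hfd
    exact hne (hde ▸ A.R.conj_SP hs hP hsP (hf d hd hfd) hp)
  · by_contra hfe; exact hne (hf e he hfe)

/-- One step of the elimination. -/
theorem elim_step {P : List ℕ} (hP : ∀ p ∈ P, p ∈ Q ++ L) (hPb : ∀ p ∈ P, bar p ∈ P) {b c : ℕ}
    (hbP : b ∈ SP pr Q P) (hcP : c ∈ SP pr Q P) (hN : Nr pr bar b c) (hp : pr b c = 1)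
    {f : ℕ → F} (hf : A.Compat f) (hsupp : ∀ r ∈ Q, f r ≠ 0 → r ∈ SP pr Q P ∧ ht b ≤ ht r) (hfb : f b ≠ 0)
    (hfc : f c ≠ 0) :
    ∃ h ∈ FH x bar φ {s | s ∈ Lp ∧ ∀ p ∈ P, pr p s = 0}, ∃ f' : ℕ → F, A.Compat f' ∧
      (∀ r ∈ Q, f' r ≠ 0 → r ∈ SP pr Q P ∧ ht b ≤ ht r) ∧ f' b = f b ∧ f' c = 0 ∧
      (∀ e ∈ Q, Nr pr bar b e → ht e ≤ ht c → f' e = f e ∨ f' e = 0) ∧
      h * ev x Q f * h⁻¹ = ev x Q f' := by
  obtain ⟨l, hl⟩ := A.lam
  have hb := hbP.1
  have hc := hcP.1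
  have hbQL : b ∈ Q ++ L := by simp [hb]
  have hhle : ht b ≤ ht c := (hsupp c hc hfc).2
  obtain ⟨hs, hsb, hsc, hlt, hdf, hfix, hpair, -⟩ := A.piv b hb c hc hN hp hhle
  obtain ⟨s, hsd⟩ : ∃ s, s = df b c := ⟨_, rfl⟩
  rw [← hsd] at hs hsb hsc hdf hfix hpair
  have hsL : s ∈ L := A.LpL hs
  have hsP : ∀ p ∈ P, pr p s = 0 := fun p hpp => by
    have := hcP.2 p hpp
    rw [← hsc, A.R.lin s hsL b hb hsb p (hP p hpp), hbP.2 p hpp, zero_add] at this
    exact this
  have hsm : s ∈ {s | s ∈ Lp ∧ ∀ p ∈ P, pr p s = 0} := ⟨hs, hsP⟩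
  have hσf : σ (ev x Q f) = ev x Q f := (A.compat_iff f).1 hf
  have hlb : Low pr bar ht b c b := Or.inl le_rfl
  have hlc : Low pr bar ht b c c := Or.inr ⟨hN, le_rfl⟩
  have hbc : b ≠ c := fun e => by subst e; omega
  by_cases hss : bar s = s
  · obtain ⟨hbb, hcc⟩ := hfix hss
    obtain ⟨a, ha⟩ : ∃ a, a = f c / f b := ⟨_, rfl⟩
    have hafix : φ a = a := by
      rw [ha, map_div₀, ← hf c hc, ← hf b hb, hcc, hbb]
    refine ⟨x s a, Subgroup.subset_closure ⟨s, hsm, Or.inl ⟨hss, a, hafix, rfl⟩⟩, A.M s a f, ?_, ?_, ?_, ?_, ?_,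
      A.conj_ev hsL a f⟩
    · rw [A.compat_iff, ← A.conj_ev hsL a f, map_mul, map_mul, map_inv, hσf, A.σx s (by simp [hsL]), hss, hafix]
    · intro r hr hne
      refine ⟨A.M_supp hP hsL hsP (fun r hr h => (hsupp r hr h).1) a hr hne, ?_⟩
      by_contra hlt'
      rw [hsd, A.M_low hb hc hN hp hhle (fun r hr h => (hsupp r hr h).2) a (Or.inl (by omega)),
        if_neg (fun e => by subst e; omega)] at hne
      exact hlt' (hsupp r hr hne).2
    · rw [hsd, A.M_low hb hc hN hp hhle (fun r hr h => (hsupp r hr h).2) a hlb, if_neg hbc]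
    · rw [hsd, A.M_low hb hc hN hp hhle (fun r hr h => (hsupp r hr h).2) a hlc, if_pos rfl, ha,
        div_mul_cancel₀ _ hfb, CharTwo.add_self_eq_zero]
    · intro e he hNe hhe
      rw [hsd, A.M_low hb hc hN hp hhle (fun r hr h => (hsupp r hr h).2) a (Or.inr ⟨hNe, hhe⟩)]
      by_cases hec : e = c
      · subst hec
        rw [if_pos rfl, ha, div_mul_cancel₀ _ hfb, CharTwo.add_self_eq_zero]
        exact Or.inr rfl
      · rw [if_neg hec]; exact Or.inl rfl
  obtain ⟨a, ha⟩ : ∃ a, a = (if bar c = c then l * f c else f c) / f b := ⟨_, rfl⟩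
  have hbarb := A.barQ b hb
  have hbarc := A.barQ c hc
  have hsbL : bar s ∈ L := A.barL s hsL
  have hsm' : ∀ p ∈ P, pr p (bar s) = 0 := fun p hpp => by
    have h1 := hsP _ (hPb p hpp)
    have hbcc : df (bar b) (bar c) = bar s := hdf
    have hp' : pr (bar b) (bar c) = 1 := by rw [A.prbar b hbQL c hc]; exact hp
    have hN' : Nr pr bar (bar b) (bar c) := (A.Nr_bar b _ hb).2 (A.Nr_barR hb hc hN)
    obtain ⟨-, q1, q2, -⟩ := A.piv _ hbarb _ hbarc hN' hp' (by rw [A.htbar b hb, A.htbar c hc]; exact hhle)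
    rw [hbcc] at q1 q2
    have := (A.SP_bar hP hPb hcP).2 p hpp
    rw [← q2, A.R.lin (bar s) hsbL (bar b) hbarb q1 p (hP p hpp), (A.SP_bar hP hPb hbP).2 p hpp, zero_add] at this
    exact this
  obtain ⟨f1, hf1⟩ : ∃ f1, f1 = A.M (bar s) (φ a) f := ⟨_, rfl⟩
  have hN' : Nr pr bar (bar b) (bar c) := (A.Nr_bar b _ hb).2 (A.Nr_barR hb hc hN)
  have hp' : pr (bar b) (bar c) = 1 := by rw [A.prbar b hbQL c hc]; exact hp
  have hh' : ht (bar b) ≤ ht (bar c) := by rw [A.htbar b hb, A.htbar c hc]; exact hhle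
  have hlowb : ∀ e, Low pr bar ht b c e → Low pr bar ht (bar b) (bar c) e := fun e he => by
    unfold Low at he ⊢
    rwa [A.htbar b hb, A.htbar c hc, A.Nr_bar b e hb]
  have hlow1 : ∀ e, Low pr bar ht b c e → f1 e = if e = bar c then f e + φ a * φ (f b) else f e := by
    intro e he
    rw [hf1, ← hdf, A.M_low hbarb hbarc hN' hp' hh' (fun r hr h => by rw [A.htbar b hb]; exact (hsupp r hr h).2)
      (φ a) (hlowb e he), hf b hb]
  have hsupp1 : ∀ r ∈ Q, f1 r ≠ 0 → r ∈ SP pr Q P ∧ ht b ≤ ht r := by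
    intro r hr hne
    refine ⟨A.M_supp hP hsbL hsm' (fun r hr h => (hsupp r hr h).1) (φ a) hr (hf1 ▸ hne), ?_⟩
    by_contra hlt'
    rw [hlow1 r (Or.inl (by omega)), if_neg (fun e => by rw [e, A.htbar c hc] at hlt'; omega)] at hne
    exact hlt' (hsupp r hr hne).2
  have hf1b : f1 b = f b := by
    rw [hlow1 b hlb, if_neg (fun e => by
      have := A.htbar c hc; rw [← e] at this; omega)]
  obtain ⟨f', hf'⟩ : ∃ f', f' = A.M s a f1 := ⟨_, rfl⟩
  have hlow2 : ∀ e, Low pr bar ht b c e →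
      f' e = f e + (if e = bar c then φ (a * f b) else 0) + (if e = c then a * f b else 0) := by
    intro e he
    rw [hf', hsd, A.M_low hb hc hN hp hhle (fun r hr h => (hsupp1 r hr h).2) a he, hf1b, hlow1 e he]
    split_ifs <;> simp
  have hafb : a * f b = if bar c = c then l * f c else f c := by rw [ha, div_mul_cancel₀ _ hfb]
  have hkill : ∀ e, (e = c ∨ e = bar c) → Low pr bar ht b c e → f' e = 0 := by
    intro e he hle
    rw [hlow2 e hle, hafb]
    by_cases hcc : bar c = c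
    · rw [hcc] at he ⊢
      have hec : e = c := he.elim id id
      rw [hec]
      have hfc' : φ (f c) = f c := by rw [← hf c hc, hcc]
      simp only [if_true, map_mul, hfc']
      linear_combination (f c) * hl + f c * (CharTwo.two_eq_zero (R := F))
    · rw [if_neg hcc]
      rcases he with rfl | rfl
      · simp [Ne.symm hcc, CharTwo.add_self_eq_zero]
      · simp [hcc, hf c hc, CharTwo.add_self_eq_zero]
  have hh : x s a * x (bar s) (φ a) ∈ FH x bar φ {s | s ∈ Lp ∧ ∀ p ∈ P, pr p s = 0} :=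
    Subgroup.subset_closure ⟨s, hsm, Or.inr ⟨hss, a, rfl⟩⟩
  have hcomm : Commute (x s a) (x (bar s) (φ a)) := A.R.commL s hsL _ hsbL (hpair hss) _ _
  have hconj : x s a * x (bar s) (φ a) * ev x Q f * (x s a * x (bar s) (φ a))⁻¹ = ev x Q f' := by
    rw [hf', hf1, ← A.conj_ev hsL, ← A.conj_ev hsbL]; group
  refine ⟨_, hh, f', ?_, ?_, ?_, hkill c (Or.inl rfl) hlc, ?_, hconj⟩
  · rw [A.compat_iff, ← hconj, map_mul, map_mul, map_inv, map_mul, hσf, A.σx s (by simp [hsL]),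
      A.σx (bar s) (by simp [hsbL]), A.bar2 s (by simp [hsL]), A.phi2, hcomm.eq]
  · intro r hr hne
    refine ⟨A.M_supp hP hsL hsP (fun r hr h => (hsupp1 r hr h).1) a hr (hf' ▸ hne), ?_⟩
    by_contra hlt'
    rw [hlow2 r (Or.inl (by omega)), if_neg (fun e => by rw [e, A.htbar c hc] at hlt'; omega),
      if_neg (fun e => by subst e; omega), add_zero, add_zero] at hne
    exact hlt' (hsupp r hr hne).2
  · rw [hlow2 b hlb, if_neg (fun e => by have := A.htbar c hc; rw [← e] at this; omega), if_neg hbc, add_zero,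
      add_zero]
  · intro e _ hNe hhe
    by_cases h1 : e = c ∨ e = bar c
    · exact Or.inr (hkill e h1 (Or.inr ⟨hNe, hhe⟩))
    · push Not at h1
      rw [hlow2 e (Or.inr ⟨hNe, hhe⟩), if_neg h1.2, if_neg h1.1, add_zero, add_zero]
      exact Or.inl rfl

/-- Elimination by a pivot of least height. -/
theorem elim {P : List ℕ} (hP : ∀ p ∈ P, p ∈ Q ++ L) (hPb : ∀ p ∈ P, bar p ∈ P) {b : ℕ}
    (hbP : b ∈ SP pr Q P) {f : ℕ → F} (hf : A.Compat f)
    (hsupp : ∀ r ∈ Q, f r ≠ 0 → r ∈ SP pr Q P ∧ ht b ≤ ht r) (hfb : f b ≠ 0) :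
    ∃ h ∈ FH x bar φ {s | s ∈ Lp ∧ ∀ p ∈ P, pr p s = 0}, ∃ f' : ℕ → F, A.Compat f' ∧
      (∀ r ∈ Q, f' r ≠ 0 → r ∈ SP pr Q P ∧ ht b ≤ ht r ∧ ¬ Nr pr bar b r) ∧ f' b = f b ∧
      h * ev x Q f * h⁻¹ = ev x Q f' := by
  classical
  suffices key : ∀ k : ℕ, ∃ h ∈ FH x bar φ {s | s ∈ Lp ∧ ∀ p ∈ P, pr p s = 0}, ∃ f' : ℕ → F, A.Compat f' ∧
      (∀ r ∈ Q, f' r ≠ 0 → r ∈ SP pr Q P ∧ ht b ≤ ht r) ∧ f' b = f b ∧
      (∀ r ∈ Q, Nr pr bar b r → ht r < k → f' r = 0) ∧ h * ev x Q f * h⁻¹ = ev x Q f' by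
    obtain ⟨h, hh, f', h1, h2, h3, h4, h5⟩ := key ((Q.map ht).sum + 1)
    refine ⟨h, hh, f', h1, fun r hr hne => ⟨(h2 r hr hne).1, (h2 r hr hne).2, fun hN => hne (h4 r hr hN ?_)⟩, h3, h5⟩
    have := List.le_sum_of_mem (List.mem_map.2 ⟨r, hr, rfl⟩ : ht r ∈ Q.map ht)
    omega
  intro k
  induction k with
  | zero => exact ⟨1, one_mem _, f, hf, hsupp, rfl, fun r _ _ h => absurd h (Nat.not_lt_zero _), by group⟩
  | succ k ihk =>
    obtain ⟨h, hh, f1, c1, s1, b1, z1, e1⟩ := ihk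
    suffices inner : ∀ n : ℕ, ∀ g : ℕ → F, A.Compat g → (∀ r ∈ Q, g r ≠ 0 → r ∈ SP pr Q P ∧ ht b ≤ ht r) →
        g b = f b → (∀ r ∈ Q, Nr pr bar b r → ht r < k → g r = 0) →
        (Q.countP fun r => decide (Nr pr bar b r ∧ ht r = k ∧ g r ≠ 0)) ≤ n →
        ∃ h ∈ FH x bar φ {s | s ∈ Lp ∧ ∀ p ∈ P, pr p s = 0}, ∃ g' : ℕ → F, A.Compat g' ∧
          (∀ r ∈ Q, g' r ≠ 0 → r ∈ SP pr Q P ∧ ht b ≤ ht r) ∧ g' b = f b ∧
          (∀ r ∈ Q, Nr pr bar b r → ht r < k + 1 → g' r = 0) ∧ h * ev x Q g * h⁻¹ = ev x Q g' by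
      obtain ⟨h', hh', f2, c2, s2, b2, z2, e2⟩ := inner _ f1 c1 s1 b1 z1 le_rfl
      exact ⟨h' * h, mul_mem hh' hh, f2, c2, s2, b2, z2, by rw [← e2, ← e1]; group⟩
    intro n
    induction n with
    | zero =>
      intro g c0 s0 b0 z0 hn
      refine ⟨1, one_mem _, g, c0, s0, b0, fun r hr hN hlt => ?_, by group⟩
      rcases Nat.lt_succ_iff_lt_or_eq.1 hlt with hlt | rfl
      · exact z0 r hr hN hlt
      · by_contra hne
        have : 0 < Q.countP fun r' => decide (Nr pr bar b r' ∧ ht r' = ht r ∧ g r' ≠ 0) :=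
          List.countP_pos_iff.2 ⟨r, hr, by simp [hN, hne]⟩
        omega
    | succ n ihn =>
      intro g c0 s0 b0 z0 hn
      by_cases hex : ∃ c ∈ Q, Nr pr bar b c ∧ ht c = k ∧ g c ≠ 0
      swap
      · push Not at hex
        refine ⟨1, one_mem _, g, c0, s0, b0, fun r hr hN hlt => ?_, by group⟩
        rcases Nat.lt_succ_iff_lt_or_eq.1 hlt with hlt | he
        · exact z0 r hr hN hlt
        · exact hex r hr hN he
      obtain ⟨c, hc, hN, hck, hgc, hp⟩ : ∃ c ∈ Q, Nr pr bar b c ∧ ht c = k ∧ g c ≠ 0 ∧ pr b c = 1 := by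
        obtain ⟨c, hc, hN, hck, hgc⟩ := hex
        rcases hN.1 with h1 | h1
        · exact ⟨c, hc, hN, hck, hgc, h1⟩
        · refine ⟨bar c, A.barQ c hc, A.Nr_barR hbP.1 hc hN, by rw [A.htbar c hc, hck], ?_, ?_⟩
          · rw [c0 c hc]; exact (map_ne_zero φ).2 hgc
          · have := A.prbar (bar b) (by simp [A.barQ b hbP.1]) c hc
            rw [A.bar2 b (by simp [hbP.1])] at this
            rw [this, h1]
      obtain ⟨h', hh', g1, c1', s1', b1', zc, hmono, e1'⟩ :=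
        A.elim_step hP hPb hbP (s0 c hc hgc).1 hN hp c0 s0 (by rw [b0]; exact hfb) hgc
      have z1' : ∀ r ∈ Q, Nr pr bar b r → ht r < k → g1 r = 0 := fun r hr hN' hlt => by
        rcases hmono r hr hN' (by omega) with e | e
        · rw [e, z0 r hr hN' hlt]
        · exact e
      have hcnt : (Q.countP fun r => decide (Nr pr bar b r ∧ ht r = k ∧ g1 r ≠ 0)) <
          Q.countP fun r => decide (Nr pr bar b r ∧ ht r = k ∧ g r ≠ 0) := by
        have hle : ∀ l : List ℕ, (∀ r ∈ l, r ∈ Q) →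
            (l.countP fun r => decide (Nr pr bar b r ∧ ht r = k ∧ g1 r ≠ 0)) ≤
              l.countP fun r => decide (Nr pr bar b r ∧ ht r = k ∧ g r ≠ 0) := fun l hl =>
          List.countP_mono_left fun r hr h => by
            simp only [decide_eq_true_eq] at h ⊢
            refine ⟨h.1, h.2.1, fun h0 => h.2.2 ?_⟩
            rcases hmono r (hl r hr) h.1 (by omega) with e | e
            · rw [e, h0]
            · exact e
        obtain ⟨l1, l2, hl⟩ := List.append_of_mem hc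
        have k1 := hle l1 fun r hr => by rw [hl]; simp [hr]
        have k2 := hle l2 fun r hr => by rw [hl]; simp [hr]
        rw [hl, List.countP_append, List.countP_append, List.countP_cons, List.countP_cons]
        simp only [ne_eq] at k1 k2 hgc
        simp only [hN, hck, hgc, zc, ne_eq, not_true_eq_false, not_false_eq_true, and_self, and_false,
          decide_true, decide_false, if_true, Bool.false_eq_true, if_false]
        omega
      obtain ⟨h2, hh2, g2, c2, s2, b2, z2, e2⟩ := ihn g1 c1' s1' (b1'.trans b0) z1' (by omega)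
      exact ⟨h2 * h', mul_mem hh2 hh', g2, c2, s2, b2, z2, by rw [← e2, ← e1']; group⟩

/-- Splitting off an orbit. -/
theorem split_orb {b : ℕ} (hb : b ∈ Q) {f : ℕ → F} (hf : A.Compat f) :
    ∃ f' : ℕ → F, A.Compat f' ∧ f' b = 0 ∧ (∀ r ∈ Q, f' r ≠ 0 → f r ≠ 0 ∧ r ≠ b ∧ r ≠ bar b) ∧
      ev x Q f = vA x (orb bar φ (b, f b)) * ev x Q f' := by
  classical
  have hb2 := A.bar2 b (by simp [hb])
  refine ⟨fun r => if r = b ∨ r = bar b then 0 else f r, fun r hr => ?_, by simp, fun r _ hne => ?_, ?_⟩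
  · have e : (bar r = b ∨ bar r = bar b) ↔ (r = b ∨ r = bar b) := by
      constructor
      · rintro (h | h)
        · exact Or.inr (by rw [← h, A.bar2 r (by simp [hr])])
        · exact Or.inl (by rw [← A.bar2 r (by simp [hr]), h, hb2])
      · rintro (rfl | rfl)
        · exact Or.inr rfl
        · exact Or.inl hb2
    simp only [e]
    split_ifs <;> simp [hf r hr]
  · simp only at hne
    split_ifs at hne with h
    · exact absurd rfl hne
    · push Not at h; exact ⟨hne, h⟩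
  · unfold orb
    split_ifs with hbb
    · simp only [vA, List.map_cons, List.map_nil, List.prod_cons, List.prod_nil, mul_one]
      rw [← A.R.ev_single hb, ← A.R.ev_add]
      refine A.ev_congr fun r _ => ?_
      simp only [Pi.add_apply, hbb, or_self]
      by_cases h : r = b <;> simp [h]
    · simp only [vA, List.map_cons, List.map_nil, List.prod_cons, List.prod_nil, mul_one]
      rw [← A.R.ev_single hb, ← A.R.ev_single (A.barQ b hb), ← A.R.ev_add, ← A.R.ev_add, ← hf b hb]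
      refine A.ev_congr fun r _ => ?_
      simp only [Pi.add_apply]
      by_cases h : r = b
      · subst h; simp [Ne.symm hbb]
      · by_cases h' : r = bar b <;> simp [h, h']
        simp [hbb]

/-- Fixed elements of the module are products of orbit elements. -/
theorem ev_mem_FH {S : Set ℕ} : ∀ f : ℕ → F, A.Compat f → (∀ r ∈ Q, f r ≠ 0 → r ∈ S) →
    ev x Q f ∈ FH x bar φ S := by
  classical
  suffices ∀ n, ∀ f : ℕ → F, (Q.countP fun r => decide (f r ≠ 0)) ≤ n → A.Compat f →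
      (∀ r ∈ Q, f r ≠ 0 → r ∈ S) → ev x Q f ∈ FH x bar φ S from fun f => this _ f le_rfl
  intro n
  induction n with
  | zero =>
    intro f hn _ _
    rw [show ev x Q f = 1 from ?_]
    · exact one_mem _
    rw [← A.R.ev_zero]
    refine A.ev_congr fun r hr => ?_
    by_contra h
    have : 0 < Q.countP fun r => decide (f r ≠ 0) := List.countP_pos_iff.2 ⟨r, hr, by simpa using h⟩
    omega
  | succ n ih =>
    intro f hn hf hS
    by_cases hz : ∀ r ∈ Q, f r = 0
    · rw [A.ev_congr hz (g := 0), A.R.ev_zero]; exact one_mem _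
    push Not at hz
    obtain ⟨b, hb, hfb⟩ := hz
    obtain ⟨f', hf', hb0, hs', e⟩ := A.split_orb hb hf
    rw [e]
    refine mul_mem (Subgroup.subset_closure ⟨b, hS b hb hfb, ?_⟩) (ih f' ?_ hf' fun r hr h => hS r hr (hs' r hr h).1)
    · by_cases hbb : bar b = b
      · exact Or.inl ⟨hbb, f b, by rw [← hf b hb, hbb], by simp [orb, hbb, vA]⟩
      · exact Or.inr ⟨hbb, f b, by simp [orb, hbb, vA]⟩
    · obtain ⟨l1, l2, hl⟩ := List.append_of_mem hb
      have hle : ∀ l : List ℕ, (∀ r ∈ l, r ∈ Q) → (l.countP fun r => decide (f' r ≠ 0)) ≤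
          l.countP fun r => decide (f r ≠ 0) := fun l hlq => List.countP_mono_left fun r hr h => by
        simp only [decide_eq_true_eq] at h ⊢; exact (hs' r (hlq r hr) h).1
      have k1 := hle l1 fun r hr => by rw [hl]; simp [hr]
      have k2 := hle l2 fun r hr => by rw [hl]; simp [hr]
      rw [hl, List.countP_append, List.countP_cons] at hn ⊢
      simp only [ne_eq] at k1 k2
      simp only [hfb, hb0, ne_eq, not_false_eq_true, not_true_eq_false, decide_true, decide_false, if_true,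
        Bool.false_eq_true, if_false] at hn ⊢
      omega

theorem FH_commute {P : List ℕ} {B : List (ℕ × F)} (hB : ∀ p ∈ B, p.1 ∈ P ∧ p.1 ∈ Q ++ L)
    {h : G} (hh : h ∈ FH x bar φ {s | s ∈ Lp ∧ ∀ p ∈ P, pr p s = 0}) (hPb : ∀ p ∈ P, bar p ∈ P)
    (hP : ∀ p ∈ P, p ∈ Q ++ L) (hbar : ∀ s ∈ Lp, ∀ p ∈ P, pr p s = 0 → pr (bar p) (bar s) = 0) :
    Commute (vA x B) h := by
  refine Commute.list_prod_left _ _ fun y hy => ?_
  obtain ⟨p, hp, rfl⟩ := List.mem_map.1 hy
  refine A.R.HP_commute (hB p hp).1 (hB p hp).2 _ (X_sub (FH_le_X ?_ hh) fun s hs => ⟨A.LpL hs.1, hs.2⟩)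
  rintro s ⟨hs, hsP⟩
  refine ⟨A.LpBar s hs, fun q hq => ?_⟩
  have := hbar s hs (bar q) (hPb q hq) (hsP _ (hPb q hq))
  rwa [A.bar2 q (hP q hq)] at this

/-- The equivariant form of `RootAct.reduce`. -/
theorem reduce_fix (hprL : ∀ a ∈ Q ++ L, ∀ s ∈ Lp, pr (bar a) (bar s) = pr a s) :
    ∀ (P : List ℕ), (∀ p ∈ P, p ∈ Q ++ L) → (∀ p ∈ P, bar p ∈ P) →
    (∀ r ∈ SP pr Q P, ∀ r' ∈ SP pr Q P, pr r r' ≠ -1) →
    ∀ f : ℕ → F, A.Compat f → (∀ r ∈ Q, f r ≠ 0 → r ∈ SP pr Q P) →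
    ∃ h ∈ FH x bar φ {s | s ∈ Lp ∧ ∀ p ∈ P, pr p s = 0}, ∃ B : List (ℕ × F),
      (∀ p ∈ B, p.2 ≠ 0 ∧ (bar p.1 = p.1 → φ p.2 = p.2)) ∧
      (∀ r ∈ B.flatMap fun p => orbR bar p.1, r ∈ SP pr Q P) ∧
      ((B.flatMap fun p => orbR bar p.1).Pairwise fun a b => pr a b = 0) ∧
      h * ev x Q f * h⁻¹ = vA x (B.flatMap (orb bar φ)) := by
  classical
  intro P hP hPb hpos f hf hsupp
  induction hn : (Q.countP fun r => decide (r ∈ SP pr Q P)) using Nat.strong_induction_on generalizing P f with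
  | _ n ih =>
    by_cases hz : ∀ r ∈ Q, f r = 0
    · refine ⟨1, one_mem _, [], by simp, by simp, by simp, ?_⟩
      rw [one_mul, inv_one, mul_one, A.ev_congr hz (g := 0), A.R.ev_zero]
      rfl
    push Not at hz
    obtain ⟨b, ⟨hb, hfb⟩, hmin⟩ : ∃ b, (b ∈ Q ∧ f b ≠ 0) ∧ ∀ r, r ∈ Q → f r ≠ 0 → ht b ≤ ht r := by
      obtain ⟨r, hr, hfr⟩ := hz
      have hex : ∃ k, ∃ r ∈ Q, f r ≠ 0 ∧ ht r = k := ⟨_, r, hr, hfr, rfl⟩
      obtain ⟨b, hb, hfb, he⟩ := Nat.find_spec hex
      exact ⟨b, ⟨hb, hfb⟩, fun r hr hfr => he ▸ Nat.find_min' hex ⟨r, hr, hfr, rfl⟩⟩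
    have hbSP := hsupp b hb hfb
    obtain ⟨h, hh, f1, c1, s1, b1, e1⟩ := A.elim hP hPb hbSP hf (fun r hr hne => ⟨hsupp r hr hne, hmin r hr hne⟩) hfb
    obtain ⟨f2, c2, -, s2, e2⟩ := A.split_orb hb c1
    rw [b1] at e2
    have hbQL : b ∈ Q ++ L := by simp [hb]
    have hbarSP := A.SP_bar hP hPb hbSP
    obtain ⟨P', hP'⟩ : ∃ P', P' = orbR bar b ++ P := ⟨_, rfl⟩
    have hmemP' : ∀ p, p ∈ P' ↔ p = b ∨ p = bar b ∨ p ∈ P := fun p => by
      rw [hP', List.mem_append]; unfold orbR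
      split_ifs with hbb <;> simp [hbb, or_assoc]
    have hP'QL : ∀ p ∈ P', p ∈ Q ++ L := fun p hp => by
      rcases (hmemP' p).1 hp with rfl | rfl | hp
      · exact hbQL
      · exact List.mem_append.2 (Or.inl (A.barQ b hb))
      · exact hP p hp
    have hP'b : ∀ p ∈ P', bar p ∈ P' := fun p hp => by
      rw [hmemP']
      rcases (hmemP' p).1 hp with rfl | rfl | hp
      · exact Or.inr (Or.inl rfl)
      · exact Or.inl (A.bar2 b hbQL)
      · exact Or.inr (Or.inr (hPb p hp))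
    have hsub : ∀ r, r ∈ SP pr Q P' → r ∈ SP pr Q P := fun r hr =>
      ⟨hr.1, fun p hp => hr.2 p ((hmemP' p).2 (Or.inr (Or.inr hp)))⟩
    have hsupp2 : ∀ r ∈ Q, f2 r ≠ 0 → r ∈ SP pr Q P' := by
      intro r hr hne
      obtain ⟨hne1, hrb, hrb'⟩ := s2 r hr hne
      obtain ⟨hrSP, -, hnN⟩ := s1 r hr hne1
      refine ⟨hr, fun p hp => ?_⟩
      have hn1 := hpos b hbSP r hrSP
      have hn2 := hpos (bar b) hbarSP r hrSP
      have v1 := A.R.vals b hbQL r hr (Ne.symm hrb)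
      have v2 := A.R.vals (bar b) (List.mem_append.2 (Or.inl (A.barQ b hb))) r hr (Ne.symm hrb')
      have hnot : pr b r ≠ 1 ∧ pr (bar b) r ≠ 1 :=
        ⟨fun e => hnN ⟨Or.inl e, hn1, hn2⟩, fun e => hnN ⟨Or.inr e, hn1, hn2⟩⟩
      rcases (hmemP' p).1 hp with rfl | rfl | hp
      · omega
      · omega
      · exact hrSP.2 p hp
    have hlt : (Q.countP fun r => decide (r ∈ SP pr Q P')) < n := by
      rw [← hn]
      obtain ⟨l1, l2, hl⟩ := List.append_of_mem hb
      have hle : ∀ l : List ℕ, l.countP (fun r => decide (r ∈ SP pr Q P')) ≤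
          l.countP fun r => decide (r ∈ SP pr Q P) := fun l => List.countP_mono_left fun r _ hr => by
        simp only [decide_eq_true_eq] at hr ⊢; exact hsub r hr
      have hnot : b ∉ SP pr Q P' := fun h' => by
        have := h'.2 b ((hmemP' b).2 (Or.inl rfl)); rw [A.R.self b hbQL] at this; omega
      have k1 := hle l1
      have k2 := hle l2
      conv_lhs => arg 2; rw [hl]
      conv_rhs => arg 2; rw [hl]
      rw [List.countP_append, List.countP_append, List.countP_cons, List.countP_cons]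
      simp only [hbSP, hnot, decide_true, decide_false, if_true, Bool.false_eq_true, if_false]
      omega
    obtain ⟨h', hh', B, hB, hBS, hBp, e'⟩ := ih _ hlt P' hP'QL hP'b
      (fun r hr r' hr' => hpos r (hsub r hr) r' (hsub r' hr')) f2 c2 hsupp2 rfl
    refine ⟨h' * h, mul_mem (FH_mono (S := {s | s ∈ Lp ∧ ∀ p ∈ P', pr p s = 0}) (T := {s | s ∈ Lp ∧ ∀ p ∈ P, pr p s = 0}) (fun s hs => ⟨hs.1, fun p hp => hs.2 p ((hmemP' p).2 (Or.inr (Or.inr hp)))⟩)
      hh') hh, (b, f b) :: B, ?_, ?_, ?_, ?_⟩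
    · intro p hp
      rcases List.mem_cons.1 hp with rfl | hp
      · exact ⟨hfb, fun e => by simpa [e] using (hf b hb).symm⟩
      · exact hB p hp
    · intro r hr
      rw [List.flatMap_cons, List.mem_append] at hr
      rcases hr with hr | hr
      · have := (hmemP' r).1 (by rw [hP']; exact List.mem_append.2 (Or.inl hr))
        rcases this with rfl | rfl | h''
        · exact hbSP
        · exact hbarSP
        · exfalso
          have hrQ : r = b ∨ r = bar b := by unfold orbR at hr; split_ifs at hr <;> simp at hr <;> tauto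
          rcases hrQ with rfl | rfl
          · have := hbSP.2 _ h''; rw [A.R.self r hbQL] at this; omega
          · have := hbarSP.2 _ h''
            rw [A.R.self _ (List.mem_append.2 (Or.inl (A.barQ b hb)))] at this; omega
      · exact hsub r (hBS r hr)
    · rw [List.flatMap_cons, List.pairwise_append]
      refine ⟨?_, hBp, fun a ha c hc => (hBS c hc).2 a (by rw [hP']; exact List.mem_append.2 (Or.inl ha))⟩
      unfold orbR
      split_ifs with hbb
      · simp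
      · simp [A.pairs b hb hbb]
    · have hcm : Commute (vA x (orb bar φ (b, f b))) h' := by
        refine A.FH_commute (P := P') (fun p hp => ?_) hh' hP'b hP'QL fun s hs p hp h0 => ?_
        · have : p.1 ∈ orbR bar b := orb_map bar φ (b, f b) ▸ List.mem_map.2 ⟨p, hp, rfl⟩
          have hpP : p.1 ∈ P' := by rw [hP']; exact List.mem_append.2 (Or.inl this)
          exact ⟨hpP, hP'QL _ hpP⟩
        · rw [hprL p (hP'QL p hp) s hs, h0]
      rw [List.flatMap_cons, vA_append, ← e', show h' * h * ev x Q f * (h' * h)⁻¹ =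
        h' * (h * ev x Q f * h⁻¹) * h'⁻¹ by group, e1, e2,
        show h' * (vA x (orb bar φ (b, f b)) * ev x Q f2) * h'⁻¹ =
          (h' * vA x (orb bar φ (b, f b))) * ev x Q f2 * h'⁻¹ by group, ← hcm.eq]
      group

end SigAct

end CfsgLib.Chev.SLInvol
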