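import Mathlib

/-!
Tables: the classes under the relative Weyl group of the stable sets of pairwise orthogonal roots of E₆.
-/

set_option autoImplicit false

namespace CfsgLib.Chev.TwE6Invol

/-- The nodes. -/
def nodesT : List (List ℕ) := [
  [],
  [71],
  [71, 60],
  [68, 66],
  [71, 60, 44],
  [71, 59, 45],
  [71, 60, 44, 39],
  [71, 60, 43, 40]]

/-- Transitions out of node 0. -/
def transT_0 : List (ℕ × List ℕ × ℕ) := [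
  (0, [0, 1, 3, 1, 0, 2, 3, 1, 0, 3, 1, 2, 3, 1, 0], 1),
  (1, [0, 1, 3, 1, 0, 2, 3, 1, 0, 3, 1, 2, 3, 1], 1),
  (2, [0, 1, 3, 1, 0, 2, 3, 1, 0, 3, 1, 2, 3], 1),
  (3, [2, 3, 1, 0, 3, 1, 2, 3, 1, 0, 2, 3, 1, 3, 2], 3),
  (4, [2, 3, 1, 0, 3, 1, 2, 3, 1, 0, 2, 3, 1, 3], 3),
  (5, [2, 3, 1, 0, 3, 1, 2, 3, 1, 0, 2, 3, 1, 3, 2], 3),
  (6, [0, 1, 3, 1, 0, 2, 3, 1, 0, 3, 1, 2], 1),
  (7, [2, 3, 1, 0, 3, 1, 2, 3, 1, 0, 2, 3, 1], 3),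
  (8, [0, 1, 3, 1, 0, 2, 3, 1, 0, 3, 2], 1),
  (9, [2, 3, 1, 0, 3, 1, 2, 3, 1, 0, 2, 3], 3),
  (10, [2, 3, 1, 0, 3, 1, 2, 3, 1, 0, 2], 3),
  (11, [0, 1, 3, 1, 0, 2, 3, 1, 3, 2], 1),
  (12, [2, 3, 1, 0, 3, 1, 2, 3, 1, 2, 3], 3),
  (13, [2, 3, 1, 0, 3, 1, 2, 3, 1, 2], 3),
  (14, [2, 3, 1, 0, 3, 1, 2, 3, 2], 3),
  (15, [2, 3, 1, 0, 3, 1, 3, 2], 3),
  (16, [2, 3, 1, 0, 3, 1, 2, 3, 1, 0, 2, 3, 1, 3], 3),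
  (17, [2, 3, 1, 0, 3, 1, 2, 3, 1, 0, 2, 3, 1], 3),
  (18, [0, 1, 3, 1, 0, 2, 3, 1, 0, 3, 1], 1),
  (19, [2, 3, 1, 0, 3, 1, 2, 3, 1, 0, 2, 3], 3),
  (20, [0, 1, 3, 1, 0, 2, 3, 1, 0, 3], 1),
  (21, [2, 3, 1, 0, 3, 1, 2, 3, 1, 0], 3),
  (22, [2, 3, 1, 0, 3, 1, 2, 3, 1, 0, 2], 3),
  (23, [2, 3, 1, 0, 3, 1, 2, 3, 1, 0], 3),
  (24, [0, 1, 3, 1, 0, 2, 3, 1, 0], 1),
  (25, [0, 1, 3, 1, 2, 3, 1, 0], 1),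
  (26, [2, 3, 1, 0, 3, 1, 2, 3, 1, 2, 3], 3),
  (27, [0, 1, 3, 1, 0, 2, 3, 1, 3], 1),
  (28, [2, 3, 1, 0, 3, 1, 2, 3, 1], 3),
  (29, [2, 3, 1, 0, 3, 1, 2, 3], 3),
  (30, [2, 3, 1, 0, 3, 1, 2, 3, 1, 2], 3),
  (31, [2, 3, 1, 0, 3, 1, 2, 3, 1], 3),
  (32, [0, 1, 3, 1, 0, 2, 3, 1], 1),
  (33, [2, 3, 1, 0, 3, 1, 2, 3, 2], 3),
  (34, [2, 3, 1, 0, 3, 1, 2, 3], 3),
  (35, [2, 3, 1, 0, 3, 1, 3, 2], 3),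
  (36, [2, 3, 1, 0, 3, 1, 3], 3),
  (37, [2, 3, 1, 0, 3, 1, 2], 3),
  (38, [2, 3, 1, 0, 3, 1], 3),
  (39, [0, 1, 3, 1, 0, 2, 3], 1),
  (40, [2, 3, 1, 0, 3, 2], 3),
  (41, [2, 3, 1, 0, 3], 3),
  (42, [2, 3, 1, 0, 3, 1, 2], 3),
  (43, [2, 3, 1, 0, 3, 2], 3),
  (44, [0, 1, 3, 1, 0, 2], 1),
  (45, [2, 3, 1, 0], 3),
  (46, [0, 1, 3, 1, 2, 3, 1], 1),
  (47, [0, 1, 3, 1, 2, 3], 1),
  (48, [2, 3, 1, 3, 2], 3),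
  (49, [2, 3, 1, 3], 3),
  (50, [2, 3, 1, 3, 2], 3),
  (51, [0, 1, 3, 1, 2], 1),
  (52, [2, 3, 1], 3),
  (53, [0, 1, 3, 2], 1),
  (54, [2, 3], 3),
  (55, [2], 3),
  (56, [2, 3, 1, 0, 3, 1, 3], 3),
  (57, [2, 3, 1, 0, 3, 1], 3),
  (58, [2, 3, 1, 0, 3], 3),
  (59, [2, 3, 1, 0], 3),
  (60, [0, 1, 3, 1, 0], 1),
  (61, [2, 3, 1, 3], 3),
  (62, [2, 3, 1], 3),
  (63, [0, 1, 3, 1], 1),
  (64, [2, 3], 3),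
  (65, [0, 1, 3], 1),
  (66, [], 3),
  (67, [2], 3),
  (68, [], 3),
  (69, [0, 1], 1),
  (70, [0], 1),
  (71, [], 1)]

/-- Transitions out of node 1. -/
def transT_1 : List (ℕ × List ℕ × ℕ) := [
  (11, [2, 3, 1, 3, 2], 2),
  (12, [3, 1, 2, 3, 1, 2, 3], 5),
  (13, [3, 1, 2, 3, 1, 2], 5),
  (14, [3, 1, 2, 3, 2], 5),
  (15, [3, 1, 3, 2], 5),
  (26, [3, 1, 2, 3, 1, 2, 3], 5),
  (27, [2, 3, 1, 3], 2),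
  (28, [3, 1, 2, 3, 1], 5),
  (29, [3, 1, 2, 3], 5),
  (30, [3, 1, 2, 3, 1, 2], 5),
  (31, [3, 1, 2, 3, 1], 5),
  (32, [2, 3, 1], 2),
  (33, [3, 1, 2, 3, 2], 5),
  (34, [3, 1, 2, 3], 5),
  (35, [3, 1, 3, 2], 5),
  (36, [3, 1, 3], 5),
  (37, [3, 1, 2], 5),
  (38, [3, 1], 5),
  (39, [2, 3], 2),
  (40, [3, 2], 5),
  (41, [3], 5),
  (42, [3, 1, 2], 5),
  (43, [3, 2], 5),
  (44, [2], 2),
  (45, [], 5),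
  (56, [3, 1, 3], 5),
  (57, [3, 1], 5),
  (58, [3], 5),
  (59, [], 5),
  (60, [], 2)]

/-- Transitions out of node 2. -/
def transT_2 : List (ℕ × List ℕ × ℕ) := [
  (27, [3, 1, 3], 4),
  (28, [1, 3, 1], 7),
  (29, [1, 3], 7),
  (31, [1, 3, 1], 7),
  (32, [3, 1], 4),
  (34, [1, 3], 7),
  (37, [1], 7),
  (39, [3], 4),
  (40, [], 7),
  (42, [1], 7),
  (43, [], 7),
  (44, [], 4)]

/-- Transitions out of node 3. -/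
def transT_3 : List (ℕ × List ℕ × ℕ) := [
  (18, [0, 1, 3, 1, 0, 2, 3, 1, 0, 3, 1], 5),
  (20, [0, 1, 3, 1, 0, 2, 3, 1, 0, 3], 5),
  (24, [0, 1, 3, 1, 0, 2, 3, 1, 0], 5),
  (25, [0, 1, 3, 1, 2, 3, 1, 0], 5),
  (27, [0, 1, 3, 1, 0, 2, 3, 1, 3], 5),
  (32, [0, 1, 3, 1, 0, 2, 3, 1], 5),
  (39, [0, 1, 3, 1, 0, 2, 3], 5),
  (44, [0, 1, 3, 1, 0, 2], 5),
  (46, [0, 1, 3, 1, 2, 3, 1], 5),
  (47, [0, 1, 3, 1, 2, 3], 5),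
  (51, [0, 1, 3, 1, 2], 5),
  (53, [0, 1, 3, 2], 5)]

/-- Transitions out of node 4. -/
def transT_4 : List (ℕ × List ℕ × ℕ) := [
  (32, [1], 6),
  (39, [], 6)]

/-- Transitions out of node 5. -/
def transT_5 : List (ℕ × List ℕ × ℕ) := [
  (32, [2, 3, 1], 7),
  (39, [2, 3], 7)]

/-- Transitions out of node 6. -/
def transT_6 : List (ℕ × List ℕ × ℕ) := []

/-- Transitions out of node 7. -/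
def transT_7 : List (ℕ × List ℕ × ℕ) := []

/-- All transitions. -/
def transT : List (List (ℕ × List ℕ × ℕ)) := [transT_0, transT_1, transT_2, transT_3, transT_4, transT_5, transT_6, transT_7]

/-- Moves from each node, and their targets. -/
def movesT : List (List (List ℕ × List ℕ) × ℕ) := [
  ([], 0),
  ([], 1),
  ([], 2),
  ([], 3),
  ([([10, 36, 48], [0, 1, 3, 1, 0])], 5),
  ([], 5),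
  ([([9, 37, 49], [0, 1, 2, 3, 1, 0]), ([21, 25, 63], [3, 2])], 5),
  ([([21, 25, 63], [3, 2])], 5)]

end CfsgLib.Chev.TwE6Invol
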