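import Mathlib
import Cfsg.Agent.Lib.Chev.E6SLData
import Cfsg.Agent.Lib.Chev.SigmaTables
import Cfsg.Agent.Lib.Chev.TwE6InvolAct

/-!
The levels of the reduction of the involutions of ²E₆(q), and their kernel checks.
-/

set_option autoImplicit false
set_option maxRecDepth 100000

namespace CfsgLib.Chev.TwE6Invol

open Cfsg.Lie CfsgLib.Chev.SLInvol

/-- The image of a root under the graph symmetry. -/
noncomputable def bar (r : ℕ) : ℕ := nth 0 rhoE6.ρ r

/-- The heights of the positive roots. -/
def htE6 : List ℕ :=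
  [0, 0, 0, 0, 0, 0, 0, 0, 0, 0, 0, 0, 0, 0, 0, 0, 0, 0, 0, 0, 0, 0, 0, 0, 0, 0, 0, 0, 0, 0, 0, 0, 0, 0, 0, 0,
   1, 1, 2, 1, 2, 3, 1, 2, 3, 4, 1, 2, 3, 4, 3, 4, 5, 5, 6, 7, 1, 2, 3, 4, 5, 4, 5, 6, 6, 7, 8, 7, 8, 9, 10, 11]

/-- The height of a root. -/
noncomputable def ht (r : ℕ) : ℕ := nth 0 htE6 r

/-- The coordinates of the first `k` levels. -/
def coords : ℕ → List ℕ
  | 0 => []
  | 1 => [1]
  | 2 => [1, 3]
  | 3 => [1, 3, 0, 5]
  | _ => [1, 3, 0, 5, 2, 4]

/-- The coordinates of the first `k` levels vanish. -/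
noncomputable def zc (k r : ℕ) : Bool := (coords k).all fun j => Int.beq' (rootCo dataE6 r j) 0

/-- The radical of level `k`, without the highest root. -/
noncomputable def Qk (k : ℕ) : List ℕ :=
  (List.range' 36 36).filter fun r => zc k r && !zc (k + 1) r && !Nat.beq r 71

/-- The Levi roots of level `k`. -/
noncomputable def Lk (k : ℕ) : List ℕ := (List.range 72).filter fun r => zc (k + 1) r

/-- The positive roots of the levels from `k` on. -/
def Mset (k : ℕ) : Set ℕ := {r | 36 ≤ r ∧ r < 72 ∧ zc k r = true}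

/-- The roots whose root subgroups centralise the one of the highest root. -/
noncomputable def cenR (r : ℕ) : Bool :=
  Nat.blt r 72 && (Nat.beq r 71 || Int.beq' (fpair chevE6 r 71) 0 || Int.beq' (fpair chevE6 r 71) 1)

/-- The conjugator of a pivot. -/
noncomputable def df (b c : ℕ) : ℕ := smR chevE6 (fneg chevE6 b) c

/-- The partner of a root of the first level. -/
noncomputable def par (b : ℕ) : ℕ := smR chevE6 (fneg chevE6 b) 71

/-- The coordinates moved by a pivot. -/
noncomputable def nrB (b c : ℕ) : Bool :=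
  (Int.beq' (fpair chevE6 b c) 1 || Int.beq' (fpair chevE6 (bar b) c) 1) &&
    !Int.beq' (fpair chevE6 b c) (-1) && !Int.beq' (fpair chevE6 (bar b) c) (-1)

/-- The coordinates not to be disturbed. -/
noncomputable def lowB (b c e : ℕ) : Bool := Nat.ble (ht e) (ht b) || (nrB b e && Nat.ble (ht e) (ht c))

/-- Facts about all roots. -/
noncomputable def globOK : Bool :=
  allR (fun r => Nat.blt (bar r) 72 && Nat.beq (bar (bar r)) r &&
    (Nat.beq (bar r) r || (Int.beq' (fpair chevE6 r (bar r)) 0 && !Nat.beq (bar r) (fneg chevE6 r))) &&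
    (Nat.blt r 36 || Nat.ble 36 (bar r)) &&
    allR (fun s => Int.beq' (fpair chevE6 (bar r) (bar s)) (fpair chevE6 r s)) (upto 72)) (upto 72)

/-- The symmetry keeps the levels. -/
noncomputable def zcOK : Bool :=
  allR (fun k => allR (fun r => zc k (bar r) == zc k r) (upto 72)) (upto 5)

/-- The module axioms of a level. -/
noncomputable def modOK (k : ℕ) : Bool :=
  allR (fun r => cenR r && allR (fun s => Nat.beq r s || Int.beq' (fpair chevE6 r s) (-1) ||
      Int.beq' (fpair chevE6 r s) 0 || Int.beq' (fpair chevE6 r s) 1) (Qk k)) (Qk k ++ Lk k) &&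
  allR (fun r => allR (fun s => !Nat.beq s (fneg chevE6 r) &&
    (!Int.beq' (fpair chevE6 r s) (-1) || Nat.beq (smR chevE6 r s) 71)) (Qk k)) (Qk k) &&
  allR (fun s => allR (fun r => !Nat.beq r (fneg chevE6 s) && !Nat.beq r s &&
    (!Int.beq' (fpair chevE6 s r) (-1) || (Qk k).contains (smR chevE6 s r))) (Qk k)) (Lk k) &&
  allR (fun s => allR (fun r => !Int.beq' (fpair chevE6 s r) 0 || !Nat.beq r (fneg chevE6 s)) (Lk k)) (Lk k) &&
  allR (fun b => allR (fun c => !Int.beq' (fpair chevE6 b c) 1 ||
    ((Lk k).contains (df b c) && Int.beq' (fpair chevE6 (df b c) b) (-1) &&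
      Nat.beq (smR chevE6 (df b c) b) c)) (Qk k)) (Qk k) &&
  allR (fun a => allR (fun c => !Int.beq' (fpair chevE6 a c) 1 ||
    ((Qk k).contains (smR chevE6 (fneg chevE6 a) c) &&
      Int.beq' (fpair chevE6 a (smR chevE6 (fneg chevE6 a) c)) (-1) &&
      Nat.beq (smR chevE6 a (smR chevE6 (fneg chevE6 a) c)) c)) (Qk k)) (Lk k)

/-- The pivot axioms of a level. -/
noncomputable def pivOK (k : ℕ) : Bool :=
  allR (fun b => allR (fun c => !(nrB b c && Int.beq' (fpair chevE6 b c) 1 && Nat.ble (ht b) (ht c)) ||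
    ((Lk k).contains (df b c) && Nat.ble 36 (df b c) && Nat.blt (ht b) (ht c) &&
      Nat.beq (df (bar b) (bar c)) (bar (df b c)) &&
      (!Nat.beq (bar (df b c)) (df b c) || (Nat.beq (bar b) b && Nat.beq (bar c) c)) &&
      allR (fun d => !(Nat.ble (ht b) (ht d) && Int.beq' (fpair chevE6 (df b c) d) (-1)) || Nat.beq d b ||
        !lowB b c (smR chevE6 (df b c) d)) (Qk k))) (Qk k)) (Qk k) &&
  allR (fun r => Nat.beq (ht (bar r)) (ht r)) (Qk k)

/-- No two roots of a radical above the first make an obtuse angle. -/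
noncomputable def posOK (k : ℕ) : Bool :=
  allR (fun r => allR (fun s => !Int.beq' (fpair chevE6 r s) (-1)) (Qk k)) (Qk k)

/-- What is left after a pivot in the first level, and the partner. -/
noncomputable def restOK : Bool :=
  allR (fun b =>
    (Qk 0).contains (par b) && Int.beq' (fpair chevE6 b (par b)) (-1) &&
    Nat.beq (smR chevE6 (par b) b) 71 && Nat.beq (bar (par b)) (par (bar b)) &&
    allR (fun a => Int.beq' (fpair chevE6 a (par b)) (- fpair chevE6 a b)) (Lk 0) &&
    allR (fun r => (!Int.beq' (fpair chevE6 b r) 0 || Int.beq' (fpair chevE6 (par b) r) 1) &&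
      (!Int.beq' (fpair chevE6 b r) (-1) || Nat.beq r (par b)) &&
      (Nat.beq r b || Nat.beq r (bar b) || !Nat.ble (ht b) (ht r) || nrB b r ||
        (Int.beq' (fpair chevE6 b r) 0 && Int.beq' (fpair chevE6 (bar b) r) 0) ||
        Nat.beq r (par b) || Nat.beq r (par (bar b))) &&
      allR (fun r' => !(Int.beq' (fpair chevE6 b r) 0 && Int.beq' (fpair chevE6 b r') 0) ||
        !Int.beq' (fpair chevE6 r r') (-1)) (Qk 0)) (Qk 0) &&
    (Nat.beq (bar b) b ||
      (Int.beq' (fpair chevE6 (bar b) (par b)) 1 && Int.beq' (fpair chevE6 b (par (bar b))) 1 &&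
        Int.beq' (fpair chevE6 (par b) (par (bar b))) 0 &&
        (!Nat.ble (ht b) (ht (par b)) ||
          ((Lk 0).contains (df (bar b) (par b)) && Nat.ble 36 (df (bar b) (par b)) &&
            Nat.beq (bar (df (bar b) (par b))) (df (bar b) (par b)) &&
            Int.beq' (fpair chevE6 (df (bar b) (par b)) b) (-1) &&
            Int.beq' (fpair chevE6 (df (bar b) (par b)) (bar b)) (-1) &&
            Nat.beq (smR chevE6 (df (bar b) (par b)) (bar b)) (par b) &&
            Nat.beq (smR chevE6 (df (bar b) (par b)) b) (par (bar b)) &&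
            allR (fun r => Nat.beq r b || Nat.beq r (bar b) ||
              !((Int.beq' (fpair chevE6 b r) 0 && Int.beq' (fpair chevE6 (bar b) r) 0) ||
                Nat.beq r (par b) || Nat.beq r (par (bar b))) ||
              !Int.beq' (fpair chevE6 (df (bar b) (par b)) r) (-1)) (Qk 0)))))) (Qk 0)

/-- The levels exhaust the positive roots, and the first Levi is orthogonal to the highest root. -/
noncomputable def edgeOK : Bool :=
  allR (fun r => Nat.blt r 36 || (!zc 4 r && (!zc 1 r || Int.beq' (fpair chevE6 r 71) 0))) (upto 72)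

theorem edgeOK_eq : edgeOK = true := by decide +kernel

theorem globOK_eq : globOK = true := by decide +kernel

theorem zcOK_eq : zcOK = true := by decide +kernel

theorem modOK_eq : ∀ k < 4, modOK k = true := by decide +kernel

theorem pivOK_eq : ∀ k < 4, pivOK k = true := by decide +kernel

theorem posOK_eq : ∀ k < 4, 1 ≤ k → posOK k = true := by decide +kernel

theorem restOK_eq : restOK = true := by decide +kernel

end CfsgLib.Chev.TwE6Invol
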