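import Mathlib
import Cfsg.Agent.Lib.Chev.TwE6InvolData
import Cfsg.Agent.Lib.Chev.TwistHOrders

/-!
²E₆(q) for q even: orbit root elements, and the centraliser of the highest root subgroup modulo that
subgroup as a module with a symmetry.
-/

set_option autoImplicit false
set_option maxRecDepth 100000
set_option linter.unusedSectionVars false

namespace CfsgLib.Chev.TwE6Invol

open Cfsg.Lie CfsgLib.Chev.SLInvol

/-- The data used of ²E₆(q). -/
structure Ctx (K : Type*) [Field K] (q : ℕ) where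
  /-- the endomorphism -/
  T : Twist goodE6 K
  /-- the field automorphism -/
  φ : K →+* K
  hφ : ∀ t, φ t = t ^ q
  hK : ∀ t : K, φ (φ t) = t
  hlam : ∃ l : K, l + φ l = 1
  hρ : ∀ r (hr : r < chevE6.nroots), ((T.ρ ⟨r, hr⟩ : Fin _) : ℕ) = bar r
  hf : ∀ s t, T.f s t = φ t
  hle : twistedE6 K q ≤ T.fixed
  hU : chevE6.posUnipotent K ⊓ T.fixed ≤ twistedE6 K q
  hlong : ∃ n ∈ twistedE6 K q, ∀ r, r < 36 → ∃ r', 36 ≤ r' ∧ r' < chevE6.nroots ∧ ∃ c : Kˣ,
    ∀ t : K, n * goodE6.xG r t * n⁻¹ = goodE6.xG r' ((c : K) * t)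
  hword : ∀ k : Fin 4, (goodE6.wordN (orbE6 k) : GL chevE6.Idx K) ∈ twistedE6 K q
  hsylow : ∃ d : ℕ, ¬ 2 ∣ d ∧ Nat.card ↥(twistedE6 K q) =
    d * Nat.card ↥(chevE6.posUnipotent K ⊓ twistedE6 K q)
  hpU : IsPGroup 2 ↥(chevE6.posUnipotent K ⊓ twistedE6 K q)

theorem exists_ctx (K : Type*) [Field K] [Fintype K] [CharP K 2] {q : ℕ} (hK : Fintype.card K = q ^ 2) :
    Nonempty (Ctx K q) := by
  classical
  obtain ⟨n0, -, hn0⟩ := FiniteField.card K 2
  have hpow : IsPrimePow q := by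
    have h1 : IsPrimePow (q ^ 2) := by
      rw [← hK, hn0]; exact ⟨2, n0, Nat.prime_two.prime, n0.pos, rfl⟩
    exact (isPrimePow_pow_iff two_ne_zero).1 h1
  obtain ⟨A0, hG, hφ, hS, hr, ho⟩ := exists_setupE6 K hpow hK
  obtain ⟨T, hTρ, hTpi, hTf⟩ := exists_twist_rhoE6 (F := K) A0.φ
  have hc : HasComm chevE6 := hasComm_of_mem (by simp)
  have hone : ∀ s : ℕ, (nth 1 rhoE6Sign s : K) = 1 := by
    intro s
    have h : nth 1 rhoE6Sign s = 1 ∨ nth 1 rhoE6Sign s = -1 := by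
      have hall : ∀ z ∈ rhoE6Sign, z = 1 ∨ z = -1 := by decide
      generalize rhoE6Sign = l at hall
      induction l generalizing s with
      | nil => left; rfl
      | cons a l ih =>
        cases s with
        | zero => exact hall a (by simp)
        | succ s => exact ih s fun z hz => hall z (by simp [hz])
    rcases h with h | h <;> simp [h, CharTwo.neg_eq]
  let A : A1Setup goodE6 K :=
    { A0 with
      T := T
      Tρ := hTρ.trans (congrArg RootSym.ρ hS.symm)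
      Tpi := hTpi.trans (congrArg RootSym.pi hS.symm)
      f_simple := fun i t => ⟨by rw [hTf, hone, one_mul], by rw [hTf, hone, one_mul]⟩ }
  have hphi : ∀ t : K, A0.φ (A0.φ t) = t := fun t => by
    rw [hφ, hφ, ← pow_mul, ← sq, ← hK, FiniteField.pow_card]
  have hlam : ∃ l : K, l + A0.φ l = 1 := by
    have hne : ∃ t : K, A0.φ t ≠ t := by
      by_contra h
      push Not at h
      have h1 : Nat.card {t : K // t ^ q = t} = Fintype.card K := by
        rw [← Nat.card_eq_fintype_card]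
        exact Nat.card_congr (Equiv.subtypeUnivEquiv fun t => (hφ t).symm.trans (h t))
      rw [card_pow_eq_self hpow.one_lt hK, hK] at h1
      nlinarith [hpow.one_lt]
    obtain ⟨t, ht⟩ := hne
    have hs : t + A0.φ t ≠ 0 := fun h => ht (CharTwo.add_eq_zero.1 h).symm
    refine ⟨t / (t + A0.φ t), ?_⟩
    rw [map_div₀, map_add, hphi, add_comm (A0.φ t) t, ← add_div, div_self hs]
  have hfac : Nat.card ↥(chevE6.posUnipotent K ⊓ twistedE6 K q) = q ^ 36 := by
    obtain ⟨T', S', hG', h0, -, -⟩ := factsE6 K hpow hK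
    have := S'.card_pos_inf hc h0
    rwa [pow_one, show chevE6.nroots / 2 = 36 by decide +kernel, hG'] at this
  obtain ⟨k, hk, hqk⟩ : ∃ k, 1 ≤ k ∧ q = 2 ^ k := by
    obtain ⟨p, k, hp, hk, rfl⟩ := hpow
    refine ⟨k, hk, ?_⟩
    have h2 : 2 ∣ Fintype.card K := by rw [hn0]; exact dvd_pow_self 2 n0.ne_zero
    rw [hK] at h2
    rw [(Nat.prime_dvd_prime_iff_eq Nat.prime_two hp.nat_prime).1
      (Nat.prime_two.dvd_of_dvd_pow (Nat.prime_two.dvd_of_dvd_pow h2))]
  refine ⟨{ T := T, φ := A0.φ, hφ := hφ, hK := hphi, hlam := hlam, hρ := ?_, hf := ?_, hle := ?_, hU := ?_,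
            hlong := ?_, hword := ?_, hsylow := ?_, hpU := ?_ }⟩
  · intro r _
    rw [hTρ]; rfl
  · exact fun s t => by rw [hTf, hone, one_mul]
  · exact hG ▸ A.G1_le_fixed hc
  · have := (A.sys hc).pos_inf_eq hc
    rw [← hG]
    exact fun x hx => (this.ge hx).2
  · obtain ⟨w, hw, hms, -⟩ := A.T.exists_longest_fixed
    obtain ⟨n, hn, -, hna⟩ := (A.sys hc).exists_rep hw
    refine ⟨n, hG ▸ hn, fun r hr => ?_⟩
    have hr' : r < chevE6.nroots := lt_trans hr (by decide +kernel)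
    have hh : half chevE6 = 36 := by decide +kernel
    obtain ⟨c, hc'⟩ := hna ⟨r, hr'⟩
    refine ⟨(w ⟨r, hr'⟩).val, ?_, Fin.isLt _, c, hc'⟩
    have hp : half chevE6 ≤ (goodE6.nroot ⟨r, hr'⟩).val := (goodE6.nroot_pos_iff _).2 (hh.symm ▸ hr)
    have hmem : (goodE6.nroot ⟨r, hr'⟩).val ∈ minusSet w := by rw [hms]; exact ⟨Fin.isLt _, hp⟩
    obtain ⟨h1, -, h2⟩ := hmem
    rw [show (⟨(goodE6.nroot ⟨r, hr'⟩).val, h1⟩ : Fin chevE6.nroots) = goodE6.nroot ⟨r, hr'⟩ from rfl,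
      goodE6.weyl_nroot (A.T.mem_weylFix.1 hw).1] at h2
    by_contra hlt
    have h3 := (goodE6.nroot_pos_iff (w ⟨r, hr'⟩)).2 (hh.symm ▸ Nat.not_le.1 hlt)
    omega
  · intro k
    have := A.wordN_mem hc (Fin.cast hr.symm k)
    rwa [show A.orb (Fin.cast hr.symm k) = orbE6 k from ho _, show A.G1 = twistedE6 K q from hG] at this
  · have hcard := card_twistedE6 K hpow hK
    rw [hfac]
    obtain ⟨u, hu⟩ : q ^ 36 ∣ Nat.card ↥(twistedE6 K q) :=
      hfac ▸ Subgroup.card_dvd_of_le inf_le_right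
    refine ⟨u, fun h2 => ?_, hu.trans (mul_comm _ _)⟩
    rw [hu] at hcard
    have h1 : 1 ≤ q := hqk ▸ Nat.one_le_two_pow
    have h0 : q ^ 36 ≠ 0 := pow_ne_zero _ (by omega)
    have hu' : Nat.gcd 3 (q + 1) * u =
        (q ^ 2 - 1) * (q ^ 5 + 1) * (q ^ 6 - 1) * (q ^ 8 - 1) * (q ^ 9 + 1) * (q ^ 12 - 1) :=
      mul_left_cancel₀ h0 (by rw [← mul_left_comm]; simpa [mul_assoc, mul_left_comm] using hcard)
    have he : Even q := by rw [hqk]; exact even_two.pow_of_ne_zero (by omega)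
    have hev : Even (Nat.gcd 3 (q + 1) * u) := even_iff_two_dvd.2 (Dvd.dvd.mul_left h2 _)
    rw [hu'] at hev
    have hm : ∀ n, n ≠ 0 → ¬ Even (q ^ n - 1) := fun n hn =>
      Nat.not_even_iff_odd.2 (Nat.Even.sub_odd (Nat.one_le_pow _ _ h1) (he.pow_of_ne_zero hn) odd_one)
    have hp : ∀ n, n ≠ 0 → ¬ Even (q ^ n + 1) := fun n hn =>
      Nat.not_even_iff_odd.2 ((he.pow_of_ne_zero hn).add_one)
    simp [Nat.even_mul, hm, hp] at hev
  · exact IsPGroup.of_card (n := k * 36) (by rw [hfac, hqk, pow_mul])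

end CfsgLib.Chev.TwE6Invol
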