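import Mathlib
import Cfsg.Agent.Lib.Chev.TwE6InvolCtx
import Cfsg.Agent.Lib.Chev.SLInvolHeis

/-!
The centraliser of the highest root subgroup of E₆ modulo that subgroup, as a module at each level with
the symmetry of ²E₆(q).
-/

set_option autoImplicit false
set_option maxRecDepth 100000
set_option linter.unusedSectionVars false

namespace CfsgLib.Chev.TwE6Invol

open Cfsg.Lie CfsgLib.Chev.SLInvol

theorem nroots72 : chevE6.nroots = 72 := by decide +kernel

theorem half36 : half chevE6 = 36 := by decide +kernel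

theorem range36 : List.range' (half chevE6) (chevE6.nroots - half chevE6) = List.range' 36 36 := by
  rw [half36, nroots72]

theorem fp {r s : ℕ} (hs : s < 72) : fpair chevE6 r s = pair chevE6 r s :=
  slE6.good.fpair_eq r (nroots72.symm ▸ hs)

theorem fneg_eq {r : ℕ} (hr : r < 72) : fneg chevE6 r = chevE6.neg r :=
  (neg_eq slE6.lie.pack (nroots72.symm ▸ hr)).symm

theorem glob {r : ℕ} (hr : r < 72) : bar r < 72 ∧ bar (bar r) = r ∧
    (bar r ≠ r → pair chevE6 r (bar r) = 0 ∧ bar r ≠ chevE6.neg r) ∧ (36 ≤ r → 36 ≤ bar r) ∧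
    ∀ s < 72, pair chevE6 (bar r) (bar s) = pair chevE6 r s := by
  have h := globOK_eq
  unfold globOK at h
  have hall : ∀ r < 72, (Nat.blt (bar r) 72 && Nat.beq (bar (bar r)) r &&
    (Nat.beq (bar r) r || (Int.beq' (fpair chevE6 r (bar r)) 0 && !Nat.beq (bar r) (fneg chevE6 r))) &&
    (Nat.blt r 36 || Nat.ble 36 (bar r)) &&
    allR (fun s => Int.beq' (fpair chevE6 (bar r) (bar s)) (fpair chevE6 r s)) (upto 72)) = true :=
    fun r hr => allR_upto h hr
  have := hall r hr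
  simp only [Bool.and_eq_true, Bool.or_eq_true, Nat.blt_eq, Nat.beq_eq, Nat.ble_eq, Int.beq'_eq,
    Bool.not_eq_true', ← Bool.not_eq_true] at this
  obtain ⟨⟨⟨⟨a, b⟩, c⟩, d⟩, e⟩ := this
  refine ⟨a, b, fun hne => ?_, fun h36 => d.resolve_left (by omega), fun s hs => ?_⟩
  · obtain ⟨c1, c2⟩ := c.resolve_left hne
    exact ⟨by rwa [← fp a], by rwa [← fneg_eq hr]⟩
  · have := allR_upto e hs
    rw [Int.beq'_eq] at this
    have hbs := hall s hs
    simp only [Bool.and_eq_true, Nat.blt_eq] at hbs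
    rw [← fp hbs.1.1.1.1, ← fp hs, this]

variable {K : Type*} [Field K]

/-- The root element in the group. -/
noncomputable def xE (r : ℕ) (t : K) : ↥(chevE6.group K) :=
  if h : r < chevE6.nroots then ⟨goodE6.xG r t, goodE6.xG_mem_group h t⟩ else 1

theorem coe_xE {r : ℕ} (hr : r < 72) (t : K) : (xE r t : GL chevE6.Idx K) = goodE6.xG r t := by
  rw [xE, dif_pos (nroots72.symm ▸ hr)]

theorem xE_add (r : ℕ) (s t : K) : xE r s * xE r t = xE r (s + t) := by
  unfold xE
  split_ifs with h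
  · exact Subtype.ext (goodE6.xG_add r s t)
  · exact one_mul 1

theorem xE_zero (r : ℕ) : xE r (0 : K) = 1 := by
  unfold xE
  split_ifs with h
  · exact Subtype.ext (goodE6.xG_zero r)
  · rfl

/-- The centraliser of the highest root subgroup. -/
noncomputable def cenT (K : Type*) [Field K] : Subgroup ↥(chevE6.group K) :=
  Subgroup.centralizer (Set.range fun t : K => xE 71 t)

/-- The highest root subgroup in its centraliser. -/
noncomputable def Zs (K : Type*) [Field K] : Subgroup ↥(cenT K) := (X (xE (K := K)) {71}).subgroupOf (cenT K)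

theorem mem_X71 {y : ↥(chevE6.group K)} (hy : y ∈ X (xE (K := K)) {71}) : ∃ c : K, y = xE 71 c := by
  induction hy using Subgroup.closure_induction with
  | mem y hy => obtain ⟨s, hs, t, rfl⟩ := hy; exact ⟨t, by rw [Set.mem_singleton_iff.1 hs]⟩
  | one => exact ⟨0, (xE_zero 71).symm⟩
  | mul a b _ _ ha hb => obtain ⟨c, rfl⟩ := ha; obtain ⟨d, rfl⟩ := hb; exact ⟨c + d, xE_add 71 c d⟩
  | inv a _ ha =>
    obtain ⟨c, rfl⟩ := ha
    exact ⟨-c, inv_eq_of_mul_eq_one_right (by rw [xE_add, add_neg_cancel, xE_zero])⟩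

instance Zs_normal : (Zs K).Normal := by
  refine ⟨fun n hn a => ?_⟩
  obtain ⟨c, hc⟩ := mem_X71 (Subgroup.mem_subgroupOf.1 hn)
  have h := Subgroup.mem_centralizer_iff.1 a.2 _ ⟨c, rfl⟩
  have : a * n * a⁻¹ = n := Subtype.ext (by
    rw [Subgroup.coe_mul, Subgroup.coe_mul, Subgroup.coe_inv, hc, ← h, mul_inv_cancel_right])
  rw [this]; exact hn

/-- The quotient. -/
abbrev Quot71 (K : Type*) [Field K] : Type _ := ↥(cenT K) ⧸ Zs K

variable [CharP K 2]

theorem xE_commute {s r : ℕ} (hs : s < 72) (hr : r < 72) (hp : pair chevE6 s r ≠ -1) (hn : r ≠ chevE6.neg s)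
    (u t : K) : Commute (xE s u) (xE r t) :=
  Subtype.ext (by
    show (xE s u : GL chevE6.Idx K) * xE r t = xE r t * xE s u
    rw [coe_xE hs, coe_xE hr]
    exact (slE6.commute (nroots72.symm ▸ hs) (nroots72.symm ▸ hr) hp hn t u).eq)

theorem xE_conj {s r : ℕ} (hs : s < 72) (hr : r < 72) (hp : pair chevE6 s r = -1) (u t : K) :
    xE s u * xE r t * (xE s u)⁻¹ = xE r t * xE (smR chevE6 s r) (u * t) := by
  have h1 := slE6.sum_facts (nroots72.symm ▸ hs) (nroots72.symm ▸ hr) hp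
  refine Subtype.ext ?_
  show (xE s u : GL chevE6.Idx K) * xE r t * (xE s u : GL chevE6.Idx K)⁻¹ = xE r t * xE (smR chevE6 s r) (u * t)
  rw [coe_xE hs, coe_xE hr, coe_xE (nroots72 ▸ h1.1)]
  exact slE6.sum_conj (nroots72.symm ▸ hs) (nroots72.symm ▸ hr) hp t u

theorem cenR_facts {r : ℕ} (hr : cenR r = true) : r < 72 ∧ (r = 71 ∨ pair chevE6 r 71 = 0 ∨ pair chevE6 r 71 = 1) := by
  simp only [cenR, Bool.and_eq_true, Bool.or_eq_true, Nat.blt_eq, Nat.beq_eq, Int.beq'_eq] at hr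
  rw [fp (by norm_num)] at hr
  exact ⟨hr.1, by tauto⟩

theorem xE_mem_cen {r : ℕ} (hr : cenR r = true) (t : K) : xE r t ∈ cenT K := by
  obtain ⟨hr1, hr2⟩ := cenR_facts hr
  refine Subgroup.mem_centralizer_iff.2 ?_
  rintro - ⟨c, rfl⟩
  by_cases e : r = 71
  · subst e; simp only [xE_add, add_comm]
  · refine (xE_commute (s := r) hr1 (by norm_num) ?_ ?_ t c).eq.symm
    · rcases hr2 with h | h | h
      · exact absurd h e
      · rw [h]; norm_num
      · rw [h]; norm_num
    · intro h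
      have hn := slE6.pair_neg_left (r := r) (u := r) (nroots72.symm ▸ hr1) (nroots72.symm ▸ hr1)
      have hsy := slE6.pair_symm (r := r) (s := chevE6.neg r) (nroots72.symm ▸ hr1) (slE6.good.neg_lt (nroots72.symm ▸ hr1))
      rw [slE6.pair_self (nroots72.symm ▸ hr1)] at hn
      rcases hr2 with h' | h' | h'
      · exact e h'
      · rw [h, hsy, hn] at h'; omega
      · rw [h, hsy, hn] at h'; omega

/-- The root elements in the quotient. -/
noncomputable def xq (r : ℕ) (t : K) : Quot71 K :=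
  if h : cenR r = true then QuotientGroup.mk ⟨xE r t, xE_mem_cen h t⟩ else 1

theorem xq_mk {r : ℕ} (hr : cenR r = true) (t : K) : xq r t = QuotientGroup.mk ⟨xE r t, xE_mem_cen hr t⟩ :=
  dif_pos hr

/-- The pairing of two roots. -/
noncomputable abbrev pr (r s : ℕ) : ℤ := pair chevE6 r s

theorem mem_Qk {k r : ℕ} : r ∈ Qk k ↔ (36 ≤ r ∧ r < 72) ∧ zc k r = true ∧ zc (k + 1) r = false ∧ r ≠ 71 := by
  simp [Qk, List.mem_filter, List.mem_range'_1, ← Bool.not_eq_true, Nat.beq_eq, and_assoc]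

theorem mem_Lk {k r : ℕ} : r ∈ Lk k ↔ r < 72 ∧ zc (k + 1) r = true := by
  simp [Lk, List.mem_filter]

theorem lt_of_mem {k r : ℕ} (h : r ∈ Qk k ++ Lk k) : r < 72 :=
  (List.mem_append.1 h).elim (fun h => (mem_Qk.1 h).1.2) (fun h => (mem_Lk.1 h).1)

theorem zc_bar {k r : ℕ} (hk : k < 5) (hr : r < 72) : zc k (bar r) = zc k r := by
  have := allR_upto (allR_upto zcOK_eq hk) hr
  simpa using this

theorem rootAct {k : ℕ} (hk : k < 4) : RootAct (xq (K := K)) (Qk k) (Lk k) pr (smR chevE6) := by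
  have h := modOK_eq k hk
  unfold modOK at h
  simp only [Bool.and_eq_true] at h
  obtain ⟨⟨⟨⟨⟨h1, h2⟩, h3⟩, h4⟩, h5⟩, h6⟩ := h
  simp only [allR_eq, List.all_eq_true, Bool.and_eq_true, Bool.or_eq_true, Nat.beq_eq, Int.beq'_eq, Bool.not_eq_true',
    ← Bool.not_eq_true, List.contains_iff_mem] at h1 h2 h3 h4 h5 h6
  have hcen : ∀ r ∈ Qk k ++ Lk k, cenR r = true := fun r hr => (h1 r hr).1
  have hlt := fun r (hr : r ∈ Qk k ++ Lk k) => lt_of_mem hr
  have hQ : ∀ r ∈ Qk k, r ∈ Qk k ++ Lk k := fun r hr => List.mem_append.2 (Or.inl hr)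
  have hL : ∀ r ∈ Lk k, r ∈ Qk k ++ Lk k := fun r hr => List.mem_append.2 (Or.inr hr)
  have hneg : ∀ r, r < 72 → fneg chevE6 r = chevE6.neg r := fun r hr => fneg_eq hr
  have h72 : ∀ r, r < 72 → r < chevE6.nroots := fun r hr => nroots72.symm ▸ hr
  refine
    { nodup := List.Nodup.filter _ List.nodup_range'
      add := fun r s t => ?_
      self := fun r hr => slE6.pair_self (h72 r (hlt r hr))
      disjQL := fun r hr hr' => ?_
      symm := fun r hr s hs => slE6.pair_symm (h72 r (hlt r hr)) (h72 s (hlt s hs))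
      vals := fun r hr s hs hne => ?_
      commQ := fun r hr s hs t u => ?_
      act0 := fun s hs r hr hp t u => ?_
      commL := fun s hs s' hs' hp t u => ?_
      sm_mem := fun s hs r hr hp => ?_
      conj := fun s hs r hr hp t u => ?_
      lin := fun s hs r hr hp a ha =>
        (slE6.sum_facts (h72 s (hlt s (hL s hs))) (h72 r (hlt r (hQ r hr))) hp).2.2 a (h72 a (hlt a ha))
      inj := fun s hs r hr r' hr' hp hp' e => ?_
      diffQ := fun b hb c hc hp => ?_
      diffL := fun a ha c hc hp => ?_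
      indep := fun f hf r hr => ?_ }
  · by_cases hr : cenR r = true
    · rw [xq_mk hr, xq_mk hr, xq_mk hr, ← QuotientGroup.mk_mul]
      exact congrArg _ (Subtype.ext (xE_add r s t))
    · simp [xq, hr]
  · have a := (mem_Qk.1 hr').2.2.1
    rw [(mem_Lk.1 hr).2] at a
    exact Bool.noConfusion a
  · have := (h1 r hr).2 s hs
    rw [fp (hlt s (hQ s hs))] at this
    tauto
  · obtain ⟨hn, hc⟩ := h2 r hr s hs
    have hr' := hlt r (hQ r hr)
    have hs' := hlt s (hQ s hs)
    rw [hneg r hr'] at hn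
    rw [fp hs'] at hc
    show _ * _ = _ * _
    rw [xq_mk (hcen r (hQ r hr)), xq_mk (hcen s (hQ s hs)), ← QuotientGroup.mk_mul, ← QuotientGroup.mk_mul]
    by_cases hp : pair chevE6 r s = -1
    · have e := hc.resolve_left (not_not.2 hp)
      rw [QuotientGroup.eq]
      refine Subgroup.mem_subgroupOf.2 ?_
      simp only [Subgroup.coe_mul, Subgroup.coe_inv]
      have e1 := xE_conj (K := K) hr' hs' hp t u
      rw [e] at e1
      have e2 : (xE r t * xE s u)⁻¹ * (xE s u * xE r t) = (xE 71 (t * u))⁻¹ := by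
        have hcm := Subgroup.mem_centralizer_iff.1 (xE_mem_cen (K := K) (hcen r (hQ r hr)) t) _ ⟨t * u, rfl⟩
        have : xE r t * xE s u = xE s u * xE r t * xE 71 (t * u) := by
          rw [mul_inv_eq_iff_eq_mul] at e1
          rw [e1, mul_assoc, hcm, ← mul_assoc]
        rw [this]; group
      rw [e2]
      exact inv_mem (mem_X (Set.mem_singleton 71) _)
    · exact congrArg _ (Subtype.ext (xE_commute hr' hs' hp hn t u).eq)
  · show _ * _ = _ * _
    obtain ⟨⟨hn, -⟩, -⟩ := h3 s hs r hr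
    rw [hneg s (hlt s (hL s hs))] at hn
    rw [xq_mk (hcen s (hL s hs)), xq_mk (hcen r (hQ r hr)), ← QuotientGroup.mk_mul, ← QuotientGroup.mk_mul]
    exact congrArg _ (Subtype.ext (xE_commute (hlt s (hL s hs)) (hlt r (hQ r hr)) hp hn u t).eq)
  · show _ * _ = _ * _
    have hn := (h4 s hs s' hs').resolve_left (by rw [fp (hlt s' (hL s' hs'))]; exact not_not.2 hp)
    rw [hneg s (hlt s (hL s hs))] at hn
    rw [xq_mk (hcen s (hL s hs)), xq_mk (hcen s' (hL s' hs')), ← QuotientGroup.mk_mul, ← QuotientGroup.mk_mul]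
    refine congrArg _ (Subtype.ext (xE_commute (hlt s (hL s hs)) (hlt s' (hL s' hs')) ?_ hn u t).eq)
    change pair chevE6 s s' = 0 at hp
    omega
  · exact (h3 s hs r hr).2.resolve_left (by rw [fp (hlt r (hQ r hr))]; exact not_not.2 hp)
  · have hm := (h3 s hs r hr).2.resolve_left (by rw [fp (hlt r (hQ r hr))]; exact not_not.2 hp)
    rw [xq_mk (hcen s (hL s hs)), xq_mk (hcen r (hQ r hr)), xq_mk (hcen _ (hQ _ hm)), ← QuotientGroup.mk_mul,
      ← QuotientGroup.mk_inv, ← QuotientGroup.mk_mul, ← QuotientGroup.mk_mul]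
    exact congrArg _ (Subtype.ext (xE_conj (hlt s (hL s hs)) (hlt r (hQ r hr)) hp u t))
  · have hs' := h72 s (hlt s (hL s hs))
    obtain ⟨-, e2, -⟩ := slE6.sum_facts hs' (h72 r (hlt r (hQ r hr))) hp
    obtain ⟨-, e2', -⟩ := slE6.sum_facts hs' (h72 r' (hlt r' (hQ r' hr'))) hp'
    refine slE6.root_inj (h72 r (hlt r (hQ r hr))) (h72 r' (hlt r' (hQ r' hr'))) fun i hi => ?_
    have := e2 i hi; rw [e, e2' i hi] at this; omega
  · obtain ⟨⟨hm, e1⟩, e2⟩ := (h5 b hb c hc).resolve_left (by rw [fp (hlt c (hQ c hc))]; exact not_not.2 hp)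
    rw [fp (hlt b (hQ b hb))] at e1
    exact ⟨_, hm, e1, e2⟩
  · obtain ⟨⟨hm, e1⟩, e2⟩ := (h6 a ha c hc).resolve_left (by rw [fp (hlt c (hQ c hc))]; exact not_not.2 hp)
    rw [fp (hlt _ (hQ _ hm))] at e1
    exact ⟨_, hm, e1, e2⟩
  · classical
    have key : ∀ l : List ℕ, (∀ s ∈ l, s ∈ Qk k) →
        ∃ hm : (l.map fun s => xE s (f s)).prod ∈ cenT K,
          (l.map fun s => xq s (f s)).prod = QuotientGroup.mk ⟨_, hm⟩ := by
      intro l
      induction l with
      | nil => intro _; exact ⟨one_mem _, by simp; rfl⟩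
      | cons a l ihl =>
        intro hl
        obtain ⟨hm, e⟩ := ihl fun s hs => hl s (by simp [hs])
        have ha := hcen a (hQ a (hl a (by simp)))
        refine ⟨mul_mem (xE_mem_cen ha _) hm, ?_⟩
        rw [List.map_cons, List.prod_cons, e, xq_mk ha, ← QuotientGroup.mk_mul]
        rfl
    obtain ⟨hm, e⟩ := key (Qk k) fun _ hs => hs
    rw [ev, e, QuotientGroup.eq_one_iff] at hf
    obtain ⟨c, hc⟩ := mem_X71 (Subgroup.mem_subgroupOf.1 hf)
    have hc' : ((Qk k).map fun s => goodE6.xG s (f s)).prod = goodE6.xG 71 c := by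
      have := congrArg Subtype.val hc
      rw [coe_xE (by norm_num)] at this
      rw [← this, ← Subgroup.coe_subtype, map_list_prod, List.map_map]
      exact congrArg List.prod (List.map_congr_left fun s hs => (coe_xE (hlt s (hQ s hs)) _).symm)
    rw [Qk] at hc'
    rw [slE6.prod_filter] at hc'
    obtain ⟨fa, hfa⟩ : ∃ fa : ℕ → K, fa = fun s =>
      if (zc k s && !zc (k + 1) s && !Nat.beq s 71) then f s else 0 := ⟨_, rfl⟩
    have hp : (fun s => zc k s && !zc (k + 1) s && !Nat.beq s 71) 71 = false := by simp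
    have h0 : slE6.good.xProd (Function.update (fun _ => (0 : K)) 71 c) (half chevE6) = goodE6.xG 71 c := by
      rw [Good.xProd, range36, show List.range' 36 36 = List.range' 36 35 ++ [71] by decide +kernel,
        List.map_append, List.prod_append, List.prod_eq_one, one_mul]
      · simp
      · intro y hy
        obtain ⟨s, hs, rfl⟩ := List.mem_map.1 hy
        simp only [List.mem_range'_1] at hs
        rw [Function.update_of_ne (by omega)]
        exact slE6.good.xG_zero s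
    obtain ⟨⟨hr1, hr2⟩, hz1, hz2, hne⟩ := mem_Qk.1 hr
    have := slE6.good.xProd_inj le_rfl (s := fa) (t := Function.update (fun _ => (0 : K)) 71 c)
      (by rw [h0, Good.xProd, range36, hfa, ← hc']) (half36.symm ▸ hr1) (h72 r hr2)
    rw [Function.update_of_ne hne, hfa] at this
    simpa [hz1, hz2, hne, ← Bool.not_eq_true, Nat.beq_eq] using this

variable {q : ℕ} (C : Ctx K q)

theorem σ_xE {r : ℕ} (hr : r < 72) (t : K) : C.T.σ (xE r t) = xE (bar r) (C.φ t) := by
  have hr' : r < chevE6.nroots := nroots72.symm ▸ hr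
  refine Subtype.ext ?_
  rw [show (xE r t : ↥(chevE6.group K)) = ⟨goodE6.xG r t, goodE6.xG_mem_group hr' t⟩ from dif_pos hr',
    C.T.σ_xG hr', coe_xE (glob hr).1, C.hρ r hr', C.hf]

/-- The endomorphism on the centraliser. -/
noncomputable def σC : ↥(cenT K) →* ↥(cenT K) :=
  (C.T.σ.comp (cenT K).subtype).codRestrict (cenT K) fun y => by
    refine Subgroup.mem_centralizer_iff.2 ?_
    rintro - ⟨t, rfl⟩
    have h := congrArg C.T.σ (Subgroup.mem_centralizer_iff.1 y.2 _ ⟨C.φ t, rfl⟩)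
    rw [map_mul, map_mul, σ_xE C (by norm_num), C.hK, show bar 71 = 71 from by decide +kernel] at h
    exact h

/-- The endomorphism on the quotient. -/
noncomputable def σq : Quot71 K →* Quot71 K :=
  QuotientGroup.map (Zs K) (Zs K) (σC C) fun y hy => by
    obtain ⟨c, hc⟩ := mem_X71 (Subgroup.mem_subgroupOf.1 hy)
    refine (Subgroup.mem_subgroupOf (H := X (xE (K := K)) {71}) (K := cenT K) (h := σC C y)).2 ?_
    show C.T.σ (y : ↥(chevE6.group K)) ∈ X (xE (K := K)) {71}
    rw [hc, σ_xE C (by norm_num), show bar 71 = 71 from by decide +kernel]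
    exact mem_X (Set.mem_singleton 71) _

theorem cenR_bar {r : ℕ} (hr : cenR r = true) : cenR (bar r) = true := by
  obtain ⟨h1, h2⟩ := cenR_facts hr
  obtain ⟨g1, g2, -, -, g5⟩ := glob h1
  have e71 : bar 71 = 71 := by decide +kernel
  simp only [cenR, Bool.and_eq_true, Bool.or_eq_true, Nat.blt_eq, Nat.beq_eq, Int.beq'_eq]
  refine ⟨g1, ?_⟩
  rw [fp (by norm_num)]
  have := g5 71 (by norm_num)
  rw [e71] at this
  rw [this]
  rcases h2 with h | h | h
  · left; left; subst h; exact e71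
  · exact Or.inl (Or.inr h)
  · exact Or.inr h

theorem σq_xq {r : ℕ} (hr : cenR r = true) (t : K) : σq C (xq r t) = xq (bar r) (C.φ t) := by
  rw [xq_mk hr, xq_mk (cenR_bar hr)]
  exact congrArg QuotientGroup.mk (Subtype.ext (σ_xE C (cenR_facts hr).1 t))

/-- The conjugators of level `k`. -/
def Lp (k : ℕ) : Set ℕ := {s | s ∈ Lk k ∧ 36 ≤ s}

theorem nrB_iff {b c : ℕ} (hb : b < 72) (hc : c < 72) :
    nrB b c = true ↔ Nr pr bar b c := by
  have hbb := (glob hb).1
  simp only [nrB, Bool.and_eq_true, Bool.or_eq_true, Bool.not_eq_true', ← Bool.not_eq_true, Int.beq'_eq, Nr]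
  rw [fp hc, fp hc]
  tauto

theorem lowB_iff {b c e : ℕ} (hb : b < 72) (he : e < 72) :
    lowB b c e = true ↔ Low pr bar ht b c e := by
  simp only [lowB, Bool.or_eq_true, Bool.and_eq_true, Nat.ble_eq, Low, nrB_iff hb he]

theorem sigAct {k : ℕ} (hk : k < 4) :
    SigAct (xq (K := K)) (Qk k) (Lk k) pr (smR chevE6) bar ht df (Lp k) C.φ (σq C) := by
  have h := pivOK_eq k hk
  unfold pivOK at h
  simp only [allR_eq, List.all_eq_true, Bool.and_eq_true, Bool.or_eq_true, Bool.not_eq_true', ← Bool.not_eq_true, Nat.beq_eq,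
    Int.beq'_eq, Nat.ble_eq, Nat.blt_eq, List.contains_iff_mem] at h
  obtain ⟨hpiv, hht⟩ := h
  have hm := modOK_eq k hk
  unfold modOK at hm
  simp only [Bool.and_eq_true] at hm
  obtain ⟨⟨⟨⟨⟨h1, -⟩, -⟩, -⟩, -⟩, -⟩ := hm
  simp only [allR_eq, List.all_eq_true, Bool.and_eq_true] at h1
  have hbQ : ∀ r ∈ Qk k, bar r ∈ Qk k := fun r hr => by
    obtain ⟨⟨a, b⟩, c, d, e⟩ := mem_Qk.1 hr
    obtain ⟨g1, g2, -, g4, -⟩ := glob b
    refine mem_Qk.2 ⟨⟨g4 a, g1⟩, ?_, ?_, fun h => e ?_⟩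
    · rw [zc_bar (by omega) b, c]
    · rw [zc_bar (by omega) b, d]
    · rw [← g2, h]; decide +kernel
  have hbL : ∀ r ∈ Lk k, bar r ∈ Lk k := fun r hr => by
    obtain ⟨a, b⟩ := mem_Lk.1 hr
    exact mem_Lk.2 ⟨(glob a).1, by rw [zc_bar (by omega) a, b]⟩
  refine
    { R := rootAct hk
      phi2 := C.hK
      lam := C.hlam
      barQ := hbQ
      barL := hbL
      bar2 := fun r hr => (glob (lt_of_mem hr)).2.1
      σx := fun r hr t => σq_xq C (h1 r hr).1 t
      prbar := fun a ha r hr => (glob (lt_of_mem ha)).2.2.2.2 r (lt_of_mem (List.mem_append.2 (Or.inl hr)))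
      htbar := hht
      LpL := fun s hs => hs.1
      LpBar := fun s hs => ⟨hbL s hs.1, (glob (mem_Lk.1 hs.1).1).2.2.2.1 hs.2⟩
      pairs := fun r hr hne => ((glob (mem_Qk.1 hr).1.2).2.2.1 hne).1
      piv := ?_ }
  intro b hb c hc hN hp hle
  have hb' := (mem_Qk.1 hb).1.2
  have hc' := (mem_Qk.1 hc).1.2
  obtain ⟨⟨⟨⟨⟨e1, e36⟩, e2⟩, e3⟩, e4⟩, e5⟩ :=
    (hpiv b hb c hc).resolve_left (not_not.2 ⟨⟨(nrB_iff hb' hc').2 hN, by rw [fp hc']; exact hp⟩, hle⟩)
  have hm' := modOK_eq k hk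
  unfold modOK at hm'
  simp only [Bool.and_eq_true] at hm'
  obtain ⟨⟨-, h5⟩, -⟩ := hm'
  simp only [allR_eq, List.all_eq_true, Bool.and_eq_true, Bool.or_eq_true, Nat.beq_eq, Int.beq'_eq, Bool.not_eq_true',
    ← Bool.not_eq_true] at h5
  obtain ⟨⟨-, d1⟩, d2⟩ := (h5 b hb c hc).resolve_left (by rw [fp hc']; exact not_not.2 hp)
  rw [fp hb'] at d1
  refine ⟨⟨e1, e36⟩, d1, d2, e2, e3, fun hs => e4.resolve_left (not_not.2 hs), fun hs => ?_, ?_⟩
  · exact ((glob (mem_Lk.1 e1).1).2.2.1 hs).1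
  · intro d hd hle' hpd hdb hlow
    rcases e5 d hd with (h' | h') | h'
    · exact h' ⟨hle', by rw [fp (mem_Qk.1 hd).1.2]; exact hpd⟩
    · exact hdb h'
    · refine h' ((lowB_iff hb' ?_).2 hlow)
      exact nroots72 ▸ (slE6.sum_facts (nroots72.symm ▸ (mem_Lk.1 e1).1) (nroots72.symm ▸ (mem_Qk.1 hd).1.2) hpd).1

end CfsgLib.Chev.TwE6Invol
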