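import Mathlib
import Cfsg.Agent.Lib.Chev.TwE6InvolQuot

/-!
Passing between the centraliser of the highest root subgroup and its quotient, and the splitting of an
involution at a level.
-/

set_option autoImplicit false
set_option maxRecDepth 100000
set_option linter.unusedSectionVars false

namespace CfsgLib.Chev.SLInvol.SigAct

variable {G : Type*} [Group G] {F : Type*} [Field F] [CharP F 2]
variable {x : ℕ → F → G} {Q L : List ℕ} {pr : ℕ → ℕ → ℤ} {sm : ℕ → ℕ → ℕ} {bar ht : ℕ → ℕ}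
variable {df : ℕ → ℕ → ℕ} {Lp : Set ℕ} {φ : F →+* F} {σ : G →* G}
variable (A : SigAct x Q L pr sm bar ht df Lp φ σ)
include A

/-- A product of orbit elements at orthogonal roots is fixed. -/
theorem orb_fix : ∀ {B : List (ℕ × F)}, (∀ p ∈ B, bar p.1 = p.1 → φ p.2 = p.2) →
    (∀ r ∈ B.flatMap fun p => orbR bar p.1, r ∈ L) →
    ((B.flatMap fun p => orbR bar p.1).Pairwise fun a b => pr a b = 0) →
    σ (vA x (B.flatMap (orb bar φ))) = vA x (B.flatMap (orb bar φ)) := by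
  intro B
  induction B with
  | nil => intro _ _ _; simp [vA]
  | cons p B ih =>
    intro hB hS hp
    rw [List.flatMap_cons] at hS
    rw [List.flatMap_cons, List.pairwise_append] at hp
    rw [List.flatMap_cons, vA_append, map_mul,
      ih (fun q hq => hB q (by simp [hq])) (fun r hr => hS r (List.mem_append.2 (Or.inr hr))) hp.2.1]
    congr 1
    have hpL : p.1 ∈ L := hS p.1 (List.mem_append.2 (Or.inl (by unfold orbR; split_ifs <;> simp)))
    unfold orb
    split_ifs with h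
    · simp [vA, A.σx p.1 (by simp [hpL]), h, hB p (by simp) h]
    · have hbL := A.barL p.1 hpL
      have h0 : pr p.1 (bar p.1) = 0 := by
        have := hp.1
        rw [orbR, if_neg h] at this
        simpa using this
      simp only [vA, List.map_cons, List.map_nil, List.prod_cons, List.prod_nil, mul_one, map_mul,
        A.σx p.1 (by simp [hpL]), A.σx (bar p.1) (by simp [hbL]), A.bar2 p.1 (by simp [hpL]), A.phi2]
      exact ((A.R.commL p.1 hpL _ hbL h0 _ _).eq).symm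

/-- Fixed elements of the Levi act on the fixed coordinates. -/
theorem FH_conj {S : Set ℕ} (hS : S ⊆ {s | s ∈ L}) (hSb : ∀ s ∈ S, bar s ∈ S)
    (hSp : ∀ s ∈ S, bar s ≠ s → pr s (bar s) = 0) {h : G} (hh : h ∈ FH x bar φ S) :
    σ h = h ∧ ∀ f : ℕ → F, A.Compat f → ∃ f' : ℕ → F, A.Compat f' ∧ h * ev x Q f * h⁻¹ = ev x Q f' := by
  have hfix : σ h = h := by
    have : FH x bar φ S ≤ σ.eqLocus (MonoidHom.id G) := (Subgroup.closure_le _).2 (by
      rintro g ⟨s, hs, ⟨hb, a, ha, rfl⟩ | ⟨hb, a, rfl⟩⟩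
      · show σ (x s a) = x s a
        rw [A.σx s (List.mem_append.2 (Or.inr (hS hs))), hb, ha]
      · show σ (x s a * x (bar s) (φ a)) = x s a * x (bar s) (φ a)
        rw [map_mul, A.σx s (List.mem_append.2 (Or.inr (hS hs))), A.σx (bar s) (List.mem_append.2 (Or.inr (hS (hSb s hs)))),
          A.bar2 s (List.mem_append.2 (Or.inr (hS hs))), A.phi2]
        exact ((A.R.commL s (hS hs) _ (hS (hSb s hs)) (hSp s hs hb) _ _).eq).symm)
    exact this hh
  refine ⟨hfix, fun f hf => ?_⟩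
  have key : ∀ g ∈ X x S, ∀ f : ℕ → F, ∃ f', g * ev x Q f * g⁻¹ = ev x Q f' := by
    intro g hg
    induction hg using Subgroup.closure_induction_left with
    | one => exact fun f => ⟨f, by group⟩
    | mul_left y hy z _ ih =>
      obtain ⟨s, hs, t, rfl⟩ := hy
      intro f
      obtain ⟨f', e⟩ := ih f
      exact ⟨A.M s t f', by rw [← A.conj_ev (hS hs), ← e]; group⟩
    | inv_mul_cancel y hy z _ ih =>
      obtain ⟨s, hs, t, rfl⟩ := hy
      intro f
      obtain ⟨f', e⟩ := ih f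
      exact ⟨A.M s t f', by rw [A.R.inv, ← A.conj_ev (hS hs), ← e]; group⟩
  obtain ⟨f', e⟩ := key h (FH_le_X hSb hh) f
  refine ⟨f', ?_, e⟩
  rw [A.compat_iff, ← e, map_mul, map_mul, map_inv, hfix, (A.compat_iff f).1 hf]

end CfsgLib.Chev.SLInvol.SigAct

namespace CfsgLib.Chev.TwE6Invol

open Cfsg.Lie CfsgLib.Chev.SLInvol

variable {K : Type*} [Field K] [CharP K 2]

/-- The roots of a list of orbit representatives. -/
noncomputable abbrev rts (B : List (ℕ × K)) : List ℕ := B.flatMap fun p => orbR bar p.1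

/-- A list of representatives of orthogonal orbits in `S`, with coefficients. -/
def OrbOK (φ : K →+* K) (S : Set ℕ) (B : List (ℕ × K)) : Prop :=
  (∀ p ∈ B, p.2 ≠ 0 ∧ (bar p.1 = p.1 → φ p.2 = p.2)) ∧ (∀ r ∈ rts B, r ∈ S) ∧
    (rts B).Pairwise fun a b => pr a b = 0

/-- An element of the centraliser over an element of the quotient. -/
def Rep (a : ↥(chevE6.group K)) (y : Quot71 K) : Prop :=
  ∃ h : a ∈ cenT K, QuotientGroup.mk ⟨a, h⟩ = y

theorem Rep.one : Rep (1 : ↥(chevE6.group K)) 1 := ⟨one_mem _, rfl⟩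

theorem Rep.mul {a b : ↥(chevE6.group K)} {y z : Quot71 K} (h : Rep a y) (h' : Rep b z) : Rep (a * b) (y * z) := by
  obtain ⟨ha, rfl⟩ := h
  obtain ⟨hb, rfl⟩ := h'
  exact ⟨mul_mem ha hb, rfl⟩

theorem Rep.inv {a : ↥(chevE6.group K)} {y : Quot71 K} (h : Rep a y) : Rep a⁻¹ y⁻¹ := by
  obtain ⟨ha, rfl⟩ := h
  exact ⟨inv_mem ha, rfl⟩

theorem Rep.conj {a b : ↥(chevE6.group K)} {y z : Quot71 K} (h : Rep a y) (h' : Rep b z) :
    Rep (a * b * a⁻¹) (y * z * y⁻¹) := (h.mul h').mul h.inv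

theorem Rep.eq {a b : ↥(chevE6.group K)} {y : Quot71 K} (h : Rep a y) (h' : Rep b y) :
    ∃ c : K, a = b * xE 71 c := by
  obtain ⟨ha, e⟩ := h
  obtain ⟨hb, e'⟩ := h'
  rw [← e, QuotientGroup.eq] at e'
  obtain ⟨c, hc⟩ := mem_X71 (Subgroup.mem_subgroupOf.1 e')
  refine ⟨c, ?_⟩
  simp only [Subgroup.coe_mul, Subgroup.coe_inv] at hc
  rw [← hc, mul_inv_cancel_left]

theorem rep_xE {r : ℕ} (hr : cenR r = true) (t : K) : Rep (xE r t) (xq r t) := ⟨xE_mem_cen hr t, (xq_mk hr t).symm⟩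

theorem rep_vA : ∀ {l : List (ℕ × K)}, (∀ p ∈ l, cenR p.1 = true) → Rep (vA xE l) (vA xq l)
  | [], _ => Rep.one
  | p :: l, h => (rep_xE (h p (by simp)) p.2).mul (rep_vA fun q hq => h q (by simp [hq]))

variable {q : ℕ} (C : Ctx K q)

theorem Mset_facts {k r : ℕ} (h : r ∈ Mset k) (hk : k < 5) : r < 72 ∧ bar r ∈ Mset k ∧ cenR r = true ∧
    (bar r ≠ r → pr r (bar r) = 0) := by
  obtain ⟨h1, h2, h3⟩ := h
  obtain ⟨g1, g2, g3, g4, -⟩ := glob h2
  refine ⟨h2, ⟨g4 h1, g1, by rw [zc_bar hk h2, h3]⟩, ?_, fun hne => (g3 hne).1⟩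
  have hp : ∀ r, 36 ≤ r → r < 72 → cenR r = true := by
    have : allR (fun r => Nat.blt r 36 || cenR r) (upto 72) = true := by decide +kernel
    intro r h1 h2
    have := allR_upto this h2
    simp only [Bool.or_eq_true, Nat.blt_eq] at this
    exact this.resolve_left (by omega)
  exact hp r h1 h2

theorem FHq_lift {S : Set ℕ} (hS : ∀ r ∈ S, cenR r = true) (hSb : ∀ r ∈ S, bar r ∈ S) {y : Quot71 K}
    (hy : y ∈ FH (xq (K := K)) bar C.φ S) : ∃ a ∈ FH (xE (K := K)) bar C.φ S, Rep a y := by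
  induction hy using Subgroup.closure_induction with
  | mem g hg =>
    obtain ⟨s, hs, hg⟩ := hg
    rcases hg with ⟨hb, a, ha, rfl⟩ | ⟨hb, a, rfl⟩
    · exact ⟨_, Subgroup.subset_closure ⟨s, hs, Or.inl ⟨hb, a, ha, rfl⟩⟩, rep_xE (hS s hs) a⟩
    · exact ⟨_, Subgroup.subset_closure ⟨s, hs, Or.inr ⟨hb, a, rfl⟩⟩,
        (rep_xE (hS s hs) a).mul (rep_xE (hS _ (hSb s hs)) _)⟩
  | one => exact ⟨1, one_mem _, Rep.one⟩
  | mul a b _ _ ha hb =>
    obtain ⟨a', ha', ra⟩ := ha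
    obtain ⟨b', hb', rb⟩ := hb
    exact ⟨a' * b', mul_mem ha' hb', ra.mul rb⟩
  | inv a _ ha =>
    obtain ⟨a', ha', ra⟩ := ha
    exact ⟨a'⁻¹, inv_mem ha', ra.inv⟩

theorem FHE_down {S : Set ℕ} (hS : ∀ r ∈ S, cenR r = true) (hSb : ∀ r ∈ S, bar r ∈ S)
    {a : ↥(chevE6.group K)} (ha : a ∈ FH (xE (K := K)) bar C.φ S) :
    ∃ y ∈ FH (xq (K := K)) bar C.φ S, Rep a y := by
  induction ha using Subgroup.closure_induction with
  | mem g hg =>
    obtain ⟨s, hs, hg⟩ := hg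
    rcases hg with ⟨hb, a, ha, rfl⟩ | ⟨hb, a, rfl⟩
    · exact ⟨_, Subgroup.subset_closure ⟨s, hs, Or.inl ⟨hb, a, ha, rfl⟩⟩, rep_xE (hS s hs) a⟩
    · exact ⟨_, Subgroup.subset_closure ⟨s, hs, Or.inr ⟨hb, a, rfl⟩⟩,
        (rep_xE (hS s hs) a).mul (rep_xE (hS _ (hSb s hs)) _)⟩
  | one => exact ⟨1, one_mem _, Rep.one⟩
  | mul a b _ _ ha hb =>
    obtain ⟨a', ha', ra⟩ := ha
    obtain ⟨b', hb', rb⟩ := hb
    exact ⟨a' * b', mul_mem ha' hb', ra.mul rb⟩
  | inv a _ ha =>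
    obtain ⟨a', ha', ra⟩ := ha
    exact ⟨a'⁻¹, inv_mem ha', ra.inv⟩

/-- Orbit elements of the group are fixed. -/
theorem FHE_fixed {S : Set ℕ} (hS : ∀ r ∈ S, r < 72) {a : ↥(chevE6.group K)}
    (ha : a ∈ FH (xE (K := K)) bar C.φ S) : C.T.σ a = a := by
  have : FH (xE (K := K)) bar C.φ S ≤ C.T.σ.eqLocus (MonoidHom.id _) := (Subgroup.closure_le _).2 (by
    rintro g ⟨s, hs, ⟨hb, a, ha, rfl⟩ | ⟨hb, a, rfl⟩⟩
    · show C.T.σ (xE s a) = xE s a
      rw [σ_xE C (hS s hs), hb, ha]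
    · show C.T.σ (xE s a * xE (bar s) (C.φ a)) = xE s a * xE (bar s) (C.φ a)
      obtain ⟨g1, g2, g3, -⟩ := glob (hS s hs)
      rw [map_mul, σ_xE C (hS s hs), σ_xE C g1, g2, C.hK]
      exact ((xE_commute (hS s hs) g1 (by rw [(g3 hb).1]; norm_num) (g3 hb).2 _ _).eq).symm)
  exact this ha

theorem xE_map {S : Set ℕ} (hS : ∀ r ∈ S, r < 72) {a : ↥(chevE6.group K)} (ha : a ∈ X (xE (K := K)) S) :
    (a : GL chevE6.Idx K) ∈ X (xf slE6.good K) S := by
  induction ha using Subgroup.closure_induction with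
  | mem y hy =>
    obtain ⟨r, hr, t, rfl⟩ := hy
    rw [coe_xE (hS r hr)]
    exact mem_X (x := xf slE6.good K) hr t
  | one => exact one_mem _
  | mul a b _ _ ha hb => rw [Subgroup.coe_mul]; exact mul_mem ha hb
  | inv a _ ha => rw [Subgroup.coe_inv]; exact inv_mem ha

theorem coords_lt {k j : ℕ} (hj : j ∈ coords k) : j < chevE6.rank := by
  have h6 : chevE6.rank = 6 := by decide +kernel
  rcases k with _ | _ | _ | _ | _ <;> simp [coords] at hj <;> omega

/-- The Levi of a level meets its radical trivially. -/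
theorem levi_inf {k : ℕ} {y : GL chevE6.Idx K} (h1 : y ∈ X (xf slE6.good K) (Mset (k + 1)))
    (h2 : y ∈ X (xf slE6.good K) {r | 36 ≤ r ∧ r < 72 ∧ zc (k + 1) r = false}) : y = 1 := by
  obtain ⟨W, hW⟩ : ∃ W : chevE6.Idx → ℤ,
      W = fun a => ((coords (k + 1)).map fun j => wCo chevE6 dataE6 j a).sum := ⟨_, rfl⟩
  have hco : ∀ r, zc (k + 1) r = true ↔ ∀ j ∈ coords (k + 1), rootCo dataE6 r j = 0 := fun r => by
    simp [zc, List.all_eq_true, Int.beq'_eq]
  have keep : ∀ v ∈ X (xf slE6.good K) (Mset (k + 1)), ∀ a b,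
      (v : Matrix chevE6.Idx chevE6.Idx K) a b ≠ 0 → W a = W b := by
    intro v hv
    have gen : ∀ (r : ℕ) (t : K), r ∈ Mset (k + 1) → ∀ a b, chevE6.x K r t a b ≠ 0 → W a = W b := by
      intro r t hr a b hne
      rw [hW]
      refine congrArg List.sum (List.map_congr_left fun j hj => ?_)
      by_cases hab : a = b
      · rw [hab]
      · obtain ⟨m, -, e⟩ := (slE6.x_entry (nroots72.symm ▸ hr.2.1) (coords_lt hj) t a b).2 hab hne
        rw [(hco r).1 hr.2.2 j hj, mul_zero] at e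
        omega
    induction hv using Subgroup.closure_induction'' with
    | mem y hy => obtain ⟨r, hr, t, rfl⟩ := hy; exact gen r t hr
    | inv_mem y hy =>
      obtain ⟨r, hr, t, rfl⟩ := hy
      show ∀ a b, (((slE6.good.xG r t)⁻¹ : GL chevE6.Idx K) : Matrix chevE6.Idx chevE6.Idx K) a b ≠ 0 → W a = W b
      rw [slE6.good.xG_inv]
      exact gen r (-t) hr
    | one => exact fun a b hne => by by_contra hab; exact hne (Matrix.one_apply_ne fun e => hab (e ▸ rfl))
    | mul y z _ _ py pz =>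
      intro a b hne
      rw [Units.val_mul, Matrix.mul_apply] at hne
      obtain ⟨i, -, hi⟩ := Finset.exists_ne_zero_of_sum_ne_zero hne
      rw [py a i (left_ne_zero_of_mul hi), pz i b (right_ne_zero_of_mul hi)]
  have raise : ∀ v ∈ X (xf slE6.good K) {r | 36 ≤ r ∧ r < 72 ∧ zc (k + 1) r = false},
      Above W 0 (v : Matrix chevE6.Idx chevE6.Idx K) := by
    intro v hv
    have gen : ∀ (r : ℕ) (t : K), r ∈ {r | 36 ≤ r ∧ r < 72 ∧ zc (k + 1) r = false} →
        Above W 0 (chevE6.x K r t) := by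
      rintro r t ⟨hr1, hr2, hr3⟩ a b
      have hr := nroots72.symm ▸ hr2
      obtain ⟨j0, hj0, hne0⟩ : ∃ j ∈ coords (k + 1), rootCo dataE6 r j ≠ 0 := by
        by_contra h
        push Not at h
        rw [(hco r).2 h] at hr3
        exact Bool.noConfusion hr3
      have hnn : ∀ j ∈ coords (k + 1), 0 ≤ rootCo dataE6 r j := fun j hj =>
        slE6.rootCo_nonneg hr (half36.symm ▸ hr1) (coords_lt hj)
      refine ⟨fun e => (slE6.x_entry hr (coords_lt hj0) t a b).1 e hne0, fun hab hne => ?_⟩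
      rw [hW]
      have hlt : ((coords (k + 1)).map fun j => wCo chevE6 dataE6 j b).sum <
          ((coords (k + 1)).map fun j => wCo chevE6 dataE6 j a).sum := by
        refine List.sum_lt_sum _ _ (fun j hj => ?_) ⟨j0, hj0, ?_⟩
        · obtain ⟨m, -, e⟩ := (slE6.x_entry hr (coords_lt hj) t a b).2 hab hne
          nlinarith [hnn j hj, (Nat.cast_nonneg m : (0 : ℤ) ≤ m)]
        · obtain ⟨m, hm, e⟩ := (slE6.x_entry hr (coords_lt hj0) t a b).2 hab hne
          have : 1 ≤ rootCo dataE6 r j0 := by have := hnn j0 hj0; omega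
          nlinarith [show (1 : ℤ) ≤ m from by exact_mod_cast hm]
      simp only
      omega
    induction hv using Subgroup.closure_induction'' with
    | mem y hy => obtain ⟨r, hr, t, rfl⟩ := hy; exact gen r t hr
    | inv_mem y hy =>
      obtain ⟨r, hr, t, rfl⟩ := hy
      show Above W 0 (((slE6.good.xG r t)⁻¹ : GL chevE6.Idx K) : Matrix chevE6.Idx chevE6.Idx K)
      rw [slE6.good.xG_inv]
      exact gen r (-t) hr
    | one => exact above_one _ _
    | mul y z _ _ py pz => rw [Units.val_mul]; exact py.mul le_rfl pz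
  refine Units.ext (Matrix.ext fun a b => ?_)
  by_cases hab : a = b
  · subst hab
    rw [(raise y h2 a a).1 rfl]; simp
  · rw [Units.val_one, Matrix.one_apply_ne hab]
    by_contra hne
    have := (raise y h2 a b).2 hab hne
    rw [keep y h1 a b hne] at this
    omega

theorem Mset_succ {k r : ℕ} (hk : k < 4) (h : r ∈ Mset (k + 1)) : r ∈ Mset k ∧ r ∈ Lp k := by
  obtain ⟨a, b, c⟩ := h
  refine ⟨⟨a, b, ?_⟩, mem_Lk.2 ⟨b, c⟩, a⟩
  simp only [zc, List.all_eq_true] at c ⊢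
  intro j hj
  refine c j ?_
  rcases k with _ | _ | _ | _ | _ <;> simp [coords] at hj ⊢ <;> first | omega | tauto

theorem Lp_sub {k r : ℕ} (h : r ∈ Lp k) : r ∈ Mset (k + 1) :=
  ⟨h.2, (mem_Lk.1 h.1).1, (mem_Lk.1 h.1).2⟩

/-- Splitting at a level. -/
theorem split {k : ℕ} (hk : k < 4) {v : Quot71 K} (hv : v ∈ FH (xq (K := K)) bar C.φ (Mset k)) (hv2 : v * v = 1) :
    ∃ v' ∈ FH (xq (K := K)) bar C.φ (Mset (k + 1)), v' * v' = 1 ∧ ∃ f : ℕ → K, (sigAct C hk).Compat f ∧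
      v = v' * ev xq (Qk k) f := by
  classical
  obtain ⟨A, hA⟩ : ∃ A, A = sigAct C hk := ⟨_, rfl⟩
  have hML : Mset (k + 1) ⊆ {s | s ∈ Lk k} := fun s hs => mem_Lk.2 ⟨hs.2.1, hs.2.2⟩
  have hMb : ∀ s ∈ Mset (k + 1), bar s ∈ Mset (k + 1) := fun s hs => (Mset_facts hs (by omega)).2.1
  have hMp : ∀ s ∈ Mset (k + 1), bar s ≠ s → pr s (bar s) = 0 := fun s hs => (Mset_facts hs (by omega)).2.2.2
  have hone : ∀ g ∈ orbGens (xq (K := K)) bar C.φ (Mset k),
      g ∈ FH (xq (K := K)) bar C.φ (Mset (k + 1)) ∨ ∃ f0, A.Compat f0 ∧ g = ev xq (Qk k) f0 := by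
    rintro g ⟨s, hs, hg⟩
    obtain ⟨hlt, hbs, hc, hp0⟩ := Mset_facts hs (by omega)
    by_cases hz : zc (k + 1) s = true
    · exact Or.inl (Subgroup.subset_closure ⟨s, ⟨hs.1, hs.2.1, hz⟩, hg⟩)
    right
    by_cases h71 : s = 71
    · subst h71
      refine ⟨0, fun r _ => by simp, ?_⟩
      rw [A.R.ev_zero]
      have h1 : ∀ a : K, xq 71 a = (1 : Quot71 K) := fun a => by
        rw [xq_mk hc]
        exact (QuotientGroup.eq_one_iff _).2 (Subgroup.mem_subgroupOf.2 (mem_X (Set.mem_singleton 71) a))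
      rcases hg with ⟨-, a, -, rfl⟩ | ⟨hb, -⟩
      · exact h1 a
      · exact absurd (by decide +kernel : bar 71 = 71) hb
    have hsQ : s ∈ Qk k := mem_Qk.2 ⟨⟨hs.1, hlt⟩, hs.2.2, Bool.not_eq_true _ ▸ hz, h71⟩
    have hsQL : s ∈ Qk k ++ Lk k := by simp [hsQ]
    rcases hg with ⟨hb, a, ha, rfl⟩ | ⟨hb, a, rfl⟩
    · refine ⟨Pi.single s a, fun r hr => ?_, (A.R.ev_single hsQ a).symm⟩
      by_cases e : r = s
      · subst e; simp [hb, ha]
      · have : bar r ≠ s := fun h => e (by rw [← A.bar2 r (by simp [hr]), h, hb])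
        simp [e, this]
    · refine ⟨Pi.single s a + Pi.single (bar s) (C.φ a), fun r hr => ?_, ?_⟩
      · have e1 : bar r = s ↔ r = bar s := ⟨fun h => by rw [← h, A.bar2 r (by simp [hr])],
          fun h => by rw [h, A.bar2 s hsQL]⟩
        have e2 : bar r = bar s ↔ r = s := ⟨fun h => by
          rw [← A.bar2 r (by simp [hr]), h, A.bar2 s hsQL], fun h => by rw [h]⟩
        simp only [Pi.add_apply, Pi.single_apply, e1, e2, map_add]
        split_ifs with h1 h2 <;> simp_all [C.hK]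
      · rw [A.R.ev_add, A.R.ev_single hsQ, A.R.ev_single (A.barQ s hsQ)]
  suffices key : ∀ y ∈ FH (xq (K := K)) bar C.φ (Mset k),
      ∃ v' ∈ FH (xq (K := K)) bar C.φ (Mset (k + 1)), ∃ f, A.Compat f ∧ y = v' * ev xq (Qk k) f by
    obtain ⟨v', hv', f, hf, e⟩ := key v hv
    refine ⟨v', hv', ?_, f, hA ▸ hf, e⟩
    obtain ⟨a, ha, ra⟩ := FHq_lift C (fun r hr => (Mset_facts hr (by omega)).2.2.1) hMb hv'
    obtain ⟨f', -, e'⟩ := (A.FH_conj hML hMb hMp (inv_mem hv')).2 f hf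
    rw [inv_inv] at e'
    have hvv : v' * v' = (ev xq (Qk k) f' * ev xq (Qk k) f)⁻¹ := by
      rw [eq_inv_iff_mul_eq_one, ← hv2, e, ← e']; group
    rw [← A.R.ev_add, A.ev_inv] at hvv
    have r1 : Rep (a * a) (ev xq (Qk k) (f' + f)) := hvv ▸ ra.mul ra
    have r2 : Rep (vA xE ((Qk k).map fun r => (r, (f' + f) r))) (ev xq (Qk k) (f' + f)) := by
      have := rep_vA (K := K) (l := (Qk k).map fun r => (r, (f' + f) r)) fun p hp => by
        obtain ⟨r, hr, rfl⟩ := List.mem_map.1 hp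
        obtain ⟨⟨a', b'⟩, c', -, -⟩ := mem_Qk.1 hr
        exact (Mset_facts (k := k) ⟨a', b', c'⟩ (by omega)).2.2.1
      simpa [vA, ev, List.map_map, Function.comp_def] using this
    obtain ⟨c, hc⟩ := r1.eq r2
    have hX : a ∈ X (xE (K := K)) (Mset (k + 1)) := FH_le_X hMb ha
    have m1 : ((a * a : ↥(chevE6.group K)) : GL chevE6.Idx K) ∈ X (xf slE6.good K) (Mset (k + 1)) :=
      xE_map (fun r hr => hr.2.1) (mul_mem hX hX)
    have m2 : ((a * a : ↥(chevE6.group K)) : GL chevE6.Idx K) ∈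
        X (xf slE6.good K) {r | 36 ≤ r ∧ r < 72 ∧ zc (k + 1) r = false} := by
      refine xE_map (fun r hr => hr.2.1) (hc ▸ mul_mem ?_ (mem_X (show (71 : ℕ) ∈
        {r | 36 ≤ r ∧ r < 72 ∧ zc (k + 1) r = false} from ⟨by norm_num, by norm_num, ?_⟩) c))
      · refine Subgroup.list_prod_mem _ fun y hy => ?_
        simp only [List.map_map, List.mem_map] at hy
        obtain ⟨r, hr, rfl⟩ := hy
        obtain ⟨⟨a', b'⟩, -, c', -⟩ := mem_Qk.1 hr
        exact mem_X (show r ∈ {r | 36 ≤ r ∧ r < 72 ∧ zc (k + 1) r = false} from ⟨a', b', c'⟩) _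
      · have : ∀ k < 4, zc (k + 1) 71 = false := by decide +kernel
        exact this k hk
    have h1 : a * a = 1 := Subtype.ext (levi_inf m1 m2)
    obtain ⟨h, e2⟩ := ra.mul ra
    rw [← e2]
    simp only [h1]
    rfl
  have step : ∀ g ∈ orbGens (xq (K := K)) bar C.φ (Mset k), ∀ y,
      (∃ v' ∈ FH (xq (K := K)) bar C.φ (Mset (k + 1)), ∃ f, A.Compat f ∧ y = v' * ev xq (Qk k) f) →
      ∀ g', (g' = g ∨ g' = g⁻¹) →
      ∃ v' ∈ FH (xq (K := K)) bar C.φ (Mset (k + 1)), ∃ f, A.Compat f ∧ g' * y = v' * ev xq (Qk k) f := by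
    rintro g hg y ⟨v', hv', f, hf, rfl⟩ g' hg'
    rcases hone g hg with hgM | ⟨f0, hf0, rfl⟩
    · refine ⟨g' * v', mul_mem ?_ hv', f, hf, by group⟩
      rcases hg' with rfl | rfl
      · exact hgM
      · exact inv_mem hgM
    · have : g' = ev xq (Qk k) f0 := by
        rcases hg' with rfl | rfl
        · rfl
        · exact A.ev_inv f0
      subst this
      obtain ⟨f1, hf1, e1⟩ := (A.FH_conj hML hMb hMp (inv_mem hv')).2 f0 hf0
      refine ⟨v', hv', f1 + f, fun r hr => by simp [hf1 r hr, hf r hr], ?_⟩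
      rw [A.R.ev_add, ← e1, inv_inv]; group
  intro y hy
  induction hy using Subgroup.closure_induction_left with
  | one => exact ⟨1, one_mem _, 0, fun r _ => by simp, by rw [A.R.ev_zero, one_mul]⟩
  | mul_left g hg y _ ih => exact step g hg y ih g (Or.inl rfl)
  | inv_mul_cancel g hg y _ ih => exact step g hg y ih g⁻¹ (Or.inr rfl)

end CfsgLib.Chev.TwE6Invol
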