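import Mathlib
import Cfsg.Agent.Lib.Chev.TwE6InvolLift

/-!
Every involution of the unipotent subgroup of ²E₆(q), q even, is conjugate there to a product of orbit
elements at pairwise orthogonal roots.
-/

set_option autoImplicit false
set_option maxRecDepth 100000
set_option linter.unusedSectionVars false

namespace CfsgLib.Chev.TwE6Invol

open Cfsg.Lie CfsgLib.Chev.SLInvol

variable {K : Type*} [Field K] [CharP K 2] {q : ℕ} (C : Ctx K q)

theorem rts_bar {B : List (ℕ × K)} (h : ∀ r ∈ rts B, r < 72) {r : ℕ} (hr : r ∈ rts B) : bar r ∈ rts B := by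
  simp only [rts, List.mem_flatMap] at hr ⊢
  obtain ⟨p, hp, hr⟩ := hr
  refine ⟨p, hp, ?_⟩
  have hp72 : p.1 < 72 := h p.1 (List.mem_flatMap.2 ⟨p, hp, by unfold orbR; split_ifs <;> simp⟩)
  obtain ⟨-, g2, -⟩ := glob hp72
  unfold orbR at hr ⊢
  split_ifs at hr ⊢ with hb
  · simp only [List.mem_singleton] at hr ⊢; rw [hr, hb]
  · simp only [List.mem_cons, List.not_mem_nil, or_false] at hr ⊢
    rcases hr with rfl | rfl
    · exact Or.inr rfl
    · exact Or.inl g2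

/-- The statement of a level. -/
def Red (k : ℕ) : Prop :=
  ∀ v ∈ FH (xq (K := K)) bar C.φ (Mset k), v * v = 1 →
    ∃ h ∈ FH (xq (K := K)) bar C.φ (Mset k), ∃ B : List (ℕ × K), OrbOK C.φ (Mset k) B ∧
      h * v * h⁻¹ = vA xq (B.flatMap (orb bar C.φ))

theorem red_top : Red C 4 := by
  intro v hv _
  refine ⟨1, one_mem _, [], ⟨by simp, by simp [rts], by simp [rts]⟩, ?_⟩
  have he : Mset 4 = ∅ := Set.eq_empty_iff_forall_notMem.2 fun r ⟨h1, h2, h3⟩ => by
    have := allR_upto edgeOK_eq h2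
    simp only [Bool.or_eq_true, Bool.and_eq_true, Nat.blt_eq, Bool.not_eq_true'] at this
    rcases this with h | h
    · omega
    · rw [h.1] at h3; exact Bool.noConfusion h3
  rw [FH, show orbGens (xq (K := K)) bar C.φ (Mset 4) = ∅ from by
    rw [he]; exact Set.eq_empty_iff_forall_notMem.2 fun g ⟨s, hs, _⟩ => hs,
    Subgroup.closure_empty, Subgroup.mem_bot] at hv
  simp [hv, vA]

theorem Lp_facts {k s : ℕ} (hs : s ∈ Lp k) (hk : k < 4) : s ∈ Mset k :=
  (Mset_succ hk (Lp_sub hs)).1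

theorem hprL {k : ℕ} : ∀ a ∈ Qk k ++ Lk k, ∀ s ∈ Lp k, pr (bar a) (bar s) = pr a s := fun _ ha s hs =>
  (glob (lt_of_mem ha)).2.2.2.2 s (mem_Lk.1 hs.1).1

theorem Qk_sub {k r : ℕ} (h : r ∈ Qk k) : r ∈ Mset k :=
  ⟨(mem_Qk.1 h).1.1, (mem_Qk.1 h).1.2, (mem_Qk.1 h).2.1⟩

/-- What is common to all levels. -/
theorem level_core {k : ℕ} (hk : k < 4) (ih : Red C (k + 1)) {v : Quot71 K}
    (hv : v ∈ FH (xq (K := K)) bar C.φ (Mset k)) (hv2 : v * v = 1) :
    ∃ h ∈ FH (xq (K := K)) bar C.φ (Mset k), ∃ B : List (ℕ × K), OrbOK C.φ (Mset (k + 1)) B ∧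
      ∃ f : ℕ → K, (sigAct C hk).Compat f ∧ (∀ r ∈ Qk k, f r ≠ 0 → r ∈ SP pr (Qk k) (rts B)) ∧
        h * v * h⁻¹ = vA xq (B.flatMap (orb bar C.φ)) * ev xq (Qk k) f := by
  obtain ⟨A, hA⟩ : ∃ A, A = sigAct C hk := ⟨_, rfl⟩
  obtain ⟨v', hv', hv'2, f, hf, rfl⟩ := split C hk hv hv2
  obtain ⟨h, hh, B, hB, e⟩ := ih v' hv' hv'2
  have hML : Mset (k + 1) ⊆ {s | s ∈ Lk k} := fun s hs => mem_Lk.2 ⟨hs.2.1, hs.2.2⟩
  have hMb : ∀ s ∈ Mset (k + 1), bar s ∈ Mset (k + 1) := fun s hs => (Mset_facts hs (by omega)).2.1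
  have hMp : ∀ s ∈ Mset (k + 1), bar s ≠ s → pr s (bar s) = 0 := fun s hs => (Mset_facts hs (by omega)).2.2.2
  obtain ⟨f1, hf1, e1⟩ := (A.FH_conj hML hMb hMp hh).2 f (hA ▸ hf)
  obtain ⟨l, hl⟩ : ∃ l, l = B.flatMap (orb bar C.φ) := ⟨_, rfl⟩
  have hmap : l.map Prod.fst = rts B := by rw [hl, orb_flat_map]
  have hL : ∀ r ∈ rts B, r ∈ Lk k := fun r hr => hML (hB.2.1 r hr)
  have hlB : ∀ p ∈ l, p.1 ∈ Lk k ∧ p.2 ≠ 0 := fun p hp => by
    refine ⟨hL p.1 (hmap ▸ List.mem_map.2 ⟨p, hp, rfl⟩), ?_⟩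
    rw [hl] at hp
    obtain ⟨b, hb, hp⟩ := List.mem_flatMap.1 hp
    unfold orb at hp
    split_ifs at hp with hbb
    · simp only [List.mem_singleton] at hp; subst hp; exact (hB.1 _ hb).1
    · simp only [List.mem_cons, List.not_mem_nil, or_false] at hp
      rcases hp with rfl | rfl
      · exact (hB.1 _ hb).1
      · exact (map_ne_zero C.φ).2 (hB.1 _ hb).1
  have hlp : l.Pairwise fun p q => pr p.1 q.1 = 0 := by
    have := hB.2.2
    rw [← hmap, List.pairwise_map] at this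
    exact this
  have hinv : vA xq l * ev xq (Qk k) f1 * (vA xq l * ev xq (Qk k) f1) = 1 := by
    rw [hl, ← e, ← e1,
      show h * v' * h⁻¹ * (h * ev xq (Qk k) f * h⁻¹) * (h * v' * h⁻¹ * (h * ev xq (Qk k) f * h⁻¹)) =
        h * ((v' * ev xq (Qk k) f) * (v' * ev xq (Qk k) f)) * h⁻¹ by group, hv2]
    group
  obtain ⟨g, f2, hg, hf2, hsupp, e2⟩ := A.clear_fix hlB hlp
    (hl ▸ A.orb_fix (fun p hp => (hB.1 p hp).2) hL hB.2.2)
    (fun a ha => hmap ▸ rts_bar (fun r hr => (hB.2.1 r hr).2.1) (hmap ▸ ha)) hf1 hinv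
  refine ⟨ev xq (Qk k) g * h, mul_mem ?_ (FH_mono (fun r hr => (Mset_succ hk hr).1) hh), B, hB, f2, hA ▸ hf2,
    fun r hr hne => by by_contra hS; exact hne (hsupp r hr (hmap ▸ hS)), ?_⟩
  · exact A.ev_mem_FH g hg fun r hr _ => Qk_sub hr
  · rw [← hl, ← e2, hl, ← e, ← e1]; group

/-- The levels above the first. -/
theorem level_step {k : ℕ} (hk : k < 4) (hk1 : 1 ≤ k) (ih : Red C (k + 1)) : Red C k := by
  intro v hv hv2
  obtain ⟨h, hh, B, hB, f, hf, hsupp, e⟩ := level_core C hk ih hv hv2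
  obtain ⟨A, hA⟩ : ∃ A, A = sigAct C hk := ⟨_, rfl⟩
  have hL : ∀ r ∈ rts B, r ∈ Lk k := fun r hr => mem_Lk.2 ⟨(hB.2.1 r hr).2.1, (hB.2.1 r hr).2.2⟩
  have hP : ∀ p ∈ rts B, p ∈ Qk k ++ Lk k := fun p hp => List.mem_append.2 (Or.inr (hL p hp))
  have hPb : ∀ p ∈ rts B, bar p ∈ rts B := fun p hp => rts_bar (fun r hr => (hB.2.1 r hr).2.1) hp
  have hpos : ∀ r ∈ SP pr (Qk k) (rts B), ∀ r' ∈ SP pr (Qk k) (rts B), pr r r' ≠ -1 := by
    intro r hr r' hr'
    have h := posOK_eq k hk hk1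
    unfold posOK at h
    simp only [allR_eq, List.all_eq_true, Bool.not_eq_true', ← Bool.not_eq_true, Int.beq'_eq] at h
    have := h r hr.1 r' hr'.1
    rwa [fp (mem_Qk.1 hr'.1).1.2] at this
  obtain ⟨h2, hh2, B2, hB2, hB2S, hB2p, e2⟩ := A.reduce_fix hprL (rts B) hP hPb hpos f (hA ▸ hf) hsupp
  refine ⟨h2 * h, mul_mem (FH_mono (fun s hs => Lp_facts hs.1 hk) hh2) hh, B ++ B2, ⟨?_, ?_, ?_⟩, ?_⟩
  · intro p hp
    rcases List.mem_append.1 hp with hp | hp
    · exact hB.1 p hp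
    · exact hB2 p hp
  · intro r hr
    rw [rts, List.flatMap_append, List.mem_append] at hr
    rcases hr with hr | hr
    · exact (Mset_succ hk (hB.2.1 r hr)).1
    · exact Qk_sub (hB2S r hr).1
  · rw [rts, List.flatMap_append, List.pairwise_append]
    exact ⟨hB.2.2, hB2p, fun a ha c hc => (hB2S c hc).2 a ha⟩
  · have hcm : Commute (vA (xq (K := K)) (B.flatMap (orb bar C.φ))) h2 :=
      A.FH_commute (P := rts B) (fun p hp => by
        have : p.1 ∈ rts B := by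
          rw [rts, ← orb_flat_map bar C.φ]; exact List.mem_map.2 ⟨p, hp, rfl⟩
        exact ⟨this, hP _ this⟩) hh2 hPb hP fun s hs p hp h0 => by rw [hprL p (hP p hp) s hs, h0]
    rw [List.flatMap_append, vA_append, ← e2,
      show h2 * h * v * (h2 * h)⁻¹ = h2 * (h * v * h⁻¹) * h2⁻¹ by group, e,
      show h2 * (vA xq (B.flatMap (orb bar C.φ)) * ev xq (Qk k) f) * h2⁻¹ =
        h2 * vA xq (B.flatMap (orb bar C.φ)) * ev xq (Qk k) f * h2⁻¹ by group, ← hcm.eq]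
    group

theorem red_one : Red C 1 :=
  level_step C (by norm_num) le_rfl (level_step C (by norm_num) (by norm_num)
    (level_step C (by norm_num) (by norm_num) (red_top C)))

theorem comm01 {r s : ℕ} (hr : r < 72) (hs : s < 72) (h : pr r s = 0 ∨ pr r s = 1) (t u : K) :
    Commute (xE r t) (xE s u) := by
  refine xE_commute hr hs (by rcases h with h | h <;> rw [show pair chevE6 r s = _ from h] <;> norm_num) ?_ t u
  intro e
  have hr' : r < chevE6.nroots := nroots72.symm ▸ hr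
  have h1 := slE6.pair_neg_left (r := r) (u := r) hr' hr'
  rw [slE6.pair_self hr', ← slE6.pair_symm hr' (slE6.good.neg_lt hr'), ← e] at h1
  rcases h with h | h <;> rw [show pair chevE6 r s = _ from h] at h1 <;> omega

theorem vA_commute {l l' : List (ℕ × K)} (h : ∀ p ∈ l, ∀ p' ∈ l', p.1 < 72 ∧ p'.1 < 72 ∧
    (pr p.1 p'.1 = 0 ∨ pr p.1 p'.1 = 1)) : Commute (vA xE l) (vA xE l') := by
  refine Commute.list_prod_left _ _ fun y hy => ?_
  obtain ⟨p, hp, rfl⟩ := List.mem_map.1 hy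
  refine Commute.list_prod_right _ _ fun z hz => ?_
  obtain ⟨p', hp', rfl⟩ := List.mem_map.1 hz
  obtain ⟨a, b, c⟩ := h p hp p' hp'
  exact comm01 a b c _ _

theorem vA_sq : ∀ {l : List (ℕ × K)}, (∀ p ∈ l, p.1 < 72) → (l.Pairwise fun p p' => pr p.1 p'.1 = 0 ∨ pr p.1 p'.1 = 1) →
    vA xE l * vA xE l = 1
  | [], _, _ => by simp [vA]
  | p :: l, h, hp => by
    rw [List.pairwise_cons] at hp
    have ih := vA_sq (fun q hq => h q (by simp [hq])) hp.2
    have hc : Commute (vA xE [p]) (vA xE l) := vA_commute fun a ha b hb => by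
      simp only [List.mem_singleton] at ha
      subst ha
      exact ⟨h a (by simp), h b (by simp [hb]), hp.1 b hb⟩
    rw [show vA xE (p :: l) = vA xE [p] * vA xE l by simp [vA],
      show vA xE [p] * vA xE l * (vA xE [p] * vA xE l) = vA xE [p] * (vA xE l * vA xE [p]) * vA xE l by group,
      ← hc.eq, show vA xE [p] * (vA xE [p] * vA xE l) * vA xE l = (vA xE [p] * vA xE [p]) * (vA xE l * vA xE l) by group,
      ih, mul_one]
    simp [vA, xE_add, CharTwo.add_self_eq_zero, xE_zero]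

theorem orb_pr (C : Ctx K q) {b : ℕ} {t : K} {p : ℕ × K} (hp : p ∈ orb bar C.φ (b, t)) : p.1 = b ∨ p.1 = bar b := by
  have : p.1 ∈ orbR bar b := orb_map bar C.φ (b, t) ▸ List.mem_map.2 ⟨p, hp, rfl⟩
  unfold orbR at this
  split_ifs at this <;> simp at this <;> tauto

theorem xE71_inj {c d : K} (h : xE 71 c = xE 71 d) : c = d := by
  have := congrArg Subtype.val h
  rw [coe_xE (by norm_num), coe_xE (by norm_num)] at this
  exact InvolMono.xG_cancel slE6.good (nroots72.symm ▸ (by norm_num : (71 : ℕ) < 72)) this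

theorem vA_mem_FH {G : Type*} [Group G] (x : ℕ → K → G) {S : Set ℕ} : ∀ {B : List (ℕ × K)},
    (∀ p ∈ B, bar p.1 = p.1 → C.φ p.2 = p.2) → (∀ r ∈ rts B, r ∈ S) →
    vA x (B.flatMap (orb bar C.φ)) ∈ FH x bar C.φ S
  | [], _, _ => one_mem _
  | p :: B, h, hS => by
    rw [rts, List.flatMap_cons] at hS
    rw [List.flatMap_cons, vA_append]
    refine mul_mem (Subgroup.subset_closure ⟨p.1, hS p.1 (List.mem_append.2 (Or.inl ?_)), ?_⟩)
      (vA_mem_FH x (fun q hq => h q (by simp [hq])) fun r hr => hS r (List.mem_append.2 (Or.inr hr)))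
    · unfold orbR; split_ifs <;> simp
    · by_cases hb : bar p.1 = p.1
      · exact Or.inl ⟨hb, p.2, h p (by simp) hb, by simp [orb, hb, vA]⟩
      · exact Or.inr ⟨hb, p.2, by simp [orb, hb, vA]⟩

/-- The central coordinate of a conjugate is fixed. -/
theorem cfix {u z : ↥(chevE6.group K)} (hu : u ∈ FH (xE (K := K)) bar C.φ (Mset 0))
    (hz : z ∈ FH (xE (K := K)) bar C.φ (Mset 0)) {B : List (ℕ × K)} (hB : OrbOK C.φ (Mset 0) B) {c : K}
    (e : z * u * z⁻¹ = vA xE (B.flatMap (orb bar C.φ)) * xE 71 c) : C.φ c = c := by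
  have h72 : ∀ r ∈ Mset 0, r < 72 := fun r hr => hr.2.1
  have hzuz := FHE_fixed C h72 (mul_mem (mul_mem hz hu) (inv_mem hz))
  have hV := FHE_fixed C h72 (vA_mem_FH C (xE (K := K)) (fun p hp => (hB.1 p hp).2) hB.2.1)
  rw [e, map_mul, hV, σ_xE C (by norm_num), show bar 71 = 71 from by decide +kernel] at hzuz
  exact xE71_inj (mul_left_cancel hzuz)

set_option maxHeartbeats 1600000 in
theorem rest_facts {b : ℕ} (hb : b ∈ Qk 0) : par b ∈ Qk 0 ∧ pr b (par b) = -1 ∧ smR chevE6 (par b) b = 71 ∧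
    bar (par b) = par (bar b) ∧ (∀ a ∈ Lk 0, pr a (par b) = - pr a b) ∧
    (∀ r ∈ Qk 0, (pr b r = 0 → pr (par b) r = 1) ∧ (pr b r = -1 → r = par b) ∧
      (r = b ∨ r = bar b ∨ ¬ ht b ≤ ht r ∨ Nr pr bar b r ∨ (pr b r = 0 ∧ pr (bar b) r = 0) ∨ r = par b ∨
        r = par (bar b)) ∧ ∀ r' ∈ Qk 0, pr b r = 0 → pr b r' = 0 → pr r r' ≠ -1) ∧
    (bar b ≠ b → pr (bar b) (par b) = 1 ∧ pr b (par (bar b)) = 1 ∧ pr (par b) (par (bar b)) = 0 ∧
      (ht b ≤ ht (par b) → df (bar b) (par b) ∈ Lk 0 ∧ 36 ≤ df (bar b) (par b) ∧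
        bar (df (bar b) (par b)) = df (bar b) (par b) ∧ pr (df (bar b) (par b)) b = -1 ∧
        pr (df (bar b) (par b)) (bar b) = -1 ∧ smR chevE6 (df (bar b) (par b)) (bar b) = par b ∧
        smR chevE6 (df (bar b) (par b)) b = par (bar b) ∧
        ∀ r ∈ Qk 0, r ≠ b → r ≠ bar b → ((pr b r = 0 ∧ pr (bar b) r = 0) ∨ r = par b ∨ r = par (bar b)) →
          pr (df (bar b) (par b)) r ≠ -1)) := by
  have h := restOK_eq
  unfold restOK at h
  simp only [allR_eq, List.all_eq_true, Bool.and_eq_true, Bool.or_eq_true, Bool.not_eq_true', ← Bool.not_eq_true,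
    Nat.beq_eq, Nat.ble_eq, Int.beq'_eq, List.contains_iff_mem] at h
  obtain ⟨⟨⟨⟨⟨⟨h1, h2⟩, h3⟩, h4⟩, h5⟩, h6⟩, h7⟩ := h b hb
  have hlt := (mem_Qk.1 hb).1.2
  have hbl := (glob hlt).1
  have hQ : ∀ r ∈ Qk 0, r < 72 := fun r hr => (mem_Qk.1 hr).1.2
  refine ⟨h1, (fp (hQ _ h1)).symm.trans h2, h3, h4, fun a ha => ?_, fun r hr => ?_, fun hne => ?_⟩
  · have := h5 a ha
    rwa [fp (hQ _ h1), fp hlt] at this
  · obtain ⟨⟨⟨r1, r2⟩, r3⟩, r4⟩ := h6 r hr
    rw [fp (hQ r hr), fp (hQ r hr)] at r1 r3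
    rw [fp (hQ r hr)] at r2
    refine ⟨fun e => r1.resolve_left (not_not.2 e), fun e => r2.resolve_left (not_not.2 e), ?_, fun r' hr' e e' => ?_⟩
    · rw [nrB_iff hlt (hQ r hr)] at r3
      rcases r3 with (((((h' | h') | h') | h') | h') | h') | h'
      · exact Or.inl h'
      · exact Or.inr (Or.inl h')
      · exact Or.inr (Or.inr (Or.inl h'))
      · exact Or.inr (Or.inr (Or.inr (Or.inl h')))
      · exact Or.inr (Or.inr (Or.inr (Or.inr (Or.inl h'))))
      · exact Or.inr (Or.inr (Or.inr (Or.inr (Or.inr (Or.inl h')))))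
      · exact Or.inr (Or.inr (Or.inr (Or.inr (Or.inr (Or.inr h')))))
    · have := r4 r' hr'
      rw [fp (hQ r hr), fp (hQ r' hr'), fp (hQ r' hr')] at this
      exact this.resolve_left (not_not.2 ⟨e, e'⟩)
  · have hb' : bar b ∈ Qk 0 := by
      obtain ⟨⟨a, b'⟩, c, d, e⟩ := mem_Qk.1 hb
      obtain ⟨g1, g2, -, g4, -⟩ := glob b'
      refine mem_Qk.2 ⟨⟨g4 a, g1⟩, by rw [zc_bar (by norm_num) b', c], by rw [zc_bar (by norm_num) b', d],
        fun h => e ?_⟩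
      rw [← g2, h]; decide +kernel
    have hpb' : par (bar b) ∈ Qk 0 := by
      obtain ⟨⟨⟨⟨⟨⟨k1, -⟩, -⟩, -⟩, -⟩, -⟩, -⟩ := h (bar b) hb'
      exact k1
    obtain ⟨⟨⟨k1, k2⟩, k3⟩, k4⟩ := h7.resolve_left hne
    refine ⟨(fp (hQ _ h1)).symm.trans k1, (fp (hQ _ hpb')).symm.trans k2,
      (fp (hQ _ hpb')).symm.trans k3, fun hle => ?_⟩
    obtain ⟨⟨⟨⟨⟨⟨⟨a1, a2⟩, a3⟩, a4⟩, a5⟩, a6⟩, a7⟩, a8⟩ := k4.resolve_left (not_not.2 hle)
    refine ⟨a1, a2, a3, (fp hlt).symm.trans a4, (fp hbl).symm.trans a5, a6, a7,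
      fun r hr n1 n2 hor hp => ?_⟩
    have := a8 r hr
    rw [fp (hQ r hr), fp (hQ r hr), fp (hQ r hr)] at this
    rcases this with ((h' | h') | h') | h'
    · exact n1 h'
    · exact n2 h'
    · exact h' (or_assoc.2 hor)
    · exact h' hp

open _root_.Classical in
theorem rep_ev {k : ℕ} (hk : k < 4) (f : ℕ → K) :
    Rep (vA xE (((Qk k).filter fun r => decide (f r ≠ 0)).map fun r => (r, f r))) (ev xq (Qk k) f) := by
  have e : vA xq (((Qk k).filter fun r => decide (f r ≠ 0)).map fun r => (r, f r)) = ev xq (Qk k) f := by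
    unfold vA ev
    generalize Qk k = l
    induction l with
    | nil => rfl
    | cons a l ih =>
      by_cases h : f a = 0
      · simp only [List.map_map] at ih ⊢
        rw [List.filter_cons_of_neg (by simp [h]), ih, List.map_cons, List.prod_cons, h, (rootAct hk).zero, one_mul]
      · simp only [List.map_map] at ih ⊢
        rw [List.filter_cons_of_pos (by simp [h]), List.map_cons, List.prod_cons, ih, List.map_cons, List.prod_cons]
        rfl
  rw [← e]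
  refine rep_vA fun p hp => ?_
  obtain ⟨r, hr, rfl⟩ := List.mem_map.1 hp
  exact (Mset_facts (Qk_sub (List.mem_of_mem_filter hr)) (by omega)).2.2.1

set_option maxHeartbeats 3200000 in
/-- A pivot in the first level. -/
theorem pivot_top {u z : ↥(chevE6.group K)} (hu : u ∈ FH (xE (K := K)) bar C.φ (Mset 0)) (hu2 : u * u = 1)
    (hz : z ∈ FH (xE (K := K)) bar C.φ (Mset 0)) {B : List (ℕ × K)} (hB : OrbOK C.φ (Mset 1) B) {f : ℕ → K}
    (hf : (sigAct C (show (0 : ℕ) < 4 by norm_num)).Compat f)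
    (hsupp : ∀ r ∈ Qk 0, f r ≠ 0 → r ∈ SP pr (Qk 0) (rts B)) (hne : ∃ r ∈ Qk 0, f r ≠ 0)
    (he : Rep (z * u * z⁻¹) (vA xq (B.flatMap (orb bar C.φ)) * ev xq (Qk 0) f)) :
    ∃ z ∈ FH (xE (K := K)) bar C.φ (Mset 0), ∃ B : List (ℕ × K), OrbOK C.φ (Mset 0) B ∧
      z * u * z⁻¹ = vA xE (B.flatMap (orb bar C.φ)) := by
  classical
  obtain ⟨A, hA⟩ : ∃ A, A = sigAct C (show (0 : ℕ) < 4 by norm_num) := ⟨_, rfl⟩
  rw [← hA] at hf
  obtain ⟨P, hPd⟩ : ∃ P, P = rts B := ⟨_, rfl⟩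
  rw [← hPd] at hsupp
  have hPM : ∀ p ∈ P, p ∈ Mset 1 := fun p hp => hB.2.1 p (hPd ▸ hp)
  have hPL : ∀ p ∈ P, p ∈ Lk 0 := fun p hp => mem_Lk.2 ⟨(hPM p hp).2.1, (hPM p hp).2.2⟩
  have hP : ∀ p ∈ P, p ∈ Qk 0 ++ Lk 0 := fun p hp => List.mem_append.2 (Or.inr (hPL p hp))
  have hPb : ∀ p ∈ P, bar p ∈ P := fun p hp => by
    rw [hPd] at hp ⊢; exact rts_bar (fun r hr => (hB.2.1 r hr).2.1) hp
  have hcen : ∀ r ∈ Mset 0, cenR r = true := fun r hr => (Mset_facts hr (by norm_num)).2.2.1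
  have hMb : ∀ r ∈ Mset 0, bar r ∈ Mset 0 := fun r hr => (Mset_facts hr (by norm_num)).2.1
  have hQ72 : ∀ r ∈ Qk 0, r < 72 := fun r hr => (mem_Qk.1 hr).1.2
  have hLp : ∀ {S : Set ℕ}, (∀ s ∈ S, s ∈ Lp 0) → S ⊆ Mset 0 := fun hS s hs => Lp_facts (hS s hs) (by norm_num)
  -- the pivot
  obtain ⟨b, ⟨hb, hfb⟩, hmin⟩ : ∃ b, (b ∈ Qk 0 ∧ f b ≠ 0) ∧ ∀ r, r ∈ Qk 0 → f r ≠ 0 → ht b ≤ ht r := by
    obtain ⟨r, hr, hfr⟩ := hne
    have hex : ∃ k, ∃ r ∈ Qk 0, f r ≠ 0 ∧ ht r = k := ⟨_, r, hr, hfr, rfl⟩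
    obtain ⟨b, hb, hfb, he⟩ := Nat.find_spec hex
    exact ⟨b, ⟨hb, hfb⟩, fun r hr hfr => he ▸ Nat.find_min' hex ⟨r, hr, hfr, rfl⟩⟩
  have hbQL : b ∈ Qk 0 ++ Lk 0 := List.mem_append.2 (Or.inl hb)
  have hbSP := hsupp b hb hfb
  have hbSP' := A.SP_bar hP hPb hbSP
  obtain ⟨h1, hh1, f3, c3, s3, b3, e3⟩ :=
    A.elim hP hPb hbSP hf (fun r hr hne => ⟨hsupp r hr hne, hmin r hr hne⟩) hfb
  obtain ⟨f4, c4, -, s4, e4⟩ := A.split_orb hb c3
  rw [b3] at e4
  obtain ⟨hbb, hpbb, hsm71, hbarbb, hLbb, hrest, hpair⟩ := rest_facts hb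
  obtain ⟨-, -, -, -, -, hrest', -⟩ := rest_facts (A.barQ b hb)
  obtain ⟨d, hd⟩ : ∃ d, d = f4 (par b) := ⟨_, rfl⟩
  obtain ⟨f5, c5, -, s5, e5⟩ := A.split_orb hbb c4
  rw [← hd] at e5
  have hS5 : ∀ r ∈ Qk 0, f5 r ≠ 0 → r ∈ SP pr (Qk 0) P ∧ pr b r = 0 ∧ pr (bar b) r = 0 := by
    intro r hr hne5
    obtain ⟨h4, n1, n2⟩ := s5 r hr hne5
    obtain ⟨h3, n3, n4⟩ := s4 r hr h4
    obtain ⟨hSP, hht, hN⟩ := s3 r hr h3
    rcases (hrest r hr).2.2.1 with h | h | h | h | h | h | h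
    · exact absurd h n3
    · exact absurd h n4
    · exact absurd hht h
    · exact absurd h hN
    · exact ⟨hSP, h⟩
    · exact absurd h n1
    · exact absurd (h.trans hbarbb.symm) n2
  -- lifts
  obtain ⟨l0, hl0⟩ : ∃ l, l = B.flatMap (orb bar C.φ) := ⟨_, rfl⟩
  obtain ⟨lb, hlb⟩ : ∃ l, l = orb bar C.φ (b, f b) := ⟨_, rfl⟩
  obtain ⟨lp, hlp⟩ : ∃ l, l = orb bar C.φ (par b, d) := ⟨_, rfl⟩
  obtain ⟨lw, hlw⟩ : ∃ l, l = ((Qk 0).filter fun r => decide (f5 r ≠ 0)).map fun r => (r, f5 r) := ⟨_, rfl⟩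
  have hbbar := A.barQ b hb
  have hpb' : par (bar b) ∈ Qk 0 := hbarbb ▸ A.barQ _ hbb
  have m0 : ∀ p ∈ l0, p.1 ∈ P := fun p hp => by
    rw [hPd, rts, ← orb_flat_map bar C.φ, ← hl0]; exact List.mem_map.2 ⟨p, hp, rfl⟩
  have mb : ∀ p ∈ lb, p.1 = b ∨ p.1 = bar b := fun p hp => orb_pr C (hlb ▸ hp)
  have mp : ∀ p ∈ lp, p.1 = par b ∨ p.1 = par (bar b) := fun p hp => by
    rcases orb_pr C (hlp ▸ hp) with h | h
    · exact Or.inl h
    · exact Or.inr (h.trans hbarbb)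
  have mw : ∀ p ∈ lw, p.1 ∈ Qk 0 ∧ p.1 ∈ SP pr (Qk 0) P ∧ pr b p.1 = 0 ∧ pr (bar b) p.1 = 0 := fun p hp => by
    rw [hlw] at hp
    obtain ⟨r, hr, rfl⟩ := List.mem_map.1 hp
    obtain ⟨hr1, hr2⟩ := List.mem_filter.1 hr
    exact ⟨hr1, hS5 r hr1 (by simpa using hr2)⟩
  have hlbQ : ∀ p ∈ lb, p.1 ∈ Qk 0 := fun p hp => by rcases mb p hp with h | h <;> rw [h] <;> assumption
  have hlpQ : ∀ p ∈ lp, p.1 ∈ Qk 0 := fun p hp => by rcases mp p hp with h | h <;> rw [h] <;> assumption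
  have hcenQ : ∀ r ∈ Qk 0, cenR r = true := fun r hr => hcen r (Qk_sub hr)
  have r0 : Rep (vA xE l0) (vA xq l0) := rep_vA fun p hp => hcen _ ((Mset_succ (by norm_num) (hPM _ (m0 p hp))).1)
  have rb : Rep (vA xE lb) (vA xq lb) := rep_vA fun p hp => hcenQ _ (hlbQ p hp)
  have rp : Rep (vA xE lp) (vA xq lp) := rep_vA fun p hp => hcenQ _ (hlpQ p hp)
  have rw' : Rep (vA xE lw) (ev xq (Qk 0) f5) := hlw ▸ rep_ev (by norm_num) f5
  have hrY : Rep (vA xE l0 * (vA xE lb * (vA xE lp * vA xE lw)))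
      (vA xq l0 * ev xq (Qk 0) f3) := by
    rw [e4, e5, ← hlb, ← hlp]
    exact r0.mul (rb.mul (rp.mul rw'))
  -- the conjugator so far
  obtain ⟨z1, hz1, rz1⟩ := FHq_lift C hcen hMb (FH_mono (hLp fun s hs => hs.1) hh1)
  have hcm1 : Commute (vA (xq (K := K)) l0) h1 :=
    A.FH_commute (P := P) (fun p hp => ⟨m0 p hp, hP _ (m0 p hp)⟩) hh1 hPb hP
      fun s hs p hp h0 => by rw [hprL p (hP p hp) s hs, h0]
  have hru : Rep (z1 * z * u * (z1 * z)⁻¹) (vA xq l0 * ev xq (Qk 0) f3) := by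
    have := rz1.conj he
    rw [← hl0, show h1 * (vA xq l0 * ev xq (Qk 0) f) * h1⁻¹ = h1 * vA xq l0 * ev xq (Qk 0) f * h1⁻¹ by group,
      ← hcm1.eq, show vA xq l0 * h1 * ev xq (Qk 0) f * h1⁻¹ = vA xq l0 * (h1 * ev xq (Qk 0) f * h1⁻¹) by group,
      e3] at this
    rw [show z1 * z * u * (z1 * z)⁻¹ = z1 * (z * u * z⁻¹) * z1⁻¹ by group]
    exact this
  obtain ⟨c, hc⟩ := hru.eq hrY
  -- commutation
  have hLQ : ∀ a ∈ P, ∀ r ∈ Qk 0, r ∈ SP pr (Qk 0) P → a < 72 ∧ r < 72 ∧ (pr a r = 0 ∨ pr a r = 1) :=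
    fun a ha r hr hS => ⟨(hPM a ha).2.1, hQ72 r hr, Or.inl (hS.2 a ha)⟩
  have hSPp : par b ∈ SP pr (Qk 0) P := ⟨hbb, fun a ha => by rw [hLbb a (hPL a ha), hbSP.2 a ha, neg_zero]⟩
  have hSPp' : par (bar b) ∈ SP pr (Qk 0) P := hbarbb ▸ A.SP_bar hP hPb hSPp
  have c0b : Commute (vA (xE (K := K)) l0) (vA xE lb) := vA_commute fun a ha r hr => by
    rcases mb r hr with h | h <;> rw [h]
    · exact hLQ _ (m0 a ha) _ hb hbSP
    · exact hLQ _ (m0 a ha) _ hbbar hbSP'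
  have c0p : Commute (vA (xE (K := K)) l0) (vA xE lp) := vA_commute fun a ha r hr => by
    rcases mp r hr with h | h <;> rw [h]
    · exact hLQ _ (m0 a ha) _ hbb hSPp
    · exact hLQ _ (m0 a ha) _ hpb' hSPp'
  have c0w : Commute (vA (xE (K := K)) l0) (vA xE lw) := vA_commute fun a ha r hr =>
    hLQ _ (m0 a ha) _ (mw r hr).1 (mw r hr).2.1
  have cbw : Commute (vA (xE (K := K)) lb) (vA xE lw) := vA_commute fun a ha r hr => by
    refine ⟨hQ72 _ (hlbQ a ha), hQ72 _ (mw r hr).1, Or.inl ?_⟩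
    rcases mb a ha with h | h <;> rw [h]
    · exact (mw r hr).2.2.1
    · exact (mw r hr).2.2.2
  have cpw : Commute (vA (xE (K := K)) lp) (vA xE lw) := vA_commute fun a ha r hr => by
    refine ⟨hQ72 _ (hlpQ a ha), hQ72 _ (mw r hr).1, Or.inr ?_⟩
    rcases mp a ha with h | h <;> rw [h]
    · exact (hrest _ (mw r hr).1).1 (mw r hr).2.2.1
    · exact (hrest' _ (mw r hr).1).1 (mw r hr).2.2.2
  have hw2 : vA (xE (K := K)) lw * vA xE lw = 1 := by
    refine vA_sq (fun p hp => hQ72 _ (mw p hp).1) ?_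
    rw [hlw, List.pairwise_map]
    refine ((rootAct (K := K) (show (0 : ℕ) < 4 by norm_num)).nodup.filter _).imp_of_mem fun {r r'} hr hr' hne => ?_
    have m1 := mw (r, f5 r) (hlw ▸ List.mem_map.2 ⟨r, hr, rfl⟩)
    have m2 := mw (r', f5 r') (hlw ▸ List.mem_map.2 ⟨r', hr', rfl⟩)
    have h1 := (hrest r m1.1).2.2.2 r' m2.1 m1.2.2.1 m2.2.2.1
    rcases A.R.vals r (List.mem_append.2 (Or.inl m1.1)) r' m2.1 hne with h | h | h
    · exact absurd h h1
    · exact Or.inl h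
    · exact Or.inr h
  have h02 : vA (xE (K := K)) l0 * vA xE l0 = 1 := by
    refine vA_sq (fun p hp => (hPM _ (m0 p hp)).2.1) ?_
    have := hB.2.2
    rw [rts, ← orb_flat_map bar C.φ, List.pairwise_map, ← hl0] at this
    exact this.imp fun h => Or.inl h
  have c71 : ∀ {l : List (ℕ × K)}, (∀ p ∈ l, p.1 ∈ Mset 0) → Commute (vA xE l) (xE 71 c) := fun {l} hl => by
    refine Commute.list_prod_left _ _ fun y hy => ?_
    obtain ⟨p, hp, rfl⟩ := List.mem_map.1 hy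
    exact (Subgroup.mem_centralizer_iff.1 (xE_mem_cen (hcen _ (hl p hp)) p.2) _ ⟨c, rfl⟩).symm
  have hX : vA xE lb * vA xE lp * (vA xE lb * vA xE lp) = (1 : ↥(chevE6.group K)) := by
    have hzu : z1 * z * u * (z1 * z)⁻¹ * (z1 * z * u * (z1 * z)⁻¹) = 1 := by
      rw [show z1 * z * u * (z1 * z)⁻¹ * (z1 * z * u * (z1 * z)⁻¹) = z1 * z * (u * u) * (z1 * z)⁻¹ by group, hu2]
      group
    rw [hc, ← mul_assoc (vA xE lb)] at hzu
    refine top_partner hzu h02 hw2 (by rw [xE_add, CharTwo.add_self_eq_zero, xE_zero]) (c0b.mul_right c0p) c0w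
      (cbw.mul_left cpw) (c71 fun p hp => (Mset_succ (by norm_num) (hPM _ (m0 p hp))).1)
      ((c71 fun p hp => Qk_sub (hlbQ p hp)).mul_left (c71 fun p hp => Qk_sub (hlpQ p hp)))
      (c71 fun p hp => Qk_sub (mw p hp).1) id
  have hb72 := hQ72 b hb
  have hbb72 := hQ72 _ hbb
  have sq1 : ∀ {a r : ℕ}, a ∈ Qk 0 → r ∈ Qk 0 → pr r a = -1 → smR chevE6 r a = 71 → ∀ s t : K,
      xE a s * xE r t * (xE a s * xE r t) = xE 71 (t * s) := by
    intro a r ha hr hp hs s t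
    have e := xE_conj (K := K) (hQ72 r hr) (hQ72 a ha) hp t s
    rw [hs, inv_eq_of_mul_eq_one_right (show xE r t * xE r t = 1 by
      rw [xE_add, CharTwo.add_self_eq_zero, xE_zero])] at e
    calc xE a s * xE r t * (xE a s * xE r t) = xE a s * (xE r t * xE a s * xE r t) := by group
      _ = xE a s * xE a s * xE 71 (t * s) := by rw [e]; group
      _ = _ := by rw [xE_add, CharTwo.add_self_eq_zero, xE_zero, one_mul]
  have hpsym : pr (par b) b = -1 := by
    rw [show pr (par b) b = pr b (par b) from slE6.pair_symm (nroots72.symm ▸ hbb72) (nroots72.symm ▸ hb72), hpbb]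
  -- removing the partner
  obtain ⟨k0, hk0, hk0e⟩ : ∃ k0 ∈ FH (xq (K := K)) bar C.φ {s | s ∈ Lp 0 ∧ ∀ p ∈ P, pr p s = 0},
      k0 * (vA xq l0 * ev xq (Qk 0) f3) * k0⁻¹ = vA xq l0 * (vA xq lb * ev xq (Qk 0) f5) := by
    by_cases hd0 : d = 0
    · refine ⟨1, one_mem _, ?_⟩
      have h1 : vA xq lp = (1 : Quot71 K) := by
        rw [hlp, hd0]; unfold orb; split_ifs <;> simp [vA, A.R.zero]
      rw [e4, e5, ← hlb, ← hlp, h1]; group
    by_cases hbf : bar b = b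
    · exfalso
      have hbf' : bar (par b) = par b := by rw [hbarbb, hbf]
      rw [hlb, hlp, orb, if_pos hbf, orb, if_pos hbf'] at hX
      simp only [vA, List.map_cons, List.map_nil, List.prod_cons, List.prod_nil, mul_one] at hX
      rw [sq1 hb hbb hpsym hsm71] at hX
      rcases mul_eq_zero.1 (xE71_inj (hX.trans (xE_zero 71).symm)) with h | h
      · exact hd0 h
      · exact hfb h
    have hbf' : bar (par b) ≠ par b := fun h => by
      have h1 := (hpair hbf).2.2.1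
      rw [← hbarbb, h, A.R.self _ (List.mem_append.2 (Or.inl hbb))] at h1
      omega
    obtain ⟨hp1, hp2, hp3, hs'⟩ := hpair hbf
    have hht : ht b ≤ ht (par b) := by
      have h4 : f4 (par b) ≠ 0 := hd ▸ hd0
      exact (s3 _ hbb (s4 _ hbb h4).1).2.1
    obtain ⟨sL, s36, sfix, sb, sb', ssm', ssm, scom⟩ := hs' hht
    obtain ⟨s, hsd⟩ : ∃ s, s = df (bar b) (par b) := ⟨_, rfl⟩
    rw [← hsd] at sL s36 sfix sb sb' ssm' ssm scom
    obtain ⟨-, -, hsm71', -⟩ := rest_facts hbbar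
    have htd : d * f b = C.φ (d * f b) := by
      rw [hlb, hlp, orb, if_neg hbf, orb, if_neg hbf'] at hX
      simp only [vA, List.map_cons, List.map_nil, List.prod_cons, List.prod_nil, mul_one] at hX
      rw [hbarbb] at hX
      have cA : Commute (xE b (f b) * xE (par b) d) (xE (bar b) (C.φ (f b)) * xE (par (bar b)) (C.φ d)) := by
        refine ((comm01 hb72 (hQ72 _ hbbar) ?_ _ _).mul_right (comm01 hb72 (hQ72 _ hpb') (Or.inr hp2) _ _)).mul_left
          ((comm01 hbb72 (hQ72 _ hbbar) ?_ _ _).mul_right (comm01 hbb72 (hQ72 _ hpb') (Or.inl hp3) _ _))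
        · exact Or.inl (A.pairs b hb hbf)
        · exact Or.inr (by
            rw [show pr (par b) (bar b) = pr (bar b) (par b) from
              slE6.pair_symm (nroots72.symm ▸ hbb72) (nroots72.symm ▸ hQ72 _ hbbar)]
            exact hp1)
      have cB : Commute (xE (bar b) (C.φ (f b))) (xE (par b) d) :=
        comm01 (hQ72 _ hbbar) hbb72 (Or.inr hp1) _ _
      obtain ⟨X1, hX1⟩ : ∃ X, X = xE b (f b) * xE (par b) d := ⟨_, rfl⟩
      obtain ⟨X2, hX2⟩ : ∃ X, X = xE (bar b) (C.φ (f b)) * xE (par (bar b)) (C.φ d) := ⟨_, rfl⟩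
      have hre : xE b (f b) * xE (bar b) (C.φ (f b)) * (xE (par b) d * xE (par (bar b)) (C.φ d)) = X1 * X2 := by
        rw [hX1, hX2, show xE b (f b) * xE (bar b) (C.φ (f b)) * (xE (par b) d * xE (par (bar b)) (C.φ d)) =
          xE b (f b) * (xE (bar b) (C.φ (f b)) * xE (par b) d) * xE (par (bar b)) (C.φ d) by group, cB.eq]
        group
      rw [hre, show X1 * X2 * (X1 * X2) = X1 * (X2 * X1) * X2 by group, ← (hX1 ▸ hX2 ▸ cA : Commute X1 X2).eq,
        show X1 * (X1 * X2) * X2 = (X1 * X1) * (X2 * X2) by group, hX1, hX2, sq1 hb hbb hpsym hsm71,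
        sq1 hbbar hpb' ?_ hsm71', xE_add] at hX
      · rw [map_mul]
        exact CharTwo.add_eq_zero.1 (xE71_inj (hX.trans (xE_zero 71).symm))
      · have h1 : pr (bar b) (par (bar b)) = -1 := (rest_facts hbbar).2.1
        rw [show pr (par (bar b)) (bar b) = pr (bar b) (par (bar b)) from
          slE6.pair_symm (nroots72.symm ▸ hQ72 _ hpb') (nroots72.symm ▸ hQ72 _ hbbar)]
        exact h1
    have hφb : C.φ (f b) ≠ 0 := (map_ne_zero C.φ).2 hfb
    obtain ⟨a, ha⟩ : ∃ a, a = d / C.φ (f b) := ⟨_, rfl⟩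
    have haf : C.φ a = a := by
      rw [ha, map_div₀, C.hK, div_eq_div_iff hfb hφb, ← map_mul, ← htd]
    have hsP : ∀ p ∈ P, pr p s = 0 := fun p hp => by
      have := hSPp'.2 p hp
      rw [← ssm, A.R.lin s sL b hb sb p (hP p hp), hbSP.2 p hp, zero_add] at this
      exact this
    refine ⟨xq s a, Subgroup.subset_closure ⟨s, ⟨⟨sL, s36⟩, hsP⟩, Or.inl ⟨sfix, a, haf, rfl⟩⟩, ?_⟩
    have hsQL : s ∈ Qk 0 ++ Lk 0 := List.mem_append.2 (Or.inr sL)
    have c1 : Commute (xq s a) (vA (xq (K := K)) l0) := Commute.list_prod_right _ _ fun y hy => by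
      obtain ⟨p, hp, rfl⟩ := List.mem_map.1 hy
      exact (A.R.commute_zero (hP _ (m0 p hp)) hsQL (hsP _ (m0 p hp)) _ _).symm
    have cQ : ∀ r ∈ Qk 0, pr s r ≠ -1 → ∀ t : K, Commute (xq s a) (xq r t) := fun r hr hp t =>
      A.R.act0 s sL r hr hp t a
    have hne1 : par b ≠ b := fun h => by rw [h, A.R.self b hbQL] at hpbb; omega
    have hne2 : par b ≠ bar b := fun h => by rw [h, A.pairs b hb hbf] at hpbb; omega
    have hne3 : par (bar b) ≠ b := fun h => by rw [h, A.R.self b hbQL] at hp2; omega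
    have hne4 : par (bar b) ≠ bar b := fun h => by rw [h, A.pairs b hb hbf] at hp2; omega
    have c2 : Commute (xq s a) (vA (xq (K := K)) lp) := Commute.list_prod_right _ _ fun y hy => by
      obtain ⟨p, hp, rfl⟩ := List.mem_map.1 hy
      rcases mp p hp with h | h <;> rw [h]
      · exact cQ _ hbb (scom _ hbb hne1 hne2 (Or.inr (Or.inl rfl))) _
      · exact cQ _ hpb' (scom _ hpb' hne3 hne4 (Or.inr (Or.inr rfl))) _
    have c3 : Commute (xq s a) (ev xq (Qk 0) f5) := Commute.list_prod_right _ _ fun y hy => by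
      obtain ⟨r, hr, rfl⟩ := List.mem_map.1 hy
      by_cases h0 : f5 r = 0
      · rw [h0, A.R.zero]; exact Commute.one_right _
      obtain ⟨hSP, o1, o2⟩ := hS5 r hr h0
      refine cQ r hr (scom r hr (fun h => ?_) (fun h => ?_) (Or.inl ⟨o1, o2⟩)) _
      · rw [h, A.R.self b hbQL] at o1; omega
      · rw [h, A.R.self _ (List.mem_append.2 (Or.inl hbbar))] at o2; omega
    have hkb : xq s a * vA xq lb * (xq s a)⁻¹ = vA xq lb * vA xq lp := by
      rw [hlb, hlp, orb, if_neg hbf, orb, if_neg hbf']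
      simp only [vA, List.map_cons, List.map_nil, List.prod_cons, List.prod_nil, mul_one]
      rw [show xq s a * (xq b (f b) * xq (bar b) (C.φ (f b))) * (xq s a)⁻¹ =
        (xq s a * xq b (f b) * (xq s a)⁻¹) * (xq s a * xq (bar b) (C.φ (f b)) * (xq s a)⁻¹) by group,
        A.R.conj s sL b hb sb, A.R.conj s sL (bar b) hbbar sb', ssm, ssm', hbarbb,
        show a * C.φ (f b) = d by rw [ha, div_mul_cancel₀ _ hφb],
        show a * f b = C.φ d by rw [← haf, ha, map_div₀, C.hK, div_mul_cancel₀ _ hfb]]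
      rw [show xq b (f b) * xq (par (bar b)) (C.φ d) * (xq (bar b) (C.φ (f b)) * xq (par b) d) =
        xq b (f b) * (xq (par (bar b)) (C.φ d) * xq (bar b) (C.φ (f b))) * xq (par b) d by group,
        (A.R.commQ _ hpb' _ hbbar _ _).eq,
        show xq b (f b) * (xq (bar b) (C.φ (f b)) * xq (par (bar b)) (C.φ d)) * xq (par b) d =
          xq b (f b) * xq (bar b) (C.φ (f b)) * (xq (par (bar b)) (C.φ d) * xq (par b) d) by group,
        (A.R.commQ _ hpb' _ hbb _ _).eq]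
    have hlp2 : vA (xq (K := K)) lp * vA xq lp = 1 := by
      refine A.R.X_sq (S := {r | r ∈ Qk 0}) Set.Subset.rfl (Subgroup.list_prod_mem _ fun y hy => ?_)
      obtain ⟨p, hp, rfl⟩ := List.mem_map.1 hy
      exact mem_X (show p.1 ∈ {r | r ∈ Qk 0} from hlpQ p hp) _
    rw [e4, e5, ← hlb, ← hlp,
      show xq s a * (vA xq l0 * (vA xq lb * (vA xq lp * ev xq (Qk 0) f5))) * (xq s a)⁻¹ =
        (xq s a * vA xq l0 * (xq s a)⁻¹) * ((xq s a * vA xq lb * (xq s a)⁻¹) * ((xq s a * vA xq lp * (xq s a)⁻¹) *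
          (xq s a * ev xq (Qk 0) f5 * (xq s a)⁻¹))) by group,
      c1.eq, c2.eq, c3.eq, mul_inv_cancel_right, mul_inv_cancel_right, mul_inv_cancel_right, hkb]
    rw [show vA xq lb * vA xq lp * (vA xq lp * ev xq (Qk 0) f5) =
      vA xq lb * (vA xq lp * vA xq lp) * ev xq (Qk 0) f5 by group, hlp2, mul_one]
  -- the rest
  obtain ⟨P', hP'⟩ : ∃ P', P' = orbR bar b ++ P := ⟨_, rfl⟩
  have hmemP' : ∀ p, p ∈ P' ↔ p = b ∨ p = bar b ∨ p ∈ P := fun p => by
    rw [hP', List.mem_append]; unfold orbR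
    split_ifs with h <;> simp [h, or_assoc]
  have hP'QL : ∀ p ∈ P', p ∈ Qk 0 ++ Lk 0 := fun p hp => by
    rcases (hmemP' p).1 hp with rfl | rfl | hp
    · exact hbQL
    · exact List.mem_append.2 (Or.inl hbbar)
    · exact hP p hp
  have hP'b : ∀ p ∈ P', bar p ∈ P' := fun p hp => by
    rw [hmemP']
    rcases (hmemP' p).1 hp with rfl | rfl | hp
    · exact Or.inr (Or.inl rfl)
    · exact Or.inl (A.bar2 b hbQL)
    · exact Or.inr (Or.inr (hPb p hp))
  obtain ⟨h2, hh2, B2, hB2, hB2S, hB2p, e2⟩ := A.reduce_fix hprL P' hP'QL hP'b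
    (fun r hr r' hr' => (hrest r hr.1).2.2.2 r' hr'.1 (hr.2 b ((hmemP' b).2 (Or.inl rfl)))
      (hr'.2 b ((hmemP' b).2 (Or.inl rfl)))) f5 c5 fun r hr hne5 => ⟨hr, fun p hp => by
        obtain ⟨hSP, o1, o2⟩ := hS5 r hr hne5
        rcases (hmemP' p).1 hp with rfl | rfl | hp
        · exact o1
        · exact o2
        · exact hSP.2 p hp⟩
  obtain ⟨l2, hl2⟩ : ∃ l, l = B2.flatMap (orb bar C.φ) := ⟨_, rfl⟩
  rw [← hl2] at e2
  have hcm2 : Commute (vA (xq (K := K)) (l0 ++ lb)) h2 :=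
    A.FH_commute (P := P') (fun p hp => by
      have : p.1 ∈ P' := by
        rcases List.mem_append.1 hp with hp | hp
        · exact (hmemP' _).2 (Or.inr (Or.inr (m0 p hp)))
        · rcases mb p hp with h | h <;> rw [h]
          · exact (hmemP' b).2 (Or.inl rfl)
          · exact (hmemP' _).2 (Or.inr (Or.inl rfl))
      exact ⟨this, hP'QL _ this⟩) hh2 hP'b hP'QL fun s hs p hp h0 => by rw [hprL p (hP'QL p hp) s hs, h0]
  obtain ⟨z2, hz2, rz2⟩ := FHq_lift C hcen hMb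
    (mul_mem (FH_mono (hLp fun s hs => hs.1) hh2) (FH_mono (hLp fun s hs => hs.1) hk0))
  have mB2 : ∀ r ∈ rts B2, r ∈ SP pr (Qk 0) P' := hB2S
  have ml2 : ∀ p ∈ l2, p.1 ∈ SP pr (Qk 0) P' := fun p hp => mB2 _ (by
    rw [rts, ← orb_flat_map bar C.φ, ← hl2]; exact List.mem_map.2 ⟨p, hp, rfl⟩)
  have r2 : Rep (vA xE l2) (vA xq l2) := rep_vA fun p hp => hcenQ _ (ml2 p hp).1
  have hru2 : Rep (z2 * (z1 * z * u * (z1 * z)⁻¹) * z2⁻¹) (vA xq (l0 ++ lb ++ l2)) := by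
    have := rz2.conj hru
    rw [show h2 * k0 * (vA xq l0 * ev xq (Qk 0) f3) * (h2 * k0)⁻¹ =
      h2 * (k0 * (vA xq l0 * ev xq (Qk 0) f3) * k0⁻¹) * h2⁻¹ by group, hk0e, ← mul_assoc (vA xq l0),
      ← vA_append, show h2 * (vA xq (l0 ++ lb) * ev xq (Qk 0) f5) * h2⁻¹ =
        h2 * vA xq (l0 ++ lb) * ev xq (Qk 0) f5 * h2⁻¹ by group, ← hcm2.eq,
      show vA xq (l0 ++ lb) * h2 * ev xq (Qk 0) f5 * h2⁻¹ = vA xq (l0 ++ lb) * (h2 * ev xq (Qk 0) f5 * h2⁻¹) by
        group, e2, ← vA_append] at this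
    exact this
  have rfin : Rep (vA xE (l0 ++ lb ++ l2)) (vA xq (l0 ++ lb ++ l2)) := by
    simp only [vA_append]
    exact (r0.mul rb).mul r2
  obtain ⟨c', hc'⟩ := hru2.eq rfin
  obtain ⟨B', hB'⟩ : ∃ B', B' = B ++ (b, f b) :: B2 := ⟨_, rfl⟩
  have hflat : B'.flatMap (orb bar C.φ) = l0 ++ lb ++ l2 := by
    rw [hB', List.flatMap_append, List.flatMap_cons, hl0, hlb, hl2, List.append_assoc]
  have hB'ok : OrbOK C.φ (Mset 0) B' := by
    refine ⟨?_, ?_, ?_⟩
    · intro p hp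
      rw [hB', List.mem_append, List.mem_cons] at hp
      rcases hp with hp | rfl | hp
      · exact hB.1 p hp
      · exact ⟨hfb, fun h => by have := hf b hb; rw [h] at this; exact this.symm⟩
      · exact hB2 p hp
    · intro r hr
      rw [hB', rts, List.flatMap_append, List.flatMap_cons, List.mem_append, List.mem_append] at hr
      rcases hr with hr | hr | hr
      · exact (Mset_succ (by norm_num) (hB.2.1 r hr)).1
      · have hr' : r = b ∨ r = bar b := by unfold orbR at hr; split_ifs at hr <;> simp at hr <;> tauto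
        rcases hr' with rfl | rfl
        · exact Qk_sub hb
        · exact Qk_sub hbbar
      · exact Qk_sub (mB2 r hr).1
    · rw [hB', rts, List.flatMap_append, List.flatMap_cons, List.pairwise_append, List.pairwise_append]
      refine ⟨hB.2.2, ⟨?_, hB2p, fun a ha r hr => (mB2 r hr).2 a (by rw [hP']; exact List.mem_append.2 (Or.inl ha))⟩,
        fun a ha r hr => ?_⟩
      · unfold orbR
        split_ifs with h
        · simp
        · simp [A.pairs b hb h]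
      · have haP : a ∈ P := hPd ▸ ha
        rcases List.mem_append.1 hr with hr | hr
        · have hr' : r = b ∨ r = bar b := by unfold orbR at hr; split_ifs at hr <;> simp at hr <;> tauto
          rcases hr' with rfl | rfl
          · exact hbSP.2 a haP
          · exact hbSP'.2 a haP
        · exact (mB2 r hr).2 a ((hmemP' a).2 (Or.inr (Or.inr haP)))
  have hzM : z2 * (z1 * z) ∈ FH (xE (K := K)) bar C.φ (Mset 0) := mul_mem hz2 (mul_mem hz1 hz)
  have hcfix := cfix C hu hzM hB'ok (c := c') (by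
    rw [hflat, ← hc']; group)
  -- removing the central coordinate
  obtain ⟨l, hl⟩ := C.hlam
  obtain ⟨kl, hkl, hklb, hklm⟩ : ∃ kl ∈ FH (xE (K := K)) bar C.φ (Mset 0),
      kl * vA xE lb * kl⁻¹ = vA xE lb * xE 71 c' ∧
      (∀ r, (r ∈ Qk 0 ∨ r ∈ Lk 0) → pr b r = 0 → pr (bar b) r = 0 → r < 72 → ∀ t : K, Commute kl (xE r t)) := by
    have hgen : ∀ r, (r ∈ Qk 0 ∨ r ∈ Lk 0) → pr b r = 0 → pr (bar b) r = 0 → r < 72 →
        (pr (par b) r = 0 ∨ pr (par b) r = 1) ∧ (pr (par (bar b)) r = 0 ∨ pr (par (bar b)) r = 1) := by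
      intro r hr o1 o2 hr72
      rcases hr with hr | hr
      · exact ⟨Or.inr ((hrest r hr).1 o1), Or.inr ((hrest' r hr).1 o2)⟩
      · have hr' : r < chevE6.nroots := nroots72.symm ▸ hr72
        refine ⟨Or.inl ?_, Or.inl ?_⟩
        · rw [show pr (par b) r = pr r (par b) from slE6.pair_symm (nroots72.symm ▸ hbb72) hr', hLbb r hr,
            show pr r b = pr b r from slE6.pair_symm hr' (nroots72.symm ▸ hb72), o1, neg_zero]
        · obtain ⟨-, -, -, -, hL', -, -⟩ := rest_facts hbbar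
          rw [show pr (par (bar b)) r = pr r (par (bar b)) from
            slE6.pair_symm (nroots72.symm ▸ hQ72 _ hpb') hr', hL' r hr,
            show pr r (bar b) = pr (bar b) r from slE6.pair_symm hr' (nroots72.symm ▸ hQ72 _ hbbar), o2, neg_zero]
    have econj := fun (t u : K) => xE_conj (K := K) hbb72 hb72 hpsym t u
    by_cases hbf : bar b = b
    · have hbf' : bar (par b) = par b := by rw [hbarbb, hbf]
      refine ⟨xE (par b) (c' / f b), Subgroup.subset_closure ⟨par b, Qk_sub hbb, Or.inl ⟨hbf', _, ?_, rfl⟩⟩, ?_, ?_⟩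
      · rw [map_div₀, hcfix, ← hf b hb, hbf]
      · rw [hlb, orb, if_pos hbf]
        simp only [vA, List.map_cons, List.map_nil, List.prod_cons, List.prod_nil, mul_one]
        rw [econj, hsm71, div_mul_cancel₀ _ hfb]
      · exact fun r hr o1 o2 h t => comm01 hbb72 h (hgen r hr o1 o2 h).1 _ t
    · have hbf' : bar (par b) ≠ par b := fun h => by
        have h1 := (hpair hbf).2.2.1
        rw [← hbarbb, h, A.R.self _ (List.mem_append.2 (Or.inl hbb))] at h1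
        omega
      obtain ⟨hp1, hp2, hp3, -⟩ := hpair hbf
      obtain ⟨-, hpbb', hsm71', -⟩ := rest_facts hbbar
      obtain ⟨a, ha⟩ : ∃ a, a = l * c' / f b := ⟨_, rfl⟩
      have hbar' : bar (par b) = par (bar b) := hbarbb
      refine ⟨xE (par b) a * xE (bar (par b)) (C.φ a),
        Subgroup.subset_closure ⟨par b, Qk_sub hbb, Or.inr ⟨hbf', a, rfl⟩⟩, ?_, ?_⟩
      · rw [hlb, orb, if_neg hbf, hbar']
        simp only [vA, List.map_cons, List.map_nil, List.prod_cons, List.prod_nil, mul_one]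
        have q1 : Commute (xE (par (bar b)) (C.φ a)) (xE b (f b)) :=
          comm01 (hQ72 _ hpb') hb72 (Or.inr (by
            rw [show pr (par (bar b)) b = pr b (par (bar b)) from
              slE6.pair_symm (nroots72.symm ▸ hQ72 _ hpb') (nroots72.symm ▸ hb72)]
            exact hp2)) _ _
        have q2 : Commute (xE (par b) a) (xE (bar b) (C.φ (f b))) :=
          comm01 hbb72 (hQ72 _ hbbar) (Or.inr (by
            rw [show pr (par b) (bar b) = pr (bar b) (par b) from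
              slE6.pair_symm (nroots72.symm ▸ hbb72) (nroots72.symm ▸ hQ72 _ hbbar)]
            exact hp1)) _ _
        have q3 : ∀ e, Commute (xE (par b) a) (xE 71 e) := fun e =>
          (Subgroup.mem_centralizer_iff.1 (xE_mem_cen (hcenQ _ hbb) a) _ ⟨e, rfl⟩).symm
        have e1 := econj a (f b)
        rw [hsm71] at e1
        have e2 := xE_conj (K := K) (hQ72 _ hpb') (hQ72 _ hbbar) (by
          rw [show pair chevE6 (par (bar b)) (bar b) = pr (bar b) (par (bar b)) from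
            slE6.pair_symm (nroots72.symm ▸ hQ72 _ hpb') (nroots72.symm ▸ hQ72 _ hbbar)]
          exact hpbb') (C.φ a) (C.φ (f b))
        rw [hsm71'] at e2
        obtain ⟨X, hX⟩ : ∃ X, X = xE (par b) a := ⟨_, rfl⟩
        obtain ⟨Y, hY⟩ : ∃ Y, Y = xE (par (bar b)) (C.φ a) := ⟨_, rfl⟩
        rw [← hX] at e1 q2 q3 ⊢
        rw [← hY] at e2 q1 ⊢
        rw [show X * Y * (xE b (f b) * xE (bar b) (C.φ (f b))) * (X * Y)⁻¹ =
          (X * (Y * xE b (f b) * Y⁻¹) * X⁻¹) * (X * (Y * xE (bar b) (C.φ (f b)) * Y⁻¹) * X⁻¹) by group,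
          q1.eq, mul_inv_cancel_right, e1, e2,
          show X * (xE (bar b) (C.φ (f b)) * xE 71 (C.φ a * C.φ (f b))) * X⁻¹ =
            (X * xE (bar b) (C.φ (f b)) * X⁻¹) * (X * xE 71 (C.φ a * C.φ (f b)) * X⁻¹) by group,
          q2.eq, (q3 _).eq, mul_inv_cancel_right, mul_inv_cancel_right]
        have hsum : a * f b + C.φ a * C.φ (f b) = c' := by
          rw [← map_mul, ha, div_mul_cancel₀ _ hfb, map_mul, hcfix, ← add_mul, hl, one_mul]
        have q4 : Commute (xE 71 (a * f b)) (xE (bar b) (C.φ (f b))) :=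
          Subgroup.mem_centralizer_iff.1 (xE_mem_cen (hcenQ _ hbbar) _) _ ⟨a * f b, rfl⟩
        rw [show xE b (f b) * xE 71 (a * f b) * (xE (bar b) (C.φ (f b)) * xE 71 (C.φ a * C.φ (f b))) =
          xE b (f b) * (xE 71 (a * f b) * xE (bar b) (C.φ (f b))) * xE 71 (C.φ a * C.φ (f b)) by group, q4.eq,
          show xE b (f b) * (xE (bar b) (C.φ (f b)) * xE 71 (a * f b)) * xE 71 (C.φ a * C.φ (f b)) =
            xE b (f b) * xE (bar b) (C.φ (f b)) * (xE 71 (a * f b) * xE 71 (C.φ a * C.φ (f b))) by group,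
          xE_add, hsum]
      · intro r hr o1 o2 h t
        obtain ⟨g1, g2⟩ := hgen r hr o1 o2 h
        exact (comm01 hbb72 h g1 _ t).mul_left (hbar' ▸ comm01 (hQ72 _ hpb') h g2 _ t)
  have hk1 : Commute kl (vA xE l0) := Commute.list_prod_right _ _ fun y hy => by
    obtain ⟨p, hp, rfl⟩ := List.mem_map.1 hy
    have hpP := m0 p hp
    have h72 := (hPM _ hpP).2.1
    refine hklm _ (Or.inr (hPL _ hpP)) ?_ ?_ h72 _
    · rw [show pr b p.1 = pr p.1 b from slE6.pair_symm (nroots72.symm ▸ hb72) (nroots72.symm ▸ h72)]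
      exact hbSP.2 _ hpP
    · rw [show pr (bar b) p.1 = pr p.1 (bar b) from slE6.pair_symm (nroots72.symm ▸ hQ72 _ hbbar) (nroots72.symm ▸ h72)]
      exact hbSP'.2 _ hpP
  have hk2 : Commute kl (vA xE l2) := Commute.list_prod_right _ _ fun y hy => by
    obtain ⟨p, hp, rfl⟩ := List.mem_map.1 hy
    have hS := ml2 p hp
    exact hklm _ (Or.inl hS.1) (hS.2 b ((hmemP' b).2 (Or.inl rfl))) (hS.2 _ ((hmemP' _).2 (Or.inr (Or.inl rfl))))
      (hQ72 _ hS.1) _
  have hk71 : Commute kl (xE 71 c') := by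
    have : FH (xE (K := K)) bar C.φ (Mset 0) ≤ cenT K := fun y hy => by
      obtain ⟨-, -, h', -⟩ := FHE_down C hcen hMb hy
      exact h'
    exact (Subgroup.mem_centralizer_iff.1 (this hkl) _ ⟨c', rfl⟩).symm
  refine ⟨kl * (z2 * (z1 * z)), mul_mem hkl hzM, B', hB'ok, ?_⟩
  rw [hflat, show kl * (z2 * (z1 * z)) * u * (kl * (z2 * (z1 * z)))⁻¹ =
    kl * (z2 * (z1 * z * u * (z1 * z)⁻¹) * z2⁻¹) * kl⁻¹ by group, hc', vA_append, vA_append]
  obtain ⟨T, hT⟩ : ∃ T, T = xE (K := K) 71 c' := ⟨_, rfl⟩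
  rw [← hT] at hklb hk71 ⊢
  have hTl2 : Commute T (vA xE l2) := Commute.list_prod_right _ _ fun y hy => by
    obtain ⟨p, hp, rfl⟩ := List.mem_map.1 hy
    rw [hT]
    exact Subgroup.mem_centralizer_iff.1 (xE_mem_cen (hcenQ _ (ml2 p hp).1) p.2) _ ⟨c', rfl⟩
  rw [show kl * (vA xE l0 * vA xE lb * vA xE l2 * T) * kl⁻¹ =
    (kl * vA xE l0 * kl⁻¹) * (kl * vA xE lb * kl⁻¹) * (kl * vA xE l2 * kl⁻¹) * (kl * T * kl⁻¹) by group,
    hk1.eq, hk2.eq, hk71.eq, hklb, mul_inv_cancel_right, mul_inv_cancel_right, mul_inv_cancel_right,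
    show vA xE l0 * (vA xE lb * T) * vA xE l2 * T = vA xE l0 * vA xE lb * (T * vA xE l2) * T by group, hTl2.eq,
    show vA xE l0 * vA xE lb * (vA xE l2 * T) * T = vA xE l0 * vA xE lb * vA xE l2 * (T * T) by group, hT,
    xE_add, CharTwo.add_self_eq_zero, xE_zero, mul_one]

/-- Every involution of the unipotent subgroup. -/
theorem reduce_all {u : ↥(chevE6.group K)} (hu : u ∈ FH (xE (K := K)) bar C.φ (Mset 0)) (hu2 : u * u = 1) :
    ∃ z ∈ FH (xE (K := K)) bar C.φ (Mset 0), ∃ B : List (ℕ × K), OrbOK C.φ (Mset 0) B ∧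
      z * u * z⁻¹ = vA xE (B.flatMap (orb bar C.φ)) := by
  classical
  have hk : (0 : ℕ) < 4 := by norm_num
  have hcen : ∀ r ∈ Mset 0, cenR r = true := fun r hr => (Mset_facts hr (by norm_num)).2.2.1
  have hMb : ∀ r ∈ Mset 0, bar r ∈ Mset 0 := fun r hr => (Mset_facts hr (by norm_num)).2.1
  obtain ⟨v, hv, ru⟩ := FHE_down C hcen hMb hu
  have hv2 : v * v = 1 := by
    obtain ⟨h', e'⟩ := ru.mul ru
    rw [← e']
    simp only [hu2]
    rfl
  obtain ⟨h, hh, B, hB, f, hf, hsupp, e⟩ := level_core C hk (red_one C) hv hv2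
  obtain ⟨z, hz, rz⟩ := FHq_lift C hcen hMb hh
  have he : Rep (z * u * z⁻¹) (vA xq (B.flatMap (orb bar C.φ)) * ev xq (Qk 0) f) := e ▸ rz.conj ru
  by_cases hne : ∃ r ∈ Qk 0, f r ≠ 0
  · exact pivot_top C hu hu2 hz hB hf hsupp hne he
  push Not at hne
  rw [(sigAct C hk).ev_congr hne (g := 0), (rootAct hk).ev_zero, mul_one] at he
  have hB0 : OrbOK C.φ (Mset 0) B := ⟨hB.1, fun r hr => (Mset_succ hk (hB.2.1 r hr)).1, hB.2.2⟩
  have hmem : ∀ p ∈ B.flatMap (orb bar C.φ), cenR p.1 = true := fun p hp =>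
    hcen _ (hB0.2.1 _ (by rw [rts, ← orb_flat_map bar C.φ]; exact List.mem_map.2 ⟨p, hp, rfl⟩))
  obtain ⟨c, hc⟩ := he.eq (rep_vA hmem)
  have hcf := cfix C hu hz hB0 hc
  by_cases hc0 : c = 0
  · exact ⟨z, hz, B, hB0, by rw [hc, hc0, xE_zero, mul_one]⟩
  have e71 : bar 71 = 71 := by decide +kernel
  refine ⟨z, hz, B ++ [(71, c)], ⟨?_, ?_, ?_⟩, ?_⟩
  · intro p hp
    rcases List.mem_append.1 hp with hp | hp
    · exact hB0.1 p hp
    · simp only [List.mem_singleton] at hp; subst hp; exact ⟨hc0, fun _ => hcf⟩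
  · intro r hr
    rw [rts, List.flatMap_append, List.mem_append] at hr
    rcases hr with hr | hr
    · exact hB0.2.1 r hr
    · simp [orbR, e71] at hr; subst hr; exact ⟨by norm_num, by norm_num, by decide +kernel⟩
  · rw [rts, List.flatMap_append, List.pairwise_append]
    refine ⟨hB0.2.2, by simp [orbR, e71], fun a ha r hr => ?_⟩
    simp [orbR, e71] at hr
    subst hr
    obtain ⟨p1, p2, p3⟩ := hB.2.1 a ha
    have := allR_upto edgeOK_eq p2
    simp only [Bool.or_eq_true, Bool.and_eq_true, Nat.blt_eq, Bool.not_eq_true', ← Bool.not_eq_true,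
      Int.beq'_eq] at this
    show pr a 71 = 0
    rw [show pr a 71 = fpair chevE6 a 71 from (fp (by norm_num)).symm]
    exact ((this.resolve_left (by omega)).2).resolve_left (not_not.2 p3)
  · rw [hc, List.flatMap_append, vA_append]
    simp [orb, e71, vA]

end CfsgLib.Chev.TwE6Invol
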