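import Mathlib
import Cfsg.Agent.Lib.Chev.TwE6InvolReduce
import Cfsg.Agent.Lib.Chev.TwE6InvolNodes
import Cfsg.Agent.Lib.Chev.E6SLRank

/-!
Products of orbit elements at orthogonal roots in ²E₆(q), q even, reduce to three representatives.
-/

set_option autoImplicit false
set_option maxRecDepth 100000
set_option linter.unusedSectionVars false

namespace CfsgLib.Chev.TwE6Invol

open Cfsg.Lie CfsgLib.Chev.SLInvol

/-- The fundamental roots of an orbit. -/
def orbI : ℕ → List ℕ
  | 0 => [1]
  | 1 => [3]
  | 2 => [5, 0]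
  | _ => [4, 2]

/-- A word in the orbits as a word in the fundamental roots. -/
def expand (ks : List ℕ) : List ℕ := ks.flatMap orbI

/-- The action of a word in the orbits on the roots. -/
noncomputable def imgT (ks : List ℕ) (r : ℕ) : ℕ := imgW sdataE6 (expand ks) r

theorem imgW_append (u v : List ℕ) (r : ℕ) : imgW sdataE6 (u ++ v) r = imgW sdataE6 u (imgW sdataE6 v r) := by
  induction u with
  | nil => rfl
  | cons c u ih => exact congrArg (refl sdataE6 c) ih

theorem imgT_append (a b : List ℕ) (r : ℕ) : imgT (a ++ b) r = imgT a (imgT b r) := by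
  simp [imgT, expand, imgW_append]

theorem orbI_lt (k : ℕ) : ∀ i ∈ orbI k, i < chevE6.rank := by
  have h6 : chevE6.rank = 6 := by decide +kernel
  intro i hi
  rcases k with _ | _ | _ | _ <;> simp [orbI] at hi <;> omega

theorem expand_lt (ks : List ℕ) : ∀ i ∈ expand ks, i < chevE6.rank := fun i hi => by
  obtain ⟨k, -, hk⟩ := List.mem_flatMap.1 hi
  exact orbI_lt k i hk

theorem imgT_lt (ks : List ℕ) {r : ℕ} (hr : r < 72) : imgT ks r < 72 :=
  nroots72 ▸ slE6.imgW_lt (expand_lt ks) (nroots72.symm ▸ hr)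

theorem imgT_perm (ks : List ℕ) : ∃ w : List (Fin chevE6.rank), w.map Fin.val = expand ks ∧
    ∀ r (hr : r < chevE6.nroots), (slE6.good.wperm w ⟨r, hr⟩).val = imgT ks r := by
  obtain ⟨w, hw⟩ : ∃ w : List (Fin chevE6.rank), w.map Fin.val = expand ks :=
    ⟨(expand ks).pmap (fun i hi => ⟨i, hi⟩) (expand_lt ks), by simp [List.map_pmap]⟩
  exact ⟨w, hw, fun r hr => by rw [slE6.imgW_eq, hw]; rfl⟩

theorem imgT_inj (ks : List ℕ) {r s : ℕ} (hr : r < 72) (hs : s < 72) (h : imgT ks r = imgT ks s) : r = s := by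
  obtain ⟨w, -, hw⟩ := imgT_perm ks
  rw [← hw r (nroots72.symm ▸ hr), ← hw s (nroots72.symm ▸ hs)] at h
  exact congrArg Fin.val ((slE6.good.wperm w).injective (Fin.ext h))

theorem imgT_pr (ks : List ℕ) {r s : ℕ} (hr : r < 72) (hs : s < 72) : pr (imgT ks r) (imgT ks s) = pr r s := by
  obtain ⟨w, -, hw⟩ := imgT_perm ks
  rw [← hw r (nroots72.symm ▸ hr), ← hw s (nroots72.symm ▸ hs)]
  exact slE6.good.pair_wperm _ _ _

/-- The orbit reflections commute with the symmetry. -/
noncomputable def gensOK : Bool :=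
  allR (fun k => allR (fun r => Nat.beq (imgW sdataE6 (orbI k) (bar r)) (bar (imgW sdataE6 (orbI k) r))) (upto 72))
    (upto 4)

theorem gensOK_eq : gensOK = true := by decide +kernel

theorem imgT_bar : ∀ (ks : List ℕ) {r : ℕ}, r < 72 → imgT ks (bar r) = bar (imgT ks r)
  | [], _, _ => rfl
  | k :: ks, r, hr => by
    rw [show k :: ks = [k] ++ ks from rfl, imgT_append, imgT_append, imgT_bar ks hr]
    have h := imgT_lt ks hr
    obtain ⟨k', hk', e⟩ : ∃ k' < 4, orbI k = orbI k' := by
      rcases k with _ | _ | _ | _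
      · exact ⟨0, by norm_num, rfl⟩
      · exact ⟨1, by norm_num, rfl⟩
      · exact ⟨2, by norm_num, rfl⟩
      · exact ⟨3, by norm_num, rfl⟩
    have h' := allR_upto (allR_upto gensOK_eq hk') h
    rw [Nat.beq_eq] at h'
    simpa [imgT, expand, e] using h'

theorem imgT_orbR (ks : List ℕ) {r : ℕ} (hr : r < 72) : (orbR bar r).map (imgT ks) = orbR bar (imgT ks r) := by
  unfold orbR
  by_cases h : bar r = r
  · rw [if_pos h, if_pos (by rw [← imgT_bar ks hr, h])]; rfl
  · rw [if_neg h, if_neg (fun e => h (imgT_inj ks (glob hr).1 hr (by rw [imgT_bar ks hr, e])))]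
    simp [imgT_bar ks hr]

/-- The transition table is correct. -/
noncomputable def transOKT (i : ℕ) : Bool :=
  allR (fun r => !((nodesT.getD i []).all fun a =>
      Int.beq' (fpair chevE6 a r) 0 && Int.beq' (fpair chevE6 a (bar r)) 0) ||
    anyR (fun e => Nat.beq e.1 r && Nat.blt e.2.2 nodesT.length &&
      ((nodesT.getD i [] ++ orbR bar r).map (imgT e.2.1)).isPerm (nodesT.getD e.2.2 [])) (transT.getD i []))
    (upto 72)

theorem transT_ok : ∀ i < 8, transOKT i = true := by decide +kernel

/-- Every stable set of orthogonal roots is moved onto a node. -/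
theorem orth_nodeT : ∀ B : List ℕ, (∀ r ∈ B, r < 72) →
    (B.flatMap (orbR bar)).Pairwise (fun a b => pr a b = 0) →
    ∃ ks : List ℕ, ∃ i < 8, ((B.flatMap (orbR bar)).map (imgT ks)).Perm (nodesT.getD i []) := by
  intro B
  induction B with
  | nil => intro _ _; exact ⟨[], 0, by norm_num, by simp [nodesT]⟩
  | cons b B ih =>
    intro hB hp
    rw [List.flatMap_cons, List.pairwise_append] at hp
    have hb : b < 72 := hB b (by simp)
    have hflt : ∀ r ∈ B.flatMap (orbR bar), r < 72 := fun r hr => by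
      obtain ⟨c, hc, hr⟩ := List.mem_flatMap.1 hr
      have hc72 := hB c (by simp [hc])
      unfold orbR at hr
      split_ifs at hr <;> simp at hr
      · omega
      · rcases hr with rfl | rfl
        · exact hc72
        · exact (glob hc72).1
    obtain ⟨ks, i, hi, hperm⟩ := ih (fun r hr => hB r (by simp [hr])) hp.2.1
    obtain ⟨b', hb'⟩ : ∃ b', b' = imgT ks b := ⟨_, rfl⟩
    have hb72 : b' < 72 := hb' ▸ imgT_lt ks hb
    have horth : ∀ a ∈ nodesT.getD i [], fpair chevE6 a b' = 0 ∧ fpair chevE6 a (bar b') = 0 := by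
      intro a ha
      obtain ⟨c, hc, rfl⟩ := List.mem_map.1 (hperm.mem_iff.2 ha)
      have hc72 := hflt c hc
      have h1 : pr b c = 0 := hp.2.2 b (by unfold orbR; split_ifs <;> simp) c hc
      have h2 : pr (bar b) c = 0 := by
        by_cases hbb : bar b = b
        · rwa [hbb]
        · exact hp.2.2 (bar b) (by unfold orbR; rw [if_neg hbb]; simp) c hc
      rw [fp hb72, fp (glob hb72).1, hb', ← imgT_bar ks hb,
        show pair chevE6 (imgT ks c) (imgT ks b) = pr c b from imgT_pr ks hc72 hb,
        show pair chevE6 (imgT ks c) (imgT ks (bar b)) = pr c (bar b) from imgT_pr ks hc72 (glob hb).1]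
      have hc' : c < chevE6.nroots := nroots72.symm ▸ hc72
      exact ⟨(slE6.pair_symm hc' (nroots72.symm ▸ hb)).trans h1,
        (slE6.pair_symm hc' (nroots72.symm ▸ (glob hb).1)).trans h2⟩
    have ht := allR_upto (transT_ok i hi) hb72
    rw [Bool.or_eq_true] at ht
    rcases ht with ht | ht
    · exfalso
      rw [Bool.not_eq_true', ← Bool.not_eq_true, List.all_eq_true] at ht
      exact ht fun a ha => by simp [horth a ha]
    rw [anyR_eq, List.any_eq_true] at ht
    obtain ⟨⟨r, wd, j⟩, -, ht⟩ := ht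
    simp only [Bool.and_eq_true, Nat.beq_eq, Nat.blt, Nat.ble_eq, List.isPerm_iff] at ht
    obtain ⟨⟨hr, hj⟩, hpj⟩ := ht
    subst hr
    refine ⟨wd ++ ks, j, hj, List.Perm.trans ?_ hpj⟩
    rw [show (List.flatMap (orbR bar) (b :: B)).map (imgT (wd ++ ks)) =
      (((List.flatMap (orbR bar) (b :: B)).map (imgT ks))).map (imgT wd) by
        rw [List.map_map]; exact List.map_congr_left fun x _ => imgT_append wd ks x]
    refine List.Perm.map _ ?_
    rw [List.flatMap_cons, List.map_append, imgT_orbR ks hb, ← hb']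
    exact (List.Perm.append_left _ hperm).trans List.perm_append_comm

/-- Conjugation by orbit elements with coefficient one, then a word in the orbits. -/
noncomputable def moveT (m : List ℕ × List ℕ) (l : List ℕ) : Option (List ℕ) :=
  (m.1.foldl (fun o s => o.bind fun l =>
      if s < 72 then (stepR chevE6 s l).bind fun l1 => (normR chevE6 l1).bind fun l2 =>
        if bar s = s then some l2 else (stepR chevE6 (bar s) l2).bind (normR chevE6)
      else none) (some l)).bind fun o => normR chevE6 (o.map (imgT m.2))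

/-- A sequence of moves. -/
noncomputable def movesTR (ms : List (List ℕ × List ℕ)) (l : List ℕ) : Option (List ℕ) :=
  ms.foldl (fun o m => o.bind (moveT m)) (normR chevE6 l)

/-- A node reduces to one of the three representatives or to node two. -/
noncomputable def termOKT (i : ℕ) : Bool :=
  (nodesT.getD i []).all (fun a => Nat.blt a 72) &&
  match movesTR (movesT.getD i ([], 0)).1 (nodesT.getD i []), normR chevE6 (nodesT.getD (movesT.getD i ([], 0)).2 []) with
  | some a, some b => a == b && [0, 1, 2, 3, 5].contains (movesT.getD i ([], 0)).2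
  | _, _ => false

theorem termT_ok : ∀ i < 8, termOKT i = true := by decide +kernel

variable {K : Type*} [Field K] {q : ℕ}

/-- Conjugacy in the twisted group. -/
def TConj (q : ℕ) (x y : GL chevE6.Idx K) : Prop := ∃ z ∈ twistedE6 K q, z * x * z⁻¹ = y

theorem TConj.refl (x : GL chevE6.Idx K) : TConj q x x := ⟨1, one_mem _, by group⟩

theorem TConj.trans {x y w : GL chevE6.Idx K} (h : TConj q x y) (h' : TConj q y w) : TConj q x w := by
  obtain ⟨a, ha, rfl⟩ := h
  obtain ⟨b, hb, rfl⟩ := h'
  exact ⟨b * a, mul_mem hb ha, by group⟩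

/-- The product with coefficient one. -/
noncomputable abbrev P1 (K : Type*) [Field K] (l : List ℕ) : GL chevE6.Idx K := prodOne slE6.good K l

variable [CharP K 2] (C : Ctx K q)
include C

theorem orbG_mem {r : ℕ} (hr : r < 72) :
    (bar r = r → ∀ a : K, C.φ a = a → (goodE6.xG r a : GL chevE6.Idx K) ∈ twistedE6 K q) ∧
    (bar r ≠ r → ∀ a : K, (goodE6.xG r a * goodE6.xG (bar r) (C.φ a) : GL chevE6.Idx K) ∈ twistedE6 K q) := by
  obtain ⟨g1, g2, g3, g4, -⟩ := glob hr
  have key : ∀ y : ↥(chevE6.group K), C.T.σ y = y → ∀ (l : List (ℕ × K)),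
      (∀ p ∈ l, p.1 < 72 ∧ (36 ≤ r ↔ 36 ≤ p.1)) → y = vA xE l → (y : GL chevE6.Idx K) ∈ twistedE6 K q := by
    intro y hy l hl e
    have hfix : (y : GL chevE6.Idx K) ∈ C.T.fixed := (C.T.mem_fixed y).2 hy
    have hcoe : (y : GL chevE6.Idx K) = (l.map fun p => goodE6.xG p.1 p.2).prod := by
      rw [e, vA, ← Subgroup.coe_subtype, map_list_prod, List.map_map]
      exact congrArg List.prod (List.map_congr_left fun p hp => coe_xE (hl p hp).1 p.2)
    by_cases h36 : 36 ≤ r
    · refine C.hU (Subgroup.mem_inf.2 ⟨?_, hfix⟩)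
      rw [goodE6.posUnipotent_eq, hcoe]
      refine Subgroup.list_prod_mem _ fun z hz => ?_
      obtain ⟨p, hp, rfl⟩ := List.mem_map.1 hz
      exact goodE6.mem_rootGen (nroots72.symm ▸ (hl p hp).1)
        (show p.1 ∈ Set.Ici (half chevE6) from by rw [half36]; exact (hl p hp).2.1 h36) _
    · obtain ⟨n, hn, hn'⟩ := C.hlong
      have hmem : n * (y : GL chevE6.Idx K) * n⁻¹ ∈ twistedE6 K q := by
        refine C.hU (Subgroup.mem_inf.2 ⟨?_, ?_⟩)
        · rw [goodE6.posUnipotent_eq, hcoe]
          suffices ∀ l : List (ℕ × K), (∀ p ∈ l, p.1 < 36) →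
              n * (l.map fun p => goodE6.xG p.1 p.2).prod * n⁻¹ ∈ rootGen chevE6 K (Set.Ici (half chevE6)) from
            this l fun p hp => Nat.not_le.1 fun h => h36 ((hl p hp).2.2 h)
          intro l
          induction l with
          | nil => intro _; simp
          | cons p l ih =>
            intro h
            obtain ⟨r', h1, h2, c, hc⟩ := hn' p.1 (h p (by simp))
            rw [List.map_cons, List.prod_cons,
              show n * (goodE6.xG p.1 p.2 * (l.map fun p => goodE6.xG p.1 p.2).prod) * n⁻¹ =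
                (n * goodE6.xG p.1 p.2 * n⁻¹) * (n * (l.map fun p => goodE6.xG p.1 p.2).prod * n⁻¹) by group, hc]
            exact mul_mem (goodE6.mem_rootGen h2 (show r' ∈ Set.Ici (half chevE6) from by rw [half36]; exact h1) _)
              (ih fun q hq => h q (by simp [hq]))
        · exact mul_mem (mul_mem (C.hle hn) hfix) (inv_mem (C.hle hn))
      have : (y : GL chevE6.Idx K) = n⁻¹ * (n * (y : GL chevE6.Idx K) * n⁻¹) * n := by group
      rw [this]
      exact mul_mem (mul_mem (inv_mem hn) hmem) hn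
  constructor
  · intro hb a ha
    rw [← coe_xE hr]
    exact key _ (FHE_fixed C (S := {r}) (fun s hs => by rw [Set.mem_singleton_iff.1 hs]; exact hr)
      (Subgroup.subset_closure ⟨r, rfl, Or.inl ⟨hb, a, ha, rfl⟩⟩)) [(r, a)]
      (fun p hp => by simp only [List.mem_singleton] at hp; subst hp; exact ⟨hr, Iff.rfl⟩) (by simp [vA])
  · intro hb a
    rw [← coe_xE hr, ← coe_xE g1, ← Subgroup.coe_mul]
    refine key _ (FHE_fixed C (S := {r}) (fun s hs => by rw [Set.mem_singleton_iff.1 hs]; exact hr)
      (Subgroup.subset_closure ⟨r, rfl, Or.inr ⟨hb, a, rfl⟩⟩)) [(r, a), (bar r, C.φ a)]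
      (fun p hp => ?_) (by simp [vA])
    simp only [List.mem_cons, List.not_mem_nil, or_false] at hp
    rcases hp with rfl | rfl
    · exact ⟨hr, Iff.rfl⟩
    · refine ⟨g1, g4, fun h => ?_⟩
      have := (glob g1).2.2.2.1 h
      rwa [g2] at this

theorem word_mem : ∀ (ks : List ℕ) (w : List (Fin chevE6.rank)), w.map Fin.val = expand ks →
    (goodE6.wordN w : GL chevE6.Idx K) ∈ twistedE6 K q := by
  intro ks
  induction ks with
  | nil =>
    intro w hw
    obtain rfl : w = [] := List.map_eq_nil_iff.1 hw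
    simpa [Good.wordN] using one_mem (twistedE6 K q)
  | cons k ks ih =>
    intro w hw
    rw [expand, List.flatMap_cons] at hw
    obtain ⟨w1, w2, rfl, e1, e2⟩ := List.map_eq_append_iff.1 hw
    obtain ⟨k', hk'⟩ : ∃ k' : Fin 4, (orbE6 k').map Fin.val = orbI k := by
      rcases k with _ | _ | _ | _
      · exact ⟨0, rfl⟩
      · exact ⟨1, rfl⟩
      · exact ⟨2, rfl⟩
      · exact ⟨3, rfl⟩
    obtain rfl : w1 = orbE6 k' := (List.map_injective_iff.2 Fin.val_injective) (e1.trans hk'.symm)
    rw [show (goodE6.wordN (orbE6 k' ++ w2) : GL chevE6.Idx K) = goodE6.wordN (orbE6 k') * goodE6.wordN w2 by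
      simp [Good.wordN]]
    exact mul_mem (C.hword k') (ih w2 e2)

theorem word_conj {ks : List ℕ} {w : List (Fin chevE6.rank)} (hw : w.map Fin.val = expand ks) (l : List ℕ)
    (hl : ∀ a ∈ l, a < 72) :
    (goodE6.wordN w : GL chevE6.Idx K) * P1 K l * (goodE6.wordN w)⁻¹ = P1 K (l.map (imgT ks)) := by
  have key2 : ∀ r ∈ l, MulAut.conj (goodE6.wordN w : GL chevE6.Idx K) (slE6.good.xG r 1) =
      slE6.good.xG (imgT ks r) 1 := by
    intro r hr
    obtain ⟨η, hη, e, -⟩ := InvolMono.sgn_wordN (F := K) slE6.good w ⟨r, nroots72.symm ▸ hl r hr⟩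
    have h1 : (η : K) = 1 := by
      have h2 : (η : K) * η = 1 := by rw [← Units.val_mul, hη, Units.val_one]
      have h3 : ((η : K) - 1) * ((η : K) - 1) = 0 := by
        linear_combination h2 + (1 - (η : K)) * (CharTwo.two_eq_zero (R := K))
      exact sub_eq_zero.1 (mul_self_eq_zero.1 h3)
    rw [MulAut.conj_apply, e, slE6.imgW_eq, hw, h1, one_mul]
    rfl
  show MulAut.conj (goodE6.wordN w : GL chevE6.Idx K) (P1 K l) = _
  rw [P1, prodOne, map_list_prod, P1, prodOne, List.map_map, List.map_map]
  exact congrArg List.prod (List.map_congr_left fun r hr => key2 r hr)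

theorem moveT_sound {m : List ℕ × List ℕ} {l o : List ℕ} (hl : ∀ a ∈ l, a < 72) (e : moveT m l = some o) :
    (∀ a ∈ o, a < 72) ∧ TConj q (P1 K l) (P1 K o) := by
  have hn : ∀ {l : List ℕ}, (∀ a ∈ l, a < 72) → ∀ a ∈ l, a < chevE6.nroots := fun h a ha => nroots72.symm ▸ h a ha
  have hn' : ∀ {l : List ℕ}, (∀ a ∈ l, a < chevE6.nroots) → ∀ a ∈ l, a < 72 := fun h a ha => nroots72 ▸ h a ha
  simp only [moveT, Option.bind_eq_some_iff] at e
  obtain ⟨o1, e1, e2⟩ := e
  have key : ∀ (ss : List ℕ) (l : List ℕ), (∀ a ∈ l, a < 72) → ∀ o1,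
      ss.foldl (fun o s => o.bind fun l =>
        if s < 72 then (stepR chevE6 s l).bind fun l1 => (normR chevE6 l1).bind fun l2 =>
          if bar s = s then some l2 else (stepR chevE6 (bar s) l2).bind (normR chevE6)
        else none) (some l) = some o1 → (∀ a ∈ o1, a < 72) ∧ TConj q (P1 K l) (P1 K o1) := by
    intro ss
    induction ss with
    | nil => intro l hl o1 e; simp only [List.foldl_nil, Option.some.injEq] at e; subst e; exact ⟨hl, .refl _⟩
    | cons s ss ih =>
      intro l hl o1 e
      rw [List.foldl_cons, Option.bind_some] at e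
      split at e
      swap
      · exfalso
        have : ∀ ss : List ℕ, ss.foldl (fun o s => o.bind fun l =>
            if s < 72 then (stepR chevE6 s l).bind fun l1 => (normR chevE6 l1).bind fun l2 =>
              if bar s = s then some l2 else (stepR chevE6 (bar s) l2).bind (normR chevE6)
            else none) none = none := fun ss => by induction ss <;> simp [*]
        rw [this] at e
        simp at e
      next hs =>
      cases e0 : ((stepR chevE6 s l).bind fun l1 => (normR chevE6 l1).bind fun l2 =>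
          if bar s = s then some l2 else (stepR chevE6 (bar s) l2).bind (normR chevE6)) with
      | none =>
        exfalso
        rw [e0] at e
        have : ∀ ss : List ℕ, ss.foldl (fun o s => o.bind fun l =>
            if s < 72 then (stepR chevE6 s l).bind fun l1 => (normR chevE6 l1).bind fun l2 =>
              if bar s = s then some l2 else (stepR chevE6 (bar s) l2).bind (normR chevE6)
            else none) none = none := fun ss => by induction ss <;> simp [*]
        rw [this] at e
        simp at e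
      | some o2 =>
        rw [e0] at e
        simp only [Option.bind_eq_some_iff] at e0
        obtain ⟨l1, a1, l2, a2, a3⟩ := e0
        obtain ⟨b1, p1⟩ := slE6.stepR_sound (F := K) (nroots72.symm ▸ hs) _ _ (hn hl) a1
        obtain ⟨b2, p2⟩ := slE6.normR_sound (F := K) _ _ b1 a2
        suffices h : (∀ a ∈ o2, a < 72) ∧ TConj q (P1 K l) (P1 K o2) by
          obtain ⟨h3, c3⟩ := ih o2 h.1 o1 e
          exact ⟨h3, h.2.trans c3⟩
        split at a3
        · next hb =>
          simp only [Option.some.injEq] at a3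
          subst a3
          exact ⟨hn' b2, ⟨_, (orbG_mem C hs).1 hb 1 (map_one _), (p2.trans p1).symm⟩⟩
        · next hb =>
          simp only [Option.bind_eq_some_iff] at a3
          obtain ⟨l3, a4, a5⟩ := a3
          obtain ⟨b3, p3⟩ := slE6.stepR_sound (F := K) (nroots72.symm ▸ (glob hs).1) _ _ b2 a4
          obtain ⟨b4, p4⟩ := slE6.normR_sound (F := K) _ _ b3 a5
          refine ⟨hn' b4, ⟨slE6.good.xG (bar s) (1 : K) * slE6.good.xG s 1, ?_, ?_⟩⟩
          · have h1 := (orbG_mem C hs).2 hb 1
            rw [map_one] at h1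
            have hc : Commute (xE (bar s) (1 : K)) (xE s 1) :=
              (comm01 hs (glob hs).1 (Or.inl ((glob hs).2.2.1 hb).1) 1 1).symm
            have h2 := congrArg Subtype.val hc.eq
            rw [Subgroup.coe_mul, Subgroup.coe_mul, coe_xE hs, coe_xE (glob hs).1] at h2
            exact h2 ▸ h1
          · show _ * prodOne slE6.good K l * _ = prodOne slE6.good K o2
            rw [p4, p3, p2, p1]; group
  obtain ⟨h1, c1⟩ := key m.1 l hl o1 e1
  obtain ⟨w, hw, -⟩ := imgT_perm m.2
  have hmap : ∀ a ∈ o1.map (imgT m.2), a < chevE6.nroots := fun a ha => by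
    obtain ⟨r, hr, rfl⟩ := List.mem_map.1 ha
    exact nroots72.symm ▸ imgT_lt m.2 (h1 r hr)
  obtain ⟨h5, p5⟩ := slE6.normR_sound (F := K) _ _ hmap e2
  refine ⟨hn' h5, c1.trans ⟨goodE6.wordN w, word_mem C _ w hw, ?_⟩⟩
  rw [show P1 K o = P1 K (o1.map (imgT m.2)) from p5]
  exact word_conj C hw o1 h1

theorem movesT_sound : ∀ (ms : List (List ℕ × List ℕ)) (l o : List ℕ), (∀ a ∈ l, a < 72) →
    movesTR ms l = some o → (∀ a ∈ o, a < 72) ∧ TConj q (P1 K l) (P1 K o) := by
  intro ms
  induction ms using List.reverseRecOn with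
  | nil =>
    intro l o hl e
    obtain ⟨h1, p1⟩ := slE6.normR_sound (F := K) l o (fun a ha => nroots72.symm ▸ hl a ha) e
    exact ⟨fun a ha => nroots72 ▸ h1 a ha, by rw [P1, P1, p1]; exact .refl _⟩
  | append_singleton ms m ih =>
    intro l o hl e
    simp only [movesTR, List.foldl_append, List.foldl_cons, List.foldl_nil, Option.bind_eq_some_iff] at e
    obtain ⟨o', e1, e2⟩ := e
    obtain ⟨h1, c1⟩ := ih l o' hl e1
    obtain ⟨h2, c2⟩ := moveT_sound C h1 e2
    exact ⟨h2, c1.trans c2⟩

end CfsgLib.Chev.TwE6Invol
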