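import Mathlib
import Cfsg.Agent.Lib.Chev.TwE6InvolSets

/-!
²E₆(q), q even, has exactly three classes of involutions.
-/

set_option autoImplicit false
set_option maxRecDepth 100000
set_option linter.unusedSectionVars false

namespace CfsgLib.Chev.TwE6Invol

open Cfsg.Lie CfsgLib.Chev.SLInvol

variable {K : Type*} [Field K] [CharP K 2] {q : ℕ} (C : Ctx K q)
include C

theorem rts_lt {B : List (ℕ × K)} (h : ∀ p ∈ B, p.1 < 72) : ∀ r ∈ rts B, r < 72 := fun r hr => by
  obtain ⟨p, hp, hr⟩ := List.mem_flatMap.1 hr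
  unfold orbR at hr
  split_ifs at hr <;> simp at hr
  · have := h p hp; omega
  · rcases hr with rfl | rfl
    · exact h p hp
    · exact (glob (h p hp)).1

/-- The torus element of an orbit, and the normalised coefficient. -/
theorem scale [Fintype K] {r : ℕ} (hr : r < 72) {t : K} (ht : t ≠ 0) (hfix : bar r = r → C.φ t = t) :
    ∃ k ∈ twistedE6 K q, (∀ p < 72, pr r p = 0 → pr (bar r) p = 0 → ∀ u : K,
        k * goodE6.xG p u * k⁻¹ = goodE6.xG p u) ∧
      k * vA (fun r t => goodE6.xG r t) (orb bar C.φ (r, t)) * k⁻¹ = P1 K (orbR bar r) := by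
  obtain ⟨g1, g2, g3, -, -⟩ := glob hr
  have hn : r < chevE6.nroots := nroots72.symm ▸ hr
  have hbn : bar r < chevE6.nroots := nroots72.symm ▸ g1
  have hnr : chevE6.neg r < 72 := nroots72 ▸ goodE6.neg_lt hn
  obtain ⟨s, hs⟩ := FiniteField.isSquare_of_char_two (ringChar.eq K 2) t
  have hs0 : s ≠ 0 := fun e => ht (by rw [hs, e, mul_zero])
  obtain ⟨v, hv⟩ : ∃ v : Kˣ, v = (Units.mk0 s hs0)⁻¹ := ⟨_, rfl⟩
  have hvv : (v : K) * v * t = 1 := by
    rw [hv, Units.val_inv_eq_inv_val, Units.val_mk0, hs]; field_simp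
  have hneg_bar : bar (chevE6.neg r) = chevE6.neg (bar r) := by
    have := congrArg Fin.val (C.T.ρ_nroot ⟨r, hn⟩)
    rw [C.hρ] at this
    exact this.trans (congrArg chevE6.neg (C.hρ r hn))
  by_cases hb : bar r = r
  · have hvfix : C.φ (v : K) = v := by
      have h1 : C.φ s * C.φ s = s * s := by rw [← map_mul, ← hs, hfix hb]
      have h2 : (C.φ s - s) * (C.φ s - s) = 0 := by
        linear_combination h1 + (s * s - s * C.φ s) * (CharTwo.two_eq_zero (R := K))
      rw [hv, Units.val_inv_eq_inv_val, map_inv₀, Units.val_mk0, sub_eq_zero.1 (mul_self_eq_zero.1 h2)]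
    have hnfix : bar (chevE6.neg r) = chevE6.neg r := by rw [hneg_bar, hb]
    have hN : ∀ u : Kˣ, C.φ (u : K) = u → (goodE6.nG r u : GL chevE6.Idx K) ∈ twistedE6 K q := by
      intro u hu
      refine mul_mem (mul_mem ((orbG_mem C hr).1 hb _ hu) ((orbG_mem C hnr).1 hnfix _ ?_)) ((orbG_mem C hr).1 hb _ hu)
      rw [map_neg, Units.val_inv_eq_inv_val, map_inv₀, hu]
    refine ⟨goodE6.hG r v, ?_, ?_, ?_⟩
    · rw [goodE6.hG_eq hn]
      exact mul_mem (hN v hvfix) (hN (-1) (by simp))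
    · intro p hp h1 _ u
      rw [goodE6.hG_conj_xG (nroots72.symm ▸ hp), show pair chevE6 r p = 0 from h1, zpow_zero, Units.val_one, one_mul]
    · simp only [orb, orbR, if_pos hb, vA, P1, prodOne, List.map_cons, List.map_nil, List.prod_cons, List.prod_nil,
        mul_one]
      rw [goodE6.hG_conj_xG hn, slE6.pair_self hn, Units.val_zpow_eq_zpow_val, zpow_two, hvv]
  · obtain ⟨w, hw⟩ : ∃ w : Kˣ, w = Units.map C.φ.toMonoidHom v := ⟨_, rfl⟩
    have hwval : (w : K) = C.φ v := by rw [hw]; rfl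
    have hb' : bar (chevE6.neg r) ≠ chevE6.neg r := fun e => hb (by
      have h1 := congrArg chevE6.neg (hneg_bar.symm.trans e)
      rwa [neg_neg' hr, neg_neg' g1] at h1)
    have hN : ∀ u : Kˣ, (goodE6.nG r u * goodE6.nG (bar r) (Units.map C.φ.toMonoidHom u) : GL chevE6.Idx K) ∈
        twistedE6 K q := by
      intro u
      obtain ⟨u', hu'⟩ : ∃ u' : Kˣ, u' = Units.map C.φ.toMonoidHom u := ⟨_, rfl⟩
      have hval : (u' : K) = C.φ u := by rw [hu']; rfl
      have m1 := (orbG_mem C hr).2 hb (u : K)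
      have m2 := (orbG_mem C hnr).2 hb' (-((u⁻¹ : Kˣ) : K))
      rw [← hval] at m1
      rw [hneg_bar, map_neg, show C.φ ((u⁻¹ : Kˣ) : K) = ((u'⁻¹ : Kˣ) : K) by
        rw [Units.val_inv_eq_inv_val, Units.val_inv_eq_inv_val, map_inv₀, hval]] at m2
      rw [← hu']
      obtain ⟨hp0, hne0⟩ := g3 hb
      have hnb72 : chevE6.neg (bar r) < 72 := nroots72 ▸ goodE6.neg_lt hbn
      have cm : ∀ (a b : ℕ), a < 72 → b < 72 → pr a b = 0 → ∀ x y : K,
          Commute (goodE6.xG a x) (goodE6.xG b y) := by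
        intro a b ha hb h x y
        have := congrArg Subtype.val (comm01 (K := K) ha hb (Or.inl h) x y).eq
        rwa [Subgroup.coe_mul, Subgroup.coe_mul, coe_xE ha, coe_xE hb] at this
      have p1 : pr (chevE6.neg r) (bar r) = 0 := by
        rw [show pr (chevE6.neg r) (bar r) = - pair chevE6 r (bar r) from slE6.pair_neg_left hn hbn, hp0, neg_zero]
      have p2 : pr r (chevE6.neg (bar r)) = 0 := by
        rw [show pr r (chevE6.neg (bar r)) = pair chevE6 (chevE6.neg (bar r)) r from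
          slE6.pair_symm hn (slE6.good.neg_lt hbn), slE6.pair_neg_left hbn hn, slE6.pair_symm hbn hn, hp0, neg_zero]
      obtain ⟨A, hA⟩ : ∃ A, A = goodE6.xG r (u : K) := ⟨_, rfl⟩
      obtain ⟨B, hB⟩ : ∃ B, B = goodE6.xG (bar r) (u' : K) := ⟨_, rfl⟩
      obtain ⟨A', hA'⟩ : ∃ A, A = goodE6.xG (chevE6.neg r) (-((u⁻¹ : Kˣ) : K)) := ⟨_, rfl⟩
      obtain ⟨B', hB'⟩ : ∃ B, B = goodE6.xG (chevE6.neg (bar r)) (-((u'⁻¹ : Kˣ) : K)) := ⟨_, rfl⟩
      have c1 : Commute A B := hA ▸ hB ▸ cm r (bar r) hr g1 hp0 _ _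
      have c2 : Commute A' B := hA' ▸ hB ▸ cm _ _ hnr g1 p1 _ _
      have c3 : Commute A B' := hA ▸ hB' ▸ cm _ _ hr hnb72 p2 _ _
      show goodE6.xG r (u : K) * goodE6.xG (chevE6.neg r) (-((u⁻¹ : Kˣ) : K)) * goodE6.xG r (u : K) *
        (goodE6.xG (bar r) (u' : K) * goodE6.xG (chevE6.neg (bar r)) (-((u'⁻¹ : Kˣ) : K)) *
          goodE6.xG (bar r) (u' : K)) ∈ _
      rw [← hA, ← hA', ← hB, ← hB']
      have e : A * A' * A * (B * B' * B) = A * B * (A' * B') * (A * B) := by
        calc A * A' * A * (B * B' * B) = A * A' * (A * B) * B' * B := by group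
          _ = A * A' * (B * A) * B' * B := by rw [c1.eq]
          _ = A * (A' * B) * (A * B') * B := by group
          _ = A * (B * A') * (B' * A) * B := by rw [c2.eq, c3.eq]
          _ = _ := by group
      rw [e]
      subst hA hA' hB hB'
      exact mul_mem (mul_mem m1 m2) m1
    refine ⟨goodE6.hG r v * goodE6.hG (bar r) w, ?_, ?_, ?_⟩
    · have e : (goodE6.hG r v * goodE6.hG (bar r) w : GL chevE6.Idx K) =
          (goodE6.nG r v * goodE6.nG (bar r) w) * (goodE6.nG r (-1) * goodE6.nG (bar r) (-1)) := by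
        rw [goodE6.hG_eq hn, goodE6.hG_eq hbn]
        have hc : Commute (goodE6.nG r (-1) : GL chevE6.Idx K) (goodE6.nG (bar r) w) := by
          have cm : ∀ (a b : ℕ), a < 72 → b < 72 → pr a b = 0 → ∀ x y : K,
              Commute (goodE6.xG a x) (goodE6.xG b y) := by
            intro a b ha hb h x y
            have := congrArg Subtype.val (comm01 (K := K) ha hb (Or.inl h) x y).eq
            rwa [Subgroup.coe_mul, Subgroup.coe_mul, coe_xE ha, coe_xE hb] at this
          obtain ⟨hp0, -⟩ := g3 hb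
          have q1 : pr (chevE6.neg r) (bar r) = 0 := by
            rw [show pr (chevE6.neg r) (bar r) = - pair chevE6 r (bar r) from slE6.pair_neg_left hn hbn, hp0, neg_zero]
          have q2 : pr r (chevE6.neg (bar r)) = 0 := by
            rw [show pr r (chevE6.neg (bar r)) = pair chevE6 (chevE6.neg (bar r)) r from
              slE6.pair_symm hn (slE6.good.neg_lt hbn), slE6.pair_neg_left hbn hn, slE6.pair_symm hbn hn, hp0, neg_zero]
          have q3 : pr (chevE6.neg r) (chevE6.neg (bar r)) = 0 := by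
            rw [show pr (chevE6.neg r) (chevE6.neg (bar r)) = - pair chevE6 r (chevE6.neg (bar r)) from
              slE6.pair_neg_left hn (slE6.good.neg_lt hbn), show pair chevE6 r (chevE6.neg (bar r)) = 0 from q2,
              neg_zero]
          have hnb : chevE6.neg (bar r) < 72 := nroots72 ▸ goodE6.neg_lt hbn
          have row : ∀ a, (a = bar r ∨ a = chevE6.neg (bar r)) → ∀ y : K,
              Commute (goodE6.nG r (-1) : GL chevE6.Idx K) (goodE6.xG a y) := by
            intro a ha y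
            rw [Good.nG]
            rcases ha with rfl | rfl
            · exact ((cm _ _ hr g1 hp0 _ _).mul_left (cm _ _ hnr g1 q1 _ _)).mul_left (cm _ _ hr g1 hp0 _ _)
            · exact ((cm _ _ hr hnb q2 _ _).mul_left (cm _ _ hnr hnb q3 _ _)).mul_left (cm _ _ hr hnb q2 _ _)
          show Commute _ (goodE6.xG (bar r) (w : K) * goodE6.xG (chevE6.neg (bar r)) _ * goodE6.xG (bar r) (w : K))
          exact ((row _ (Or.inl rfl) _).mul_right (row _ (Or.inr rfl) _)).mul_right (row _ (Or.inl rfl) _)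
        calc goodE6.nG r v * goodE6.nG r (-1) * (goodE6.nG (bar r) w * goodE6.nG (bar r) (-1))
            = goodE6.nG r v * (goodE6.nG r (-1) * goodE6.nG (bar r) w) * goodE6.nG (bar r) (-1) := by group
          _ = _ := by rw [hc.eq]; group
      rw [e]
      refine mul_mem (hw ▸ hN v) ?_
      have h1 := hN (-1)
      rwa [show Units.map C.φ.toMonoidHom (-1 : Kˣ) = -1 from Units.ext (by simp)] at h1
    · intro p hp h1 h2 u
      rw [show goodE6.hG r v * goodE6.hG (bar r) w * goodE6.xG p u * (goodE6.hG r v * goodE6.hG (bar r) w)⁻¹ =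
        goodE6.hG r v * (goodE6.hG (bar r) w * goodE6.xG p u * (goodE6.hG (bar r) w)⁻¹) * (goodE6.hG r v)⁻¹ by group,
        goodE6.hG_conj_xG (nroots72.symm ▸ hp), show pair chevE6 (bar r) p = 0 from h2, zpow_zero, Units.val_one,
        one_mul, goodE6.hG_conj_xG (nroots72.symm ▸ hp), show pair chevE6 r p = 0 from h1, zpow_zero, Units.val_one,
        one_mul]
    · obtain ⟨hp0, -⟩ := g3 hb
      have hp0' : pair chevE6 (bar r) r = 0 := by rw [slE6.pair_symm hbn hn]; exact hp0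
      simp only [orb, orbR, if_neg hb, vA, P1, prodOne, List.map_cons, List.map_nil, List.prod_cons, List.prod_nil,
        mul_one]
      have e : ∀ (p : ℕ) (hp : p < chevE6.nroots) (u : K),
          goodE6.hG r v * goodE6.hG (bar r) w * goodE6.xG p u * (goodE6.hG r v * goodE6.hG (bar r) w)⁻¹ =
          goodE6.xG p (((v ^ pair chevE6 r p : Kˣ) : K) * (((w ^ pair chevE6 (bar r) p : Kˣ) : K) * u)) := by
        intro p hp u
        rw [show goodE6.hG r v * goodE6.hG (bar r) w * goodE6.xG p u * (goodE6.hG r v * goodE6.hG (bar r) w)⁻¹ =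
          goodE6.hG r v * (goodE6.hG (bar r) w * goodE6.xG p u * (goodE6.hG (bar r) w)⁻¹) * (goodE6.hG r v)⁻¹ by group,
          goodE6.hG_conj_xG hp, goodE6.hG_conj_xG hp]
      obtain ⟨k, hk⟩ : ∃ k, k = (goodE6.hG r v * goodE6.hG (bar r) w : GL chevE6.Idx K) := ⟨_, rfl⟩
      rw [← hk] at e ⊢
      rw [show k * (goodE6.xG r t * goodE6.xG (bar r) (C.φ t)) * k⁻¹ =
        (k * goodE6.xG r t * k⁻¹) * (k * goodE6.xG (bar r) (C.φ t) * k⁻¹) by group, e r hn, e (bar r) hbn,
        slE6.pair_self hn, slE6.pair_self hbn, hp0', hp0, zpow_zero, zpow_zero, Units.val_one, one_mul, one_mul,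
        Units.val_zpow_eq_zpow_val, Units.val_zpow_eq_zpow_val, zpow_two, zpow_two, hvv, hwval, ← map_mul, ← map_mul,
        hvv, map_one]
where
  neg_neg' {r : ℕ} (hr : r < 72) : chevE6.neg (chevE6.neg r) = r :=
    congrArg Fin.val (goodE6.nroot_nroot ⟨r, nroots72.symm ▸ hr⟩)

/-- Coefficients can be normalised. -/
theorem normalise [Fintype K] : ∀ B : List (ℕ × K),
    (∀ p ∈ B, p.1 < 72 ∧ p.2 ≠ 0 ∧ (bar p.1 = p.1 → C.φ p.2 = p.2)) →
    ((rts B).Pairwise fun a b => pr a b = 0) →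
    ∃ z ∈ twistedE6 K q, z * vA (fun r t => goodE6.xG r t) (B.flatMap (orb bar C.φ)) * z⁻¹ = P1 K (rts B) ∧
      ∀ p < 72, (∀ r ∈ rts B, pr r p = 0) → ∀ u : K, z * goodE6.xG p u * z⁻¹ = goodE6.xG p u := by
  intro B
  induction B with
  | nil => intro _ _; exact ⟨1, one_mem _, by simp [vA, rts, P1, prodOne], fun p _ _ u => by group⟩
  | cons b B ih =>
    intro hB hp
    rw [rts, List.flatMap_cons, List.pairwise_append] at hp
    obtain ⟨r, t⟩ := b
    obtain ⟨hr, ht, hfix⟩ := hB (r, t) (by simp)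
    obtain ⟨z, hz, ez, zc⟩ := ih (fun p hp => hB p (by simp [hp])) hp.2.1
    obtain ⟨k, hk, kc, ek⟩ := scale C hr ht hfix
    have hmem : ∀ a, a ∈ orbR bar r → a = r ∨ a = bar r := fun a ha => by
      unfold orbR at ha; split_ifs at ha <;> simp at ha <;> tauto
    have hsym : ∀ {a c : ℕ}, a < 72 → c < 72 → pr a c = 0 → pr c a = 0 := fun ha hc h =>
      (slE6.pair_symm (nroots72.symm ▸ hc) (nroots72.symm ▸ ha)).trans h
    have hr72 : ∀ a ∈ rts B, a < 72 := rts_lt C fun p hp => (hB p (by simp [hp])).1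
    have hzorb : z * vA (fun r t => goodE6.xG r t) (orb bar C.φ (r, t)) * z⁻¹ =
        vA (fun r t => goodE6.xG r t) (orb bar C.φ (r, t)) := by
      rw [← MulAut.conj_apply, vA, map_list_prod, List.map_map]
      refine congrArg List.prod (List.map_congr_left fun p hp' => ?_)
      have hm : p.1 ∈ orbR bar r := orb_map bar C.φ (r, t) ▸ List.mem_map.2 ⟨p, hp', rfl⟩
      have hp72 : p.1 < 72 := by rcases hmem _ hm with h | h <;> rw [h]; exacts [hr, (glob hr).1]
      exact zc p.1 hp72 (fun a ha => hsym hp72 (hr72 a ha) (hp.2.2 _ hm a ha)) p.2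
    have hkB : k * P1 K (rts B) * k⁻¹ = P1 K (rts B) := by
      rw [← MulAut.conj_apply, P1, prodOne, map_list_prod, List.map_map]
      refine congrArg List.prod (List.map_congr_left fun a ha => ?_)
      refine kc a (hr72 a ha) (hp.2.2 r (by unfold orbR; split_ifs <;> simp) a ha) ?_ 1
      by_cases hbb : bar r = r
      · rw [hbb]; exact hp.2.2 r (by unfold orbR; rw [if_pos hbb]; simp) a ha
      · exact hp.2.2 (bar r) (by unfold orbR; rw [if_neg hbb]; simp) a ha
    refine ⟨k * z, mul_mem hk hz, ?_, fun p hp' hall u => ?_⟩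
    · obtain ⟨O, hO⟩ : ∃ O, O = vA (fun r t => goodE6.xG r t) (orb bar C.φ (r, t)) := ⟨_, rfl⟩
      rw [List.flatMap_cons, vA_append, ← hO,
        show k * z * (O * vA (fun r t => goodE6.xG r t) (B.flatMap (orb bar C.φ))) * (k * z)⁻¹ =
          (k * (z * O * z⁻¹) * k⁻¹) * (k * (z * vA (fun r t => goodE6.xG r t) (B.flatMap (orb bar C.φ)) * z⁻¹) * k⁻¹) by
            group, hO, hzorb, ek, ez, hkB]
      simp [P1, prodOne, rts]
    · rw [show k * z * goodE6.xG p u * (k * z)⁻¹ = k * (z * goodE6.xG p u * z⁻¹) * k⁻¹ by group,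
        zc p hp' fun a ha => hall a (by rw [rts, List.flatMap_cons]; exact List.mem_append.2 (Or.inr ha))]
      refine kc p hp' (hall r ?_) ?_ u
      · rw [rts, List.flatMap_cons]; refine List.mem_append.2 (Or.inl ?_); unfold orbR; split_ifs <;> simp
      · by_cases hbb : bar r = r
        · rw [hbb]
          refine hall r ?_
          rw [rts, List.flatMap_cons]; refine List.mem_append.2 (Or.inl ?_); unfold orbR; rw [if_pos hbb]; simp
        · refine hall (bar r) ?_
          rw [rts, List.flatMap_cons]; refine List.mem_append.2 (Or.inl ?_); unfold orbR; rw [if_neg hbb]; simp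

/-- Fixed elements of a level are products of orbit elements. -/
theorem fixed_mem_FH : ∀ k ≤ 4, ∀ y ∈ X (xq (K := K)) (Mset k), σq C y = y →
    y ∈ FH (xq (K := K)) bar C.φ (Mset k) := by
  intro k hk
  induction h : 4 - k generalizing k with
  | zero =>
    intro y hy _
    obtain rfl : k = 4 := by omega
    have he : Mset 4 = ∅ := Set.eq_empty_iff_forall_notMem.2 fun r ⟨h1, h2, h3⟩ => by
      have := allR_upto edgeOK_eq h2
      simp only [Bool.or_eq_true, Bool.and_eq_true, Nat.blt_eq, Bool.not_eq_true'] at this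
      rcases this with h | h
      · omega
      · rw [h.1] at h3; exact Bool.noConfusion h3
    rw [he, X, show ({g | ∃ r ∈ (∅ : Set ℕ), ∃ t : K, g = xq r t} : Set (Quot71 K)) = ∅ from
      Set.eq_empty_iff_forall_notMem.2 fun g ⟨r, hr, _⟩ => hr, Subgroup.closure_empty, Subgroup.mem_bot] at hy
    rw [hy]; exact one_mem _
  | succ n ih =>
    intro y hy hfix
    have hk4 : k < 4 := by omega
    obtain ⟨A, hA⟩ : ∃ A, A = sigAct C hk4 := ⟨_, rfl⟩
    have hMb : ∀ s ∈ Mset (k + 1), bar s ∈ Mset (k + 1) := fun s hs => (Mset_facts hs (by omega)).2.1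
    have hML : Mset (k + 1) ⊆ {s | s ∈ Lk k} := fun s hs => mem_Lk.2 ⟨hs.2.1, hs.2.2⟩
    have conjM : ∀ g ∈ X (xq (K := K)) (Mset (k + 1)), ∀ f : ℕ → K, ∃ f', g * ev xq (Qk k) f * g⁻¹ = ev xq (Qk k) f' := by
      intro g hg
      induction hg using Subgroup.closure_induction_left with
      | one => exact fun f => ⟨f, by group⟩
      | mul_left y hy z _ ih =>
        obtain ⟨s, hs, t, rfl⟩ := hy
        intro f
        obtain ⟨f', e⟩ := ih f
        exact ⟨A.M s t f', by rw [← A.conj_ev (hML hs), ← e]; group⟩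
      | inv_mul_cancel y hy z _ ih =>
        obtain ⟨s, hs, t, rfl⟩ := hy
        intro f
        obtain ⟨f', e⟩ := ih f
        exact ⟨A.M s t f', by rw [A.R.inv, ← A.conj_ev (hML hs), ← e]; group⟩
    have key : ∀ z ∈ X (xq (K := K)) (Mset k), ∃ v ∈ X (xq (K := K)) (Mset (k + 1)), ∃ f, z = v * ev xq (Qk k) f := by
      intro z hz
      have gen : ∀ r ∈ Mset k, ∀ t : K, ∀ z, (∃ v ∈ X (xq (K := K)) (Mset (k + 1)), ∃ f, z = v * ev xq (Qk k) f) →
          ∃ v ∈ X (xq (K := K)) (Mset (k + 1)), ∃ f, xq r t * z = v * ev xq (Qk k) f := by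
        rintro r hr t z ⟨v, hv, f, rfl⟩
        by_cases hz' : zc (k + 1) r = true
        · exact ⟨xq r t * v, mul_mem (mem_X (⟨hr.1, hr.2.1, hz'⟩ : r ∈ Mset (k + 1)) t) hv, f, by group⟩
        by_cases h71 : r = 71
        · refine ⟨v, hv, f, ?_⟩
          subst h71
          have h1 : xq 71 t = 1 := by
            rw [xq_mk (Mset_facts hr (by omega)).2.2.1]
            exact (QuotientGroup.eq_one_iff _).2 (Subgroup.mem_subgroupOf.2 (mem_X (Set.mem_singleton 71) t))
          rw [h1, one_mul]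
        have hrQ : r ∈ Qk k := mem_Qk.2 ⟨⟨hr.1, hr.2.1⟩, hr.2.2, Bool.not_eq_true _ ▸ hz', h71⟩
        obtain ⟨f', e⟩ := conjM v⁻¹ (inv_mem hv) (Pi.single r t)
        refine ⟨v, hv, f' + f, ?_⟩
        rw [A.R.ev_add, ← e, A.R.ev_single hrQ, inv_inv]; group
      induction hz using Subgroup.closure_induction_left with
      | one => exact ⟨1, one_mem _, 0, by rw [A.R.ev_zero, one_mul]⟩
      | mul_left g hg z _ ih => obtain ⟨r, hr, t, rfl⟩ := hg; exact gen r hr t z ih
      | inv_mul_cancel g hg z _ ih => obtain ⟨r, hr, t, rfl⟩ := hg; rw [(rootAct hk4).inv]; exact gen r hr t z ih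
    obtain ⟨v, hv, f, rfl⟩ := key y hy
    have hσv : σq C v ∈ X (xq (K := K)) (Mset (k + 1)) := by
      suffices X (xq (K := K)) (Mset (k + 1)) ≤ (X (xq (K := K)) (Mset (k + 1))).comap (σq C) from this hv
      refine X_le fun r hr t => ?_
      rw [Subgroup.mem_comap, σq_xq C (Mset_facts hr (by omega)).2.2.1]
      exact mem_X (hMb r hr) _
    have hd : v⁻¹ * σq C v = ev xq (Qk k) f * ev xq (Qk k) (A.sg f) := by
      rw [map_mul, A.σ_ev] at hfix
      rw [← mul_left_inj (a := ev xq (Qk k) (A.sg f)), mul_assoc, hfix,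
        mul_assoc, A.R.X_sq Set.Subset.rfl (A.R.ev_mem fun r hr h => absurd hr h), mul_one]
      group
    have hone : v⁻¹ * σq C v = 1 := by
      have hlift : ∀ z ∈ X (xq (K := K)) (Mset (k + 1)), ∃ a ∈ X (xE (K := K)) (Mset (k + 1)), Rep a z := by
        intro z hz
        induction hz using Subgroup.closure_induction with
        | mem g hg =>
          obtain ⟨r, hr, t, rfl⟩ := hg
          exact ⟨_, mem_X hr t, rep_xE (Mset_facts hr (by omega)).2.2.1 t⟩
        | one => exact ⟨1, one_mem _, Rep.one⟩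
        | mul a b _ _ ha hb =>
          obtain ⟨a', ha', ra⟩ := ha; obtain ⟨b', hb', rb⟩ := hb
          exact ⟨a' * b', mul_mem ha' hb', ra.mul rb⟩
        | inv a _ ha => obtain ⟨a', ha', ra⟩ := ha; exact ⟨a'⁻¹, inv_mem ha', ra.inv⟩
      obtain ⟨a, ha, ra⟩ := hlift _ (mul_mem (inv_mem hv) hσv)
      rw [← A.R.ev_add] at hd
      have r2 : Rep (vA xE ((Qk k).map fun r => (r, (f + A.sg f) r))) (ev xq (Qk k) (f + A.sg f)) := by
        have := rep_vA (K := K) (l := (Qk k).map fun r => (r, (f + A.sg f) r)) fun p hp => by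
          obtain ⟨r, hr, rfl⟩ := List.mem_map.1 hp
          exact (Mset_facts (Qk_sub hr) (by omega)).2.2.1
        simpa [vA, ev, List.map_map, Function.comp_def] using this
      obtain ⟨c, hc⟩ := (hd ▸ ra).eq r2
      have m2 : ((a : ↥(chevE6.group K)) : GL chevE6.Idx K) ∈
          X (xf slE6.good K) {r | 36 ≤ r ∧ r < 72 ∧ zc (k + 1) r = false} := by
        refine xE_map (fun r hr => hr.2.1) (hc ▸ mul_mem ?_ (mem_X (show (71 : ℕ) ∈
          {r | 36 ≤ r ∧ r < 72 ∧ zc (k + 1) r = false} from ⟨by norm_num, by norm_num, ?_⟩) c))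
        · refine Subgroup.list_prod_mem _ fun y hy => ?_
          simp only [List.map_map, List.mem_map] at hy
          obtain ⟨r, hr, rfl⟩ := hy
          obtain ⟨⟨a', b'⟩, -, c', -⟩ := mem_Qk.1 hr
          exact mem_X (show r ∈ {r | 36 ≤ r ∧ r < 72 ∧ zc (k + 1) r = false} from ⟨a', b', c'⟩) _
        · have : ∀ k < 4, zc (k + 1) 71 = false := by decide +kernel
          exact this k hk4
      have h1 : a = 1 := Subtype.ext (levi_inf (xE_map (fun r hr => hr.2.1) ha) m2)
      obtain ⟨h', e⟩ := ra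
      rw [← e]
      simp only [h1]
      rfl
    have hvfix : σq C v = v := (inv_mul_eq_one.1 hone).symm
    have hf : A.Compat f := by
      rw [A.compat_iff]
      rw [map_mul, hvfix] at hfix
      exact mul_left_cancel hfix
    exact mul_mem (FH_mono (fun r hr => (Mset_succ hk4 hr).1) (ih (k + 1) (by omega) (by omega) v hv hvfix))
      (FH_mono (fun r hr => Qk_sub hr) (A.ev_mem_FH (S := {r | r ∈ Qk k}) f hf fun r hr _ => hr))

/-- The unipotent subgroup of the twisted group. -/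
theorem U1_le {u : ↥(chevE6.group K)} (hu : (u : GL chevE6.Idx K) ∈ chevE6.posUnipotent K)
    (hfix : C.T.σ u = u) : u ∈ FH (xE (K := K)) bar C.φ (Mset 0) := by
  have hcen : ∀ r ∈ Mset 0, cenR r = true := fun r hr => (Mset_facts hr (by norm_num)).2.2.1
  have hMb : ∀ r ∈ Mset 0, bar r ∈ Mset 0 := fun r hr => (Mset_facts hr (by norm_num)).2.1
  have hX : u ∈ X (xE (K := K)) (Mset 0) := by
    rw [goodE6.posUnipotent_eq] at hu
    have hle : rootGen chevE6 K (Set.Ici (half chevE6)) ≤ (X (xE (K := K)) (Mset 0)).map (chevE6.group K).subtype := by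
      refine goodE6.rootGen_le fun r hr hrn t => ?_
      have hr36 : 36 ≤ r := half36 ▸ hr
      have hr72 : r < 72 := nroots72 ▸ hrn
      exact ⟨xE r t, mem_X (show r ∈ Mset 0 from ⟨hr36, hr72, by simp [zc, coords]⟩) t, coe_xE hr72 t⟩
    obtain ⟨y, hy, e⟩ := hle hu
    rwa [← Subtype.ext e]
  obtain ⟨hmem, hmq⟩ : ∃ h : u ∈ cenT K, (QuotientGroup.mk ⟨u, h⟩ : Quot71 K) ∈ X (xq (K := K)) (Mset 0) := by
    clear hu hfix
    induction hX using Subgroup.closure_induction with
    | mem g hg =>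
      obtain ⟨r, hr, t, rfl⟩ := hg
      exact ⟨xE_mem_cen (hcen r hr) t, by rw [← xq_mk (hcen r hr)]; exact mem_X hr t⟩
    | one => exact ⟨one_mem _, one_mem _⟩
    | mul a b _ _ ha hb =>
      obtain ⟨h1, h2⟩ := ha; obtain ⟨h3, h4⟩ := hb
      exact ⟨mul_mem h1 h3, mul_mem h2 h4⟩
    | inv a _ ha => obtain ⟨h1, h2⟩ := ha; exact ⟨inv_mem h1, inv_mem h2⟩
  have hq := fixed_mem_FH C 0 (by norm_num) _ hmq (congrArg QuotientGroup.mk (Subtype.ext hfix : σC C ⟨u, hmem⟩ = ⟨u, hmem⟩))
  obtain ⟨a, ha, ra⟩ := FHq_lift C hcen hMb hq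
  obtain ⟨c, hc⟩ := Rep.eq (⟨hmem, rfl⟩ : Rep u _) ra
  have h71 : (71 : ℕ) ∈ Mset 0 := ⟨by norm_num, by norm_num, by decide +kernel⟩
  have e71 : bar 71 = 71 := by decide +kernel
  have hcf : C.φ c = c := by
    have haf := FHE_fixed C (fun r hr => hr.2.1) ha
    rw [hc, map_mul, haf, σ_xE C (by norm_num), e71] at hfix
    exact xE71_inj (mul_left_cancel hfix)
  rw [hc]
  exact mul_mem ha (Subgroup.subset_closure ⟨71, h71, Or.inl ⟨e71, c, hcf, rfl⟩⟩)

/-- Two orthogonal fixed roots and the orbit in their square. -/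
theorem node_two : TConj q (P1 K [71, 60]) (P1 K [68, 66]) := by
  obtain ⟨l, hl⟩ := C.hlam
  have hb48 : bar 48 = 50 := by decide +kernel
  have hb23 : bar 23 = 21 := by decide +kernel
  have hmv : moveT ([48], []) [60, 71] = some [60, 66, 68] := by decide +kernel
  obtain ⟨-, c1⟩ := moveT_sound C (K := K) (q := q) (l := [60, 71]) (by decide) hmv
  have hp1 : P1 K [71, 60] = P1 K [60, 71] := slE6.prodOne_perm (F := K) (by decide +kernel)
    (List.pairwise_pair.2 ((fp (r := 71) (s := 60) (by norm_num)).symm.trans (by decide +kernel)))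
    (List.Perm.swap _ _ _)
  have hp2 : P1 K [68, 66] = P1 K [66, 68] := slE6.prodOne_perm (F := K) (by decide +kernel)
    (List.pairwise_pair.2 ((fp (r := 68) (s := 66) (by norm_num)).symm.trans (by decide +kernel)))
    (List.Perm.swap _ _ _)
  rw [hp1, hp2]
  refine c1.trans ⟨goodE6.xG 23 l * goodE6.xG 21 (C.φ l), ?_, ?_⟩
  · have h := (orbG_mem C (r := 23) (by norm_num)).2 (by rw [hb23]; norm_num) l
    rwa [hb23] at h
  have h72 : ∀ {r : ℕ}, r < 72 → r < chevE6.nroots := fun h => nroots72.symm ▸ h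
  have pv : ∀ (a b : ℕ) (z : ℤ), b < 72 → fpair chevE6 a b = z → pair chevE6 a b = z := fun a b z hb h =>
    (fp hb).symm.trans h
  have cm : ∀ a b : ℕ, a < 72 → b < 72 → (fpair chevE6 a b = 0 ∨ fpair chevE6 a b = 1) → ∀ x y : K,
      Commute (slE6.good.xG a x) (slE6.good.xG b y) := fun a b ha hb h x y =>
    slE6.commute_of_pair (h72 ha) (h72 hb) (h.imp (pv a b _ hb) (pv a b _ hb)) y x
  have e66 : slE6.good.xG 23 l * slE6.good.xG 66 1 * (slE6.good.xG 23 l)⁻¹ =
      slE6.good.xG 66 1 * slE6.good.xG 60 l := by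
    have := slE6.sum_conj (F := K) (s := 23) (r := 66) (h72 (by norm_num)) (h72 (by norm_num))
      (pv 23 66 _ (by norm_num) (by decide +kernel)) 1 l
    rwa [show smR chevE6 23 66 = 60 by decide +kernel, mul_one] at this
  have e68 : slE6.good.xG 21 (C.φ l) * slE6.good.xG 68 1 * (slE6.good.xG 21 (C.φ l))⁻¹ =
      slE6.good.xG 68 1 * slE6.good.xG 60 (C.φ l) := by
    have := slE6.sum_conj (F := K) (s := 21) (r := 68) (h72 (by norm_num)) (h72 (by norm_num))
      (pv 21 68 _ (by norm_num) (by decide +kernel)) 1 (C.φ l)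
    rwa [show smR chevE6 21 68 = 60 by decide +kernel, mul_one] at this
  simp only [P1, prodOne, List.map_cons, List.map_nil, List.prod_cons, List.prod_nil, mul_one]
  show (slE6.good.xG 23 l * slE6.good.xG 21 (C.φ l)) * (slE6.good.xG 60 (1 : K) * (slE6.good.xG 66 1 * slE6.good.xG 68 1)) *
    (slE6.good.xG 23 l * slE6.good.xG 21 (C.φ l))⁻¹ = slE6.good.xG 66 1 * slE6.good.xG 68 1
  obtain ⟨A, hA⟩ : ∃ A, A = slE6.good.xG 23 l := ⟨_, rfl⟩
  obtain ⟨B, hB⟩ : ∃ B, B = slE6.good.xG 21 (C.φ l) := ⟨_, rfl⟩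
  have a60 : ∀ x : K, Commute A (slE6.good.xG 60 x) := fun x =>
    hA ▸ cm 23 60 (by norm_num) (by norm_num) (by decide +kernel) l x
  have b60 : ∀ x : K, Commute B (slE6.good.xG 60 x) := fun x =>
    hB ▸ cm 21 60 (by norm_num) (by norm_num) (by decide +kernel) _ x
  have a68 : Commute A (slE6.good.xG 68 (1 : K)) := hA ▸ cm 23 68 (by norm_num) (by norm_num) (by decide +kernel) l 1
  have b66 : Commute B (slE6.good.xG 66 (1 : K)) := hB ▸ cm 21 66 (by norm_num) (by norm_num) (by decide +kernel) _ 1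
  rw [← hA] at e66 ⊢
  rw [← hB] at e68 ⊢
  rw [show A * B * (slE6.good.xG 60 1 * (slE6.good.xG 66 1 * slE6.good.xG 68 1)) * (A * B)⁻¹ =
    (A * (B * slE6.good.xG 60 1 * B⁻¹) * A⁻¹) * ((A * (B * slE6.good.xG 66 1 * B⁻¹) * A⁻¹) *
      (A * (B * slE6.good.xG 68 1 * B⁻¹) * A⁻¹)) by group, (b60 1).eq, mul_inv_cancel_right, (a60 1).eq,
    mul_inv_cancel_right, b66.eq, mul_inv_cancel_right, e66, e68,
    show A * (slE6.good.xG 68 1 * slE6.good.xG 60 (C.φ l)) * A⁻¹ =
      (A * slE6.good.xG 68 1 * A⁻¹) * (A * slE6.good.xG 60 (C.φ l) * A⁻¹) by group,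
    a68.eq, (a60 _).eq, mul_inv_cancel_right, mul_inv_cancel_right]
  have c6668 : Commute (slE6.good.xG 60 (1 + l)) (slE6.good.xG 66 (1 : K) * slE6.good.xG 68 1) :=
    (cm 60 66 (by norm_num) (by norm_num) (by decide +kernel) _ _).mul_right
      (cm 60 68 (by norm_num) (by norm_num) (by decide +kernel) _ _)
  have c66 : Commute (slE6.good.xG 60 l) (slE6.good.xG 68 (1 : K)) :=
    cm 60 68 (by norm_num) (by norm_num) (by decide +kernel) _ _
  rw [show slE6.good.xG 66 1 * slE6.good.xG 60 l * (slE6.good.xG 68 1 * slE6.good.xG 60 (C.φ l)) =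
    slE6.good.xG 66 1 * (slE6.good.xG 60 l * slE6.good.xG 68 1) * slE6.good.xG 60 (C.φ l) by group, c66.eq,
    show slE6.good.xG 66 1 * (slE6.good.xG 68 1 * slE6.good.xG 60 l) * slE6.good.xG 60 (C.φ l) =
      slE6.good.xG 66 1 * slE6.good.xG 68 1 * (slE6.good.xG 60 l * slE6.good.xG 60 (C.φ l)) by group,
    slE6.good.xG_add, hl]
  have c1' : Commute (slE6.good.xG 60 (1 : K)) (slE6.good.xG 66 (1 : K) * slE6.good.xG 68 1) :=
    (cm 60 66 (by norm_num) (by norm_num) (by decide +kernel) _ _).mul_right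
      (cm 60 68 (by norm_num) (by norm_num) (by decide +kernel) _ _)
  rw [← mul_assoc, c1'.eq, mul_assoc, slE6.good.xG_add, CharTwo.add_self_eq_zero, slE6.good.xG_zero, mul_one]

/-- Every involution is conjugate to one of the three representatives. -/
theorem classesT [Fintype K] {x : GL chevE6.Idx K} (hx : x ∈ twistedE6 K q) (ho : orderOf x = 2) :
    ∃ R ∈ [[71], [68, 66], [71, 59, 45]], TConj q x (P1 K R) := by
  haveI : Fact (Nat.Prime 2) := ⟨Nat.prime_two⟩
  obtain ⟨U, hU⟩ : ∃ U, U = (chevE6.posUnipotent K ⊓ twistedE6 K q).subgroupOf (twistedE6 K q) := ⟨_, rfl⟩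
  have hUc : Nat.card ↥U = Nat.card ↥(chevE6.posUnipotent K ⊓ twistedE6 K q) := by
    rw [hU]; exact Nat.card_congr (Subgroup.subgroupOfEquivOfLe inf_le_right).toEquiv
  have hpU : IsPGroup 2 ↥U := by
    rw [hU]; exact C.hpU.of_equiv (Subgroup.subgroupOfEquivOfLe inf_le_right).symm
  have hidx : ¬ 2 ∣ U.index := by
    obtain ⟨d, hd, hcard⟩ := C.hsylow
    have hi := U.index_mul_card
    rw [hUc, hcard] at hi
    have hpos : 0 < Nat.card ↥(chevE6.posUnipotent K ⊓ twistedE6 K q) := Nat.card_pos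
    rw [Nat.eq_of_mul_eq_mul_right hpos hi]
    exact hd
  obtain ⟨xx, hxx⟩ : ∃ xx : ↥(twistedE6 K q), xx = ⟨x, hx⟩ := ⟨_, rfl⟩
  have hoo : orderOf xx = 2 := by rw [← Subgroup.orderOf_coe, hxx]; exact ho
  have hz : IsPGroup 2 ↥(Subgroup.zpowers xx) := IsPGroup.of_card (n := 1) (by rw [Nat.card_zpowers, hoo, pow_one])
  obtain ⟨P, hP⟩ := hz.exists_le_sylow
  obtain ⟨g, hgP⟩ := MulAction.exists_smul_eq ↥(twistedE6 K q) P (hpU.toSylow hidx)
  have hmem : g * xx * g⁻¹ ∈ U := by
    have h1 : MulAut.conj g xx ∈ (g • P : Sylow 2 ↥(twistedE6 K q)).toSubgroup := by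
      rw [Sylow.coe_subgroup_smul]
      exact Subgroup.smul_mem_pointwise_smul xx (MulAut.conj g) _ (hP (Subgroup.mem_zpowers xx))
    rw [hgP] at h1
    exact h1
  rw [hU, Subgroup.mem_subgroupOf, Subgroup.mem_inf, Subgroup.coe_mul, Subgroup.coe_mul, Subgroup.coe_inv, hxx]
    at hmem
  have hle : twistedE6 K q ≤ chevE6.group K := C.hle.trans C.T.fixed_le
  obtain ⟨u, hu⟩ : ∃ u : ↥(chevE6.group K), u = ⟨(g : GL chevE6.Idx K) * x * (g : GL chevE6.Idx K)⁻¹, hle hmem.2⟩ :=
    ⟨_, rfl⟩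
  have hufix : C.T.σ u = u := (C.T.mem_fixed u).1 (hu ▸ C.hle hmem.2)
  have hx2 : x * x = 1 := by rw [← sq, ← ho, pow_orderOf_eq_one]
  have hu2 : u * u = 1 := Subtype.ext (by
    rw [hu]
    show (g : GL chevE6.Idx K) * x * (g : GL chevE6.Idx K)⁻¹ * ((g : GL chevE6.Idx K) * x * (g : GL chevE6.Idx K)⁻¹) = 1
    rw [show (g : GL chevE6.Idx K) * x * (g : GL chevE6.Idx K)⁻¹ * ((g : GL chevE6.Idx K) * x * (g : GL chevE6.Idx K)⁻¹) =
      (g : GL chevE6.Idx K) * (x * x) * (g : GL chevE6.Idx K)⁻¹ by group, hx2]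
    group)
  obtain ⟨z, hz, B, hB, e⟩ := reduce_all C (U1_le C (hu ▸ hmem.1) hufix) hu2
  have hzG : (z : GL chevE6.Idx K) ∈ twistedE6 K q := by
    clear e
    induction hz using Subgroup.closure_induction with
    | mem y hy =>
      obtain ⟨s, hs, ⟨hb, a, ha, rfl⟩ | ⟨hb, a, rfl⟩⟩ := hy
      · rw [coe_xE hs.2.1]; exact (orbG_mem C hs.2.1).1 hb a ha
      · rw [Subgroup.coe_mul, coe_xE hs.2.1, coe_xE (glob hs.2.1).1]; exact (orbG_mem C hs.2.1).2 hb a
    | one => exact one_mem _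
    | mul a b _ _ ha hb => rw [Subgroup.coe_mul]; exact mul_mem ha hb
    | inv a _ ha => rw [Subgroup.coe_inv]; exact inv_mem ha
  have hBlt : ∀ p ∈ B, p.1 < 72 := fun p hp =>
    (hB.2.1 p.1 (List.mem_flatMap.2 ⟨p, hp, by unfold orbR; split_ifs <;> simp⟩)).2.1
  have c1 : TConj q x (vA (fun r t => goodE6.xG r t) (B.flatMap (orb bar C.φ))) := by
    refine TConj.trans ⟨g, g.2, rfl⟩ ⟨z, hzG, ?_⟩
    have := congrArg Subtype.val e
    rw [Subgroup.coe_mul, Subgroup.coe_mul, Subgroup.coe_inv, hu] at this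
    refine this.trans ?_
    rw [vA, ← Subgroup.coe_subtype, map_list_prod, List.map_map]
    refine congrArg List.prod (List.map_congr_left fun p hp => coe_xE ?_ p.2)
    exact (hB.2.1 p.1 (by rw [rts, ← orb_flat_map bar C.φ]; exact List.mem_map.2 ⟨p, hp, rfl⟩)).2.1
  obtain ⟨z', hz', e', -⟩ := normalise C B (fun p hp => ⟨hBlt p hp, hB.1 p hp⟩) hB.2.2
  have c2 : TConj q x (P1 K (rts B)) := c1.trans ⟨z', hz', e'⟩
  have hflat : rts B = (B.map Prod.fst).flatMap (orbR bar) := by rw [rts, List.flatMap_map]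
  obtain ⟨ks, i, hi, hperm⟩ := orth_nodeT (B.map Prod.fst)
    (fun r hr => by obtain ⟨p, hp, rfl⟩ := List.mem_map.1 hr; exact hBlt p hp) (hflat ▸ hB.2.2)
  rw [← hflat] at hperm
  have hr72 := rts_lt C hBlt
  have c3 : TConj q (P1 K (rts B)) (P1 K (nodesT.getD i [])) := by
    obtain ⟨w, hw, -⟩ := imgT_perm ks
    have hword : TConj q (P1 K (rts B)) (P1 K ((rts B).map (imgT ks))) := by
      exact ⟨goodE6.wordN w, word_mem C ks w hw, word_conj C hw (rts B) hr72⟩
    have hp' : P1 K ((rts B).map (imgT ks)) = P1 K (nodesT.getD i []) :=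
      slE6.prodOne_perm (F := K) (fun a ha => by
        obtain ⟨c, hc, rfl⟩ := List.mem_map.1 ha
        exact nroots72.symm ▸ imgT_lt ks (hr72 c hc)) (by
        rw [List.pairwise_map]
        exact hB.2.2.imp_of_mem fun {a b} ha hb hab => by
          rw [show pair chevE6 (imgT ks a) (imgT ks b) = pr a b from imgT_pr ks (hr72 a ha) (hr72 b hb)]; exact hab)
        hperm
    rw [hp'] at hword
    exact hword
  have ht := termT_ok i hi
  simp only [termOKT, Bool.and_eq_true, List.all_eq_true, Nat.blt_eq] at ht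
  obtain ⟨hn, ht⟩ := ht
  split at ht
  swap
  · simp at ht
  next a b ea eb =>
  simp only [Bool.and_eq_true, beq_iff_eq, List.contains_iff_mem] at ht
  obtain ⟨rfl, ht⟩ := ht
  obtain ⟨-, c4⟩ := movesT_sound C _ _ _ (fun a ha => hn a ha) ea
  have hRlt : ∀ j < 8, ∀ a ∈ nodesT.getD j [], a < 72 := by decide
  have hj : (movesT.getD i ([], 0)).2 < 8 := by
    simp only [List.mem_cons, List.not_mem_nil, or_false] at ht; omega
  obtain ⟨-, p4⟩ := slE6.normR_sound (F := K) _ _ (fun a ha => nroots72.symm ▸ hRlt _ hj a ha) eb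
  rw [show P1 K a = P1 K (nodesT.getD (movesT.getD i ([], 0)).2 []) from p4] at c4
  have c5 := c2.trans (c3.trans c4)
  simp only [List.mem_cons, List.not_mem_nil, or_false] at ht
  rcases ht with h | h | h | h | h <;> rw [h] at c5
  · exfalso
    obtain ⟨w, -, hw⟩ := c5
    rw [show P1 K (nodesT.getD 0 []) = 1 from rfl] at hw
    rw [conj_eq_one_iff.1 hw, orderOf_one] at ho
    omega
  · exact ⟨_, by simp [nodesT], c5⟩
  · exact ⟨_, by simp, c5.trans (node_two C)⟩
  · exact ⟨_, by simp [nodesT], c5⟩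
  · exact ⟨_, by simp [nodesT], c5⟩

/-- The number of classes of involutions. -/
theorem ncard_involution_classes [Fintype K] :
    (ConjClasses.mk '' {g : ↥(twistedE6 K q) | orderOf g = 2}).ncard = 3 := by
  have hle : twistedE6 K q ≤ chevE6.group K := C.hle.trans C.T.fixed_le
  have hb71 : bar 71 = 71 := by decide +kernel
  have hb66 : bar 66 = 68 := by decide +kernel
  have hb68 : bar 68 = 66 := by decide +kernel
  have hb59 : bar 59 = 45 := by decide +kernel
  have hpair : ∀ {l : List ℕ}, (l.all fun a => decide (a < 72)) = true →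
      (l.all fun a => l.all fun b => a == b || Int.beq' (fpair chevE6 a b) 0) = true → l.Nodup →
      (∀ r ∈ l, r < chevE6.nroots) ∧ l.Pairwise fun a b => pair chevE6 a b = 0 := by
    intro l h1 h2 hnd
    simp only [List.all_eq_true, decide_eq_true_eq, Bool.or_eq_true, beq_iff_eq, Int.beq'_eq] at h1 h2
    refine ⟨fun r hr => nroots72.symm ▸ h1 r hr, hnd.imp_of_mem fun {a b} ha hb hne => ?_⟩
    exact (fp (h1 b hb)).symm.trans ((h2 a ha b hb).resolve_left hne)
  have hconj3 : InvolMono.GConj (P1 K [71, 59, 45]) (P1 K [55, 65, 67]) := by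
    obtain ⟨w, hw⟩ : ∃ w : List (Fin chevE6.rank), w.map Fin.val = [0, 2, 3, 1] :=
      ⟨[⟨0, by decide +kernel⟩, ⟨2, by decide +kernel⟩, ⟨3, by decide +kernel⟩, ⟨1, by decide +kernel⟩], rfl⟩
    obtain ⟨hl, hp⟩ := hpair (l := [55, 65, 67]) (by decide) (by decide +kernel) (by decide)
    have e := slE6.word_conj (F := K) w (l := [71, 59, 45]) (by decide +kernel)
    rw [hw] at e
    have hperm : [55, 65, 67].Perm ([71, 59, 45].map (imgW sdataE6 [0, 2, 3, 1])) :=
      List.isPerm_iff.1 (by decide +kernel)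
    rw [← slE6.prodOne_perm (F := K) hl hp hperm] at e
    exact e
  have hord : ∀ R ∈ [[71], [68, 66], [71, 59, 45]],
      P1 K R ∈ twistedE6 K q ∧ orderOf (P1 K R) = 2 := by
    intro R hR
    simp only [List.mem_cons, List.not_mem_nil, or_false] at hR
    rcases hR with rfl | rfl | rfl
    · obtain ⟨hl, hp⟩ := hpair (l := [71]) (by decide) (by decide +kernel) (by decide)
      refine ⟨?_, (slE6.prodOne_order hl hp rankE6_0 (by norm_num)).2⟩
      simp only [P1, prodOne, List.map_cons, List.map_nil, List.prod_cons, List.prod_nil, mul_one]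
      exact (orbG_mem C (r := 71) (by norm_num)).1 hb71 1 (map_one _)
    · obtain ⟨hl, hp⟩ := hpair (l := [68, 66]) (by decide) (by decide +kernel) (by decide)
      refine ⟨?_, (slE6.prodOne_order hl hp rankE6_1 (by norm_num)).2⟩
      simp only [P1, prodOne, List.map_cons, List.map_nil, List.prod_cons, List.prod_nil, mul_one]
      have h := (orbG_mem C (r := 68) (by norm_num)).2 (by rw [hb68]; norm_num) 1
      rwa [hb68, map_one] at h
    · obtain ⟨hl, hp⟩ := hpair (l := [55, 65, 67]) (by decide) (by decide +kernel) (by decide)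
      constructor
      · simp only [P1, prodOne, List.map_cons, List.map_nil, List.prod_cons, List.prod_nil, mul_one]
        have h := (orbG_mem C (r := 59) (by norm_num)).2 (by rw [hb59]; norm_num) 1
        rw [hb59, map_one] at h
        exact mul_mem ((orbG_mem C (r := 71) (by norm_num)).1 hb71 1 (map_one _)) h
      · obtain ⟨z, -, hz⟩ := hconj3
        have e : P1 K [55, 65, 67] = MulAut.conj z (P1 K [71, 59, 45]) := hz.symm
        rw [← (slE6.prodOne_order (F := K) hl hp rankE6_2 (by norm_num)).2]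
        show orderOf (P1 K [71, 59, 45]) = orderOf (P1 K [55, 65, 67])
        rw [e, MulEquiv.orderOf_eq]
  have m1 := hord [71] (by simp)
  have m2 := hord [68, 66] (by simp)
  have m3 := hord [71, 59, 45] (by simp)
  obtain ⟨y1, hy1⟩ : ∃ y : ↥(twistedE6 K q), y = ⟨_, m1.1⟩ := ⟨_, rfl⟩
  obtain ⟨y2, hy2⟩ : ∃ y : ↥(twistedE6 K q), y = ⟨_, m2.1⟩ := ⟨_, rfl⟩
  obtain ⟨y3, hy3⟩ : ∃ y : ↥(twistedE6 K q), y = ⟨_, m3.1⟩ := ⟨_, rfl⟩
  have hg : ∀ {a b : ↥(twistedE6 K q)}, ConjClasses.mk a = ConjClasses.mk b →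
      InvolMono.GConj (a : GL chevE6.Idx K) b := by
    intro a b h
    obtain ⟨c, hc⟩ := isConj_iff.1 (ConjClasses.mk_eq_mk_iff_isConj.1 h)
    exact ⟨c, hle c.2, congrArg Subtype.val hc⟩
  have n12 : ConjClasses.mk y1 ≠ ConjClasses.mk y2 := fun h => by
    have := hg h
    rw [hy1, hy2] at this
    exact absurd (slE6.rank_of_conj rankE6_0 rankE6_1 this) (by norm_num)
  have n13 : ConjClasses.mk y1 ≠ ConjClasses.mk y3 := fun h => by
    have := hg h
    rw [hy1, hy3] at this
    exact absurd (slE6.rank_of_conj rankE6_0 rankE6_2 (this.trans hconj3)) (by norm_num)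
  have n23 : ConjClasses.mk y2 ≠ ConjClasses.mk y3 := fun h => by
    have := hg h
    rw [hy2, hy3] at this
    exact absurd (slE6.rank_of_conj rankE6_1 rankE6_2 (this.trans hconj3)) (by norm_num)
  have hset : ConjClasses.mk '' {g : ↥(twistedE6 K q) | orderOf g = 2} =
      {ConjClasses.mk y1, ConjClasses.mk y2, ConjClasses.mk y3} := by
    refine Set.Subset.antisymm ?_ ?_
    · rintro - ⟨g, hg', rfl⟩
      obtain ⟨R, hR, z, hz, e⟩ := classesT C g.2 (by rw [Subgroup.orderOf_coe]; exact hg')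
      have key : ∀ y : ↥(twistedE6 K q), (y : GL chevE6.Idx K) = P1 K R → ConjClasses.mk g = ConjClasses.mk y :=
        fun y hy => ConjClasses.mk_eq_mk_iff_isConj.2 (isConj_iff.2 ⟨⟨z, hz⟩, Subtype.ext (e.trans hy.symm)⟩)
      simp only [List.mem_cons, List.not_mem_nil, or_false] at hR
      rcases hR with rfl | rfl | rfl
      · exact Or.inl (key y1 (by rw [hy1]))
      · exact Or.inr (Or.inl (key y2 (by rw [hy2])))
      · exact Or.inr (Or.inr (key y3 (by rw [hy3])))
    · have ho : ∀ (y : ↥(twistedE6 K q)), orderOf (y : GL chevE6.Idx K) = 2 →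
          ConjClasses.mk y ∈ ConjClasses.mk '' {g : ↥(twistedE6 K q) | orderOf g = 2} := fun y hy =>
        ⟨y, by rw [Set.mem_setOf_eq, ← Subgroup.orderOf_coe]; exact hy, rfl⟩
      rintro c (rfl | rfl | rfl)
      · exact ho y1 (hy1 ▸ m1.2)
      · exact ho y2 (hy2 ▸ m2.2)
      · exact ho y3 (hy3 ▸ m3.2)
  rw [hset, Set.ncard_insert_of_notMem (by simp [n12, n13]) , Set.ncard_pair n23]

end CfsgLib.Chev.TwE6Invol
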