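import Mathlib
import Cfsg.Agent.Lib.Chev.TwistFGTorus

/-!
The Weyl groups of ²F₄ and ²G₂.
-/

set_option autoImplicit false
set_option maxHeartbeats 800000
set_option maxRecDepth 100000
set_option linter.unusedSectionVars false

namespace CfsgLib.Chev

open Cfsg.Lie

/-- A homomorphism from a dihedral group given by an involution inverting an element. -/
theorem exists_dihedralHom {G : Type*} [Group G] {n : ℕ} {s a : G} (hs : s * s = 1)
    (ha : a ^ n = 1) (hsa : s * a * s = a⁻¹) :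
    ∃ φ : DihedralGroup n →* G, φ (DihedralGroup.r 1) = a ∧ φ (DihedralGroup.sr 0) = s := by
  let ψ : ZMod n →+ Additive G := ZMod.lift n ⟨zmultiplesHom (Additive G) (Additive.ofMul a), by
    show (n : ℤ) • Additive.ofMul a = 0
    rw [natCast_zsmul, ← ofMul_pow, ha, ofMul_one]⟩
  let p : ZMod n → G := fun i => Additive.toMul (ψ i)
  have hadd : ∀ i j, p (i + j) = p i * p j := fun i j => by
    show Additive.toMul (ψ (i + j)) = _
    rw [map_add]; rfl
  have hp : ∀ i, ∃ k : ℤ, p i = a ^ k := fun i => by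
    obtain ⟨k, rfl⟩ := ZMod.intCast_surjective i
    exact ⟨k, by simp [p, ψ]⟩
  have hinv : s⁻¹ = s := inv_eq_of_mul_eq_one_right hs
  have hconj : ∀ i, s * p i * s = (p i)⁻¹ := fun i => by
    obtain ⟨k, hk⟩ := hp i
    rw [hk, ← _root_.inv_zpow, ← hsa]
    conv_rhs => rw [show s * a * s = s * a * s⁻¹ by rw [hinv], conj_zpow, hinv]
  have hneg : ∀ i, p (-i) = (p i)⁻¹ := fun i => by
    show Additive.toMul (ψ (-i)) = _
    rw [map_neg]; rfl
  have h0 : p 0 = 1 := by show Additive.toMul (ψ 0) = 1; rw [map_zero]; rfl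
  have hmove : ∀ i, p i * s = s * (p i)⁻¹ := fun i => by
    rw [← hconj i, ← mul_assoc, ← mul_assoc, hs, one_mul]
  let f : DihedralGroup n → G := fun x => match x with
    | DihedralGroup.r i => p i
    | DihedralGroup.sr i => s * p i
  refine ⟨{ toFun := f, map_one' := h0, map_mul' := ?_ }, ?_, ?_⟩
  · rintro (i | i) (j | j)
    · exact hadd i j
    · show s * p (j - i) = p i * (s * p j)
      rw [← mul_assoc, hmove, mul_assoc, ← hneg, ← hadd, neg_add_eq_sub]
    · show s * p (i + j) = s * p i * p j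
      rw [mul_assoc, hadd]
    · show p (j - i) = s * p i * (s * p j)
      rw [← mul_assoc, mul_assoc s (p i) s, hmove, ← mul_assoc s s, hs, one_mul, ← hneg, ← hadd,
        neg_add_eq_sub]
  · show p 1 = a
    have : ((1 : ℤ) : ZMod n) = 1 := Int.cast_one
    simp only [p, ψ]
    rw [← this, ZMod.lift_coe]
    simp
  · show s * p 0 = s
    rw [h0, mul_one]

theorem twistedF4_weyl (K : Type*) [Field K] [Fintype K] {m : ℕ}
    (hK : Fintype.card K = 2 ^ (2 * m + 1)) :
    ∃ φ : ↥(chevF4.monomialSubgroup K ⊓ twistedF4 K (2 ^ m)) →* DihedralGroup 8, Function.Surjective φ ∧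
      φ.ker = (chevF4.diagonalSubgroup K ⊓ twistedF4 K (2 ^ m)).subgroupOf
        (chevF4.monomialSubgroup K ⊓ twistedF4 K (2 ^ m)) := by
  classical
  obtain ⟨S⟩ := exists_setupF4 K hK
  let s : ↥S.T.weylFix := ⟨_, S.sys.w_weylFix (0 : Fin 2)⟩
  let t : ↥S.T.weylFix := ⟨_, S.sys.w_weylFix (1 : Fin 2)⟩
  have hs : s * s = 1 := Subtype.ext (S.sys.w_sq _)
  have ht : t * t = 1 := Subtype.ext (S.sys.w_sq _)
  have ho : orderOf (s * t) = 8 := by
    rw [← Subgroup.orderOf_coe]
    show orderOf (goodF4.wperm (wordsF4 0) * goodF4.wperm (wordsF4 1)) = 8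
    rw [← goodF4.wperm_append]
    exact goodF4.orderOf_wperm checksF4 structChecksF4 _ 8 (by decide +kernel)
  obtain ⟨φ, hφr, hφs⟩ := exists_dihedralHom (n := 8) hs (a := s * t)
    (ho ▸ pow_orderOf_eq_one _) (by
      rw [← mul_assoc, hs, one_mul, _root_.mul_inv_rev, inv_eq_of_mul_eq_one_right hs,
        inv_eq_of_mul_eq_one_right ht])
  have hsurj : Function.Surjective φ := by
    intro v
    have h0 : s ∈ φ.range := ⟨_, hφs⟩
    have h1 : t ∈ φ.range := by
      rw [show t = s * (s * t) by rw [← mul_assoc, hs, one_mul]]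
      exact mul_mem h0 ⟨_, hφr⟩
    have hw : ∀ o : Fin 2, (⟨_, S.sys.w_weylFix o⟩ : ↥S.T.weylFix) ∈ φ.range := by
      intro o
      fin_cases o
      · exact h0
      · exact h1
    obtain ⟨v, hv⟩ := v
    refine S.sys.weylFix_induction (P := fun v => ∀ hv : v ∈ S.T.weylFix,
      (⟨v, hv⟩ : ↥S.T.weylFix) ∈ φ.range) (fun hv => one_mem φ.range) ?_ hv hv
    intro o v' hv' ih _ hv''
    rw [show (⟨S.sys.w o * v', hv''⟩ : ↥S.T.weylFix) = ⟨_, S.sys.w_weylFix o⟩ * ⟨v', hv'⟩ from
      Subtype.ext rfl]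
    refine mul_mem ?_ (ih hv')
    exact hw o
  have hcard : Nat.card (DihedralGroup 8) = Nat.card ↥S.T.weylFix := by
    have h := S.sum_weylFix (fun _ => 1)
    rw [Finset.sum_const, smul_eq_mul, mul_one] at h
    rw [DihedralGroup.nat_card, Nat.card_eq_fintype_card, Fintype.card_subtype]
    exact h.symm
  let e : DihedralGroup 8 ≃* ↥S.T.weylFix := MulEquiv.ofBijective φ
    ((Nat.bijective_iff_surjective_and_card φ).2 ⟨hsurj, hcard⟩)
  refine ⟨e.symm.toMonoidHom.comp S.sys.rootAct1, e.symm.surjective.comp S.sys.rootAct1_surjective, ?_⟩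
  refine Eq.trans ?_ S.sys.rootAct1_ker
  ext x
  exact e.symm.map_eq_one_iff

theorem twistedG2_weyl (K : Type*) [Field K] [Fintype K] {m : ℕ}
    (hK : Fintype.card K = 3 ^ (2 * m + 1)) :
    ∃ φ : ↥(chevG2.monomialSubgroup K ⊓ twistedG2 K (3 ^ m)) →* Multiplicative (ZMod 2),
      Function.Surjective φ ∧
      φ.ker = (chevG2.diagonalSubgroup K ⊓ twistedG2 K (3 ^ m)).subgroupOf
        (chevG2.monomialSubgroup K ⊓ twistedG2 K (3 ^ m)) := by
  classical
  obtain ⟨S⟩ := exists_setupG2 K hK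
  have hcard : Nat.card ↥S.T.weylFix = 2 := by
    have h := S.sum_weylFix (fun _ => 1)
    rw [Finset.sum_const, smul_eq_mul, mul_one] at h
    rw [Nat.card_eq_fintype_card, Fintype.card_subtype]
    exact h
  have := Fact.mk Nat.prime_two
  let e : ↥S.T.weylFix ≃* Multiplicative (ZMod 2) :=
    mulEquivOfPrimeCardEq (p := 2) hcard (by simp)
  refine ⟨e.toMonoidHom.comp S.sys.rootAct1, e.surjective.comp S.sys.rootAct1_surjective, ?_⟩
  refine Eq.trans ?_ S.sys.rootAct1_ker
  ext x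
  exact e.map_eq_one_iff

end CfsgLib.Chev
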