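import Mathlib
import Cfsg.Agent.Lib.Chev.TwistGenTwo
import Cfsg.Agent.Lib.Chev.TwistE6
import Cfsg.Agent.Lib.Chev.TwistD4
import Cfsg.Agent.Lib.Chev.TwistIso

/-!
²E₆ and ³D₄ are generated by two elements.
-/

set_option autoImplicit false
set_option maxHeartbeats 800000
set_option maxRecDepth 100000
set_option linter.unusedSectionVars false

namespace CfsgLib.Chev

open Cfsg.Lie

/-- A generator, its norm, and the squares of the fixed field. -/
lemma norm_gen_facts (K : Type*) [Field K] [Fintype K] {q m e : ℕ} (hq : 1 < q)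
    (hK : Fintype.card K = q ^ m) (he : (q - 1) * e = q ^ m - 1) :
    ∃ z : Kˣ, (∀ y : K, y ≠ 0 → ∃ n : ℕ, ((z : K) ^ n) = y) ∧
      (z ^ e) ^ q = z ^ e ∧
      (∀ y : K, y ^ q = y → y ≠ 0 → ∃ n : ℕ, (((z ^ e : Kˣ) : K) ^ n) = y) ∧
      (∀ d : ℕ, 0 < d → d < q ^ m - 1 → z ^ d ≠ 1) := by
  classical
  obtain ⟨z, hz⟩ := IsCyclic.exists_monoid_generator (α := Kˣ)
  have hord : orderOf z = q ^ m - 1 := by
    rw [orderOf_eq_card_of_forall_mem_zpowers (fun c => ?_), Nat.card_units,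
      Nat.card_eq_fintype_card, hK]
    obtain ⟨i, hi⟩ := (Submonoid.mem_powers_iff c z).1 (hz c)
    exact ⟨i, by simp [hi]⟩
  refine ⟨z, fun y hy => ?_, ?_, fun y hy hy0 => ?_, fun d hd hdl h => ?_⟩
  · obtain ⟨n, hn⟩ := (Submonoid.mem_powers_iff _ z).1 (hz (Units.mk0 y hy))
    exact ⟨n, by rw [← Units.val_pow_eq_pow_val, hn, Units.val_mk0]⟩
  · have h1 : z ^ (e * (q - 1)) = 1 := by rw [mul_comm, he, ← hord, pow_orderOf_eq_one]
    calc (z ^ e) ^ q = (z ^ e) ^ ((q - 1) + 1) := by rw [Nat.sub_add_cancel hq.le]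
      _ = z ^ e := by rw [pow_succ, ← pow_mul, h1, one_mul]
  · obtain ⟨n, hn⟩ := (Submonoid.mem_powers_iff _ z).1 (hz (Units.mk0 y hy0))
    have h1 : z ^ (n * (q - 1)) = 1 := by
      rw [pow_mul, hn]
      refine mul_eq_left.1 (?_ : Units.mk0 y hy0 * _ = _)
      rw [← pow_succ', Nat.sub_add_cancel hq.le]
      exact Units.ext (by rw [Units.val_pow_eq_pow_val, Units.val_mk0]; exact hy)
    have h2 := orderOf_dvd_of_pow_eq_one h1
    rw [hord, ← he, mul_comm n] at h2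
    obtain ⟨k, hk⟩ := Nat.dvd_of_mul_dvd_mul_left (by omega : 0 < q - 1) h2
    exact ⟨k, by rw [← Units.val_pow_eq_pow_val, ← pow_mul, ← hk, hn, Units.val_mk0]⟩
  · have := Nat.le_of_dvd hd (orderOf_dvd_of_pow_eq_one h)
    omega

lemma chiT_D4 {K : Type*} [Field K] (c : Fin chevD4.rank → Kˣ) (r : ℕ) :
    chiT chevD4 c r = c ⟨0, by decide⟩ ^ chevD4.cartan 0 r * c ⟨1, by decide⟩ ^ chevD4.cartan 1 r *
      c ⟨2, by decide⟩ ^ chevD4.cartan 2 r * c ⟨3, by decide⟩ ^ chevD4.cartan 3 r := by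
  show ∏ i : Fin 4, c i ^ chevD4.cartan i r = _
  rw [Fin.prod_univ_four]
  rfl

lemma chiT_E6 {K : Type*} [Field K] (c : Fin chevE6.rank → Kˣ) (r : ℕ) :
    chiT chevE6 c r = c ⟨0, by decide⟩ ^ chevE6.cartan 0 r * c ⟨1, by decide⟩ ^ chevE6.cartan 1 r *
      c ⟨2, by decide⟩ ^ chevE6.cartan 2 r * c ⟨3, by decide⟩ ^ chevE6.cartan 3 r *
      c ⟨4, by decide⟩ ^ chevE6.cartan 4 r * c ⟨5, by decide⟩ ^ chevE6.cartan 5 r := by
  show ∏ i : Fin 6, c i ^ chevE6.cartan i r = _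
  rw [Fin.prod_univ_six]
  rfl

theorem two_gen_twistedD4 {K : Type*} [Field K] [Fintype K] {q : ℕ} (hq : IsPrimePow q)
    (hK : Fintype.card K = q ^ 3) :
    ∃ a b : ↥(twistedD4 K q), Subgroup.closure ({a, b} : Set ↥(twistedD4 K q)) = ⊤ := by
  classical
  obtain ⟨A, hG, hφ, hS, hr, ho⟩ := exists_setupD4 K hq hK
  have hc : HasComm chevD4 := hasComm_of_mem (by simp)
  have hq1 := hq.one_lt
  obtain ⟨z, hzgen, hNq, hNgen, hzord⟩ := norm_gen_facts K (e := q * q + q + 1) hq1 hK (by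
    obtain ⟨p, rfl⟩ := Nat.exists_eq_add_of_le hq1.le
    have : (1 + p) ^ 3 = p * ((1 + p) * (1 + p) + (1 + p) + 1) + 1 := by ring
    rw [this, Nat.add_sub_cancel_left, Nat.add_sub_cancel])
  set N := z ^ (q * q + q + 1) with hN
  set u := z * N with hu
  have hzq : ∀ x : Kˣ, x ^ q ^ 3 = x := fun x => Units.ext (by
    rw [Units.val_pow_eq_pow_val, ← hK, FiniteField.pow_card])
  let c : Fin chevD4.rank → Kˣ := fun i => if i.val = 0 then u else if i.val = 1 then N ^ 2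
    else if i.val = 2 then u ^ q else u ^ q ^ 2
  have hNq2 : N ^ q ^ 2 = N := by rw [sq q, pow_mul, hNq, hNq]
  have hpi : ((A.S.pi ⟨0, by decide⟩).val = 2 ∧ (A.S.pi ⟨1, by decide⟩).val = 1) ∧
      (A.S.pi ⟨2, by decide⟩).val = 3 ∧ (A.S.pi ⟨3, by decide⟩).val = 0 := by
    rw [hS]; decide +kernel
  have hcT : c ∈ A.T0 := by
    rw [A.mem_T0]
    intro i
    rw [hφ, ← Units.val_pow_eq_pow_val]
    congr 1
    obtain ⟨⟨e0, e1⟩, e2, e3⟩ := hpi
    obtain ⟨i, hi⟩ := i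
    have hi' : i < 4 := hi
    interval_cases i <;>
      simp only [c, e0, e1, e2, e3, ↓reduceIte, OfNat.ofNat_ne_zero, OfNat.ofNat_ne_one, one_ne_zero, zero_ne_one,
        OfNat.zero_ne_ofNat, OfNat.one_ne_ofNat, Nat.succ_ne_self, Nat.reduceEqDiff]
    · rw [pow_right_comm N 2 q, hNq]
    · rw [← pow_mul, sq]
    · rw [← pow_mul, ← pow_succ]; exact (hzq u).symm
  have hc0 : c ⟨0, by decide⟩ = u := rfl
  have hc1 : c ⟨1, by decide⟩ = N ^ 2 := rfl
  have hc2 : c ⟨2, by decide⟩ = u ^ q := rfl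
  have hc3 : c ⟨3, by decide⟩ = u ^ q ^ 2 := rfl
  have hNu : u * u ^ q * u ^ q ^ 2 = N ^ 4 := by
    rw [hu, mul_pow, mul_pow, hNq, hNq2, hN,
      show q * q + q + 1 = 1 + q + q ^ 2 by ring, _root_.pow_add, _root_.pow_add, pow_one]
    generalize z ^ q = x
    generalize z ^ q ^ 2 = y
    rw [show (4 : ℕ) = 1 + 1 + 1 + 1 from rfl, _root_.pow_add, _root_.pow_add, _root_.pow_add,
      pow_one]
    simp only [mul_comm, mul_left_comm, mul_assoc]
  set oa : Fin A.r := Fin.cast hr.symm 0 with hoa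
  set ob : Fin A.r := Fin.cast hr.symm 1 with hob
  have hoeq : ∀ o : Fin A.r, o = oa ∨ o = ob := by
    intro o
    have h : ∀ o' : Fin 2, o' = 0 ∨ o' = 1 := by decide
    rcases h (Fin.cast hr o) with e | e
    · exact Or.inl (by rw [hoa, ← e]; rfl)
    · exact Or.inr (by rw [hob, ← e]; rfl)
  have hoA : A.orb oa = orbD4 0 := ho oa
  have hoB : A.orb ob = orbD4 1 := ho ob
  have hcar : ([0, 1, 2, 3].map fun i => chevD4.cartan i 18) = [2, -1, 0, 0] ∧
      ([0, 1, 2, 3].map fun i => chevD4.cartan i 14) = [-1, 2, -1, -1] ∧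
      ([0, 1, 2, 3].map fun i => chevD4.cartan i 17) = [-1, 0, 1, 1] ∧
      ([0, 1, 2, 3].map fun i => chevD4.cartan i 23) = [0, 1, 0, 0] := by decide +kernel
  simp only [List.map_cons, List.map_nil, List.cons.injEq, and_true] at hcar
  obtain ⟨⟨a0, a1, a2, a3⟩, ⟨b0, b1, b2, b3⟩, ⟨c0', c1', c2', c3'⟩, ⟨d0, d1, d2, d3⟩⟩ := hcar
  have hib : (goodD4.sroot ⟨0, by decide⟩ : ℕ) = 18 := by
    show chevD4.simple 0 = 18
    decide +kernel
  have hia : (goodD4.sroot ⟨1, by decide⟩ : ℕ) = 14 := by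
    show chevD4.simple 1 = 14
    decide +kernel
  have hχb : chiT chevD4 c 18 = z ^ 2 := by
    rw [chiT_D4, a0, a1, a2, a3, hc0, hc1]
    simp only [zpow_zero, mul_one, zpow_neg, zpow_one, zpow_ofNat, pow_one, pow_zero]
    rw [hu, mul_pow, mul_inv_cancel_right]
  have hz2 : z ^ 2 ≠ 1 := hzord 2 two_pos (by
    have : 2 ^ 3 ≤ q ^ 3 := Nat.pow_le_pow_left hq1 3
    omega)
  have hlw : (A.orbWord [oa, ob]).map Fin.val = [1, 3, 2, 0] := by
    simp [A1Setup.orbWord, hoA, hoB, orbD4]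
  rw [← hG]
  refine A.exists_two hc checksD4 structChecksD4 c hcT [oa, ob] _ hlw oa ob ⟨1, by decide⟩
    ⟨0, by decide⟩ (by rw [hoA]; decide) (by rw [hoB]; decide) ?_ (Fin.ext hpi.1.2) ?_ ?_ ?_ 17
    (by decide +kernel) ?_ ?_ ?_ 1 23 ?_ ?_ 3 ?_ (fun M _ _ hA hB o => ?_)
  · rw [hoA]; simp [orbD4]
  · rw [hoB, hS]; intro i hi
    have h : ∀ i ∈ orbD4 1, ∃ m : Fin 3, (rootSymOf goodD4 checksD4 structChecksD4 rhoD4_ok).pi^[m.val]
        ⟨0, by decide⟩ = i := by decide +kernel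
    obtain ⟨m, hm⟩ := h i hi
    exact ⟨m, hm⟩
  · rw [hia, chiT_D4, b0, b1, b2, b3, hc0, hc1, hc2, hc3]
    simp only [zpow_neg, zpow_one, zpow_ofNat]
    rw [← pow_mul, ← hNu]
    simp only [mul_comm, mul_left_comm, mul_assoc, mul_inv_cancel, inv_mul_cancel, mul_one,
      mul_inv_cancel_left, inv_mul_cancel_left]
    group
  · rw [hib, hχb]; exact hz2
  · rw [hib]; decide +kernel
  · rw [chiT_D4, c0', c1', c2', c3', hc0, hc2, hc3]
    simp only [zpow_zero, mul_one, zpow_neg, zpow_one]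
    intro h
    rw [mul_assoc, inv_mul_eq_one] at h
    have h1 : u ^ 2 = N ^ 4 := by rw [← hNu, mul_assoc, ← h, sq]
    rw [hu, mul_pow, show (4 : ℕ) = 2 + 2 from rfl, _root_.pow_add, mul_left_inj] at h1
    -- `z ^ 2` would lie in the fixed field
    have h2 : z ^ (2 * (q - 1)) = 1 := by
      rw [pow_mul, h1, ← mul_eq_left (a := N ^ 2), ← pow_succ', Nat.sub_add_cancel hq1.le,
        ← pow_mul, mul_comm, pow_mul, hNq]
    refine hzord _ (by omega) ?_ h2
    have e3 : q ^ 3 = q * q * q := by ring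
    have : 4 * q ≤ q * q * q := by nlinarith
    omega
  · intro y hy
    obtain ⟨n, hn⟩ := hzgen y hy
    exact ⟨n, by rw [hib, hχb, Units.val_pow_eq_pow_val, ← pow_mul, mul_comm, pow_mul, hn]⟩
  · rw [hia]; decide +kernel
  · intro y hy hy0
    rw [hφ] at hy
    obtain ⟨n, hn⟩ := hNgen y hy hy0
    refine ⟨n, ?_⟩
    rw [chiT_D4, d0, d1, d2, d3, hc1]
    simp only [zpow_zero, one_mul, mul_one, zpow_one]
    rw [Units.val_pow_eq_pow_val, ← pow_mul, mul_comm, pow_mul, hn]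
  · intro o i hi
    have h : ∀ o' : Fin 2, ∀ i ∈ orbD4 o', ∃ i' ∈ orbD4 o',
        wordApp sdataD4 (List.replicate 3 [1, 3, 2, 0]).flatten (chevD4.neg (chevD4.simple i.val)) =
          chevD4.simple i'.val := by decide +kernel
    obtain ⟨i', hi', e⟩ := h _ i (ho o ▸ hi)
    exact ⟨i', (ho o).symm ▸ hi', e⟩
  · rcases hoeq o with rfl | rfl
    · exact hA
    · exact hB

theorem two_gen_twistedE6 {K : Type*} [Field K] [Fintype K] {q : ℕ} (hq : IsPrimePow q)
    (hK : Fintype.card K = q ^ 2) :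
    ∃ a b : ↥(twistedE6 K q), Subgroup.closure ({a, b} : Set ↥(twistedE6 K q)) = ⊤ := by
  classical
  obtain ⟨A, hG, hφ, hS, hr, ho⟩ := exists_setupE6 K hq hK
  have hc : HasComm chevE6 := hasComm_of_mem (by simp)
  have hq1 := hq.one_lt
  obtain ⟨z, hzgen, hNq, hNgen, hzord⟩ := norm_gen_facts K (e := q + 1) hq1 hK (by
    obtain ⟨p, rfl⟩ := Nat.exists_eq_add_of_le hq1.le
    have : (1 + p) ^ 2 = p * (1 + p + 1) + 1 := by ring
    rw [this, Nat.add_sub_cancel_left, Nat.add_sub_cancel])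
  have hzq : ∀ x : Kˣ, x ^ q ^ 2 = x := fun x => Units.ext (by
    rw [Units.val_pow_eq_pow_val, ← hK, FiniteField.pow_card])
  let c : Fin chevE6.rank → Kˣ := fun i => if i.val = 0 then z else if i.val = 5 then z ^ q else 1
  have hpi : (A.S.pi ⟨0, by decide⟩).val = 5 ∧ (A.S.pi ⟨1, by decide⟩).val = 1 ∧
      (A.S.pi ⟨2, by decide⟩).val = 4 ∧ (A.S.pi ⟨3, by decide⟩).val = 3 ∧
      (A.S.pi ⟨4, by decide⟩).val = 2 ∧ (A.S.pi ⟨5, by decide⟩).val = 0 := by
    rw [hS]; decide +kernel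
  have hcT : c ∈ A.T0 := by
    rw [A.mem_T0]
    intro i
    rw [hφ, ← Units.val_pow_eq_pow_val]
    congr 1
    obtain ⟨e0, e1, e2, e3, e4, e5⟩ := hpi
    obtain ⟨i, hi⟩ := i
    have hi' : i < 6 := hi
    interval_cases i <;> simp only [c, e0, e1, e2, e3, e4, e5] <;> norm_num
    rw [← pow_mul, ← sq]; exact (hzq z).symm
  have hc0 : c ⟨0, by decide⟩ = z := rfl
  have hc5 : c ⟨5, by decide⟩ = z ^ q := rfl
  have hcm : c ⟨1, by decide⟩ = 1 ∧ c ⟨2, by decide⟩ = 1 ∧ c ⟨3, by decide⟩ = 1 ∧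
      c ⟨4, by decide⟩ = 1 := ⟨rfl, rfl, rfl, rfl⟩
  have hχ : ∀ r : ℕ, chiT chevE6 c r = z ^ chevE6.cartan 0 r * (z ^ q) ^ chevE6.cartan 5 r := by
    intro r
    rw [chiT_E6, hc0, hc5, hcm.1, hcm.2.1, hcm.2.2.1, hcm.2.2.2]
    simp only [one_zpow, mul_one]
  set o0 : Fin A.r := Fin.cast hr.symm 0 with ho0
  set o1 : Fin A.r := Fin.cast hr.symm 1 with ho1
  set o2 : Fin A.r := Fin.cast hr.symm 2 with ho2
  set o3 : Fin A.r := Fin.cast hr.symm 3 with ho3
  have hA0 : A.orb o0 = orbE6 0 := ho o0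
  have hA1 : A.orb o1 = orbE6 1 := ho o1
  have hA2 : A.orb o2 = orbE6 2 := ho o2
  have hA3 : A.orb o3 = orbE6 3 := ho o3
  have hoeq : ∀ o : Fin A.r, o = o0 ∨ o = o1 ∨ o = o2 ∨ o = o3 := by
    intro o
    have h : ∀ o' : Fin 4, o' = 0 ∨ o' = 1 ∨ o' = 2 ∨ o' = 3 := by decide
    rcases h (Fin.cast hr o) with e | e | e | e
    · exact Or.inl (by rw [ho0, ← e]; rfl)
    · exact Or.inr (Or.inl (by rw [ho1, ← e]; rfl))
    · exact Or.inr (Or.inr (Or.inl (by rw [ho2, ← e]; rfl)))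
    · exact Or.inr (Or.inr (Or.inr (by rw [ho3, ← e]; rfl)))
  have hsim : ([0, 1, 2, 3, 4, 5].map fun i => chevE6.simple i) = [56, 46, 42, 39, 37, 36] := by
    decide +kernel
  simp only [List.map_cons, List.map_nil, List.cons.injEq, and_true] at hsim
  obtain ⟨s0, s1, s2, s3, s4, s5⟩ := hsim
  have hcar : [chevE6.cartan 0 56, chevE6.cartan 5 56, chevE6.cartan 0 46, chevE6.cartan 5 46,
      chevE6.cartan 0 14, chevE6.cartan 5 14, chevE6.cartan 0 63, chevE6.cartan 5 63] =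
      [2, 0, 0, 0, -1, 0, 1, 1] := by decide +kernel
  simp only [List.cons.injEq, and_true] at hcar
  obtain ⟨a0, a5, b0, b5, c0', c5', d0, d5⟩ := hcar
  have hlw : (A.orbWord [o0, o1, o2, o3]).map Fin.val = [1, 3, 5, 0, 4, 2] := by
    simp [A1Setup.orbWord, hA0, hA1, hA2, hA3, orbE6]
  have hz1 : z ≠ 1 := by
    have h4 : 2 ^ 2 ≤ q ^ 2 := Nat.pow_le_pow_left hq1 2
    simpa using hzord 1 one_pos (by omega)
  have hz2 : z ^ 2 ≠ 1 := hzord 2 two_pos (by
    have h4 : 2 ^ 2 ≤ q ^ 2 := Nat.pow_le_pow_left hq1 2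
    omega)
  have hχb : chiT chevE6 c 56 = z ^ 2 := by rw [hχ, a0, a5, zpow_zero, mul_one]; rfl
  rw [← hG]
  refine A.exists_two hc checksE6 structChecksE6 c hcT [o0, o1, o2, o3] _ hlw o0 o2
    ⟨1, by decide⟩ ⟨0, by decide⟩ (by rw [hA0]; decide) (by rw [hA2]; decide) ?_ (Fin.ext hpi.2.1)
    ?_ ?_ ?_ 14 (by decide +kernel) ?_ ?_ ?_ 2 63 ?_ ?_ 6 ?_ (fun M hMG hnM hA hB => ?_)
  · rw [hA0]; simp [orbE6]
  · rw [hA2, hS]; intro i hi
    have h : ∀ i ∈ orbE6 2, ∃ m : Fin 2, (rootSymOf goodE6 checksE6 structChecksE6 rhoE6_ok).pi^[m.val]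
        ⟨0, by decide⟩ = i := by decide +kernel
    obtain ⟨m, hm⟩ := h i hi
    exact ⟨m, hm⟩
  · show chiT chevE6 c (chevE6.simple 1) = 1
    rw [s1, hχ, b0, b5, zpow_zero, zpow_zero, mul_one]
  · show chiT chevE6 c (chevE6.simple 0) ≠ 1
    rw [s0, hχb]; exact hz2
  · show wordApp sdataE6 [1, 3, 5, 0, 4, 2] 14 = chevE6.simple 0
    decide +kernel
  · rw [hχ, c0', c5', zpow_zero, mul_one, zpow_neg, zpow_one, ne_eq, inv_eq_one]
    exact hz1
  · intro y hy
    obtain ⟨n, hn⟩ := hzgen y hy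
    refine ⟨n, ?_⟩
    show ((chiT chevE6 c (chevE6.simple 0) : Kˣ) : K) ^ n = _
    rw [s0, hχb, Units.val_pow_eq_pow_val, ← pow_mul, mul_comm, pow_mul, hn]
  · show wordApp sdataE6 _ (chevE6.simple 1) = 63
    decide +kernel
  · intro y hy hy0
    rw [hφ] at hy
    obtain ⟨n, hn⟩ := hNgen y hy hy0
    refine ⟨n * 2, ?_⟩
    rw [hχ, d0, d5, zpow_one, zpow_one, ← pow_succ', pow_mul, hn]
  · intro o i hi
    have h : ∀ o' : Fin 4, ∀ i ∈ orbE6 o', ∃ i' ∈ orbE6 o',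
        wordApp sdataE6 (List.replicate 6 [1, 3, 5, 0, 4, 2]).flatten
          (chevE6.neg (chevE6.simple i.val)) = chevE6.simple i'.val := by decide +kernel
    obtain ⟨i', hi', e⟩ := h _ i (ho o ▸ hi)
    exact ⟨i', (ho o).symm ▸ hi', e⟩
  -- the two remaining orbits, by one commutator each
  set l := A.orbWord [o0, o1, o2, o3]
  have hlk : ∀ k : ℕ, (List.replicate k l).flatten.map Fin.val =
      (List.replicate k [1, 3, 5, 0, 4, 2]).flatten := fun k => by
    rw [List.map_flatten, List.map_replicate, hlw]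
  have hnk : ∀ k : ℕ, goodE6.wordN (F := K) (List.replicate k l).flatten ∈ M := fun k => by
    rw [goodE6.wordN_flatten_replicate]; exact pow_mem hnM k
  have hmove : ∀ (k r r' : ℕ), r < chevE6.nroots →
      wordApp sdataE6 (List.replicate k [1, 3, 5, 0, 4, 2]).flatten r = r' →
      r' < chevE6.nroots ∧ ∃ N ∈ M, ∃ d : K, d ≠ 0 ∧
        ∀ t, N * goodE6.xG r t * N⁻¹ = goodE6.xG r' (d * t) := by
    intro k r r' hr' he
    obtain ⟨h1, d, hd, h2⟩ := goodE6.conj_word (F := K) checksE6 structChecksE6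
      (List.replicate k l).flatten hr' (r' := r') (by rw [hlk]; exact he)
    exact ⟨h1, _, hnk k, d, hd, h2⟩
  have hlt : ∀ r ∈ [46, 60, 63, 39, 36, 56, 48, 50, 49, 61, 42, 37], r < chevE6.nroots := by
    decide +kernel
  have hchk : fterms chevE6 60 46 = [(63, -1, 1, 1)] ∧ fterms chevE6 48 36 = [(49, -1, 1, 1)] ∧
      fterms chevE6 50 56 = [(61, 1, 1, 1)] := by decide +kernel
  have hne : (46 ≠ fneg chevE6 60 ∧ 36 ≠ fneg chevE6 48) ∧ 56 ≠ fneg chevE6 50 := by decide +kernel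
  have hone : ∀ (s r p : ℕ) (e : ℤ), s < chevE6.nroots → r < chevE6.nroots → r ≠ s →
      r ≠ fneg chevE6 s → fterms chevE6 s r = [(p, e, 1, 1)] → ∀ u t : K,
      goodE6.xG s u * goodE6.xG r t * (goodE6.xG s u)⁻¹ =
        goodE6.xG r t * goodE6.xG p ((e : K) * u * t) := by
    intro s r p e hs hr' hrs hneg hterm u t
    rw [goodE6.xG_conj hc hr' hs hrs (CfsgLib.Chev.neg_eq goodE6.lie.pack hs ▸ hneg) t u,
      ← goodE6.fterms_eq hs hr', hterm]
    simp
  -- the long orbit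
  have hfix : ∀ (t : K), A.φ t = t → goodE6.xG 46 t ∈ M := by
    intro t ht
    have := hA (fun _ => t) (fun i _ => ht.symm)
    rw [hA0] at this
    simpa [Good.xList, orbE6, Good.sroot, s1] using this
  have hf1 : A.FullPiece M o1 := by
    obtain ⟨-, N, hN, d, hd, hNd⟩ := hmove 4 46 60 (hlt _ (by decide)) (by decide +kernel)
    obtain ⟨-, N', hN', d', hd', hNd'⟩ := hmove 11 63 39 (hlt _ (by decide)) (by decide +kernel)
    have hin : ∀ t : K, A.φ t = t → goodE6.xG 39 (d' * (-d * t)) ∈ M := by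
      intro t ht
      have h1 := mul_mem (mul_mem hN (hfix 1 (map_one _))) (inv_mem hN)
      rw [hNd, mul_one] at h1
      have h2 := mul_mem (inv_mem (hfix t ht)) (mul_mem (mul_mem h1 (hfix t ht)) (inv_mem h1))
      rw [hone 60 46 63 (-1) (hlt _ (by decide)) (hlt _ (by decide)) (by decide) hne.1.1 hchk.1 d t,
        inv_mul_cancel_left] at h2
      have h3 := mul_mem (mul_mem hN' h2) (inv_mem hN')
      rw [hNd'] at h3
      convert h3 using 2
      push_cast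
      ring
    have hx39 : ∀ x : K, goodE6.xList goodE6.sroot (A.orb o1) (fun _ => x) = goodE6.xG 39 x := by
      intro x
      rw [hA1]
      simp [Good.xList, orbE6, Good.sroot, s3]
    have hi1 : (⟨3, by decide⟩ : Fin chevE6.rank) ∈ A.orb o1 := by rw [hA1]; decide
    have hpi3 : A.S.pi ⟨3, by decide⟩ = ⟨3, by decide⟩ := Fin.ext hpi.2.2.2.1
    have hC : A.φ (d' * (-d)) = d' * (-d) := by
      have h := A.compat_of_mem hc o1 (t := fun _ => d' * (-d)) (by
        rw [hx39]; exact hMG (by simpa using hin 1 (map_one _))) _ hi1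
      exact h.symm
    intro t ht
    have h3 := ht _ hi1
    rw [hpi3] at h3
    have hCne : d' * -d ≠ 0 := mul_ne_zero hd' (neg_ne_zero.2 hd)
    have h4 := hin (t ⟨3, by decide⟩ / (d' * -d)) (by rw [map_div₀, hC, ← h3])
    rw [← mul_assoc, mul_div_cancel₀ _ hCne] at h4
    rw [← hx39] at h4
    convert h4 using 1
    refine goodE6.xList_congr fun i hi => ?_
    rw [hA1] at hi
    simp [orbE6] at hi
    rw [hi]
  -- the short orbit
  have hf3 : A.FullPiece M o3 := by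
    have hx2 : ∀ t : Fin chevE6.rank → K, goodE6.xList goodE6.sroot (A.orb o2) t =
        goodE6.xG 36 (t ⟨5, by decide⟩) * goodE6.xG 56 (t ⟨0, by decide⟩) := by
      intro t
      rw [hA2]
      simp [Good.xList, orbE6, Good.sroot, s0, s5]
    have hx3 : ∀ t : Fin chevE6.rank → K, goodE6.xList goodE6.sroot (A.orb o3) t =
        goodE6.xG 37 (t ⟨4, by decide⟩) * goodE6.xG 42 (t ⟨2, by decide⟩) := by
      intro t
      rw [hA3]
      simp [Good.xList, orbE6, Good.sroot, s2, s4]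
    have hcomm : ∀ p ∈ ([(50, 36), (48, 56), (48, 61), (49, 56), (42, 37)] : List (ℕ × ℕ)),
        (p.1 < chevE6.nroots ∧ p.2 < chevE6.nroots) ∧
          (p.2 ≠ p.1 ∧ p.2 ≠ fneg chevE6 p.1 ∧ fterms chevE6 p.1 p.2 = []) := by decide +kernel
    have hcom : ∀ r s : ℕ, (r, s) ∈ ([(50, 36), (48, 56), (48, 61), (49, 56), (42, 37)] :
        List (ℕ × ℕ)) → ∀ t u : K, Commute (goodE6.xG r t) (goodE6.xG s u) := fun r s h t u =>
      goodE6.xG_commute_check hc (hcomm _ h).1.1 (hcomm _ h).1.2 (hcomm _ h).2 t u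
    -- the moved element of the short orbit
    obtain ⟨d, d', hd, hd', hmv⟩ : ∃ d d' : K, d ≠ 0 ∧ d' ≠ 0 ∧
        goodE6.xG 48 d * goodE6.xG 50 d' ∈ M := by
      obtain ⟨-, d, hd, h36⟩ := goodE6.conj_word (F := K) checksE6 structChecksE6 l
        (hlt 36 (by decide)) (show wordApp sdataE6 (l.map Fin.val) 36 = 48 by
          rw [hlw]; decide +kernel)
      obtain ⟨-, d', hd', h56⟩ := goodE6.conj_word (F := K) checksE6 structChecksE6 l
        (hlt 56 (by decide)) (show wordApp sdataE6 (l.map Fin.val) 56 = 50 by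
          rw [hlw]; decide +kernel)
      refine ⟨d, d', hd, hd', ?_⟩
      have h := hB (fun _ => (1 : K)) (fun i _ => (map_one _).symm)
      rw [hx2] at h
      have h2 := mul_mem (mul_mem hnM h) (inv_mem hnM)
      rw [show goodE6.wordN l * (goodE6.xG 36 1 * goodE6.xG 56 1) * (goodE6.wordN (F := K) l)⁻¹ =
        goodE6.wordN l * goodE6.xG 36 1 * (goodE6.wordN l)⁻¹ *
          (goodE6.wordN l * goodE6.xG 56 1 * (goodE6.wordN l)⁻¹) by group,
        h36, h56, mul_one, mul_one] at h2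
      exact h2
    have h5 : wordApp sdataE6 (List.replicate 5 [1, 3, 5, 0, 4, 2]).flatten 49 = 42 ∧
        wordApp sdataE6 (List.replicate 5 [1, 3, 5, 0, 4, 2]).flatten 61 = 37 := by decide +kernel
    obtain ⟨-, e, he, h49⟩ := goodE6.conj_word (F := K) checksE6 structChecksE6
      (List.replicate 5 l).flatten (hlt 49 (by decide)) (r' := 42) (by rw [hlk]; exact h5.1)
    obtain ⟨-, e', he', h61⟩ := goodE6.conj_word (F := K) checksE6 structChecksE6
      (List.replicate 5 l).flatten (hlt 61 (by decide)) (r' := 37) (by rw [hlk]; exact h5.2)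
    have hin : ∀ t : Fin chevE6.rank → K, (∀ i ∈ A.orb o2, t (A.S.pi i) = A.φ (t i)) →
        goodE6.xG 37 (e' * (d' * t ⟨0, by decide⟩)) *
          goodE6.xG 42 (e * (-d * t ⟨5, by decide⟩)) ∈ M := by
      intro t ht
      set a := t ⟨5, by decide⟩
      set b := t ⟨0, by decide⟩
      have h1 : goodE6.xG 36 a * goodE6.xG 56 b ∈ M := hx2 t ▸ hB t ht
      set Y := goodE6.xG 48 d * goodE6.xG 50 d' with hY
      have e1 : Y * (goodE6.xG 36 a * goodE6.xG 56 b) * Y⁻¹ =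
          goodE6.xG 36 a * goodE6.xG 56 b *
            (goodE6.xG 49 (-d * a) * goodE6.xG 61 (d' * b)) := by
        rw [hY, show goodE6.xG 48 d * goodE6.xG 50 d' * (goodE6.xG 36 a * goodE6.xG 56 b) *
            (goodE6.xG 48 d * goodE6.xG 50 d')⁻¹ =
          goodE6.xG 48 d * (goodE6.xG 50 d' * goodE6.xG 36 a * (goodE6.xG 50 d')⁻¹ *
            (goodE6.xG 50 d' * goodE6.xG 56 b * (goodE6.xG 50 d')⁻¹)) * (goodE6.xG 48 d)⁻¹ by group,
          (hcom 50 36 (by simp) d' a).eq, mul_inv_cancel_right,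
          hone 50 56 61 1 (hlt _ (by decide)) (hlt _ (by decide)) (by decide) hne.2 hchk.2.2 d' b,
          Int.cast_one, one_mul,
          show goodE6.xG 48 d * (goodE6.xG 36 a * (goodE6.xG 56 b * goodE6.xG 61 (d' * b))) *
            (goodE6.xG 48 d)⁻¹ = goodE6.xG 48 d * goodE6.xG 36 a * (goodE6.xG 48 d)⁻¹ *
            (goodE6.xG 48 d * goodE6.xG 56 b * (goodE6.xG 48 d)⁻¹) *
            (goodE6.xG 48 d * goodE6.xG 61 (d' * b) * (goodE6.xG 48 d)⁻¹) by group,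
          (hcom 48 56 (by simp) d b).eq, (hcom 48 61 (by simp) d (d' * b)).eq, mul_inv_cancel_right,
          mul_inv_cancel_right,
          hone 48 36 49 (-1) (hlt _ (by decide)) (hlt _ (by decide)) (by decide) hne.1.2 hchk.2.1 d a]
        push_cast
        rw [neg_one_mul, mul_assoc (goodE6.xG 36 a), (hcom 49 56 (by simp) (-d * a) b).eq]
        simp only [mul_assoc]
      have h2 := mul_mem (inv_mem h1) (mul_mem (mul_mem hmv h1) (inv_mem hmv))
      rw [e1, inv_mul_cancel_left] at h2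
      have h3 := mul_mem (mul_mem (hnk 5) h2) (inv_mem (hnk 5))
      set P := goodE6.wordN (F := K) (List.replicate 5 l).flatten
      rw [show P * (goodE6.xG 49 (-d * a) * goodE6.xG 61 (d' * b)) * P⁻¹ =
        P * goodE6.xG 49 (-d * a) * P⁻¹ * (P * goodE6.xG 61 (d' * b) * P⁻¹) by group,
        h49, h61, (hcom 42 37 (by simp) _ _).eq] at h3
      exact h3
    have hi2 : (⟨2, by decide⟩ : Fin chevE6.rank) ∈ A.orb o3 := by rw [hA3]; decide
    have hall3 : ∀ i ∈ A.orb o3, ∃ m : ℕ,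
        (A.S.pi : Fin chevE6.rank → Fin chevE6.rank)^[m] ⟨2, by decide⟩ = i := by
      rw [hA3, hS]
      intro i hi
      have h : ∀ i ∈ orbE6 3, ∃ m : Fin 2,
          (rootSymOf goodE6 checksE6 structChecksE6 rhoE6_ok).pi^[m.val] ⟨2, by decide⟩ = i := by
        decide +kernel
      obtain ⟨m, hm⟩ := h i hi
      exact ⟨m, hm⟩
    intro t ht
    set v := t ⟨2, by decide⟩ / (e * -d) with hv
    obtain ⟨s, hs, hs5⟩ : ∃ s : Fin chevE6.rank → K,
        (∀ i ∈ A.orb o2, s (A.S.pi i) = A.φ (s i)) ∧ s ⟨5, by decide⟩ = v := by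
      refine ⟨fun i => if i.val = 5 then v else A.φ v, fun i hi => ?_, if_pos rfl⟩
      rw [hA2] at hi
      simp [orbE6] at hi
      rcases hi with rfl | rfl
      · show (if (A.S.pi ⟨5, _⟩).val = 5 then v else A.φ v) = A.φ (if 5 = 5 then v else A.φ v)
        rw [hpi.2.2.2.2.2]; simp
      · show (if (A.S.pi ⟨0, _⟩).val = 5 then v else A.φ v) = A.φ (if 0 = 5 then v else A.φ v)
        rw [hpi.1]
        simp only [if_true, if_neg (show ¬(0 : ℕ) = 5 by decide), hφ]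
        rw [← pow_mul, ← sq, ← hK, FiniteField.pow_card]
    have h := hin s hs
    set w : Fin chevE6.rank → K := fun i => if i.val = 2 then t ⟨2, by decide⟩
      else e' * (d' * s ⟨0, by decide⟩) with hw
    have hwM : goodE6.xList goodE6.sroot (A.orb o3) w ∈ M := by
      rw [hx3]
      have hCne : e * -d ≠ 0 := mul_ne_zero he (neg_ne_zero.2 hd)
      rw [hs5, hv, ← mul_assoc e, mul_div_cancel₀ _ hCne] at h
      simpa [hw] using h
    rw [goodE6.xList_congr (A.eq_on_orbit hi2 hall3 ht (A.compat_of_mem hc o3 (hMG hwM))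
      (by simp [hw]))]
    exact hwM
  intro o
  rcases hoeq o with rfl | rfl | rfl | rfl
  exacts [hA, hf1, hB, hf3]

end CfsgLib.Chev
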