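import Mathlib
import Cfsg.Agent.Lib.Chev.TwistWeyl
import Cfsg.Agent.Lib.Chev.OrderTables

/-!
The inversion polynomial of the fixed Weyl group of a twist, from a table of its elements.
-/

set_option autoImplicit false

namespace CfsgLib.Chev

open Cfsg.Lie

/-- A table of Weyl elements: images of the fundamental roots, left multiples by the generators,
numbers of inversions. The elements are stored in blocks. -/
structure WTab where
  /-- the block length -/
  width : ℕ
  /-- the number of elements -/
  size : ℕ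
  /-- images of the fundamental roots -/
  img : List (List (List ℕ))
  /-- indices of the left multiples -/
  nx : List (List (List ℕ))
  /-- numbers of inversions -/
  deg : List (List ℕ)

/-- An image. -/
noncomputable def WTab.imgF (W : WTab) (k q : ℕ) : ℕ :=
  nth 0 (nth [] (nth [] W.img (k / W.width)) (k % W.width)) q

/-- A left multiple. -/
noncomputable def WTab.nxF (W : WTab) (k o : ℕ) : ℕ :=
  nth 0 (nth [] (nth [] W.nx (k / W.width)) (k % W.width)) o

/-- A number of inversions. -/
noncomputable def WTab.degF (W : WTab) (k : ℕ) : ℕ :=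
  nth 0 (nth [] W.deg (k / W.width)) (k % W.width)

variable (D : ChevalleyDatum) (dat : LieData) (sd : StructData)

/-- The number of positive roots sent to negative roots. -/
noncomputable def negCount (f : ℕ → ℕ) : ℕ :=
  List.rec 0 (fun a _ ih => bif Nat.ble (half D) a &&
      decide (sumUpto D.rank (fun q => rootCo dat a q * lexWt D dat (f q)) < 0)
    then ih + 1 else ih) (upto D.nroots)

/-- A code of an element. -/
noncomputable def wkey (W : WTab) (k : ℕ) : ℕ :=
  List.rec (W.degF k) (fun q _ ih => ih * D.nroots + W.imgF k q) (upto D.rank)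

/-- The table is the fixed Weyl group generated by the words. -/
noncomputable def wtabOK (wl : List (List ℕ)) (W : WTab) : Bool :=
  Nat.blt 0 W.size &&
  allR (fun q => Nat.beq (W.imgF 0 q) (fsimple dat q)) (upto D.rank) &&
  allR (fun k =>
    allR (fun q => Nat.blt (W.imgF k q) D.nroots) (upto D.rank) &&
    allR (fun o => Nat.blt (W.nxF k o) W.size &&
      allR (fun q => Nat.beq (wordApp sd (nth [] wl o) (W.imgF k q)) (W.imgF (W.nxF k o) q))
        (upto D.rank)) (upto wl.length) &&
    (Nat.beq k 0 || anyR (fun o => Nat.blt (W.nxF k o) k) (upto wl.length)) &&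
    (Nat.beq (k + 1) W.size || Nat.blt (wkey D W k) (wkey D W (k + 1))) &&
    Nat.beq (negCount D dat (W.imgF k)) (W.degF k)) (upto W.size)

/-- The polynomial of a table. -/
noncomputable def polyTab (W : WTab) : List ℤ :=
  List.rec [] (fun k _ ih => padd (pmono (W.degF k)) ih) (upto W.size)

variable {D dat sd}

lemma pev_polyTab (W : WTab) (q : ℤ) :
    pev q (polyTab W) = ∑ k ∈ Finset.range W.size, q ^ W.degF k := by
  have key : ∀ l : List ℕ, pev q (List.rec [] (fun k _ ih => padd (pmono (W.degF k)) ih) l : List ℤ) =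
      (l.map fun k => q ^ W.degF k).sum := by
    intro l
    induction l with
    | nil => rfl
    | cons a l ih => rw [List.map_cons, List.sum_cons, ← ih, ← pev_pmono, ← pev_padd]
  rw [polyTab, key, upto_eq]
  rfl

namespace Good

variable (g : Good D) (hl : LieChecks D dat) (hs : StructChecks D dat sd)
include g hl hs

lemma wt_lex {u : ℕ} (hu : u < D.nroots) : g.wt u = lexWt D dat u := by
  rw [g.wt_eq, lexWt, sumUpto_eq]
  refine Finset.sum_congr rfl fun j hj => ?_
  rw [g.co_eq hl hs hu (Finset.mem_range.1 hj)]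
  rfl

lemma negCount_eq {v : Equiv.Perm (Fin D.nroots)} (hv : v ∈ g.weyl) {f : ℕ → ℕ}
    (hf : ∀ q : Fin D.rank, (v (g.sroot q)).val = f q) : negCount D dat f = ninv D v := by
  classical
  let p : ℕ → Prop := fun a =>
    half D ≤ a ∧ sumUpto D.rank (fun q => rootCo dat a q * lexWt D dat (f q)) < 0
  have key : ∀ l : List ℕ, (List.rec 0 (fun a _ ih => bif Nat.ble (half D) a &&
      decide (sumUpto D.rank (fun q => rootCo dat a q * lexWt D dat (f q)) < 0)
      then ih + 1 else ih) l : ℕ) = (l.filter fun a => decide (p a)).length := by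
    intro l
    induction l with
    | nil => rfl
    | cons a l ih =>
      show (bif _ then _ else _) = _
      rw [ih]
      by_cases h : p a
      · rw [List.filter_cons_of_pos (by simpa using h)]
        have e1 : Nat.ble (half D) a = true := by rw [Nat.ble_eq]; exact h.1
        simp [e1, h.2]
      · rw [List.filter_cons_of_neg (by simpa using h)]
        have : (Nat.ble (half D) a &&
            decide (sumUpto D.rank (fun q => rootCo dat a q * lexWt D dat (f q)) < 0)) = false := by
          rw [← Bool.not_eq_true, Bool.and_eq_true, Nat.ble_eq, decide_eq_true_eq]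
          exact h
        rw [this]; rfl
  rw [negCount, key, upto_eq, ← List.toFinset_card_of_nodup (List.nodup_range.filter _),
    ninv, ← Finset.card_map Fin.valEmbedding]
  refine congrArg Finset.card (Finset.ext fun a => ?_)
  obtain ⟨l, hl'⟩ := g.exists_wperm hv
  have hp : ∀ a : Fin D.nroots, half D ≤ a.val → (p a ↔ (v a).val < half D) := by
    intro a ha
    have e : sumUpto D.rank (fun q => rootCo dat a q * lexWt D dat (f q)) = g.wt (v a) := by
      rw [← hl', g.wt_wperm, sumUpto_eq, Finset.sum_range]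
      refine Finset.sum_congr rfl fun q _ => ?_
      rw [hl', g.wt_lex hl hs (Fin.isLt _), hf, g.co_eq hl hs a.2 q.2]
    constructor
    · rintro ⟨-, h⟩
      rw [e] at h
      by_contra hn
      have := g.wt_pos (Nat.not_lt.1 hn) (v a).2
      omega
    · intro h
      refine ⟨ha, ?_⟩
      rw [e]
      have h2 := g.wt_pos (u := g.nroot (v a)) ((g.nroot_pos_iff _).2 h) (Fin.isLt _)
      rw [show (g.nroot (v a) : ℕ) = D.neg (v a) from rfl, g.wt_neg (v a).2] at h2
      omega
  simp only [List.mem_toFinset, List.mem_filter, List.mem_range, decide_eq_true_eq, Finset.mem_map,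
    Finset.mem_filter, Finset.mem_univ, true_and, Fin.valEmbedding_apply]
  constructor
  · rintro ⟨ha, h⟩
    exact ⟨⟨a, ha⟩, ⟨h.1, (hp _ h.1).1 h⟩, rfl⟩
  · rintro ⟨b, ⟨hb, hn⟩, rfl⟩
    exact ⟨b.2, (hp b hb).2 hn⟩

end Good

namespace TwistSys

variable {F : Type*} [Field F] {g : Good D} {T : Twist g F} (S : TwistSys T)

open scoped Classical in
/-- A sum over the fixed Weyl group of a function of the length. -/
theorem weylFix_sum_fun (hl : LieChecks D dat) (hs : StructChecks D dat sd) (wl : List (List ℕ))
    (W : WTab) (words : Fin S.r → List (Fin D.rank)) (hlen : wl.length = S.r)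
    (hwl : ∀ o : Fin S.r, nth [] wl o = (words o).map Fin.val)
    (hw : ∀ o, S.w o = g.wperm (words o)) (h : wtabOK D dat sd wl W = true) (f : ℕ → ℕ) :
    ∑ v ∈ Finset.univ.filter (· ∈ T.weylFix), f (ninv D v) = ∑ k ∈ Finset.range W.size, f (W.degF k) := by
  simp only [wtabOK, allR_eq, anyR_eq, List.all_eq_true, List.any_eq_true, upto_eq, List.mem_range,
    Bool.and_eq_true, Bool.or_eq_true, Nat.blt, Nat.ble_eq, Nat.beq_eq, hlen] at h
  obtain ⟨⟨hpos, h0⟩, hk⟩ := h
  -- the word of an orbit acts as its Weyl element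
  have happ : ∀ (o : Fin S.r) (s : Fin D.nroots),
      wordApp sd (nth [] wl o) s = (S.w o s).val := fun o s => by
    rw [hwl, hw, g.wperm_tab hl hs]
  have hinv : ∀ o (s : Fin D.nroots), S.w o (S.w o s) = s := fun o s => by
    rw [← Equiv.Perm.mul_apply, S.w_sq]; rfl
  have hsim : ∀ i : Fin D.rank, W.imgF 0 i = (g.sroot i).val := fun i => by
    rw [h0 i i.2, ← (hl.simple_facts i.2).1]; rfl
  -- every entry is an element
  have hel : ∀ k < W.size, ∃ v ∈ T.weylFix, ∀ i : Fin D.rank, (v (g.sroot i)).val = W.imgF k i := by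
    intro k
    induction k using Nat.strong_induction_on with
    | _ k ih =>
      intro hkN
      obtain ⟨⟨⟨⟨hlt, hnx⟩, hpar⟩, -⟩, -⟩ := hk k hkN
      rcases hpar with rfl | ⟨o, ho, hjk⟩
      · exact ⟨1, one_mem _, fun i => (hsim i).symm⟩
      · obtain ⟨hj, heq⟩ := hnx o ho
        obtain ⟨v, hv, hvi⟩ := ih (W.nxF k o) (by omega) (by omega)
        refine ⟨S.w ⟨o, ho⟩ * v, mul_mem (S.w_weylFix _) hv, fun i => ?_⟩
        have h1 := heq i i.2
        have h2 : W.imgF k i = (⟨W.imgF k i, by have := hlt i i.2; omega⟩ : Fin D.nroots).val := rfl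
        rw [h2, happ ⟨o, ho⟩, ← hvi] at h1
        rw [Equiv.Perm.mul_apply, ← Fin.ext h1, hinv]
  -- every element is an entry
  have hall : ∀ v ∈ T.weylFix, ∃ k < W.size, ∀ i : Fin D.rank,
      (v (g.sroot i)).val = W.imgF k i := by
    intro v hv
    refine S.weylFix_induction (P := fun v => ∃ k < W.size, ∀ i : Fin D.rank,
      (v (g.sroot i)).val = W.imgF k i) ⟨0, by omega, fun i => (hsim i).symm⟩ ?_ hv
    rintro o v' - ⟨k, hkN, hki⟩ -
    obtain ⟨⟨⟨⟨-, hnx⟩, -⟩, -⟩, -⟩ := hk k hkN
    obtain ⟨hj, heq⟩ := hnx o o.2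
    refine ⟨W.nxF k o, by omega, fun i => ?_⟩
    rw [← heq i i.2, ← hki, happ o]
    rfl
  -- keys ascend
  have hasc : ∀ j k, j < k → k < W.size → wkey D W j < wkey D W k := by
    intro j k hjk
    induction k with
    | zero => omega
    | succ k ih =>
      intro hkN
      obtain ⟨⟨-, hasc⟩, -⟩ := hk k (by omega)
      have h1 : wkey D W k < wkey D W (k + 1) := by rcases hasc with h | h <;> omega
      rcases Nat.lt_succ_iff_lt_or_eq.1 hjk with h | rfl
      · exact (ih h (by omega)).trans h1
      · exact h1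
  have hdeg : ∀ k < W.size, ∀ v ∈ T.weylFix,
      (∀ i : Fin D.rank, (v (g.sroot i)).val = W.imgF k i) → W.degF k = ninv D v := by
    intro k hkN v hv hvi
    obtain ⟨-, h5⟩ := hk k hkN
    rw [← h5, g.negCount_eq hl hs (T.mem_weylFix.1 hv).1 hvi]
  refine (Finset.sum_bij (fun k hk' => (hel k (Finset.mem_range.1 hk')).choose)
    (fun k hk' => Finset.mem_filter.2 ⟨Finset.mem_univ _,
      (hel k (Finset.mem_range.1 hk')).choose_spec.1⟩)
    (fun j hj k hk' e => ?_) (fun v hv => ?_) (fun k hk' => ?_)).symm
  · have hj' := (hel j (Finset.mem_range.1 hj)).choose_spec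
    have hk'' := (hel k (Finset.mem_range.1 hk')).choose_spec
    rw [e] at hj'
    have hkey : wkey D W j = wkey D W k := by
      have hd : W.degF j = W.degF k :=
        (hdeg j (Finset.mem_range.1 hj) _ hj'.1 hj'.2).trans
          (hdeg k (Finset.mem_range.1 hk') _ hk''.1 hk''.2).symm
      unfold wkey
      rw [upto_eq]
      have : ∀ l : List ℕ, (∀ i ∈ l, i < D.rank) →
          (List.rec (W.degF j) (fun q _ ih => ih * D.nroots + W.imgF j q) l : ℕ) =
          List.rec (W.degF k) (fun q _ ih => ih * D.nroots + W.imgF k q) l := by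
        intro l
        induction l with
        | nil => exact fun _ => hd
        | cons a l ih =>
          intro hl
          have ha := hl a (by simp)
          show _ * _ + _ = _ * _ + _
          rw [ih fun i hi => hl i (List.mem_cons_of_mem _ hi), ← hj'.2 ⟨a, ha⟩, ← hk''.2 ⟨a, ha⟩]
      exact this _ fun i hi => List.mem_range.1 hi
    rcases lt_trichotomy j k with h | h | h
    · exact absurd hkey (hasc j k h (Finset.mem_range.1 hk')).ne
    · exact h
    · exact absurd hkey (hasc k j h (Finset.mem_range.1 hj)).ne'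
  · rw [Finset.mem_filter] at hv
    obtain ⟨k, hkN, hki⟩ := hall v hv.2
    refine ⟨k, Finset.mem_range.2 hkN, ?_⟩
    obtain ⟨hwk, hwi⟩ := (hel k hkN).choose_spec
    obtain ⟨l, hl'⟩ := g.exists_wperm (T.mem_weylFix.1 hv.2).1
    obtain ⟨m, hm'⟩ := g.exists_wperm (T.mem_weylFix.1 hwk).1
    refine Equiv.ext fun a => g.co_ext fun j hj => ?_
    rw [← hl', ← hm', g.co_wperm l a hj, g.co_wperm m a hj, hl', hm']
    exact Finset.sum_congr rfl fun i _ => by
      rw [show (hel k hkN).choose (g.sroot i) = v (g.sroot i) from Fin.ext ((hwi i).trans (hki i).symm)]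
  · obtain ⟨hwk, hwi⟩ := (hel k (Finset.mem_range.1 hk')).choose_spec
    rw [hdeg k (Finset.mem_range.1 hk') _ hwk hwi]

open scoped Classical in
/-- The sum over the fixed Weyl group. -/
theorem weylFix_sum (hl : LieChecks D dat) (hs : StructChecks D dat sd) (wl : List (List ℕ))
    (W : WTab) (words : Fin S.r → List (Fin D.rank)) (hlen : wl.length = S.r)
    (hwl : ∀ o : Fin S.r, nth [] wl o = (words o).map Fin.val)
    (hw : ∀ o, S.w o = g.wperm (words o)) (h : wtabOK D dat sd wl W = true) (q : ℕ) :
    ((∑ v ∈ Finset.univ.filter (· ∈ T.weylFix), q ^ ninv D v : ℕ) : ℤ) = pev q (polyTab W) := by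
  rw [S.weylFix_sum_fun hl hs wl W words hlen hwl hw h (fun k => q ^ k), pev_polyTab]
  push_cast
  rfl

end TwistSys

end CfsgLib.Chev
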