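import Mathlib
import Cfsg.Agent.Lib.Chev.Bruhat
import Cfsg.Agent.Lib.Chev.SLInvolRad

/-!
Calculations in a unipotent group modulo the subgroup of a set of roots, in characteristic two.
-/

set_option autoImplicit false
set_option linter.unusedSectionVars false

namespace CfsgLib.Chev.UniCert

open Cfsg.Lie CfsgLib.Chev.SLInvol

variable {D : ChevalleyDatum} (g : Good D) (F : Type*) [Field F]

/-- The subgroup of the roots of a list. -/
abbrev XT (D : ChevalleyDatum) (F : Type*) [Field F] (T : List ℕ) : Subgroup (GL D.Idx F) :=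
  rootGen D F {r | r ∈ T}

variable {F}

/-- Right congruence modulo `XT T`. -/
def Cng (T : List ℕ) (a b : GL D.Idx F) : Prop := a⁻¹ * b ∈ XT D F T

/-- The normaliser of `XT T`. -/
abbrev NT (D : ChevalleyDatum) (F : Type*) [Field F] (T : List ℕ) : Subgroup (GL D.Idx F) :=
  Subgroup.normalizer (XT D F T : Set (GL D.Idx F))

theorem XT_le_NT {T : List ℕ} : XT D F T ≤ NT D F T := Subgroup.le_normalizer

theorem Cng.refl (T : List ℕ) (a : GL D.Idx F) : Cng T a a := by simp [Cng]

theorem Cng.of_eq {T : List ℕ} {a b : GL D.Idx F} (h : a = b) : Cng T a b := h ▸ Cng.refl T a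

theorem Cng.symm {T : List ℕ} {a b : GL D.Idx F} (h : Cng T a b) : Cng T b a := by
  have := inv_mem h
  simpa [Cng] using this

theorem Cng.trans {T : List ℕ} {a b c : GL D.Idx F} (h : Cng T a b) (h' : Cng T b c) : Cng T a c := by
  have := mul_mem h h'
  simpa [Cng, mul_assoc] using this

theorem Cng.mul_left {T : List ℕ} {a b : GL D.Idx F} (c : GL D.Idx F) (h : Cng T a b) : Cng T (c * a) (c * b) := by
  simpa [Cng, mul_assoc] using h

theorem Cng.mul_right {T : List ℕ} {a b c : GL D.Idx F} (hc : c ∈ NT D F T) (h : Cng T a b) :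
    Cng T (a * c) (b * c) := by
  have := (Subgroup.mem_normalizer_iff''.1 hc _).1 h
  simpa [Cng, mul_assoc] using this

theorem Cng.mul {T : List ℕ} {a a' b b' : GL D.Idx F} (hb : b ∈ NT D F T) (h : Cng T a a') (h' : Cng T b b') :
    Cng T (a * b) (a' * b') :=
  (h.mul_right hb).trans (h'.mul_left a')

theorem Cng.conj {T : List ℕ} {a b z : GL D.Idx F} (hz : z ∈ NT D F T) (h : Cng T a b) :
    Cng T (z * a * z⁻¹) (z * b * z⁻¹) := (h.mul_left z).mul_right (inv_mem hz)

theorem Cng.one_of_mem {T : List ℕ} {a : GL D.Idx F} (h : a ∈ XT D F T) : Cng T 1 a := by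
  simpa [Cng] using h

theorem Cng.mem {T : List ℕ} {a b : GL D.Idx F} (h : Cng T a b) (ha : a ∈ XT D F T) : b ∈ XT D F T := by
  have := mul_mem ha h
  simpa using this

/-- Conjugation of `x_r` by `x_s` brings in no odd term outside `T`. -/
def Into (D : ChevalleyDatum) (F : Type*) [Field F] (T : List ℕ) (s r : ℕ) : Prop :=
  r = s ∨ (r ≠ D.neg s ∧ ∀ c ∈ D.commTerms s r, (c.2.1 : F) ≠ 0 → c.1 ∈ T)

/-- `x_s` normalises `XT T`. -/
def Nrm (D : ChevalleyDatum) (F : Type*) [Field F] (T : List ℕ) (s : ℕ) : Prop :=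
  s < D.nroots ∧ ∀ r ∈ T, r < D.nroots ∧ Into D F T s r

variable (hc : HasComm D)
include hc

theorem xG_conj_into {T : List ℕ} {s r : ℕ} (hs : s < D.nroots) (hr : r < D.nroots) (h : Into D F T s r)
    (hT : ∀ q ∈ T, q < D.nroots) (t u : F) :
    ∃ e ∈ XT D F T, g.xG s u * g.xG r t * (g.xG s u)⁻¹ = g.xG r t * e := by
  rcases h with rfl | ⟨hn, h⟩
  · exact ⟨1, one_mem _, by rw [mul_one, g.xG_inv, g.xG_add, g.xG_add, show u + t + -u = t by ring]⟩
  by_cases hrs : r = s
  · subst hrs
    exact ⟨1, one_mem _, by rw [mul_one, g.xG_inv, g.xG_add, g.xG_add, show u + t + -u = t by ring]⟩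
  refine ⟨_, ?_, g.xG_conj hc hr hs hrs hn t u⟩
  refine Subgroup.list_prod_mem _ fun y hy => ?_
  obtain ⟨c, hcm, rfl⟩ := List.mem_map.1 hy
  by_cases h0 : (c.2.1 : F) = 0
  · rw [h0, zero_mul, zero_mul, g.xG_zero]; exact one_mem _
  · exact g.mem_rootGen (hT _ (h c hcm h0)) (show c.1 ∈ T from h c hcm h0) _

theorem Nrm.mem {T : List ℕ} {s : ℕ} (h : Nrm D F T s) (u : F) : g.xG s u ∈ NT D F T := by
  refine g.le_normalizer_of_conj (fun r hr hrn t v => ?_) (g.xG_mem_rootSubgroup s u)
  obtain ⟨e, he, e'⟩ := xG_conj_into g hc h.1 hrn (h.2 r hr).2 (fun q hq => (h.2 q hq).1) t v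
  rw [e']
  exact mul_mem (g.mem_rootGen hrn hr t) he

/-- The factors of a product lie in the normaliser. -/
theorem vA_mem_NT {T : List ℕ} {A : List (ℕ × F)} (h : ∀ p ∈ A, Nrm D F T p.1) :
    vA (fun r t => g.xG r t) A ∈ NT D F T := by
  refine Subgroup.list_prod_mem _ fun y hy => ?_
  obtain ⟨p, hp, rfl⟩ := List.mem_map.1 hy
  exact (h p hp).mem g hc _

theorem cng_comm {T : List ℕ} {s r : ℕ} (hs : Nrm D F T s) (hr : r < D.nroots) (h : Into D F T s r) (t u : F) :
    Cng T (g.xG r t * g.xG s u) (g.xG s u * g.xG r t) := by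
  obtain ⟨e, he, e'⟩ := xG_conj_into g hc hs.1 hr h (fun q hq => (hs.2 q hq).1) t u
  rw [mul_inv_eq_iff_eq_mul] at e'
  have := (Subgroup.mem_normalizer_iff''.1 (hs.mem g hc u) e).1 he
  rw [Cng, e']
  simpa [mul_assoc] using this

/-- A root element moves across a product it commutes with modulo `XT T`. -/
theorem cng_move {T : List ℕ} {s : ℕ} (hs : Nrm D F T s) (u : F) : ∀ A : List (ℕ × F),
    (∀ p ∈ A, p.1 < D.nroots ∧ Nrm D F T p.1 ∧ Into D F T s p.1) →
    Cng T (vA (fun r t => g.xG r t) A * g.xG s u) (g.xG s u * vA (fun r t => g.xG r t) A) := by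
  intro A
  induction A with
  | nil => intro _; exact Cng.of_eq (by simp [vA])
  | cons p A ih =>
    intro h
    obtain ⟨hp, hpn, hpi⟩ := h p (by simp)
    have h1 := (ih fun q hq => h q (by simp [hq])).mul_left (g.xG p.1 p.2)
    have h2 := (cng_comm g hc hs hp hpi p.2 u).mul_right
      (vA_mem_NT g hc (A := A) fun q hq => (h q (by simp [hq])).2.1)
    simp only [vA_cons, mul_assoc] at h1 h2 ⊢
    exact h1.trans h2

/-- Conjugation of a product by a root element that fixes it modulo `XT T`. -/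
theorem cng_conj_vA {T : List ℕ} {s : ℕ} (hs : Nrm D F T s) (u : F) {A : List (ℕ × F)}
    (h : ∀ p ∈ A, p.1 < D.nroots ∧ Nrm D F T p.1 ∧ Into D F T s p.1) :
    Cng T (g.xG s u * vA (fun r t => g.xG r t) A * (g.xG s u)⁻¹) (vA (fun r t => g.xG r t) A) := by
  have := ((cng_move g hc hs u A h).symm).mul_right (inv_mem (hs.mem g hc u))
  simpa [mul_assoc] using this

/-- The odd terms outside `T`. -/
noncomputable def keepT (T : List ℕ) (c : ℕ × ℤ × ℕ × ℕ) : Bool :=
  Int.beq' (c.2.1 % 2) 1 && !(T.contains c.1)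

omit hc in
theorem keepT_false [CharP F 2] {T : List ℕ} {c : ℕ × ℤ × ℕ × ℕ} (h : keepT T c = false) :
    (c.2.1 : F) = 0 ∨ c.1 ∈ T := by
  by_cases hm : c.1 ∈ T
  · exact Or.inr hm
  left
  have hc : T.contains c.1 = false := by
    rw [← Bool.not_eq_true, List.contains_iff_mem]; exact hm
  rw [keepT, hc, Bool.not_false, Bool.and_true, ← Bool.not_eq_true, Int.beq'_eq] at h
  rw [CharP.intCast_eq_zero_iff F 2]
  omega

omit hc in
theorem keepT_odd [CharP F 2] {T : List ℕ} {c : ℕ × ℤ × ℕ × ℕ} (h : keepT T c = true) : (c.2.1 : F) = 1 := by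
  simp only [keepT, Bool.and_eq_true, Int.beq'_eq] at h
  rw [show c.2.1 = 1 + 2 * (c.2.1 / 2) by omega, Int.cast_add, Int.cast_mul]
  have h2 : ((2 : ℤ) : F) = 0 := by exact_mod_cast (CharTwo.two_eq_zero : (2 : F) = 0)
  rw [h2, zero_mul, add_zero, Int.cast_one]

/-- Only the kept terms count. -/
theorem cng_terms [CharP F 2] {T : List ℕ} (hT : ∀ q ∈ T, q < D.nroots) (t u : F) :
    ∀ l : List (ℕ × ℤ × ℕ × ℕ), (∀ c ∈ l, keepT T c = true → Nrm D F T c.1) →
    Cng T (l.map fun c => g.xG c.1 ((c.2.1 : F) * u ^ c.2.2.1 * t ^ c.2.2.2)).prod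
      ((l.filter (keepT T)).map fun c => g.xG c.1 (u ^ c.2.2.1 * t ^ c.2.2.2)).prod := by
  intro l
  induction l with
  | nil => intro _; exact Cng.refl _ _
  | cons c l ih =>
    intro h
    have ih' := ih fun d hd => h d (by simp [hd])
    have hN : (l.map fun c => g.xG c.1 ((c.2.1 : F) * u ^ c.2.2.1 * t ^ c.2.2.2)).prod ∈ NT D F T := by
      refine Subgroup.list_prod_mem _ fun y hy => ?_
      obtain ⟨d, hd, rfl⟩ := List.mem_map.1 hy
      by_cases hk : keepT T d = true
      · exact (h d (by simp [hd]) hk).mem g hc _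
      · rcases keepT_false (F := F) (Bool.not_eq_true _ ▸ hk) with e | e
        · rw [e, zero_mul, zero_mul, g.xG_zero]; exact one_mem _
        · exact XT_le_NT (g.mem_rootGen (hT _ e) e _)
    by_cases hk : keepT T c = true
    · rw [List.filter_cons_of_pos hk, List.map_cons, List.map_cons, List.prod_cons, List.prod_cons,
        keepT_odd hk, one_mul]
      exact ih'.mul_left _
    · rw [List.filter_cons_of_neg hk, List.map_cons, List.prod_cons]
      refine Cng.trans ?_ ih'
      have h1 : Cng T (g.xG c.1 ((c.2.1 : F) * u ^ c.2.2.1 * t ^ c.2.2.2)) 1 := by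
        rcases keepT_false (F := F) (Bool.not_eq_true _ ▸ hk) with e | e
        · rw [e, zero_mul, zero_mul, g.xG_zero]; exact Cng.refl _ _
        · exact (Cng.one_of_mem (g.mem_rootGen (hT _ e) e _)).symm
      simpa using h1.mul hN (Cng.refl T _)

/-- The roots of a list, of index at least `m`. -/
theorem mem_prods {T : List ℕ} (hT : ∀ a ∈ T, half D ≤ a ∧ a < D.nroots)
    (hcl : ∀ a ∈ T, Nrm D F (T.filter fun r => decide (a < r)) a) :
    ∀ {m : ℕ}, half D ≤ m → ∀ x ∈ rootGen D F {r | r ∈ T ∧ m ≤ r},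
      ∃ f : ℕ → F, (∀ r, r ∉ T → f r = 0) ∧ x = g.xProd f m := by
  intro m hm x hx
  induction' hk : D.nroots - m with k ih generalizing m x
  · refine ⟨fun _ => 0, fun _ _ => rfl, ?_⟩
    have : x ∈ (⊥ : Subgroup (GL D.Idx F)) := by
      refine g.rootGen_le (fun r hr hrn t => ?_) hx
      obtain ⟨-, h2⟩ := hr
      omega
    rw [Subgroup.mem_bot] at this
    simp [this, Good.xProd, hk]
  have hmn : m < D.nroots := by omega
  have upd : ∀ (a : F) (f : ℕ → F), g.xG m a * g.xProd f (m + 1) = g.xProd (Function.update f m a) m := by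
    intro a f
    rw [g.xProd_succ _ hmn, Function.update_self]
    congr 1
    simp only [Good.xProd]
    refine congrArg List.prod (List.map_congr_left fun r hr => ?_)
    rw [List.mem_range'_1] at hr
    rw [Function.update_of_ne (by omega)]
  by_cases hmT : m ∈ T
  · have hN : Nrm D F (T.filter fun r => decide (m < r)) m := hcl m hmT
    have hset : rootGen D F {r | r ∈ T ∧ m + 1 ≤ r} = XT D F (T.filter fun r => decide (m < r)) := by
      refine le_antisymm (g.rootGen_mono fun r hr _ => ?_) (g.rootGen_mono fun r hr _ => ?_)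
      · obtain ⟨h1, h2⟩ := hr
        exact List.mem_filter.2 ⟨h1, decide_eq_true (by omega)⟩
      · simp only [Set.mem_setOf_eq, List.mem_filter, decide_eq_true_eq] at hr
        exact ⟨hr.1, by omega⟩
    have hle : D.rootSubgroup F m ≤ NT D F (T.filter fun r => decide (m < r)) := fun y hy => by
      obtain ⟨t, rfl⟩ := g.mem_rootSubgroup.1 hy
      exact hN.mem g hc t
    have hx' : x ∈ D.rootSubgroup F m ⊔ XT D F (T.filter fun r => decide (m < r)) := by
      refine g.rootGen_le (fun r hr hrn t => ?_) hx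
      obtain ⟨h1, h2⟩ := hr
      by_cases e : r = m
      · subst e; exact Subgroup.mem_sup_left (g.xG_mem_rootSubgroup _ t)
      · exact Subgroup.mem_sup_right (g.mem_rootGen hrn (List.mem_filter.2 ⟨h1, decide_eq_true (by omega)⟩) t)
    rw [← SetLike.mem_coe, Subgroup.coe_mul_of_left_le_normalizer_right _ _ hle] at hx'
    obtain ⟨z, hz, y, hy, rfl⟩ := Set.mem_mul.1 hx'
    obtain ⟨a, rfl⟩ := g.mem_rootSubgroup.1 hz
    obtain ⟨f, hf, rfl⟩ := ih (m := m + 1) (by omega) y (by rw [hset]; exact hy) (by omega)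
    refine ⟨Function.update f m a, fun r hr => ?_, upd a f⟩
    rw [Function.update_of_ne (fun e => hr (by rw [e]; exact hmT))]
    exact hf r hr
  · obtain ⟨f, hf, rfl⟩ := ih (m := m + 1) (by omega) x (g.rootGen_mono (fun r hr _ => by
      obtain ⟨h1, h2⟩ := hr
      refine ⟨h1, ?_⟩
      rcases eq_or_lt_of_le h2 with e | e
      · subst e; exact absurd h1 hmT
      · omega) hx) (by omega)
    refine ⟨Function.update f m 0, fun r hr => ?_, ?_⟩
    · by_cases e : r = m
      · rw [e, Function.update_self]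
      · rw [Function.update_of_ne e]; exact hf r hr
    · rw [← upd 0 f, g.xG_zero, one_mul]

/-- A root element outside a closed set of positive roots is not in its subgroup. -/
theorem eq_zero_of_mem {T : List ℕ} (hT : ∀ a ∈ T, half D ≤ a ∧ a < D.nroots)
    (hcl : ∀ a ∈ T, Nrm D F (T.filter fun r => decide (a < r)) a) {b : ℕ} (hb : half D ≤ b) (hbn : b < D.nroots)
    (hbT : b ∉ T) {φ : F} (h : g.xG b φ ∈ XT D F T) : φ = 0 := by
  obtain ⟨f, hf, e⟩ := mem_prods g hc hT hcl le_rfl (g.xG b φ)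
    (g.rootGen_mono (T := {r | r ∈ T ∧ half D ≤ r}) (fun r hr _ => ⟨hr, (hT r hr).1⟩) h)
  have hs : g.xProd (fun r => if r = b then φ else 0) (half D) = g.xG b φ := by
    have key : ∀ l : List ℕ, l.Nodup →
        (l.map fun r => g.xG r (if r = b then φ else 0)).prod = if b ∈ l then g.xG b φ else 1 := by
      intro l
      induction l with
      | nil => simp
      | cons a l ihl =>
        intro hl
        rw [List.nodup_cons] at hl
        rw [List.map_cons, List.prod_cons, ihl hl.2]
        by_cases e : a = b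
        · subst e; simp [hl.1]
        · simp [e, Ne.symm e, g.xG_zero]
    rw [Good.xProd, key _ List.nodup_range', if_pos (List.mem_range'_1.2 ⟨hb, by omega⟩)]
  have := g.xProd_inj le_rfl (hs.trans e) hb hbn
  rwa [if_pos rfl, hf b hbT] at this

end CfsgLib.Chev.UniCert
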