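import Mathlib
import Cfsg.Agent.Lib.Chev.UniCertCore
import Cfsg.Agent.Lib.Chev.InvolMono
import Cfsg.Agent.Lib.Chev.WeylCheck

/-!
The steps of a reduction certificate for the involutions of a unipotent group in characteristic two.
-/

set_option autoImplicit false
set_option linter.unusedSectionVars false

namespace CfsgLib.Chev.UniCert

open Cfsg.Lie CfsgLib.Chev.SLInvol CfsgLib.Chev.InvolMono

variable {D : ChevalleyDatum} (g : Good D) {F : Type*} [Field F] [CharP F 2]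

/-- The product of a list of root elements. -/
noncomputable abbrev vG (A : List (ℕ × F)) : GL D.Idx F := vA (fun r t => g.xG r t) A

/-- Every involution congruent to a product over the pins `P` with nonzero coefficients satisfies `Q`. -/
def Ok (Q : GL D.Idx F → Prop) (P T : List ℕ) : Prop :=
  ∀ A : List (ℕ × F), A.map Prod.fst = P → (∀ p ∈ A, p.2 ≠ 0) →
    ∀ x : GL D.Idx F, Cng T (vG g A) x → x * x = 1 → Q x

/-- Stability under conjugation. -/
def Stable (Q : GL D.Idx F → Prop) : Prop := ∀ z ∈ D.group F, ∀ x, Q (z * x * z⁻¹) → Q x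

theorem vG_append (A B : List (ℕ × F)) : vG g (A ++ B) = vG g A * vG g B := vA_append _ A B

theorem vG_cons (p : ℕ × F) (A : List (ℕ × F)) : vG g (p :: A) = g.xG p.1 p.2 * vG g A := vA_cons _ p A

theorem vG_single (r : ℕ) (t : F) : vG g [(r, t)] = g.xG r t := by simp [vA]

theorem xG_sq (r : ℕ) (t : F) : g.xG r t * g.xG r t = 1 := by
  rw [g.xG_add, CharTwo.add_self_eq_zero, g.xG_zero]

/-- Exchange two neighbours. -/
def swapAt {α : Type*} : ℕ → List α → List α
  | 0, a :: b :: l => b :: a :: l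
  | k + 1, a :: l => a :: swapAt k l
  | _, l => l

theorem map_swapAt {α β : Type*} (f : α → β) : ∀ (k : ℕ) (l : List α), (swapAt k l).map f = swapAt k (l.map f)
  | 0, [] => rfl
  | 0, [_] => rfl
  | 0, _ :: _ :: _ => rfl
  | _ + 1, [] => rfl
  | k + 1, a :: l => by simp [swapAt, map_swapAt f k l]

theorem mem_swapAt {α : Type*} : ∀ (k : ℕ) (l : List α) (a : α), a ∈ swapAt k l ↔ a ∈ l
  | 0, [], _ => Iff.rfl
  | 0, [_], _ => Iff.rfl
  | 0, b :: c :: l, a => by simp [swapAt, or_left_comm]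
  | _ + 1, [], _ => Iff.rfl
  | k + 1, b :: l, a => by simp [swapAt, mem_swapAt k l a]

/-- Pins that normalise, and mutually commute, modulo `XT T`. -/
def Comm (D : ChevalleyDatum) (F : Type*) [Field F] (T P : List ℕ) : Prop :=
  ∀ p ∈ P, Nrm D F T p ∧ ∀ q ∈ P, Into D F T p q

variable (hc : HasComm D)
include hc

theorem cng_swap {T : List ℕ} : ∀ (k : ℕ) (A : List (ℕ × F)), Comm D F T (A.map Prod.fst) →
    Cng T (vG g A) (vG g (swapAt k A)) := by
  intro k
  induction k with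
  | zero =>
    intro A h
    rcases A with _ | ⟨a, _ | ⟨b, l⟩⟩
    · exact Cng.refl _ _
    · exact Cng.refl _ _
    · simp only [swapAt, vG_cons g, ← mul_assoc]
      exact (cng_comm g hc (h b.1 (by simp)).1 (h a.1 (by simp)).1.1 ((h b.1 (by simp)).2 a.1 (by simp)) a.2 b.2).mul_right
        (vA_mem_NT g hc (A := l) fun p hp => (h p.1 (List.mem_map_of_mem (by simp [hp]))).1)
  | succ k ih =>
    intro A h
    rcases A with _ | ⟨a, l⟩
    · exact Cng.refl _ _
    · simp only [swapAt, vG_cons g]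
      refine (ih l fun p hp => ?_).mul_left _
      exact ⟨(h p (by simp [hp])).1, fun q hq => (h p (by simp [hp])).2 q (by simp [hq])⟩

theorem cng_swaps {T : List ℕ} : ∀ (ks : List ℕ) (A : List (ℕ × F)), Comm D F T (A.map Prod.fst) →
    Cng T (vG g A) (vG g (ks.foldl (fun l k => swapAt k l) A)) := by
  intro ks
  induction ks with
  | nil => intro A _; exact Cng.refl _ _
  | cons k ks ih =>
    intro A h
    refine (cng_swap g hc k A h).trans (ih (swapAt k A) fun p hp => ?_)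
    rw [map_swapAt, mem_swapAt] at hp
    refine ⟨(h p hp).1, fun q hq => (h p hp).2 q ?_⟩
    rwa [map_swapAt, mem_swapAt] at hq

omit hc in
theorem map_swaps {α β : Type*} (f : α → β) : ∀ (ks : List ℕ) (l : List α),
    (ks.foldl (fun l k => swapAt k l) l).map f = ks.foldl (fun l k => swapAt k l) (l.map f) := by
  intro ks
  induction ks with
  | nil => intro l; rfl
  | cons k ks ih => intro l; simp only [List.foldl_cons, ih, map_swapAt]

omit hc in
theorem mem_swaps {α : Type*} (a : α) : ∀ (ks : List ℕ) (l : List α),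
    a ∈ ks.foldl (fun l k => swapAt k l) l ↔ a ∈ l := by
  intro ks
  induction ks with
  | nil => intro l; rfl
  | cons k ks ih => intro l; simp only [List.foldl_cons, ih, mem_swapAt]

variable {Q : GL D.Idx F → Prop}

/-- Split off one root. -/
theorem ok_split {P T T' : List ℕ} {b : ℕ} (hsub : ∀ r ∈ T, r = b ∨ r ∈ T') (hb : Nrm D F T' b)
    (h0 : Ok g Q P T') (h1 : Ok g Q (P ++ [b]) T') : Ok g Q P T := by
  intro A hA hne x hx hx2
  have hle : D.rootSubgroup F b ≤ NT D F T' := fun y hy => by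
    obtain ⟨t, rfl⟩ := g.mem_rootSubgroup.1 hy
    exact hb.mem g hc t
  have hw : (vG g A)⁻¹ * x ∈ D.rootSubgroup F b ⊔ XT D F T' := by
    refine g.rootGen_le (fun r hr hrn t => ?_) hx
    rcases hsub r hr with e | e
    · subst e; exact Subgroup.mem_sup_left (g.xG_mem_rootSubgroup _ t)
    · exact Subgroup.mem_sup_right (g.mem_rootGen hrn e t)
  rw [← SetLike.mem_coe, Subgroup.coe_mul_of_left_le_normalizer_right _ _ hle] at hw
  obtain ⟨z, hz, y, hy, e⟩ := Set.mem_mul.1 hw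
  obtain ⟨a, rfl⟩ := g.mem_rootSubgroup.1 hz
  have ex : x = vG g A * g.xG b a * y := by rw [mul_assoc, e]; group
  by_cases ha : a = 0
  · refine h0 A hA hne x ?_ hx2
    rw [ex, ha, g.xG_zero, mul_one]
    simpa [Cng, mul_assoc] using hy
  · refine h1 (A ++ [(b, a)]) (by simp [hA]) (fun p hp => ?_) x ?_ hx2
    · rcases List.mem_append.1 hp with hp | hp
      · exact hne p hp
      · rw [List.mem_singleton.1 hp]; exact ha
    · rw [vG_append g, vG_single g, ex]
      show _ ∈ XT D F T'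
      rwa [← mul_assoc, inv_mul_cancel, one_mul]

omit hc in
/-- Solve `u ^ i * t ^ j = a`. -/
theorem exists_coeff [Fintype F] {i j : ℕ} (hi : i = 1 ∨ i = 2) {t : F} (ht : t ≠ 0) (a : F) :
    ∃ u : F, u ^ i * t ^ j = a ∧ (a ≠ 0 → u ≠ 0) := by
  obtain ⟨u, hu⟩ : ∃ u : F, u ^ i = a / t ^ j := by
    rcases hi with rfl | rfl
    · exact ⟨a / t ^ j, pow_one _⟩
    · obtain ⟨s, hs⟩ := FiniteField.isSquare_of_char_two (ringChar.eq F 2) (a / t ^ j)
      exact ⟨s, by rw [hs, sq]⟩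
  refine ⟨u, by rw [hu, div_mul_cancel₀ _ (pow_ne_zero j ht)], fun ha e => ?_⟩
  rw [e, zero_pow (by omega)] at hu
  exact div_ne_zero ha (pow_ne_zero j ht) hu.symm

/-- The hypotheses on the roots of a removal: `p` is the pin that `x_s` sends onto `b`. -/
structure Rem (D : ChevalleyDatum) (F : Type*) [Field F] (T PA : List ℕ) (p : ℕ) (PB : List ℕ) (b s : ℕ) : Prop where
  hs : Nrm D F T s
  hb : Nrm D F T b
  hp : Nrm D F T p
  hps : p ≠ s
  hpn : p ≠ D.neg s
  hq : ∀ q ∈ PA ++ PB, Nrm D F T q ∧ Into D F T s q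
  hbq : ∀ q ∈ PB, Into D F T b q
  hsb : Into D F T s b
  hterm : ∀ c ∈ D.commTerms s p, keepT T c = true → Nrm D F T c.1

theorem rem_conj {T PA PB : List ℕ} {p b s : ℕ} (h : Rem D F T PA p PB b s) {A B : List (ℕ × F)} {t a u : F}
    (hA : A.map Prod.fst = PA) (hB : B.map Prod.fst = PB) {x : GL D.Idx F}
    (hx : Cng T (vG g (A ++ (p, t) :: B) * g.xG b a) x) :
    Cng T (vG g A * (g.xG p t * (((D.commTerms s p).filter (keepT T)).map fun c =>
      g.xG c.1 (u ^ c.2.2.1 * t ^ c.2.2.2)).prod) * vG g B * g.xG b a) (g.xG s u * x * (g.xG s u)⁻¹) := by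
  have hTn : ∀ q ∈ T, q < D.nroots := fun q hq => (h.hs.2 q hq).1
  have hz := h.hs.mem g hc u
  have qA : ∀ q ∈ A, q.1 < D.nroots ∧ Nrm D F T q.1 ∧ Into D F T s q.1 := fun q hq => by
    obtain ⟨h1, h2⟩ := h.hq q.1 (List.mem_append_left _ (hA ▸ List.mem_map_of_mem hq))
    exact ⟨h1.1, h1, h2⟩
  have qB : ∀ q ∈ B, q.1 < D.nroots ∧ Nrm D F T q.1 ∧ Into D F T s q.1 := fun q hq => by
    obtain ⟨h1, h2⟩ := h.hq q.1 (List.mem_append_right _ (hB ▸ List.mem_map_of_mem hq))
    exact ⟨h1.1, h1, h2⟩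
  have eb : Cng T (g.xG s u * g.xG b a * (g.xG s u)⁻¹) (g.xG b a) := by
    have := (cng_comm g hc h.hs h.hb.1 h.hsb a u).symm.mul_right (inv_mem hz)
    simpa [mul_assoc] using this
  have ep : Cng T (g.xG s u * g.xG p t * (g.xG s u)⁻¹) (g.xG p t *
      (((D.commTerms s p).filter (keepT T)).map fun c => g.xG c.1 (u ^ c.2.2.1 * t ^ c.2.2.2)).prod) := by
    rw [g.xG_conj hc h.hp.1 h.hs.1 h.hps h.hpn t u]
    exact (cng_terms g hc hTn t u _ h.hterm).mul_left _
  refine Cng.trans (Cng.symm ?_) (hx.conj hz)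
  rw [vG_append g, vG_cons g]
  have e : g.xG s u * (vG g A * (g.xG p t * vG g B) * g.xG b a) * (g.xG s u)⁻¹ =
      (g.xG s u * vG g A * (g.xG s u)⁻¹) * (g.xG s u * g.xG p t * (g.xG s u)⁻¹) *
        (g.xG s u * vG g B * (g.xG s u)⁻¹) * (g.xG s u * g.xG b a * (g.xG s u)⁻¹) := by group
  rw [e]
  have cN : ∀ y, y ∈ NT D F T → g.xG s u * y * (g.xG s u)⁻¹ ∈ NT D F T :=
    fun y hy => mul_mem (mul_mem hz hy) (inv_mem hz)
  refine Cng.mul (cN _ (h.hb.mem g hc a)) (Cng.mul (cN _ (vA_mem_NT g hc fun q hq => (qB q hq).2.1)) ?_ ?_) eb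
  · exact Cng.mul (cN _ (h.hp.mem g hc t)) (cng_conj_vA g hc h.hs u qA) ep
  · exact cng_conj_vA g hc h.hs u qB

/-- A root is removed by conjugation, nothing else appearing. -/
theorem ok_rem [Fintype F] (hQ : Stable Q) {T PA PB : List ℕ} {p b s : ℕ} (h : Rem D F T PA p PB b s)
    {c : ℕ × ℤ × ℕ × ℕ} (hk : (D.commTerms s p).filter (keepT T) = [c]) (hcb : c.1 = b)
    (hci : c.2.2.1 = 1 ∨ c.2.2.1 = 2) (hok : Ok g Q (PA ++ p :: PB) T) {A : List (ℕ × F)} {a : F}
    (hA : A.map Prod.fst = PA ++ p :: PB) (hne : ∀ q ∈ A, q.2 ≠ 0) {x : GL D.Idx F}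
    (hx : Cng T (vG g A * g.xG b a) x) (hx2 : x * x = 1) : Q x := by
  obtain ⟨A₁, A₂, rfl, hA₁, hA₂⟩ := List.map_eq_append_iff.1 hA
  obtain ⟨⟨p', t⟩, B, rfl, hp', hB⟩ := List.map_eq_cons_iff.1 hA₂
  obtain rfl : p' = p := hp'
  obtain ⟨u, hu, -⟩ := exists_coeff (j := c.2.2.2) hci (hne (p', t) (by simp)) a
  have h0 := rem_conj g hc h (u := u) hA₁ hB hx
  rw [hk, List.map_singleton, List.prod_singleton, hcb, hu] at h0
  refine hQ _ (g.xG_mem_group h.hs.1 u) _ (hok _ hA hne _ (Cng.trans ?_ h0) (by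
    rw [show g.xG s u * x * (g.xG s u)⁻¹ * (g.xG s u * x * (g.xG s u)⁻¹) =
      g.xG s u * (x * x) * (g.xG s u)⁻¹ by group, hx2]; group))
  have hb' : ∀ q ∈ B, q.1 < D.nroots ∧ Nrm D F T q.1 ∧ Into D F T b q.1 := fun q hq => by
    have hq' : q.1 ∈ PB := hB ▸ List.mem_map_of_mem hq
    exact ⟨(h.hq q.1 (List.mem_append_right _ hq')).1.1, (h.hq q.1 (List.mem_append_right _ hq')).1, h.hbq q.1 hq'⟩
  have h1 := ((cng_move g hc h.hb a B hb').mul_right (h.hb.mem g hc a)).mul_left (vG g A₁ * g.xG p' t)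
  rw [vG_append g, vG_cons g]
  simpa [mul_assoc, xG_sq g b a] using h1

/-- A pinned root is removed by conjugation and a new one appears. -/
theorem ok_exch [Fintype F] (hQ : Stable Q) {T PA PB : List ℕ} {p b s : ℕ} (h : Rem D F T PA p PB b s)
    {c d : ℕ × ℤ × ℕ × ℕ} (hk : (D.commTerms s p).filter (keepT T) = [c, d] ∨
      (D.commTerms s p).filter (keepT T) = [d, c])
    (hcb : c.1 = b) (hci : c.2.2.1 = 1 ∨ c.2.2.1 = 2)
    (hd : Nrm D F T d.1) (hdq : ∀ q ∈ PB, Into D F T d.1 q) (hbd : Into D F T b d.1)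
    (hok : Ok g Q (PA ++ p :: PB ++ [d.1]) T) {A : List (ℕ × F)} {a : F} (ha : a ≠ 0)
    (hA : A.map Prod.fst = PA ++ p :: PB) (hne : ∀ q ∈ A, q.2 ≠ 0) {x : GL D.Idx F}
    (hx : Cng T (vG g A * g.xG b a) x) (hx2 : x * x = 1) : Q x := by
  obtain ⟨A₁, A₂, rfl, hA₁, hA₂⟩ := List.map_eq_append_iff.1 hA
  obtain ⟨⟨p', t⟩, B, rfl, hp', hB⟩ := List.map_eq_cons_iff.1 hA₂
  obtain rfl : p' = p := hp'
  have ht : t ≠ 0 := hne (p', t) (by simp)
  obtain ⟨u, hu, hu0⟩ := exists_coeff (j := c.2.2.2) hci ht a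
  have h0 := rem_conj g hc h (u := u) hA₁ hB hx
  obtain ⟨ψ, hψ⟩ : ∃ ψ, ψ = u ^ d.2.2.1 * t ^ d.2.2.2 := ⟨_, rfl⟩
  have hψ0 : ψ ≠ 0 := hψ ▸ mul_ne_zero (pow_ne_zero _ (hu0 ha)) (pow_ne_zero _ ht)
  have hA' : (A₁ ++ (p', t) :: B ++ [(d.1, ψ)]).map Prod.fst = PA ++ p' :: PB ++ [d.1] := by simp [hA₁, hB]
  refine hQ _ (g.xG_mem_group h.hs.1 u) _ (hok _ hA' (fun q hq => ?_) _ (Cng.trans ?_ h0) (by
    rw [show g.xG s u * x * (g.xG s u)⁻¹ * (g.xG s u * x * (g.xG s u)⁻¹) =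
      g.xG s u * (x * x) * (g.xG s u)⁻¹ by group, hx2]; group))
  · rcases List.mem_append.1 hq with hq | hq
    · exact hne q hq
    · rw [List.mem_singleton.1 hq]; exact hψ0
  have hB' : ∀ r, Nrm D F T r → (∀ q ∈ PB, Into D F T r q) →
      ∀ q ∈ B, q.1 < D.nroots ∧ Nrm D F T q.1 ∧ Into D F T r q.1 := fun r _ hr q hq => by
    have hq' : q.1 ∈ PB := hB ▸ List.mem_map_of_mem hq
    exact ⟨(h.hq q.1 (List.mem_append_right _ hq')).1.1, (h.hq q.1 (List.mem_append_right _ hq')).1, hr q.1 hq'⟩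
  have nb := h.hb.mem g hc a
  have nd := hd.mem g hc ψ
  have nB : vG g B ∈ NT D F T := vA_mem_NT g hc fun q hq => (hB' b h.hb h.hbq q hq).2.1
  have key : Cng T (vG g B * g.xG d.1 ψ) (g.xG b a * g.xG d.1 ψ * vG g B * g.xG b a) := by
    have k1 : Cng T (vG g B * g.xG b a * g.xG d.1 ψ * g.xG b a) (vG g B * g.xG d.1 ψ) := by
      have h' := ((cng_comm g hc h.hb hd.1 hbd ψ a).symm.mul_right nb).mul_left (vG g B)
      simpa [mul_assoc, xG_sq g b a] using h'
    have k2 : Cng T (vG g B * g.xG b a * g.xG d.1 ψ * g.xG b a) (g.xG b a * vG g B * g.xG d.1 ψ * g.xG b a) :=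
      ((cng_move g hc h.hb a B (hB' b h.hb h.hbq)).mul_right nd).mul_right nb
    have k3 : Cng T (g.xG b a * vG g B * g.xG d.1 ψ * g.xG b a) (g.xG b a * g.xG d.1 ψ * vG g B * g.xG b a) := by
      have h' := ((cng_move g hc hd ψ B (hB' d.1 hd hdq)).mul_left (g.xG b a)).mul_right nb
      simpa [mul_assoc] using h'
    exact k1.symm.trans (k2.trans k3)
  have key' := key.mul_left (vG g A₁ * g.xG p' t)
  rcases hk with hk | hk
  · rw [hk, List.map_cons, List.map_singleton, List.prod_cons, List.prod_singleton, hcb, hu, ← hψ,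
      vG_append g, vG_append g, vG_cons g, vG_single g]
    simpa [mul_assoc] using key'
  · rw [hk, List.map_cons, List.map_singleton, List.prod_cons, List.prod_singleton, hcb, hu, ← hψ,
      vG_append g, vG_append g, vG_cons g, vG_single g]
    have h' := ((cng_comm g hc h.hb hd.1 hbd ψ a).symm.mul_right (mul_mem nB nb)).mul_left (vG g A₁ * g.xG p' t)
    refine Cng.trans (by simpa [mul_assoc] using key') (Cng.trans (by simpa [mul_assoc] using h') (Cng.of_eq ?_))
    group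

/-- Split off a root and remove it by conjugation. -/
theorem ok_kill [Fintype F] (hQ : Stable Q) {T T' PA PB : List ℕ} {p b s : ℕ} (h : Rem D F T' PA p PB b s)
    (hsub : ∀ r ∈ T, r = b ∨ r ∈ T') {c : ℕ × ℤ × ℕ × ℕ} (hk : (D.commTerms s p).filter (keepT T') = [c])
    (hcb : c.1 = b) (hci : c.2.2.1 = 1 ∨ c.2.2.1 = 2) (hok : Ok g Q (PA ++ p :: PB) T') :
    Ok g Q (PA ++ p :: PB) T := by
  refine ok_split g hc hsub h.hb hok fun A hA hne x hx hx2 => ?_
  obtain ⟨A₁, A₂, rfl, hA₁, hA₂⟩ := List.map_eq_append_iff.1 hA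
  obtain ⟨⟨b', a⟩, B', rfl, hb', hB'⟩ := List.map_eq_cons_iff.1 hA₂
  obtain rfl : b' = b := hb'
  rw [List.map_eq_nil_iff] at hB'
  subst hB'
  rw [vG_append g, vG_single g] at hx
  exact ok_rem g hc hQ h hk hcb hci hok hA₁ (fun q hq => hne q (by simp [hq])) hx hx2

/-- A pin may be moved to the end. -/
theorem cng_pull {T PA PC : List ℕ} {b : ℕ} (hb : Nrm D F T b)
    (hC : ∀ q ∈ PC, Nrm D F T q ∧ Into D F T b q) {A C : List (ℕ × F)} {a : F}
    (hA : A.map Prod.fst = PA) (hCm : C.map Prod.fst = PC) :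
    Cng T (vG g (A ++ C) * g.xG b a) (vG g (A ++ (b, a) :: C)) := by
  have h' := (cng_move g hc hb a C fun q hq => by
    obtain ⟨h1, h2⟩ := hC q.1 (hCm ▸ List.mem_map_of_mem hq)
    exact ⟨h1.1, h1, h2⟩).mul_left (vG g A)
  rw [vG_append g, vG_append g, vG_cons g]
  simpa [mul_assoc] using h'

/-- The product of mutually commuting pins squares to one. -/
theorem cng_sq {T : List ℕ} : ∀ A : List (ℕ × F), Comm D F T (A.map Prod.fst) →
    Cng T (vG g A * vG g A) 1 := by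
  intro A
  induction A with
  | nil => intro _; exact Cng.of_eq (by simp [vA])
  | cons p A ih =>
    intro h
    have hA : Comm D F T (A.map Prod.fst) :=
      fun q hq => ⟨(h q (by simp [hq])).1, fun r hr => (h q (by simp [hq])).2 r (by simp [hr])⟩
    have hp := h p.1 (by simp)
    have nA : vG g A ∈ NT D F T := vA_mem_NT g hc fun q hq => (hA q.1 (List.mem_map_of_mem hq)).1
    have h1 := ((cng_move g hc hp.1 p.2 A fun q hq => ⟨(hA q.1 (List.mem_map_of_mem hq)).1.1,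
      (hA q.1 (List.mem_map_of_mem hq)).1, hp.2 q.1 (List.mem_map_of_mem (by simp [hq]))⟩).mul_left
      (g.xG p.1 p.2)).mul_right nA
    have h2 := (ih hA).mul_left (g.xG p.1 p.2 * g.xG p.1 p.2)
    rw [vG_cons g]
    refine Cng.trans (by simpa [mul_assoc] using h1) (Cng.trans (Cng.of_eq ?_) (h2.trans (Cng.of_eq ?_)))
    · simp only [mul_assoc]
    · rw [mul_one, xG_sq g]

/-- No involution: one commutator of pins cannot be cancelled. -/
theorem ok_dead [Fintype F] {T T' PA PB PC : List ℕ} {p q b : ℕ}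
    (hsub : ∀ r ∈ T, r = b ∨ r ∈ T') (hpos : ∀ a ∈ T', half D ≤ a ∧ a < D.nroots)
    (hcl : ∀ a ∈ T', Nrm D F (T'.filter fun r => decide (a < r)) a)
    (hb : Nrm D F T' b) (hbp : half D ≤ b) (hbT : b ∉ T')
    (hR : Comm D F T' (PA ++ PB ++ PC)) (hp : Nrm D F T' p) (hq : Nrm D F T' q)
    (hpR : ∀ r ∈ PA ++ PB ++ PC, Into D F T' p r) (hqR : ∀ r ∈ PA ++ PB ++ PC, Into D F T' q r)
    (hbR : ∀ r ∈ PA ++ PB ++ PC ++ [p, q], Into D F T' b r) (hpq : p ≠ q) (hpn : p ≠ D.neg q)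
    (hterm : ∀ c ∈ D.commTerms q p, keepT T' c = true → Nrm D F T' c.1)
    {c : ℕ × ℤ × ℕ × ℕ} (hk : (D.commTerms q p).filter (keepT T') = [c]) (hcb : c.1 = b) :
    Ok g Q (PA ++ p :: PB ++ q :: PC) T := by
  intro A hA hne x hx hx2
  exfalso
  obtain ⟨AB, Cq, rfl, hAB, hCq⟩ := List.map_eq_append_iff.1 hA
  obtain ⟨A₁, A₂, rfl, hA₁, hA₂⟩ := List.map_eq_append_iff.1 hAB
  obtain ⟨⟨p', tp⟩, B, rfl, hp', hB⟩ := List.map_eq_cons_iff.1 hA₂
  obtain ⟨⟨q', tq⟩, C, rfl, hq', hC⟩ := List.map_eq_cons_iff.1 hCq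
  obtain rfl : p' = p := hp'
  obtain rfl : q' = q := hq'
  obtain ⟨R, hRd⟩ : ∃ R, R = A₁ ++ B ++ C := ⟨_, rfl⟩
  have hRm : R.map Prod.fst = PA ++ PB ++ PC := by simp [hRd, hA₁, hB, hC]
  have hin : ∀ r ∈ A₁ ++ B ++ C, r.1 ∈ PA ++ PB ++ PC := fun r hr => hRm ▸ List.mem_map_of_mem (hRd ▸ hr)
  have nl : ∀ L : List (ℕ × F), (∀ r ∈ L, r ∈ A₁ ++ B ++ C) → vG g L ∈ NT D F T' := fun L hL =>
    vA_mem_NT g hc fun r hr => (hR r.1 (hin r (hL r hr))).1
  have mv : ∀ (s : ℕ) (u : F), Nrm D F T' s → (∀ r ∈ PA ++ PB ++ PC, Into D F T' s r) →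
      ∀ L : List (ℕ × F), (∀ r ∈ L, r ∈ A₁ ++ B ++ C) → Cng T' (vG g L * g.xG s u) (g.xG s u * vG g L) :=
    fun s u hs hsR L hL => cng_move g hc hs u L fun r hr =>
      ⟨(hR r.1 (hin r (hL r hr))).1.1, (hR r.1 (hin r (hL r hr))).1, hsR r.1 (hin r (hL r hr))⟩
  obtain ⟨y, hyd⟩ : ∃ y, y = g.xG p' tp * g.xG q' tq := ⟨_, rfl⟩
  have ny : y ∈ NT D F T' := hyd ▸ mul_mem (hp.mem g hc tp) (hq.mem g hc tq)
  have nR : vG g R ∈ NT D F T' := nl R (fun r hr => hRd ▸ hr)
  have nC := nl C fun r hr => by simp [hr]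
  -- the product is `R * y`
  have e1 : Cng T' (vG g (A₁ ++ (p', tp) :: B ++ (q', tq) :: C)) (vG g R * y) := by
    have k1 := (((mv p' tp hp hpR B fun r hr => by simp [hr]).symm.mul_right
      (mul_mem (hq.mem g hc tq) nC)).mul_left (vG g A₁))
    have k2 := ((mv q' tq hq hqR C fun r hr => by simp [hr]).symm).mul_left (vG g A₁ * vG g B * g.xG p' tp)
    have k3 := ((mv p' tp hp hpR C fun r hr => by simp [hr]).symm.mul_right (hq.mem g hc tq)).mul_left
      (vG g A₁ * vG g B)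
    rw [vG_append g, vG_append g, vG_cons g, vG_cons g, hRd, vG_append g, vG_append g, hyd]
    refine Cng.trans (by simpa [mul_assoc] using k1) (Cng.trans (by simpa [mul_assoc] using k2) ?_)
    simpa [mul_assoc] using k3
  -- its square is the commutator
  have e2 : Cng T' (y * vG g R) (vG g R * y) := by
    have k1 := (mv q' tq hq hqR R fun r hr => hRd ▸ hr).symm.mul_left (g.xG p' tp)
    have k2 := (mv p' tp hp hpR R fun r hr => hRd ▸ hr).symm.mul_right (hq.mem g hc tq)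
    rw [hyd]
    refine Cng.trans (by simpa [mul_assoc] using k1) ?_
    simpa [mul_assoc] using k2
  obtain ⟨φ, hφ⟩ : ∃ φ, φ = tq ^ c.2.2.1 * tp ^ c.2.2.2 := ⟨_, rfl⟩
  have hφ0 : φ ≠ 0 := hφ ▸ mul_ne_zero (pow_ne_zero _ (hne (q', tq) (by simp))) (pow_ne_zero _ (hne (p', tp) (by simp)))
  have hTn : ∀ r ∈ T', r < D.nroots := fun r hr => (hpos r hr).2
  have e3 : Cng T' (y * y) (g.xG b φ) := by
    have k0 : Cng T' (g.xG q' tq * g.xG p' tp * (g.xG q' tq)⁻¹) (g.xG p' tp * g.xG b φ) := by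
      rw [g.xG_conj hc hp.1 hq.1 hpq hpn tp tq]
      have := (cng_terms g hc hTn tp tq _ hterm).mul_left (g.xG p' tp)
      rwa [hk, List.map_singleton, List.prod_singleton, hcb, ← hφ] at this
    have k1 := ((k0.mul_right (hq.mem g hc tq)).mul_right (hq.mem g hc tq)).mul_left (g.xG p' tp)
    rw [hyd]
    refine Cng.trans (Cng.of_eq ?_) (k1.trans (Cng.of_eq ?_))
    · group
    · calc g.xG p' tp * (g.xG p' tp * g.xG b φ * g.xG q' tq * g.xG q' tq)
          = (g.xG p' tp * g.xG p' tp) * g.xG b φ * (g.xG q' tq * g.xG q' tq) := by group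
        _ = g.xG b φ := by rw [xG_sq g, xG_sq g, one_mul, mul_one]
  have e4 : Cng T' (vG g R * y * (vG g R * y)) (g.xG b φ) := by
    have k1 := (e2.mul_right ny).mul_left (vG g R)
    have k2 := (cng_sq g hc R (hRm ▸ hR)).mul_right (mul_mem ny ny)
    refine Cng.trans (by simpa [mul_assoc] using k1) (Cng.trans (by simpa [mul_assoc] using k2) ?_)
    simpa using e3
  -- split off the `b` part
  have hle : D.rootSubgroup F b ≤ NT D F T' := fun z hz => by
    obtain ⟨t, rfl⟩ := g.mem_rootSubgroup.1 hz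
    exact hb.mem g hc t
  have hw : (vG g (A₁ ++ (p', tp) :: B ++ (q', tq) :: C))⁻¹ * x ∈ D.rootSubgroup F b ⊔ XT D F T' := by
    refine g.rootGen_le (fun r hr hrn t => ?_) hx
    rcases hsub r hr with e | e
    · subst e; exact Subgroup.mem_sup_left (g.xG_mem_rootSubgroup _ t)
    · exact Subgroup.mem_sup_right (g.mem_rootGen hrn e t)
  rw [← SetLike.mem_coe, Subgroup.coe_mul_of_left_le_normalizer_right _ _ hle] at hw
  obtain ⟨z, hz, w, hw, e⟩ := Set.mem_mul.1 hw
  obtain ⟨a, rfl⟩ := g.mem_rootSubgroup.1 hz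
  have nb := hb.mem g hc a
  have e5 : Cng T' (vG g R * y * g.xG b a) x := by
    refine ((e1.mul_right nb).symm).trans ?_
    have ex : x = vG g (A₁ ++ (p', tp) :: B ++ (q', tq) :: C) * g.xG b a * w := by rw [mul_assoc, e]; group
    rw [ex]
    show _ ∈ XT D F T'
    rwa [← mul_assoc, inv_mul_cancel, one_mul]
  have e6 : Cng T' (g.xG b a * (vG g R * y)) (vG g R * y * g.xG b a) := by
    have k := (cng_move g hc hb a (R ++ [(p', tp), (q', tq)]) fun r hr => by
      have hr' : r.1 ∈ PA ++ PB ++ PC ++ [p', q'] := by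
        have := List.mem_map_of_mem (f := Prod.fst) hr
        rwa [List.map_append, hRm] at this
      refine ⟨?_, ?_, hbR _ hr'⟩ <;> rcases List.mem_append.1 hr' with h' | h'
      · exact (hR _ h').1.1
      · rcases List.mem_cons.1 h' with e | e
        · rw [e]; exact hp.1
        · rw [List.mem_singleton.1 e]; exact hq.1
      · exact (hR _ h').1
      · rcases List.mem_cons.1 h' with e | e
        · rw [e]; exact hp
        · rw [List.mem_singleton.1 e]; exact hq).symm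
    rw [hyd]
    simpa [vG_append g, vG_cons g, vA_nil] using k
  have nRy : vG g R * y ∈ NT D F T' := mul_mem nR ny
  have h1 : Cng T' (g.xG b φ) 1 := by
    have k1 := Cng.mul (T := T') (mul_mem nRy nb) e5 e5
    rw [hx2] at k1
    have k2 := ((e6.mul_right nb).mul_left (vG g R * y))
    have k3 : Cng T' (vG g R * y * g.xG b a * (vG g R * y * g.xG b a)) (vG g R * y * (vG g R * y)) := by
      refine Cng.trans (by simpa [mul_assoc] using k2) (Cng.of_eq ?_)
      simp [mul_assoc, xG_sq g b a]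
    exact e4.symm.trans (k3.symm.trans k1)
  have h2 : g.xG b φ ∈ XT D F T' := by simpa [Cng] using inv_mem h1
  exact hφ0 (eq_zero_of_mem g hc hpos hcl hbp hb.1 hbT h2)

variable {dat : LieData} {sd : StructData} (hl : LieChecks D dat) (hs : StructChecks D dat sd)
include hl hs

omit [CharP F 2] in
theorem img_eq (w : List (Fin D.rank)) (r : Fin D.nroots) :
    (g.wperm w r).val = (w.map Fin.val).foldr (fun i a => refl sd i a) r := by
  induction w with
  | nil => rfl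
  | cons i w ih => rw [g.wperm_cons, Equiv.Perm.mul_apply, g.rperm_tab hl hs, ih]; rfl

/-- Move by a Weyl element and reorder. -/
theorem ok_move [Fintype F] (hQ : Stable Q) (w : List (Fin D.rank)) {P T T' : List ℕ} (ks : List ℕ)
    (hP : ∀ r ∈ P, r < D.nroots) (hT : ∀ r ∈ T, r < D.nroots)
    (hsub : ∀ r ∈ T, (w.map Fin.val).foldr (fun i a => refl sd i a) r ∈ T')
    (hcm : ks = [] ∨ Comm D F T' (P.map fun r => (w.map Fin.val).foldr (fun i a => refl sd i a) r))
    (hok : Ok g Q (ks.foldl (fun l k => swapAt k l) (P.map fun r => (w.map Fin.val).foldr (fun i a => refl sd i a) r)) T') :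
    Ok g Q P T := by
  intro A hA hne x hx hx2
  obtain ⟨im, him⟩ : ∃ im : ℕ → ℕ, im = fun r => (w.map Fin.val).foldr (fun i a => refl sd i a) r := ⟨_, rfl⟩
  have himr : ∀ r, im r = (w.map Fin.val).foldr (fun i a => refl sd i a) r := fun r => by rw [him]
  have key : ∀ r < D.nroots, ∀ t : F,
      (g.wordN w : GL D.Idx F) * g.xG r t * (g.wordN w)⁻¹ = g.xG (im r) t ∧ im r < D.nroots := by
    intro r hr t
    obtain ⟨η, hη, e, -⟩ := sgn_wordN (F := F) g w ⟨r, hr⟩
    have h1 : (η : F) = 1 := by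
      have h2 : (η : F) * η = 1 := by rw [← Units.val_mul, hη, Units.val_one]
      have h3 : ((η : F) - 1) * ((η : F) - 1) = 0 := by
        have h4 : (2 : F) = 0 := CharTwo.two_eq_zero
        linear_combination h2 + (1 - (η : F)) * h4
      exact sub_eq_zero.1 (mul_self_eq_zero.1 h3)
    refine ⟨?_, by rw [himr, ← img_eq g hc hl hs w ⟨r, hr⟩]; exact Fin.isLt _⟩
    rw [e, img_eq g hc hl hs, h1, one_mul, himr]
  obtain ⟨A', hA'⟩ : ∃ A' : List (ℕ × F), A' = A.map fun p => (im p.1, p.2) := ⟨_, rfl⟩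
  have hAr : ∀ p ∈ A, p.1 < D.nroots := fun p hp => hP _ (hA ▸ List.mem_map_of_mem hp)
  have cv : (g.wordN w : GL D.Idx F) * vG g A * (g.wordN w)⁻¹ = vG g A' := by
    rw [← MulAut.conj_apply]
    show MulAut.conj _ ((A.map fun p => g.xG p.1 p.2).prod) = ((A'.map fun p => g.xG p.1 p.2).prod)
    rw [map_list_prod, hA', List.map_map, List.map_map]
    exact congrArg List.prod (List.map_congr_left fun p hp => by
      show MulAut.conj _ (g.xG p.1 p.2) = g.xG (im p.1) p.2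
      rw [MulAut.conj_apply, (key _ (hAr p hp) p.2).1])
  have hXT : ∀ y ∈ XT D F T, (g.wordN w : GL D.Idx F) * y * (g.wordN w)⁻¹ ∈ XT D F T' := by
    intro y hy
    have hle : XT D F T ≤ (XT D F T').comap (MulAut.conj (g.wordN w : GL D.Idx F)).toMonoidHom :=
      g.rootGen_le fun r hr hrn t => by
        show MulAut.conj (g.wordN w : GL D.Idx F) (g.xG r t) ∈ XT D F T'
        rw [MulAut.conj_apply, (key r hrn t).1]
        exact g.mem_rootGen (key r hrn t).2 (show im r ∈ T' by rw [himr]; exact hsub r hr) t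
    exact hle hy
  have hx' : Cng T' (vG g A') ((g.wordN w : GL D.Idx F) * x * (g.wordN w)⁻¹) := by
    rw [← cv]
    have := hXT _ hx
    simpa [Cng, mul_assoc] using this
  have hfst : A'.map Prod.fst = P.map im := by
    rw [hA', List.map_map, ← hA, List.map_map]; rfl
  refine hQ _ (g.monomial_le_group (g.wordN_mem w)) _ (hok (ks.foldl (fun l k => swapAt k l) A') ?_ ?_ _ ?_ ?_)
  · rw [map_swaps, hfst, him]
  · intro p hp
    rw [mem_swaps, hA', List.mem_map] at hp
    obtain ⟨q, hq, rfl⟩ := hp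
    exact hne q hq
  · rcases hcm with rfl | hcm
    · exact hx'
    · refine (cng_swaps g hc ks A' ?_).symm.trans hx'
      rw [hfst, him]; exact hcm
  · rw [show (g.wordN w : GL D.Idx F) * x * (g.wordN w)⁻¹ * ((g.wordN w : GL D.Idx F) * x * (g.wordN w)⁻¹) =
      (g.wordN w : GL D.Idx F) * (x * x) * (g.wordN w)⁻¹ by group, hx2]
    group

end CfsgLib.Chev.UniCert
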