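import Mathlib
import Cfsg.Agent.Lib.Chev.UniCertSteps

/-!
A checker for reduction certificates and its soundness.
-/

set_option autoImplicit false
set_option linter.unusedSectionVars false

namespace CfsgLib.Chev.UniCert

open Cfsg.Lie CfsgLib.Chev.SLInvol CfsgLib.Chev.InvolMono

/-- A step of a certificate. -/
inductive Step where
  | leaf
  | split (b c0 c1 : ℕ)
  | kill (PA : List ℕ) (p : ℕ) (PB : List ℕ) (b s child : ℕ)
  | unpin (PA : List ℕ) (b : ℕ) (PC : List ℕ) (QA : List ℕ) (p : ℕ) (QB : List ℕ) (s : ℕ) (new : List ℕ) (child : ℕ)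
  | dead (PA : List ℕ) (p : ℕ) (PB : List ℕ) (q : ℕ) (PC : List ℕ) (b : ℕ)
  | move (w ks : List ℕ) (child : ℕ)

/-- A node: pins, free roots, step. -/
abbrev Node := List ℕ × List ℕ × Step

variable (D : ChevalleyDatum)

/-- The bit mask of a list. -/
noncomputable def maskT (T : List ℕ) : ℕ := List.rec 0 (fun a _ ih => Nat.lor (2 ^ a) ih) T

/-- The odd terms of a pair, as a bit mask read off a table. -/
noncomputable def termMask (tab : List ℕ) (s r : ℕ) : ℕ := (nth 0 tab s >>> (D.nroots * r)) % 2 ^ D.nroots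

/-- The table covers all odd terms. -/
noncomputable def tabB (tab : List ℕ) : Bool :=
  allR (fun s => allR (fun r => Nat.beq r s || Nat.beq r (fneg D s) ||
    allR (fun c : ℕ × ℤ × ℕ × ℕ => Int.beq' (c.2.1 % 2) 0 || Nat.testBit (termMask D tab s r) c.1)
      (fterms D s r)) (upto D.nroots)) (upto D.nroots)

/-- `Into`, checked. -/
noncomputable def inB (tab : List ℕ) (M s r : ℕ) : Bool :=
  Nat.beq r s || (!Nat.beq r (fneg D s) && Nat.beq (Nat.land (termMask D tab s r) M) (termMask D tab s r))

/-- `Nrm`, checked. -/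
noncomputable def nrmB (tab T : List ℕ) (M s : ℕ) : Bool :=
  Nat.blt s D.nroots && allR (fun r => Nat.blt r D.nroots && inB D tab M s r) T

/-- `Comm`, checked. -/
noncomputable def commB (tab T : List ℕ) (M : ℕ) (P : List ℕ) : Bool :=
  allR (fun p => nrmB D tab T M p && allR (fun q => inB D tab M p q) P) P

/-- `Rem`, checked. -/
noncomputable def remB (tab T : List ℕ) (M : ℕ) (PA : List ℕ) (p : ℕ) (PB : List ℕ) (b s : ℕ) : Bool :=
  nrmB D tab T M s && nrmB D tab T M b && nrmB D tab T M p && !Nat.beq p s && !Nat.beq p (fneg D s) &&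
  allR (fun q => nrmB D tab T M q && inB D tab M s q) (PA ++ PB) &&
  allR (fun q => inB D tab M b q) PB && inB D tab M s b &&
  allR (fun c => !keepT T c || nrmB D tab T M c.1) (fterms D s p)

/-- The kept terms of a simple removal. -/
noncomputable def oneTerm (T : List ℕ) (s p b : ℕ) : Bool :=
  match (fterms D s p).filter (keepT T) with
  | [c] => Nat.beq c.1 b && (Nat.beq c.2.2.1 1 || Nat.beq c.2.2.1 2)
  | _ => false

/-- The kept terms of an exchange. -/
noncomputable def twoTerms (tab T : List ℕ) (M : ℕ) (QB : List ℕ) (s p b e : ℕ) : Bool :=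
  nrmB D tab T M e && allR (fun q => inB D tab M e q) QB && inB D tab M b e &&
  match (fterms D s p).filter (keepT T) with
  | [c, d] => (Nat.beq c.1 b && (Nat.beq c.2.2.1 1 || Nat.beq c.2.2.1 2) && Nat.beq d.1 e) ||
      (Nat.beq d.1 b && (Nat.beq d.2.2.1 1 || Nat.beq d.2.2.1 2) && Nat.beq c.1 e)
  | _ => false

/-- The check at one node. -/
noncomputable def nodeB (sd : StructData) (tab : List ℕ) (N : List Node) (reps : List (List ℕ)) (i : ℕ) : Bool :=
  let P := (nth ([], [], Step.leaf) N i).1
  let T := (nth ([], [], Step.leaf) N i).2.1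
  match (nth ([], [], Step.leaf) N i).2.2 with
  | .leaf => decide (T = []) && reps.any fun R => decide (P = R)
  | .split b c0 c1 =>
    let T' := (nth ([], [], Step.leaf) N c0).2.1
    Nat.blt c0 i && Nat.blt c1 i && decide ((nth ([], [], Step.leaf) N c0).1 = P) &&
    decide ((nth ([], [], Step.leaf) N c1).1 = P ++ [b]) && decide ((nth ([], [], Step.leaf) N c1).2.1 = T') &&
    allR (fun r => Nat.beq r b || T'.contains r) T && nrmB D tab T' (maskT T') b
  | .kill PA p PB b s c =>
    let T' := (nth ([], [], Step.leaf) N c).2.1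
    Nat.blt c i && decide (P = PA ++ p :: PB) && decide ((nth ([], [], Step.leaf) N c).1 = P) &&
    allR (fun r => Nat.beq r b || T'.contains r) T && remB D tab T' (maskT T') PA p PB b s && oneTerm D T' s p b
  | .unpin PA b PC QA p QB s new c =>
    let M := maskT T
    Nat.blt c i && decide (P = PA ++ b :: PC) && decide (PA ++ PC = QA ++ p :: QB) &&
    decide ((nth ([], [], Step.leaf) N c).2.1 = T) && decide ((nth ([], [], Step.leaf) N c).1 = QA ++ p :: QB ++ new) &&
    allR (fun q => nrmB D tab T M q && inB D tab M b q) PC &&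
    remB D tab T M QA p QB b s &&
    match new with
    | [] => oneTerm D T s p b
    | [e] => twoTerms D tab T M QB s p b e
    | _ => false
  | .dead PA p PB q PC b =>
    let T' := T.filter fun r => !Nat.beq r b
    let M := maskT T'
    decide (P = PA ++ p :: PB ++ q :: PC) &&
    allR (fun a => Nat.ble (half D) a && Nat.blt a D.nroots &&
      nrmB D tab (T'.filter fun r => decide (a < r)) (maskT (T'.filter fun r => decide (a < r))) a) T' &&
    nrmB D tab T' M b && Nat.ble (half D) b && commB D tab T' M (PA ++ PB ++ PC) &&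
    nrmB D tab T' M p && nrmB D tab T' M q &&
    allR (fun r => inB D tab M p r) (PA ++ PB ++ PC) && allR (fun r => inB D tab M q r) (PA ++ PB ++ PC) &&
    allR (fun r => inB D tab M b r) (PA ++ PB ++ PC ++ [p, q]) && !Nat.beq p q && !Nat.beq p (fneg D q) &&
    allR (fun c => !keepT T' c || nrmB D tab T' M c.1) (fterms D q p) &&
    (match (fterms D q p).filter (keepT T') with
     | [c] => Nat.beq c.1 b
     | _ => false)
  | .move w ks c =>
    let T' := (nth ([], [], Step.leaf) N c).2.1
    let P' := P.map fun r => w.foldr (fun i a => refl sd i a) r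
    Nat.blt c i && allR (fun j => Nat.blt j D.rank) w &&
    allR (fun r => Nat.blt r D.nroots) P && allR (fun r => Nat.blt r D.nroots) T &&
    allR (fun r => T'.contains (w.foldr (fun i a => refl sd i a) r)) T &&
    (decide (ks = []) || commB D tab T' (maskT T') P') &&
    decide ((nth ([], [], Step.leaf) N c).1 = ks.foldl (fun l k => swapAt k l) P')

/-- A block of nodes. -/
noncomputable def blockB (sd : StructData) (tab : List ℕ) (N : List Node) (reps : List (List ℕ)) (m k : ℕ) : Bool :=
  allR (fun i => Nat.ble N.length (k * m + i) || nodeB D sd tab N reps (k * m + i)) (upto m)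

variable {D} (g : Good D) (hc : HasComm D) {F : Type*} [Field F] [CharP F 2]

theorem testBit_maskT {T : List ℕ} {a : ℕ} (h : Nat.testBit (maskT T) a = true) : a ∈ T := by
  induction T with
  | nil => simp [maskT] at h
  | cons b T ih =>
    have e : maskT (b :: T) = Nat.lor (2 ^ b) (maskT T) := rfl
    rw [e, show Nat.lor (2 ^ b) (maskT T) = 2 ^ b ||| maskT T from rfl, Nat.testBit_lor, Bool.or_eq_true,
      Nat.testBit_two_pow, decide_eq_true_eq] at h
    rcases h with rfl | h
    · exact List.mem_cons_self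
    · exact List.mem_cons_of_mem _ (ih h)

variable {tab : List ℕ} (htab : tabB D tab = true)
include g hc htab

theorem inB_sound {T : List ℕ} {s r : ℕ} (hs : s < D.nroots) (hr : r < D.nroots)
    (h : inB D tab (maskT T) s r = true) : Into D F T s r := by
  simp only [inB, Bool.or_eq_true, Bool.and_eq_true, Bool.not_eq_true', ← Bool.not_eq_true, Nat.beq_eq] at h
  rcases h with h | ⟨h1, h2⟩
  · exact Or.inl h
  rcases eq_or_ne r s with e | e
  · exact Or.inl e
  refine Or.inr ⟨by rw [neg_eq g.lie.pack hs]; exact h1, fun c hc' h0 => ?_⟩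
  have h3 := allR_upto (allR_upto htab hs) hr
  simp only [Bool.or_eq_true, Nat.beq_eq] at h3
  rcases h3 with (h3 | h3) | h3
  · exact absurd h3 e
  · exact absurd h3 h1
  rw [← g.fterms_eq hs hr] at hc'
  have h4 := allR_true h3 hc'
  rw [Bool.or_eq_true, Int.beq'_eq] at h4
  rcases h4 with h4 | h4
  · exact absurd ((CharP.intCast_eq_zero_iff F 2 _).2 (by omega)) h0
  · refine testBit_maskT ?_
    rw [← h2] at h4
    rw [show Nat.land (termMask D tab s r) (maskT T) = termMask D tab s r &&& maskT T from rfl, Nat.testBit_and,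
      Bool.and_eq_true] at h4
    exact h4.2

theorem nrmB_sound {T : List ℕ} {s : ℕ} (h : nrmB D tab T (maskT T) s = true) : Nrm D F T s := by
  simp only [nrmB, Bool.and_eq_true] at h
  have hs : s < D.nroots := by have := h.1; rw [Nat.blt, Nat.ble_eq] at this; omega
  refine ⟨hs, fun r hr => ?_⟩
  have h2 := allR_true h.2 hr
  rw [Bool.and_eq_true] at h2
  have hrn : r < D.nroots := by have := h2.1; rw [Nat.blt, Nat.ble_eq] at this; omega
  exact ⟨hrn, inB_sound g hc htab hs hrn h2.2⟩

theorem commB_sound {T P : List ℕ} (h : commB D tab T (maskT T) P = true) : Comm D F T P := by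
  intro p hp
  have h1 := allR_true h hp
  rw [Bool.and_eq_true] at h1
  refine ⟨nrmB_sound g hc htab h1.1, fun q hq => ?_⟩
  have h2 := allR_true h hq
  rw [Bool.and_eq_true] at h2
  exact inB_sound g hc htab (nrmB_sound (F := F) g hc htab h1.1).1 (nrmB_sound (F := F) g hc htab h2.1).1
    (allR_true h1.2 hq)

theorem terms_sound {T : List ℕ} {s p : ℕ} (hs : s < D.nroots) (hp : p < D.nroots)
    (h : allR (fun c => !keepT T c || nrmB D tab T (maskT T) c.1) (fterms D s p) = true) :
    ∀ c ∈ D.commTerms s p, keepT T c = true → Nrm D F T c.1 := by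
  intro c hcm hk
  have h1 := allR_true h (a := c) (by rw [g.fterms_eq hs hp]; exact hcm)
  rw [Bool.or_eq_true, Bool.not_eq_true', hk] at h1
  exact nrmB_sound g hc htab (h1.resolve_left (by simp))

theorem remB_sound {T PA PB : List ℕ} {p b s : ℕ} (h : remB D tab T (maskT T) PA p PB b s = true) :
    Rem D F T PA p PB b s := by
  simp only [remB, Bool.and_eq_true, Bool.not_eq_true', ← Bool.not_eq_true, Nat.beq_eq] at h
  obtain ⟨⟨⟨⟨⟨⟨⟨⟨h1, h2⟩, h3⟩, h4⟩, h5⟩, h6⟩, h7⟩, h8⟩, h9⟩ := h
  have ns : Nrm D F T s := nrmB_sound g hc htab h1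
  have nb : Nrm D F T b := nrmB_sound g hc htab h2
  have np : Nrm D F T p := nrmB_sound g hc htab h3
  have hq : ∀ q ∈ PA ++ PB, Nrm D F T q ∧ Into D F T s q := fun q hq => by
    have h' := allR_true h6 hq
    rw [Bool.and_eq_true] at h'
    have nq : Nrm D F T q := nrmB_sound g hc htab h'.1
    exact ⟨nq, inB_sound g hc htab ns.1 nq.1 h'.2⟩
  refine ⟨ns, nb, np, h4, by rw [neg_eq g.lie.pack ns.1]; exact h5, hq,
    fun q hq' => inB_sound g hc htab nb.1 (hq q (List.mem_append_right _ hq')).1.1 (allR_true h7 hq'),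
    inB_sound g hc htab ns.1 nb.1 h8, terms_sound g hc htab ns.1 np.1 h9⟩

omit g hc htab in
theorem sub_sound {T T' : List ℕ} {b : ℕ} (h : allR (fun r => Nat.beq r b || T'.contains r) T = true) :
    ∀ r ∈ T, r = b ∨ r ∈ T' := fun r hr => by
  have := allR_true h hr
  simpa only [Bool.or_eq_true, Nat.beq_eq, List.contains_iff_mem] using this

theorem oneTerm_sound {T : List ℕ} {s p b : ℕ} (hs : s < D.nroots) (hp : p < D.nroots)
    (h : oneTerm D T s p b = true) :
    ∃ c, (D.commTerms s p).filter (keepT T) = [c] ∧ c.1 = b ∧ (c.2.2.1 = 1 ∨ c.2.2.1 = 2) := by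
  rw [oneTerm] at h
  split at h
  · next c he =>
    rw [← g.fterms_eq hs hp]
    simp only [Bool.and_eq_true, Bool.or_eq_true, Nat.beq_eq] at h
    exact ⟨c, he, h.1, h.2⟩
  · exact absurd h (by simp)

theorem twoTerms_sound {T QB : List ℕ} {s p b e : ℕ} (hs : s < D.nroots) (hp : p < D.nroots) (hb : b < D.nroots)
    (hQ : ∀ q ∈ QB, q < D.nroots) (h : twoTerms D tab T (maskT T) QB s p b e = true) :
    Nrm D F T e ∧ (∀ q ∈ QB, Into D F T e q) ∧ Into D F T b e ∧
    ∃ c d, ((D.commTerms s p).filter (keepT T) = [c, d] ∨ (D.commTerms s p).filter (keepT T) = [d, c]) ∧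
      c.1 = b ∧ (c.2.2.1 = 1 ∨ c.2.2.1 = 2) ∧ d.1 = e := by
  rw [twoTerms] at h
  simp only [Bool.and_eq_true] at h
  obtain ⟨⟨⟨h1, h2⟩, h3⟩, h4⟩ := h
  have ne : Nrm D F T e := nrmB_sound g hc htab h1
  refine ⟨ne, fun q hq => inB_sound g hc htab ne.1 (hQ q hq) (allR_true h2 hq), inB_sound g hc htab hb ne.1 h3, ?_⟩
  split at h4
  · next c d he =>
    rw [← g.fterms_eq hs hp]
    simp only [Bool.and_eq_true, Bool.or_eq_true, Nat.beq_eq] at h4
    rcases h4 with ⟨⟨a1, a2⟩, a3⟩ | ⟨⟨a1, a2⟩, a3⟩
    · exact ⟨c, d, Or.inl he, a1, a2, a3⟩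
    · exact ⟨d, c, Or.inr he, a1, a2, a3⟩
  · exact absurd h4 (by simp)

variable {dat : LieData} {sd : StructData} (hl : LieChecks D dat) (hs : StructChecks D dat sd)
include hl hs

/-- A checked certificate is sound. -/
theorem nodes_sound [Fintype F] {Q : GL D.Idx F → Prop} (hQ : Stable Q) {N : List Node} {reps : List (List ℕ)}
    (hreps : ∀ R ∈ reps, Ok g Q R []) (h : ∀ i < N.length, nodeB D sd tab N reps i = true) :
    ∀ i < N.length, Ok g Q (nth ([], [], Step.leaf) N i).1 (nth ([], [], Step.leaf) N i).2.1 := by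
  intro i
  induction i using Nat.strong_induction_on with
  | _ i ih =>
    intro hi
    have ih' : ∀ c, Nat.blt c i = true → Ok g Q (nth ([], [], Step.leaf) N c).1 (nth ([], [], Step.leaf) N c).2.1 :=
      fun c hci => by
        rw [Nat.blt, Nat.ble_eq] at hci
        exact ih c (by omega) (by omega)
    have hn := h i hi
    rw [nodeB] at hn
    generalize hnode : nth ([], [], Step.leaf) N i = nd at hn ⊢
    obtain ⟨P, T, st⟩ := nd
    dsimp only at hn ⊢
    cases st with
    | leaf =>
      simp only [Bool.and_eq_true, decide_eq_true_eq, List.any_eq_true] at hn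
      obtain ⟨rfl, R, hR, rfl⟩ := hn
      exact hreps _ hR
    | split b c0 c1 =>
      simp only [Bool.and_eq_true, decide_eq_true_eq] at hn
      obtain ⟨⟨⟨⟨⟨⟨l0, l1⟩, e0⟩, e1⟩, e2⟩, h5⟩, h6⟩ := hn
      have k0 := ih' c0 l0
      have k1 := ih' c1 l1
      rw [e0] at k0
      rw [e1, e2] at k1
      exact ok_split g hc (sub_sound h5) (nrmB_sound g hc htab h6) k0 k1
    | kill PA p PB b s c =>
      simp only [Bool.and_eq_true, decide_eq_true_eq] at hn
      obtain ⟨⟨⟨⟨⟨l, rfl⟩, e0⟩, h5⟩, h6⟩, h7⟩ := hn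
      have k0 := ih' c l
      rw [e0] at k0
      have hr : Rem D F (nth ([], [], Step.leaf) N c).2.1 PA p PB b s := remB_sound g hc htab h6
      obtain ⟨t, ht, htb, hti⟩ := oneTerm_sound g hc htab hr.hs.1 hr.hp.1 h7
      exact ok_kill g hc hQ hr (sub_sound h5) ht htb hti k0
    | unpin PA b PC QA p QB s new c =>
      simp only [Bool.and_eq_true, decide_eq_true_eq] at hn
      obtain ⟨⟨⟨⟨⟨⟨⟨l, rfl⟩, eQ⟩, eT⟩, eP⟩, h5⟩, h6⟩, h7⟩ := hn
      have k0 := ih' c l
      rw [eT, eP] at k0
      have hr : Rem D F T QA p QB b s := remB_sound g hc htab h6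
      have hC : ∀ q ∈ PC, Nrm D F T q ∧ Into D F T b q := fun q hq => by
        have h' := allR_true h5 hq
        rw [Bool.and_eq_true] at h'
        have nq : Nrm D F T q := nrmB_sound g hc htab h'.1
        exact ⟨nq, inB_sound g hc htab hr.hb.1 nq.1 h'.2⟩
      intro A hA hne x hx hx2
      obtain ⟨A₁, A₂, rfl, hA₁, hA₂⟩ := List.map_eq_append_iff.1 hA
      obtain ⟨⟨b', a⟩, C, rfl, hb', hC'⟩ := List.map_eq_cons_iff.1 hA₂
      obtain rfl : b' = b := hb'
      have hx' : Cng T (vG g (A₁ ++ C) * g.xG b' a) x := (cng_pull g hc hr.hb hC hA₁ hC').trans hx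
      have hm : (A₁ ++ C).map Prod.fst = QA ++ p :: QB := by rw [List.map_append, hA₁, hC', eQ]
      have hne' : ∀ q ∈ A₁ ++ C, q.2 ≠ 0 := fun q hq => hne q (by
        rcases List.mem_append.1 hq with hq | hq <;> simp [hq])
      split at h7
      · rw [List.append_nil] at k0
        obtain ⟨t, ht, htb, hti⟩ := oneTerm_sound g hc htab hr.hs.1 hr.hp.1 h7
        exact ok_rem g hc hQ hr ht htb hti k0 hm hne' hx' hx2
      · next e =>
        obtain ⟨n1, n2, n3, t, d, ht, htb, hti, htd⟩ := twoTerms_sound (F := F) g hc htab hr.hs.1 hr.hp.1 hr.hb.1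
          (fun q hq => (hr.hq q (List.mem_append_right _ hq)).1.1) h7
        subst htd
        exact ok_exch g hc hQ hr ht htb hti n1 n2 n3 k0 (hne (b', a) (by simp)) hm hne' hx' hx2
      · exact absurd h7 (by simp)
    | dead PA p PB q PC b =>
      simp only [Bool.and_eq_true, decide_eq_true_eq, Bool.not_eq_true', ← Bool.not_eq_true, Nat.beq_eq,
        Nat.ble_eq] at hn
      obtain ⟨⟨⟨⟨⟨⟨⟨⟨⟨⟨⟨⟨⟨rfl, h1⟩, h2⟩, h3⟩, h4⟩, h5⟩, h6⟩, h7⟩, h8⟩, h9⟩, h10⟩, h11⟩, h12⟩, h13⟩ := hn
      have nb : Nrm D F (T.filter fun r => !Nat.beq r b) b := nrmB_sound g hc htab h2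
      have np : Nrm D F (T.filter fun r => !Nat.beq r b) p := nrmB_sound g hc htab h5
      have nq : Nrm D F (T.filter fun r => !Nat.beq r b) q := nrmB_sound g hc htab h6
      have hR : Comm D F (T.filter fun r => !Nat.beq r b) (PA ++ PB ++ PC) := commB_sound g hc htab h4
      have hall : ∀ a ∈ T.filter (fun r => !Nat.beq r b), (half D ≤ a ∧ a < D.nroots) ∧
          Nrm D F ((T.filter fun r => !Nat.beq r b).filter fun r => decide (a < r)) a := fun a ha => by
        have h' := allR_true h1 ha
        simp only [Bool.and_eq_true, Nat.ble_eq, Nat.blt] at h'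
        exact ⟨⟨h'.1.1, by omega⟩, nrmB_sound g hc htab h'.2⟩
      split at h13
      · next t he =>
        rw [g.fterms_eq nq.1 np.1] at he
        refine ok_dead g hc (fun r hr => ?_) (fun a ha => (hall a ha).1) (fun a ha => (hall a ha).2) nb h3 ?_ hR
          np nq (fun r hr => inB_sound g hc htab np.1 (hR r hr).1.1 (allR_true h7 hr))
          (fun r hr => inB_sound g hc htab nq.1 (hR r hr).1.1 (allR_true h8 hr))
          (fun r hr => inB_sound g hc htab nb.1 ?_ (allR_true h9 hr))
          h10 (by rw [neg_eq g.lie.pack nq.1]; exact h11) (terms_sound g hc htab nq.1 np.1 h12) he (Nat.beq_eq ▸ h13)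
        · by_cases e : r = b
          · exact Or.inl e
          · exact Or.inr (List.mem_filter.2 ⟨hr, by simp [← Bool.not_eq_true, Nat.beq_eq, e]⟩)
        · intro hb
          have := (List.mem_filter.1 hb).2
          simp at this
        · rcases List.mem_append.1 hr with h' | h'
          · exact (hR r h').1.1
          · rcases List.mem_cons.1 h' with e | e
            · rw [e]; exact np.1
            · rw [List.mem_singleton.1 e]; exact nq.1
      · exact absurd h13 (by simp)
    | move w ks c =>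
      simp only [Bool.and_eq_true, Bool.or_eq_true, decide_eq_true_eq] at hn
      obtain ⟨⟨⟨⟨⟨⟨l, hw⟩, hP⟩, hT⟩, hsub⟩, hcm⟩, eP⟩ := hn
      have hw' : ∀ j ∈ w, j < D.rank := fun j hj => by
        have := allR_true hw hj; rw [Nat.blt, Nat.ble_eq] at this; omega
      obtain ⟨w', rfl⟩ : ∃ w' : List (Fin D.rank), w'.map Fin.val = w :=
        ⟨w.pmap (fun i hi => ⟨i, hi⟩) hw', by simp [List.map_pmap]⟩
      have k0 := ih' c l
      rw [eP] at k0
      refine ok_move g hc hl hs hQ w' ks
        (fun r hr => by have := allR_true hP hr; rw [Nat.blt, Nat.ble_eq] at this; omega)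
        (fun r hr => by have := allR_true hT hr; rw [Nat.blt, Nat.ble_eq] at this; omega)
        (fun r hr => List.contains_iff_mem.1 (allR_true hsub hr))
        (hcm.imp id fun h' => commB_sound g hc htab h') k0

omit g hc htab hl hs in
theorem blocks_sound {sd : StructData} {tab : List ℕ} {N : List Node} {reps : List (List ℕ)} {m k : ℕ}
    (hk : N.length ≤ k * m) (hm : 0 < m) (hb : ∀ c < k, blockB D sd tab N reps m c = true) :
    ∀ i < N.length, nodeB D sd tab N reps i = true := by
  intro i hi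
  have hc' : i / m < k := Nat.div_lt_of_lt_mul (by nlinarith)
  have h := allR_upto (hb _ hc') (Nat.mod_lt i hm)
  rw [show i / m * m + i % m = i by rw [mul_comm]; exact Nat.div_add_mod i m, Bool.or_eq_true, Nat.ble_eq] at h
  exact h.resolve_left (by omega)

end CfsgLib.Chev.UniCert
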