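import Cfsg.Agent.Lib.Chev.Good
import Cfsg.Agent.Lib.Chev.WeylTables

/-!
The seven Weyl groups are the Coxeter groups of the standard matrices.
-/

set_option autoImplicit false
set_option maxRecDepth 100000

namespace CfsgLib.Chev

open Cfsg.Lie

theorem weylIsoG2 (g : Good chevG2) :
    ∃ e : ↥g.weyl ≃* CoxeterMatrix.G₂.Group, ∀ i : Fin 2, e (g.wS i) = CoxeterMatrix.G₂.simple i := by
  refine g.exists_coxeterEquiv CoxeterMatrix.G₂ fun i j => ?_
  rw [g.orderOf_wS checksG2 structChecksG2 wordMG2 wordMG2_ok]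
  revert i j
  show ∀ i j : Fin 2, CoxeterMatrix.G₂ i j = nth 0 (nth [] wordMG2 i.val) j.val
  intro i j
  fin_cases i <;> fin_cases j <;> rfl

theorem card_coxeterG2 : Nat.card CoxeterMatrix.G₂.Group = 12 := by
  obtain ⟨e, -⟩ := weylIsoG2 goodG2
  rw [← Nat.card_congr e.toEquiv, card_weylG2]

theorem orderOf_coxeterG2 :
    orderOf ((List.finRange 2).map CoxeterMatrix.G₂.simple).prod = 6 := by
  obtain ⟨e, he⟩ := weylIsoG2 goodG2
  have := goodG2.orderOf_coxeterElement checksG2 structChecksG2 6 coxNumberG2_ok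
  rw [← e.orderOf_eq, map_list_prod, List.map_map] at this
  rw [← this]
  congr 1
  exact congrArg List.prod (List.map_congr_left fun i _ => (he i).symm)

theorem weylIsoB2 (g : Good chevB2) :
    ∃ e : ↥g.weyl ≃* (CoxeterMatrix.B 2).Group, ∀ i : Fin 2, e (g.wS i) = (CoxeterMatrix.B 2).simple i := by
  refine g.exists_coxeterEquiv (CoxeterMatrix.B 2) fun i j => ?_
  rw [g.orderOf_wS checksB2 structChecksB2 wordMB2 wordMB2_ok]
  revert i j
  show ∀ i j : Fin 2, (CoxeterMatrix.B 2) i j = nth 0 (nth [] wordMB2 i.val) j.val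
  intro i j
  fin_cases i <;> fin_cases j <;> rfl

theorem card_coxeterB2 : Nat.card (CoxeterMatrix.B 2).Group = 8 := by
  obtain ⟨e, -⟩ := weylIsoB2 goodB2
  rw [← Nat.card_congr e.toEquiv, card_weylB2]

theorem orderOf_coxeterB2 :
    orderOf ((List.finRange 2).map (CoxeterMatrix.B 2).simple).prod = 4 := by
  obtain ⟨e, he⟩ := weylIsoB2 goodB2
  have := goodB2.orderOf_coxeterElement checksB2 structChecksB2 4 coxNumberB2_ok
  rw [← e.orderOf_eq, map_list_prod, List.map_map] at this
  rw [← this]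
  congr 1
  exact congrArg List.prod (List.map_congr_left fun i _ => (he i).symm)

theorem weylIsoD4 (g : Good chevD4) :
    ∃ e : ↥g.weyl ≃* coxeterD4.Group, ∀ i : Fin 4, e (g.wS i) = coxeterD4.simple i := by
  refine g.exists_coxeterEquiv coxeterD4 fun i j => ?_
  rw [g.orderOf_wS checksD4 structChecksD4 wordMD4 wordMD4_ok]
  revert i j
  show ∀ i j : Fin 4, coxeterD4 i j = nth 0 (nth [] wordMD4 i.val) j.val
  intro i j
  fin_cases i <;> fin_cases j <;> rfl

theorem card_coxeterD4 : Nat.card coxeterD4.Group = 192 := by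
  obtain ⟨e, -⟩ := weylIsoD4 goodD4
  rw [← Nat.card_congr e.toEquiv, card_weylD4]

theorem orderOf_coxeterD4 :
    orderOf ((List.finRange 4).map coxeterD4.simple).prod = 6 := by
  obtain ⟨e, he⟩ := weylIsoD4 goodD4
  have := goodD4.orderOf_coxeterElement checksD4 structChecksD4 6 coxNumberD4_ok
  rw [← e.orderOf_eq, map_list_prod, List.map_map] at this
  rw [← this]
  congr 1
  exact congrArg List.prod (List.map_congr_left fun i _ => (he i).symm)

theorem weylIsoF4 (g : Good chevF4) :
    ∃ e : ↥g.weyl ≃* CoxeterMatrix.F₄.Group, ∀ i : Fin 4, e (g.wS i) = CoxeterMatrix.F₄.simple i := by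
  refine g.exists_coxeterEquiv CoxeterMatrix.F₄ fun i j => ?_
  rw [g.orderOf_wS checksF4 structChecksF4 wordMF4 wordMF4_ok]
  revert i j
  show ∀ i j : Fin 4, CoxeterMatrix.F₄ i j = nth 0 (nth [] wordMF4 i.val) j.val
  intro i j
  fin_cases i <;> fin_cases j <;> rfl

theorem card_coxeterF4 : Nat.card CoxeterMatrix.F₄.Group = 1152 := by
  obtain ⟨e, -⟩ := weylIsoF4 goodF4
  rw [← Nat.card_congr e.toEquiv, card_weylF4]

theorem orderOf_coxeterF4 :
    orderOf ((List.finRange 4).map CoxeterMatrix.F₄.simple).prod = 12 := by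
  obtain ⟨e, he⟩ := weylIsoF4 goodF4
  have := goodF4.orderOf_coxeterElement checksF4 structChecksF4 12 coxNumberF4_ok
  rw [← e.orderOf_eq, map_list_prod, List.map_map] at this
  rw [← this]
  congr 1
  exact congrArg List.prod (List.map_congr_left fun i _ => (he i).symm)

theorem weylIsoE6 (g : Good chevE6) :
    ∃ e : ↥g.weyl ≃* CoxeterMatrix.E₆.Group, ∀ i : Fin 6, e (g.wS i) = CoxeterMatrix.E₆.simple i := by
  refine g.exists_coxeterEquiv CoxeterMatrix.E₆ fun i j => ?_
  rw [g.orderOf_wS checksE6 structChecksE6 wordME6 wordME6_ok]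
  revert i j
  show ∀ i j : Fin 6, CoxeterMatrix.E₆ i j = nth 0 (nth [] wordME6 i.val) j.val
  intro i j
  fin_cases i <;> fin_cases j <;> rfl

theorem card_coxeterE6 : Nat.card CoxeterMatrix.E₆.Group = 51840 := by
  obtain ⟨e, -⟩ := weylIsoE6 goodE6
  rw [← Nat.card_congr e.toEquiv, card_weylE6]

theorem orderOf_coxeterE6 :
    orderOf ((List.finRange 6).map CoxeterMatrix.E₆.simple).prod = 12 := by
  obtain ⟨e, he⟩ := weylIsoE6 goodE6
  have := goodE6.orderOf_coxeterElement checksE6 structChecksE6 12 coxNumberE6_ok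
  rw [← e.orderOf_eq, map_list_prod, List.map_map] at this
  rw [← this]
  congr 1
  exact congrArg List.prod (List.map_congr_left fun i _ => (he i).symm)

theorem weylIsoE7 (g : Good chevE7) :
    ∃ e : ↥g.weyl ≃* CoxeterMatrix.E₇.Group, ∀ i : Fin 7, e (g.wS i) = CoxeterMatrix.E₇.simple i := by
  refine g.exists_coxeterEquiv CoxeterMatrix.E₇ fun i j => ?_
  rw [g.orderOf_wS checksE7 structChecksE7 wordME7 wordME7_ok]
  revert i j
  show ∀ i j : Fin 7, CoxeterMatrix.E₇ i j = nth 0 (nth [] wordME7 i.val) j.val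
  intro i j
  fin_cases i <;> fin_cases j <;> rfl

theorem card_coxeterE7 : Nat.card CoxeterMatrix.E₇.Group = 2903040 := by
  obtain ⟨e, -⟩ := weylIsoE7 goodE7
  rw [← Nat.card_congr e.toEquiv, card_weylE7]

theorem orderOf_coxeterE7 :
    orderOf ((List.finRange 7).map CoxeterMatrix.E₇.simple).prod = 18 := by
  obtain ⟨e, he⟩ := weylIsoE7 goodE7
  have := goodE7.orderOf_coxeterElement checksE7 structChecksE7 18 coxNumberE7_ok
  rw [← e.orderOf_eq, map_list_prod, List.map_map] at this
  rw [← this]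
  congr 1
  exact congrArg List.prod (List.map_congr_left fun i _ => (he i).symm)

theorem weylIsoE8 (g : Good chevE8) :
    ∃ e : ↥g.weyl ≃* CoxeterMatrix.E₈.Group, ∀ i : Fin 8, e (g.wS i) = CoxeterMatrix.E₈.simple i := by
  refine g.exists_coxeterEquiv CoxeterMatrix.E₈ fun i j => ?_
  rw [g.orderOf_wS checksE8 structChecksE8 wordME8 wordME8_ok]
  revert i j
  show ∀ i j : Fin 8, CoxeterMatrix.E₈ i j = nth 0 (nth [] wordME8 i.val) j.val
  intro i j
  fin_cases i <;> fin_cases j <;> rfl

theorem card_coxeterE8 : Nat.card CoxeterMatrix.E₈.Group = 696729600 := by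
  obtain ⟨e, -⟩ := weylIsoE8 goodE8
  rw [← Nat.card_congr e.toEquiv, card_weylE8]

theorem orderOf_coxeterE8 :
    orderOf ((List.finRange 8).map CoxeterMatrix.E₈.simple).prod = 30 := by
  obtain ⟨e, he⟩ := weylIsoE8 goodE8
  have := goodE8.orderOf_coxeterElement checksE8 structChecksE8 30 coxNumberE8_ok
  rw [← e.orderOf_eq, map_list_prod, List.map_map] at this
  rw [← this]
  congr 1
  exact congrArg List.prod (List.map_congr_left fun i _ => (he i).symm)

end CfsgLib.Chev
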