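import Cfsg.Agent.S0740
import Cfsg.Agent.Lib.Clifford.Zass
import Cfsg.Agent.Lib.Perm.ZassenhausKernel
import Cfsg.Agent.Lib.Perm.ZassenhausAbelian
import Cfsg.Agent.Lib.Solvable.FrobeniusKernel

/-!
# Normal subgroups of Zassenhaus groups; simplicity in odd degree
-/

namespace CfsgLib.Chev.ZassNormal

open MulAction

universe u v

variable {G : Type u} {Ω : Type v} [Group G] [MulAction G Ω]

theorem finite_group [FaithfulSMul G Ω] [Finite Ω] : Finite G :=
  Finite.of_injective (MulAction.toPerm : G → Equiv.Perm Ω) MulAction.toPerm_injective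

theorem exists_third [Fintype Ω] (hbig : 3 ≤ Fintype.card Ω) (a b : Ω) : ∃ w, w ≠ a ∧ w ≠ b := by
  classical
  by_contra h
  push Not at h
  have hle : (Finset.univ : Finset Ω) ⊆ {a, b} := fun w _ => by
    by_cases hw : w = a
    · simp [hw]
    · simp [h w hw]
  have := (Finset.card_le_card hle).trans Finset.card_le_two
  rw [Finset.card_univ] at this
  omega

/-- A nontrivial normal subgroup contains a nontrivial element fixing two given points. -/
theorem exists_fix_two [Fintype Ω] (hZ : Cfsg.IsZassenhausGroup G Ω) {N : Subgroup G} [hN : N.Normal]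
    (hN1 : N ≠ ⊥) {a b : Ω} (hab : a ≠ b) :
    ∃ k ∈ N, k ≠ 1 ∧ k • a = a ∧ k • b = b := by
  obtain ⟨hf, h2t, h3, hfix, hreg⟩ := hZ
  haveI := hf
  haveI : Finite G := finite_group (Ω := Ω)
  haveI := isPreprimitive_of_is_two_pretransitive h2t
  haveI htr : IsPretransitive N Ω := CfsgLib.Perm.normal_isPretransitive hN1
  suffices h : ∃ (k : G) (c d : Ω), k ∈ N ∧ k ≠ 1 ∧ c ≠ d ∧ k • c = c ∧ k • d = d by
    obtain ⟨k, c, d, hk, hk1, hcd, hkc, hkd⟩ := h
    obtain ⟨g, g1, g2⟩ := CfsgLib.Perm.exists_smul_pair h2t hcd hab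
    refine ⟨g * k * g⁻¹, hN.conj_mem k hk g, fun e => hk1 (conj_eq_one_iff.1 e), ?_, ?_⟩
    · rw [mul_smul, mul_smul, ← g1, inv_smul_smul, hkc]
    · rw [mul_smul, mul_smul, ← g2, inv_smul_smul, hkd]
  by_contra hno
  push Not at hno
  have hno' : ∀ n : N, n ≠ 1 → ∀ c d : Ω, (n : G) • c = c → (n : G) • d = d → c = d :=
    fun n hn c d hc hd => by_contra fun hcd =>
      hno n c d n.2 (fun e => hn (Subtype.ext e)) hcd hc hd
  obtain ⟨x, hx⟩ := hreg N hN htr
  obtain ⟨y, hy⟩ : ∃ y : Ω, y ≠ x := by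
    rcases eq_or_ne a x with rfl | h
    · exact ⟨b, hab.symm⟩
    · exact ⟨a, h⟩
  have hFC : Cfsg.IsFrobeniusComplement (stabilizer N x) := by
    refine ⟨hx, fun e => ?_, fun g hg => ?_⟩
    · obtain ⟨n, hn⟩ := htr.exists_smul_eq x y
      have : n ∈ stabilizer N x := e ▸ Subgroup.mem_top n
      exact hy (hn.symm.trans this)
    · rw [eq_bot_iff]
      rintro k ⟨hk, hkg⟩
      rw [Subgroup.mem_bot]
      by_contra hk1
      replace hkg := Subgroup.mem_pointwise_smul_iff_inv_smul_mem.mp hkg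
      rw [MulAut.smul_def, MulAut.inv_apply, MulAut.conj_symm_apply, mem_stabilizer_iff] at hkg
      refine hg (mem_stabilizer_iff.2 (hno' k hk1 (g • x) x ?_ hk))
      rw [mul_smul, mul_smul, inv_smul_eq_iff] at hkg
      exact hkg
  obtain ⟨K, hKset, -, hKc⟩ := CfsgLib.Solvable.exists_frobeniusKernel hFC
  have hKfree : ∀ k ∈ K, ∀ c : Ω, k • c = c → k = 1 := by
    intro k hk c hc
    have hk' : k ∈ Cfsg.frobeniusKernel (stabilizer N x) := hKset ▸ hk
    rcases hk' with hk' | hk'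
    · exact hk'
    · obtain ⟨n, hn⟩ := htr.exists_smul_eq x c
      exfalso
      refine hk' n ?_
      rw [Subgroup.mem_pointwise_smul_iff_inv_smul_mem, MulAut.smul_def, MulAut.inv_apply,
        MulAut.conj_symm_apply, mem_stabilizer_iff, mul_smul, mul_smul, hn, hc, inv_smul_eq_iff, hn]
  have hKmem : ∀ k : N, (∀ c : Ω, k • c ≠ c) → k ∈ K := by
    intro k hk
    have : k ∈ Cfsg.frobeniusKernel (stabilizer N x) := Or.inr fun g hg => by
      rw [Subgroup.mem_pointwise_smul_iff_inv_smul_mem, MulAut.smul_def, MulAut.inv_apply,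
        MulAut.conj_symm_apply, mem_stabilizer_iff, mul_smul, mul_smul, inv_smul_eq_iff] at hg
      exact hk _ hg
    rw [← hKset] at this
    exact this
  let M := K.map N.subtype
  have hMn : M.Normal := ⟨by
    rintro _ ⟨k, hk, rfl⟩ g
    by_cases hk1 : k = 1
    · rw [hk1]; simp
    refine ⟨⟨g * k * g⁻¹, hN.conj_mem _ k.2 g⟩, hKmem _ fun c hc => hk1 ?_, rfl⟩
    have hc' : (g * (k : G) * g⁻¹) • c = c := hc
    refine hKfree k hk (g⁻¹ • c) ?_
    show (k : G) • g⁻¹ • c = g⁻¹ • c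
    rw [mul_smul, mul_smul, ← eq_inv_smul_iff] at hc'
    exact hc'⟩
  have htrM : IsPretransitive M Ω := by
    have key : ∀ c : Ω, ∃ k ∈ K, k • x = c := by
      intro c
      obtain ⟨n, hn⟩ := htr.exists_smul_eq x c
      obtain ⟨⟨⟨k, hk⟩, ⟨h, hh⟩⟩, e, -⟩ := hKc.existsUnique n
      refine ⟨k, hk, ?_⟩
      rw [← hn, ← e]
      show k • x = (k * h) • x
      rw [mul_smul, mem_stabilizer_iff.1 hh]
    refine ⟨fun c d => ?_⟩
    obtain ⟨k, hk, rfl⟩ := key c
    obtain ⟨l, hl, rfl⟩ := key d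
    refine ⟨⟨_, ⟨l * k⁻¹, mul_mem hl (inv_mem hk), rfl⟩⟩, ?_⟩
    show ((l * k⁻¹ : N) : G) • k • x = l • x
    rw [Subgroup.coe_mul, Subgroup.coe_inv, mul_smul]
    show (l : G) • (k : G)⁻¹ • (k : G) • x = (l : G) • x
    rw [inv_smul_smul]
  obtain ⟨z, hz⟩ := hreg M hMn htrM
  refine hz ((Subgroup.eq_bot_iff_forall _).2 ?_)
  rintro ⟨_, k, hk, rfl⟩ hkz
  have : k = 1 := hKfree k hk z hkz
  subst this
  rfl

/-- The kernel of a point stabiliser lies in every nontrivial normal subgroup. -/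
theorem two_trans_normal [Fintype Ω] (hZ : Cfsg.IsZassenhausGroup G Ω) {N : Subgroup G}
    [hN : N.Normal] (hN1 : N ≠ ⊥) : IsMultiplyPretransitive N Ω 2 := by
  classical
  obtain ⟨hf, h2t, h3, ⟨g₀, hg₀, a, b, hab, hga, hgb⟩, hreg⟩ := id hZ
  haveI := hf
  haveI : Finite G := finite_group (Ω := Ω)
  obtain ⟨w, hwa, hwb⟩ := exists_third (CfsgLib.Clifford.zass_big hZ hab).2 a b
  obtain ⟨F, hFa, hFn, hFreg⟩ := CfsgLib.Perm.exists_regular_kernel h2t h3 hab hwa hwb
    ((Subgroup.ne_bot_iff_exists_ne_one).2 ⟨⟨g₀, hga, hgb⟩, fun e => hg₀ (congrArg Subtype.val e)⟩)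
  obtain ⟨k, hkN, hk1, hka, hkb⟩ := exists_fix_two hZ hN1 hab
  have hconjF : ∀ g : G, g • a = a → ∀ u ∈ F, g * u * g⁻¹ ∈ F := fun g hg u hu =>
    Subgroup.mem_subgroupOf.1
      (hFn.conj_mem ⟨u, hFa hu⟩ (Subgroup.mem_subgroupOf.2 hu) ⟨g, hg⟩)
  have hfree : ∀ u ∈ F, ∀ c, c ≠ a → u • c = c → u = 1 := fun u hu c hc he =>
    congrArg Subtype.val ((hFreg c c hc hc).unique (y₁ := (⟨u, hu⟩ : F)) he
      (show ((1 : F) : G) • c = c from one_smul _ _))
  have hcent : ∀ u ∈ F, k * u * k⁻¹ = u → u = 1 := by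
    intro u hu he
    by_contra hu1
    have hub : k • u • b = u • b := by
      have h1 : (k * u * k⁻¹) • b = u • b := by rw [he]
      rw [mul_smul, mul_smul, inv_smul_eq_iff.2 hkb.symm] at h1
      exact h1
    refine hk1 (h3 k a b (u • b) hab ?_ ?_ hka hkb hub)
    · exact fun e => hu1 (hfree u hu b hab.symm e.symm)
    · intro e
      exact hab (smul_left_cancel u ((mem_stabilizer_iff.1 (hFa hu)).trans e))
  let φ : F → F := fun u => ⟨k * u * k⁻¹ * (u : G)⁻¹, mul_mem (hconjF k hka u u.2) (inv_mem u.2)⟩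
  have hφ : Function.Injective φ := by
    intro u v huv
    have h1 : k * (u : G) * k⁻¹ * (u : G)⁻¹ = k * v * k⁻¹ * (v : G)⁻¹ := congrArg Subtype.val huv
    have h2 : k * ((v : G)⁻¹ * u) * k⁻¹ = (v : G)⁻¹ * u := by
      calc k * ((v : G)⁻¹ * u) * k⁻¹
          = (k * v * k⁻¹)⁻¹ * (k * u * k⁻¹ * (u : G)⁻¹) * u := by group
        _ = (v : G)⁻¹ * u := by rw [h1]; group
    exact Subtype.ext (inv_mul_eq_one.1 (hcent _ (mul_mem (inv_mem v.2) u.2) h2)).symm
  have hFN : F ≤ N := by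
    intro f hf'
    obtain ⟨u, hu⟩ := (Finite.injective_iff_surjective.1 hφ) ⟨f, hf'⟩
    rw [show f = k * (u : G) * k⁻¹ * (u : G)⁻¹ from (congrArg Subtype.val hu).symm,
      show k * (u : G) * k⁻¹ * (u : G)⁻¹ = k * ((u : G) * k⁻¹ * (u : G)⁻¹) by group]
    exact mul_mem hkN (hN.conj_mem _ (inv_mem hkN) _)
  haveI := isPreprimitive_of_is_two_pretransitive h2t
  haveI : IsPretransitive N Ω := CfsgLib.Perm.normal_isPretransitive hN1
  refine CfsgLib.Perm.isTwoPretransitive_of_stabilizer a fun x y hx hy => ?_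
  obtain ⟨u, hu, -⟩ := hFreg x y hx hy
  exact ⟨⟨(u : G), hFN u.2⟩, mem_stabilizer_iff.1 (hFa u.2), hu⟩

theorem isZassenhaus_normal [Fintype Ω] (hZ : Cfsg.IsZassenhausGroup G Ω) {N : Subgroup G}
    [hN : N.Normal] (hN1 : N ≠ ⊥) : Cfsg.IsZassenhausGroup N Ω := by
  obtain ⟨hf, h2t, h3, ⟨g₀, hg₀, a, b, hab, hga, hgb⟩, hreg⟩ := id hZ
  haveI := hf
  haveI : Finite G := finite_group (Ω := Ω)
  haveI hfN : FaithfulSMul N Ω :=
    ⟨fun {n m} h => Subtype.ext (eq_of_smul_eq_smul fun c : Ω => h c)⟩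
  have h2N := two_trans_normal hZ hN1
  refine ⟨hfN, h2N,
    fun g x y z h1 h2 h3' e1 e2 e3 => Subtype.ext (h3 g x y z h1 h2 h3' e1 e2 e3), ?_, ?_⟩
  · obtain ⟨k, hk, hk1, hka, hkb⟩ := exists_fix_two hZ hN1 hab
    exact ⟨⟨k, hk⟩, fun e => hk1 (congrArg Subtype.val e), a, b, hab, hka, hkb⟩
  · intro M hMn hMt
    by_contra hall
    push Not at hall
    have hcard : 2 ≤ Nat.card Ω := by
      rw [Nat.card_eq_fintype_card]
      exact Fintype.one_lt_card_iff.2 ⟨a, b, hab⟩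
    have hnorm : (M.map N.subtype).Normal := ⟨by
      rintro _ ⟨m, hm, rfl⟩ g
      let φ : N ≃* N := MulAut.conjNormal g
      let M' := M.map φ.toMonoidHom
      haveI := hMn
      haveI : M'.Normal := hMn.map φ.toMonoidHom φ.surjective
      have hval : ∀ n : N, ((φ n : N) : G) = g * n * g⁻¹ := fun n => MulAut.conjNormal_apply g n
      have ht' : IsPretransitive M' Ω := ⟨fun x y => by
        obtain ⟨⟨n, hn⟩, hne⟩ := hMt.exists_smul_eq (g⁻¹ • x) (g⁻¹ • y)
        refine ⟨⟨φ n, Subgroup.mem_map_of_mem _ hn⟩, ?_⟩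
        show ((φ n : N) : G) • x = y
        rw [hval, mul_smul, mul_smul]
        have hne' : (n : G) • g⁻¹ • x = g⁻¹ • y := hne
        rw [hne', smul_inv_smul]⟩
      have hreg' : ∀ x : Ω, stabilizer M' x = ⊥ := fun x => by
        rw [Subgroup.eq_bot_iff_forall]
        rintro ⟨_, n, hn, rfl⟩ hx
        have hx' : ((φ n : N) : G) • x = x := hx
        rw [hval, mul_smul, mul_smul, ← eq_inv_smul_iff] at hx'
        have h1 : (⟨n, hn⟩ : M) ∈ stabilizer M (g⁻¹ • x) := hx'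
        rw [hall, Subgroup.mem_bot] at h1
        have h2 : n = 1 := congrArg Subtype.val h1
        subst h2
        exact Subtype.ext (map_one φ)
      have := CfsgLib.Perm.regular_normal_unique hcard h2N M M' hMt hall ht' hreg'
      refine ⟨φ m, ?_, hval m⟩
      rw [this]
      exact Subgroup.mem_map_of_mem _ hm⟩
    have htG : IsPretransitive (M.map N.subtype) Ω := ⟨fun x y => by
      obtain ⟨⟨n, hn⟩, hne⟩ := hMt.exists_smul_eq x y
      exact ⟨⟨n, Subgroup.mem_map_of_mem _ hn⟩, hne⟩⟩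
    obtain ⟨z, hz⟩ := hreg _ hnorm htG
    refine hz ((Subgroup.eq_bot_iff_forall _).2 ?_)
    rintro ⟨_, n, hn, rfl⟩ hx
    have h1 : (⟨n, hn⟩ : M) ∈ stabilizer M z := hx
    rw [hall, Subgroup.mem_bot] at h1
    have h2 : n = 1 := congrArg Subtype.val h1
    subst h2
    rfl

theorem fixed_parity [Fintype Ω] [DecidableEq Ω] {s : G} (hs : s * s = 1) :
    (Finset.univ.filter fun x : Ω => s • x = x).card % 2 = Fintype.card Ω % 2 := by
  haveI : Fact (Nat.Prime 2) := ⟨Nat.prime_two⟩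
  have hσ : (MulAction.toPermHom G Ω s) ^ 2 ^ 1 = 1 := by
    rw [pow_one, ← map_pow, pow_two, hs, map_one]
  have h1 := Equiv.Perm.card_compl_support_modEq (p := 2) hσ
  have e : (Finset.univ.filter fun x : Ω => s • x = x) =
      (MulAction.toPermHom G Ω s).supportᶜ := by
    ext x
    simp [Equiv.Perm.mem_support]
  rw [e]
  exact h1

/-- A Zassenhaus group of odd degree has two-point stabilisers of odd order. -/
theorem odd_two_point [Fintype Ω] (hZ : Cfsg.IsZassenhausGroup G Ω) (hodd : Odd (Fintype.card Ω))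
    {a b : Ω} (hab : a ≠ b) [Finite G] :
    Odd (Nat.card (stabilizer G a ⊓ stabilizer G b : Subgroup G)) := by
  classical
  obtain ⟨hf, h2t, h3, -, -⟩ := hZ
  by_contra hev
  rw [Nat.not_odd_iff_even] at hev
  obtain ⟨⟨z, hza, hzb⟩, hz⟩ :=
    exists_prime_orderOf_dvd_card' (G := (stabilizer G a ⊓ stabilizer G b : Subgroup G)) 2
      hev.two_dvd
  have hz2 : orderOf z = 2 := (Subgroup.orderOf_mk
    (H := stabilizer G a ⊓ stabilizer G b) z ⟨hza, hzb⟩).symm.trans hz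
  have hzz : z * z = 1 := by rw [← pow_two, ← hz2, pow_orderOf_eq_one]
  have hset : (Finset.univ.filter fun x : Ω => z • x = x) = {a, b} := by
    ext x
    simp only [Finset.mem_filter, Finset.mem_univ, true_and, Finset.mem_insert,
      Finset.mem_singleton]
    constructor
    · intro hx
      by_contra hne
      push Not at hne
      have := h3 z a b x hab hne.2.symm hne.1.symm hza hzb hx
      rw [this, orderOf_one] at hz2
      omega
    · rintro (rfl | rfl)
      · exact hza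
      · exact hzb
  have := fixed_parity (Ω := Ω) hzz
  rw [hset, Finset.card_pair hab, Nat.odd_iff.1 hodd] at this
  omega

theorem isSimpleGroup_of_odd [Fintype Ω] (hZ : Cfsg.IsZassenhausGroup G Ω)
    (hodd : Odd (Fintype.card Ω)) : IsSimpleGroup G := by
  classical
  obtain ⟨hf, h2t, h3, ⟨g₀, hg₀, a, b, hab, hga, hgb⟩, hreg⟩ := id hZ
  haveI := hf
  haveI : Finite G := finite_group (Ω := Ω)
  haveI : Nontrivial G := ⟨g₀, 1, hg₀⟩
  refine ⟨fun N hN => ?_⟩
  by_contra h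
  push Not at h
  obtain ⟨hN1, hN2⟩ := h
  haveI := hN
  have h2N := two_trans_normal hZ hN1
  let H : Subgroup G := stabilizer G a ⊓ stabilizer G b
  have hHodd : Odd (Nat.card H) := odd_two_point hZ hodd hab
  have hdec : ∀ g : G, ∃ n ∈ N, ∃ h ∈ H, g = n * h := by
    intro g
    obtain ⟨n, n1, n2⟩ := CfsgLib.Perm.exists_smul_pair h2N hab (c := g • a) (d := g • b)
      (fun e => hab (smul_left_cancel g e))
    refine ⟨n, n.2, (n : G)⁻¹ * g,
      Subgroup.mem_inf.2 ⟨mem_stabilizer_iff.2 ?_, mem_stabilizer_iff.2 ?_⟩, by group⟩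
    · rw [mul_smul, inv_smul_eq_iff]
      exact n1.symm
    · rw [mul_smul, inv_smul_eq_iff]
      exact n2.symm
  obtain ⟨⟨s, hs2, hsa, hsb⟩, hfixs, -⟩ := Cfsg.Agent.S0740.result hZ hab
  have hss : s * s = 1 := by rw [← pow_two, ← hs2, pow_orderOf_eq_one]
  have hsN : s ∈ N := by
    obtain ⟨n, hn, h, hh, he⟩ := hdec s
    have hq : (QuotientGroup.mk s : G ⧸ N) = QuotientGroup.mk h := by
      rw [he, QuotientGroup.mk_mul, (QuotientGroup.eq_one_iff n).2 hn, one_mul]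
    have h1 : orderOf (QuotientGroup.mk s : G ⧸ N) ∣ 2 :=
      orderOf_dvd_of_pow_eq_one (by rw [← QuotientGroup.mk_pow, pow_two, hss, QuotientGroup.mk_one])
    have h2 : orderOf (QuotientGroup.mk s : G ⧸ N) ∣ Nat.card H := by
      rw [hq]
      exact (orderOf_map_dvd (QuotientGroup.mk' N) h).trans (Subgroup.orderOf_dvd_natCard H hh)
    have h3' := Nat.dvd_gcd h1 h2
    rw [Nat.coprime_iff_gcd_eq_one.1 (Nat.coprime_two_left.2 hHodd), Nat.dvd_one,
      orderOf_eq_one_iff] at h3'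
    exact (QuotientGroup.eq_one_iff s).1 h3'
  obtain ⟨⟨c, hc⟩⟩ : Nonempty (fixedBy Ω s) := by
    have := (hfixs s hs2 hsa hsb).1 hodd
    exact (Nat.card_pos_iff.1 (by omega)).1
  rw [mem_fixedBy] at hc
  have hca : c ≠ a := fun e => hab (by rw [← hsa, ← e, hc])
  have hcb : c ≠ b := fun e => hab (by rw [← hsb, ← e, hc])
  let ψ : H → H := fun k => ⟨(k : G)⁻¹ * (s * k * s), mul_mem (inv_mem k.2)
    (Subgroup.mem_inf.2 ⟨mem_stabilizer_iff.2 (by
      rw [mul_smul, mul_smul, hsa, mem_stabilizer_iff.1 k.2.2, hsb]), mem_stabilizer_iff.2 (by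
      rw [mul_smul, mul_smul, hsb, mem_stabilizer_iff.1 k.2.1, hsa])⟩)⟩
  have hψ : Function.Injective ψ := by
    intro k l hkl
    have h1 : (k : G)⁻¹ * (s * k * s) = (l : G)⁻¹ * (s * l * s) := congrArg Subtype.val hkl
    have h2 : s * ((k : G) * (l : G)⁻¹) * s⁻¹ = (k : G) * (l : G)⁻¹ := by
      calc s * ((k : G) * (l : G)⁻¹) * s⁻¹
          = (k : G) * ((k : G)⁻¹ * (s * k * s)) * (s * l * s)⁻¹ := by group
        _ = (k : G) * ((l : G)⁻¹ * (s * l * s)) * (s * l * s)⁻¹ := by rw [h1]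
        _ = (k : G) * (l : G)⁻¹ := by group
    have hkl' : (k : G) * (l : G)⁻¹ ∈ H := mul_mem k.2 (inv_mem l.2)
    refine Subtype.ext (mul_inv_eq_one.1 (h3 _ a b c hab hcb.symm hca.symm hkl'.1 hkl'.2 ?_))
    have hfix : s • ((k : G) * (l : G)⁻¹) • c = ((k : G) * (l : G)⁻¹) • c := by
      rw [smul_smul, mul_inv_eq_iff_eq_mul.1 h2, mul_smul, hc]
    have hu := (hfixs s hs2 hsa hsb).1 hodd
    obtain ⟨hsub, -⟩ := Nat.card_eq_one_iff_unique.1 hu
    exact congrArg Subtype.val (hsub.elim (⟨_, hfix⟩ : fixedBy Ω s) ⟨c, hc⟩)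
  refine hN2 (eq_top_iff.2 fun g _ => ?_)
  obtain ⟨n, hn, h, hh, rfl⟩ := hdec g
  refine mul_mem hn ?_
  obtain ⟨k, hk⟩ := (Finite.injective_iff_surjective.1 hψ) ⟨h, hh⟩
  rw [show h = (k : G)⁻¹ * (s * k * s) from (congrArg Subtype.val hk).symm,
    show (k : G)⁻¹ * (s * k * s) = ((k : G)⁻¹ * s * k) * s by group]
  refine mul_mem ?_ hsN
  simpa using hN.conj_mem s hsN (k : G)⁻¹

end CfsgLib.Chev.ZassNormal
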