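import Cfsg.Agent.Lib.Chev.ZassSharp
import Cfsg.Agent.Lib.Perm.ZassenhausClassify
import Cfsg.Agent.Lib.Clifford.Zass
import Cfsg.Agent.S0740
import Cfsg.Agent.S0741
import Cfsg.Agent.S0742
import Cfsg.Agent.Lib.Solvable.FrobeniusComplement
import Cfsg.Agent.Lib.Solvable.FixedPointFree
import Cfsg.Agent.Lib.Chev.ZassNormal

/-!
# Simple Zassenhaus groups with two point stabilisers of even order
-/

set_option autoImplicit false
set_option linter.unusedSectionVars false
set_option linter.style.haveILetI false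

namespace CfsgLib.Chev.ZassEven

open MulAction

variable {G Ω : Type*} [Group G] [Finite G] [MulAction G Ω]

/-- The swaps invert the two point stabiliser. -/
theorem inv_of_half [Fintype Ω] (hZ : Cfsg.IsZassenhausGroup G Ω) {a b : Ω} (hab : a ≠ b)
    (heven : Even (Nat.card ↥(MulAction.stabilizer G a ⊓ MulAction.stabilizer G b)))
    (hd : 2 * Nat.card ↥(MulAction.stabilizer G a ⊓ MulAction.stabilizer G b) ≤ Fintype.card Ω - 2) :
    ∀ g : G, g • a = a → g • b = b → ∀ t : G, t • a = b → t • b = a → t * g * t⁻¹ = g⁻¹ := by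
  classical
  have hle := Cfsg.Agent.S0741.result hZ hab heven
  have hhalf : Fintype.card Ω - 2 = 2 * Nat.card ↥(MulAction.stabilizer G a ⊓ MulAction.stabilizer G b) := le_antisymm hle hd
  obtain ⟨hf, h2t, h3, -, -⟩ := id hZ
  haveI := hf
  haveI := Fintype.ofFinite G
  set H : Subgroup G := MulAction.stabilizer G a ⊓ MulAction.stabilizer G b with hH
  obtain ⟨⟨t₀, hta, htb⟩, ht₀⟩ := exists_prime_orderOf_dvd_card' (G := ↥H) 2 heven.two_dvd
  have ht₀' : orderOf t₀ = 2 := (Subgroup.orderOf_mk (H := H) t₀ ⟨hta, htb⟩).symm.trans ht₀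
  obtain ⟨r, hra, hrb⟩ := CfsgLib.Perm.exists_smul_pair h2t hab (Ne.symm hab)
  let P : Finset (Ω × Ω) := (Finset.univ : Finset Ω).offDiag
  let T : Finset G := Finset.univ.filter fun t => orderOf t = 2 ∧ ∃ x y : Ω, x ≠ y ∧ t • x = x ∧ t • y = y
  have hfix : ∀ p ∈ P, ∃ t, t ∈ T ∧ t • p.1 = p.1 ∧ t • p.2 = p.2 := by
    intro p hp
    have hne : p.1 ≠ p.2 := (Finset.mem_offDiag.mp hp).2.2
    obtain ⟨k, hk1, hk2⟩ := CfsgLib.Perm.exists_smul_pair h2t hab hne
    have e1 : (k * t₀ * k⁻¹) • p.1 = p.1 := by rw [mul_smul, mul_smul, inv_smul_eq_iff.mpr hk1.symm, hta, hk1]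
    have e2 : (k * t₀ * k⁻¹) • p.2 = p.2 := by rw [mul_smul, mul_smul, inv_smul_eq_iff.mpr hk2.symm, htb, hk2]
    refine ⟨k * t₀ * k⁻¹, Finset.mem_filter.mpr ⟨Finset.mem_univ _, ?_, p.1, p.2, hne, e1, e2⟩, e1, e2⟩
    rw [← MulAut.conj_apply, MulEquiv.orderOf_eq, ht₀']
  choose! f hfT hf1 hf2 using hfix
  have hFix : ∀ t ∈ T, (Finset.univ.filter fun x : Ω => t • x = x).card = 2 := by
    intro t ht
    obtain ⟨-, ho, x, y, hxy, hx, hy⟩ := Finset.mem_filter.mp ht
    apply le_antisymm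
    · by_contra h
      obtain ⟨u, hu, v, hv, w, hw, huv, huw, hvw⟩ := Finset.two_lt_card.mp (not_le.mp h)
      simp only [Finset.mem_filter, Finset.mem_univ, true_and] at hu hv hw
      rw [h3 t u v w huv hvw huw hu hv hw, orderOf_one] at ho
      omega
    · calc 2 = ({x, y} : Finset Ω).card := (Finset.card_pair hxy).symm
        _ ≤ _ := Finset.card_le_card (by simp [Finset.insert_subset_iff, hx, hy])
  have hPT : P.card ≤ T.card * 2 := by
    refine Finset.card_le_mul_card_image_of_maps_to hfT 2 (fun t ht => ?_) |>.trans_eq (mul_comm _ _)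
    refine le_trans (Finset.card_le_card (t := (Finset.univ.filter fun x : Ω => t • x = x).offDiag) ?_) ?_
    · intro p hp
      obtain ⟨hp', hfp⟩ := Finset.mem_filter.mp hp
      subst hfp
      exact Finset.mem_offDiag.mpr ⟨by simp [hf1 p hp'], by simp [hf2 p hp'], (Finset.mem_offDiag.mp hp').2.2⟩
    · rw [Finset.offDiag_card, hFix t ht]
  let A : Finset G := T.filter fun t => t • a = b
  have hTswap : ∀ t ∈ T, t • a = b → t • b = a := fun t ht e => by
    rw [← e, smul_smul, ← pow_two, ← (Finset.mem_filter.mp ht).2.1, pow_orderOf_eq_one, one_smul]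
  have hTP : T.card * (Fintype.card Ω - 2) ≤ P.card * A.card := by
    refine Finset.card_mul_le_card_mul (fun (t : G) (p : Ω × Ω) => t • p.1 = p.2) (fun t ht => ?_) (fun p hp => ?_)
    · refine le_trans ?_ (Finset.card_le_card_of_injOn (s := (Finset.univ.filter fun x : Ω => t • x = x)ᶜ)
        (fun x => (x, t • x)) ?_ ?_)
      · rw [Finset.card_compl, hFix t ht]
      · intro x hx
        simp only [Finset.coe_compl, Set.mem_compl_iff, Finset.mem_coe, Finset.mem_filter, Finset.mem_univ, true_and] at hx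
        simpa [Finset.bipartiteAbove, P] using Ne.symm hx
      · exact fun x _ y _ e => congrArg Prod.fst e
    · obtain ⟨k, hk1, hk2⟩ := CfsgLib.Perm.exists_smul_pair h2t hab (Finset.mem_offDiag.mp hp).2.2
      refine Finset.card_le_card_of_injOn (fun t => k⁻¹ * t * k) (fun t ht => ?_) ?_
      · simp only [Finset.bipartiteBelow, Finset.coe_filter, Set.mem_ofPred_eq] at ht
        obtain ⟨ht, hpq⟩ := ht
        obtain ⟨-, ho, x, y, hxy, hx, hy⟩ := Finset.mem_filter.mp ht
        refine Finset.mem_filter.mpr ⟨Finset.mem_filter.mpr ⟨Finset.mem_univ _, ?_, k⁻¹ • x, k⁻¹ • y, ?_, ?_, ?_⟩, ?_⟩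
        all_goals beta_reduce
        · rw [show k⁻¹ * t * k = MulAut.conj k⁻¹ t by simp, MulEquiv.orderOf_eq, ho]
        · exact fun e => hxy (MulAction.injective k⁻¹ e)
        · rw [mul_smul, mul_smul, smul_inv_smul, hx]
        · rw [mul_smul, mul_smul, smul_inv_smul, hy]
        · rw [mul_smul, mul_smul, hk1, hpq, inv_smul_eq_iff, hk2]
      · intro x _ y _ e
        simpa using e
  have hn : 1 < Fintype.card Ω := Fintype.one_lt_card_iff.mpr ⟨a, b, hab⟩
  have hpos : 0 < P.card := Finset.card_pos.mpr ⟨(a, b), by simp [P, hab]⟩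
  have hAcard : Nat.card H ≤ A.card := by
    suffices h2 : P.card * (2 * Nat.card H) ≤ P.card * (2 * A.card) by
      have := Nat.le_of_mul_le_mul_left h2 hpos
      omega
    calc P.card * (2 * Nat.card H) ≤ T.card * 2 * (Fintype.card Ω - 2) := by
          rw [hhalf]; exact Nat.mul_le_mul_right _ hPT
      _ = 2 * (T.card * (Fintype.card Ω - 2)) := by rw [mul_comm T.card 2, mul_assoc]
      _ ≤ 2 * (P.card * A.card) := Nat.mul_le_mul_left _ hTP
      _ = P.card * (2 * A.card) := by rw [mul_left_comm]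
  let C : Finset G := Finset.univ.filter fun g => g • a = b ∧ g • b = a
  have hCA : A = C := by
    refine Finset.eq_of_subset_of_card_le (fun t ht => ?_) (le_trans ?_ hAcard)
    · obtain ⟨ht, hab'⟩ := Finset.mem_filter.mp ht
      exact Finset.mem_filter.mpr ⟨Finset.mem_univ _, hab', hTswap t ht hab'⟩
    · rw [Nat.card_eq_fintype_card]
      refine le_trans (Finset.card_le_card_of_injOn (t := Finset.univ.filter fun g : G => g ∈ H) (fun t => r⁻¹ * t) (fun t ht => ?_) ?_)
        (le_of_eq (Fintype.card_subtype _).symm)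
      · obtain ⟨-, h1, h2⟩ := Finset.mem_filter.mp (Finset.mem_coe.mp ht)
        simp only [Finset.coe_filter, Finset.mem_univ, true_and, Set.mem_ofPred_eq]
        refine ⟨?_, ?_⟩
        · show (r⁻¹ * t) • a = a
          rw [mul_smul, h1, inv_smul_eq_iff, hra]
        · show (r⁻¹ * t) • b = b
          rw [mul_smul, h2, inv_smul_eq_iff, hrb]
      · exact fun x _ y _ e => mul_left_cancel e
  have hswap : ∀ t : G, t • a = b → t • b = a → t * t = 1 ∧ ∃ x : Ω, t • x = x := by
    intro t h1 h2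
    have ht : t ∈ A := hCA ▸ Finset.mem_filter.mpr ⟨Finset.mem_univ _, h1, h2⟩
    obtain ⟨-, ho, x, -, -, hx, -⟩ := Finset.mem_filter.mp (Finset.mem_filter.mp ht).1
    exact ⟨by rw [← pow_two, ← ho, pow_orderOf_eq_one], x, hx⟩
  obtain ⟨hrr, u, hru⟩ := hswap r hra hrb
  have hau : a ≠ u := fun e => hab (by rw [← hra, e, hru])
  have hbu : b ≠ u := fun e => hab (by rw [← hrb, e, hru])
  have hinv : ∀ g : G, g • a = a → g • b = b → ∀ t : G, t • a = b → t • b = a → t * g * t⁻¹ = g⁻¹ := by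
    intro g hga hgb t h1 h2
    have e1 := (hswap t h1 h2).1
    have e2 := (hswap (t * g) (by rw [mul_smul, hga, h1]) (by rw [mul_smul, hgb, h2])).1
    rw [show t⁻¹ = t from inv_eq_of_mul_eq_one_right e1]
    exact eq_inv_of_mul_eq_one_left (by rw [mul_assoc (t * g)]; exact e2)
  exact hinv

theorem stab_ne_full [Fintype Ω] (hZ : Cfsg.IsZassenhausGroup G Ω) [IsSimpleGroup G] {a b : Ω}
    (hab : a ≠ b) (heven : Even (Nat.card ↥(stabilizer G a ⊓ stabilizer G b))) :
    Nat.card ↥(stabilizer G a ⊓ stabilizer G b) ≠ Fintype.card Ω - 2 := by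
  classical
  intro hfull
  obtain ⟨hf, h2t, h3, -, -⟩ := id hZ
  haveI := hf
  obtain ⟨h3t, hsharp⟩ := CfsgLib.Perm.ZassenhausClass.sharp_of_full h2t h3 hab hfull
  have hinj : Function.Injective (toPermHom G Ω) := fun g h e =>
    eq_of_smul_eq_smul fun x : Ω => congrFun (congrArg DFunLike.coe e) x
  let R : Subgroup (Equiv.Perm Ω) := (toPermHom G Ω).range
  let e : G ≃* R := MonoidHom.ofInjective hinj
  haveI : IsSimpleGroup R := e.symm.isSimpleGroup
  have hact : ∀ (g : G) (x : Ω), (e g : R) • x = g • x := by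
    intro g x
    rfl
  have hR3 : IsMultiplyPretransitive R Ω 3 := by
    rw [isMultiplyPretransitive_iff]
    intro x y
    obtain ⟨g, hg⟩ := isMultiplyPretransitive_iff.mp h3t x y
    refine ⟨e g, Function.Embedding.ext fun i => ?_⟩
    rw [← hg]
    exact hact g (x i)
  have hRs : ∀ t : Fin 3 ↪ Ω, stabilizer R t = ⊥ := by
    intro t
    rw [Subgroup.eq_bot_iff_forall]
    intro r hr
    obtain ⟨g, rfl⟩ := e.surjective r
    have hg : g ∈ stabilizer G t := by
      refine Function.Embedding.ext fun i => ?_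
      exact (hact g (t i)).symm.trans (congrArg (fun f : Fin 3 ↪ Ω => f i) hr)
    rw [hsharp t, Subgroup.mem_bot] at hg
    rw [hg, map_one]
  obtain ⟨k, hk⟩ := heven
  obtain ⟨-, hbig⟩ := CfsgLib.Clifford.zass_big hZ hab
  exact ZassSharp.not_simple R hR3 hRs ⟨k + 1, by omega⟩ (by omega)

theorem two_mul_le [Fintype Ω] (hZ : Cfsg.IsZassenhausGroup G Ω) [IsSimpleGroup G] {a b : Ω}
    (hab : a ≠ b) (heven : Even (Nat.card ↥(stabilizer G a ⊓ stabilizer G b))) :
    2 * Nat.card ↥(stabilizer G a ⊓ stabilizer G b) ≤ Fintype.card Ω - 2 := by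
  obtain ⟨-, hbig⟩ := CfsgLib.Clifford.zass_big hZ hab
  obtain ⟨k, hk⟩ := CfsgLib.Perm.ZassenhausClass.stab_dvd (G := G) hZ.2.2.1 hab
  have hne := stab_ne_full hZ hab heven
  rcases k with _ | _ | k
  · simp at hk
    omega
  · simp at hk
    exact absurd hk.symm hne
  · rw [hk, mul_comm 2]
    exact Nat.mul_le_mul_left _ (by omega)

/-- An abelian two point stabiliser is cyclic. -/
theorem isCyclic_of_comm [Fintype Ω] (hZ : Cfsg.IsZassenhausGroup G Ω) {a b : Ω} (hab : a ≠ b)
    (hc : IsMulCommutative ↥(stabilizer G a ⊓ stabilizer G b)) :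
    IsCyclic ↥(stabilizer G a ⊓ stabilizer G b) := by
  classical
  obtain ⟨h1, hbig⟩ := CfsgLib.Clifford.zass_big hZ hab
  obtain ⟨-, h2t, h3, -, -⟩ := hZ
  set H : Subgroup G := stabilizer G a ⊓ stabilizer G b with hH
  obtain ⟨⟨⟨k₀, hk₀⟩, hk₀1'⟩⟩ : Nonempty {x : H // x ≠ 1} := by
    obtain ⟨x, hx⟩ := @exists_ne H (Finite.one_lt_card_iff_nontrivial.mp h1) 1
    exact ⟨⟨x, hx⟩⟩
  have hk₀1 : k₀ ≠ 1 := fun e => hk₀1' (Subtype.ext e)
  obtain ⟨w, hwa, hwb⟩ := CfsgLib.Chev.ZassNormal.exists_third hbig a b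
  have hfix2 : ∀ k ∈ H, k ≠ 1 → ∀ x : Ω, k • x = x → x = a ∨ x = b := by
    intro k hk hk1 x hx
    by_contra h
    push Not at h
    exact hk1 (h3 k a b x hab (Ne.symm h.2) (Ne.symm h.1) hk.1 hk.2 hx)
  let Ga : Subgroup G := MulAction.stabilizer G a
  have hle : H ≤ Ga := inf_le_left
  have hFC : Cfsg.IsFrobeniusComplement (H.subgroupOf Ga) := by
    refine ⟨fun e => hk₀1 ?_, fun e => ?_, fun g hg => ?_⟩
    · have : (⟨k₀, hk₀.1⟩ : Ga) ∈ H.subgroupOf Ga := Subgroup.mem_subgroupOf.mpr hk₀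
      rw [e, Subgroup.mem_bot] at this
      exact congrArg Subtype.val this
    · obtain ⟨t, t1, t2⟩ := CfsgLib.Perm.exists_smul_pair h2t hab (Ne.symm hwa)
      have : (⟨t, t1⟩ : Ga) ∈ H.subgroupOf Ga := e ▸ Subgroup.mem_top _
      exact hwb (t2.symm.trans (Subgroup.mem_subgroupOf.mp this).2)
    · rw [eq_bot_iff]
      rintro ⟨k, hka⟩ ⟨hk, hkg⟩
      rw [Subgroup.mem_bot]
      refine Subtype.ext ?_
      show k = 1
      by_contra hk1
      replace hkg := Subgroup.mem_pointwise_smul_iff_inv_smul_mem.mp hkg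
      rw [MulAut.smul_def, MulAut.inv_apply, MulAut.conj_symm_apply] at hkg
      have h' : ((g : G)⁻¹ * k * g) • b = b := (Subgroup.mem_subgroupOf.mp hkg).2
      rw [mul_smul, mul_smul, inv_smul_eq_iff] at h'
      rcases hfix2 k (Subgroup.mem_subgroupOf.mp hk) hk1 _ h' with h | h
      · exact hab (MulAction.injective (g : G) ((show (g : G) • a = a from g.2).trans h.symm))
      · exact hg (Subgroup.mem_subgroupOf.mpr ⟨g.2, h⟩)
  obtain ⟨V, φ, hV, hVne, -, hfpf⟩ := CfsgLib.Solvable.exists_fpf_abelian hFC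
  let _ : CommGroup V := { (inferInstance : Group V) with mul_comm := hV.1.1 }
  haveI : Nontrivial V := (Subgroup.nontrivial_iff_ne_bot V).mpr hVne
  haveI : IsMulCommutative (⊤ : Subgroup (H.subgroupOf Ga)) :=
    ⟨⟨fun x y => Subtype.ext ((Subgroup.subgroupOfEquivOfLe hle).injective (by
      rw [Subgroup.coe_mul, Subgroup.coe_mul, map_mul, map_mul]
      exact hc.is_comm.comm _ _))⟩⟩
  haveI := CfsgLib.Solvable.isCyclic_of_fpf φ hfpf (⊤ : Subgroup (H.subgroupOf Ga))
  haveI : IsCyclic (H.subgroupOf Ga) := isCyclic_of_surjective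
    (Subgroup.topEquiv (G := H.subgroupOf Ga)).toMonoidHom Subgroup.topEquiv.surjective
  exact isCyclic_of_surjective _ (Subgroup.subgroupOfEquivOfLe hle).surjective

end CfsgLib.Chev.ZassEven
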