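import Cfsg.Agent.Lib.Perm.IcoRegular
import Cfsg.Agent.Lib.Perm.IcoNonsolvable
import Mathlib.GroupTheory.Sylow

/-!
# Free transitive linear groups with one subgroup of order three

Such a group of even order has a subgroup of index two.
-/

set_option autoImplicit false
set_option linter.unusedSectionVars false

namespace CfsgLib.Chev.ZassNearfield

universe u

/-- Two subgroups of order three. -/
theorem not_unique_three {D : Type*} [Group D]
    (h3 : ∀ A B : Subgroup D, Nat.card A = 3 → Nat.card B = 3 → A = B) {x y : D}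
    (hx : x ^ 3 = 1) (hy : y ^ 3 = 1) (hx1 : x ≠ 1) (hy1 : y ≠ 1) (hxy : y ≠ x) (hxy' : y ≠ x⁻¹) :
    False := by
  haveI : Fact (Nat.Prime 3) := ⟨Nat.prime_three⟩
  have hox := orderOf_eq_prime hx hx1
  have hoy := orderOf_eq_prime hy hy1
  have e := h3 (Subgroup.zpowers x) (Subgroup.zpowers y) (by rw [Nat.card_zpowers, hox])
    (by rw [Nat.card_zpowers, hoy])
  obtain ⟨k, hk⟩ : y ∈ Subgroup.zpowers x := e ▸ Subgroup.mem_zpowers y
  have hk' : x ^ k = y := hk
  rw [← zpow_mod_orderOf, hox] at hk'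
  have h1 : 0 ≤ k % (3 : ℕ) := Int.emod_nonneg _ (by norm_num)
  have h2 : k % (3 : ℕ) < 3 := Int.emod_lt_of_pos _ (by norm_num)
  have hk2 : ((k % (3 : ℕ)).toNat : ℤ) = k % (3 : ℕ) := Int.toNat_of_nonneg h1
  rw [← hk2, zpow_natCast] at hk'
  have hlt : (k % (3 : ℕ)).toNat < 3 := by omega
  generalize (k % (3 : ℕ)).toNat = m at hk' hlt
  interval_cases m
  · exact hy1 (by rw [← hk', pow_zero])
  · exact hxy (by rw [← hk', pow_one])
  · exact hxy' (by rw [← hk', eq_inv_iff_mul_eq_one, ← pow_succ, hx])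

theorem sl23_pair :
    ∃ x y : Matrix.SpecialLinearGroup (Fin 2) (ZMod 3), x ^ 3 = 1 ∧ y ^ 3 = 1 ∧ x ≠ 1 ∧ y ≠ 1 ∧
      y ≠ x ∧ y ≠ x⁻¹ :=
  ⟨⟨!![1, 1; 0, 1], by decide⟩, ⟨!![1, 0; 1, 1], by decide⟩, by decide +kernel, by decide +kernel,
    fun h => absurd (congrArg (fun m : Matrix.SpecialLinearGroup (Fin 2) (ZMod 3) => m 0 1) h)
      (by decide +kernel),
    fun h => absurd (congrArg (fun m : Matrix.SpecialLinearGroup (Fin 2) (ZMod 3) => m 1 0) h)
      (by decide +kernel),
    fun h => absurd (congrArg (fun m : Matrix.SpecialLinearGroup (Fin 2) (ZMod 3) => m 1 0) h)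
      (by decide +kernel),
    fun h => absurd (congrArg (fun m : Matrix.SpecialLinearGroup (Fin 2) (ZMod 3) => m 1 0) h)
      (by decide +kernel)⟩

/-- A proper normal subgroup with two-power index gives one of index two. -/
theorem index_two_of_pow {D : Type*} [Group D] [Finite D] (M : Subgroup D) [M.Normal] {k : ℕ}
    (hk : M.index = 2 ^ k) (h1 : M.index ≠ 1) : ∃ N : Subgroup D, N.Normal ∧ N.index = 2 := by
  haveI : Fact (Nat.Prime 2) := ⟨Nat.prime_two⟩
  obtain ⟨j, rfl⟩ : ∃ j, k = j + 1 := ⟨k - 1, by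
    rcases k with _ | k
    · exact absurd (by rw [hk, pow_zero]) h1
    · omega⟩
  have hQ : Nat.card (D ⧸ M) = 2 ^ (j + 1) := by rw [← Subgroup.index_eq_card, hk]
  obtain ⟨K, hK⟩ := Sylow.exists_subgroup_card_pow_prime (G := D ⧸ M) 2 (n := j)
    (by rw [hQ]; exact pow_dvd_pow _ (by omega))
  have hi : (K.comap (QuotientGroup.mk' M)).index = 2 := by
    rw [Subgroup.index_comap_of_surjective K (QuotientGroup.mk'_surjective M)]
    have h := K.card_mul_index
    rw [hK, hQ, pow_succ] at h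
    exact Nat.eq_of_mul_eq_mul_left (pow_pos two_pos _) h
  exact ⟨_, Subgroup.normal_of_index_eq_two hi, hi⟩

variable {p : ℕ} [Fact p.Prime] {V : Type*} [AddCommGroup V] [Module (ZMod p) V] [Finite V]
  [Nontrivial V]

/-- A free transitive linear group of even order with at most one subgroup of order three has a
subgroup of index two. -/
theorem exists_index_two {D : Type u} [Group D] [Finite D] (ρ : D →* (V ≃ₗ[ZMod p] V))
    (htrans : ∀ v w : V, v ≠ 0 → w ≠ 0 → ∃ g : D, ρ g v = w)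
    (hfree : ∀ v : V, v ≠ 0 → ∀ g : D, ρ g v = v → g = 1)
    (heven : Even (Nat.card D))
    (h3 : ∀ A B : Subgroup D, Nat.card A = 3 → Nat.card B = 3 → A = B) :
    ∃ N : Subgroup D, N.Normal ∧ N.index = 2 := by
  classical
  haveI : Nontrivial D := Finite.one_lt_card_iff_nontrivial.mp (by
    have := Nat.card_pos (α := D)
    obtain ⟨c, hc⟩ := heven
    omega)
  by_cases hnil : CfsgLib.Perm.Ico.TwoNilp D
  · obtain ⟨k, hk⟩ := hnil
    haveI := CfsgLib.Solvable.pPrimeCore_normal 2 D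
    refine index_two_of_pow (Cfsg.pPrimeCore 2 D) hk fun h1 => ?_
    have hc := CfsgLib.Solvable.pPrimeCore_coprime (G := D) 2
    rw [Subgroup.index_eq_one.mp h1, Subgroup.card_top, Nat.coprime_two_right] at hc
    exact Nat.not_even_iff_odd.mpr hc heven
  by_cases hsol : Group.IsSolvable D
  · obtain ⟨R, Q, -, -, -, -, hcases, -⟩ :=
      CfsgLib.Perm.Ico.solvable_exceptional ρ htrans hfree hsol hnil
    obtain ⟨x, y, hx, hy, hx1, hy1, hxy, hxy'⟩ := sl23_pair
    rcases hcases with h | ⟨-, ⟨e⟩⟩ | ⟨-, ⟨e⟩⟩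
    · exact h
    · exfalso
      refine not_unique_three h3 (x := e.symm x) (y := e.symm y) ?_ ?_ ?_ ?_ ?_ ?_
      · rw [← map_pow, hx, map_one]
      · rw [← map_pow, hy, map_one]
      · simpa using hx1
      · simpa using hy1
      · exact fun h => hxy (e.symm.injective h)
      · exact fun h => hxy' (e.symm.injective (h.trans (map_inv e.symm x).symm))
    · exfalso
      let ι : Matrix.SpecialLinearGroup (Fin 2) (ZMod 3) →* D :=
        e.symm.toMonoidHom.comp (MonoidHom.inl _ _)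
      have hι : Function.Injective ι := fun a b h => congrArg Prod.fst (e.symm.injective h)
      refine not_unique_three h3 (x := ι x) (y := ι y) ?_ ?_ ?_ ?_ ?_ ?_
      · rw [← map_pow, hx, map_one]
      · rw [← map_pow, hy, map_one]
      · exact fun h => hx1 (hι (h.trans ι.map_one.symm))
      · exact fun h => hy1 (hι (h.trans ι.map_one.symm))
      · exact fun h => hxy (hι h)
      · exact fun h => hxy' (hι (h.trans (map_inv ι x).symm))
  · exfalso
    obtain ⟨d, f, hd, hf⟩ := CfsgLib.Perm.Ico.fpf_of_free ρ hfree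
    haveI : Nonempty (Fin d) := ⟨⟨0, hd⟩⟩
    obtain ⟨ψ, hψ, -⟩ := CfsgLib.Perm.Ico.exists_sl25_normal hf hsol
    obtain ⟨-, -, -, -, a3, a1, u3, u1, -, -, hne, hne'⟩ := CfsgLib.Perm.Ico.stdPair_spec
    refine not_unique_three h3 (x := ψ (CfsgLib.Recog.binIcoGen 0)) (y := ψ CfsgLib.Perm.Ico.stdU)
      ?_ ?_ ?_ ?_ ?_ ?_
    · rw [← map_pow, a3, map_one]
    · rw [← map_pow, u3, map_one]
    · exact fun h => a1 (hψ (h.trans ψ.map_one.symm))
    · exact fun h => u1 (hψ (h.trans ψ.map_one.symm))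
    · exact fun h => hne (hψ h)
    · exact fun h => hne' (hψ (h.trans (map_inv ψ _).symm))

end CfsgLib.Chev.ZassNearfield
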