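import Cfsg.Agent.Lib.Chev.ZassNormal
import Cfsg.Agent.Lib.Perm.RegularNormal
import Cfsg.Agent.Lib.Complement.FpfNilpotent
import Cfsg.Agent.Lib.Solvable.FixedPointFree
import Mathlib.FieldTheory.Galois.Basic
import Mathlib.GroupTheory.SpecificGroups.ZGroup

/-!
# A two-transitive group with regular normal subgroup in which only `1` fixes three points:
the degree is `2 ^ p`, `p` prime, when some element fixes two points
-/

namespace CfsgLib.Chev.ZassRegular

open MulAction

universe u v

/-- An automorphism of prime order of a finite field of characteristic two which fixes only `0`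
and `1` forces the degree to be that prime. -/
theorem finrank_eq_of_fixed {A : Type u} [Field A] [Finite A] [Algebra (ZMod 2) A] {l : ℕ}
    (hl : l.Prime) (σ : A ≃ₐ[ZMod 2] A) (hσl : σ ^ l = 1) (hfix : ∀ x, σ x = x → x = 0 ∨ x = 1)
    (hbig : 2 < Nat.card A) : Nat.card A = 2 ^ l := by
  have : Fintype A := Fintype.ofFinite A
  have : FiniteDimensional (ZMod 2) A := Module.Finite.of_finite
  have hbot : IntermediateField.fixedField (Subgroup.zpowers σ) = ⊥ := by
    refine eq_bot_iff.2 fun x hx => ?_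
    rcases hfix x (hx ⟨σ, Subgroup.mem_zpowers σ⟩) with rfl | rfl
    · exact zero_mem _
    · exact one_mem _
  have h := IntermediateField.finrank_fixedField_eq_card (Subgroup.zpowers σ)
  rw [hbot, IntermediateField.finrank_bot', Nat.card_zpowers] at h
  have hcard : Nat.card A = 2 ^ Module.finrank (ZMod 2) A := by
    rw [Module.natCard_eq_pow_finrank (K := ZMod 2) (V := A), Nat.card_zmod]
  rcases (Nat.dvd_prime hl).1 (h ▸ orderOf_dvd_of_pow_eq_one hσl) with h1 | h1
  · rw [hcard, h1] at hbig; omega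
  · rw [hcard, h1]

variable {G : Type u} {Ω : Type v} [Group G] [MulAction G Ω]

theorem degree_eq [Fintype Ω] [FaithfulSMul G Ω] (h2 : IsMultiplyPretransitive G Ω 2)
    (h3 : ∀ g : G, ∀ a b c : Ω, a ≠ b → b ≠ c → a ≠ c → g • a = a → g • b = b → g • c = c → g = 1)
    (hfix : ∃ g : G, g ≠ 1 ∧ ∃ a b : Ω, a ≠ b ∧ g • a = a ∧ g • b = b)
    (N : Subgroup G) [hNn : N.Normal] (hNt : IsPretransitive N Ω)
    (hNr : ∀ a : Ω, stabilizer N a = ⊥) :
    ∃ p : ℕ, p.Prime ∧ Fintype.card Ω = 2 ^ p := by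
  classical
  haveI : Finite G := ZassNormal.finite_group (Ω := Ω)
  obtain ⟨g, hg1, a, b, hab, hga, hgb⟩ := hfix
  have hn2 : 2 ≤ Nat.card Ω := by
    rw [Nat.card_eq_fintype_card]; exact Fintype.one_lt_card_iff.2 ⟨a, b, hab⟩
  obtain ⟨hNc, p, r, hp, hNp, hcard⟩ :=
    CfsgLib.Perm.regular_normal_two_transitive (G := G) (N := N) hn2 h2 hNt hNr
  have hcomm : ∀ x y : N, x * y = y * x := fun x y => mul_comm' x y
  obtain ⟨⟨m, hm⟩, hme⟩ := hNt.exists_smul_eq a b
  have hmb : m • a = b := hme
  have hfree : ∀ x ∈ N, ∀ c : Ω, x • c = c → x = 1 := fun x hx c hc => by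
    have : (⟨x, hx⟩ : N) ∈ stabilizer N c := hc
    rw [hNr, Subgroup.mem_bot] at this
    exact congrArg Subtype.val this
  have hm1 : m ≠ 1 := fun e => hab (by rw [← hmb, e, one_smul])
  have hconj : ∀ k : G, k • a = a → ∀ x ∈ N, k • x • a = x • a → k * x * k⁻¹ = x := by
    intro k hka x hx he
    refine inv_mul_eq_one.1 (hfree _ (mul_mem (inv_mem (hNn.conj_mem x hx k)) hx) a ?_)
    rw [mul_smul, inv_smul_eq_iff, mul_smul, mul_smul, inv_smul_eq_iff.2 hka.symm, he]
  -- `p = 2`
  have hp2 : p = 2 := by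
    by_contra hne
    have hgm : g * m * g⁻¹ = m := hconj g hga m hm (by rw [hmb, hgb])
    have hgmm : g • (m * m) • a = (m * m) • a := by
      have e : g * (m * m) = (m * m) * g := by
        have hc : g * m = m * g := mul_inv_eq_iff_eq_mul.1 hgm
        rw [← mul_assoc, hc, mul_assoc, hc, ← mul_assoc]
      rw [smul_smul, e, mul_smul, hga]
    have hord : orderOf m = p := by
      rcases (Nat.dvd_prime hp).1 (orderOf_dvd_of_pow_eq_one (hNp m hm)) with h | h
      · exact absurd (orderOf_eq_one_iff.1 h) hm1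
      · exact h
    refine hg1 (h3 g a b ((m * m) • a) hab ?_ ?_ hga hgb hgmm)
    · intro e
      rw [← hmb, mul_smul] at e
      exact hab ((smul_left_cancel m e).trans hmb)
    · intro e
      have h1 := hfree _ (mul_mem hm hm) a e.symm
      have : p ∣ 2 := hord ▸ orderOf_dvd_of_pow_eq_one (by rw [pow_two]; exact h1)
      rcases (Nat.dvd_prime Nat.prime_two).1 this with h | h
      · exact hp.ne_one h
      · exact hne h
  subst hp2
  rw [Nat.card_eq_fintype_card] at hcard
  have hr1 : 2 ≤ Fintype.card Ω := by rw [← Nat.card_eq_fintype_card]; exact hn2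
  -- a third point, the kernel, an element of prime order fixing two points
  obtain ⟨w, hwa, hwb, hw⟩ : ∃ w : Ω, w ≠ a ∧ w ≠ b ∧ g • w ≠ w := by
    by_contra h
    push Not at h
    refine hg1 (eq_of_smul_eq_smul fun x : Ω => ?_)
    rw [one_smul]
    by_cases hxa : x = a
    · rw [hxa]; exact hga
    by_cases hxb : x = b
    · rw [hxb]; exact hgb
    exact h x hxa hxb
  have hbig : 3 ≤ Fintype.card Ω := by
    have : ({a, b, w} : Finset Ω).card ≤ Fintype.card Ω := Finset.card_le_univ _
    rwa [Finset.card_eq_three.2 ⟨a, b, w, hab, hwa.symm, hwb.symm, rfl⟩] at this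
  obtain ⟨F, hFa, hFnorm, hFreg⟩ := CfsgLib.Perm.exists_regular_kernel h2 h3 hab hwa hwb
    ((Subgroup.ne_bot_iff_exists_ne_one).2 ⟨⟨g, hga, hgb⟩, fun e => hg1 (congrArg Subtype.val e)⟩)
  have hFfix : ∀ u : F, (u : G) • a = a := fun u => mem_stabilizer_iff.1 (hFa u.2)
  have hconjF : ∀ k : G, k • a = a → ∀ u ∈ F, k * u * k⁻¹ ∈ F := fun k hk u hu =>
    Subgroup.mem_subgroupOf.1
      (hFnorm.conj_mem ⟨u, hFa hu⟩ (Subgroup.mem_subgroupOf.2 hu) ⟨k, hk⟩)
  have hFfree : ∀ u ∈ F, ∀ c, c ≠ a → u • c = c → u = 1 := fun u hu c hc he =>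
    congrArg Subtype.val ((hFreg c c hc hc).unique (y₁ := (⟨u, hu⟩ : F)) he
      (show ((1 : F) : G) • c = c from one_smul _ _))
  obtain ⟨l, hl, hld⟩ :=
    Nat.exists_prime_and_dvd (fun h : orderOf g = 1 => hg1 (orderOf_eq_one_iff.1 h))
  obtain ⟨k, hk⟩ : ∃ k, k = g ^ (orderOf g / l) := ⟨_, rfl⟩
  have hkl : orderOf k = l := hk ▸ orderOf_pow_orderOf_div (orderOf_pos g).ne' hld
  have hk1 : k ≠ 1 := fun h => by rw [h, orderOf_one] at hkl; exact hl.one_lt.ne hkl
  have hkH : k ∈ stabilizer G a ⊓ stabilizer G b := hk ▸ pow_mem (Subgroup.mem_inf.2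
    ⟨mem_stabilizer_iff.2 hga, mem_stabilizer_iff.2 hgb⟩) _
  have hka : k • a = a := mem_stabilizer_iff.1 hkH.1
  have hkb : k • b = b := mem_stabilizer_iff.1 hkH.2
  -- `F` is nilpotent
  have hkN : k ∈ Subgroup.normalizer (F : Set G) := Subgroup.mem_set_normalizer_iff.2 fun x =>
    ⟨hconjF k hka x, fun hx => by
      have := hconjF k⁻¹ (by rw [inv_smul_eq_iff, hka]) _ hx
      rwa [show k⁻¹ * (k * x * k⁻¹) * k⁻¹⁻¹ = x by group] at this⟩
  have hnil : Group.IsNilpotent F := by
    refine CfsgLib.Complement.isNilpotent_of_fpf F (F.normalizerMonoidHom ⟨k, hkN⟩) l hl ?_ ?_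
    · rw [← map_pow]
      refine (congrArg F.normalizerMonoidHom (Subtype.ext ?_ : (⟨k, hkN⟩ : Subgroup.normalizer
        (F : Set G)) ^ l = 1)).trans (map_one _)
      show k ^ l = 1
      rw [← hkl, pow_orderOf_eq_one]
    · intro u hu
      have he : k * (u : G) * k⁻¹ = u := congrArg Subtype.val hu
      by_contra hu1
      have hub : k • (u : G) • b = (u : G) • b := by
        have h1 : (k * (u : G) * k⁻¹) • b = (u : G) • b := by rw [he]
        rw [mul_smul, mul_smul, inv_smul_eq_iff.2 hkb.symm] at h1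
        exact h1
      refine hk1 (h3 k a b ((u : G) • b) hab ?_ ?_ hka hkb hub)
      · exact fun e => hu1 (Subtype.ext (hFfree u u.2 b hab.symm e.symm))
      · intro e
        exact hab (smul_left_cancel (u : G) ((hFfix u).trans e))
  -- `F` acts fixed-point-freely on `N`
  have hFN : ∀ u : F, ∀ x : N, (u : G) * x * (u : G)⁻¹ = x → u ≠ 1 → x = 1 := by
    intro u x he hu
    by_contra hx
    refine hu (Subtype.ext (hFfree u u.2 ((x : G) • a) (fun e => hx (Subtype.ext
      (hfree _ x.2 a e))) ?_))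
    have h1 : ((u : G) * x * (u : G)⁻¹) • a = (x : G) • a := by rw [he]
    rw [mul_smul, mul_smul, inv_smul_eq_iff.2 (hFfix u).symm] at h1
    exact h1
  have hNF : ∀ u ∈ F, u ∈ Subgroup.normalizer (N : Set G) := fun u _ =>
    (Subgroup.normalizer_eq_top N).symm ▸ Subgroup.mem_top u
  let φ : F →* MulAut N :=
    (MulAut.conjNormal : G →* MulAut N).comp F.subtype
  open scoped IsMulCommutative in
  have hFcyc : IsCyclic F := by
    haveI : Nontrivial N := ⟨⟨m, hm⟩, 1, fun e => hm1 (congrArg Subtype.val e)⟩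
    have hfpf : ∀ u : F, u ≠ 1 → ∀ x : N, φ u x = x → x = 1 := fun u hu x hx =>
      hFN u x (by
        have := congrArg Subtype.val hx
        rwa [MonoidHom.comp_apply, MulAut.conjNormal_apply] at this) hu
    have hodd : Odd (Nat.card F) := by
      have e : Nat.card F = Nat.card {z : Ω // z ≠ a} := by
        refine Nat.card_eq_of_bijective (fun u => ⟨(u : G) • b, fun h => hab
          (smul_left_cancel (u : G) ((hFfix u).trans h.symm))⟩) ⟨fun u v h => ?_, fun z => ?_⟩
        · exact (hFreg b ((v : G) • b) hab.symm (fun h' => hab (smul_left_cancel (v : G)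
            ((hFfix v).trans h'.symm)))).unique (congrArg Subtype.val h) rfl
        · obtain ⟨u, hu, -⟩ := hFreg b z.1 hab.symm z.2
          exact ⟨u, Subtype.ext hu⟩
      rw [e, Nat.card_eq_fintype_card, Fintype.card_subtype_compl, Fintype.card_subtype_eq, hcard]
      have hr0 : r ≠ 0 := by rintro rfl; rw [pow_zero] at hcard; omega
      exact Nat.Even.sub_odd (by omega) (Nat.even_pow.2 ⟨even_two, hr0⟩) odd_one
    haveI : IsZGroup F := ⟨fun q hq P => by
      haveI := Fact.mk hq
      rcases CfsgLib.Solvable.isCyclic_or_quaternion_of_fpf φ hfpf P with h | ⟨rfl, -⟩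
      · exact h
      · have : (P : Subgroup F) = ⊥ := by
          rw [← Subgroup.card_eq_one]
          obtain ⟨j, hj⟩ := P.2.exists_card_eq
          have hd : 2 ^ j ∣ Nat.card F := hj ▸ (P : Subgroup F).card_subgroup_dvd_card
          rcases Nat.eq_zero_or_pos j with rfl | hj0
          · rw [hj, pow_zero]
          · exact absurd (even_iff_two_dvd.2 ((dvd_pow_self 2 hj0.ne').trans hd))
              (Nat.not_even_iff_odd.2 hodd)
        rw [this]
        exact isCyclic_of_subsingleton⟩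
    infer_instance
  -- the ring spanned by `F` on `N`
  let V := Additive N
  open scoped IsMulCommutative in
  let ρ : G → AddMonoid.End V := fun x =>
    (MonoidHom.toAdditive (MulAut.conjNormal (H := N) x).toMonoidHom : V →+ V)
  have hρ : ∀ (x : G) (n : N), ((Additive.toMul (ρ x (Additive.ofMul n)) : N) : G) = x * n * x⁻¹ :=
    fun x n => MulAut.conjNormal_apply x n
  have hρmul : ∀ x y : G, ρ (x * y) = ρ x * ρ y := fun x y => by
    refine AddMonoidHom.ext fun v => ?_
    refine Additive.toMul.injective (Subtype.ext ?_)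
    rw [show v = Additive.ofMul (Additive.toMul v) from rfl]
    show ((Additive.toMul (ρ (x * y) (Additive.ofMul (Additive.toMul v))) : N) : G) =
      ((Additive.toMul (ρ x (Additive.ofMul
        (Additive.toMul (ρ y (Additive.ofMul (Additive.toMul v)))))) : N) : G)
    rw [hρ, hρ, hρ]
    group
  have hρ1 : ρ 1 = 1 := AddMonoidHom.ext fun v => by
    refine Additive.toMul.injective (Subtype.ext ?_)
    show ((Additive.toMul (ρ 1 (Additive.ofMul (Additive.toMul v))) : N) : G) = (Additive.toMul v : N)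
    rw [hρ]; group
  let S : Set (AddMonoid.End V) := Set.range fun u : F => ρ u
  have hScomm : ∀ x ∈ S, ∀ y ∈ S, x * y = y * x := by
    rintro _ ⟨u, rfl⟩ _ ⟨v, rfl⟩
    show ρ u * ρ v = ρ v * ρ u
    rw [← hρmul, ← hρmul]
    exact congrArg ρ (congrArg Subtype.val (CfsgLib.Solvable.comm_of_isCyclic u v))
  haveI hcA := Subring.isMulCommutative_closure hScomm
  let e : V := Additive.ofMul (⟨m, hm⟩ : N)
  have he0 : e ≠ 0 := fun h => hm1 (congrArg Subtype.val (Additive.ofMul.injective h))
  have hsurj : ∀ x : V, x ≠ 0 → ∃ u : F, ρ u e = x := by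
    intro x hx
    obtain ⟨u, hu, -⟩ := hFreg b ((Additive.toMul x : N) • a) hab.symm (fun h => hx (by
      have := hfree _ (Additive.toMul x).2 a h
      exact Additive.toMul.injective (Subtype.ext this)))
    refine ⟨u, Additive.toMul.injective (Subtype.ext ?_)⟩
    show ((Additive.toMul (ρ u (Additive.ofMul (⟨m, hm⟩ : N))) : N) : G) = (Additive.toMul x : N)
    rw [hρ]
    refine inv_mul_eq_one.1 (hfree _ (mul_mem (inv_mem (hNn.conj_mem m hm u))
      (Additive.toMul x).2) a ?_)
    rw [mul_smul, inv_smul_eq_iff, mul_smul, mul_smul, inv_smul_eq_iff.2 (hFfix u).symm, hmb]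
    exact hu.symm
  let R := Subring.closure S
  let ev : R → V := fun x => (x : AddMonoid.End V) e
  have hmemS : ∀ u : F, ρ u ∈ R := fun u => Subring.subset_closure ⟨u, rfl⟩
  have hev : Function.Bijective ev := by
    constructor
    · intro x y h
      have hz : ((x - y : R) : AddMonoid.End V) e = 0 := by
        show (x : AddMonoid.End V) e - (y : AddMonoid.End V) e = 0
        exact sub_eq_zero.2 h
      refine sub_eq_zero.1 (Subtype.ext (AddMonoidHom.ext fun v => ?_))
      show ((x - y : R) : AddMonoid.End V) v = 0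
      by_cases hv : v = 0
      · rw [hv]; exact map_zero _
      obtain ⟨u, rfl⟩ := hsurj v hv
      have hc : ((x - y : R) : AddMonoid.End V) * ρ u = ρ u * ((x - y : R) : AddMonoid.End V) :=
        congrArg Subtype.val (hcA.is_comm.comm (x - y) ⟨ρ u, hmemS u⟩)
      show (((x - y : R) : AddMonoid.End V) * ρ u) e = 0
      rw [hc]
      show ρ u (((x - y : R) : AddMonoid.End V) e) = 0
      rw [hz, map_zero]
    · intro v
      by_cases hv : v = 0
      · exact ⟨0, hv.symm⟩
      obtain ⟨u, hu⟩ := hsurj v hv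
      exact ⟨⟨ρ u, hmemS u⟩, hu⟩
  haveI : Finite R := Finite.of_injective ev hev.1
  have hRcard : Nat.card R = Fintype.card Ω := by
    rw [Nat.card_eq_of_bijective ev hev, ← Nat.card_eq_fintype_card]
    exact Nat.card_congr (Additive.toMul.trans (CfsgLib.Perm.regularEquiv (hNr a)))
  have hgen : ∀ x : R, x ≠ 0 → ∃ u : F, (x : AddMonoid.End V) = ρ u := by
    intro x hx
    obtain ⟨u, hu⟩ := hsurj (ev x) (fun h => hx (hev.1 (h.trans rfl)))
    exact ⟨u, congrArg Subtype.val (hev.1 (a₁ := x) (a₂ := ⟨ρ u, hmemS u⟩) hu.symm)⟩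
  have hnt : (0 : R) ≠ 1 := fun h => he0 (by
    have := congrArg ev h
    exact this.symm)
  letI : CommRing R := { (inferInstance : Ring R) with mul_comm := hcA.is_comm.comm }
  haveI : Nontrivial R := ⟨0, 1, hnt⟩
  have hfld : IsField R := by
    refine ⟨⟨0, 1, hnt⟩, mul_comm, fun {x} hx => ?_⟩
    obtain ⟨u, hu⟩ := hgen x hx
    refine ⟨⟨ρ (u⁻¹ : F), hmemS u⁻¹⟩, Subtype.ext ?_⟩
    show (x : AddMonoid.End V) * ρ (u⁻¹ : F) = 1
    rw [hu, Subgroup.coe_inv, ← hρmul, mul_inv_cancel, hρ1]
  letI : Field R := hfld.toField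
  haveI : CharP R 2 := by
    refine CharTwo.of_one_ne_zero_of_two_eq_zero hnt.symm (hev.1 ?_)
    show ((2 : R) : AddMonoid.End V) e = ((0 : R) : AddMonoid.End V) e
    rw [← one_add_one_eq_two]
    show e + e = 0
    have : (⟨m, hm⟩ : N) * ⟨m, hm⟩ = 1 := Subtype.ext (by
      show m * m = 1
      rw [← pow_two]; exact hNp m hm)
    exact Additive.toMul.injective this
  -- the automorphism induced by `k`
  have hσmem : ∀ x ∈ R, ρ k * x * ρ k⁻¹ ∈ R := by
    intro x hx
    induction hx using Subring.closure_induction with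
    | mem y hy =>
      obtain ⟨u, rfl⟩ := hy
      show ρ k * ρ u * ρ k⁻¹ ∈ R
      rw [← hρmul, ← hρmul]
      exact hmemS ⟨_, hconjF k hka u u.2⟩
    | zero => simp
    | one => rw [mul_one, ← hρmul, mul_inv_cancel, hρ1]; exact one_mem _
    | add y z _ _ hy hz => rw [mul_add, add_mul]; exact add_mem hy hz
    | neg y _ hy =>
      have : ρ k * -y * ρ k⁻¹ = -(ρ k * y * ρ k⁻¹) := AddMonoidHom.ext fun v => by
        show ρ k (-(y (ρ k⁻¹ v))) = -(ρ k (y (ρ k⁻¹ v)))
        exact map_neg (ρ k) _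
      rw [this]; exact neg_mem hy
    | mul y z _ _ hy hz =>
      have : ρ k * (y * z) * ρ k⁻¹ = (ρ k * y * ρ k⁻¹) * (ρ k * z * ρ k⁻¹) := by
        simp only [mul_assoc]
        rw [← mul_assoc (ρ k⁻¹) (ρ k), ← hρmul, inv_mul_cancel, hρ1, one_mul]
      rw [this]; exact mul_mem hy hz
  let σ₀ : R →+* R :=
  { toFun := fun x => ⟨ρ k * x * ρ k⁻¹, hσmem x x.2⟩
    map_one' := Subtype.ext (by
      show ρ k * 1 * ρ k⁻¹ = 1
      rw [mul_one, ← hρmul, mul_inv_cancel, hρ1])
    map_mul' := fun x y => Subtype.ext (by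
      show ρ k * ((x : AddMonoid.End V) * y) * ρ k⁻¹ = (ρ k * x * ρ k⁻¹) * (ρ k * y * ρ k⁻¹)
      simp only [mul_assoc]
      rw [← mul_assoc (ρ k⁻¹) (ρ k), ← hρmul, inv_mul_cancel, hρ1, one_mul])
    map_zero' := Subtype.ext (by simp)
    map_add' := fun x y => Subtype.ext (by simp [mul_add, add_mul]) }
  letI : Algebra (ZMod 2) R := ZMod.algebra R 2
  let σ : R ≃ₐ[ZMod 2] R := AlgEquiv.ofRingEquiv
    (f := RingEquiv.ofBijective σ₀ (Finite.injective_iff_bijective.1 σ₀.injective))
    fun x => RingHom.congr_fun (RingHom.ext_zmod (σ₀.comp (algebraMap (ZMod 2) R))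
      (algebraMap (ZMod 2) R)) x
  have hσpow : ∀ (n : ℕ) (x : R),
      (((σ ^ n) x : R) : AddMonoid.End V) = ρ (k ^ n) * x * ρ (k ^ n)⁻¹ := by
    intro n
    induction n with
    | zero => intro x; simp [hρ1]
    | succ n ih =>
      intro x
      rw [pow_succ', AlgEquiv.mul_apply]
      show ρ k * ((σ ^ n) x : R) * ρ k⁻¹ = _
      rw [ih, pow_succ', mul_inv_rev, hρmul, hρmul]
      simp only [mul_assoc]
  refine ⟨l, hl, ?_⟩
  rw [← hRcard]
  refine finrank_eq_of_fixed hl σ ?_ (fun x hx => ?_) (by rw [hRcard]; omega)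
  · refine AlgEquiv.ext fun x => Subtype.ext ?_
    rw [hσpow, ← hkl, pow_orderOf_eq_one, inv_one, hρ1, one_mul, mul_one]
    rfl
  · have hx' : ρ k * (x : AddMonoid.End V) * ρ k⁻¹ = x := congrArg Subtype.val hx
    have hxk : ρ k * (x : AddMonoid.End V) = (x : AddMonoid.End V) * ρ k := by
      conv_rhs => rw [← hx']
      rw [mul_assoc _ (ρ k⁻¹), ← hρmul, inv_mul_cancel, hρ1, mul_one]
    have hke : ρ k e = e := Additive.toMul.injective (Subtype.ext (by
      show ((Additive.toMul (ρ k (Additive.ofMul (⟨m, hm⟩ : N))) : N) : G) = m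
      rw [hρ]
      exact hconj k hka m hm (by rw [hmb, hkb])))
    have hfixv : ρ k (ev x) = ev x := by
      show (ρ k * (x : AddMonoid.End V)) e = (x : AddMonoid.End V) e
      rw [hxk]
      show (x : AddMonoid.End V) (ρ k e) = (x : AddMonoid.End V) e
      rw [hke]
    by_cases h0 : x = 0
    · exact Or.inl h0
    refine Or.inr (hev.1 ?_)
    show ev x = e
    obtain ⟨n, hn⟩ : ∃ n : N, n = Additive.toMul (ev x) := ⟨_, rfl⟩
    have hkn : k * (n : G) * k⁻¹ = n := by
      rw [← hρ k n, hn]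
      exact congrArg (fun v => ((Additive.toMul v : N) : G)) hfixv
    have hkc : k • (n : G) • a = (n : G) • a := by
      have h1 : (k * (n : G) * k⁻¹) • a = (n : G) • a := by rw [hkn]
      rw [mul_smul, mul_smul, inv_smul_eq_iff.2 hka.symm] at h1
      exact h1
    have hna : (n : G) • a ≠ a := fun h => h0 (hev.1 (by
      show ev x = ev 0
      refine Additive.toMul.injective (Subtype.ext ?_)
      rw [← hn]
      exact hfree _ n.2 a h))
    have hnb : (n : G) • a = b := by
      by_contra hne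
      exact hk1 (h3 k a b ((n : G) • a) hab (fun h => hne h.symm) (fun h => hna h.symm) hka hkb hkc)
    refine Additive.toMul.injective (Subtype.ext ?_)
    rw [← hn]
    exact (inv_mul_eq_one.1 (hfree _ (mul_mem (inv_mem hm) n.2) a (by
      rw [mul_smul, inv_smul_eq_iff, hnb, hmb]))).symm

end CfsgLib.Chev.ZassRegular
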