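import Cfsg.Agent.Lib.Chev.ZassNearfield
import Cfsg.Agent.Lib.Perm.SharplyThree
import Cfsg.Agent.S0728
import Mathlib.GroupTheory.Transfer
import Mathlib.Algebra.Module.ZMod

/-!
# Sharply triply transitive groups of even degree

A two point stabiliser has a subgroup of index two invariant under a swap of the two points, and
the group itself is not simple.
-/

set_option autoImplicit false
set_option linter.unusedSectionVars false
set_option linter.style.haveILetI false

namespace CfsgLib.Chev.ZassSharp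

open MulAction

universe u

variable {α : Type u} [Fintype α] [DecidableEq α] (G : Subgroup (Equiv.Perm α))

/-- The sign of an involution, by the size of its support. -/
theorem sign_involution {σ : Equiv.Perm α} (h : σ * σ = 1) (heven : Equiv.Perm.sign σ = 1) :
    4 ∣ σ.support.card := by
  have hc := Equiv.Perm.cycleType_of_pow_prime_eq_one (σ := σ) (p := 2) (by rw [pow_two, h])
  have hs := σ.sum_cycleType
  have hsign := Equiv.Perm.sign_of_cycleType σ
  generalize Multiset.card σ.cycleType = m at hc hsign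
  rw [hc, Multiset.sum_replicate, smul_eq_mul] at hs
  rw [heven, hc, Multiset.sum_replicate, smul_eq_mul, pow_add, pow_mul'] at hsign
  norm_num at hsign
  rcases Nat.even_or_odd m with ⟨k, hk⟩ | hm
  · exact ⟨k, by omega⟩
  · rw [hm.neg_one_pow] at hsign
    exact absurd hsign (by decide)

section Sharp

variable (h3 : IsMultiplyPretransitive G α 3) (hsharp : ∀ x : Fin 3 ↪ α, stabilizer G x = ⊥)

include h3 hsharp

/-- The two point stabiliser acting on the regular normal subgroup of a point stabiliser. -/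
theorem exists_linear (heven : Even (Fintype.card α)) (h4 : 4 ≤ Fintype.card α) {a b : α}
    (hab : a ≠ b) :
    ∃ (p : ℕ) (_ : Fact p.Prime) (V : Type u) (_ : AddCommGroup V) (_ : Module (ZMod p) V)
      (_ : Finite V) (_ : Nontrivial V)
      (ρ : (stabilizer G a ⊓ stabilizer G b : Subgroup G) →* (V ≃ₗ[ZMod p] V)),
      p ≠ 2 ∧ Even (Nat.card (stabilizer G a ⊓ stabilizer G b : Subgroup G)) ∧
      (∀ v w : V, v ≠ 0 → w ≠ 0 → ∃ g, ρ g v = w) ∧
      (∀ v : V, v ≠ 0 → ∀ g, ρ g v = v → g = 1) := by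
  classical
  obtain ⟨N, p, j, hp, hcard, hNcard, hNc, hNp, hNn, hNf⟩ :=
    CfsgLib.Perm.sharply_three_kernel G h3 hsharp (by omega) a
  haveI : Fact p.Prime := ⟨hp⟩
  letI : CommGroup N := { (inferInstance : Group N) with mul_comm := fun x y => hNc.is_comm.comm x y }
  have hpx : ∀ x : Additive N, p • x = 0 := fun x => by
    apply Additive.toMul.injective
    rw [toMul_nsmul, toMul_zero]
    exact Subtype.ext (by rw [SubmonoidClass.coe_pow, hNp _ (Additive.toMul x).2, Subgroup.coe_one])
  letI : Module (ZMod p) (Additive N) := AddCommGroup.zmodModule (n := p) hpx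
  have hp2 : p ≠ 2 := by
    rintro rfl
    rcases Nat.eq_zero_or_pos j with rfl | hj
    · simp at hcard; omega
    · have : Even (2 ^ j) := Nat.even_pow.mpr ⟨even_two, by omega⟩
      obtain ⟨c, hc⟩ := this
      obtain ⟨e, he⟩ := heven
      omega
  haveI : Nontrivial (Additive N) := by
    apply (Finite.one_lt_card_iff_nontrivial (α := Additive N)).mp
    rw [Nat.card_congr Additive.toMul, hNcard]
    omega
  have hmem : ∀ (g : (stabilizer G a ⊓ stabilizer G b : Subgroup G)) (x : N),
      (g : G) * x * (g : G)⁻¹ ∈ N := fun g x => hNn _ g.2.1 _ x.2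
  let c : (stabilizer G a ⊓ stabilizer G b : Subgroup G) → Additive N →+ Additive N := fun g =>
    AddMonoidHom.mk' (fun x => Additive.ofMul ⟨_, hmem g (Additive.toMul x)⟩) fun x y =>
      Additive.toMul.injective (Subtype.ext (by
        simp only [toMul_ofMul, toMul_add, Subgroup.coe_mul]; group))
  have hc : ∀ g x, ((Additive.toMul (c g x) : N) : G) = (g : G) * (Additive.toMul x : N) * (g : G)⁻¹ :=
    fun _ _ => rfl
  let L : (stabilizer G a ⊓ stabilizer G b : Subgroup G) → (Additive N ≃ₗ[ZMod p] Additive N) := fun g =>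
    { toFun := c g
      map_add' := map_add (c g)
      map_smul' := fun m x => ZMod.map_smul (c g) m x
      invFun := c g⁻¹
      left_inv := fun x => Additive.toMul.injective (Subtype.ext (by
        rw [hc, hc, Subgroup.coe_inv]; group))
      right_inv := fun x => Additive.toMul.injective (Subtype.ext (by
        rw [hc, hc, Subgroup.coe_inv]; group)) }
  let ρ : (stabilizer G a ⊓ stabilizer G b : Subgroup G) →* (Additive N ≃ₗ[ZMod p] Additive N) :=
    { toFun := L
      map_one' := LinearEquiv.ext fun x => Additive.toMul.injective (Subtype.ext (by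
        show ((Additive.toMul (c 1 x) : N) : G) = ((Additive.toMul x : N) : G)
        rw [hc, Subgroup.coe_one]; group))
      map_mul' := fun g h => LinearEquiv.ext fun x => Additive.toMul.injective (Subtype.ext (by
        show ((Additive.toMul (c (g * h) x) : N) : G) = ((Additive.toMul (c g (c h x)) : N) : G)
        rw [hc, hc, hc, Subgroup.coe_mul]; group)) }
  have hρ : ∀ g x, ((Additive.toMul (ρ g x) : N) : G) = (g : G) * (Additive.toMul x : N) * (g : G)⁻¹ :=
    fun _ _ => rfl
  have hfix : ∀ x ∈ N, ∀ y : α, y ≠ a → x • y = y → x = 1 := fun x hx y hy e => (hNf x hx).2 ⟨y, hy, e⟩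
  have hne : ∀ v : Additive N, v ≠ 0 →
      (((Additive.toMul v : N) : G) • b ≠ a ∧ ((Additive.toMul v : N) : G) • b ≠ b) := by
    intro v hv
    refine ⟨fun e => hab (MulAction.injective ((Additive.toMul v : N) : G)
      ((hNf _ (Additive.toMul v).2).1.trans e.symm)), fun e => hv ?_⟩
    exact Additive.toMul.injective (Subtype.ext (hfix _ (Additive.toMul v).2 b hab.symm e))
  have hconj : ∀ (g : (stabilizer G a ⊓ stabilizer G b : Subgroup G)) (v : Additive N),
      ((Additive.toMul (ρ g v) : N) : G) • b = (g : G) • (((Additive.toMul v : N) : G) • b) := fun g v => by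
    rw [hρ, mul_smul, mul_smul, inv_smul_eq_iff.mpr (g.2.2 : (g : G) • b = b).symm]
  have htr : ∀ v w : Additive N, v ≠ 0 → w ≠ 0 → ∃ g, ρ g v = w := by
    intro v w hv hw
    obtain ⟨v1, v2⟩ := hne v hv
    obtain ⟨w1, w2⟩ := hne w hw
    obtain ⟨g, g1, g2, g3⟩ := CfsgLib.Perm.exists_smul_triple G h3 hab (Ne.symm v1) (Ne.symm v2)
      hab (Ne.symm w1) (Ne.symm w2)
    refine ⟨⟨g, g1, g2⟩, Additive.toMul.injective (Subtype.ext ?_)⟩
    have e : (((Additive.toMul w : N) : G))⁻¹ * ((Additive.toMul (ρ ⟨g, g1, g2⟩ v) : N) : G) = 1 := by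
      refine hfix _ (mul_mem (inv_mem (Additive.toMul w).2) (Additive.toMul (ρ ⟨g, g1, g2⟩ v)).2) b
        hab.symm ?_
      rw [mul_smul, hconj]
      show (((Additive.toMul w : N) : G))⁻¹ • g • (((Additive.toMul v : N) : G) • b) = b
      rw [g3, inv_smul_smul]
    exact (inv_mul_eq_one.mp e).symm
  have hfr : ∀ v : Additive N, v ≠ 0 → ∀ g, ρ g v = v → g = 1 := by
    intro v hv g hg
    obtain ⟨v1, v2⟩ := hne v hv
    refine Subtype.ext (CfsgLib.Perm.eq_one_of_fix_three G hsharp hab (Ne.symm v1) (Ne.symm v2)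
      g.2.1 g.2.2 ?_)
    rw [← hconj, hg]
  refine ⟨p, inferInstance, Additive N, inferInstance, inferInstance, inferInstance, inferInstance,
    ρ, hp2, ?_, htr, hfr⟩
  have h := CfsgLib.Perm.Ico.card_regular ρ htr hfr
  rw [Nat.card_congr (Additive.toMul : Additive N ≃ N), hNcard] at h
  obtain ⟨e, he⟩ := heven
  exact ⟨e - 1, by omega⟩

/-- Uniqueness of the involution and an invariant subgroup of index two. -/
theorem exists_invariant (heven : Even (Fintype.card α)) (h6 : 6 ≤ Fintype.card α) {a b : α}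
    (hab : a ≠ b) {s : G} (hsa : s • a = b) (hsb : s • b = a) (hss : s * s = 1) :
    (∀ x y : G, x ∈ stabilizer G a ⊓ stabilizer G b → y ∈ stabilizer G a ⊓ stabilizer G b →
      x * x = 1 → y * y = 1 → x ≠ 1 → y ≠ 1 → x = y) ∧
    ∃ N : Subgroup G, N ≤ stabilizer G a ⊓ stabilizer G b ∧
      (N.subgroupOf (stabilizer G a ⊓ stabilizer G b)).Normal ∧
      N.relIndex (stabilizer G a ⊓ stabilizer G b) = 2 ∧
      (∀ n ∈ N, s * n * s⁻¹ ∈ N) := by
  classical
  set D : Subgroup G := stabilizer G a ⊓ stabilizer G b with hD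
  obtain ⟨p, hp, V, iV, iM, iF, iN, ρ, hp2, hDeven, htr, hfr⟩ :=
    exists_linear G h3 hsharp heven (by omega) hab
  have hneg : ∀ x : D, x * x = 1 → x ≠ 1 → ∀ v : V, ρ x v = -v := by
    intro x hx hx1 v
    by_contra hne
    refine hx1 (hfr (ρ x v + v) (fun e => hne (eq_neg_of_add_eq_zero_left e)) x ?_)
    rw [map_add, ← LinearEquiv.mul_apply, ← map_mul, hx, map_one, LinearEquiv.coe_one, id_eq, add_comm]
  have huniq : ∀ x y : G, x ∈ D → y ∈ D → x * x = 1 → y * y = 1 → x ≠ 1 → y ≠ 1 → x = y := by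
    intro x y hx hy hx2 hy2 hx1 hy1
    obtain ⟨v, hv⟩ := exists_ne (0 : V)
    have ex := hneg ⟨x, hx⟩ (Subtype.ext hx2) (fun e => hx1 (congrArg Subtype.val e)) v
    have ey := hneg ⟨y, hy⟩ (Subtype.ext hy2) (fun e => hy1 (congrArg Subtype.val e)) v
    have e : (⟨x, hx⟩ : D) * ⟨y, hy⟩ = 1 := by
      refine hfr v hv _ ?_
      rw [map_mul, LinearEquiv.mul_apply, ey, map_neg, ex, neg_neg]
    have e' : x * y = 1 := congrArg Subtype.val e
    rw [eq_inv_of_mul_eq_one_left e', inv_eq_of_mul_eq_one_right hy2]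
  refine ⟨huniq, ?_⟩
  obtain ⟨M, -, hMi⟩ := ZassNearfield.exists_index_two ρ htr hfr hDeven fun A B hA hB => by
    refine Subgroup.map_injective D.subtype_injective (Cfsg.Agent.S0728.result heven h6 G h3 hsharp hab
      (A.map D.subtype) (B.map D.subtype) (Subgroup.map_subtype_le A) (Subgroup.map_subtype_le B) ?_ ?_)
    · rwa [Subgroup.card_map_of_injective D.subtype_injective]
    · rwa [Subgroup.card_map_of_injective D.subtype_injective]
  have hsD : ∀ x ∈ D, s * x * s⁻¹ ∈ D := by
    intro x hx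
    refine ⟨?_, ?_⟩
    · show (s * x * s⁻¹) • a = a
      rw [mul_smul, mul_smul, inv_smul_eq_iff.mpr hsb.symm, show x • b = b from hx.2, hsb]
    · show (s * x * s⁻¹) • b = b
      rw [mul_smul, mul_smul, inv_smul_eq_iff.mpr hsa.symm, show x • a = a from hx.1, hsa]
  let σ : D →* D := MonoidHom.mk' (fun x => ⟨s * x * s⁻¹, hsD x x.2⟩)
    fun x y => Subtype.ext (by simp only [Subgroup.coe_mul]; group)
  have hσσ : ∀ x, σ (σ x) = x := fun x => Subtype.ext (by
    show s * (s * (x : G) * s⁻¹) * s⁻¹ = x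
    rw [inv_eq_of_mul_eq_one_right hss]
    calc s * (s * (x : G) * s) * s = (s * s) * x * (s * s) := by group
      _ = x := by rw [hss, one_mul, mul_one])
  have hmul := fun x y => Subgroup.mul_mem_iff_of_index_two hMi (a := x) (b := y)
  let χ : D →* ℤˣ := MonoidHom.mk' (fun x => if x ∈ M then 1 else -1) fun x y => by
    by_cases hx : x ∈ M <;> by_cases hy : y ∈ M <;> simp [hmul, hx, hy]
  obtain ⟨u, hu⟩ : ∃ u, u ∉ M := by
    by_contra h
    push Not at h
    rw [(Subgroup.eq_top_iff' M).mpr h, Subgroup.index_top] at hMi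
    omega
  have hχu : χ u ≠ 1 := by
    show (if u ∈ M then (1 : ℤˣ) else -1) ≠ 1
    rw [if_neg hu]
    decide
  obtain ⟨ψ, hψ1, hψs⟩ : ∃ ψ : D →* ℤˣ, ψ ≠ 1 ∧ ∀ x, ψ (σ x) = ψ x := by
    by_cases h : χ.comp σ = χ
    · exact ⟨χ, fun e => hχu (by rw [e]; rfl), fun x => DFunLike.congr_fun h x⟩
    · refine ⟨χ * χ.comp σ, fun e => h (MonoidHom.ext fun x => ?_), fun x => ?_⟩
      · have := DFunLike.congr_fun e x
        simp only [MonoidHom.mul_apply, MonoidHom.comp_apply, MonoidHom.one_apply] at this ⊢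
        rw [eq_inv_of_mul_eq_one_right this, Int.units_inv_eq_self]
      · simp only [MonoidHom.mul_apply, MonoidHom.comp_apply, hσσ]
        exact mul_comm _ _
  refine ⟨ψ.ker.map D.subtype, Subgroup.map_subtype_le _, ?_, ?_, ?_⟩
  · rw [Subgroup.subgroupOf, Subgroup.comap_map_eq_self_of_injective D.subtype_injective]
    infer_instance
  · rw [Subgroup.relIndex, Subgroup.subgroupOf,
      Subgroup.comap_map_eq_self_of_injective D.subtype_injective, Subgroup.index_ker]
    have h1 : Nat.card ψ.range ≤ 2 :=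
      (Subgroup.card_le_card_group _).trans (by rw [Nat.card_eq_fintype_card]; decide)
    have h2 : Nat.card ψ.range ≠ 1 := fun e => hψ1 (MonoidHom.ext fun x => by
      have := Subgroup.card_eq_one.mp e
      exact Subgroup.mem_bot.mp (this ▸ ⟨x, rfl⟩))
    have h0 : 0 < Nat.card ψ.range := Nat.card_pos
    omega
  · rintro _ ⟨x, hx, rfl⟩
    exact ⟨σ x, (MonoidHom.mem_ker).mpr ((hψs x).trans (MonoidHom.mem_ker.mp hx)), rfl⟩

/-- A sharply triply transitive group of even degree is not simple. -/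
theorem not_simple (heven : Even (Fintype.card α)) (h4 : 4 ≤ Fintype.card α)
    [IsSimpleGroup G] : False := by
  classical
  haveI : Fintype G := Fintype.ofFinite G
  obtain ⟨a, b, x, hab, hax, hbx⟩ := Fintype.two_lt_card_iff.mp (show 2 < Fintype.card α by omega)
  -- the group is large
  have hbig : 2 < Nat.card G := by
    obtain ⟨g1, e1, -⟩ := CfsgLib.Perm.exists_smul_triple G h3 hab hax hbx hbx hab.symm hax.symm
    obtain ⟨g2, e2, -⟩ := CfsgLib.Perm.exists_smul_triple G h3 hab hax hbx hax.symm hbx.symm hab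
    rw [Nat.card_eq_fintype_card, Fintype.two_lt_card_iff]
    refine ⟨1, g1, g2, ?_, ?_, ?_⟩ <;> intro e
    · exact hab (by rw [← e1, ← e, one_smul])
    · exact hax (by rw [← e2, ← e, one_smul])
    · exact hbx (by rw [← e1, ← e2, e])
  have htriv : ∀ f : G →* ℤˣ, f = 1 := by
    intro f
    rcases f.normal_ker.eq_bot_or_eq_top with h | h
    · have := Nat.card_le_card_of_injective f ((MonoidHom.ker_eq_bot_iff f).mp h)
      rw [Nat.card_eq_fintype_card (α := ℤˣ)] at this
      exact absurd (this.trans_lt' hbig) (by decide)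
    · exact MonoidHom.ext fun g => MonoidHom.mem_ker.mp (h ▸ Subgroup.mem_top g)
  have hsgn : ∀ g : G, Equiv.Perm.sign (g : Equiv.Perm α) = 1 := fun g =>
    DFunLike.congr_fun (htriv (Equiv.Perm.sign.comp G.subtype)) g
  -- supports of involutions
  have hsupp : ∀ g : G, g * g = 1 → 4 ∣ (g : Equiv.Perm α).support.card := fun g hg =>
    sign_involution (by rw [← Subgroup.coe_mul, hg, Subgroup.coe_one]) (hsgn g)
  obtain ⟨p, hp, V, iV, iM, iF, iN, ρ, hp2, hDeven, htr, hfr⟩ :=
    exists_linear G h3 hsharp heven h4 hab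
  obtain ⟨z, hz⟩ := exists_prime_orderOf_dvd_card' (G := (stabilizer G a ⊓ stabilizer G b : Subgroup G)) 2
    hDeven.two_dvd
  have hz2 : (z : G) * z = 1 := by
    rw [← pow_two, ← Subgroup.coe_pow, ← hz, pow_orderOf_eq_one, Subgroup.coe_one]
  have hz1 : (z : G) ≠ 1 := fun e => by
    rw [show z = 1 from Subtype.ext e, orderOf_one] at hz
    omega
  have hzsupp : ((z : G) : Equiv.Perm α).support = ((Finset.univ : Finset α).erase a).erase b := by
    ext y
    simp only [Equiv.Perm.mem_support, Finset.mem_erase, Finset.mem_univ, and_true]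
    refine ⟨fun h => ⟨fun e => h (e ▸ z.2.2), fun e => h (e ▸ z.2.1)⟩, fun h e => hz1 ?_⟩
    exact CfsgLib.Perm.eq_one_of_fix_three G hsharp hab (Ne.symm h.2) (Ne.symm h.1) z.2.1 z.2.2 e
  have hmod : 4 ∣ Fintype.card α - 2 := by
    have := hsupp _ hz2
    rw [hzsupp, Finset.card_erase_of_mem (Finset.mem_erase.mpr ⟨hab.symm, Finset.mem_univ _⟩),
      Finset.card_erase_of_mem (Finset.mem_univ _), Finset.card_univ] at this
    exact (show Fintype.card α - 1 - 1 = Fintype.card α - 2 by omega) ▸ this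
  have h6 : 6 ≤ Fintype.card α := by omega
  -- every involution has a fixed point
  have hfix : ∀ g : G, g * g = 1 → ∃ y : α, g • y = y := by
    intro g hg
    by_contra h
    push Not at h
    have hu : (g : Equiv.Perm α).support = Finset.univ := by
      ext y
      simp only [Equiv.Perm.mem_support, Finset.mem_univ, iff_true]
      exact h y
    have := hsupp g hg
    rw [hu, Finset.card_univ] at this
    omega
  obtain ⟨s, hsa, hsb, hsx⟩ := CfsgLib.Perm.exists_smul_triple G h3 hab hax hbx hab.symm hbx hax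
  have hss : s * s = 1 := (CfsgLib.Perm.sharply_three_swap G hsharp hab hax hbx hsa hsb hsx).1
  obtain ⟨huniq, N, hND, -, hNi, hNs⟩ := exists_invariant G h3 hsharp heven h6 hab hsa hsb hss
  set D : Subgroup G := stabilizer G a ⊓ stabilizer G b with hD
  have hsinv : s⁻¹ = s := inv_eq_of_mul_eq_one_right hss
  have hN2 : ∀ g h : G, g ∈ D → h ∈ D → (g * h ∈ N ↔ (g ∈ N ↔ h ∈ N)) := fun g h hg hh =>
    Subgroup.mul_mem_iff_of_index_two (H := N.subgroupOf D) hNi (a := ⟨g, hg⟩) (b := ⟨h, hh⟩)
  have hswap : ∀ g : G, g • a = b → g • b = a → s * g ∈ D := fun g h1 h2 =>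
    ⟨show (s * g) • a = a by rw [mul_smul, h1, hsb], show (s * g) • b = b by rw [mul_smul, h2, hsa]⟩
  have hsD : ∀ g ∈ D, s * g * s ∈ D := fun g hg => by
    refine ⟨?_, ?_⟩
    · show (s * g * s) • a = a
      rw [mul_smul, mul_smul, hsa, show g • b = b from hg.2, hsb]
    · show (s * g * s) • b = b
      rw [mul_smul, mul_smul, hsb, show g • a = a from hg.1, hsa]
  have hsN : ∀ g : G, s * g * s ∈ N ↔ g ∈ N := by
    intro g
    refine ⟨fun h => ?_, fun h => by simpa [hsinv] using hNs g h⟩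
    have h' := hNs _ h
    rwa [hsinv, show s * (s * g * s) * s = (s * s) * g * (s * s) by group, hss, one_mul, mul_one] at h'
  let H : Subgroup G :=
    { carrier := {g | g ∈ D ∨ (g • a = b ∧ g • b = a)}
      one_mem' := Or.inl D.one_mem
      mul_mem' := by
        rintro g h (hg | ⟨g1, g2⟩) (hh | ⟨k1, k2⟩)
        · exact Or.inl (D.mul_mem hg hh)
        · exact Or.inr ⟨by rw [mul_smul, k1, show g • b = b from hg.2],
            by rw [mul_smul, k2, show g • a = a from hg.1]⟩
        · exact Or.inr ⟨by rw [mul_smul, show h • a = a from hh.1, g1],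
            by rw [mul_smul, show h • b = b from hh.2, g2]⟩
        · exact Or.inl ⟨show (g * h) • a = a by rw [mul_smul, k1, g2],
            show (g * h) • b = b by rw [mul_smul, k2, g1]⟩
      inv_mem' := by
        rintro g (hg | ⟨g1, g2⟩)
        · exact Or.inl (D.inv_mem hg)
        · exact Or.inr ⟨inv_smul_eq_iff.mpr g2.symm, inv_smul_eq_iff.mpr g1.symm⟩ }
  let f : G → ℤˣ := fun g => if g ∈ N then 1 else -1
  have hf : ∀ g h : G, g ∈ D → h ∈ D → f (g * h) = f g * f h := by
    intro g h hg hh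
    by_cases e1 : g ∈ N <;> by_cases e2 : h ∈ N <;> simp [f, hN2 g h hg hh, e1, e2]
  have hfs : ∀ g, f (s * g * s) = f g := fun g => by simp [f, hsN]
  let φ : G → ℤˣ := fun g => if g • a = a then f g else f (s * g)
  have hφD : ∀ g ∈ D, φ g = f g := fun g hg => if_pos hg.1
  have hφS : ∀ g : G, g • a = b → φ g = f (s * g) := fun g h => if_neg (fun e => hab (e.symm.trans h))
  have hφmul : ∀ g h : G, g ∈ H → h ∈ H → φ (g * h) = φ g * φ h := by
    rintro g h (hg | ⟨g1, g2⟩) (hh | ⟨k1, k2⟩)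
    · rw [hφD _ (D.mul_mem hg hh), hφD _ hg, hφD _ hh, hf g h hg hh]
    · rw [hφS _ (by rw [mul_smul, k1, show g • b = b from hg.2]), hφD _ hg, hφS _ k1, ← hfs g,
        ← hf _ _ (hsD g hg) (hswap h k1 k2)]
      congr 1
      rw [show s * g * s * (s * h) = s * g * (s * s) * h by group, hss, mul_one, mul_assoc]
    · rw [hφS _ (by rw [mul_smul, show h • a = a from hh.1, g1]), hφS _ g1, hφD _ hh,
        ← hf _ _ (hswap g g1 g2) hh, mul_assoc]
    · have hgh : g * h ∈ D := ⟨show (g * h) • a = a by rw [mul_smul, k1, g2],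
        show (g * h) • b = b by rw [mul_smul, k2, g1]⟩
      rw [hφD _ hgh, hφS _ g1, hφS _ k1, ← hfs (s * g),
        ← hf _ _ (hsD _ (hswap g g1 g2)) (hswap h k1 k2)]
      congr 1
      rw [show s * (s * g) * s * (s * h) = (s * s) * g * (s * s) * h by group, hss, one_mul, mul_one]
  let Φ : H →* ℤˣ := MonoidHom.mk' (fun g => φ g) fun g h => hφmul g h g.2 h.2
  -- the homomorphism is trivial on involutions of `H`
  have hφs : φ s = 1 := by
    rw [hφS s hsa, hss]
    simp [f, N.one_mem]
  have hinv1 : ∀ g : G, g • a = b → g • b = a → g * g = 1 → φ g = 1 := by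
    intro g g1 g2 gg
    obtain ⟨y, hy⟩ := hfix g gg
    have hya : a ≠ y := fun e => hab (by rw [← g1, e, hy])
    have hyb : b ≠ y := fun e => hab (by rw [← g2, e, hy])
    obtain ⟨d, d1, d2, d3⟩ := CfsgLib.Perm.exists_smul_triple G h3 hab hax hbx hab hya hyb
    have hd : d ∈ D := ⟨d1, d2⟩
    have e : (d * s * d⁻¹)⁻¹ * g = 1 := by
      refine CfsgLib.Perm.eq_one_of_fix_three G hsharp hab hya hyb ?_ ?_ ?_
      · rw [mul_smul, g1, inv_smul_eq_iff, mul_smul, mul_smul, inv_smul_eq_iff.mpr d1.symm, hsa, d2]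
      · rw [mul_smul, g2, inv_smul_eq_iff, mul_smul, mul_smul, inv_smul_eq_iff.mpr d2.symm, hsb, d1]
      · rw [mul_smul, hy, inv_smul_eq_iff, mul_smul, mul_smul, inv_smul_eq_iff.mpr d3.symm, hsx, d3]
    have hdH : d ∈ H := Or.inl hd
    have hsH : s ∈ H := Or.inr ⟨hsa, hsb⟩
    rw [← inv_mul_eq_one.mp e, hφmul _ _ (H.mul_mem hdH hsH) (H.inv_mem hdH), hφmul _ _ hdH hsH,
      hφs, mul_one, ← hφmul _ _ hdH (H.inv_mem hdH), mul_inv_cancel, hφD _ D.one_mem]
    simp [f, N.one_mem]
  have hinvH : ∀ g : G, g ∈ H → g * g = 1 → φ g = 1 := by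
    rintro g (hg | ⟨g1, g2⟩) gg
    · by_cases g0 : g = 1
      · rw [g0, hφD _ D.one_mem]; simp [f, N.one_mem]
      have hc : s * g * s = g := by
        refine huniq _ _ (hsD g hg) hg ?_ gg (fun e => g0 ?_) g0
        · rw [show s * g * s * (s * g * s) = s * g * (s * s) * g * s by group, hss, mul_one,
            mul_assoc s g g, gg, mul_one, hss]
        · calc g = (s * s) * g * (s * s) := by rw [hss, one_mul, mul_one]
            _ = s * (s * g * s) * s := by group
            _ = 1 := by rw [e, mul_one, hss]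
      have e1 : (s * g) * (s * g) = 1 := by rw [← mul_assoc, hc, gg]
      have h1 := hinv1 (s * g) (by rw [mul_smul, show g • a = a from hg.1, hsa])
        (by rw [mul_smul, show g • b = b from hg.2, hsb]) e1
      rwa [hφmul _ _ (Or.inr ⟨hsa, hsb⟩) (Or.inl hg), hφs, one_mul] at h1
    · exact hinv1 g g1 g2 gg
  -- an element outside `N`
  obtain ⟨y, hyD, hyN⟩ : ∃ y ∈ D, y ∉ N := by
    by_contra h
    push Not at h
    rw [Subgroup.relIndex_eq_one.mpr h] at hNi
    omega
  haveI : H.FiniteIndex := inferInstance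
  haveI : Fintype (Quotient (MulAction.orbitRel (Subgroup.zpowers y) (G ⧸ H))) := Fintype.ofFinite _
  have hT := MonoidHom.transfer_eq_prod_quotient_orbitRel_zpowers_quot Φ y
  rw [htriv (MonoidHom.transfer Φ), MonoidHom.one_apply] at hT
  have hΦy : φ y = -1 := by rw [hφD y hyD]; simp [f, hyN]
  -- the orbit of the trivial coset
  let q₀ : Quotient (MulAction.orbitRel (Subgroup.zpowers y) (G ⧸ H)) :=
    Quotient.mk'' ((1 : G) : G ⧸ H)
  have hyH : y ∈ H := Or.inl hyD
  have hq₀ : q₀.out = ((1 : G) : G ⧸ H) := by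
    have hr : MulAction.orbitRel (Subgroup.zpowers y) (G ⧸ H) q₀.out ((1 : G) : G ⧸ H) :=
      Quotient.mk_out' (s₁ := MulAction.orbitRel (Subgroup.zpowers y) (G ⧸ H)) ((1 : G) : G ⧸ H)
    obtain ⟨⟨k, hk⟩, hk'⟩ := MulAction.orbitRel_apply.mp hr
    obtain ⟨i, rfl⟩ := hk
    rw [← hk']
    show (y ^ i) • ((1 : G) : G ⧸ H) = ((1 : G) : G ⧸ H)
    rw [MulAction.Quotient.smul_mk, smul_eq_mul, mul_one, QuotientGroup.eq, mul_one]
    exact H.inv_mem (H.zpow_mem hyH i)
  rw [Fintype.prod_eq_single q₀] at hT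
  · have hper : Function.minimalPeriod (y • ·) q₀.out = 1 := by
      rw [Function.minimalPeriod_eq_one_iff_isFixedPt, hq₀]
      show y • ((1 : G) : G ⧸ H) = ((1 : G) : G ⧸ H)
      rw [MulAction.Quotient.smul_mk, smul_eq_mul, mul_one, QuotientGroup.eq, mul_one]
      exact H.inv_mem hyH
    have ho : q₀.out.out ∈ H := by
      rw [hq₀]
      have := QuotientGroup.eq.mp (QuotientGroup.out_eq' ((1 : G) : G ⧸ H))
      simpa using this
    have e : (1 : ℤˣ) = φ (q₀.out.out⁻¹ * y ^ Function.minimalPeriod (y • ·) q₀.out * q₀.out.out) := hT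
    rw [hper, pow_one, hφmul _ _ (H.mul_mem (H.inv_mem ho) hyH) ho, hφmul _ _ (H.inv_mem ho) hyH,
      mul_right_comm, ← hφmul _ _ (H.inv_mem ho) ho, inv_mul_cancel, hφD _ D.one_mem, hΦy] at e
    simp [f, N.one_mem] at e
  · intro q hq
    have hk : q.out.out ∉ H := by
      intro h
      apply hq
      have e : q.out = ((1 : G) : G ⧸ H) := by
        rw [← QuotientGroup.out_eq' q.out, QuotientGroup.eq, mul_one]
        exact H.inv_mem h
      rw [← Quotient.out_eq' q, e]
    set k := q.out.out with hkdef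
    set l := Function.minimalPeriod (y • ·) q.out with hl
    have hm : k⁻¹ * y ^ l * k ∈ H := QuotientGroup.out_conj_pow_minimalPeriod_mem H y q.out
    show φ (k⁻¹ * y ^ l * k) = 1
    refine hinvH _ hm ?_
    have hyl : y ^ l ∈ D := D.pow_mem hyD l
    have hka : ∃ w : α, w ≠ a ∧ w ≠ b ∧ (y ^ l * y ^ l) • w = w := by
      have hh : k⁻¹ * y ^ l * k * (k⁻¹ * y ^ l * k) ∈ D := by
        rcases hm with h | ⟨h1, h2⟩
        · exact D.mul_mem h h
        · exact ⟨show (k⁻¹ * y ^ l * k * (k⁻¹ * y ^ l * k)) • a = a by rw [mul_smul, h1, h2],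
            show (k⁻¹ * y ^ l * k * (k⁻¹ * y ^ l * k)) • b = b by rw [mul_smul, h2, h1]⟩
      rw [show k⁻¹ * y ^ l * k * (k⁻¹ * y ^ l * k) = k⁻¹ * (y ^ l * y ^ l) * k by group] at hh
      have e : ∀ w : α, (k⁻¹ * (y ^ l * y ^ l) * k) • w = w → (y ^ l * y ^ l) • (k • w) = k • w := by
        intro w hw
        rw [mul_smul, mul_smul, inv_smul_eq_iff] at hw
        exact hw
      by_cases ha' : k • a = a ∨ k • a = b
      · refine ⟨k • b, fun h => ?_, fun h => ?_, e b hh.2⟩ <;> rcases ha' with h' | h'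
        · exact hab (MulAction.injective k (h'.trans h.symm))
        · exact hk (Or.inr ⟨h', h⟩)
        · exact hk (Or.inl ⟨h', h⟩)
        · exact hab (MulAction.injective k (h'.trans h.symm))
      · push Not at ha'
        exact ⟨k • a, ha'.1, ha'.2, e a hh.1⟩
    obtain ⟨w, hwa, hwb, hw⟩ := hka
    have h1 : y ^ l * y ^ l = 1 := CfsgLib.Perm.eq_one_of_fix_three G hsharp hab (Ne.symm hwa)
      (Ne.symm hwb) (D.mul_mem hyl hyl).1 (D.mul_mem hyl hyl).2 hw
    rw [show k⁻¹ * y ^ l * k * (k⁻¹ * y ^ l * k) = k⁻¹ * (y ^ l * y ^ l) * k by group, h1]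
    group

end Sharp

end CfsgLib.Chev.ZassSharp
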