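import Mathlib
import Cfsg.Agent.Lib.Clifford.Zass
import Cfsg.Agent.Lib.Chev.SuzTwoOrder
import Cfsg.Agent.Lib.Chev.SuzukiTypeA

/-!
# Zassenhaus groups with a nonabelian kernel of exponent four

For an element `y` of order three and a moved point `c` exactly one involution `x` exchanging `c` and `y • c`
has `x * y` in the kernel at `c`; that product is not of order four, so `x` inverts `y`.  This excludes elements
of order three in the two point stabiliser, and then a kernel of order `q ^ 3`.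
-/

set_option autoImplicit false
set_option linter.unusedSectionVars false
set_option linter.style.haveILetI false

namespace CfsgLib.Clifford

open MulAction

universe u v

variable {G : Type u} {Ω : Type v} [Group G] [MulAction G Ω] [Fintype Ω]

/-- A group element commuting with an element without short cycles fixes no point unless trivial. -/
theorem eq_one_of_comm_of_fixed {a b : Ω} {H : Subgroup G} (C : Zass G Ω a b H) {y g : G}
    (hcomm : g * y = y * g) (hy1 : ∀ c : Ω, y • c ≠ c) (hy2 : ∀ c : Ω, y • y • c ≠ c) {c : Ω}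
    (hc : g • c = c) : g = 1 := by
  have e1 : g • (y • c) = y • c := by rw [← mul_smul, hcomm, mul_smul, hc]
  have e2 : g • (y • y • c) = y • y • c := by rw [← mul_smul, hcomm, mul_smul, e1]
  exact C.three g c (y • c) (y • y • c) (hy1 c).symm (hy1 (y • c)).symm (hy2 c).symm hc e1 e2

namespace Zass

variable {a b : Ω} {H : Subgroup G} (C : Zass G Ω a b H)

local notation "𝐄" => (stabilizer G a ⊓ stabilizer G b : Subgroup G)

include C

/-- An involution exchanging `c` and `y • c` whose product with `y` lies in the kernel at `c`. -/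
theorem exists_invol_kernel {y : G} {c : Ω} (hc : y • c ≠ c) :
    ∃ x t w : G, x * x = 1 ∧ x ≠ 1 ∧ t • a = c ∧ w ∈ H ∧ x * y = t * w * t⁻¹ := by
  obtain ⟨s, hsa, hsb⟩ := C.exists_swap
  obtain ⟨t, hta, htb⟩ := CfsgLib.Perm.exists_smul_pair C.two C.ab (Ne.symm hc)
  have hg : (t⁻¹ * (t * s * t⁻¹ * y) * t) • a = a := by
    rw [show t⁻¹ * (t * s * t⁻¹ * y) * t = s * (t⁻¹ * y * t) by group, mul_smul, mul_smul, mul_smul,
      hta, ← htb, inv_smul_smul, hsb]
  obtain ⟨u, hu, k, hk, e⟩ := C.exists_decomp hg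
  have hk' : k⁻¹ ∈ 𝐄 := inv_mem hk
  have e1 : (k⁻¹ * s) • a = b := by rw [mul_smul, hsa]; exact hk'.2
  have e2 : (k⁻¹ * s) • b = a := by rw [mul_smul, hsb]; exact hk'.1
  have hss : k⁻¹ * s * (k⁻¹ * s) = 1 := C.swap_sq e1 e2
  refine ⟨t * (k⁻¹ * s) * t⁻¹, t, k⁻¹ * u * k, ?_, ?_, hta, ?_, ?_⟩
  · rw [show t * (k⁻¹ * s) * t⁻¹ * (t * (k⁻¹ * s) * t⁻¹) = t * (k⁻¹ * s * (k⁻¹ * s)) * t⁻¹ by group,
      hss]
    group
  · intro h
    rw [conj_eq_one_iff] at h
    rw [h, one_smul] at e1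
    exact C.ab e1
  · have := C.normal k⁻¹ hk'.1 u hu
    rwa [inv_inv] at this
  · calc t * (k⁻¹ * s) * t⁻¹ * y = t * (k⁻¹ * (t⁻¹ * (t * s * t⁻¹ * y) * t)) * t⁻¹ := by group
      _ = t * (k⁻¹ * u * k) * t⁻¹ := by rw [e]; group

/-- The product of an involution and an element of order three is not of order four in a kernel. -/
theorem sq_eq_one_of_order_three [Finite G] (h4 : ∀ w ∈ H, w ^ 4 = 1) {x y t w : G}
    (hx : x * x = 1) (hy : y ^ 3 = 1) (hw : w ∈ H) (e : x * y = t * w * t⁻¹) : w * w = 1 := by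
  by_contra hne
  have hg4 : (x * y) ^ 4 = 1 := by rw [e, conj_pow, h4 w hw]; group
  have hy2 : y⁻¹ = y * y := inv_eq_of_mul_eq_one_right (by rw [← hy, pow_three])
  have hxi : x⁻¹ = x := inv_eq_of_mul_eq_one_right hx
  -- the involution `y x y⁻¹` inverts `x y`
  set i := y * x * y⁻¹ with hi
  have hii : i * i = 1 := by
    rw [hi, show y * x * y⁻¹ * (y * x * y⁻¹) = y * (x * x) * y⁻¹ by group, hx]; group
  have hinv : i * (x * y) * (i * (x * y)) = 1 := by
    have h1 : (y * x) ^ 4 = 1 := by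
      rw [show y * x = y * (x * y) * y⁻¹ by group, conj_pow, hg4]; group
    have h2 : (x * y⁻¹) ^ 4 = 1 := by
      rw [show x * y⁻¹ = (y * x)⁻¹ by rw [mul_inv_rev, hxi], inv_pow, h1, inv_one]
    calc i * (x * y) * (i * (x * y))
        = y * (x * y⁻¹ * (x * (y * y)) * (x * y⁻¹) * (x * y)) := by rw [hi]; group
      _ = y * (x * y⁻¹ * (x * y⁻¹) * (x * y⁻¹) * (x * y⁻¹ * y⁻¹)) := by
          rw [show x * y = x * y⁻¹ * (y * y) by group, ← hy2]
      _ = y * ((x * y⁻¹) ^ 4 * y⁻¹) := by simp [pow_succ, mul_assoc]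
      _ = 1 := by rw [h2, one_mul, mul_inv_cancel]
  have hprod : i * (i * (x * y)) = t * w * t⁻¹ := by rw [← mul_assoc, hii, one_mul, e]
  have hconj : ∀ g : G, g * g = 1 → t⁻¹ * g * t * (t⁻¹ * g * t) = 1 := fun g hg => by
    rw [show t⁻¹ * g * t * (t⁻¹ * g * t) = t⁻¹ * (g * g) * t by group, hg]; group
  refine hne (C.mem_of_mul_mem (hconj i hii) (hconj _ hinv) hw (fun h => hne (by rw [h, one_mul])) ?_).2.2
  rw [show t⁻¹ * i * t * (t⁻¹ * (i * (x * y)) * t) = t⁻¹ * (i * (i * (x * y))) * t by group, hprod]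
  group

open scoped Classical in
/-- An element of order three is inverted by at least as many involutions as it moves points. -/
theorem card_moved_le_inverting [Fintype G] (h4 : ∀ w ∈ H, w ^ 4 = 1) {y : G} (hy : y ^ 3 = 1)
    (hy1 : y ≠ 1) :
    (Finset.univ.filter fun c : Ω => y • c ≠ c).card ≤
      (Finset.univ.filter fun x : G => (x * x = 1 ∧ x ≠ 1) ∧ x * y * x = y⁻¹).card := by
  have key : ∀ c : Ω, y • c ≠ c → ∃ x : G, ((x * x = 1 ∧ x ≠ 1) ∧ x * y * x = y⁻¹) ∧
      ∀ d : Ω, (x * y) • d = d ↔ d = c := by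
    intro c hc
    obtain ⟨x, t, w, hx, hx1, hta, hw, e⟩ := C.exists_invol_kernel hc
    have hw1 : w ≠ 1 := by
      intro h
      rw [h, mul_one, mul_inv_cancel] at e
      have hyx : y = x := mul_left_cancel (a := x) (by rw [e, hx])
      apply hy1
      have h3 : y * y * y = 1 := by rw [← hy, pow_three']
      rwa [hyx, hx, one_mul, ← hyx] at h3
    have hww := C.sq_eq_one_of_order_three h4 hx hy hw e
    refine ⟨x, ⟨⟨hx, hx1⟩, ?_⟩, fun d => ?_⟩
    · rw [eq_inv_iff_mul_eq_one]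
      calc x * y * x * y = (x * y) * (x * y) := by group
        _ = t * (w * w) * t⁻¹ := by rw [e]; group
        _ = 1 := by rw [hww]; group
    · rw [e, mul_smul, mul_smul]
      constructor
      · intro h
        have h' : w • t⁻¹ • d = t⁻¹ • d := MulAction.injective t (show t • w • t⁻¹ • d = t • t⁻¹ • d by rw [h, smul_inv_smul])
        rw [← hta, ← C.fix_only hw hw1 h', smul_inv_smul]
      · rintro rfl
        rw [← hta, inv_smul_smul, C.fix w hw]
  choose! f hf hfix using key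
  refine Finset.card_le_card_of_injOn f (fun c hc => ?_) (fun c hc d hd e => ?_)
  · exact Finset.mem_filter.2 ⟨Finset.mem_univ _, hf c (Finset.mem_filter.1 (Finset.mem_coe.1 hc)).2⟩
  · have h1 := (hfix c (Finset.mem_filter.1 (Finset.mem_coe.1 hc)).2 c).2 rfl
    rw [e] at h1
    exact (hfix d (Finset.mem_filter.1 (Finset.mem_coe.1 hd)).2 c).1 h1

/-- The two point stabiliser has no element of order three. -/
theorem no_three_stab [Finite G] (h4 : ∀ w ∈ H, w ^ 4 = 1)
    (hlt : Nat.card 𝐄 + 1 < Nat.card H) {y : G} (hyE : y ∈ 𝐄) (hy : y ^ 3 = 1) : y = 1 := by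
  classical
  by_contra hy1
  haveI := Fintype.ofFinite G
  have h1 := C.card_moved_le_inverting h4 hy hy1
  have hmov : (Finset.univ.filter fun c : Ω => y • c ≠ c) = (Finset.univ.erase a).erase b := by
    ext c
    simp only [Finset.mem_filter, Finset.mem_univ, true_and, Finset.mem_erase, and_true]
    constructor
    · intro h
      exact ⟨fun e => h (e ▸ hyE.2), fun e => h (e ▸ hyE.1)⟩
    · rintro ⟨hb, ha⟩ h
      exact hy1 (C.three y a b c C.ab (Ne.symm hb) (Ne.symm ha) hyE.1 hyE.2 h)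
  rw [hmov, Finset.card_erase_of_mem (Finset.mem_erase.2 ⟨C.ab.symm, Finset.mem_univ _⟩),
    Finset.card_erase_of_mem (Finset.mem_univ _), Finset.card_univ, ← C.card_H] at h1
  have h2 : (Finset.univ.filter fun x : G => (x * x = 1 ∧ x ≠ 1) ∧ x * y * x = y⁻¹).card ≤
      Nat.card 𝐄 := by
    rw [← C.card_swaps C.ab]
    refine Finset.card_le_card fun x hx => ?_
    obtain ⟨-, ⟨hx2, hx1⟩, hxy⟩ := Finset.mem_filter.1 hx
    refine Finset.mem_filter.2 ⟨Finset.mem_univ _, hx2, hx1, ?_⟩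
    have hfix : ∀ z : Ω, y • z = z → x • z = a ∨ x • z = b := by
      intro z hz
      by_contra h
      push Not at h
      refine hy1 (C.three y a b (x • z) C.ab (Ne.symm h.2) (Ne.symm h.1) hyE.1 hyE.2 ?_)
      have hxy' : y * x = x * y⁻¹ := by rw [← hxy, ← mul_assoc, ← mul_assoc, hx2, one_mul]
      rw [← mul_smul, hxy', mul_smul, inv_smul_eq_iff.2 hz.symm]
    rcases hfix a hyE.1 with hxa | hxa
    · exfalso
      refine hx1 (C.eq_one_of_sq ⟨hxa, ?_⟩ hx2)
      exact (hfix b hyE.2).resolve_left fun h => C.ab (MulAction.injective x (hxa.trans h.symm))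
    · exact hxa
  omega

open scoped Classical in
/-- The kernel has order different from `(e + 1) ^ 3`. -/
theorem card_ne_cube [Fintype G] (h4 : ∀ w ∈ H, w ^ 4 = 1) (hsq : ∀ w ∈ H, ∀ v ∈ H, v * (w * w) = w * w * v)
    (hcm : ∀ w ∈ H, ∀ v ∈ H, (w * v * w⁻¹ * v⁻¹) * (w * v * w⁻¹ * v⁻¹) = 1)
    {y : G} (hy : y ^ 3 = 1) (hfree : ∀ c : Ω, y • c ≠ c) :
    Nat.card H ≠ (Nat.card 𝐄 + 1) ^ 3 := by
  intro hcube
  have hh := C.card_H
  set e := Nat.card 𝐄 with he
  have hy1 : y ≠ 1 := fun h => hfree a (by rw [h, one_smul])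
  have hyy : ∀ c : Ω, y • y • c ≠ c := fun c h => hfree c (by
    have h' : y • y • y • c = c := by rw [← mul_smul, ← mul_smul, ← pow_three', hy, one_smul]
    rwa [h] at h')
  set I := Finset.univ.filter fun x : G => (x * x = 1 ∧ x ≠ 1) ∧ x * y * x = y⁻¹ with hI
  have hIn : Fintype.card Ω ≤ I.card := by
    refine le_of_eq_of_le ?_ (C.card_moved_le_inverting h4 hy hy1)
    rw [← Finset.card_univ]
    exact congrArg Finset.card (Finset.filter_true_of_mem fun c _ => hfree c).symm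
  have hImem : ∀ x ∈ I, x * x = 1 ∧ x ≠ 1 ∧ x * y * x = y⁻¹ := fun x hx => by
    obtain ⟨-, ⟨h1, h2⟩, h3⟩ := Finset.mem_filter.1 hx; exact ⟨h1, h2, h3⟩
  obtain ⟨x₀, hx₀⟩ := Finset.card_pos.1 (lt_of_lt_of_le (Fintype.card_pos_iff.2 ⟨a⟩) hIn)
  obtain ⟨hx₀2, hx₀1, hx₀y⟩ := hImem x₀ hx₀
  set A := Finset.univ.filter fun g : G => g * y = y * g with hA
  have hAmem : ∀ g, g ∈ A ↔ g * y = y * g := fun g => by simp [hA]
  have hx₀A : ∀ x ∈ I, x₀ * x ∈ A := by
    intro x hx
    obtain ⟨h1, -, h3⟩ := hImem x hx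
    have e1 : x * y = y⁻¹ * x := by rw [← h3, mul_assoc, h1, mul_one]
    have e2 : x₀ * y⁻¹ = y * x₀ := by
      rw [← hx₀y, ← mul_assoc, ← mul_assoc, hx₀2, one_mul]
    rw [hAmem, mul_assoc, e1, ← mul_assoc, e2, mul_assoc]
  have hsemi : ∀ g ∈ A, ∀ c : Ω, g • c = c → g = 1 := fun g hg c hc =>
    eq_one_of_comm_of_fixed C ((hAmem g).1 hg) hfree hyy hc
  have hAle : A.card ≤ Fintype.card Ω := by
    rw [← Finset.card_univ]
    refine Finset.card_le_card_of_injOn (fun g => g • a) (fun _ _ => Finset.mem_coe.2 (Finset.mem_univ _))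
      fun g hg k hk e => ?_
    have hgk : g⁻¹ * k ∈ A := by
      have e1 := (hAmem g).1 (Finset.mem_coe.1 hg)
      have e2 := (hAmem k).1 (Finset.mem_coe.1 hk)
      have e3 : g⁻¹ * y = y * g⁻¹ := (Commute.inv_left (show Commute g y from e1)).eq
      rw [hAmem, mul_assoc, e2, ← mul_assoc, e3, mul_assoc]
    exact inv_mul_eq_one.1 (hsemi _ hgk a (by rw [mul_smul, ← show g • a = k • a from e, inv_smul_smul]))
  have himg : I.image (fun x => x₀ * x) = A := by
    refine Finset.eq_of_subset_of_card_le (fun g hg => ?_) ?_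
    · obtain ⟨x, hx, rfl⟩ := Finset.mem_image.1 hg; exact hx₀A x hx
    · rw [Finset.card_image_of_injective _ (mul_right_injective x₀)]; exact hAle.trans hIn
  have hAcard : A.card = Fintype.card Ω := le_antisymm hAle (by
    rw [← himg, Finset.card_image_of_injective _ (mul_right_injective x₀)]; exact hIn)
  have hinv₀ : ∀ r ∈ A, x₀ * r * x₀ = r⁻¹ := by
    intro r hr
    rw [← himg] at hr
    obtain ⟨x, hx, rfl⟩ := Finset.mem_image.1 hr
    rw [mul_inv_rev, inv_eq_of_mul_eq_one_right (hImem x hx).1, inv_eq_of_mul_eq_one_right hx₀2,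
      ← mul_assoc, hx₀2, one_mul]
  have hxi : x₀⁻¹ = x₀ := inv_eq_of_mul_eq_one_right hx₀2
  have hAmul : ∀ r ∈ A, ∀ r' ∈ A, r * r' ∈ A := fun r hr r' hr' => by
    rw [hAmem, mul_assoc, (hAmem r').1 hr', ← mul_assoc, (hAmem r).1 hr, mul_assoc]
  have hAinv : ∀ r ∈ A, r⁻¹ ∈ A := fun r hr =>
    (hAmem _).2 (Commute.inv_left (show Commute r y from (hAmem r).1 hr)).eq
  have hAcomm : ∀ r ∈ A, ∀ r' ∈ A, r * r' = r' * r := by
    intro r hr r' hr'
    have := hinv₀ _ (hAmul r hr r' hr')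
    rw [show x₀ * (r * r') * x₀ = x₀ * r * x₀ * (x₀ * r' * x₀) by
      simp only [mul_assoc]; rw [← mul_assoc x₀ x₀, hx₀2, one_mul], hinv₀ r hr, hinv₀ r' hr',
      ← mul_inv_rev] at this
    exact (inv_injective this).symm
  obtain ⟨r₀, hr₀, hr₀a⟩ : ∃ r ∈ A, x₀ • r • a = r • a := by
    obtain ⟨c₀, hc₀⟩ := C.exists_fixed_of_odd (by
      rw [← hh, hcube, Nat.odd_add_one, Nat.not_odd_iff_even]
      exact C.odd.add_one.pow_of_ne_zero (by norm_num)) hx₀2
    have himgA : A.image (fun g => g • a) = Finset.univ := by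
      refine Finset.eq_univ_of_card _ ?_
      rw [Finset.card_image_of_injOn, hAcard]
      intro g hg k hk e
      exact inv_mul_eq_one.1 (hsemi _ (hAmul _ (hAinv _ hg) _ hk) a
        (by rw [mul_smul, ← show g • a = k • a from e, inv_smul_smul]))
    obtain ⟨r, hr, rfl⟩ := Finset.mem_image.1 (himgA ▸ Finset.mem_univ c₀)
    exact ⟨r, hr, hc₀⟩
  -- the inverting involution at `a`
  set z := r₀⁻¹ * x₀ * r₀ with hz
  have hzz : z * z = 1 := by
    rw [hz, show r₀⁻¹ * x₀ * r₀ * (r₀⁻¹ * x₀ * r₀) = r₀⁻¹ * (x₀ * x₀) * r₀ by group, hx₀2]; group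
  have hz1 : z ≠ 1 := fun h => hx₀1 (by rw [show x₀ = r₀ * z * r₀⁻¹ by rw [hz]; group, h]; group)
  have hza : z • a = a := by rw [hz, mul_smul, mul_smul, hr₀a, inv_smul_smul]
  have hzH : z ∈ H := C.involution_mem hzz hza
  have hzinv : ∀ r ∈ A, z * r * z = r⁻¹ := by
    intro r hr
    have e1 : r₀ * r * r₀⁻¹ = r := by rw [hAcomm r₀ hr₀ r hr, mul_inv_cancel_right]
    calc z * r * z = r₀⁻¹ * (x₀ * (r₀ * r * r₀⁻¹) * x₀) * r₀ := by rw [hz]; group
      _ = r₀⁻¹ * r⁻¹ * r₀ := by rw [e1, hinv₀ r hr]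
      _ = r⁻¹ := by rw [hAcomm _ (hAinv r₀ hr₀) _ (hAinv r hr), inv_mul_cancel_right]
  have hAodd : ∀ r ∈ A, r * r = 1 → r = 1 := by
    intro r hr h
    obtain ⟨c, hc⟩ := C.exists_fixed_of_odd (by
      rw [← hh, hcube, Nat.odd_add_one, Nat.not_odd_iff_even]
      exact C.odd.add_one.pow_of_ne_zero (by norm_num)) h
    exact hsemi r hr c hc
  have hcent : ∀ r ∈ A, r ≠ 1 → ∀ g : G, g * r = r * g → g ∈ A := by
    intro r hr hr1 g hg
    have hfr : ∀ c : Ω, r • c ≠ c := fun c h => hr1 (hsemi r hr c h)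
    have hfr2 : ∀ c : Ω, r • r • c ≠ c := fun c h => hr1 (hAodd r hr
      (hsemi _ (hAmul r hr r hr) c (by rw [mul_smul]; exact h)))
    have hle : (Finset.univ.filter fun g : G => g * r = r * g).card ≤ A.card := by
      rw [hAcard, ← Finset.card_univ (α := Ω)]
      refine Finset.card_le_card_of_injOn (fun g => g • a)
        (fun _ _ => Finset.mem_coe.2 (Finset.mem_univ _)) fun g hg k hk e => ?_
      have e1 : g * r = r * g := (Finset.mem_filter.1 (Finset.mem_coe.1 hg)).2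
      have e2 : k * r = r * k := (Finset.mem_filter.1 (Finset.mem_coe.1 hk)).2
      have e3 : g⁻¹ * r = r * g⁻¹ := (Commute.inv_left (show Commute g r from e1)).eq
      refine inv_mul_eq_one.1 (eq_one_of_comm_of_fixed C (y := r)
        (by rw [mul_assoc, e2, ← mul_assoc, e3, mul_assoc]) hfr hfr2 (c := a) ?_)
      rw [mul_smul, ← show g • a = k • a from e, inv_smul_smul]
    have heq : A = Finset.univ.filter fun g : G => g * r = r * g :=
      Finset.eq_of_subset_of_card_le (fun k hk => Finset.mem_filter.2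
        ⟨Finset.mem_univ _, hAcomm k hk r hr⟩) hle
    rw [heq]; exact Finset.mem_filter.2 ⟨Finset.mem_univ _, hg⟩
  -- the kernel elements normalising `A`
  set P := Finset.univ.filter fun g : G => g ∈ H ∧ ∀ r ∈ A, g * r * g⁻¹ ∈ A with hP
  have hPmem : ∀ g, g ∈ P ↔ g ∈ H ∧ ∀ r ∈ A, g * r * g⁻¹ ∈ A := fun g => by simp [hP]
  have hPmul : ∀ g ∈ P, ∀ k ∈ P, g * k ∈ P := fun g hg k hk => by
    obtain ⟨g1, g2⟩ := (hPmem g).1 hg
    obtain ⟨k1, k2⟩ := (hPmem k).1 hk
    refine (hPmem _).2 ⟨mul_mem g1 k1, fun r hr => ?_⟩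
    rw [show g * k * r * (g * k)⁻¹ = g * (k * r * k⁻¹) * g⁻¹ by group]
    exact g2 _ (k2 r hr)
  have hPinv : ∀ g ∈ P, g⁻¹ ∈ P := by
    intro g hg
    obtain ⟨g1, g2⟩ := (hPmem g).1 hg
    refine (hPmem _).2 ⟨inv_mem g1, fun r hr => ?_⟩
    have himgA : A.image (fun r => g * r * g⁻¹) = A :=
      Finset.eq_of_subset_of_card_le (fun k hk => by
        obtain ⟨r, hr, rfl⟩ := Finset.mem_image.1 hk; exact g2 r hr)
        (by rw [Finset.card_image_of_injective _ fun u v h => mul_left_cancel (mul_right_cancel h)])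
    rw [← himgA] at hr
    obtain ⟨r', hr', rfl⟩ := Finset.mem_image.1 hr
    simpa [mul_assoc] using hr'
  have hPinvol : ∀ g ∈ P, g * g = 1 → g = 1 ∨ g = z := by
    intro g hg hgg
    by_cases hg1 : g = 1
    · exact Or.inl hg1
    refine Or.inr ?_
    obtain ⟨gH, gA⟩ := (hPmem g).1 hg
    have hgi : g⁻¹ = g := inv_eq_of_mul_eq_one_right hgg
    have hginv : ∀ r ∈ A, g * r * g = r⁻¹ := by
      intro r hr
      have h1 : g * r * g ∈ A := by simpa [hgi] using gA r hr
      set p := r * (g * r * g) with hp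
      have hpA : p ∈ A := hAmul r hr _ h1
      have hpg : p * g = g * p := by
        rw [hp]
        calc r * (g * r * g) * g = g * r * g * r * g := by rw [hAcomm r hr _ h1]
          _ = g * (r * (g * r * g)) := by group
      have hpa : p • a = a := C.fix_only gH hg1 (by
        rw [← mul_smul, ← hpg, mul_smul, C.fix g gH])
      have := hsemi p hpA a hpa
      rw [hp] at this
      exact eq_inv_of_mul_eq_one_right this
    have hzg : g * z * y = y * (g * z) := by
      have hyA : y ∈ A := (hAmem y).2 rfl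
      have e1 := hginv _ (hAinv y hyA)
      rw [inv_inv] at e1
      have e2 : z * y = y⁻¹ * z := by rw [← hzinv y hyA, mul_assoc (z * y), hzz, mul_one]
      calc g * z * y = g * y⁻¹ * z := by rw [mul_assoc, e2, mul_assoc]
        _ = g * y⁻¹ * g * (g * z) := by simp [mul_assoc, ← mul_assoc g g, hgg]
        _ = y * (g * z) := by rw [e1]
    have := hsemi (g * z) ((hAmem _).2 hzg) a (by rw [mul_smul, hza, C.fix g gH])
    exact (eq_inv_of_mul_eq_one_left this).trans (inv_eq_of_mul_eq_one_right hzz)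
  have hP8 : P.card ≤ 8 := by
    have hsqP : ∀ g ∈ P, g = 1 ∨ g = z ∨ g * g = z := by
      intro g hg
      have gH := ((hPmem g).1 hg).1
      rcases hPinvol (g * g) (hPmul g hg g hg) (by rw [← h4 g gH]; simp [pow_succ, mul_assoc]) with h | h
      · exact (hPinvol g hg h).imp id Or.inl
      · exact Or.inr (Or.inr h)
    by_cases hex : ∃ p ∈ P, p ≠ 1 ∧ p ≠ z
    swap
    · push Not at hex
      refine (Finset.card_le_card (t := {1, z}) fun g hg => ?_).trans
        ((Finset.card_le_two).trans (by norm_num))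
      by_cases hg1 : g = 1
      · simp [hg1]
      · simp [hex g hg hg1]
    obtain ⟨p, hp, hp1, hpz⟩ := hex
    have hpp : p * p = z := ((hsqP p hp).resolve_left hp1).resolve_left hpz
    have hpH := ((hPmem p).1 hp).1
    -- the centraliser of `p`
    have hcp : ∀ g ∈ P, g * p = p * g → g ∈ ({1, z, p⁻¹, p⁻¹ * z} : Finset G) := by
      intro g hg hgp
      rcases hsqP g hg with rfl | rfl | hgg
      · simp
      · simp
      · rcases hPinvol (p * g) (hPmul p hp g hg) (by
          rw [show p * g * (p * g) = p * (g * p) * g by group, hgp,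
            show p * (p * g) * g = p * p * (g * g) by group, hpp, hgg, hzz]) with h | h
        · simp [eq_inv_of_mul_eq_one_right h]
        · simp [show g = p⁻¹ * z by rw [← h]; group]
    let f : G → G := fun g => g * p * g⁻¹ * p⁻¹
    have hfP : ∀ g ∈ P, f g ∈ ({1, z} : Finset G) := by
      intro g hg
      have h1 : f g ∈ P := hPmul _ (hPmul _ (hPmul g hg p hp) _ (hPinv g hg)) _ (hPinv p hp)
      rcases hPinvol _ h1 (hcm g ((hPmem g).1 hg).1 p hpH) with h | h <;> simp [h]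
    refine (Finset.card_le_mul_card_image_of_maps_to hfP 4 fun v _ => ?_).trans
      (by have := (Finset.card_le_two : ({1, z} : Finset G).card ≤ 2); omega)
    rcases (P.filter fun g => f g = v).eq_empty_or_nonempty with h | ⟨g₀, hg₀⟩
    · simp [h]
    obtain ⟨hg₀P, hg₀v⟩ := Finset.mem_filter.1 hg₀
    refine le_trans (Finset.card_le_card_of_injOn (fun g => g₀⁻¹ * g) (fun g hg => ?_)
      fun g _ k _ e => mul_left_cancel e) (Finset.card_le_four (a := (1 : G)) (b := z) (c := p⁻¹) (d := p⁻¹ * z))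
    obtain ⟨hgP, hgv⟩ := Finset.mem_filter.1 (Finset.mem_coe.1 hg)
    refine Finset.mem_coe.2 (hcp _ (hPmul _ (hPinv _ hg₀P) _ hgP) ?_)
    have h' : g * p * g⁻¹ = g₀ * p * g₀⁻¹ := mul_right_cancel (hgv.trans hg₀v.symm)
    calc g₀⁻¹ * g * p = g₀⁻¹ * (g * p * g⁻¹) * g := by group
      _ = p * (g₀⁻¹ * g) := by rw [h']; group
  -- counting involutions
  set S := (Finset.univ.filter fun g : G => g ∈ H) ×ˢ A.erase 1 with hS
  set T := Finset.univ.filter fun g : G => g * g = 1 ∧ g ≠ 1 with hTdef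
  let F : G × G → G := fun w => w.1 * (z * w.2) * w.1⁻¹
  have hFT : ∀ w ∈ S, F w ∈ T := by
    rintro ⟨v, r⟩ hw
    obtain ⟨-, hr⟩ := Finset.mem_product.1 hw
    obtain ⟨hr1, hrA⟩ := Finset.mem_erase.1 hr
    have hzr : z * r * (z * r) = 1 := by rw [← mul_assoc, hzinv r hrA, inv_mul_cancel]
    refine Finset.mem_filter.2 ⟨Finset.mem_univ _, ?_, fun h => hr1 ?_⟩
    · show v * (z * r) * v⁻¹ * (v * (z * r) * v⁻¹) = 1
      rw [show v * (z * r) * v⁻¹ * (v * (z * r) * v⁻¹) = v * (z * r * (z * r)) * v⁻¹ by group, hzr]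
      group
    · have h' : z * r = 1 := conj_eq_one_iff.1 h
      exact hsemi r hrA a (by rw [eq_inv_of_mul_eq_one_right h', inv_eq_of_mul_eq_one_right hzz, hza])
  have hfibre : ∀ v ∈ T, (S.filter fun w => F w = v).card ≤ 8 := by
    intro x _
    rcases (S.filter fun w => F w = x).eq_empty_or_nonempty with h | ⟨⟨v₀, r₀'⟩, hw₀⟩
    · simp [h]
    obtain ⟨hw₀S, hw₀x⟩ := Finset.mem_filter.1 hw₀
    obtain ⟨hv₀, hr₀'⟩ := Finset.mem_product.1 hw₀S
    have hv₀H := (Finset.mem_filter.1 hv₀).2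
    obtain ⟨hr₀1, hr₀A⟩ := Finset.mem_erase.1 hr₀'
    have hrel : ∀ v r : G, (v, r) ∈ S.filter (fun w => F w = x) →
        v₀⁻¹ * v * r * (v₀⁻¹ * v)⁻¹ = r₀' ∧ v ∈ H ∧ r ∈ A := by
      intro v r hw
      obtain ⟨hwS, hwx⟩ := Finset.mem_filter.1 hw
      obtain ⟨hv, hr⟩ := Finset.mem_product.1 hwS
      have hvH := (Finset.mem_filter.1 hv).2
      refine ⟨?_, hvH, (Finset.mem_erase.1 hr).2⟩
      have e1 : v * (z * r) * v⁻¹ = v₀ * (z * r₀') * v₀⁻¹ := hwx.trans hw₀x.symm
      set u := v₀⁻¹ * v with hu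
      have huz : z * u = u * z := C.involution_central hzz hzH (mul_mem (inv_mem hv₀H) hvH)
      have e2 : u * (z * r) * u⁻¹ = z * r₀' := by
        rw [show u * (z * r) * u⁻¹ = v₀⁻¹ * (v * (z * r) * v⁻¹) * v₀ by rw [hu]; group, e1]
        group
      rw [← mul_assoc, ← huz] at e2
      exact mul_left_cancel (a := z) (by rw [← e2]; group)
    refine le_trans (Finset.card_le_card_of_injOn (fun w => v₀⁻¹ * w.1) (fun w hw => ?_) ?_) hP8
    · obtain ⟨v, r⟩ := w
      obtain ⟨e, hvH, hrA⟩ := hrel v r (Finset.mem_coe.1 hw)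
      refine Finset.mem_coe.2 ((hPmem _).2 ⟨mul_mem (inv_mem hv₀H) hvH, fun k hk => ?_⟩)
      refine hcent r₀' hr₀A hr₀1 _ ?_
      rw [← e]
      have := hAcomm k hk r hrA
      calc v₀⁻¹ * v * k * (v₀⁻¹ * v)⁻¹ * (v₀⁻¹ * v * r * (v₀⁻¹ * v)⁻¹)
          = v₀⁻¹ * v * (k * r) * (v₀⁻¹ * v)⁻¹ := by group
        _ = v₀⁻¹ * v * (r * k) * (v₀⁻¹ * v)⁻¹ := by rw [this]
        _ = _ := by group
    · rintro ⟨v, r⟩ hw ⟨v', r'⟩ hw' (h : v₀⁻¹ * v = v₀⁻¹ * v')
      obtain rfl := mul_left_cancel h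
      have e1 := (hrel v r (Finset.mem_coe.1 hw)).1.trans (hrel v r' (Finset.mem_coe.1 hw')).1.symm
      rw [mul_left_cancel (mul_right_cancel e1)]
  have hcount := Finset.card_le_mul_card_image_of_maps_to hFT 8 hfibre
  have h1A : (1 : G) ∈ A := (hAmem 1).2 (by rw [one_mul, mul_one])
  have hHc : (Finset.univ.filter fun g : G => g ∈ H).card = Nat.card H := by
    rw [Nat.card_eq_fintype_card, Fintype.card_subtype]
  have hev : Even (Nat.card H) := by
    rw [hcube]; exact C.odd.add_one.pow_of_ne_zero (by norm_num)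
  have hTc : T.card = Nat.card 𝐄 * (Nat.card H + 1) := by
    rw [hTdef, C.card_involutions, if_pos hev]
  rw [hS, Finset.card_product, hHc, Finset.card_erase_of_mem h1A, hAcard, ← hh, Nat.add_sub_cancel,
    hTc, hcube, ← he] at hcount
  have he3 : 3 ≤ e := by
    have := C.one_lt
    obtain ⟨m, hm⟩ := C.odd
    omega
  have h27 : 64 ≤ (e + 1) ^ 3 := le_trans (by norm_num) (Nat.pow_le_pow_left (by omega : 4 ≤ e + 1) 3)
  have hlin : 16 * e < (e + 1) ^ 3 := by
    have : 16 * (e + 1) ≤ (e + 1) ^ 3 := by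
      rw [pow_succ]; exact Nat.mul_le_mul_right _ (le_trans (by norm_num) (Nat.pow_le_pow_left (by omega : 4 ≤ e + 1) 2))
    omega
  nlinarith [hcount, Nat.mul_le_mul_right ((e + 1) ^ 3) hlin.le]

/-- Conjugation by the two point stabiliser on the kernel. -/
def stabAut : 𝐄 →* MulAut H where
  toFun k :=
    { toFun := fun w => ⟨(k : G) * w * (k : G)⁻¹, C.normal k k.2.1 w w.2⟩
      invFun := fun w => ⟨(k : G)⁻¹ * w * ((k : G)⁻¹)⁻¹,
        C.normal (k : G)⁻¹ (inv_mem k.2 : (k : G)⁻¹ ∈ 𝐄).1 w w.2⟩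
      left_inv := fun w => Subtype.ext (by group)
      right_inv := fun w => Subtype.ext (by group)
      map_mul' := fun w v => Subtype.ext (by simp only [Subgroup.coe_mul]; group) }
  map_one' := MulEquiv.ext fun w => Subtype.ext (by simp)
  map_mul' k l := MulEquiv.ext fun w => Subtype.ext (by simp [mul_assoc])

/-- The kernel is a Suzuki 2-group. -/
theorem suzukiCtx [Finite G] (hP : IsPGroup 2 H) (hna : ∃ u v : H, u * v ≠ v * u)
    (hcyc : IsCyclic 𝐄) : CfsgLib.Chev.SuzTwo.Ctx H C.stabAut.range := by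
  classical
  haveI := Fintype.ofFinite G
  haveI := hcyc
  haveI : Fact (Nat.Prime 2) := ⟨Nat.prime_two⟩
  have hev : Even (Nat.card H) := by
    obtain ⟨n, hn⟩ := IsPGroup.iff_card.1 hP
    rw [hn, Nat.even_pow]
    refine ⟨even_two, fun h => ?_⟩
    rw [h, pow_zero] at hn
    obtain ⟨u, v, huv⟩ := hna
    haveI := (Nat.card_eq_one_iff_unique.1 hn).1
    exact huv (Subsingleton.elim _ _)
  have hI := C.card_kernel_involutions hev
  obtain ⟨he1, -⟩ := And.intro C.one_lt trivial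
  refine ⟨inferInstance, hP, hna, ?_, isCyclic_of_surjective _ C.stabAut.rangeRestrict_surjective, ?_⟩
  · obtain ⟨x, hx, y, hy, hxy⟩ := Finset.one_lt_card.1 (hI ▸ he1)
    obtain ⟨-, hx2, hx1, hxH⟩ := Finset.mem_filter.1 hx
    obtain ⟨-, hy2, hy1, hyH⟩ := Finset.mem_filter.1 hy
    exact ⟨⟨x, hxH⟩, ⟨y, hyH⟩, fun h => hxy (congrArg Subtype.val h),
      fun h => hx1 (congrArg Subtype.val h), Subtype.ext hx2, fun h => hy1 (congrArg Subtype.val h),
      Subtype.ext hy2⟩
  · intro x y hx1 hxx hy1 hyy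
    have hxG : (x : G) * x = 1 := congrArg Subtype.val hxx
    have hx1G : (x : G) ≠ 1 := fun h => hx1 (Subtype.ext h)
    have hinj : ∀ k l : 𝐄, C.stabAut k x = C.stabAut l x → k = l := by
      intro k l h
      have h' : (k : G) * x * (k : G)⁻¹ = (l : G) * x * (l : G)⁻¹ := congrArg Subtype.val h
      by_contra hne
      refine hx1G (C.fpf (k := (l : G)⁻¹ * k) (mul_mem (inv_mem l.2) k.2)
        (fun h0 => hne (Subtype.ext (inv_mul_eq_one.1 h0).symm)) x.2 ?_)
      calc (l : G)⁻¹ * k * x = (l : G)⁻¹ * ((k : G) * x * (k : G)⁻¹) * k := by group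
        _ = x * ((l : G)⁻¹ * k) := by rw [h']; group
    obtain ⟨k, hk⟩ : ∃ k : 𝐄, C.stabAut k x = y := by
      have himg : (Finset.univ : Finset 𝐄).image (fun k => ((C.stabAut k x : H) : G)) =
          Finset.univ.filter fun g : G => g * g = 1 ∧ g ≠ 1 ∧ g ∈ H := by
        refine Finset.eq_of_subset_of_card_le (fun g hg => ?_) (le_of_eq ?_)
        · obtain ⟨k, -, rfl⟩ := Finset.mem_image.1 hg
          refine Finset.mem_filter.2 ⟨Finset.mem_univ _, ?_, ?_, (C.stabAut k x).2⟩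
          · show ((C.stabAut k x * C.stabAut k x : H) : G) = 1
            rw [← map_mul, hxx, map_one]; rfl
          · exact fun h => hx1 ((C.stabAut k).injective ((Subtype.ext h).trans (map_one _).symm))
        · rw [hI, Finset.card_image_of_injective _ fun k l h => hinj k l (Subtype.ext h),
            Finset.card_univ, Nat.card_eq_fintype_card]
      have hy : (y : G) ∈ Finset.univ.filter fun g : G => g * g = 1 ∧ g ≠ 1 ∧ g ∈ H :=
        Finset.mem_filter.2 ⟨Finset.mem_univ _, congrArg Subtype.val hyy,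
          fun h => hy1 (Subtype.ext h), y.2⟩
      rw [← himg] at hy
      obtain ⟨k, -, hk⟩ := Finset.mem_image.1 hy
      exact ⟨k, Subtype.ext hk⟩
    refine ⟨⟨C.stabAut k, k, rfl⟩, hk, ?_⟩
    rintro ⟨_, l, rfl⟩ hl
    exact Subtype.ext (congrArg C.stabAut (hinj l k (hl.trans hk.symm)))

/-- A nonabelian kernel that is a 2-group: the Suzuki parameters. -/
theorem suzuki_parameters [Finite G] (hP : IsPGroup 2 H) (hna : ∃ u v : H, u * v ≠ v * u)
    (hcyc : IsCyclic 𝐄) :
    ∃ n : ℕ, Odd n ∧ 1 < n ∧ Nat.card 𝐄 = 2 ^ n - 1 ∧ Nat.card H = (2 ^ n) ^ 2 ∧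
      ∃ (F : Type) (_ : Field F) (_ : Fintype F) (φ : F ≃+* F), Fintype.card F = 2 ^ n ∧
        Nonempty (H ≃* Cfsg.suzukiTypeA F (φ : F →+* F)) := by
  classical
  haveI := Fintype.ofFinite G
  have c := C.suzukiCtx hP hna hcyc
  obtain ⟨n, hn2, hZn⟩ := c.center_card
  have h4 : ∀ w ∈ H, w ^ 4 = 1 := fun w hw => by
    have := Monoid.pow_exponent_eq_one (⟨w, hw⟩ : H)
    rw [c.exponent_four] at this
    exact congrArg Subtype.val this
  have hKinj : Function.Injective C.stabAut := by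
    obtain ⟨x, -, -, hx1, hxx, -, -⟩ := c.two_invol
    intro k l h
    have h' : (k : G) * x * (k : G)⁻¹ = (l : G) * x * (l : G)⁻¹ :=
      congrArg Subtype.val (DFunLike.congr_fun h x)
    by_contra hne
    refine hx1 (Subtype.ext (C.fpf (k := (l : G)⁻¹ * k) (mul_mem (inv_mem l.2) k.2)
      (fun h0 => hne (Subtype.ext (inv_mul_eq_one.1 h0).symm)) x.2 ?_))
    calc (l : G)⁻¹ * k * x = (l : G)⁻¹ * ((k : G) * x * (k : G)⁻¹) * k := by group
      _ = x * ((l : G)⁻¹ * k) := by rw [h']; group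
  have he : Nat.card 𝐄 = 2 ^ n - 1 := by
    rw [Nat.card_congr (MonoidHom.ofInjective hKinj).toEquiv, c.card_group, hZn]
  have hpow : 4 ≤ 2 ^ n := le_trans (by norm_num) (Nat.pow_le_pow_right (by norm_num : 0 < 2) hn2)
  have he1 : Nat.card 𝐄 + 1 = 2 ^ n := by omega
  have hsq2 : 2 ^ n ≤ (2 ^ n) ^ 2 := Nat.le_self_pow (by norm_num) _
  have hlt : Nat.card 𝐄 + 1 < Nat.card H := by
    rcases c.card_cases with h | h <;> rw [h, hZn, he1] <;>
      exact lt_self_pow₀ (by omega) (by norm_num)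
  have hodd : Odd n := by
    by_contra hev
    rw [Nat.not_odd_iff_even] at hev
    have h3 : 3 ∣ 2 ^ n - 1 := by
      obtain ⟨m, rfl⟩ := hev
      rw [← two_mul, pow_mul]
      have := Nat.sub_one_dvd_pow_sub_one (n := m) (x := 4)
      norm_num at this ⊢
      exact this
    haveI : Fact (Nat.Prime 3) := ⟨Nat.prime_three⟩
    obtain ⟨y, hy⟩ := exists_prime_orderOf_dvd_card' (G := 𝐄) 3 (he ▸ h3)
    have hy3 : (y : G) ^ 3 = 1 := by
      rw [← SubmonoidClass.coe_pow, ← hy, pow_orderOf_eq_one]; rfl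
    have := C.no_three_stab h4 hlt y.2 hy3
    rw [show y = 1 from Subtype.ext this, orderOf_one] at hy
    norm_num at hy
  have hcard : Nat.card H = Nat.card (Subgroup.center H) ^ 2 := by
    refine c.card_cases.resolve_right fun h3 => ?_
    -- an element of order three
    have hG := C.card_G
    have h3dvd : 3 ∣ Nat.card G := by
      rw [hG, h3, hZn]
      refine Dvd.dvd.mul_left (Dvd.dvd.mul_right ?_ _) _
      obtain ⟨m, rfl⟩ := hodd
      have : (2 ^ (2 * m + 1)) ^ 3 = 8 * (2 ^ (6 * m)) := by rw [← pow_mul]; ring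
      rw [this, Nat.dvd_iff_mod_eq_zero, Nat.add_mod, Nat.mul_mod, pow_mul, Nat.pow_mod]
      norm_num
    haveI : Fact (Nat.Prime 3) := ⟨Nat.prime_three⟩
    obtain ⟨y, hy⟩ := exists_prime_orderOf_dvd_card' (G := G) 3 h3dvd
    have hy3 : y ^ 3 = 1 := by rw [← hy, pow_orderOf_eq_one]
    have hy1 : y ≠ 1 := fun h => by rw [h, orderOf_one] at hy; norm_num at hy
    have hfree : ∀ c : Ω, y • c ≠ c := by
      intro d hd
      haveI := isPretransitive_of_is_two_pretransitive (h2 := C.two)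
      obtain ⟨t, ht⟩ := exists_smul_eq G a d
      set g := t⁻¹ * y * t with hg
      have hg3 : g ^ 3 = 1 := by
        rw [hg, show t⁻¹ * y * t = t⁻¹ * y * t⁻¹⁻¹ by rw [inv_inv], conj_pow, hy3]; group
      have hg1 : g ≠ 1 := fun h => hy1 (by rw [show y = t * g * t⁻¹ by rw [hg]; group, h]; group)
      have hga : g • a = a := by rw [hg, mul_smul, mul_smul, ht, hd, inv_smul_eq_iff, ht]
      rcases C.mem_or_fix hga with hgH | ⟨f, hfa, hgf⟩
      · have h4' := h4 g hgH
        rw [pow_succ, hg3, one_mul] at h4'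
        exact hg1 h4'
      · obtain ⟨r, hra, hrb⟩ := CfsgLib.Perm.exists_smul_pair C.two C.ab (Ne.symm hfa)
        have hmem : r⁻¹ * g * r ∈ 𝐄 :=
          ⟨show (r⁻¹ * g * r) • a = a by rw [mul_smul, mul_smul, hra, hga, inv_smul_eq_iff, hra],
            show (r⁻¹ * g * r) • b = b by rw [mul_smul, mul_smul, hrb, hgf, inv_smul_eq_iff, hrb]⟩
        have := C.no_three_stab h4 hlt hmem (by
          rw [show r⁻¹ * g * r = r⁻¹ * g * r⁻¹⁻¹ by rw [inv_inv], conj_pow, hg3]; group)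
        exact hg1 (by rw [show g = r * (r⁻¹ * g * r) * r⁻¹ by group, this]; group)
    refine C.card_ne_cube h4 ?_ ?_ hy3 hfree (by rw [h3, hZn, he1])
    · intro w hw v hv
      exact congrArg Subtype.val (Subgroup.mem_center_iff.1 (c.sq_mem_center ⟨w, hw⟩) ⟨v, hv⟩)
    · intro w hw v hv
      have hm := c.comm_mem_center (⟨w, hw⟩ : H)⁻¹ (⟨v, hv⟩ : H)⁻¹
      have := congrArg Subtype.val (c.center_elem hm)
      simpa [mul_assoc] using this
  obtain ⟨F, iF, iFF, φ, hFc, -, -, hiso⟩ := c.typeA hcard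
  exact ⟨n, hodd, by omega, he, by rw [hcard, hZn], F, iF, iFF, φ, hFc.trans hZn, hiso⟩

end Zass

end CfsgLib.Clifford
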