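import Mathlib
import Cfsg.Prelude.Def_LieExceptional
import Cfsg.Prelude.Def_Exceptional
import Cfsg.Agent.Lib.Chev.ZassSuzuki
import Cfsg.Agent.Lib.Perm.ZassenhausClassify
import Cfsg.Agent.Lib.Perm.ZassenhausFeit
import Cfsg.Agent.Lib.Invol.CAInvol
import Cfsg.Agent.S0727
import Cfsg.Agent.S0738
import Cfsg.Agent.S0741
import Cfsg.Agent.S0344
import Cfsg.Agent.S0345

/-!
# Simple Zassenhaus groups
-/

set_option autoImplicit false
set_option linter.unusedSectionVars false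
set_option linter.style.haveILetI false

namespace CfsgLib.Chev.ZassSimple

open MulAction

variable {G Ω : Type*} [Group G] [Finite G] [MulAction G Ω]

/-- A simple Zassenhaus group with a nonabelian regular 2-subgroup in the point stabiliser. -/
theorem suzuki_of_kernel [Fintype Ω] (hZ : Cfsg.IsZassenhausGroup G Ω) [IsSimpleGroup G]
    {a b : Ω} (hab : a ≠ b) (U : Subgroup G) (hUle : U ≤ stabilizer G a)
    (hUn : ∀ g ∈ stabilizer G a, ∀ u ∈ U, g * u * g⁻¹ ∈ U)
    (hreg : ∀ c d : Ω, c ≠ a → d ≠ a → ∃! u : U, (u : G) • c = d)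
    (hU2 : IsPGroup 2 U) (hUna : ∃ u v : U, u * v ≠ v * u) :
    Cfsg.IsSuzuki G ∧ ∃ n : ℕ, Odd n ∧ 1 < n ∧ Fintype.card Ω = 2 ^ (2 * n) + 1 ∧
      IsCyclic ↥(stabilizer G a ⊓ stabilizer G b) ∧
      Nat.card ↥(stabilizer G a ⊓ stabilizer G b) = 2 ^ n - 1 ∧
      ∃ (F : Type) (_ : Field F) (_ : Fintype F) (φ : F ≃+* F), Fintype.card F = 2 ^ n ∧
        Nonempty (U ≃* Cfsg.suzukiTypeA F (φ : F →+* F)) := by
  classical
  have hn' : (U.subgroupOf (stabilizer G a)).Normal := ⟨fun u hu g => by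
    rw [Subgroup.mem_subgroupOf] at hu ⊢
    exact hUn g g.2 u hu⟩
  have hodd : Odd (Nat.card ↥(stabilizer G a ⊓ stabilizer G b)) := by
    rcases Nat.even_or_odd (Nat.card ↥(stabilizer G a ⊓ stabilizer G b)) with he | ho
    · obtain ⟨u, v, huv⟩ := hUna
      exact absurd ((Cfsg.Agent.S0738.result hZ hab (Cfsg.Agent.S0741.result hZ hab he) U hUle hn'
        hreg).1.is_comm.comm u v) huv
    · exact ho
  have hfix : ∀ u ∈ U, u ≠ 1 → ∀ c : Ω, u • c = c → c = a := fun u hu hu1 c hc =>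
    by_contra fun hca => hu1 (congrArg Subtype.val ((hreg c c hca hca).unique
      (y₁ := (⟨u, hu⟩ : U)) hc (show ((1 : U) : G) • c = c from one_smul _ _)))
  have hcard : Nat.card U + 1 = Fintype.card Ω := by
    have e : Nat.card U = Nat.card {z : Ω // z ≠ a} := by
      refine Nat.card_eq_of_bijective (fun u => ⟨(u : G) • b, fun h => hab
        (smul_left_cancel (u : G) ((hUle u.2 : (u : G) • a = a).trans h.symm))⟩) ⟨fun u v h => ?_, fun z => ?_⟩
      · exact (hreg b ((v : G) • b) hab.symm (fun h' => hab (smul_left_cancel (v : G)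
          ((hUle v.2 : (v : G) • a = a).trans h'.symm)))).unique (congr_arg Subtype.val h) rfl
      · obtain ⟨u, hu, -⟩ := hreg b z.1 hab.symm z.2
        exact ⟨u, Subtype.ext hu⟩
    have := Fintype.card_pos_iff.2 (⟨a⟩ : Nonempty Ω)
    rw [e, Nat.card_eq_fintype_card, Fintype.card_subtype_compl, Fintype.card_subtype_eq]
    omega
  have C := CfsgLib.Clifford.zass_of_kernel hZ hab hodd
    (CfsgLib.Clifford.zass_inv_of_simple hZ hab hodd) U hUle hcard hfix
  have hcyc := (Cfsg.Agent.S0345.result hZ hab).1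
  obtain ⟨n, hn, hn1, he, hh, hA⟩ := C.suzuki_parameters hU2 hUna hcyc
  refine ⟨⟨inferInstance, n / 2, by obtain ⟨m, rfl⟩ := hn; omega, ?_⟩, n, hn, hn1, ?_, hcyc, he, hA⟩
  · rw [Nat.two_mul_div_two_add_one_of_odd hn, C.card_G, he, hh]
    ring
  · rw [← hcard, hh, ← pow_mul, mul_comm n 2]

/-- A simple Zassenhaus group with a large two point stabiliser of odd order is a `PSL₂`. -/
theorem psl_of_large [Fintype Ω] (hZ : Cfsg.IsZassenhausGroup G Ω) [IsSimpleGroup G]
    {a b : Ω} (hab : a ≠ b) (hodd : Odd (Nat.card ↥(stabilizer G a ⊓ stabilizer G b)))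
    (hd : Fintype.card Ω - 2 ≤ 2 * Nat.card ↥(stabilizer G a ⊓ stabilizer G b)) :
    ∃ (F : Type) (_ : Field F) (_ : Fintype F),
      Nonempty (G ≃* Matrix.ProjectiveSpecialLinearGroup (Fin 2) F) := by
  classical
  obtain ⟨h1, hbig⟩ := CfsgLib.Clifford.zass_big hZ hab
  obtain ⟨hf, h2t, h3, -, -⟩ := id hZ
  haveI := hf
  obtain ⟨w, -, hw⟩ := Finset.exists_mem_notMem_of_card_lt_card
    (s := ({a, b} : Finset Ω)) (t := Finset.univ)
    (lt_of_le_of_lt Finset.card_le_two (by rw [Finset.card_univ]; omega))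
  rw [Finset.mem_insert, Finset.mem_singleton, not_or] at hw
  obtain ⟨F, hFle, hFn, hreg⟩ := CfsgLib.Perm.exists_regular_kernel h2t h3 hab hw.1 hw.2
    (fun e => by rw [e, Subgroup.card_bot] at h1; exact lt_irrefl _ h1)
  obtain ⟨hFab, p, f, hp, -, hc⟩ := Cfsg.Agent.S0738.result hZ hab hd F hFle hFn hreg
  rcases CfsgLib.Perm.ZassenhausClass.classify hZ hab F hFle hFn hFab hreg with
    ⟨hfull, h3t, hsharp⟩ | ⟨-, K, iK, iKf, -, -, hiso⟩
  swap
  · exact ⟨K, iK, iKf, hiso⟩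
  have hf1 : 1 ≤ f := Nat.pos_of_ne_zero fun e => by rw [e, pow_zero] at hc; omega
  obtain rfl : p = 2 := by
    rw [hfull, hc, show p ^ f + 1 - 2 = p ^ f - 1 by omega] at hodd
    obtain ⟨m, hm⟩ := hodd
    have h2 : 2 ∣ p ^ f := ⟨m + 1, by have := Nat.one_le_pow f p hp.pos; omega⟩
    exact ((Nat.prime_dvd_prime_iff_eq Nat.prime_two hp).1 (Nat.prime_two.dvd_of_dvd_pow h2)).symm
  have hinj : Function.Injective (toPermHom G Ω) := fun g h e =>
    eq_of_smul_eq_smul fun x : Ω => congrFun (congrArg DFunLike.coe e) x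
  let e : G ≃* (toPermHom G Ω).range := MonoidHom.ofInjective hinj
  have hR3 : IsMultiplyPretransitive (toPermHom G Ω).range Ω 3 := by
    rw [isMultiplyPretransitive_iff]
    intro x y
    obtain ⟨g, hg⟩ := isMultiplyPretransitive_iff.mp h3t x y
    refine ⟨e g, Function.Embedding.ext fun i => ?_⟩
    rw [← hg]; rfl
  have hRs : ∀ t : Fin 3 ↪ Ω, stabilizer (toPermHom G Ω).range t = ⊥ := by
    intro t
    rw [Subgroup.eq_bot_iff_forall]
    intro r hr
    obtain ⟨g, rfl⟩ := e.surjective r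
    have hg : g ∈ stabilizer G t := by
      refine Function.Embedding.ext fun i => ?_
      exact congrArg (fun f : Fin 3 ↪ Ω => f i) hr
    rw [hsharp t, Subgroup.mem_bot] at hg
    rw [hg, map_one]
  obtain ⟨K, iK, iKf, hK, ⟨e'⟩⟩ := Cfsg.Agent.S0727.result hf1 hc _ hR3 hRs
  have h2 : ringChar K = 2 := FiniteField.even_card_iff_char_two.2 (by
    rw [hK]
    obtain ⟨k, rfl⟩ := Nat.exists_eq_add_of_le hf1
    rw [pow_add, pow_one, Nat.mul_mod_right])
  exact ⟨K, iK, iKf, ⟨(e.trans e').trans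
    (MulEquiv.ofBijective _ (CfsgLib.Invol.psl_toPGL_bijective_char_two h2)).symm⟩⟩

/-- The classification of simple Zassenhaus groups, order level. -/
theorem classification [Fintype Ω] (hZ : Cfsg.IsZassenhausGroup G Ω) [IsSimpleGroup G] :
    (∃ (F : Type) (_ : Field F) (_ : Fintype F),
      Nonempty (G ≃* Matrix.ProjectiveSpecialLinearGroup (Fin 2) F)) ∨ Cfsg.IsSuzuki G := by
  classical
  obtain ⟨-, -, -, ⟨-, -, a, b, hab, -, -⟩, -⟩ := id hZ
  rcases Nat.even_or_odd (Nat.card ↥(stabilizer G a ⊓ stabilizer G b)) with he | hodd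
  · obtain ⟨F, iF, iFf, -, hiso⟩ := Cfsg.Agent.S0344.result hZ hab he
    exact Or.inl ⟨F, iF, iFf, hiso⟩
  rcases le_or_gt (Fintype.card Ω - 2)
      (2 * Nat.card ↥(stabilizer G a ⊓ stabilizer G b)) with hd | hd
  · exact Or.inl (psl_of_large hZ hab hodd hd)
  refine Or.inr ?_
  obtain ⟨H, hHa, hHc, hHfix⟩ := CfsgLib.Clifford.exists_zass_kernel hZ hab
  rcases CfsgLib.Perm.FeitCoherent.feit_bound hZ hab (Fintype.card Ω - 1) _
    (by omega) rfl hodd H hHa hHc hHfix with h | ⟨hP, hna, -⟩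
  · omega
  have C := CfsgLib.Clifford.zass_of_kernel hZ hab hodd
    (CfsgLib.Clifford.zass_inv_of_simple hZ hab hodd) H hHa hHc hHfix
  refine (suzuki_of_kernel hZ hab H hHa (fun g hg u hu => C.normal g hg u hu) ?_ hP hna).1
  intro c d hc hd'
  obtain ⟨u, hu, -⟩ := C.reg c hc
  obtain ⟨v, hv, -⟩ := C.reg d hd'
  refine ⟨v * u⁻¹, ?_, fun w hw => ?_⟩
  · show ((v : G) * (u : G)⁻¹) • c = d
    rw [mul_smul, ← hu, inv_smul_smul, hv]
  · have h1 : ((w * u : H) : G) • b = d := by rw [Subgroup.coe_mul, mul_smul, hu, hw]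
    have h2 : w * u = v := (C.reg d hd').unique h1 hv
    exact eq_mul_inv_iff_mul_eq.2 h2

end CfsgLib.Chev.ZassSimple
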