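import Cfsg.Agent.Lib.Chev.RankOneEq
import Cfsg.Agent.Lib.Chev.ZassNormal
import Cfsg.Agent.Lib.Perm.ZassenhausAbelian

/-!
# Zassenhaus groups with an abelian 2-group as kernel: the structure equation
-/

namespace CfsgLib.Chev.ZassStructEq

open MulAction

universe u v

variable {G : Type u} {Ω : Type v} [Group G] [Finite G] [MulAction G Ω] [Finite Ω]

theorem exists_unique_struct (hZ : Cfsg.IsZassenhausGroup G Ω) {a : Ω}
    (U : Subgroup G) (hUle : U ≤ stabilizer G a)
    (hUn : ∀ h ∈ stabilizer G a, ∀ u ∈ U, h * u * h⁻¹ ∈ U)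
    (hreg : ∀ c d : Ω, c ≠ a → d ≠ a → ∃! u : U, (u : G) • c = d)
    (hU2 : IsPGroup 2 U) (hUab : ∀ u ∈ U, ∀ u' ∈ U, u * u' = u' * u)
    (t : G) (ht1 : t ≠ 1) (ht2 : t * t = 1) (hta : t • a ≠ a) :
    ∃! u₀ : G, u₀ ∈ U ∧ u₀ ≠ 1 ∧ t * u₀ * t = u₀ * t * u₀ := by
  classical
  haveI : Fact (Nat.Prime 2) := ⟨Nat.prime_two⟩
  haveI := Fintype.ofFinite Ω
  obtain ⟨hf, h2t, h3, -, -⟩ := id hZ
  haveI := hf
  obtain ⟨b, hb⟩ : ∃ b, b = t • a := ⟨_, rfl⟩
  have hab : a ≠ b := hb ▸ hta.symm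
  have htb : t • b = a := by rw [hb, smul_smul, ht2, one_smul]
  obtain ⟨hD1, hbig⟩ := CfsgLib.Clifford.zass_big hZ hab
  have hUcard : Nat.card U + 1 = Fintype.card Ω := by
    have e : Nat.card U = Nat.card {z : Ω // z ≠ a} := by
      refine Nat.card_eq_of_bijective (fun u => ⟨(u : G) • b, fun h => hab (smul_left_cancel (u : G)
        ((mem_stabilizer_iff.1 (hUle u.2)).trans h.symm))⟩) ⟨fun u v h => ?_, fun z => ?_⟩
      · exact (hreg b ((v : G) • b) hab.symm (fun h' => hab (smul_left_cancel (v : G)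
          ((mem_stabilizer_iff.1 (hUle v.2)).trans h'.symm)))).unique (congrArg Subtype.val h) rfl
      · obtain ⟨u, hu, -⟩ := hreg b z.1 hab.symm z.2
        exact ⟨u, Subtype.ext hu⟩
    rw [e, Nat.card_eq_fintype_card, Fintype.card_subtype_compl, Fintype.card_subtype_eq]
    omega
  obtain ⟨m, hm⟩ := hU2.exists_card_eq
  have hm0 : m ≠ 0 := by rintro rfl; rw [pow_zero] at hm; omega
  have hUeven : Even (Nat.card U) := by rw [hm]; exact Nat.even_pow.2 ⟨even_two, hm0⟩
  have hΩodd : Odd (Fintype.card Ω) := hUcard ▸ hUeven.add_one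
  have hDodd : Odd (Nat.card (stabilizer G a ⊓ stabilizer G b : Subgroup G)) :=
    ZassNormal.odd_two_point hZ hΩodd hab
  have hS : Cfsg.IsRankOneSetup G Ω a t U := by
    refine ⟨h2t, ht2, ht1, fun h => hta (mem_stabilizer_iff.1 h), hUle, hUn, ?_, ?_, hUeven,
      hb ▸ hDodd⟩
    · rw [Subgroup.eq_bot_iff_forall]
      rintro x ⟨hx, hxb⟩
      exact congrArg Subtype.val ((hreg (t • a) (t • a) hta hta).unique (y₁ := (⟨x, hx⟩ : U))
        (mem_stabilizer_iff.1 hxb) (show ((1 : U) : G) • (t • a) = t • a from one_smul _ _))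
    · refine le_antisymm (sup_le hUle inf_le_left) fun g hg => ?_
      have hgb : g • t • a ≠ a := fun h =>
        hta (smul_left_cancel g (h.trans (mem_stabilizer_iff.1 hg).symm))
      obtain ⟨u, hu, -⟩ := hreg (t • a) (g • t • a) hta hgb
      rw [show g = (u : G) * ((u : G)⁻¹ * g) by group]
      refine Subgroup.mul_mem_sup u.2
        (Subgroup.mem_inf.2 ⟨mul_mem (inv_mem (hUle u.2)) hg, mem_stabilizer_iff.2 ?_⟩)
      rw [mul_smul, inv_smul_eq_iff]
      exact hu.symm
  obtain ⟨C, hbound⟩ := CfsgLib.Perm.abelian_kernel_bound_aux (Nat.card G) rfl hZ a b U hab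
    (fun x hx => mem_stabilizer_iff.1 (hUle hx)) (fun g hg => hUn g (mem_stabilizer_iff.2 hg))
    hUab hreg hDodd
  -- all of `D` is inverted by `t`
  have hK : Nat.card (Cfsg.invertedBy (RankOne.D a t) t)
      = Nat.card (stabilizer G a ⊓ stabilizer G b : Subgroup G) := by
    refine Nat.card_congr (Equiv.subtypeEquivRight fun x => ?_)
    constructor
    · intro hx
      rw [hb]; exact hx.1
    · intro hx
      refine ⟨?_, C.inv t hb.symm htb x hx⟩
      show x ∈ stabilizer G a ⊓ stabilizer G (t • a)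
      rw [← hb]; exact hx
  have hIcard : Nat.card (Cfsg.involutionsIn (stabilizer G a : Set G))
      = Nat.card (stabilizer G a ⊓ stabilizer G b : Subgroup G) := by
    rw [← RankOne.card_invertedBy hS, hK]
  let W : Subgroup G :=
  { carrier := {x | x ∈ U ∧ x * x = 1}
    one_mem' := ⟨one_mem _, one_mul 1⟩
    mul_mem' := by
      rintro x y ⟨hx, hx2⟩ ⟨hy, hy2⟩
      refine ⟨mul_mem hx hy, ?_⟩
      calc x * y * (x * y) = x * (y * x) * y := by group
        _ = (x * x) * (y * y) := by rw [hUab y hy x hx]; group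
        _ = 1 := by rw [hx2, hy2, one_mul]
    inv_mem' := by
      rintro x ⟨hx, hx2⟩
      refine ⟨inv_mem hx, ?_⟩
      rw [← mul_inv_rev, hx2, inv_one] }
  have hWU : W ≤ U := fun x hx => hx.1
  have hWcard : Nat.card W = Nat.card (stabilizer G a ⊓ stabilizer G b : Subgroup G) + 1 := by
    rw [← hIcard, ← Finite.card_option]
    refine (Nat.card_eq_of_bijective
      (fun o : Option (Cfsg.involutionsIn (stabilizer G a : Set G)) => o.elim (1 : W)
        (fun s => (⟨s.1, RankOne.invol_mem_Q hS s.2.1 s.2.2.2, s.2.2.2⟩ : W))) ⟨?_, ?_⟩).symm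
    · rintro (_ | s) (_ | s') h
      · rfl
      · exact absurd (congrArg Subtype.val h).symm s'.2.2.1
      · exact absurd (congrArg Subtype.val h) s.2.2.1
      · exact congrArg some (Subtype.ext (congrArg (fun w : W => (w : G)) h))
    · rintro ⟨x, hx, hx2⟩
      by_cases h1 : x = 1
      · exact ⟨none, Subtype.ext h1.symm⟩
      · exact ⟨some ⟨x, hUle hx, h1, hx2⟩, rfl⟩
  have hWeq : W = U := by
    refine Subgroup.eq_of_le_of_card_ge hWU ?_
    obtain ⟨k, hk⟩ := Subgroup.card_dvd_of_le hWU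
    have hk2 : k < 2 := by nlinarith
    rcases Nat.lt_or_ge k 1 with hk0 | hk1
    · have : 0 < Nat.card U := Nat.card_pos
      rw [hk] at this
      simp [show k = 0 by omega] at this
    · rw [hk, show k = 1 by omega, mul_one]
  have hsq : ∀ x ∈ U, x * x = 1 := fun x hx => (hWeq.symm ▸ hx : x ∈ W).2
  obtain ⟨⟨s, r⟩, ⟨hs, hr, he⟩, huniq⟩ := RankOne.structure_equation hS
  change t * s * t = r⁻¹ * t * r at he
  have hrinv : r⁻¹ = r := inv_eq_of_mul_eq_one_right (hsq r hr)
  rw [hrinv] at he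
  have hsQ : s ∈ U := RankOne.invol_mem_Q hS hs.1 hs.2.2
  have h1 : t * r * t = r * t * s := by
    calc t * r * t = r * (r * t * r) * t := by rw [← mul_assoc, ← mul_assoc, hsq r hr, one_mul]
      _ = r * (t * s * t) * t := by rw [he]
      _ = r * t * s := by simp only [mul_assoc, ht2, mul_one]
  have h2 : r * t * s = s * t * r := by
    have e : (t * r * t) * (t * r * t) = 1 := by
      calc t * r * t * (t * r * t) = t * r * (t * t) * r * t := by group
        _ = t * (r * r) * t := by rw [ht2]; group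
        _ = 1 := by rw [hsq r hr, mul_one, ht2]
    rw [h1] at e
    rw [← inv_eq_of_mul_eq_one_right e, mul_inv_rev, mul_inv_rev, hrinv,
      inv_eq_of_mul_eq_one_right ht2, inv_eq_of_mul_eq_one_right (hsq s hsQ), mul_assoc]
  have hsr : r = s := (RankOne.dec_unique hS (g := r) (g' := s) (h := 1) (h' := 1) (f := s)
    (f' := r) hr hsQ (one_mem _) (one_mem _) hsQ hr (by simpa using h2)).1
  subst hsr
  refine ⟨r, ⟨hr, hs.2.1, he⟩, ?_⟩
  rintro u ⟨hu, hu1, hue⟩
  have := huniq (u, u) ⟨⟨hUle hu, hu1, hsq u hu⟩, hu, by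
    show t * u * t = u⁻¹ * t * u
    rw [inv_eq_of_mul_eq_one_right (hsq u hu)]; exact hue⟩
  exact congrArg Prod.fst this

end CfsgLib.Chev.ZassStructEq
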